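import Groth.Statements.S11408
import Groth.Agent.AlgGrpH24.QuasiKer
import Groth.Agent.GrpSchLib.IdentityComp
import Groth.Agent.GrpSchLib.ImageFlat

set_option autoImplicit false
universe u
open CategoryTheory MonoidalCategory CartesianMonoidalCategory MonObj GrpObj AlgebraicGeometry CategoryTheory.Limits
open AlgGrp

namespace Groth.Agent.S11408

/-- Over an algebraically closed field k, let G be a connected algebraic group (smooth k-group scheme of
finite type) and i : A → G a homomorphism and closed immersion from an abelian variety A (a proper,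
smooth, connected k-group scheme). Then A has a quasi-complement: a smooth, connected, normal closed
subgroup H of G with G = A · H, in the sense that the multiplication A × H → G is surjective, and
with the scheme-theoretic intersection A ∩ H finite over k. (The published statement first records
that A is central in G; that clause is not restated here.) -/
theorem result (k : Type u) [Field k] [IsAlgClosed k]
    (G : Over (Spec (CommRingCat.of k))) [GrpObj G] [Smooth G.hom] [QuasiCompact G.hom] [ConnectedSpace ↥G.left]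
    (A : Over (Spec (CommRingCat.of k))) [GrpObj A] [IsProper A.hom] [Smooth A.hom] [ConnectedSpace ↥A.left]
    (i : A ⟶ G) [IsMonHom i] [IsClosedImmersion i.left] :
    ∃ (H : Over (Spec (CommRingCat.of k))) (_ : GrpObj H) (h : H ⟶ G), IsMonHom h ∧ IsClosedImmersion h.left ∧ Smooth H.hom ∧
      ConnectedSpace ↥H.left ∧ AlgGrp.IsNormalHom h ∧ Surjective ((i ⊗ₘ h) ≫ μ[G]).left ∧
      IsFinite (pullback.fst i.left h.left ≫ A.hom) := by
  obtain ⟨N, _, j, hjm, hjc, hnorm, -, hflat, -, hfin, hsm⟩ := AlgGrpH24.exists_almostComplement i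
  haveI := hjm; haveI := hjc; haveI := hflat
  haveI : Smooth N.hom := hsm inferInstance
  obtain ⟨N₀, _, c, hcm, hcc, hcf, hcr, hgi, hcs⟩ := GrpSchLib.exists_identityComponent (G := N)
  haveI := hcm; haveI := hcc; haveI := hcf; haveI := hgi; haveI := hcs
  haveI : LocallyOfFiniteType N₀.hom := by rw [← Over.w c]; infer_instance
  haveI : IsLocallyNoetherian N.left := LocallyOfFiniteType.isLocallyNoetherian N.hom
  haveI : LocallyOfFinitePresentation c.left := inferInstance
  haveI hco : IsOpenImmersion c.left := IsOpenImmersion.of_flat_of_mono c.left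
  haveI : Smooth N₀.hom := by rw [← Over.w c]; infer_instance
  haveI : IrreducibleSpace N₀.left := GeometricallyIrreducible.irreducibleSpace_of_subsingleton N₀.hom
  haveI : IsClosedImmersion (c ≫ j).left := by rw [Over.comp_left]; infer_instance
  refine ⟨N₀, inferInstance, c ≫ j, inferInstance, inferInstance, inferInstance, inferInstance,
    fun T g n => ?_, ?_, ?_⟩
  · obtain ⟨n', hn'⟩ := hnorm (G ⊗ N₀) (fst G N₀) (snd G N₀ ≫ c)
    haveI : GeometricallyIrreducible G.hom := by
      haveI := AlgGrpH24.geometricallyIntegral_grp G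
      infer_instance
    haveI : IrreducibleSpace (G ⊗ N₀).left :=
      inferInstanceAs (IrreducibleSpace (pullback G.hom N₀.hom : Scheme.{u}))
    have hrange : Set.range n'.left ⊆ Set.range c.left := by
      rw [hcr]
      refine IsConnected.subset_connectedComponent ?_ ⟨(lift (1 : 𝟙_ _ ⟶ G) (1 : 𝟙_ _ ⟶ N₀)).left
        (IsLocalRing.closedPoint k), ?_⟩
      · exact isConnected_range n'.left.continuous
      · have e : lift (1 : 𝟙_ _ ⟶ G) (1 : 𝟙_ _ ⟶ N₀) ≫ n' = η[N] := by
          haveI : Mono j := Over.mono_of_mono_left _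
          rw [← cancel_mono j, ← MonObj.one_eq_one, Category.assoc, ← hn', MonObj.comp_mul, MonObj.comp_mul,
            GrpObj.comp_inv, lift_fst, ← Category.assoc, ← Category.assoc, lift_snd,
            MonObj.one_comp, MonObj.one_comp, IsMonHom.one_hom]
          simp [MonObj.one_eq_one]
        exact congrArg (fun q : 𝟙_ (Over (Spec (CommRingCat.of k))) ⟶ N => q.left (IsLocalRing.closedPoint k)) e
    let l : G ⊗ N₀ ⟶ N₀ := Over.homMk (IsOpenImmersion.lift c.left n'.left hrange)
      (by rw [← Over.w c, IsOpenImmersion.lift_fac_assoc, Over.w n'])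
    have hl : l ≫ c = n' := Over.OverMorphism.ext (IsOpenImmersion.lift_fac _ _ _)
    refine ⟨lift g n ≫ l, ?_⟩
    have := congrArg (lift g n ≫ ·) hn'
    simp only [MonObj.comp_mul, GrpObj.comp_inv, lift_fst, lift_snd_assoc, Category.assoc] at this
    simp only [Category.assoc, reassoc_of% hl]
    exact this
  · haveI := AlgGrpH24.geometricallyIntegral_grp A
    haveI := AlgGrpH24.geometricallyIntegral_grp G
    haveI : IsSeparated G.hom := GrpSchLib.AntiAffine.isSeparated_grp G
    have hmul : (i ⊗ₘ (c ≫ j)) ≫ μ[G] = (A ◁ c) ≫ (i ⊗ₘ j) ≫ μ[G] := by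
      rw [← id_tensorHom, tensorHom_comp_tensorHom_assoc, Category.id_comp]
    haveI := AlgGrpH24.isMonHom_mul_central i (c ≫ j) fun a g => AlgGrpH24.central_of_proper i a g
    haveI : IsOpenImmersion (A ◁ c).left := AlgGrpH24.property_whiskerLeft' A c @IsOpenImmersion hco
    haveI : QuasiCompact N₀.hom := (quasiCompact_iff_compactSpace N₀.hom).mpr inferInstance
    haveI : LocallyOfFiniteType (A ⊗ N₀).hom :=
      inferInstanceAs (LocallyOfFiniteType (pullback.fst A.hom N₀.hom ≫ A.hom))
    haveI : QuasiCompact (A ⊗ N₀).hom := inferInstanceAs (QuasiCompact (pullback.fst A.hom N₀.hom ≫ A.hom))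
    haveI : LocallyOfFiniteType (A ⊗ N).hom :=
      inferInstanceAs (LocallyOfFiniteType (pullback.fst A.hom N.hom ≫ A.hom))
    haveI : LocallyOfFiniteType (((i ⊗ₘ j) ≫ μ[G]).left ≫ G.hom) := by rw [Over.w]; infer_instance
    haveI : LocallyOfFiniteType ((i ⊗ₘ j) ≫ μ[G]).left := locallyOfFiniteType_of_comp _ G.hom
    haveI : IsLocallyNoetherian G.left := LocallyOfFiniteType.isLocallyNoetherian G.hom
    haveI : IsReduced G.left := H23.RigidGamma.isReduced_of_smooth G.hom
    haveI : IrreducibleSpace G.left := GeometricallyIrreducible.irreducibleSpace_of_subsingleton G.hom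
    let f : A ⊗ N₀ ⟶ G := (i ⊗ₘ (c ≫ j)) ≫ μ[G]
    have hop : IsOpenMap f.left := by
      show IsOpenMap ((i ⊗ₘ (c ≫ j)) ≫ μ[G]).left
      rw [hmul, Over.comp_left, Scheme.Hom.comp_base, TopCat.coe_comp]
      exact ((i ⊗ₘ j) ≫ μ[G]).left.isOpenMap.comp (A ◁ c).left.isOpenEmbedding.isOpenMap
    haveI : IsDominant f.left :=
      ⟨hop.isOpen_range.dense (Set.range_nonempty_iff_nonempty.mpr ⟨η[A ⊗ N₀].left (IsLocalRing.closedPoint k)⟩)⟩
    haveI : IsSchemeTheoreticallyDominant f.left := IsSchemeTheoreticallyDominant.of_isDominant f.left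
    exact (GrpSchLib.ImageFlat.flat_surjective_of_dominant f).2
  · rw [Over.comp_left, ← pullbackLeftPullbackSndIso_inv_fst i.left j.left c.left, Category.assoc, Category.assoc]
    infer_instance

end Groth.Agent.S11408
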