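import Groth.Statements.S0406
import Groth.Agent.RGCore.Openness
-- import your own Groth.Agent.* helpers here

set_option autoImplicit false
universe u
open FlatMor

namespace Groth.Agent.S0406

/-- Raynaud–Gruson, algebra case: a flat finite type algebra over a domain is finitely presented. -/
theorem result {R S : Type u} [CommRing R] [IsDomain R] [CommRing S] [Algebra R S] [Algebra.FiniteType R S] [Module.Flat R S] :
    Algebra.FinitePresentation R S := by
  obtain ⟨n, φ, hφ⟩ := Algebra.FiniteType.iff_quotient_mvPolynomial''.1 ‹Algebra.FiniteType R S›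
  let : Algebra (MvPolynomial (Fin n) R) S := φ.toRingHom.toAlgebra
  have : IsScalarTower R (MvPolynomial (Fin n) R) S := .of_algebraMap_eq fun a => (φ.commutes a).symm
  have : Module.Finite (MvPolynomial (Fin n) R) S :=
    Module.Finite.of_surjective (Algebra.linearMap (MvPolynomial (Fin n) R) S) hφ
  have : Module.FinitePresentation (MvPolynomial (Fin n) R) S := by
    refine (RGCore.fpAway_of_local S (1 : MvPolynomial (Fin n) R) fun q _ _ => ?_).finitePresentation_of_one
    obtain ⟨h, hh, -, hfp, -⟩ := RGCore.exists_flat_fp_nhd RGCore.weakAss_finite_of_isDomain q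
      (RGCore.flat_localizedModule (A := R) q.primeCompl S)
    exact ⟨h, hh, hfp⟩
  exact Algebra.FinitePresentation.of_surjective hφ
    (Module.FinitePresentation.fg_ker (Algebra.linearMap (MvPolynomial (Fin n) R) S) hφ)
end Groth.Agent.S0406
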