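import Groth.Statements.S0429
import Groth.Agent.S0406
-- import your own Groth.Agent.* helpers here

set_option autoImplicit false
universe u
open FlatMor

namespace Groth.Agent.S0429

open AlgebraicGeometry CategoryTheory Limits in
/-- A flat morphism locally of finite type to an integral scheme is locally of finite presentation. -/
theorem result {X S : Scheme.{u}} (f : X ⟶ S) [IsIntegral S] [Flat f] [LocallyOfFiniteType f] : LocallyOfFinitePresentation f := by
  refine ⟨fun {V} hV {W} hW e => ?_⟩
  by_cases hne : Nonempty V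
  · have hflat := f.flat_appLE hV hW e
    have hft := f.finiteType_appLE hV hW e
    algebraize [(f.appLE V W e).hom]
    exact Groth.Agent.S0406.result
  · have hW' : IsEmpty W := ⟨fun x => hne ⟨⟨f.base x.1, e x.2⟩⟩⟩
    have : Subsingleton Γ(S, V) := (CommRingCat.subsingleton_of_isTerminal
      (S.sheaf.isTerminalOfEqEmpty (by ext x; exact ⟨fun hx => hne ⟨⟨x, hx⟩⟩, fun hx => hx.elim⟩)) :)
    have : Subsingleton Γ(X, W) := (CommRingCat.subsingleton_of_isTerminal
      (X.sheaf.isTerminalOfEqEmpty (by ext x; exact ⟨fun hx => hW'.false ⟨x, hx⟩, fun hx => hx.elim⟩)) :)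
    exact RingHom.FinitePresentation.of_surjective _ (fun z => ⟨0, Subsingleton.elim _ _⟩)
      ⟨∅, Subsingleton.elim _ _⟩
end Groth.Agent.S0429
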