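import Groth.Statements.S16611
import Groth.Agent.Sga3xB.MultBasic
import Groth.Agent.S5275

set_option autoImplicit false
open CategoryTheory MonoidalCategory CartesianMonoidalCategory MonObj GrpObj AlgebraicGeometry
universe u
open SGA3x

set_option linter.style.haveILetI false

namespace Groth.Agent.S16611

/-- Over an arbitrary scheme S, a monomorphism f : T ⟶ T' of S-tori with the same rank function (at
every point of S the geometric fibres of T and T' are split tori of the same rank) is an
isomorphism. -/
theorem result {S : Scheme.{u}} {T T' : Over S} [GrpObj T] [GrpObj T']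
    (hT : Red.IsTorus T) (hT' : Red.IsTorus T') (f : T ⟶ T') [IsMonHom f] [Mono f]
    (hrk : ∀ s : ↥S, ∃ r : ℕ, Red.IsSplitTorusWith (Fin r → ℤ) (Red.geomFibre s T) ∧
      Red.IsSplitTorusWith (Fin r → ℤ) (Red.geomFibre s T')) : IsIso f := by
  have hM := Sga3xB.isMultTypeFT_of_isTorus hT
  have hM' := Sga3xB.isMultTypeFT_of_isTorus hT'
  obtain ⟨U, -, hU, hUi⟩ := S5275.result T T' hM hM' f
  have hall : ∀ s : S, s ∈ U := by
    intro s
    obtain ⟨r, ⟨e⟩, ⟨e'⟩⟩ := hrk s
    haveI := Over.mono_left_of_mono f
    haveI hmg : Mono ((Over.pullback (Red.geomPt s)).map f).left :=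
      Over.mono_left_of_mono ((Over.pullback (Red.geomPt s)).map f)
    obtain ⟨φ, hinj, hff⟩ := Sga3xB.exists_phi_field f (Red.geomPt s) e e'
    have hFf : GrpSchLib.HomSplitLocal.Ff f (S.fromSpecResidueField s) :=
      Sga3xB.ff_residueField_of_geomPt f s
        (hff.mpr (Sga3xB.surjective_fin_injective φ (hinj.mp (GrpSchLib.HomMonoLocus.inj_of_mono hmg))))
    rw [hU]
    haveI : Mono ((Over.pullback (S.fromSpecResidueField s)).map f).left :=
      Over.mono_left_of_mono ((Over.pullback (S.fromSpecResidueField s)).map f)
    haveI := hFf.1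
    haveI := hFf.2
    haveI : IsAffineHom T.hom := Sga3xB.isAffineHom_of_isMultTypeFT hM
    haveI : IsAffineHom T'.hom := Sga3xB.isAffineHom_of_isMultTypeFT hM'
    haveI : QuasiSeparated ((Over.pullback (S.fromSpecResidueField s)).obj T').hom :=
      inferInstanceAs (QuasiSeparated (Limits.pullback.snd T'.hom (S.fromSpecResidueField s)))
    haveI : QuasiCompact (((Over.pullback (S.fromSpecResidueField s)).map f).left ≫
        ((Over.pullback (S.fromSpecResidueField s)).obj T').hom) := by
      rw [Over.w]
      exact inferInstanceAs (QuasiCompact (Limits.pullback.snd T.hom (S.fromSpecResidueField s)))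
    haveI : QuasiCompact ((Over.pullback (S.fromSpecResidueField s)).map f).left :=
      QuasiCompact.of_comp _ ((Over.pullback (S.fromSpecResidueField s)).obj T').hom
    exact Flat.isIso_of_surjective_of_mono _
  have hUtop : U = ⊤ := top_unique fun s _ => hall s
  subst hUtop
  haveI := hUi
  have hsq := GrpSchLib.HomSplitLocal.isPullback_map f (⊤ : S.Opens).ι
  haveI : IsIso (⊤ : S.Opens).ι := inferInstanceAs (IsIso S.topIso.hom)
  haveI : IsIso (Limits.pullback.fst T'.hom (⊤ : S.Opens).ι) :=
    MorphismProperty.pullback_fst (P := MorphismProperty.isomorphisms Scheme) _ _ (MorphismProperty.isomorphisms.infer_property _)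
  haveI : IsIso (Limits.pullback.fst T.hom (⊤ : S.Opens).ι) :=
    MorphismProperty.pullback_fst (P := MorphismProperty.isomorphisms Scheme) _ _ (MorphismProperty.isomorphisms.infer_property _)
  haveI : IsIso f.left := by
    have h1 := hsq.w
    rw [← IsIso.eq_inv_comp] at h1
    rw [h1]
    infer_instance
  haveI : IsIso ((Over.forget S).map f) := ‹IsIso f.left›
  exact isIso_of_reflects_iso f (Over.forget S)

end Groth.Agent.S16611
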