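import Groth.Statements.S17465
import Groth.Agent.AlgGrp25.TorusImage
import Groth.Agent.AlgGrp25.AntiPow
import Groth.Agent.AbTors.Factor
import Groth.Agent.S7782
import Groth.Agent.AssLib.FlatField
-- import your own Groth.Agent.* helpers here

set_option autoImplicit false
universe u
open CategoryTheory MonoidalCategory CartesianMonoidalCategory MonObj GrpObj AlgebraicGeometry CategoryTheory.Limits
open AlgGrp

set_option linter.style.haveILetI false
set_option backward.isDefEq.respectTransparency false
set_option backward.isDefEq.respectTransparency.types false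

namespace Groth.Agent.S17465

/-- Powers are surjective on a connected group with a finite homomorphism onto a torus. -/
theorem surjective_pow_of_torus {k : Type u} [Field k] {G' G N : Over (Spec (CommRingCat.of k))} [GrpObj G']
    [GrpObj G] [GrpObj N] [IsCommMonObj G'] [Smooth G'.hom] [QuasiCompact G'.hom] [ConnectedSpace G'.left]
    [Smooth G.hom] (f : G' ⟶ G) [IsMonHom f] [Surjective f.left] [Flat f.left] [IsFinite N.hom] {i : N ⟶ G'}
    [Mono i] (hik : AlgGrp.IsKernel i f) (hG : Red.IsTorus G) (n : ℕ) (hn : 1 ≤ n) :
    Surjective (𝟙 G' ^ n : G' ⟶ G').left := by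
  haveI := AlgGrp25.AntiPow.isMonHom_pow (G := G') n
  haveI : IsFinite f.left := Chev24.isFinite_of_finite_kernel i f hik
  haveI : IsSeparated G'.hom := GrpSchLib.AntiAffine.isSeparated_grp G'
  let p : G' ⟶ G' := 𝟙 G' ^ n
  haveI : QuasiCompact p.left := by
    haveI : QuasiCompact (p.left ≫ G'.hom) := by rw [Over.w]; infer_instance
    exact QuasiCompact.of_comp p.left G'.hom
  haveI : Surjective (p.left ≫ f.left) := by
    have hcomm : p ≫ f = f ≫ (𝟙 G ^ n) := by
      simp only [p, MonObj.pow_comp, MonObj.comp_pow, Category.id_comp, Category.comp_id]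
    haveI := AlgGrp25.TorusImage.surjective_pow hG n hn
    rw [← Over.comp_left, hcomm, Over.comp_left]; infer_instance
  have hcl := GrpSchLib.HomClosedRange.isClosed_range p
  haveI : IsIntegral G'.left := by
    haveI := AlgGrpH24.geometricallyIntegral_grp G'
    exact GeometricallyIntegral.isIntegral_of_subsingleton G'.hom
  obtain ⟨z, hz⟩ := (p.left ≫ f.left).surjective (f.left (genericPoint G'.left))
  have hz' : f.left (p.left z) = f.left (genericPoint G'.left) := hz
  haveI : LocallyOfFiniteType (f.left ≫ G.hom) := by rw [Over.w]; infer_instance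
  have h0 : ∀ x : G'.left, VarDim.deg G'.hom x = VarDim.deg G.hom (f.left x) := fun x => by
    have h1 := VarDim.deg_eq_add f.left G.hom (Over.w f) x
    have h2 : VarDim.fdeg f.left x = 0 := by
      have h4 := le_iSup (fun y : ↥(f.left ⁻¹' {f.left x}) => ((VarDim.fdeg f.left y.1 : ℕ∞) : WithBot ℕ∞)) ⟨x, rfl⟩
      rw [← VarDim.topologicalKrullDim_preimage_singleton f.left] at h4
      haveI : DiscreteTopology ↥(f.left ⁻¹' {f.left x}) := (f.left.isDiscrete_preimage_singleton _).to_subtype
      have h5 : ((VarDim.fdeg f.left x : ℕ∞) : WithBot ℕ∞) ≤ ((0 : ℕ∞) : WithBot ℕ∞) :=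
        h4.trans (topologicalKrullDim_zero_of_discreteTopology _)
      exact_mod_cast Nat.le_zero.mp (ENat.natCast_le_natCast.mp (WithBot.coe_le_coe.mp h5))
    omega
  have heq : genericPoint G'.left = p.left z :=
    VarDim.eq_of_specializes_of_deg_le G'.hom (genericPoint_specializes _) (by rw [h0, h0, hz'])
  refine ⟨fun y => ?_⟩
  exact (genericPoint_specializes y).mem_closed hcl (heq ▸ ⟨z, rfl⟩)

/-- Let k be a field and f : G' → G an isogeny, i.e. a surjective homomorphism with finite kernel,
between smooth connected commutative affine k-group schemes of finite type. Then G' is a torus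
exactly when G is one. (The published sentence draws this conclusion after treating surjective
homomorphisms and isogenies together; for a surjective homomorphism with positive-dimensional kernel
only the implication from G' to G survives — the projection of the product of the multiplicative and
the additive group onto the multiplicative group is surjective with a non-torus source — so the
equivalence is stated for isogenies, the case the dimension count in the printed proof covers. The
companion clause about unipotence is not stated.) -/
theorem result (k : Type u) [Field k]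
    (G' G : Over (Spec (CommRingCat.of k))) [GrpObj G'] [GrpObj G] [IsCommMonObj G'] [IsCommMonObj G]
    [Smooth G'.hom] [QuasiCompact G'.hom] [ConnectedSpace ↥G'.left] [IsAffine G'.left]
    [Smooth G.hom] [QuasiCompact G.hom] [ConnectedSpace ↥G.left] [IsAffine G.left]
    (f : G' ⟶ G) [IsMonHom f] (hf : SGA7.IsIsogenyOver f) :
    Red.IsTorus G' ↔ Red.IsTorus G := by
  obtain ⟨hsurj, hfin⟩ := hf
  haveI := hsurj
  refine ⟨fun h => AlgGrp25.TorusImage.isTorus_of_surjective h f, fun h => ?_⟩
  haveI : IsSeparated G.hom := GrpSchLib.AntiAffine.isSeparated_grp G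
  haveI : IsSeparated G'.hom := GrpSchLib.AntiAffine.isSeparated_grp G'
  haveI : IsReduced G.left := GrpSchLib.isReduced_of_smooth_field G.hom
  haveI : QuasiCompact f.left := by
    haveI : QuasiCompact (f.left ≫ G.hom) := by rw [Over.w]; infer_instance
    exact QuasiCompact.of_comp f.left G.hom
  haveI : Flat f.left := GrpSchLib.flat_of_surjective_hom f
  obtain ⟨N, _, i, hi, hic, -, hik⟩ := GrpSchLib.exists_kernel f
  haveI := hi; haveI := hic
  haveI : IsFinite N.hom := hfin N i hik
  haveI : Mono i := (Over.forget _).mono_of_mono_map (inferInstanceAs (Mono i.left))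
  haveI : IsCommMonObj N := ⟨by
    rw [← cancel_mono i, Category.assoc, IsMonHom.mul_hom, ← BraidedCategory.braiding_naturality_assoc, IsCommMonObj.mul_comm]⟩
  haveI : Flat N.hom := AssLib.flat_over_field N.hom
  haveI : LocallyOfFinitePresentation N.hom := inferInstance
  let r := N.hom.finrank (IsLocalRing.closedPoint k)
  have hr1 : 1 ≤ r := by
    have h1 := N.hom.one_le_finrank_map (η[N].left (IsLocalRing.closedPoint k))
    rwa [Subsingleton.elim (α := PrimeSpectrum k) (N.hom _) (IsLocalRing.closedPoint k)] at h1
  have hN : ∀ (T : Over (Spec (CommRingCat.of k))) (g : T ⟶ N), g ^ r = 1 :=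
    S7782.result N r fun s => by rw [Subsingleton.elim (α := PrimeSpectrum k) s (IsLocalRing.closedPoint k)]
  haveI := AlgGrp25.AntiPow.isMonHom_pow (G := G') r
  haveI := AlgGrp25.AntiPow.isMonHom_pow (G := G) r
  obtain ⟨ψ, ⟨hψ, hψf⟩, -⟩ := AbTors.exists_unique_factor f (𝟙 G' ^ r) fun T x hx => by
    let l := (hik : IsPullback i (toUnit N) f η[G]).lift x (toUnit T) (by rw [hx, MonObj.one_eq_one, MonObj.comp_one])
    have hl : l ≫ i = x := IsPullback.lift_fst _ _ _ _
    rw [MonObj.comp_pow, Category.comp_id, ← hl, ← MonObj.pow_comp, hN, MonObj.one_comp]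
  haveI := hψ
  haveI : Surjective ψ.left := by
    suffices Surjective (𝟙 G' ^ r : G' ⟶ G').left by
      haveI : Surjective (f.left ≫ ψ.left) := by rw [← Over.comp_left, hψf]; exact this
      exact Surjective.of_comp f.left ψ.left
    exact surjective_pow_of_torus f hik h r hr1
  exact AlgGrp25.TorusImage.isTorus_of_surjective h ψ

end Groth.Agent.S17465
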