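import Groth.Statements.S10686
import Groth.Agent.AlgSpC7.RedFibre

set_option autoImplicit false
universe u
open CategoryTheory CategoryTheory.Limits AlgebraicGeometry
open AlgSp

namespace Groth.Agent.S10686

/-- For a morphism f : X ⟶ Y between algebraic spaces over S and a point y of |Y|, write X_k for the
fibre (pullback in fppf sheaves) over a field point k of Y and call X_k geometrically reduced when
for every field homomorphism k ⟶ k' the base change X_{k'} is reduced (some etale surjective scheme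
chart reduced). The following are equivalent: (1) X_k is geometrically reduced for some k in the
class of y; (2) X_k is geometrically reduced for every k in the class of y; (3) X_k is reduced for
every k in the class of y. -/
theorem result {S : Scheme.{u}} {X Y : AlgSp.Space S} (f : X ⟶ Y) (y : AlgSp.Points Y.obj) :
    [∃ (k : AlgSp.FieldPt Y.obj), AlgSp.Points.mk k = y ∧
        ∀ (k' : Type u) [Field k'] (φ : k.K →+* k') (Xk' : AlgSp.Sp S) (a : Xk' ⟶ X.obj)
          (b : Xk' ⟶ (AlgSp.yon S).obj (Over.mk (Spec.map (CommRingCat.ofHom φ) ≫ k.str))),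
          IsPullback a b f.hom ((AlgSp.yon S).map (Over.homMk (Spec.map (CommRingCat.ofHom φ)) rfl :
            Over.mk (Spec.map (CommRingCat.ofHom φ) ≫ k.str) ⟶ k.pt) ≫ k.toHom) →
          AlgSp.EtaleLocally (fun U => IsReduced U) Xk',
      ∀ (k : AlgSp.FieldPt Y.obj), AlgSp.Points.mk k = y →
        ∀ (k' : Type u) [Field k'] (φ : k.K →+* k') (Xk' : AlgSp.Sp S) (a : Xk' ⟶ X.obj)
          (b : Xk' ⟶ (AlgSp.yon S).obj (Over.mk (Spec.map (CommRingCat.ofHom φ) ≫ k.str))),
          IsPullback a b f.hom ((AlgSp.yon S).map (Over.homMk (Spec.map (CommRingCat.ofHom φ)) rfl :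
            Over.mk (Spec.map (CommRingCat.ofHom φ) ≫ k.str) ⟶ k.pt) ≫ k.toHom) →
          AlgSp.EtaleLocally (fun U => IsReduced U) Xk',
      ∀ (k : AlgSp.FieldPt Y.obj), AlgSp.Points.mk k = y →
        ∀ (Xk : AlgSp.Sp S) (a : Xk ⟶ X.obj) (b : Xk ⟶ (AlgSp.yon S).obj k.pt), IsPullback a b f.hom k.toHom →
          AlgSp.EtaleLocally (fun U => IsReduced U) Xk].TFAE := by
  tfae_have 2 → 3 := fun H k hk Xk a b h => by
    let w : k.pt ⟶ k.pt := 𝟙 _
    refine H k hk k.K (RingHom.id _) Xk a (b ≫ (AlgSp.yon S).map (Over.homMk (𝟙 _) (by simp))) ?_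
    have e : Over.mk (Spec.map (CommRingCat.ofHom (RingHom.id k.K)) ≫ k.str) = k.pt := by
      simp
    refine h.of_iso (Iso.refl _) (Iso.refl _) ((AlgSp.yon S).mapIso (Over.isoMk (Iso.refl _) (by simp))) (Iso.refl _)
      (by simp) ?_ (by simp) ?_
    · simp; rfl
    · simp only [Iso.refl_hom, Category.comp_id, Functor.mapIso_hom, ← Category.assoc, ← Functor.map_comp]
      refine (Category.id_comp _).symm.trans (congrArg (· ≫ k.toHom) ?_)
      rw [← (AlgSp.yon S).map_id]
      exact congrArg (AlgSp.yon S).map (Over.OverMorphism.ext (by simp))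
  tfae_have 3 → 2 := fun H k hk k' _ φ Xk' a b h => by
    let w : Over.mk (Spec.map (CommRingCat.ofHom φ) ≫ k.str) ⟶ k.pt :=
      Over.homMk (Spec.map (CommRingCat.ofHom φ)) rfl
    let p : AlgSp.FieldPt Y.obj :=
      { K := k', str := Spec.map (CommRingCat.ofHom φ) ≫ k.str, val := Y.obj.obj.map w.op k.val }
    have hp : p.toHom = (AlgSp.yon S).map w ≫ k.toHom := by
      apply (AlgSp.J S).uliftYonedaEquiv.injective
      rw [← Groth.Agent.AlgSpLib.uliftYonedaEquiv_precomp, AlgSp.FieldPt.uliftYonedaEquiv_toHom,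
        AlgSp.FieldPt.uliftYonedaEquiv_toHom]
    refine H p ?_ Xk' a b (hp ▸ h)
    refine (AlgSp.Points.sound ?_).trans hk
    exact ⟨k', inferInstance, p.str, 𝟙 p.pt, w, by
      rw [op_id, CategoryTheory.Functor.map_id]; rfl⟩
  tfae_have 2 → 1 := fun H => by
    obtain ⟨k, hk⟩ := AlgSp.Points.mk_surjective y
    exact ⟨k, hk, fun k' _ φ => H k hk k' φ⟩
  tfae_have 1 → 3 := fun ⟨k₀, hk₀, H⟩ k hk Xk a b h => by
    obtain ⟨Ω, _, w, u, v, huv⟩ := AlgSp.Points.mk_eq_mk_iff.1 (hk.trans hk₀.symm)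
    obtain ⟨φ, hφ⟩ := Spec.map_surjective v.left
    obtain rfl : w = Spec.map (CommRingCat.ofHom φ.hom) ≫ k₀.str := by
      rw [CommRingCat.ofHom_hom, hφ]
      exact (Over.w v).symm
    have e : (AlgSp.yon S).map u ≫ k.toHom = (AlgSp.yon S).map v ≫ k₀.toHom := by
      apply (AlgSp.J S).uliftYonedaEquiv.injective
      rw [← Groth.Agent.AlgSpLib.uliftYonedaEquiv_precomp, ← Groth.Agent.AlgSpLib.uliftYonedaEquiv_precomp,
        AlgSp.FieldPt.uliftYonedaEquiv_toHom, AlgSp.FieldPt.uliftYonedaEquiv_toHom]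
      exact huv
    have hv : v = Over.homMk (Spec.map (CommRingCat.ofHom φ.hom)) rfl :=
      Over.OverMorphism.ext (by simp [hφ])
    let X' := pullback b ((AlgSp.yon S).map u)
    have h₁ : IsPullback (pullback.fst b ((AlgSp.yon S).map u) ≫ a) (pullback.snd b ((AlgSp.yon S).map u)) f.hom
        ((AlgSp.yon S).map (Over.homMk (Spec.map (CommRingCat.ofHom φ.hom)) rfl : Over.mk (Spec.map (CommRingCat.ofHom φ.hom) ≫ k₀.str) ⟶ k₀.pt) ≫ k₀.toHom) := by
      have := (IsPullback.of_hasPullback b ((AlgSp.yon S).map u)).paste_horiz h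
      rwa [e, hv] at this
    exact Groth.Agent.AlgSpC7.RedFibre.etaleLocally_isReduced_of_bc
      (Groth.Agent.AlgSpC7.RedFibre.isAlgSpace_of_isPullback X Y h) (IsPullback.of_hasPullback b ((AlgSp.yon S).map u))
      (H Ω φ.hom _ _ _ h₁)
  tfae_finish

end Groth.Agent.S10686
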