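import Groth.Agent.AlgSpDec.ResTrdeg
import Groth.Agent.AlgSpDec.RelDimSp
import Groth.Agent.AlgSpDec.BaseChangeCharts
import Groth.Agent.DimFormula.Fibre
import Groth.Agent.FibDim.BaseChange
import Groth.Agent.FibDim.RelDim

/-!
# The local ring of the fibre at a point under base change
-/

set_option backward.isDefEq.respectTransparency false
set_option backward.isDefEq.respectTransparency.types false
set_option autoImplicit false

universe u

open CategoryTheory CategoryTheory.Limits AlgebraicGeometry AlgSp Groth.Agent.AlgSpLib Groth.Agent.AlgSpPts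

namespace Groth.Agent.AlgSpFibreLoc

variable {S : Scheme.{u}} {F G : Sp S} {f : F ⟶ G}

theorem eq_fb (hf : LocP @LocallyOfFiniteType f) {U V : Over S} {a : (yon S).obj U ⟶ F} {b : (yon S).obj V ⟶ G}
    {h : U ⟶ V} (ha : RepWith @Etale a) (hb : RepWith @Etale b) (w : a ≫ f = (yon S).map h ≫ b)
    [LocallyOfFiniteType h.left] (u : ↥U.left) {e : WithBot ℕ∞}
    (he : HasAtMor (fun _ _ h u => ringKrullDim ↥((h.fiber (h u)).presheaf.stalk (h.asFiber u)) = e) f (Points.ofPt a u)) :
    e = (DimFormula.fb h.left u : WithBot ℕ∞) := by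
  obtain ⟨U', V', a', b', h', u', ha', hb', w', hx, hu⟩ := he
  have : LocallyOfFiniteType h'.left := hf a' b' h' ha' hb' w'
  rw [← hu, DimFormula.ringKrullDim_stalk_fibre]
  have h1 := AlgSpDec.RelDimSp.fibreDimAt_congr hf ha' hb' w' ha hb w hx
  rw [DimFormula.fibreDimAt_eq_add, DimFormula.fibreDimAt_eq_add] at h1
  have h2 : (FibDim.rd h'.left u' : Cardinal) = FibDim.rd h.left u := by
    rw [FibDim.rd_eq_rdeg, FibDim.rd_eq_rdeg]
    exact AlgSpDec.ResTrdeg.rdeg_congr ha' hb' w' ha hb w hx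
  have h2' : FibDim.rd h'.left u' = FibDim.rd h.left u := by exact_mod_cast h2
  have h1' : FibDim.rd h'.left u' + DimFormula.fb h'.left u' = FibDim.rd h.left u + DimFormula.fb h.left u := by
    exact_mod_cast h1
  have : DimFormula.fb h'.left u' = DimFormula.fb h.left u := by omega
  rw [this]

theorem toENat_eq_rd {U V : Over S} {a : (yon S).obj U ⟶ F} {b : (yon S).obj V ⟶ G}
    {h : U ⟶ V} (ha : RepWith @Etale a) (hb : RepWith @Etale b) (w : a ≫ f = (yon S).map h ≫ b)
    [LocallyOfFiniteType h.left] (u : ↥U.left) {r : Cardinal.{u}}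
    (hr : HasAtMor (fun _ _ h u => Dual3.resTrdeg h u = r) f (Points.ofPt a u)) :
    Cardinal.toENat r = (FibDim.rd h.left u : ℕ∞) := by
  rw [← (AlgSpDec.ResTrdeg.hasAtMor_iff ha hb w u r).1 hr, ← FibDim.rd_eq_rdeg, Cardinal.toENat_nat]

variable {F' G' : Sp S} {g : G' ⟶ G} {fst : F' ⟶ F} {snd : F' ⟶ G'}
  (sq : IsPullback fst snd f g) (hF : IsAlgSpace F) (hG : IsAlgSpace G) (hG' : IsAlgSpace G')
  (hf : LocP @LocallyOfFiniteType f)

include sq hF hG hG' hf in
theorem fibre_baseChange (x' : Points F') (e e' : WithBot ℕ∞) (r r' : Cardinal.{u})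
    (he : HasAtMor (fun _ _ h u => ringKrullDim ↥((h.fiber (h u)).presheaf.stalk (h.asFiber u)) = e) f (Points.map fst x'))
    (hr : HasAtMor (fun _ _ h u => Dual3.resTrdeg h u = r) f (Points.map fst x'))
    (he' : HasAtMor (fun _ _ h u => ringKrullDim ↥((h.fiber (h u)).presheaf.stalk (h.asFiber u)) = e') snd x')
    (hr' : HasAtMor (fun _ _ h u => Dual3.resTrdeg h u = r') snd x') :
    e' + ((Cardinal.toENat r' : ℕ∞) : WithBot ℕ∞) = e + ((Cardinal.toENat r : ℕ∞) : WithBot ℕ∞) ∧ e ≤ e' := by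
  obtain ⟨U, V, W, a, b, c, h, h₁, a', ha, hb, hc, w, ha', hs', w', w''⟩ :=
    AlgSpDec.exists_baseChange_charts sq hF hG hG'
  obtain ⟨z, rfl⟩ := surjective_ofPt hs' x'
  rw [Points.map_ofPt, w'', ofPt_comp] at he hr
  have hfl : LocallyOfFiniteType h.left := hf a b h ha hb w
  have sq' : IsPullback (pullback.fst h h₁).left (pullback.snd h h₁).left h.left h₁.left :=
    (IsPullback.of_hasPullback h h₁).map (Over.forget S)
  have : LocallyOfFiniteType (pullback.snd h h₁).left := MorphismProperty.of_isPullback (P := @LocallyOfFiniteType) sq' hfl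
  have hf' := locP_of_isPullback sq hF hG hG' hf
  rw [eq_fb hf ha hb w _ he, eq_fb hf' ha' hc w' z he', toENat_eq_rd ha hb w _ hr, toENat_eq_rd ha' hc w' z hr']
  have h1 := FibDim.fibreDimAt_baseChange sq' z
  rw [DimFormula.fibreDimAt_eq_add, DimFormula.fibreDimAt_eq_add] at h1
  have h1' : FibDim.rd (pullback.snd h h₁).left z + DimFormula.fb (pullback.snd h h₁).left z =
      FibDim.rd h.left ((pullback.fst h h₁).left z) + DimFormula.fb h.left ((pullback.fst h h₁).left z) := by
    exact_mod_cast h1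
  have h2 := FibDim.rd_baseChange_le sq' z
  constructor
  · norm_cast
    omega
  · norm_cast
    omega

include sq hF hG hG' hf in
theorem exists_point_fibre_eq (x : Points F) (y' : Points G') (e : WithBot ℕ∞)
    (hxy : Points.map f x = Points.map g y')
    (he : HasAtMor (fun _ _ h u => ringKrullDim ↥((h.fiber (h u)).presheaf.stalk (h.asFiber u)) = e) f x) :
    ∃ x' : Points F', Points.map fst x' = x ∧ Points.map snd x' = y' ∧
      HasAtMor (fun _ _ h u => ringKrullDim ↥((h.fiber (h u)).presheaf.stalk (h.asFiber u)) = e) snd x' := by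
  obtain ⟨x₀, rfl, rfl⟩ := exists_point_of_isPullback sq hxy
  obtain ⟨U, V, W, a, b, c, h, h₁, a', ha, hb, hc, w, ha', hs', w', w''⟩ :=
    AlgSpDec.exists_baseChange_charts sq hF hG hG'
  obtain ⟨z₀, rfl⟩ := surjective_ofPt hs' x₀
  rw [Points.map_ofPt, w'', ofPt_comp] at he
  have hfl : LocallyOfFiniteType h.left := hf a b h ha hb w
  have sq' : IsPullback (pullback.fst h h₁).left (pullback.snd h h₁).left h.left h₁.left :=
    (IsPullback.of_hasPullback h h₁).map (Over.forget S)
  have : LocallyOfFiniteType (pullback.snd h h₁).left := MorphismProperty.of_isPullback (P := @LocallyOfFiniteType) sq' hfl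
  obtain ⟨z, hz1, hz2, hrd⟩ := FibDim.exists_rd_baseChange_eq sq' ((pullback.fst h h₁).left z₀)
    ((pullback.snd h h₁).left z₀) (by
      rw [← Scheme.Hom.comp_apply, sq'.w, Scheme.Hom.comp_apply])
  refine ⟨Points.ofPt a' z, ?_, ?_, _, W, a', c, pullback.snd h h₁, z, ha', hc, w', rfl, ?_⟩
  · rw [Points.map_ofPt, Points.map_ofPt, w'', ofPt_comp, ofPt_comp, hz1]
  · rw [Points.map_ofPt, Points.map_ofPt, w', ofPt_comp, ofPt_comp, hz2]
  · show ringKrullDim _ = e
    rw [DimFormula.ringKrullDim_stalk_fibre, eq_fb hf ha hb w _ he]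
    have h1 := FibDim.fibreDimAt_baseChange sq' z
    rw [DimFormula.fibreDimAt_eq_add, DimFormula.fibreDimAt_eq_add, hrd, hz1] at h1
    have h1' : FibDim.rd h.left ((pullback.fst h h₁).left z₀) + DimFormula.fb (pullback.snd h h₁).left z =
        FibDim.rd h.left ((pullback.fst h h₁).left z₀) + DimFormula.fb h.left ((pullback.fst h h₁).left z₀) := by
      exact_mod_cast h1
    have : DimFormula.fb (pullback.snd h h₁).left z = DimFormula.fb h.left ((pullback.fst h h₁).left z₀) := by omega
    rw [this]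

end Groth.Agent.AlgSpFibreLoc
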