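import Groth.Agent.S9869
import Groth.Agent.AlgSpDec.FreeAction
import Mathlib.FieldTheory.Galois.Basic
import Mathlib.FieldTheory.PrimitiveElement
import Mathlib.FieldTheory.IsAlgClosed.AlgebraicClosure
import Mathlib.RingTheory.Unramified.Field

/-!
# Field-valued points of quotients by free actions of discrete groups
-/

set_option backward.isDefEq.respectTransparency false
set_option backward.isDefEq.respectTransparency.types false
set_option linter.style.haveILetI false

noncomputable section

universe u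

open CategoryTheory CategoryTheory.Limits AlgebraicGeometry Opposite AlgSp

namespace Groth.Agent.AlgSpGalData5

/-- An etale scheme over a field has a point with finite separable residue field, presented by a monomorphism. -/
theorem exists_finite_separable_point {k : Type u} [Field k] {P : Scheme.{u}} (π : P ⟶ Spec (CommRingCat.of k))
    [Etale π] (p₀ : P) :
    ∃ (L : Type u) (_ : Field L) (_ : Algebra k L) (_ : FiniteDimensional k L) (_ : Algebra.IsSeparable k L)
      (x : Spec (CommRingCat.of L) ⟶ P), Mono x ∧ x ≫ π = Spec.map (CommRingCat.ofHom (algebraMap k L)) ∧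
      ∀ {K : Type u} [Field K] (w : Spec (CommRingCat.of K) ⟶ P),
        Set.range w ⊆ Set.range x → ∃ α : L →+* K, Spec.map (CommRingCat.ofHom α) ≫ x = w := by
  obtain ⟨O, hO, hp₀, -⟩ := exists_isAffineOpen_mem_and_subset (U := (⊤ : P.Opens)) (x := p₀) trivial
  let A : CommRingCat.{u} := Γ(P, O)
  let j : Spec A ⟶ P := hO.fromSpec
  haveI : Etale (j ≫ π) := inferInstance
  let φ : CommRingCat.of k ⟶ A := Spec.preimage (j ≫ π)
  have hφ : Spec.map φ = j ≫ π := Spec.map_preimage _
  have hA : φ.hom.Etale := by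
    rw [← HasRingHomProperty.Spec_iff (P := @Etale), hφ]
    infer_instance
  letI : Algebra k A := φ.hom.toAlgebra
  haveI : Algebra.Etale k A := hA
  haveI : Nontrivial A := by
    have : p₀ ∈ Set.range j := hO.range_fromSpec.ge hp₀
    obtain ⟨q, -⟩ := this
    exact (PrimeSpectrum.nonempty_iff_nontrivial.1 ⟨q⟩)
  obtain ⟨m, hm⟩ := Ideal.exists_maximal A
  letI := Ideal.Quotient.field m
  haveI : Algebra.FormallyUnramified k (A ⧸ m) := inferInstance
  haveI : Algebra.FiniteType k (A ⧸ m) := inferInstance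
  haveI : Algebra.EssFiniteType k (A ⧸ m) := inferInstance
  let q : A ⟶ CommRingCat.of (A ⧸ m) := CommRingCat.ofHom (Ideal.Quotient.mk m)
  haveI : IsClosedImmersion (Spec.map q) := IsClosedImmersion.spec_of_surjective q Ideal.Quotient.mk_surjective
  refine ⟨A ⧸ m, inferInstance, inferInstance, Algebra.FormallyUnramified.finite_of_free k _,
    Algebra.FormallyUnramified.isSeparable k _, Spec.map q ≫ j, inferInstance, ?_, fun {K} _ w hw => ?_⟩
  · rw [Category.assoc, ← hφ, ← Spec.map_comp]
    rfl
  · have hwj : Set.range w ⊆ Set.range j := hw.trans (by rintro _ ⟨y, rfl⟩; exact ⟨Spec.map q y, rfl⟩)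
    let w₀ := IsOpenImmersion.lift j w hwj
    let β : A ⟶ CommRingCat.of K := Spec.preimage w₀
    have hβ : Spec.map β = w₀ := Spec.map_preimage _
    have hker : RingHom.ker β.hom = m := by
      obtain ⟨y, hy⟩ := hw ⟨(⊥ : PrimeSpectrum K), rfl⟩
      have h1 : (Spec.map β) (⊥ : PrimeSpectrum K) = Spec.map q y := by
        refine j.isOpenEmbedding.injective ?_
        rw [← Scheme.Hom.comp_apply, ← Scheme.Hom.comp_apply, hβ, IsOpenImmersion.lift_fac]
        exact hy.symm
      have h2 := congrArg PrimeSpectrum.asIdeal h1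
      change Ideal.comap β.hom ⊥ = Ideal.comap q.hom y.asIdeal at h2
      have hy0 : y.asIdeal = ⊥ := (Ideal.eq_bot_or_top (K := A ⧸ m) y.asIdeal).resolve_right y.isPrime.ne_top
      rw [hy0] at h2
      exact ((RingHom.ker_eq_comap_bot β.hom).trans h2).trans ((RingHom.ker_eq_comap_bot q.hom).symm.trans Ideal.mk_ker)
    refine ⟨Ideal.Quotient.lift m β.hom fun a ha => hker.ge ha, ?_⟩
    rw [← Category.assoc, ← Spec.map_comp]
    have : q ≫ CommRingCat.ofHom (Ideal.Quotient.lift m β.hom fun a ha => hker.ge ha) = β := rfl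
    rw [this, hβ, IsOpenImmersion.lift_fac]

variable {S : Scheme.{u}} {U : Over S} {G : Type u} [Group G] {ρ : G →* Aut U}

/-- The point of `S`-schemes given by a field. -/
abbrev fieldPt {k : Type u} [Field k] (σ : Spec (CommRingCat.of k) ⟶ S) : Over S := Over.mk σ

theorem exists_galois_data (hfree : ∀ (g : G) (x : U.left), g ≠ 1 →
      U.left.fromSpecResidueField x ≫ (ρ g).hom.left ≠ U.left.fromSpecResidueField x)
    {c : Cofan (fun _ : G => U)} (hc : IsColimit c) {s t : c.pt ⟶ U}
    (hs : ∀ g, c.inj g ≫ s = 𝟙 U) (ht : ∀ g, c.inj g ≫ t = (ρ g).hom)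
    {Q : Sp S} {p : (yon S).obj U ⟶ Q} (hp : IsPresentation s t p)
    (k : Type u) [Field k] (σ : Spec (CommRingCat.of k) ⟶ S) (ξ : (yon S).obj (Over.mk σ) ⟶ Q) :
    ∃ (k' : Type u) (_ : Field k') (_ : Algebra k k') (_ : FiniteDimensional k k') (_ : IsGalois k k')
      (H : Subgroup G) (_ : Finite H) (e : H ≃* (k' ≃ₐ[k] k'))
      (x' : Over.mk (Spec.map (CommRingCat.ofHom (algebraMap k k')) ≫ σ) ⟶ U),
      (∀ h : H, Spec.map (CommRingCat.ofHom (e h).symm.toRingEquiv.toRingHom) ≫ x'.left =
        x'.left ≫ (ρ (h : G)).hom.left) ∧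
      (yon S).map x' ≫ p =
        (yon S).map (Over.homMk (Spec.map (CommRingCat.ofHom (algebraMap k k'))) :
          Over.mk (Spec.map (CommRingCat.ofHom (algebraMap k k')) ≫ σ) ⟶ Over.mk σ) ≫ ξ := by
  classical
  have hinv : ∀ g, (yon S).map (ρ g).hom ≫ p = p := fun g => by
    rw [← ht g, Functor.map_comp, Category.assoc, hp.isPullback.w, ← Category.assoc, ← Functor.map_comp, hs,
      CategoryTheory.Functor.map_id, Category.id_comp]
  have hpts : ∀ {K : Type u} [Field K] {τ : Spec (CommRingCat.of K) ⟶ S} (a b : Over.mk τ ⟶ U),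
      (yon S).map b ≫ p = (yon S).map a ≫ p → ∃ g, b = a ≫ (ρ g).hom := fun {K} _ τ a b hab => by
    let r : Over.mk τ ⟶ c.pt := (yon S).preimage (hp.isPullback.lift ((yon S).map b) ((yon S).map a) hab)
    have hrt : r ≫ t = b := (yon S).map_injective (by
      rw [Functor.map_comp, (yon S).map_preimage, hp.isPullback.lift_fst])
    have hrs : r ≫ s = a := (yon S).map_injective (by
      rw [Functor.map_comp, (yon S).map_preimage, hp.isPullback.lift_snd])
    obtain ⟨g, v, hv⟩ := AlgSpDec.FreeAction.exists_inj hc (r.left (IsLocalRing.closedPoint K))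
    haveI := AlgSpDec.FreeAction.isOpenImmersion_inj hc g
    have hr : Set.range r.left ⊆ Set.range (c.inj g).left := by
      rintro _ ⟨y, rfl⟩
      exact ⟨v, hv.trans (congrArg r.left (Subsingleton.elim (α := PrimeSpectrum K) _ y))⟩
    let x : Over.mk τ ⟶ U := CategoryTheory.Over.homMk (IsOpenImmersion.lift (c.inj g).left r.left hr) (by
      rw [← Over.w (c.inj g), IsOpenImmersion.lift_fac_assoc]; exact Over.w r)
    have hx : x ≫ c.inj g = r := Over.OverMorphism.ext (IsOpenImmersion.lift_fac _ _ _)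
    refine ⟨g, ?_⟩
    have e1 : r ≫ s = x := by rw [← hx, Category.assoc, hs, Category.comp_id]
    rw [← hrt, ← hrs, e1, ← hx, Category.assoc, ht]
  let hrep := hp.etale.rep
  let P := hrep.pullback ξ
  let a := hrep.fst' ξ
  let π := hrep.snd ξ
  have sq : IsPullback ((yon S).map a) ((yon S).map π) p ξ := hrep.isPullback' ξ
  haveI : Etale π.left := hp.etale.property_snd ξ
  haveI : Surjective π.left := hp.surjective.property_snd ξ
  obtain ⟨p₀, -⟩ := π.left.surjective (IsLocalRing.closedPoint k)
  obtain ⟨L, _, _, _, _, x₀, hx₀, hxπ, hfac⟩ := exists_finite_separable_point π.left p₀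
  let σ' := Spec.map (CommRingCat.ofHom (algebraMap k L)) ≫ σ
  let i : Over.mk σ' ⟶ Over.mk σ := Over.homMk (Spec.map (CommRingCat.ofHom (algebraMap k L)))
  let X₀ : Over.mk σ' ⟶ P := Over.homMk x₀ (by
    show x₀ ≫ P.hom = σ'
    rw [← Over.w π, reassoc_of% hxπ]
    rfl)
  let x' := X₀ ≫ a
  have hX₀π : X₀ ≫ π = i := Over.OverMorphism.ext hxπ
  have hxi : (yon S).map x' ≫ p = (yon S).map i ≫ ξ := by
    rw [Functor.map_comp, Category.assoc, sq.w, ← Category.assoc, ← Functor.map_comp, hX₀π]
  have hom_ext : ∀ {T : Over S} (m₁ m₂ : T ⟶ P), m₁ ≫ a = m₂ ≫ a → m₁ ≫ π = m₂ ≫ π → m₁ = m₂ :=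
    fun m₁ m₂ h₁ h₂ => (yon S).map_injective (sq.hom_ext (by rw [← Functor.map_comp, ← Functor.map_comp, h₁])
      (by rw [← Functor.map_comp, ← Functor.map_comp, h₂]))
  have hfix : ∀ g, x' ≫ (ρ g).hom = x' → g = 1 := fun g hg => by
    refine AlgSpDec.FreeAction.eq_of_comp_eq hfree (IsLocalRing.closedPoint L) x' (h := 1) ?_
    rw [← Over.comp_left, ← Over.comp_left, hg, map_one]
    exact congrArg (fun m : Over.mk σ' ⟶ U => _ ≫ m.left) (Category.comp_id x').symm
  have huniq : ∀ g g', x' ≫ (ρ g).hom = x' ≫ (ρ g').hom → g = g' := fun g g' h => by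
    have h' : x' ≫ (ρ (g'⁻¹ * g)).hom = x' := by
      rw [AlgSpDec.FreeAction.hom_mul, ← Category.assoc, h, Category.assoc, ← AlgSpDec.FreeAction.hom_mul,
        inv_mul_cancel, map_one]
      exact Category.comp_id _
    exact (inv_mul_eq_one.1 (hfix _ h')).symm
  let act : (L ≃ₐ[k] L) → (Over.mk σ' ⟶ Over.mk σ') := fun α =>
    Over.homMk (Spec.map (CommRingCat.ofHom α.toRingEquiv.toRingHom)) (by
      show _ ≫ σ' = σ'
      rw [← Category.assoc, ← Spec.map_comp]
      congr 2
      ext z
      exact α.commutes z)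
  have hacti : ∀ α, act α ≫ i = i := fun α => Over.OverMorphism.ext (by
    show Spec.map (CommRingCat.ofHom α.toRingEquiv.toRingHom) ≫ Spec.map (CommRingCat.ofHom (algebraMap k L)) = Spec.map _
    rw [← Spec.map_comp]
    congr 1
    ext z
    exact α.commutes z)
  have hθ : ∀ α : L ≃ₐ[k] L, ∃ g, act α.symm ≫ x' = x' ≫ (ρ g).hom := fun α => by
    refine hpts x' _ ?_
    rw [Functor.map_comp, Category.assoc, hxi, ← Category.assoc, ← Functor.map_comp, hacti]
  choose θ hθ using hθ
  have hact : ∀ α β : L ≃ₐ[k] L, act (α * β).symm = act β.symm ≫ act α.symm := fun α β =>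
    Over.OverMorphism.ext (by
      show Spec.map _ = Spec.map _ ≫ Spec.map _
      rw [← Spec.map_comp]
      rfl)
  have hmul : ∀ α β, θ (α * β) = θ α * θ β := fun α β => huniq _ _ (by
    rw [← hθ, hact, Category.assoc, hθ, ← Category.assoc, hθ, AlgSpDec.FreeAction.hom_mul, Category.assoc])
  let Θ : (L ≃ₐ[k] L) →* G := MonoidHom.mk' θ hmul
  have hinj : Function.Injective Θ := fun α β h => by
    have e : act α.symm ≫ x' = act β.symm ≫ x' := by
      rw [hθ, hθ, show θ α = θ β from h]
    have e' : act α.symm ≫ X₀ = act β.symm ≫ X₀ := hom_ext _ _ ((Category.assoc _ _ _).trans (e.trans (Category.assoc _ _ _).symm))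
      (by rw [Category.assoc, Category.assoc, hX₀π, hacti, hacti])
    have e'' := (cancel_mono x₀).1 (show Spec.map _ ≫ x₀ = Spec.map _ ≫ x₀ from congrArg (fun m => m.left) e')
    refine inv_injective (AlgEquiv.ext fun z => ?_)
    exact congrArg (fun m : CommRingCat.of L ⟶ CommRingCat.of L => m.hom z) (Spec.map_injective e'')
  haveI : IsGalois k L := by
    let Ω := AlgebraicClosure L
    let σ₁ : L →ₐ[k] Ω := IsScalarTower.toAlgHom k L Ω
    have hbij : Function.Bijective (fun α : L ≃ₐ[k] L => σ₁.comp α.toAlgHom) := by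
      refine ⟨fun α β h => AlgEquiv.ext fun z => σ₁.toRingHom.injective (AlgHom.congr_fun h z), fun σ₂ => ?_⟩
      let τ := Spec.map (CommRingCat.ofHom (algebraMap k Ω)) ≫ σ
      have hτ : ∀ σi : L →ₐ[k] Ω, Spec.map (CommRingCat.ofHom σi.toRingHom) ≫ σ' = τ := fun σi => by
        rw [← Category.assoc, ← Spec.map_comp]
        congr 2
        ext z
        exact σi.commutes z
      let m : (L →ₐ[k] Ω) → (Over.mk τ ⟶ Over.mk σ') := fun σi =>
        Over.homMk (Spec.map (CommRingCat.ofHom σi.toRingHom)) (hτ σi)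
      have hmi : ∀ σi σj, m σi ≫ i = m σj ≫ i := fun σi σj => Over.OverMorphism.ext (by
        show Spec.map (CommRingCat.ofHom σi.toRingHom) ≫ Spec.map (CommRingCat.ofHom (algebraMap k L)) =
          Spec.map (CommRingCat.ofHom σj.toRingHom) ≫ Spec.map (CommRingCat.ofHom (algebraMap k L))
        rw [← Spec.map_comp, ← Spec.map_comp]
        congr 1
        ext z
        exact (σi.commutes z).trans (σj.commutes z).symm)
      obtain ⟨g, hg⟩ := hpts (m σ₁ ≫ x') (m σ₂ ≫ x') (by
        rw [(yon S).map_comp (m σ₂) x', (yon S).map_comp (m σ₁) x', Category.assoc, Category.assoc, hxi,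
          ← Category.assoc, ← Category.assoc, ← Functor.map_comp, ← Functor.map_comp, hmi])
      let W : Over.mk σ' ⟶ P := (yon S).preimage (sq.lift ((yon S).map (x' ≫ (ρ g).hom)) ((yon S).map i) (by
        rw [Functor.map_comp, Category.assoc, hinv, hxi]))
      have hWa : W ≫ a = x' ≫ (ρ g).hom := (yon S).map_injective (by
        rw [Functor.map_comp, (yon S).map_preimage, sq.lift_fst])
      have hWπ : W ≫ π = i := (yon S).map_injective (by
        rw [Functor.map_comp, (yon S).map_preimage, sq.lift_snd])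
      have hW : m σ₁ ≫ W = m σ₂ ≫ X₀ := hom_ext _ _
        (by rw [Category.assoc, hWa, ← Category.assoc, ← hg, Category.assoc])
        (by rw [Category.assoc, Category.assoc, hWπ, hX₀π, hmi])
      have hW' : Spec.map (CommRingCat.ofHom σ₁.toRingHom) ≫ W.left =
          Spec.map (CommRingCat.ofHom σ₂.toRingHom) ≫ x₀ := congrArg (fun n => n.left) hW
      obtain ⟨α, hα⟩ := hfac W.left (by
        rintro _ ⟨y, rfl⟩
        refine ⟨Spec.map (CommRingCat.ofHom σ₂.toRingHom) (⊥ : PrimeSpectrum Ω), ?_⟩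
        rw [← Scheme.Hom.comp_apply, ← hW', Scheme.Hom.comp_apply]
        exact congrArg W.left (Subsingleton.elim (α := PrimeSpectrum L) _ y))
      have hαk : ∀ z, α (algebraMap k L z) = algebraMap k L z := fun z => by
        have h : Spec.map (CommRingCat.ofHom α) ≫ Spec.map (CommRingCat.ofHom (algebraMap k L)) =
            Spec.map (CommRingCat.ofHom (algebraMap k L)) := by
          rw [← hxπ, reassoc_of% hα]
          exact (congrArg (fun n : Over.mk σ' ⟶ Over.mk σ => n.left) hWπ).trans hxπ.symm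
        rw [← Spec.map_comp] at h
        exact congrArg (fun n : CommRingCat.of k ⟶ CommRingCat.of L => n.hom z) (Spec.map_injective h)
      let α' : L →ₐ[k] L := { α with commutes' := hαk }
      refine ⟨AlgEquiv.ofBijective α' (Algebra.IsAlgebraic.algHom_bijective α'), AlgHom.ext fun z => ?_⟩
      rw [← hα, ← Category.assoc, ← Spec.map_comp] at hW'
      exact congrArg (fun n : CommRingCat.of L ⟶ CommRingCat.of Ω => n.hom z)
        (Spec.map_injective ((cancel_mono x₀).1 hW'))
    refine IsGalois.of_card_aut_eq_finrank k L ?_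
    rw [Nat.card_congr (Equiv.ofBijective _ hbij), Nat.card_eq_fintype_card, AlgHom.card]
  refine ⟨L, inferInstance, inferInstance, inferInstance, inferInstance, Θ.range, Finite.of_surjective _ Θ.rangeRestrict_surjective,
    (MonoidHom.ofInjective hinj).symm, x', fun h => ?_, hxi⟩
  obtain ⟨_, α, rfl⟩ := h
  have : (MonoidHom.ofInjective hinj).symm ⟨Θ α, α, rfl⟩ = α := (MonoidHom.ofInjective hinj).symm_apply_apply α
  rw [this]
  exact congrArg (fun m => m.left) (hθ α)

end Groth.Agent.AlgSpGalData5
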