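import Groth.Statements.S10300
import Groth.Agent.AlgSpOne.NormZMT
import Groth.Agent.AlgSpDec.LimDescentRep
-- import your own Groth.Agent.* helpers here

set_option autoImplicit false
universe u
open CategoryTheory CategoryTheory.Limits AlgebraicGeometry
open AlgSp

namespace Groth.Agent.S10300

set_option backward.isDefEq.respectTransparency false
set_option backward.isDefEq.respectTransparency.types false

/-- For f quasi-finite and separated, the map from X to the normalization of Y in X is a quasi-compact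
open immersion, and f is quasi-affine. -/
theorem result {S : Scheme.{u}} {X Y Y' : AlgSp.Space S}
    (f : X ⟶ Y) (hqf : AlgSp.LocP (@LocallyQuasiFinite ⊓ @LocallyOfFiniteType) f.hom)
    (hqc : AlgSp.IsQuasiCompactMor f.hom) (hsep : AlgSp.IsSeparatedMor f.hom) (ν : Y' ⟶ Y) (f' : X ⟶ Y')
    (hn : AlgSp.IsRelNormalization f.hom ν.hom f'.hom) :
    AlgSp.RepWith @IsOpenImmersion f'.hom ∧ AlgSp.IsQuasiCompactMor f'.hom ∧ AlgSp.IsQuasiAffineMor f.hom := by
  have H : Groth.Agent.AlgSpOne.NormHyp f.hom := ⟨X.property, Y.property, hqc,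
    Groth.Agent.AlgSpDec.isQuasiSeparatedMor_of_isSeparatedMor hsep⟩
  obtain ⟨e, he₁, -⟩ := Groth.Agent.AlgSpOne.exists_iso_of_isRelNormalization Y'.property
    (Groth.Agent.AlgSpOne.isAlgSpace_normSp H) hn (Groth.Agent.AlgSpOne.isRelNormalization_normMap H)
  obtain ⟨ho, hq⟩ := Groth.Agent.AlgSpOne.zmt H hqf hsep
  have hf' : f'.hom = Groth.Agent.AlgSpOne.toNorm H ≫ e.inv := by rw [← he₁, Category.assoc, e.hom_inv_id, Category.comp_id]
  refine ⟨?_, ?_, ?_⟩
  · rw [hf']
    exact MorphismProperty.RespectsIso.postcomp _ e.inv _ ho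
  · rw [hf']
    exact Groth.Agent.AlgSpPts.isQuasiCompactMor_of_repWith (MorphismProperty.RespectsIso.postcomp _ e.inv _ hq)
  · rw [← Groth.Agent.AlgSpOne.toNorm_normMap H]
    exact Groth.Agent.AlgSpOne.isQuasiAffineMor_comp ho hq (Groth.Agent.AlgSpDec.isAffineMor_of_repWith
      (fun _ _ g (_ : IsIntegralHom g) => (inferInstance : IsAffineHom g))
      (Groth.Agent.AlgSpDec.isIntegralMor_iff_repWith.1 (Groth.Agent.AlgSpOne.isIntegralMor_normMap H)))

end Groth.Agent.S10300
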