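import Groth.Statements.S16491
import Groth.Agent.RefReg90.Sheaf
import Groth.Agent.Lib.CurveDuality

set_option autoImplicit false
universe u
open CategoryTheory CategoryTheory.Limits AlgebraicGeometry TopologicalSpace
open VBPn

namespace Groth.Agent.S16491

/-- Let X be an integral locally Noetherian scheme all of whose local rings are regular, and F a
coherent O_X-module which is reflexive (the canonical map F → F^** is an isomorphism) and of rank 1
(F restricts to an invertible module on some dense open subset of X). Then F is invertible: every
point has an open neighbourhood on which F is isomorphic to the structure sheaf. The published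
statement is for reflexive coherent analytic sheaves of rank 1 on a complex manifold; this row is
its statement on a regular integral locally Noetherian scheme, whose local rings are factorial as
the argument requires. -/
theorem result (X : Scheme.{u}) [IsIntegral X] [IsLocallyNoetherian X]
    (hreg : ∀ x : X, IsRegularLocalRing (X.presheaf.stalk x)) (F : X.Modules) (hF : Coh.IsCoh F)
    (hrefl : RefHull.IsReflexive F) (hrk : RefHull.GenInvertible F) :
    PicF.IsInvertible F := by
  have hfree := Groth.Agent.RefReg90.free_stalk_of_rankOne hreg hF hrefl hrk
  have hlf := Groth.Agent.RefReg90.isFinLocFree_of_free_stalks hF hfree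
  obtain ⟨g, hg⟩ := Groth.Agent.Div86.Ref.exists_isGen_generic hrk
  have h1 : Groth.Agent.CurveBundle.rk F = 1 :=
    finrank_eq_one g (fun h => one_ne_zero (hg.2 1 (by rw [h, smul_zero]))) fun w =>
      Groth.Agent.Div86.Ref.exists_coord_gen hg w
  exact Groth.Agent.CurveDuality.isInvertible_of_rank_one (h1 ▸ Groth.Agent.CurveBundle.isFinLocFreeOfRank_rk hlf)

end Groth.Agent.S16491
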