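import Groth.Statements.S1341
import Groth.Agent.CMOpen5.Open
import Groth.Agent.FibDim.Comp

set_option autoImplicit false
universe u
open FlatMor

namespace Groth.Agent.S1341

open AlgebraicGeometry CategoryTheory Limits in
theorem isCMAt_of_maximal {X S : Scheme.{u}} (f : X ⟶ S) [Flat f] [LocallyOfFiniteType f] (x : X)
    (hmax : ∀ z, z ⤳ x → f z = f x → z = x) : MoreMor.IsCMAt f x := by
  refine ⟨(Flat.iff_flat_stalkMap f).1 inferInstance x, ?_⟩
  haveI : IsLocallyNoetherian (f.fiber (f x)) :=
    LocallyOfFiniteType.isLocallyNoetherian (f.fiberToSpecResidueField (f x))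
  let j := (f.fiber (f x)).fromSpecStalk (f.asFiber x)
  have key : ∀ a, j a = f.asFiber x := fun a => by
    have h : j a ⤳ f.asFiber x := by
      have := Set.mem_range_self (f := j) a
      rwa [Scheme.range_fromSpecStalk] at this
    refine (f.fiberι (f x)).isEmbedding.injective ?_
    have h2 := h.map (f.fiberι (f x)).continuous
    rw [Scheme.Hom.fiberι_asFiber] at h2 ⊢
    refine hmax _ h2 ?_
    show f ((f.fiberι (f x)) (j a)) = f x
    exact Groth.Agent.FlatDvr.fiberι_apply_eq f _
  have : Subsingleton (PrimeSpectrum ((f.fiber (f x)).presheaf.stalk (f.asFiber x))) :=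
    ⟨fun a b => j.isEmbedding.injective ((key a).trans (key b).symm)⟩
  refine LC.Canon.isCMLocal_of_dim_zero ?_
  exact le_antisymm Order.krullDim_nonpos_of_subsingleton ringKrullDim_nonneg_of_nontrivial

open AlgebraicGeometry CategoryTheory Limits in
/-- Let f : X ⟶ S be flat and locally of finite presentation. Then the set of points of X at which f is
Cohen–Macaulay is open in X, and its intersection with every fibre of f is dense in that fibre. -/
theorem result {X S : Scheme.{u}} (f : X ⟶ S) [Flat f] [LocallyOfFinitePresentation f] :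
    IsOpen {x : ↑X | MoreMor.IsCMAt f x} ∧ ∀ s : S, Dense ((f.fiberι s) ⁻¹' {x : ↑X | MoreMor.IsCMAt f x}) := by
  refine ⟨CMOpen5.isOpen_isCMAt f, fun s => dense_iff_inter_open.2 fun O hO ⟨u, hu⟩ => ?_⟩
  obtain ⟨w, hw, hmax⟩ := FibDim.exists_maximal_generization u
  refine ⟨w, hw.mem_open hO hu, isCMAt_of_maximal f _ fun z hz hfz => ?_⟩
  have hfw : f (f.fiberι s w) = s := FlatDvr.fiberι_apply_eq f w
  obtain ⟨t, rfl⟩ : z ∈ Set.range (f.fiberι s) := by
    rw [Scheme.Hom.range_fiberι]; exact hfz.trans hfw
  rw [hmax t ((f.fiberι s).isEmbedding.isInducing.specializes_iff.1 hz)]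

end Groth.Agent.S1341
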