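import Groth.Statements.S11460
import Groth.Agent.DeformNL.HBSpread
import Groth.Agent.DeformNL.HilbBurch
import Groth.Agent.CMClosed.Basic
import Groth.Agent.GrpSchLib.SmoothRegular

set_option autoImplicit false
universe u
open CategoryTheory AlgebraicGeometry
open DefT

namespace Groth.Agent.S11460

/-- Let X be smooth over a field k and Y ⊆ X a closed subscheme which is Cohen–Macaulay of codimension 2
(all local rings of Y Cohen–Macaulay, and dim O_{X,y} = dim O_{Y,y} + 2 at every point y of Y). Then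
each point of Y has an affine open neighbourhood U in X and an (r+1) × r matrix φ of functions on U
whose signed maximal minors f_i generate the ideal of Y ∩ U and give an exact sequence 0 → O(U)^r →
O(U)^{r+1} → O(U), hence a resolution of O_{Y ∩ U} on the affine U. -/
theorem result (k : Type u) [Field k]
    (X Y : Scheme.{u}) (f : X ⟶ Spec (CommRingCat.of k)) [Smooth f] (ι : Y ⟶ X) [IsClosedImmersion ι]
    (hCM : ∀ y : Y, LocCoh.IsCohenMacaulayLocalRing (Y.presheaf.stalk y))
    (hcodim : ∀ y : Y, ringKrullDim (Y.presheaf.stalk y) + 2 = ringKrullDim (X.presheaf.stalk (ι.base y)))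
    (y : Y) :
    ∃ U : X.affineOpens, ι.base y ∈ (U : X.Opens) ∧ ∃ (r : ℕ) (φ : Matrix (Fin (r + 1)) (Fin r) Γ(X, U)),
      (Ideal.span (Set.range (fun i : Fin (r + 1) => (-1 : Γ(X, U)) ^ (i : ℕ) * ((φ).submatrix i.succAbove id).det)) = ι.ker.ideal U ∧
        Function.Injective (φ).mulVecLin ∧
        LinearMap.range (φ).mulVecLin = LinearMap.ker (Fintype.linearCombination Γ(X, U) (fun i : Fin (r + 1) => (-1 : Γ(X, U)) ^ (i : ℕ) * ((φ).submatrix i.succAbove id).det))) := by
  haveI : IsLocallyNoetherian X := LocallyOfFiniteType.isLocallyNoetherian f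
  obtain ⟨V, hV, hyV, -⟩ := exists_isAffineOpen_mem_and_subset (x := ι.base y) (U := (⊤ : X.Opens)) trivial
  let V' : X.affineOpens := ⟨V, hV⟩
  haveI : IsNoetherianRing Γ(X, V) := IsLocallyNoetherian.component_noetherian V'
  letI := X.presheaf.algebra_section_stalk (⟨ι y, hyV⟩ : V)
  haveI := hV.isLocalization_stalk ⟨ι y, hyV⟩
  haveI := Groth.Agent.GrpSchLib.isRegularLocalRing_stalk_of_smooth f (ι y)
  let I := (ι.ker.ideal V').map (algebraMap Γ(X, V) (X.presheaf.stalk (ι y)))
  have hk : RingHom.ker (ι.stalkMap y).hom = I := Groth.Agent.DeformNL.HBSpread.ker_stalkMap ι V' y hyV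
  let e : (X.presheaf.stalk (ι y) ⧸ I) ≃+* Y.presheaf.stalk y :=
    (Ideal.quotEquivOfEq hk.symm).trans (RingHom.quotientKerEquivOfSurjective (ι.stalkMap_surjective y))
  haveI : IsLocalRing (X.presheaf.stalk (ι y) ⧸ I) := e.symm.isLocalRing
  haveI : IsNoetherianRing (X.presheaf.stalk (ι y) ⧸ I) := inferInstance
  haveI := hCM y
  haveI : LocCoh.IsCohenMacaulayLocalRing (X.presheaf.stalk (ι y) ⧸ I) :=
    Groth.Agent.CMClosed.of_ringEquiv e.symm
  obtain ⟨r, φ, hφI, -, hinj, hex⟩ := Groth.Agent.DeformNL.exists_hilbertBurch _ I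
    (by rw [ringKrullDim_eq_of_ringEquiv e]; exact hcodim y)
  obtain ⟨h, hh, H⟩ := Groth.Agent.DeformNL.HBSpread.exists_spread
    (hV.primeIdealOf ⟨ι y, hyV⟩).asIdeal (X.presheaf.stalk (ι y)) (ι.ker.ideal V') φ hφI hinj hex
  letI : Algebra Γ(X, V) Γ(X, X.basicOpen h) := (X.presheaf.map (homOfLE (X.basicOpen_le h)).op).hom.toAlgebra
  haveI : IsLocalization.Away h Γ(X, X.basicOpen h) := hV.isLocalization_basicOpen h
  obtain ⟨ψ, h1, h2, h3⟩ := H Γ(X, X.basicOpen h)
  refine ⟨X.affineBasicOpen (U := V') h, ?_, r, ψ, ?_, h2, h3⟩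
  · show ι y ∈ X.basicOpen h
    rw [X.mem_basicOpen h (ι y) hyV]
    exact (IsLocalization.AtPrime.isUnit_to_map_iff (X.presheaf.stalk (ι y)) (hV.primeIdealOf ⟨ι y, hyV⟩).asIdeal h).2 hh
  · rw [← ι.ker.map_ideal_basicOpen V' h]
    exact h1

end Groth.Agent.S11460
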