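import Groth.Statements.S0451
import Groth.Agent.RGCore.LfpDense
-- import your own Groth.Agent.* helpers here

set_option autoImplicit false
universe u
open FlatMor

namespace Groth.Agent.S0451

open AlgebraicGeometry CategoryTheory Limits in
/-- A flat morphism locally of finite type which is locally of finite presentation over a quasi-compact
scheme-theoretically dense open of the target is locally of finite presentation. -/
theorem result {X S : Scheme.{u}} (f : X ⟶ S) [LocallyOfFiniteType f] [Flat f] (U : S.Opens)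
    [QuasiCompact U.ι] [IsSchemeTheoreticallyDominant U.ι] [LocallyOfFinitePresentation (f ∣_ U)] : LocallyOfFinitePresentation f := by
  refine ⟨fun {V} hV {W} hW e => ?_⟩
  classical
  -- cover `U ∩ V` by basic opens
  have hcpt : IsCompact ((U ⊓ V : S.Opens) : Set S) := by
    have h1 : IsCompact ((U.ι ⁻¹ᵁ V : U.toScheme.Opens) : Set U.toScheme) :=
      U.ι.isCompact_preimage hV.isCompact
    have h2 := h1.image U.ι.continuous
    convert h2 using 1
    rw [← Scheme.Hom.coe_image]
    exact congrArg (fun o : S.Opens => (o : Set S)) (by rw [Scheme.Hom.image_preimage_eq_opensRange_inf, Scheme.Opens.opensRange_ι])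
  choose r hr hxr using fun x : (U ⊓ V : S.Opens) =>
    hV.exists_basicOpen_le (V := U ⊓ V) x x.2.2
  obtain ⟨T, hT⟩ := hcpt.elim_finite_subcover (fun x : (U ⊓ V : S.Opens) => (S.basicOpen (r x) : Set S))
    (fun x => (S.basicOpen (r x)).isOpen) fun y hy => Set.mem_iUnion.2 ⟨⟨y, hy⟩, hxr ⟨y, hy⟩⟩
  let g : Fin T.card → Γ(S, V) := fun i => r (T.equivFin.symm i)
  have hg : ∀ i, S.basicOpen (g i) ≤ U := fun i => (hr _).trans inf_le_left
  have hflat := f.flat_appLE hV hW e
  have hft := f.finiteType_appLE hV hW e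
  algebraize [(f.appLE V W e).hom]
  refine RGCore.algebra_finitePresentation_of_dense g ?_ fun i => ?_
  · rw [injective_iff_map_eq_zero]
    intro a ha
    refine (U.ι.app_injective V) ?_
    rw [map_zero, Scheme.Opens.ι_app]
    refine S.IsSheaf.section_ext fun x hx => ?_
    have hxUV : x ∈ U ⊓ V := by
      change x ∈ U.ι ''ᵁ (U.ι ⁻¹ᵁ V) at hx
      rw [Scheme.Hom.image_preimage_eq_opensRange_inf, Scheme.Opens.opensRange_ι] at hx
      exact hx
    obtain ⟨t, ht, hxt⟩ : ∃ t ∈ T, x ∈ S.basicOpen (r t) := by simpa using hT hxUV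
    have hle : S.basicOpen (r t) ≤ U.ι ''ᵁ (U.ι ⁻¹ᵁ V) := by
      rw [Scheme.Hom.image_preimage_eq_opensRange_inf, Scheme.Opens.opensRange_ι]
      exact hr t
    refine ⟨S.basicOpen (r t), hle, hxt, ?_⟩
    have := hV.isLocalization_basicOpen (r t)
    have h0 := congr_fun ha (T.equivFin ⟨t, ht⟩)
    simp only [RingHom.pi_apply, Pi.zero_apply] at h0
    obtain ⟨⟨_, k, rfl⟩, hk⟩ := (IsLocalization.map_eq_zero_iff (Submonoid.powers (g (T.equivFin ⟨t, ht⟩))) _ a).1 h0
    have hgt : g (T.equivFin ⟨t, ht⟩) = r t := by simp [g]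
    have hc : r t ^ k * a = 0 := hgt ▸ hk
    have h1 : algebraMap Γ(S, V) Γ(S, S.basicOpen (r t)) a = 0 :=
      (IsLocalization.map_eq_zero_iff (Submonoid.powers (r t)) _ a).2 ⟨⟨_, k, rfl⟩, hc⟩
    refine Eq.trans ?_ (S.presheaf.map _).hom.map_zero.symm
    erw [← CommRingCat.comp_apply]
    erw [← Functor.map_comp]
    exact h1
  · let φ := f.appLE V W e
    have hD : X.basicOpen (φ (g i)) ≤ f ⁻¹ᵁ S.basicOpen (g i) := by
      rw [Scheme.basicOpen_appLE]
      exact inf_le_right
    have hDU : X.basicOpen (φ (g i)) ≤ (f ⁻¹ᵁ U).ι.opensRange := by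
      rw [Scheme.Opens.opensRange_ι]
      exact hD.trans (f.preimage_mono (hg i))
    let W' := (f ⁻¹ᵁ U).ι ⁻¹ᵁ X.basicOpen (φ (g i))
    have hW' : IsAffineOpen W' := (hW.basicOpen _).preimage_of_isOpenImmersion _ hDU
    have : LocallyOfFinitePresentation ((f ⁻¹ᵁ U).ι ≫ f) := by
      rw [← morphismRestrict_ι]
      infer_instance
    have h2 : (((f ⁻¹ᵁ U).ι ≫ f).appLE (S.basicOpen (g i)) W'
        (fun x hx => hD hx)).hom.FinitePresentation :=
      Scheme.Hom.finitePresentation_appLE _ (hV.basicOpen _) hW' _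
    rw [← Scheme.Hom.appLE_comp_appLE (f ⁻¹ᵁ U).ι f _ (X.basicOpen (φ (g i))) _ hD le_rfl,
      ← Scheme.Hom.app_eq_appLE] at h2
    have hiso : IsIso ((f ⁻¹ᵁ U).ι.app (X.basicOpen (φ (g i)))) := (f ⁻¹ᵁ U).ι.isIso_app _ hDU
    rw [CommRingCat.hom_comp, RingHom.finitePresentation_respectsIso.cancel_right_isIso] at h2
    let Br := Γ(X, X.basicOpen (φ (g i)))
    let Ar := Γ(S, S.basicOpen (g i))
    algebraize [(f.appLE (S.basicOpen (g i)) (X.basicOpen (φ (g i))) hD).hom]
    have := hV.isLocalization_basicOpen (g i)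
    have := hW.isLocalization_basicOpen (φ (g i))
    let : Algebra Γ(S, V) Br := ((algebraMap Γ(X, W) Br).comp (algebraMap Γ(S, V) Γ(X, W))).toAlgebra
    have : IsScalarTower Γ(S, V) Γ(X, W) Br := .of_algebraMap_eq fun _ => rfl
    have : IsScalarTower Γ(S, V) Ar Br := .of_algebraMap_eq fun a => by
      show (X.presheaf.map _).hom ((f.appLE V W e).hom a) = (f.appLE _ _ hD).hom ((S.presheaf.map _).hom a)
      rw [← CommRingCat.comp_apply, ← CommRingCat.comp_apply, Scheme.Hom.appLE_map, Scheme.Hom.map_appLE]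
    have : Algebra.FinitePresentation Γ(S, V) Ar := IsLocalization.Away.finitePresentation (g i)
    have : Algebra.FinitePresentation Γ(S, V) Br := Algebra.FinitePresentation.trans Γ(S, V) Ar Br
    exact Algebra.FinitePresentation.equiv
      ((IsLocalization.algEquiv (Submonoid.powers (φ (g i))) Br (Localization.Away (φ (g i)))).restrictScalars Γ(S, V))
end Groth.Agent.S0451
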