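import Groth.Statements.S1343
import Groth.Agent.CMOpen5.Affine
import Groth.Agent.FibDim.LocDim
import Groth.Agent.FlatB12.QfDim
import Groth.Agent.AlgSpPts.Sep

set_option autoImplicit false
universe u
open FlatMor

namespace Groth.Agent.S1343

open AlgebraicGeometry CategoryTheory Limits in
/-- (1) ⇔ (3): let f be flat and locally of finite presentation and let x be a point whose fibre has
local dimension d at x. Then f is Cohen–Macaulay at x if and only if some open neighbourhood of x
admits a flat, locally quasi-finite morphism to affine d-space over the base, compatible with the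
structure morphisms. -/
theorem result {X S : Scheme.{u}} (f : X ⟶ S) [Flat f] [LocallyOfFinitePresentation f]
    (x : X) (d : ℕ) (hd : FlatMor.fibreDimAt f x = d) :
    MoreMor.IsCMAt f x ↔ ∃ (U : X.Opens) (g : (U : Scheme.{u}) ⟶ 𝔸(ULift.{u} (Fin d); S)), x ∈ U ∧
      g ≫ (𝔸(ULift.{u} (Fin d); S) ↘ S) = U.ι ≫ f ∧ Flat g ∧ LocallyQuasiFinite g := by
  constructor
  · intro h
    obtain ⟨n, U, hx, g, hg, hqf, hflat⟩ := (CMOpen5.isCMAt_iff f x).1 h
    let π := 𝔸(ULift.{u} (Fin n); S) ↘ S
    haveI : LocallyOfFinitePresentation (g ≫ π) := by rw [hg]; infer_instance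
    haveI : LocallyOfFiniteType π := inferInstance
    haveI : LocallyOfFiniteType g := locallyOfFiniteType_of_comp g π
    haveI := AlgSpPts.locallyOfFinitePresentation_of_comp g π
    have hn : n = d := by
      have h1 := FlatB12.fibreDimAt_comp_affineSpace n g ⟨x, hx⟩ hflat
      rw [hg, FibDim.fibreDimAt_openImmersion_comp U.ι f ⟨x, hx⟩, show U.ι ⟨x, hx⟩ = x from rfl, hd] at h1
      exact_mod_cast h1.symm
    subst hn
    let W : (U : Scheme.{u}).Opens := ⟨_, FlatLocus.isOpen_flat_locus g⟩
    let U' : X.Opens := U.ι ''ᵁ W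
    have hU' : U' ≤ U := by rintro _ ⟨w, -, rfl⟩; exact w.2
    let j := X.homOfLE hU'
    refine ⟨U', j ≫ g, ⟨⟨x, hx⟩, hflat, rfl⟩, ?_, ?_, inferInstance⟩
    · rw [Category.assoc, hg, ← Category.assoc, X.homOfLE_ι]
    · refine (Flat.iff_flat_stalkMap _).2 fun z => ?_
      have hzW : j z ∈ W := by
        obtain ⟨w, hw, hwz⟩ := z.2
        rwa [show w = j z from U.ι.isOpenEmbedding.injective (hwz.trans (by
          rw [← Scheme.Hom.comp_apply, X.homOfLE_ι]; rfl))] at hw
      rw [Scheme.Hom.stalkMap_comp]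
      exact (FlatLocus.flat_comp_isIso _ _).2 hzW
  · rintro ⟨U, g, hx, hg, hflat, hqf⟩
    exact (CMOpen5.isCMAt_iff f x).2 ⟨d, U, hx, g, hg, hqf, (Flat.iff_flat_stalkMap g).1 hflat _⟩

end Groth.Agent.S1343
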