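import Groth.Statements.S1819
import Groth.Agent.DualityLC.HomCxAdj
import Groth.Agent.KFlatLib.Ring.Dualizing
-- import your own Groth.Agent.* helpers here

set_option autoImplicit false
universe u
open CategoryTheory
attribute [local instance] HasDerivedCategory.standard
open Dual

namespace Groth.Agent.S1819

/-- Let A be a Noetherian ring with a dualizing complex ω and K a complex of A-modules all of whose
cohomology modules are finite; assume RHom(K, −) exists. Then every cohomology module of RHom_A(K,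
ω) is finite, and for every complex E representing RHom_A(K, ω) (with RHom(E, −) existing) there is
an isomorphism RHom_A(E, ω) ≅ K in D(A). -/
theorem result (A : Type u) [CommRing A] [IsNoetherianRing A] (ω : Dual.D A) (hω : Dual.IsDualizing A ω) (K : DRing.Cx A) [DRing.HasRHomCx K] (hK : ∀ i : ℤ, Module.Finite A (Dual.HD A (DRing.toD K) i)) : (∀ i : ℤ, Module.Finite A (Dual.HD A ((DRing.RHomCx K).obj ω) i)) ∧ ∀ (E : DRing.Cx A) [DRing.HasRHomCx E], Nonempty (DRing.toD E ≅ (DRing.RHomCx K).obj ω) → Nonempty ((DRing.RHomCx E).obj ω ≅ DRing.toD K) := by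
  haveI := Groth.Agent.KFlatLib.hasLTen A
  haveI := Groth.Agent.KFlatLib.hasRHom (A := A)
  obtain ⟨e⟩ := Groth.Agent.DualityLC.exists_rhomCxIso K ω
  refine ⟨fun i => ?_, fun E _ ⟨eE⟩ => ?_⟩
  · haveI := Groth.Agent.KFlatLib.finite_hd_RHom_of_finite_hd (K := DRing.toD K) hK hω.finite_cohomology
      (Groth.Agent.KFlatLib.finiteInjDim_of_isDualizing hω) i
    exact Module.Finite.equiv
      ((DerivedCategory.homologyFunctor (ModuleCat.{u} A) i).mapIso e).symm.toLinearEquiv
  · obtain ⟨e'⟩ := Groth.Agent.DualityLC.exists_rhomCxIso E ω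
    obtain ⟨b⟩ := Groth.Agent.KFlatLib.nonempty_biduality hω (K := DRing.toD K) hK
    exact ⟨e' ≪≫ (((DTen.RHom A).mapIso (eE ≪≫ e).op).symm.app ω) ≪≫ b⟩

end Groth.Agent.S1819
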