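import Groth.Statements.S8496
import Groth.Agent.FlatMisc.Fibrewise
-- import your own Groth.Agent.* helpers here

set_option autoImplicit false
open CategoryTheory MonoidalCategory CartesianMonoidalCategory MonObj GrpObj AlgebraicGeometry
universe u
open Par

namespace Groth.Agent.S8496

open CategoryTheory.Limits in
theorem isPullback_map {S T : Scheme.{u}} {X Y : Over S} (m : X ⟶ Y) (k : T ⟶ S) :
    IsPullback ((Over.pullback k).map m).left (pullback.fst X.hom k) (pullback.fst Y.hom k) m.left := by
  refine IsPullback.of_right (h₁₂ := pullback.snd Y.hom k) (v₁₃ := k) (h₂₂ := Y.hom) ?_ ?_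
    (IsPullback.of_hasPullback Y.hom k).flip
  · have e1 : ((Over.pullback k).map m).left ≫ pullback.snd Y.hom k = pullback.snd X.hom k :=
      pullback.lift_snd _ _ _
    rw [e1, Over.w m]
    exact (IsPullback.of_hasPullback X.hom k).flip
  · exact pullback.lift_fst _ _ _

open CategoryTheory.Limits in
theorem exists_isPullback_map_comp {S T T' : Scheme.{u}} {X Y : Over S} (m : X ⟶ Y) (a : T' ⟶ T) (b : T ⟶ S)
    (k : T' ⟶ S) (hk : a ≫ b = k) :
    ∃ (πX : ((Over.pullback k).obj X).left ⟶ ((Over.pullback b).obj X).left)
      (πY : ((Over.pullback k).obj Y).left ⟶ ((Over.pullback b).obj Y).left),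
      IsPullback πY (pullback.snd Y.hom k) (pullback.snd Y.hom b) a ∧
      IsPullback ((Over.pullback k).map m).left πX πY ((Over.pullback b).map m).left := by
  have e0 : ∀ Z : Over S, (pullback.fst Z.hom k ≫ 𝟙 _) ≫ Z.hom = (pullback.snd Z.hom k ≫ a) ≫ b := fun Z => by
    rw [Category.comp_id, Category.assoc, hk, pullback.condition]
  let π : ∀ Z : Over S, pullback Z.hom k ⟶ pullback Z.hom b := fun Z =>
    pullback.lift (pullback.fst Z.hom k ≫ 𝟙 _) (pullback.snd Z.hom k ≫ a) (e0 Z)
  refine ⟨π X, π Y, ?_, ?_⟩
  · refine IsPullback.of_right (h₁₂ := pullback.fst Y.hom b) (h₂₂ := b) (v₁₃ := Y.hom) ?_ ?_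
      (IsPullback.of_hasPullback Y.hom b)
    · rw [show π Y ≫ pullback.fst Y.hom b = pullback.fst Y.hom k from (pullback.lift_fst _ _ _).trans (Category.comp_id _), hk]
      exact IsPullback.of_hasPullback Y.hom k
    · exact pullback.lift_snd _ _ _
  · refine IsPullback.of_bot (v₂₁ := pullback.fst X.hom b) (v₂₂ := pullback.fst Y.hom b) (h₃₁ := m.left) ?_ ?_
      (isPullback_map m b)
    · rw [show π X ≫ pullback.fst X.hom b = pullback.fst X.hom k from (pullback.lift_fst _ _ _).trans (Category.comp_id _),
        show π Y ≫ pullback.fst Y.hom b = pullback.fst Y.hom k from (pullback.lift_fst _ _ _).trans (Category.comp_id _)]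
      exact isPullback_map m k
    · apply pullback.hom_ext
      · have p1 : π Y ≫ pullback.fst Y.hom b = pullback.fst Y.hom k :=
          (pullback.lift_fst _ _ _).trans (Category.comp_id _)
        have p2 : π X ≫ pullback.fst X.hom b = pullback.fst X.hom k :=
          (pullback.lift_fst _ _ _).trans (Category.comp_id _)
        refine (Category.assoc _ _ _).trans ?_
        refine (congrArg (((Over.pullback k).map m).left ≫ ·) p1).trans ?_
        refine (isPullback_map m k).w.trans ?_
        refine Eq.trans ?_ (Category.assoc _ _ _).symm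
        refine Eq.trans ?_ (congrArg (π X ≫ ·) (isPullback_map m b).w).symm
        rw [← p2, Category.assoc]
      · have q1 : π Y ≫ pullback.snd Y.hom b = pullback.snd Y.hom k ≫ a := pullback.lift_snd _ _ _
        have q2 : π X ≫ pullback.snd X.hom b = pullback.snd X.hom k ≫ a := pullback.lift_snd _ _ _
        refine (Category.assoc _ _ _).trans ?_
        refine (congrArg (((Over.pullback k).map m).left ≫ ·) q1).trans ?_
        refine (Category.assoc _ _ _).symm.trans ?_
        refine (congrArg (· ≫ a) (pullback.lift_snd _ _ _)).trans ?_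
        refine Eq.trans ?_ (Category.assoc _ _ _).symm
        refine Eq.trans q2.symm ?_
        exact congrArg (π X ≫ ·) (pullback.lift_snd _ _ _).symm

open CategoryTheory.Limits in
theorem smooth_iff_fibres {S : Scheme.{u}} {X Y : Over S} [Smooth X.hom] [Smooth Y.hom] (m : X ⟶ Y) :
    Smooth m.left ↔ ∀ s : S, Smooth ((Over.pullback (S.fromSpecResidueField s)).map m).left := by
  constructor
  · intro _ s
    exact MorphismProperty.of_isPullback (P := @Smooth) (isPullback_map m _).flip inferInstance
  · intro h
    haveI : Flat (m.left ≫ Y.hom) := by rw [Over.w]; infer_instance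
    haveI : LocallyOfFinitePresentation (m.left ≫ Y.hom) := by rw [Over.w]; infer_instance
    refine FlatMisc.smooth_of_smooth_fibres Y.hom m.left fun s => ?_
    have e := (isPullback_map m (S.fromSpecResidueField s)).flip.isoPullback_inv_snd
    rw [show pullback.snd m.left (Y.hom.fiberι s) =
        (isPullback_map m (S.fromSpecResidueField s)).flip.isoPullback.inv ≫
          ((Over.pullback (S.fromSpecResidueField s)).map m).left from e.symm]
    exact (MorphismProperty.cancel_left_of_respectsIso @Smooth _ _).2 (h s)

open CategoryTheory.Limits in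
theorem smooth_of_surjective {S S' : Scheme.{u}} {X Y : Over S} [Smooth X.hom] [Smooth Y.hom] (m : X ⟶ Y)
    (g : S' ⟶ S) [Surjective g] (h : Smooth ((Over.pullback g).map m).left) : Smooth m.left := by
  rw [smooth_iff_fibres]
  intro s
  obtain ⟨s', rfl⟩ := g.surjective s
  let φ := Spec.map (g.residueFieldMap s')
  let k := S'.fromSpecResidueField s' ≫ g
  obtain ⟨πX, πY, -, hp⟩ := exists_isPullback_map_comp m (S'.fromSpecResidueField s') g k rfl
  haveI : Smooth ((Over.pullback k).map m).left :=
    MorphismProperty.of_isPullback (P := @Smooth) hp.flip h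
  obtain ⟨πX', πY', hY, hp'⟩ := exists_isPullback_map_comp m φ (S.fromSpecResidueField (g s')) k
    (Scheme.Hom.SpecMap_residueFieldMap_fromSpecResidueField _ _)
  have hφ : (@Surjective ⊓ @Flat ⊓ @QuasiCompact : MorphismProperty Scheme.{u}) φ := by
    refine ⟨⟨inferInstance, ?_⟩, inferInstance⟩
    rw [HasRingHomProperty.Spec_iff (P := @Flat)]
    letI := (g.residueFieldMap s').hom.toAlgebra
    exact RingHom.flat_algebraMap_iff.mpr inferInstance
  exact MorphismProperty.of_isPullback_of_descendsAlong (P := @Smooth)
    (Q := @Surjective ⊓ @Flat ⊓ @QuasiCompact) hp'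
    ⟨⟨MorphismProperty.of_isPullback (P := @Surjective) hY.flip hφ.1.1,
      MorphismProperty.of_isPullback (P := @Flat) hY.flip hφ.1.2⟩,
      MorphismProperty.of_isPullback (P := @QuasiCompact) hY.flip hφ.2⟩ inferInstance

/-- Transversal position of a pair of parabolic subgroups is read here as smoothness of the
multiplication morphism P ×_S Q ⟶ G (one of its equivalent characterisations). Let G be a reductive
S-group and P, Q parabolic subgroups. Then (P, Q) is in transversal position if and only if (P_s,
Q_s) is for every point s of S; and if (P_{S'}, Q_{S'}) is in transversal position for some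
surjective S' ⟶ S then so is (P, Q). -/
theorem result {S : Scheme.{u}} {G P Q : Over S} [GrpObj G] [GrpObj P]
    [GrpObj Q] (hG : Red.IsReductive G) (p : P ⟶ G) (q : Q ⟶ G) (hP : Red.IsParabolic p) (hQ : Red.IsParabolic q) :
    (Smooth ((p ⊗ₘ q) ≫ μ[G]).left ↔
      ∀ s : S, Smooth ((Over.pullback (S.fromSpecResidueField s)).map ((p ⊗ₘ q) ≫ μ[G])).left) ∧
    ∀ (S' : Scheme.{u}) (g : S' ⟶ S), Surjective g →
      Smooth ((Over.pullback g).map ((p ⊗ₘ q) ≫ μ[G])).left → Smooth ((p ⊗ₘ q) ≫ μ[G]).left := by
  haveI : Smooth G.hom := hG.2.1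
  haveI : Smooth P.hom := hP.2.2.1
  haveI : Smooth Q.hom := hQ.2.2.1
  haveI : Smooth (P ⊗ Q).hom :=
    inferInstanceAs (Smooth (Limits.pullback.fst P.hom Q.hom ≫ P.hom))
  exact ⟨smooth_iff_fibres _, fun S' g hg h => smooth_of_surjective _ g h⟩

end Groth.Agent.S8496
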