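import Groth.Statements.S2993
import Groth.Agent.DynX.QFAffine
import Groth.Agent.GrpSchLib.HomFinite
import Groth.Agent.S8496
-- import your own Groth.Agent.* helpers here

set_option autoImplicit false
universe u
open Par

namespace Groth.Agent.S2993

open AlgebraicGeometry CategoryTheory in
/-- In the case proved in the text (G smooth over S; the editors note that flatness suffices): let S be
a locally Noetherian scheme of dimension ≤ 1, G and H two S-group schemes of finite type and f : G →
H a homomorphism of S-groups which is quasi-finite and separated. If G is smooth over S then f is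
affine. -/
theorem result {S : Scheme.{u}} [IsLocallyNoetherian S] (hS : topologicalKrullDim S ≤ 1)
    (G H : Over S) [GrpObj G] [GrpObj H] [LocallyOfFiniteType G.hom] [QuasiCompact G.hom] [LocallyOfFiniteType H.hom] [QuasiCompact H.hom]
    [Smooth G.hom] (f : G ⟶ H) [IsMonHom f] [LocallyQuasiFinite f.left] [QuasiCompact f.left] [IsSeparated f.left] :
    IsAffineHom f.left := by
  haveI : LocallyOfFiniteType f.left := by
    have : LocallyOfFiniteType (f.left ≫ H.hom) := by rw [Over.w f]; infer_instance
    exact locallyOfFiniteType_of_comp f.left H.hom
  refine Groth.Agent.DynX.QFAffine.isAffineHom_of_universallyClosed_fibres hS H.hom f.left fun s => ?_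
  let k : Spec (CommRingCat.of (S.residueField s)) ⟶ S := S.fromSpecResidueField s
  let F := Over.pullback k
  haveI : LocallyOfFiniteType (F.obj G).hom :=
    inferInstanceAs (LocallyOfFiniteType (Limits.pullback.snd G.hom k))
  haveI : LocallyOfFiniteType (F.obj H).hom :=
    inferInstanceAs (LocallyOfFiniteType (Limits.pullback.snd H.hom k))
  have hsq := (Groth.Agent.S8496.isPullback_map f k).flip
  haveI : QuasiCompact (F.map f).left := MorphismProperty.of_isPullback (P := @QuasiCompact) hsq inferInstance
  haveI : LocallyQuasiFinite (F.map f).left :=
    MorphismProperty.of_isPullback (P := @LocallyQuasiFinite) hsq inferInstance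
  haveI : IsSeparated (F.map f).left := MorphismProperty.of_isPullback (P := @IsSeparated) hsq inferInstance
  haveI : IsFinite (F.map f).left := Groth.Agent.GrpSchLib.HomFinite.isFinite (F.map f)
  refine (MorphismProperty.cancel_left_of_respectsIso @UniversallyClosed hsq.isoPullback.hom _).1 ?_
  have e : hsq.isoPullback.hom ≫ Limits.pullback.snd f.left (Limits.pullback.fst H.hom k) = (F.map f).left :=
    hsq.isoPullback_hom_snd
  refine (congrArg (fun m => UniversallyClosed m) e).mpr ?_
  infer_instance

end Groth.Agent.S2993
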