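import Groth.Statements.S16438
import Groth.Agent.E4Loc.Basic

set_option autoImplicit false
universe u
open EGA4loc

namespace Groth.Agent.S16438

open IsLocalRing in
/-- Let A be a Noetherian local ring with maximal ideal m, S a strict henselization of A, and D an
A-subalgebra of S which is a local ring dominated by S (the inclusion is local), essentially of
finite type over A, and such that m D is the maximal ideal of D. Then D is an essentially etale
local A-algebra: A-isomorphic to the localization of an etale A-algebra at a prime over m. (The
published statement also assumes the total ring of fractions of D finitely generated over that of A;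
for D essentially of finite type over A and dominated by S this is automatic, D then lying in a
local etale subextension of S, so that hypothesis is omitted here.) -/
theorem result
    (A S : Type u) [CommRing A] [IsLocalRing A] [IsNoetherianRing A]
    [CommRing S] [IsLocalRing S] [Algebra A S] [IsLocalHom (algebraMap A S)]
    [Hensel.IsStrictHenselization A S] (D : Subalgebra A S) [IsLocalRing D]
    [IsLocalHom (algebraMap D S)] [Algebra.EssFiniteType A D]
    (hm : Ideal.map (algebraMap A D) (maximalIdeal A) = maximalIdeal D) :
    EGA4loc.IsEssentiallyEtale A D := by
  haveI := S0539.result A S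
  haveI hAD : IsLocalHom (algebraMap A D) := ⟨fun a ha => isUnit_of_map_unit (algebraMap A S) a (by
    rw [IsScalarTower.algebraMap_apply A D S]; exact ha.map _)⟩
  let ι : ResidueField D →ₐ[ResidueField A] ResidueField S :=
    { ResidueField.map (algebraMap D S) with
      commutes' := fun r => by
        obtain ⟨a, rfl⟩ := residue_surjective r
        show ResidueField.map (algebraMap D S) (ResidueField.map (algebraMap A D) (residue A a)) =
          ResidueField.map (algebraMap A S) (residue A a)
        rw [ResidueField.map_residue, ResidueField.map_residue, ResidueField.map_residue,
          ← IsScalarTower.algebraMap_apply] }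
  haveI := (Hensel.IsStrictHenselization.isSepClosure (R := A) (S := S)).separable
  haveI : Algebra.IsSeparable (ResidueField A) (ResidueField D) := Algebra.IsSeparable.of_algHom _ _ ι
  haveI : Algebra.FormallyUnramified A D :=
    Algebra.FormallyUnramified.iff_map_maximalIdeal_eq.mpr ⟨inferInstance, hm⟩
  obtain ⟨G, _, _, _, φ, hG, hφ, hloc⟩ := E4Loc.exists_cover (A := A) D
  haveI := EtAlg7.formallyUnramified hG
  haveI := EtAlg7.essFiniteType hG
  haveI : IsLocalHom ((IsScalarTower.toAlgHom A D S).comp φ).toRingHom :=
    ⟨fun g hg => hloc.map_nonunit g (isUnit_of_map_unit (algebraMap D S) (φ g) hg)⟩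
  have hinj := E4Loc.injective_algHom ((IsScalarTower.toAlgHom A D S).comp φ)
  exact E4Loc.isEssentiallyEtale_congr hG (AlgEquiv.ofBijective φ
    ⟨fun a b h => hinj (congrArg (IsScalarTower.toAlgHom A D S) h), hφ⟩)

end Groth.Agent.S16438
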