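import Groth.Statements.S2906
import Groth.Prelude
import Groth.Agent.DescLib.IndQAEff
import Groth.Agent.EtEff48.Canon
import Groth.Agent.AlgSpLib.EtLocalInst

set_option autoImplicit false
set_option backward.isDefEq.respectTransparency false
set_option backward.isDefEq.respectTransparency.types false
open CategoryTheory CategoryTheory.Limits AlgebraicGeometry Opposite
universe u
open SGA1

namespace Groth.Agent.S2906

/-- Let g : S' ⟶ S be flat, surjective and quasi-compact. Then every descent datum relative to g whose
underlying scheme is etale, separated and quasi-compact over S' is isomorphic to the canonical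
descent datum of a scheme etale, separated and quasi-compact over S. (Descent data relative to g are
taken in functor-of-points form.) -/
theorem result {S' S : Scheme.{u}} (g : S' ⟶ S) [Flat g] [Surjective g] [QuasiCompact g]
    (D : Desc.SchDD g) [QuasiCompact D.obj.hom] [IsSeparated D.obj.hom] [Etale D.obj.hom] :
    ∃ U : Over S, QuasiCompact U.hom ∧ IsSeparated U.hom ∧ Etale U.hom ∧ Nonempty ((Desc.toDD g).obj U ≅ D) := by
  obtain ⟨U, ⟨e⟩⟩ := (DescLib.isEffective_ofSchDD_iff g D).1 (DescLib.IndQA.isEffective_of_indQA (fun _ : PUnit.{u + 1} => g)
    (by rw [Presieve.ofArrows_pUnit]; exact g.singleton_mem_fpqcPrecoverage)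
    _ fun _ => haveI : LocallyQuasiFinite D.obj.hom := AlgSpLib.locallyQuasiFinite_of_formallyUnramified _
      MorLib.IQA.indQA_of_locallyQuasiFinite D.obj.hom)
  exact ⟨U, EtEff48.descended_prop g e (@QuasiCompact : MorphismProperty Scheme.{u}) inferInstance,
    EtEff48.descended_prop g e (@IsSeparated : MorphismProperty Scheme.{u}) inferInstance,
    EtEff48.descended_prop g e (@Etale : MorphismProperty Scheme.{u}) inferInstance, ⟨e⟩⟩

end Groth.Agent.S2906
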