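import Groth.Statements.S15997
import Groth.Agent.EtHull69.Basic
import Groth.Agent.S2299

set_option autoImplicit false
open CategoryTheory AlgebraicGeometry
set_option backward.isDefEq.respectTransparency.types false
universe u
open EtHull

namespace Groth.Agent.S15997

/-- Let S be a Noetherian scheme all of whose local rings are geometrically unibranch and whose
structure sheaf has no embedded associated points, and let f : X → S be flat, surjective and of
finite presentation. Call an admissible factorization a factorization X → E → S of f with E → S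
étale and affine and X → E schematically dominant. Then any two admissible factorizations X → E₁ → S
and X → E₂ → S have a supremum: an admissible factorization X → E → S with compatible S-morphisms E
→ E₁ and E → E₂, such that every admissible factorization X → E' → S with compatible S-morphisms E'
→ E₁ and E' → E₂ admits a compatible morphism E' → E. (The source allows X to be an algebraic space;
X is a scheme here.) -/
theorem result {X S : Scheme.{u}} [IsNoetherian S]
    (hS : ∀ s : S, CAlg2.IsGeomUnibranch (S.presheaf.stalk s))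
    (hemb : AssSch.NoEmbedded (Coh.structureModule S))
    (f : X ⟶ S) [Flat f] [Surjective f] [LocallyOfFinitePresentation f] [QuasiCompact f]
    [QuasiSeparated f]
    (E₁ E₂ : Scheme.{u}) (g₁ : E₁ ⟶ S) (g₂ : E₂ ⟶ S) (u₁ : X ⟶ E₁) (u₂ : X ⟶ E₂)
    [Etale g₁] [Etale g₂] [IsAffineHom g₁] [IsAffineHom g₂]
    [IsSchemeTheoreticallyDominant u₁] [IsSchemeTheoreticallyDominant u₂]
    (h₁ : u₁ ≫ g₁ = f) (h₂ : u₂ ≫ g₂ = f) :
    ∃ (E : Scheme.{u}) (g : E ⟶ S) (u : X ⟶ E) (v₁ : E ⟶ E₁) (v₂ : E ⟶ E₂),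
      Etale g ∧ IsAffineHom g ∧ IsSchemeTheoreticallyDominant u ∧ u ≫ g = f ∧
      u ≫ v₁ = u₁ ∧ u ≫ v₂ = u₂ ∧ v₁ ≫ g₁ = g ∧ v₂ ≫ g₂ = g ∧
      ∀ (E' : Scheme.{u}) (g' : E' ⟶ S) (u' : X ⟶ E') (w₁ : E' ⟶ E₁) (w₂ : E' ⟶ E₂),
        Etale g' → IsAffineHom g' → IsSchemeTheoreticallyDominant u' → u' ≫ g' = f →
        u' ≫ w₁ = u₁ → u' ≫ w₂ = u₂ → w₁ ≫ g₁ = g' → w₂ ≫ g₂ = g' →
        ∃ w : E' ⟶ E, u' ≫ w = u ∧ w ≫ v₁ = w₁ ∧ w ≫ v₂ = w₂ := by
  let P := Limits.pullback g₁ g₂
  let gP : P ⟶ S := Limits.pullback.fst g₁ g₂ ≫ g₁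
  let h : X ⟶ P := Limits.pullback.lift u₁ u₂ (h₁.trans h₂.symm)
  have hh : h ≫ gP = f := by
    rw [← Category.assoc, Limits.pullback.lift_fst, h₁]
  have : IsAffineHom (Limits.pullback.fst g₁ g₂) := MorphismProperty.pullback_fst _ _ ‹IsAffineHom g₂›
  have : IsAffineHom gP := MorphismProperty.comp_mem _ _ _ this ‹IsAffineHom g₁›
  have : Etale (Limits.pullback.fst g₁ g₂) := MorphismProperty.pullback_fst _ _ ‹Etale g₂›
  have : Etale gP := MorphismProperty.comp_mem _ _ _ this ‹Etale g₁›
  have : CompactSpace P := QuasiCompact.compactSpace_of_compactSpace gP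
  have : IsLocallyNoetherian P := LocallyOfFiniteType.isLocallyNoetherian gP
  have : Flat (h ≫ gP) := by rwa [hh]
  have : LocallyOfFinitePresentation (h ≫ gP) := by rwa [hh]
  obtain ⟨hfl, hfp⟩ := EtHull69.flat_lfp_of_comp_etale h gP
  obtain ⟨C, h', hC, hsd, hh', -⟩ := EtHull69.exists_clopen hS hemb gP h
  have : IsClosedImmersion C.ι := .of_isPreimmersion _ (by rwa [C.range_ι])
  refine ⟨C, C.ι ≫ gP, h', C.ι ≫ Limits.pullback.fst _ _, C.ι ≫ Limits.pullback.snd _ _, inferInstance,
    inferInstance, hsd, by rw [← Category.assoc, hh', hh],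
    by rw [← Category.assoc, hh', Limits.pullback.lift_fst], by rw [← Category.assoc, hh', Limits.pullback.lift_snd],
    by rw [Category.assoc], by rw [Category.assoc, ← Limits.pullback.condition], ?_⟩
  intro E' g' u' w₁ w₂ hg' hg'a hu' hu'f hw₁ hw₂ hw₁g hw₂g
  let w : E' ⟶ P := Limits.pullback.lift w₁ w₂ (hw₁g.trans hw₂g.symm)
  have huw : u' ≫ w = h := by
    apply Limits.pullback.hom_ext
    · rw [Category.assoc, Limits.pullback.lift_fst, Limits.pullback.lift_fst, hw₁]
    · rw [Category.assoc, Limits.pullback.lift_snd, Limits.pullback.lift_snd, hw₂]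
  have : QuasiCompact (u' ≫ g') := by rwa [hu'f]
  have : QuasiCompact u' := QuasiCompact.of_comp u' g'
  have hr : Set.range w ⊆ (C : Set P) := by
    have hc : IsClosed (w ⁻¹' (C : Set P)) := hC.preimage w.continuous
    have hd : Set.range u' ⊆ w ⁻¹' (C : Set P) := by
      rintro _ ⟨x, rfl⟩
      have e : w (u' x) = C.ι (h' x) :=
        ((Scheme.Hom.comp_apply u' w x).symm.trans (congrArg (fun r : X ⟶ P => r x) (huw.trans hh'.symm))).trans
          (Scheme.Hom.comp_apply _ _ _)
      show w (u' x) ∈ C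
      rw [e]
      exact (h' x).2
    rintro _ ⟨y, rfl⟩
    exact (u'.denseRange.closure_eq.ge.trans (hc.closure_subset_iff.2 hd)) (Set.mem_univ y)
  let l := IsOpenImmersion.lift C.ι w (hr.trans C.range_ι.ge)
  have hl : l ≫ C.ι = w := IsOpenImmersion.lift_fac _ _ _
  refine ⟨l, ?_, by rw [← Category.assoc, hl, Limits.pullback.lift_fst],
    by rw [← Category.assoc, hl, Limits.pullback.lift_snd]⟩
  rw [← cancel_mono C.ι, Category.assoc, hl, huw, hh']

end Groth.Agent.S15997
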