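import Groth.Statements.S0095
import Groth.Agent.EtPBC63.FlatConn
import Groth.Agent.CAlgOdd.GeomIrrField
-- import your own Groth.Agent.* helpers here

set_option autoImplicit false
open CategoryTheory CategoryTheory.Limits AlgebraicGeometry Opposite
universe u
open EtBase

namespace Groth.Agent.S0095

/-- For a scheme over a separably closed field k and a field extension K of k, global sections of an
abelian étale sheaf do not change under base change to K (the source proves this for sheaves of
sets; the abelian case is stated). -/
theorem result {k K : Type u} [Field k] [IsSepClosed k] [Field K] [Algebra k K]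
    {S : Scheme.{u}} (a : S ⟶ Spec (CommRingCat.of k))
    [EtCoh.BCCont (pullback.fst a (Spec.map (CommRingCat.ofHom (algebraMap k K))))]
    (F : EtCoh.Ab S) :
    Function.Bijective (((EtCoh.pullPushAdj
      (pullback.fst a (Spec.map (CommRingCat.ofHom (algebraMap k K))))).unit.app F).hom.app
        (op (EtCoh.top S))) := by
  let g := Spec.map (CommRingCat.ofHom (algebraMap k K))
  have hg : GeometricallyIrreducible g := GeomConn5.geometricallyIrreducible_spec_field k K
    (CAlgOdd.GeomIrrField.separable_mem_range k K)
  haveI : Flat g := by
    rw [HasRingHomProperty.Spec_iff (P := @Flat)]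
    exact RingHom.flat_algebraMap_iff.mpr inferInstance
  haveI : Flat (pullback.fst a g) := MorphismProperty.pullback_fst _ _ ‹Flat g›
  refine EtPBC63.FlatConn.bijective_unit (pullback.fst a g) F fun Ω _ _ s => ?_
  haveI : IrreducibleSpace ↥(pullback g (s ≫ a)) :=
    hg.geometrically_irreducibleSpace _ _ _ (IsPullback.of_hasPullback _ _)
  exact ((pullbackSymmetry (pullback.fst a g) s ≪≫ pullbackRightPullbackFstIso a g s ≪≫
    pullbackSymmetry (s ≫ a) g).hom.homeomorph.connectedSpace_iff).mpr inferInstance

end Groth.Agent.S0095
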