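import Groth.Statements.S8560
import Groth.Agent.EtDerLib.RpushLoc

set_option autoImplicit false
universe u
open CategoryTheory CategoryTheory.Limits AlgebraicGeometry Opposite
open EtAcyc

namespace Groth.Agent.S8560

/-- For the etale sites of schemes and a set of primes L: if f : X ⟶ Y is a quasi-compact and
quasi-separated morphism of schemes and F is an abelian L-torsion sheaf on the small etale site of X
(every section is, etale-locally around each point, killed by a positive integer all of whose prime
factors lie in L), then each higher direct image R^q f_* F is an L-torsion sheaf on Y. (The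
published statement, for topoi, asks only that the morphism be quasi-compact; this row also assumes
f quasi-separated: for the spectrum of a polynomial ring in countably many variables over a
separably closed field glued to a copy of itself along the complement of the origin, and the direct
sum of the skyscraper sheaves ℤ/pⁿ at the points where exactly the n-th variable is 1, the structure
morphism to the field is quasi-compact but H¹ contains a class of infinite order.) -/
theorem result {X Y : Scheme.{u}} (f : X ⟶ Y) [QuasiCompact f] [QuasiSeparated f]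
    [EtCoh.BCCont f] (L : Set ℕ) (F : EtCoh.Ab X) (hF : EtAcyc.IsLTorsion L F) (q : ℕ) :
    EtAcyc.IsLTorsion L ((EtCoh.Rpush f q).obj F) := by
  haveI : (EtCoh.push f).IsRightAdjoint := (EtCoh.pullPushAdj f).isRightAdjoint
  rcases q with _ | q
  · exact (EtDerLib.isLTorsion_of_iso ((EtCoh.push f).rightDerivedZeroIsoSelf.app F)).2
      (EtDerLib.isLTorsion_push f hF)
  refine (EtDerLib.isLTorsion_Rpush_iff f L q F).2 fun V ξ v => ?_
  obtain ⟨O, hO, hvO, -⟩ := exists_isAffineOpen_mem_and_subset (Set.mem_univ v) (U := (⊤ : V.left.Opens))
  let W := EtFound.restrictEtale V O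
  let g : W ⟶ V := EtFound.restrictEtaleHom V O
  haveI : IsAffine O.toScheme := hO
  let p : O.toScheme ⟶ Y := O.ι ≫ V.hom
  haveI hq : QuasiSeparated (pullback.fst p f) :=
    inferInstance
  haveI hc : QuasiCompact (pullback.fst p f) :=
    inferInstance
  let T := (EtCoh.bc f).obj W
  haveI : CompactSpace T.left := @QuasiCompact.compactSpace_of_compactSpace _ _ (pullback.fst p f) hc (isCompact_univ_iff.1 (isAffineOpen_top O.toScheme).isCompact)
  haveI : QuasiSeparatedSpace T.left := @quasiSeparatedSpace_of_quasiSeparated _ _ (pullback.fst p f) (quasiSeparatedSpace_of_isAffine _) hq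
  obtain ⟨m, hm, h0⟩ := @EtDerLib.exists_nsmul_H_eq_zero T.left ‹CompactSpace T.left› ‹QuasiSeparatedSpace T.left› L _ (EtDerLib.isLTorsion_pull T.hom hF) (q + 1)
    (EtDerLib.toH T F (q + 1) (EtDerLib.HTres F (q + 1) ((EtCoh.bc f).map g) ξ))
  refine ⟨W, g, m, ⟨⟨v, hvO⟩, rfl⟩, hm, (EtDerLib.toH_bijective T (q + 1) F).1 ?_⟩
  rw [map_nsmul, h0, map_zero]

end Groth.Agent.S8560
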