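import Groth.Statements.S0227
import Groth.Agent.BrauerXCurve.GmDiscrete
import Groth.Agent.BrauerXCurve.CurveField
import Groth.Agent.BrauerXCurve.Dim1
import Groth.Agent.VarDim.Top
import Groth.Agent.Hensel.Henselization

set_option autoImplicit false
universe u
open CategoryTheory CategoryTheory.Limits AlgebraicGeometry
open Curves

namespace Groth.Agent.S0227

/-- On a smooth curve over an algebraically closed field the étale cohomology of G_m vanishes from
degree two on. -/
theorem result (k : Type u) [Field k] [IsAlgClosed k] (X : Scheme.{u}) (f : X ⟶ Spec (CommRingCat.of k))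
    [Smooth f] [IsSeparated f] [LocallyOfFiniteType f] [QuasiCompact f] [IsIntegral X]
    (hdim : topologicalKrullDim X = 1) (q : ℕ) (hq : 2 ≤ q) :
    Subsingleton (EtCoh.H X (EtCoh.Gm X) q) := by
  classical
  obtain ⟨n, rfl⟩ : ∃ n, q = n + 2 := ⟨q - 2, by omega⟩
  have : IsLocallyNoetherian X := LocallyOfFiniteType.isLocallyNoetherian f
  have : CompactSpace X := QuasiCompact.compactSpace_of_compactSpace f
  have : AlgebraicGeometry.IsNoetherian X := { }
  have : X.IsSeparated := ⟨by rw [← terminal.comp_from f]; infer_instance⟩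
  have hdim' : topologicalKrullDim X ≤ 1 := hdim.le
  have hsep : ∀ x : X, IsClosed ({x} : Set X) → IsSepClosed (X.residueField x) := fun x hx =>
    Hensel.isSepClosed_of_ringEquiv (residueFieldIsoBase f x hx).symm.commRingCatIsoToRingEquiv
  refine subsingleton_of_forall_eq 0 fun ξ => ?_
  obtain ⟨N, hN, hξ⟩ := BrauerXCurve.exists_kill (⊥ : Submonoid ℕ)
    (fun x : BrauerXCurve.MaxPts X => EtLim.GmPush (X.fromSpecStalk x.1)) (n + 1)
    (BrauerXCurve.killedBy_bot_iff.2 (BrauerXCurve.subsingleton_H_supp_closedPoints hsep _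
      (BrauerXCurve.isClosed_of_mem_supp_kernel hdim') (n + 1)))
    (BrauerXCurve.killedBy_bot_iff.2 (BrauerXCurve.subsingleton_H_supp_closedPoints hsep _
      (BrauerXCurve.isClosed_of_mem_supp_cokernel hdim') n)) ξ
    (fun x => ⟨1, one_mem _, by
      have hsub : Subsingleton (EtCoh.H X (BrauerXCurve.comp X x) (n + 1 + 1)) := by
        obtain ⟨x, hx⟩ := x
        obtain rfl : x = genericPoint X :=
          (hx _ ((genericPoint_spec X).specializes (Set.mem_univ x))).symm
        letI : Field (X.presheaf.stalk (genericPoint X)) := inferInstanceAs (Field X.functionField)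
        exact BrauerXCurve.subsingleton_H_push_Gm (K := X.presheaf.stalk (genericPoint X))
          (X.fromSpecStalk (genericPoint X)) (BrauerXCurve.isCi_functionField f hdim) (n + 1)
      exact (one_smul ℕ _).trans (@Subsingleton.elim _ hsub _ _)⟩)
  rw [Submonoid.mem_bot.1 hN, one_smul] at hξ
  exact hξ

end Groth.Agent.S0227
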