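import Groth.Statements.S1262
import Groth.Agent.RGCore.FlatAtPoint
-- import your own Groth.Agent.* helpers here

set_option autoImplicit false
universe u
open FlatMor

namespace Groth.Agent.S1262

/-- Ring form, X = Spec S affine: let S be a finite type R-algebra, N a finite S-module and p a prime of
R. Then the set of points x of the fibre Spec(κ(p) ⊗ S) such that N is flat over R at the prime of S
under x is open in the fibre. -/
theorem result {R S : Type u} [CommRing R] [CommRing S] [Algebra R S] [Algebra.FiniteType R S]
    (N : Type u) [AddCommGroup N] [Module S N] [Module R N] [IsScalarTower R S N] [Module.Finite S N]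
    (p : Ideal R) [p.IsPrime] :
    IsOpen {x : PrimeSpectrum (p.Fiber S) |
      FlatCA.FlatAt R (x.asIdeal.comap (Algebra.TensorProduct.includeRight (R := R) (A := p.ResidueField) (B := S)).toRingHom) N} := by
  classical
  have : IsNoetherianRing (p.Fiber S) := Algebra.FiniteType.isNoetherianRing p.ResidueField _
  let : Algebra S (p.Fiber S) := Algebra.TensorProduct.rightAlgebra
  have : Module.Finite (p.Fiber S) (FlatCA.fiberMod p S N) :=
    inferInstanceAs (Module.Finite (p.Fiber S) (TensorProduct S (p.Fiber S) N))
  let ι := (Algebra.TensorProduct.includeRight (R := R) (A := p.ResidueField) (B := S)).toRingHom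
  have hover : ∀ x : PrimeSpectrum (p.Fiber S), (x.asIdeal.comap ι).LiesOver p := fun x => ⟨by
    have hc : (x.asIdeal.comap ι).comap (algebraMap R S) =
        (x.asIdeal.comap (algebraMap p.ResidueField (p.Fiber S))).comap (algebraMap R p.ResidueField) := by
      rw [Ideal.comap_comap, Ideal.comap_comap, ← IsScalarTower.algebraMap_eq]
      congr 1
      ext r
      exact (Algebra.TensorProduct.includeRight (R := R) (A := p.ResidueField) (B := S)).commutes r
    rw [Ideal.under_def, hc, (Ideal.eq_bot_or_top _).resolve_right (Ideal.IsPrime.comap _).ne_top]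
    ext r
    exact Ideal.algebraMap_residueField_eq_zero.symm.trans (Ideal.mem_bot).symm⟩
  let bad : Set (Ideal (p.Fiber S)) :=
    {J | J ∈ associatedPrimes (p.Fiber S) (FlatCA.fiberMod p S N) ∧
      ∀ _ : (J.comap ι).IsPrime, ¬ FlatCA.FlatAt R (J.comap ι) N}
  have hfin : bad.Finite := (associatedPrimes.finite (p.Fiber S) (FlatCA.fiberMod p S N)).subset fun J h => h.1
  rw [← isClosed_compl_iff]
  convert hfin.isClosed_biUnion fun J _ => PrimeSpectrum.isClosed_zeroLocus (J : Set (p.Fiber S)) using 1
  ext x
  simp only [Set.mem_compl_iff, Set.mem_ofPred_eq, Set.mem_iUnion, exists_prop, PrimeSpectrum.mem_zeroLocus,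
    SetLike.coe_subset_coe]
  have := hover x
  constructor
  · intro hx
    by_contra hne
    refine hx (RGCore.flatAt_of_assoc N p (x.asIdeal.comap ι) fun q' _ hle _ hass => ?_)
    by_contra hq'
    refine hne ⟨FlatCA.fiberIdeal p q', ⟨hass, fun hp h' => hq' (@RGCore.flatAt_of_le _ _ _ _ _ N _ _ _ _ _ _ hp _ Ideal.le_comap_map h')⟩, ?_⟩
    exact Ideal.map_le_iff_le_comap.2 hle
  · rintro ⟨J, ⟨hass, hbad⟩, hJx⟩ hx
    have : J.IsPrime := hass.isPrime
    exact hbad inferInstance (RGCore.flatAt_of_le N (Ideal.comap_mono hJx) hx)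
end Groth.Agent.S1262
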