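import Groth.Statements.S17102
import Groth.Agent.H44LogNCD.Basic
import Groth.Agent.RelTildeX.SheafCrit

set_option autoImplicit false
universe u
open CategoryTheory CategoryTheory.Limits AlgebraicGeometry
open LogNCD
set_option linter.style.haveILetI false

namespace Groth.Agent.S17102

/-- Let f : X → S be smooth, (Ω', d) a universal receptacle for the differentials of X over S, D = (D_1,
…, D_r) a relative strict normal crossing divisor and Ω¹(log D) the pinned sheaf of differentials
with logarithmic poles, with its inclusion ι of Ω' and residues res_j : Ω¹(log D) → O_{D_j}. Then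
the residue sequence 0 → Ω' → Ω¹(log D) → ⊕_{j} O_{D_j} → 0, whose second map is the map into the
product (a finite direct sum) with components res_j, is a short exact sequence of O_X-modules. The
argument h, the vanishing of the composite, holds since every res_j ∘ ι vanishes; it is an argument
only so that the short complex can be formed. (Stated relative to an arbitrary base; the published
statement is over an algebraically closed field.) -/
theorem result {X S : Scheme.{u}} (f : X ⟶ S) [Smooth f]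
    {Ω' : X.Modules} (d : OmegaSh.Der f Ω') (hd : OmegaSh.IsUniversal d)
    {r : ℕ} (D : Fin r → X.IdealSheafData) (hD : LogNCD.IsNCD D f) (Λ : LogNCD.LogMod d D)
    (h : Λ.ι ≫ Pi.lift Λ.res = 0) :
    (ShortComplex.mk Λ.ι (Pi.lift Λ.res) h).ShortExact := by
  haveI : Mono Λ.ι := Λ.mono
  classical
  let inj : ∀ i : Fin r, ClSub.quotMod (D i) ⟶ ∏ᶜ fun i => ClSub.quotMod (D i) :=
    fun i => Pi.lift fun j => if hij : i = j then eqToHom (by rw [hij]) else 0
  have hid : 𝟙 (∏ᶜ fun i => ClSub.quotMod (D i)) = ∑ i, Pi.π (fun i => ClSub.quotMod (D i)) i ≫ inj i := by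
    refine Limits.Pi.hom_ext _ _ fun j => ?_
    rw [Category.id_comp, Preadditive.sum_comp, Finset.sum_eq_single j]
    · simp [inj]
    · intro i _ hij; simp [inj, hij]
    · simp
  have hjoint : ∀ (V : X.Opens) (s : Γ(∏ᶜ fun i => ClSub.quotMod (D i), V)),
      (∀ i, (Pi.π (fun i => ClSub.quotMod (D i)) i).app V s = 0) → s = 0 := by
    intro V s hs
    let G : ((∏ᶜ fun i => ClSub.quotMod (D i)) ⟶ ∏ᶜ fun i => ClSub.quotMod (D i)) →+
        Γ(∏ᶜ fun i => ClSub.quotMod (D i), V) :=
      AddMonoidHom.mk' (fun φ => φ.app V s) fun _ _ => rfl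
    calc s = G (𝟙 _) := rfl
      _ = ∑ i, G (Pi.π (fun i => ClSub.quotMod (D i)) i ≫ inj i) := by rw [hid, map_sum]
      _ = 0 := Finset.sum_eq_zero fun i _ => by
        show (inj i).app V ((Pi.π (fun i => ClSub.quotMod (D i)) i).app V s) = 0
        rw [hs, map_zero]
  have hproj : ∀ (V : X.Opens) (z : Γ(Λ.L, V)) (i : Fin r),
      (Pi.π (fun i => ClSub.quotMod (D i)) i).app V ((Pi.lift Λ.res).app V z) = (Λ.res i).app V z :=
    fun V z i => congrArg (fun φ : Λ.L ⟶ ClSub.quotMod (D i) => φ.app V z) (Pi.lift_π Λ.res i)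
  refine ShortComplex.ShortExact.mk' (RelTildeX.exact_of_locally _ fun U s hs x hx => ?_) ‹_› ?_
  · obtain ⟨V, g, hxV, hVU, hg⟩ := H44LogNCD.exists_principal D f hD hx
    obtain ⟨-, dl, hdl, hgen, hres⟩ := H44LogNCD.rule' Λ hg
    obtain ⟨ω, c, hz⟩ := hgen (Λ.L.presheaf.map (homOfLE hVU).op s)
    have hc : ∀ i, c i ∈ (D i).ideal V := fun i => by
      rw [← H44LogNCD.toSubscheme_eq_zero_iff, ← H44LogNCD.res_sum Λ hres ω c i, ← hz,
        QCoh.map_app_comm, ← hproj U s i, show (Pi.lift Λ.res).app U s = 0 from hs, map_zero, map_zero]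
    have hc' : ∀ i, ∃ b, b * g i = c i := fun i => Ideal.mem_span_singleton'.1 (hg i ▸ hc i)
    choose b hb using hc'
    refine ⟨V.1, hVU, hxV, ω + ∑ i, b i • d.app V.1 (g i), ?_⟩
    show Λ.ι.app V.1 _ = _
    rw [hz, map_add, map_sum]
    congr 1
    refine Finset.sum_congr rfl fun i _ => ?_
    rw [Scheme.Modules.Hom.app_smul, ← hdl, smul_smul, hb]
  · exact RelTildeX.epi_of_locally _ fun U s x hx => by
      obtain ⟨V, g, hxV, hVU, hg⟩ := H44LogNCD.exists_principal D f hD hx
      obtain ⟨-, dl, -, -, hres⟩ := H44LogNCD.rule' Λ hg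
      choose c hc using fun i => H44LogNCD.toSubscheme_surjective (D i) V
        ((Pi.π (fun i => ClSub.quotMod (D i)) i).app V.1
          ((∏ᶜ fun i => ClSub.quotMod (D i)).presheaf.map (homOfLE hVU).op s))
      refine ⟨V.1, hVU, hxV, Λ.ι.app V.1 0 + ∑ i, (show Γ(X, V.1) from c i) • dl i, sub_eq_zero.1 (hjoint _ _ fun i => ?_)⟩
      rw [map_sub]
      exact sub_eq_zero.2 ((hproj _ _ i).trans ((H44LogNCD.res_sum Λ hres 0 c i).trans (hc i)))

end Groth.Agent.S17102
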