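import Groth.Statements.S19416
import Groth.Agent.IntMultLib.DiagReg
import Groth.Agent.FDescent.MaxPoint
import Groth.Agent.BMLib.Piece

set_option autoImplicit false
set_option linter.style.haveILetI false
set_option backward.isDefEq.respectTransparency.types false
universe u
open CategoryTheory CategoryTheory.Limits AlgebraicGeometry
open IntMult

namespace Groth.Agent.S19416

/-- Let k be a field and X a smooth variety over k (the structure morphism X → Spec k smooth, separated
and quasi-compact, X integral) of dimension n, and let V, W ⊆ X be closed irreducible subsets of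
dimensions r and s. Then every irreducible component Z of V ∩ W has dimension at least r + s − n,
stated as r + s ≤ dim Z + n with Krull dimensions of the subspaces; equivalently the codimension of
Z is at most the sum of the codimensions of V and W. The base field is arbitrary here; the same
statement over an algebraically closed field is the classical dimension count for intersections on a
nonsingular variety. -/
theorem exists_integral_closed (k : Type u) [Field k] (X : Scheme.{u})
    (f : X ⟶ Spec (CommRingCat.of k)) [LocallyOfFiniteType f] (V : Set X) (hVc : IsClosed V)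
    (hVi : IsIrreducible V) (r : ℕ) (hr : topologicalKrullDim ↥V = r) :
    ∃ (Y : Scheme.{u}) (j : Y ⟶ X), IsClosedImmersion j ∧ IsIntegral Y ∧ Set.range j = V ∧
      ∀ η : Y, (∀ y, y ⤳ η → y = η) → VarDim.deg (j ≫ f) η = r := by
  let I := Scheme.IdealSheafData.vanishingIdeal ⟨V, hVc⟩
  have hrange : Set.range I.subschemeι = V := by
    rw [Scheme.IdealSheafData.range_subschemeι, Scheme.IdealSheafData.coe_support_vanishingIdeal]
    rfl
  let e : I.subscheme ≃ₜ V := I.subschemeι.isEmbedding.toHomeomorph.trans (Homeomorph.setCongr hrange)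
  haveI : IrreducibleSpace ↥V := Subtype.irreducibleSpace hVi
  haveI : IrreducibleSpace I.subscheme := e.irreducibleSpace_iff.2 inferInstance
  haveI : IsReduced I.subscheme := BMLib.isReduced_vanishingIdeal_subscheme _
  haveI : IsIntegral I.subscheme := isIntegral_of_irreducibleSpace_of_isReduced _
  refine ⟨I.subscheme, I.subschemeι, inferInstance, inferInstance, hrange, fun η hη => ?_⟩
  rw [hη _ (genericPoint_specializes η) |>.symm]
  exact IntMultLib.deg_genericPoint_eq _ ((IsHomeomorph.topologicalKrullDim_eq e e.isHomeomorph).trans hr)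

theorem result (k : Type u) [Field k] (X : Scheme.{u})
    (f : X ⟶ Spec (CommRingCat.of k)) [Smooth f] [IsSeparated f] [QuasiCompact f] [IsIntegral X]
    (n r s : ℕ) (hn : topologicalKrullDim X = n) (V W : Set X) (hVc : IsClosed V)
    (hVi : IsIrreducible V) (hWc : IsClosed W) (hWi : IsIrreducible W)
    (hr : topologicalKrullDim ↥V = r) (hs : topologicalKrullDim ↥W = s) (Z : Set ↥(V ∩ W))
    (hZ : Z ∈ irreducibleComponents ↥(V ∩ W)) :
    ((r + s : ℕ) : WithBot ℕ∞) ≤ topologicalKrullDim ↥Z + n := by
  haveI : QuasiSober X := inferInstance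
  haveI : QuasiSober ↥(V ∩ W) := (hVc.inter hWc).isClosedEmbedding_subtypeVal.quasiSober
  obtain ⟨ζ, rfl, hζ⟩ := FDescent.exists_maximal_of_mem_irreducibleComponents hZ
  obtain ⟨Y₁, j, _, _, hj, hdj⟩ := exists_integral_closed k X f V hVc hVi r hr
  obtain ⟨Y₂, l, _, _, hl, hdl⟩ := exists_integral_closed k X f W hWc hWi s hs
  obtain ⟨v, hv⟩ : ζ.1 ∈ Set.range j := hj ▸ ζ.2.1
  obtain ⟨w, hw⟩ : ζ.1 ∈ Set.range l := hl ▸ ζ.2.2
  -- a point of `Y₁ ×_X Y₂` over `ζ`
  have hdiag := IntMultLib.diagonal_regular f (IntMultLib.deg_genericPoint_eq f hn)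
  let ι : pullback (j ≫ f) (l ≫ f) ⟶ pullback f f :=
    pullback.map _ _ f f j l (𝟙 _) (by simp) (by simp)
  haveI : IsClosedImmersion ι :=
    MorphismProperty.pullback_map (P := @IsClosedImmersion.{u}) inferInstance inferInstance (by simp) (by simp)
  have hmem : (pullback.diagonal f) ζ.1 ∈ Set.range ι := by
    rw [Scheme.Pullback.range_map]
    refine ⟨?_, ?_⟩
    · exact ⟨v, by rw [hv, ← Scheme.Hom.comp_apply, pullback.diagonal_fst]; rfl⟩
    · exact ⟨w, by rw [hw, ← Scheme.Hom.comp_apply, pullback.diagonal_snd]; rfl⟩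
  obtain ⟨y, hy⟩ := hmem
  obtain ⟨t, ht₁, ht₂⟩ := Scheme.Pullback.exists_preimage_pullback ζ.1 y hy.symm
  have himg : ∀ t' : ↥(pullback (pullback.diagonal f) ι),
      pullback.fst (pullback.diagonal f) ι t' ∈ V ∩ W := by
    intro t'
    have h1 : pullback.fst (pullback.diagonal f) ι =
        pullback.snd (pullback.diagonal f) ι ≫ pullback.fst (j ≫ f) (l ≫ f) ≫ j := by
      have := congr($(pullback.condition (f := pullback.diagonal f) (g := ι)) ≫ pullback.fst f f)
      simpa [ι, pullback.map, Category.assoc, pullback.lift_fst, pullback.lift_snd] using this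
    have h2 : pullback.fst (pullback.diagonal f) ι =
        pullback.snd (pullback.diagonal f) ι ≫ pullback.snd (j ≫ f) (l ≫ f) ≫ l := by
      have := congr($(pullback.condition (f := pullback.diagonal f) (g := ι)) ≫ pullback.snd f f)
      simpa [ι, pullback.map, Category.assoc, pullback.lift_fst, pullback.lift_snd] using this
    constructor
    · rw [h1, ← hj]; exact ⟨_, rfl⟩
    · rw [h2, ← hl]; exact ⟨_, rfl⟩
  have htmax : ∀ t', t' ⤳ t → t' = t := fun t' ht' => by
    have h := hζ ⟨_, himg t'⟩ (Topology.IsInducing.subtypeVal.specializes_iff.1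
      (show pullback.fst (pullback.diagonal f) ι t' ⤳ ζ.1 from ht₁ ▸ ht'.map (Scheme.Hom.continuous _)))
    refine (pullback.fst (pullback.diagonal f) ι).isEmbedding.injective ?_
    rw [ht₁]
    exact congrArg Subtype.val h
  have h := IntMultLib.le_deg_add_of_regularImmersion (pullback.diagonal f) n hdiag ι
    (pullback.fst f f ≫ f) t htmax (D := r + s) fun η hη => by
      rw [VarDim.deg_congr (show ι ≫ pullback.fst f f ≫ f = pullback.fst (j ≫ f) (l ≫ f) ≫ j ≫ f by
          simp [ι, pullback.map, pullback.lift_fst_assoc]), IntMultLib.deg_maximal_pullback (j ≫ f) (l ≫ f) η hη,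
        hdj _ fun y hy => ((genericPoint_specializes y).antisymm hy).eq.symm,
        hdl _ fun y hy => ((genericPoint_specializes y).antisymm hy).eq.symm]
  have hdeg : VarDim.deg (pullback.snd (pullback.diagonal f) ι ≫ ι ≫ pullback.fst f f ≫ f) t =
      VarDim.deg f ζ.1 := by
    rw [VarDim.deg_congr (show pullback.snd (pullback.diagonal f) ι ≫ ι ≫ pullback.fst f f ≫ f =
      pullback.fst (pullback.diagonal f) ι ≫ f by
        rw [← pullback.condition_assoc, pullback.diagonal_fst_assoc]),
      IntMultLib.deg_immersion, ht₁]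
  rw [hdeg] at h
  have hcl : topologicalKrullDim ↥(closure ({ζ} : Set ↥(V ∩ W))) =
      ((VarDim.deg f ζ.1 : ℕ∞) : WithBot ℕ∞) := by
    rw [← VarDim.topologicalKrullDim_closure_singleton f ζ.1]
    have hsub : Subtype.val '' closure ({ζ} : Set ↥(V ∩ W)) = closure {ζ.1} := by
      rw [← ((hVc.inter hWc).isClosedEmbedding_subtypeVal).closure_image_eq, Set.image_singleton]
    exact IsHomeomorph.topologicalKrullDim_eq _
      (Topology.IsEmbedding.subtypeVal.homeomorphImage _ |>.trans (Homeomorph.setCongr hsub)).isHomeomorph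
  rw [hcl]
  exact_mod_cast h

end Groth.Agent.S19416
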