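import Groth.Agent.GrpSchLib.HomUnitLocus
import Groth.Agent.GrpSchLib.MultTypeComm
import Groth.Agent.GrpSchLib.MultTypeBC
import Groth.Agent.MultTransp18.LocAffine
import Groth.Agent.MultTransp18.Bridge
import Groth.Agent.AlgGrpH24.Cover

/-!
# Families of endomorphisms of a group of multiplicative type over a group with connected fibres are constant
-/

universe u

open CategoryTheory CategoryTheory.Limits MonoidalCategory CartesianMonoidalCategory MonObj AlgebraicGeometry
open Groth.Agent.GrpSchLib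

set_option backward.isDefEq.respectTransparency false

namespace Groth.Agent.MultTypeRigid18

theorem isMonHom_of_map_mul {E : Type*} [Category E] [CartesianMonoidalCategory E] {M N : E} [GrpObj M] [GrpObj N]
    (f : M ⟶ N) (h : ∀ (T : E) (a b : T ⟶ M), (a * b) ≫ f = (a ≫ f) * (b ≫ f)) : IsMonHom f := by
  have h1 : (1 : 𝟙_ E ⟶ M) ≫ f = 1 := by
    have := h _ (1 : 𝟙_ E ⟶ M) 1
    rw [_root_.one_mul] at this
    exact mul_eq_left.mp this.symm
  refine { one_hom := ?_, mul_hom := ?_ }
  · simpa only [Hom.one_def, toUnit_unique (toUnit (𝟙_ E)) (𝟙 _), Category.id_comp] using h1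
  · have := h _ (fst M M) (snd M M)
    simp only [Hom.mul_def, lift_fst_snd, Category.id_comp] at this
    rw [this]
    congr 1
    ext <;> simp

variable {S : Scheme.{u}} {H U : Over S} [GrpObj H] [GrpObj U]

set_option maxHeartbeats 1000000 in
/-- A family of endomorphisms parametrised by a group with connected fibres is trivial if it is so at the unit. -/
theorem family_eq_one (hH : SGA3x.IsMultTypeFT H) (hU : ∀ s : S, _root_.IsConnected (U.hom.base ⁻¹' {s}))
    (d : H ⊗ U ⟶ H)
    (hd : ∀ (X : Over S) (a b : X ⟶ H) (t : X ⟶ U), lift (a * b) t ≫ d = (lift a t ≫ d) * (lift b t ≫ d))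
    (h1 : ∀ (X : Over S) (a : X ⟶ H), lift a (1 : X ⟶ U) ≫ d = 1) : d = 1 := by
  let W : Scheme.{u} := U.left
  let g : W ⟶ S := U.hom
  let H' : Over W := Red.bc g H
  have hH' : SGA3x.IsMultTypeFT H' := MultTypeBC.isMultTypeFT_bc g hH
  -- read the family over the base `W`
  let str : ∀ Y : Over W, (Over.map g).obj Y ⟶ U := fun Y => Over.homMk Y.hom rfl
  obtain ⟨v, hv⟩ := (DSPtsLib.theta_bijective (H := H) g).2 (lift (DSPtsLib.theta g (𝟙 H')) (str H') ≫ d)
  have hpt : ∀ (Y : Over W) (y : Y ⟶ H'),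
      DSPtsLib.theta g (y ≫ v) = lift (DSPtsLib.theta g y) (str Y) ≫ d := fun Y y => by
    rw [DSPtsLib.theta_comp, hv, ← Category.assoc, comp_lift, ← DSPtsLib.theta_comp, Category.comp_id]
    congr 2
    exact Over.OverMorphism.ext (Over.w y)
  haveI : IsMonHom v := isMonHom_of_map_mul v fun Y a b => (DSPtsLib.theta_bijective (H := H) g).1 (by
    rw [hpt, DSPtsLib.theta_mul, DSPtsLib.theta_mul, hd, hpt, hpt])
  haveI : IsAffineHom H'.hom := MultTransp18.isAffineHom_of_locDiag (MultTransp18.locDiag_of_multTypeFT hH')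
  obtain ⟨V, hVc, hV, hVU⟩ := HomUnitLocus.main (u := v) hH' (Or.inr (MultTypeLft.lft hH'))
  -- the unit lies in the good locus
  let e : 𝟙_ (Over S) ⟶ U := 1
  let ε : S ⟶ W := e.left
  have hε : HomUnitLocus.Triv v ε := fun Y q y => by
    refine (DSPtsLib.theta_bijective (H := H) g).1 ?_
    rw [hpt, HomUnitLocus.theta_one]
    let q' : (Over.map g).obj Y ⟶ 𝟙_ (Over S) := toUnit _
    have hq : str Y = q' ≫ e := Over.OverMorphism.ext (by
      show Y.hom = q'.left ≫ ε
      rw [show q'.left = Y.hom ≫ g from rfl, ← Over.w q]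
      show q.left ≫ ε = ((q.left ≫ ε) ≫ g) ≫ ε
      rw [show (q.left ≫ ε) ≫ g = q.left from (Category.assoc _ _ _).trans ((congrArg (q.left ≫ ·) (Over.w e)).trans
        (Category.comp_id _))])
    rw [hq, MonObj.comp_one]
    exact h1 _ _
  have hmem : ∀ s : S, ε s ∈ V := fun s => by
    rw [hV]
    have h := (HomUnitLocus.triv_iff_of_field (S.fromSpecResidueField s ≫ ε)).mp (hε.comp _)
    erw [Scheme.Hom.comp_apply, Scheme.fromSpecResidueField_apply] at h
    exact h
  have htop : V = ⊤ := by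
    refine TopologicalSpace.Opens.ext (Set.eq_univ_of_forall fun x => ?_)
    have hes : g (ε (g x)) = g x := by
      rw [← Scheme.Hom.comp_apply]
      exact congrArg (fun m : S ⟶ S => m (g x)) (Over.w e)
    exact (hU (g x)).isPreconnected.subset_isClopen ⟨hVc, V.2⟩ ⟨ε (g x), hes, hmem _⟩ (show x ∈ g.base ⁻¹' {g x} from rfl)
  subst htop
  -- everywhere
  have hv1 : v = 1 := hVU H' (Over.homMk (IsOpenImmersion.lift (⊤ : W.Opens).ι H'.hom (by simp [Scheme.Opens.range_ι]))
    (IsOpenImmersion.lift_fac _ _ _)) (𝟙 _) |> (Category.id_comp v).symm.trans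
  refine hom_ext_of_points d 1 fun X a t => ?_
  let Y : Over W := Over.mk t.left
  let e₁ : X ⟶ (Over.map g).obj Y := Over.homMk (𝟙 _) ((Category.id_comp _).trans (Over.w t))
  let e₂ : (Over.map g).obj Y ⟶ X := Over.homMk (𝟙 _) ((Category.id_comp _).trans (Over.w t).symm)
  have hee : e₁ ≫ e₂ = 𝟙 _ := Over.OverMorphism.ext (Category.id_comp _)
  obtain ⟨y, hy⟩ := (DSPtsLib.theta_bijective (H := H) g).2 (e₂ ≫ a : (Over.map g).obj Y ⟶ H)
  have h := hpt Y y
  rw [hv1, MonObj.comp_one, HomUnitLocus.theta_one, hy] at h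
  have ht : e₁ ≫ str Y = t := Over.OverMorphism.ext (Category.id_comp _)
  rw [MonObj.comp_one, show lift a t = e₁ ≫ lift (e₂ ≫ a) (str Y) by
    rw [comp_lift, ht, reassoc_of% hee], Category.assoc, ← h, MonObj.comp_one]
where
  hom_ext_of_points (f f' : H ⊗ U ⟶ H)
      (h : ∀ (X : Over S) (a : X ⟶ H) (t : X ⟶ U), lift a t ≫ f = lift a t ≫ f') : f = f' := by
    have := h _ (fst H U) (snd H U)
    simpa only [lift_fst_snd, Category.id_comp] using this

end Groth.Agent.MultTypeRigid18
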