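import Groth.Statements.S0262
import Groth.Agent.P1Glue.Completion

set_option autoImplicit false
universe u
open Pi1

namespace Groth.Agent.S0262

open AlgebraicGeometry CategoryTheory CategoryTheory.Limits in
/-- Let A be a Noetherian local ring with completion A^, U the punctured spectrum of A and U' its base
change to Spec A^. A finite etale cover V of U is the restriction of a finite etale cover of Spec A
if and only if the base change of V to U' is the restriction of a finite etale cover of Spec A^. -/
theorem result (A : Type u) [CommRing A] [IsNoetherianRing A] [IsLocalRing A]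
    (V : FEt.Cat (FEt.puncturedSpec A : Scheme.{u})) :
    (∃ Y : FEt.Cat (Spec (CommRingCat.of A)),
      Nonempty ((FEt.restrict (FEt.puncturedSpec A).ι).obj Y ≅ V)) ↔
    (∃ Y' : FEt.Cat (Spec (CommRingCat.of (AdicCompletion (IsLocalRing.maximalIdeal A) A))),
      Nonempty ((FEt.restrict (pullback.snd (FEt.puncturedSpec A).ι
        (Spec.map (CommRingCat.ofHom
          (algebraMap A (AdicCompletion (IsLocalRing.maximalIdeal A) A)))))).obj Y' ≅
        (FEt.restrict (pullback.fst (FEt.puncturedSpec A).ι
        (Spec.map (CommRingCat.ofHom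
          (algebraMap A (AdicCompletion (IsLocalRing.maximalIdeal A) A)))))).obj V)) := by
  constructor
  · rintro ⟨Y, ⟨e⟩⟩
    let p₁ := pullback.fst (FEt.puncturedSpec A).ι (Spec.map (CommRingCat.ofHom
      (algebraMap A (AdicCompletion (IsLocalRing.maximalIdeal A) A))))
    exact ⟨(FEt.restrict (Spec.map (CommRingCat.ofHom
      (algebraMap A (AdicCompletion (IsLocalRing.maximalIdeal A) A))))).obj Y,
      ⟨(P1Glue.compIso _ _ _ rfl Y).symm ≪≫
        P1Glue.compIso p₁ (FEt.puncturedSpec A).ι _ pullback.condition.symm Y ≪≫ (FEt.restrict p₁).mapIso e⟩⟩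
  · rintro ⟨Y', ⟨e⟩⟩
    haveI : Module.FaithfullyFlat A (AdicCompletion (IsLocalRing.maximalIdeal A) A) :=
      Groth.Agent.LC.Canon.faithfullyFlat_completion
    exact P1Glue.exists_extension (P1Glue.completion_dense A) (P1Glue.completion_jac A) V Y' e

end Groth.Agent.S0262
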