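import Groth.Statements.S4523
import Mathlib
import Groth.Agent.E4Basics.Prime
import Groth.Agent.EGA41Lib.FieldFS
import Groth.Agent.PBasisLib.Extend
import Groth.Agent.S2484

set_option autoImplicit false
universe u
open EGA41 TensorProduct

namespace Groth.Agent.S4523

/-- Let k ⊆ K be fields. Then K is a separable extension of k if and only if the imperfection module
Υ_{K/k} vanishes, i.e. the canonical map Ω_{k/ℤ} ⊗_k K → Ω_{K/ℤ} is injective, and if and only if
every derivation of k into K extends to a derivation of K into itself. (No hypothesis on the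
characteristic.) -/
theorem result {k K : Type u} [Field k] [Field K] [Algebra k K] :
    (Algebra.IsGeometricallyReduced k K ↔ EGA41.imperfection ℤ k K = ⊥) ∧
    (Algebra.IsGeometricallyReduced k K ↔
      ∀ D : Derivation ℤ k K, ∃ D' : Derivation ℤ K K, ∀ a : k, D' (algebraMap k K a) = D a) := by
  have hiff : EGA41.imperfection ℤ k K = ⊥ ↔ Function.Injective (KaehlerDifferential.mapBaseChange ℤ k K) :=
    LinearMap.ker_eq_bot
  have hext : Function.Injective (KaehlerDifferential.mapBaseChange ℤ k K) →
      ∀ D : Derivation ℤ k K, ∃ D' : Derivation ℤ K K, ∀ a : k, D' (algebraMap k K a) = D a := by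
    intro hinj D
    obtain ⟨σ, hσ⟩ := LinearMap.exists_leftInverse_of_injective (KaehlerDifferential.mapBaseChange ℤ k K)
      (LinearMap.ker_eq_bot.2 hinj)
    let φ : K ⊗[k] Ω[k⁄ℤ] →ₗ[K] K := LinearMap.liftBaseChange K D.liftKaehlerDifferential
    refine ⟨(φ.comp σ).compDer (KaehlerDifferential.D ℤ K), fun a => ?_⟩
    have h1 : KaehlerDifferential.mapBaseChange ℤ k K ((1 : K) ⊗ₜ KaehlerDifferential.D ℤ k a) =
        KaehlerDifferential.D ℤ K (algebraMap k K a) := by
      rw [KaehlerDifferential.mapBaseChange_tmul, KaehlerDifferential.map_D, one_smul]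
    show φ (σ (KaehlerDifferential.D ℤ K (algebraMap k K a))) = D a
    rw [← h1, show σ _ = _ from LinearMap.congr_fun hσ _]
    simp [φ, Derivation.liftKaehlerDifferential_comp_D]
  have hsep : (∀ D : Derivation ℤ k K, ∃ D' : Derivation ℤ K K, ∀ a : k, D' (algebraMap k K a) = D a) →
      Algebra.IsGeometricallyReduced k K := by
    intro h
    let F : Subfield k := ⊥
    haveI : PerfectField F := Groth.Agent.E4Basics.perfectField_bot k
    haveI : IsScalarTower F k K := IsScalarTower.of_algebraMap_eq fun _ => rfl
    have hinj : Function.Injective (KaehlerDifferential.mapBaseChange F k K) := by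
      refine Groth.Agent.PBasisLib.injective_mapBaseChange_of_extends fun D => ?_
      obtain ⟨D', hD'⟩ := h (D.restrictScalars ℤ)
      refine ⟨Derivation.mk'
        { toFun := D'
          map_add' := map_add D'
          map_smul' := fun c x => ?_ } (fun x y => D'.leibniz x y), fun a => hD' a⟩
      show D' (c • x) = c • D' x
      rw [Algebra.smul_def, D'.leibniz, IsScalarTower.algebraMap_apply F k K, hD' _]
      have h0 : (D.restrictScalars ℤ) (algebraMap F k c) = 0 := D.map_algebraMap c
      rw [h0, smul_zero, add_zero, ← IsScalarTower.algebraMap_apply F k K, smul_eq_mul, ← Algebra.smul_def]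
    haveI : Algebra.FormallySmooth F K :=
      Groth.Agent.EGA41Lib.FieldFS.formallySmooth_of_forall_essFiniteType F K fun L hL => inferInstance
    exact (Groth.Agent.S2484.result (K := F) (E := k) (F := K)).2
      (Groth.Agent.EGA41Lib.FieldFS.isGeometricallyReduced_of_formallySmooth F K) hinj
  have hone : Algebra.IsGeometricallyReduced k K → Function.Injective (KaehlerDifferential.mapBaseChange ℤ k K) := by
    intro h
    haveI : Algebra.FormallySmooth k K := Groth.Agent.EGA41Lib.FieldFS.formallySmooth_of_isGeometricallyReduced k K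
    refine (injective_iff_map_eq_zero _).mpr fun z hz => ?_
    obtain ⟨x, rfl⟩ := (Algebra.H1Cotangent.exact_δ_mapBaseChange ℤ k K z).mp hz
    rw [Subsingleton.elim x 0, map_zero]
  exact ⟨⟨fun h => hiff.2 (hone h), fun h => hsep (hext (hiff.1 h))⟩,
    ⟨fun h => hext (hone h), hsep⟩⟩

end Groth.Agent.S4523
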