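import Groth.Statements.S4278
import Groth.Agent.Pic13Lib.TauApply
-- import your own Groth.Agent.* helpers here

set_option autoImplicit false
universe u
open CategoryTheory CategoryTheory.Limits AlgebraicGeometry
open Pic13

namespace Groth.Agent.S4278

/-- Let k be an algebraically closed field, X a proper k-scheme and L an invertible O_X-module which is
τ-equivalent to zero. Then L is numerically equivalent to zero: its restriction to every integral
closed curve Y ⊆ X has degree χ(L|_Y) - χ(O_Y) = 0. -/
theorem result (k : Type u) [Field k] [IsAlgClosed k] (X : Scheme.{u}) [X.Over (Spec (CommRingCat.of k))]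
    [IsProper (X ↘ Spec (CommRingCat.of k))]
    (L : X.Modules) (hL : PicF.IsInvertible L) (hτ : Pic13.IsTauEquivZero k X L) : Pic13.IsNumEquivZero k X L := by
  intro Y i _ _ hd
  let p := i ≫ (X ↘ Spec (CommRingCat.of k))
  letI : Y.Over (Spec (CommRingCat.of k)) := ⟨p⟩
  haveI : IsProper (Y ↘ Spec (CommRingCat.of k)) :=
    inferInstanceAs (IsProper (i ≫ (X ↘ Spec (CommRingCat.of k))))
  haveI : IsLocallyNoetherian Y := LocallyOfFiniteType.isLocallyNoetherian (Y ↘ Spec (CommRingCat.of k))
  have hτ' := Pic13Lib.tauEquivZero_pullback (X ↘ Spec (CommRingCat.of k)) p i rfl hτ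
  have hd1 : topologicalKrullDim Y ≤ ((1 : ℕ) : WithBot ℕ∞) := le_of_eq (by rw [hd]; rfl)
  have h := Pic13Lib.euler_tensor_eq 1 hd1 (PicClLib.isInvertible_pullback i hL) hτ'
    (SurfInt.isCoh_structureModule (X := Y))
  have e : FGA.eulerCharLE k Y ((Scheme.Modules.pullback i).obj L) 1 =
      FGA.eulerCharLE k Y (Coh.structureModule Y) 1 :=
    (Pic13Lib.eulerCharLE_congr ((H23.PicMul.comm _ _).some ≪≫ (H23.PicMul.unit _).some) 1).symm.trans h
  exact sub_eq_zero.2 e

end Groth.Agent.S4278
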