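import Groth.Statements.S4070
import Groth.Agent.GrpSchLib.SepPoints
import Groth.Agent.AlgSpQ4.HensSection
import Mathlib.Topology.NoetherianSpace

set_option autoImplicit false
universe u
open CategoryTheory CategoryTheory.Limits AlgebraicGeometry MonObj
open MonoidalCategory CartesianMonoidalCategory TopologicalSpace
open SGA7

namespace Groth.Agent.S4070

set_option backward.isDefEq.respectTransparency.types false

theorem image_connectedComponent {X Y : Type*} [TopologicalSpace X] [TopologicalSpace Y] {g : X → Y}
    (hg : Topology.IsEmbedding g) {F : Set Y} (hF : Set.range g = F) (x : X) :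
    connectedComponentIn F (g x) = g '' connectedComponent x := by
  subst hF
  refine subset_antisymm ?_ ((isPreconnected_connectedComponent.image _
    hg.continuous.continuousOn).subset_connectedComponentIn ⟨_, mem_connectedComponent, rfl⟩
    (Set.image_subset_range _ _))
  have hsub := connectedComponentIn_subset (Set.range g) (g x)
  rw [← Set.image_preimage_eq_of_subset hsub]
  refine Set.image_mono (_root_.IsPreconnected.subset_connectedComponent ?_
    (mem_connectedComponentIn ⟨x, rfl⟩))
  rw [← hg.isInducing.isPreconnected_image, Set.image_preimage_eq_of_subset hsub]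
  exact isPreconnected_connectedComponentIn

theorem finite_connectedComponents (X : Type*) [TopologicalSpace X] [NoetherianSpace X] :
    Finite (ConnectedComponents X) := by
  have := (NoetherianSpace.finite_irreducibleComponents (α := X)).to_subtype
  refine Finite.of_surjective (fun Z : irreducibleComponents X => ConnectedComponents.mk Z.2.1.1.some) ?_
  intro c
  obtain ⟨x, rfl⟩ := ConnectedComponents.surjective_coe c
  refine ⟨⟨irreducibleComponent x, irreducibleComponent_mem_irreducibleComponents x⟩, ?_⟩
  exact ConnectedComponents.coe_eq_coe'.2 (isIrreducible_irreducibleComponent.isConnected.isPreconnected.subset_connectedComponent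
    mem_irreducibleComponent (Set.Nonempty.some_mem _))

variable (R : Type u) [CommRing R] [IsLocalRing R] (N : Over (Spec (CommRingCat.of R)))

/-- The inclusion of the closed point. -/
noncomputable abbrev clPt : Spec (CommRingCat.of (R ⧸ IsLocalRing.maximalIdeal R)) ⟶ Spec (CommRingCat.of R) :=
  Spec.map (CommRingCat.ofHom (Ideal.Quotient.mk (IsLocalRing.maximalIdeal R)))

theorem range_clPt : Set.range (clPt R) = {IsLocalRing.closedPoint R} := by
  have := IsLocalHom.of_surjective _ (Ideal.Quotient.mk_surjective (I := IsLocalRing.maximalIdeal R))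
  let F := R ⧸ IsLocalRing.maximalIdeal R
  have hp : ∀ p : PrimeSpectrum F, PrimeSpectrum.comap (Ideal.Quotient.mk (IsLocalRing.maximalIdeal R)) p =
      IsLocalRing.closedPoint R := by
    intro p
    refine PrimeSpectrum.ext ?_
    refine ((IsLocalRing.maximalIdeal.isMaximal R).eq_of_le (p.isPrime.comap _).ne_top ?_).symm
    intro r hr
    show Ideal.Quotient.mk _ r ∈ p.asIdeal
    rw [Ideal.Quotient.eq_zero_iff_mem.2 hr]
    exact p.asIdeal.zero_mem
  refine subset_antisymm ?_ ?_
  · rintro _ ⟨p, rfl⟩
    exact hp p
  · rintro _ rfl
    obtain ⟨p⟩ : Nonempty (PrimeSpectrum F) := inferInstance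
    exact ⟨p, hp p⟩

theorem range_fst : Set.range (pullback.fst N.hom (clPt R)) = SGA7.specialFibreSet R N := by
  rw [Scheme.Pullback.range_fst, range_clPt]
  rfl

/-- A morphism over the base maps components of the special fibre into components. -/
theorem map_mem_component {M : Over (Spec (CommRingCat.of R))} (t : N ⟶ M) {p q : ↥N.left}
    (hp : p ∈ SGA7.specialFibreSet R N)
    (hq : q ∈ connectedComponentIn (SGA7.specialFibreSet R N) p) :
    t.left q ∈ connectedComponentIn (SGA7.specialFibreSet R M) (t.left p) := by
  refine (isPreconnected_connectedComponentIn.image _ t.left.continuous.continuousOn).subset_connectedComponentIn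
    (Set.mem_image_of_mem _ (mem_connectedComponentIn hp)) ?_ (Set.mem_image_of_mem _ hq)
  rintro _ ⟨r, hr, rfl⟩
  show M.hom (t.left r) = IsLocalRing.closedPoint R
  rw [show M.hom (t.left r) = (t.left ≫ M.hom) r from rfl, Over.w t]
  exact (connectedComponentIn_subset (SGA7.specialFibreSet R N) p hr : r ∈ SGA7.specialFibreSet R N)

theorem sec_mem (x : 𝟙_ (Over (Spec (CommRingCat.of R))) ⟶ N) :
    x.left (IsLocalRing.closedPoint R) ∈ SGA7.specialFibreSet R N := by
  show N.hom (x.left (IsLocalRing.closedPoint R)) = IsLocalRing.closedPoint R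
  rw [show N.hom (x.left (IsLocalRing.closedPoint R)) = (x.left ≫ N.hom) (IsLocalRing.closedPoint R) from rfl,
    Over.w x]
  rfl

theorem secComp_eq_iff [GrpObj N] (x y : 𝟙_ (Over (Spec (CommRingCat.of R))) ⟶ N) :
    SGA7.secComp R N x = SGA7.secComp R N y ↔ x * y⁻¹ ∈ SGA7.secUnitComp R N := by
  have key : ∀ (a b c : 𝟙_ (Over (Spec (CommRingCat.of R))) ⟶ N),
      a.left (IsLocalRing.closedPoint R) ∈ SGA7.secComp R N b →
      (a * c).left (IsLocalRing.closedPoint R) ∈ SGA7.secComp R N (b * c) := by
    intro a b c h
    have e : ∀ d : 𝟙_ (Over (Spec (CommRingCat.of R))) ⟶ N, d ≫ (𝟙 N * toUnit N ≫ c) = d * c := by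
      intro d
      rw [MonObj.comp_mul, Category.comp_id, ← Category.assoc, comp_toUnit, toUnit_unit, Category.id_comp]
    have := map_mem_component R N (𝟙 N * toUnit N ≫ c) (sec_mem R N b) h
    rw [← e a, ← e b]
    exact this
  have h1 : (1 : 𝟙_ (Over (Spec (CommRingCat.of R))) ⟶ N) = η[N] := by
    rw [Hom.one_def, toUnit_unit, Category.id_comp]
  have hiff : ∀ z, z ∈ SGA7.secUnitComp R N ↔
      z.left (IsLocalRing.closedPoint R) ∈
        SGA7.secComp R N (1 : 𝟙_ (Over (Spec (CommRingCat.of R))) ⟶ N) := by
    intro z; rw [h1]; rfl
  rw [hiff]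
  constructor
  · intro h
    have hx : x.left (IsLocalRing.closedPoint R) ∈ SGA7.secComp R N y :=
      h ▸ mem_connectedComponentIn (sec_mem R N x)
    have := key x y y⁻¹ hx
    rwa [_root_.mul_inv_cancel] at this
  · intro h
    have := key (x * y⁻¹) 1 y h
    rw [_root_.inv_mul_cancel_right, _root_.one_mul] at this
    exact (connectedComponentIn_eq this).symm

/-- Let R be a strictly henselian discrete valuation ring (henselian, separably closed residue field)
with fraction field K and N a group scheme over Spec R which is a Néron model of its generic fibre,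
an abelian variety A over K, so that sections of N over Spec R are the K-points of A. Then the
special fibre of N has finitely many connected components, every one of them is met by a section,
and two sections x, y meet the same connected component if and only if x · y⁻¹ meets the connected
component of the unit section: the component group of the special fibre is A(K) modulo the subgroup
of points reducing into the identity component. -/
theorem result (R K : Type u) [CommRing R] [IsDomain R] [IsDiscreteValuationRing R] [HenselianLocalRing R]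
    [IsSepClosed (IsLocalRing.ResidueField R)] [Field K] [Algebra R K] [IsFractionRing R K]
    (N : Over (Spec (CommRingCat.of R))) [GrpObj N] (hN : SGA7.IsNeron R K N)
    [IsProper ((SGA7.genFib R K).obj N).hom] [GeometricallyIntegral ((SGA7.genFib R K).obj N).hom] :
    (Set.range (SGA7.secComp R N)).Finite ∧
    (∀ z ∈ SGA7.specialFibreSet R N, ∃ x : 𝟙_ (Over (Spec (CommRingCat.of R))) ⟶ N, z ∈ SGA7.secComp R N x) ∧
      ∀ x y : 𝟙_ (Over (Spec (CommRingCat.of R))) ⟶ N,
        SGA7.secComp R N x = SGA7.secComp R N y ↔ x * y⁻¹ ∈ SGA7.secUnitComp R N := by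
  have hsm : Smooth N.hom := hN.1
  have hqc : QuasiCompact N.hom := hN.2.2.1
  let : Field (R ⧸ IsLocalRing.maximalIdeal R) := Ideal.Quotient.field (IsLocalRing.maximalIdeal R)
  have : IsSepClosed (R ⧸ IsLocalRing.maximalIdeal R) :=
    inferInstanceAs (IsSepClosed (IsLocalRing.ResidueField R))
  let π := pullback.fst N.hom (clPt R)
  let q := pullback.snd N.hom (clPt R)
  have hq : Smooth q := MorphismProperty.pullback_snd (P := @Smooth) _ _ hsm
  have hqq : QuasiCompact q := MorphismProperty.pullback_snd (P := @QuasiCompact) _ _ hqc
  have hloc : IsLocallyNoetherian (pullback N.hom (clPt R)) := LocallyOfFiniteType.isLocallyNoetherian q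
  have hcpt : CompactSpace ↥(pullback N.hom (clPt R)) := QuasiCompact.compactSpace_of_compactSpace q
  have : IsNoetherian (pullback N.hom (clPt R)) := {}
  have := finite_connectedComponents ↥(pullback N.hom (clPt R))
  have : T1Space (ConnectedComponents ↥(pullback N.hom (clPt R))) := ⟨fun c => by
    obtain ⟨x, rfl⟩ := ConnectedComponents.surjective_coe c
    rw [← ConnectedComponents.isQuotientMap_coe.isClosed_preimage, connectedComponents_preimage_singleton]
    exact isClosed_connectedComponent⟩
  have : IsClosedImmersion (clPt R) :=
    IsClosedImmersion.spec_of_surjective _ Ideal.Quotient.mk_surjective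
  have hπ : Topology.IsEmbedding π := π.isEmbedding
  have hr : Set.range π = SGA7.specialFibreSet R N := range_fst R N
  have hcomp := image_connectedComponent hπ hr
  refine ⟨?_, ?_, secComp_eq_iff R N⟩
  · refine (Set.finite_range fun c : ConnectedComponents ↥(pullback N.hom (clPt R)) =>
      π '' (ConnectedComponents.mk ⁻¹' {c})).subset ?_
    rintro _ ⟨x, rfl⟩
    obtain ⟨v, hv⟩ := hr.ge (sec_mem R N x)
    refine ⟨ConnectedComponents.mk v, ?_⟩
    show π '' _ = connectedComponentIn _ (x.left (IsLocalRing.closedPoint R))
    rw [← hv, hcomp, connectedComponents_preimage_singleton]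
  · intro z hz
    obtain ⟨v, rfl⟩ := hr.ge hz
    have hopen : IsOpen (connectedComponent v) := by
      rw [← connectedComponents_preimage_singleton]
      exact (isOpen_discrete _).preimage ConnectedComponents.continuous_coe
    obtain ⟨s, hs, hsv⟩ := Groth.Agent.GrpSchLib.exists_point_of_smooth q ⟨_, hopen⟩
      (x := v) mem_connectedComponent
    obtain ⟨σ, hσ, hσu⟩ := Groth.Agent.AlgSpQ4.exists_section_smooth (IsLocalRing.maximalIdeal R)
      (IsLocalRing.maximalIdeal.isMaximal R).ne_top N.hom (s ≫ π)
      (by rw [Category.assoc, pullback.condition, reassoc_of% hs])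
    refine ⟨Over.homMk σ hσ, ?_⟩
    show π v ∈ connectedComponentIn (SGA7.specialFibreSet R N) (σ (IsLocalRing.closedPoint R))
    let b := IsLocalRing.closedPoint (R ⧸ IsLocalRing.maximalIdeal R)
    have hb : clPt R b = IsLocalRing.closedPoint R := (range_clPt R).le ⟨b, rfl⟩
    rw [← hb, show σ (clPt R b) = (clPt R ≫ σ) b from rfl, hσu,
      show (s ≫ π) b = π (s b) from rfl, hcomp]
    exact ⟨v, (connectedComponent_eq hsv) ▸ mem_connectedComponent, rfl⟩

end Groth.Agent.S4070
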