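import Groth.Statements.S4280
import Groth.Agent.S11371
import Groth.Agent.Pic13Lib.TauApply
import Groth.Agent.ParShLib.ResStalk
-- import your own Groth.Agent.* helpers here

set_option autoImplicit false
universe u
open CategoryTheory CategoryTheory.Limits AlgebraicGeometry
open Pic13
open scoped Groth.Agent.H23.PicMul

namespace Groth.Agent.S4280

/-- Let k be an algebraically closed field, X a proper k-scheme carrying an ample invertible module H,
and L an invertible O_X-module, with inverse L', which is τ-equivalent to zero. Then L^{⊗ m} ⊗ H and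
L'^{⊗ m} ⊗ H are ample for every m ≥ 0. -/
theorem result (k : Type u) [Field k] [IsAlgClosed k] (X : Scheme.{u}) [X.Over (Spec (CommRingCat.of k))]
    [IsProper (X ↘ Spec (CommRingCat.of k))]
    (H : X.Modules) (hH : CohB1.IsAmple H) (L L' : X.Modules) (hL : PicF.IsInvertible L)
    (hLL' : Nonempty (CohB1.tensorMod L L' ≅ Coh.structureModule X)) (hτ : Pic13.IsTauEquivZero k X L) (m : ℕ) :
    CohB1.IsAmple (CohB1.tensorMod (CohB1.tensorPow L m) H) ∧ CohB1.IsAmple (CohB1.tensorMod (CohB1.tensorPow L' m) H) := by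
  haveI := CurveCohLib.isNoetherian_of_proper (k := k) (X := X)
  have hHi : PicF.IsInvertible H := hH.1
  have hL' : PicF.IsInvertible L' := by
    obtain ⟨D, hD, ⟨eD⟩⟩ := H23.PicInv.exists_inverse hL
    refine H23.PicMul.isInvertible_of_iso (H23.PicMul.cl_eq_iff.1 ?_).some hD
    exact left_inv_eq_right_inv (b := PicF.cl D) (a := PicF.cl L) (c := PicF.cl L')
      ((mul_comm _ _).trans (H23.PicMul.cl_eq_iff.2 ⟨eD⟩)) (H23.PicMul.cl_eq_iff.2 hLL')
  obtain ⟨d, hd⟩ : ∃ d : ℕ, topologicalKrullDim X ≤ (d : WithBot ℕ∞) := by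
    rcases isEmpty_or_nonempty X with hX | hX
    · exact ⟨0, topologicalKrullDim_zero_of_discreteTopology X⟩
    · exact (Groth.Agent.VarAmp.exists_natDim k (X := X)).imp fun d h => h.le
  have key : ∀ (N : X.Modules), PicF.IsInvertible N → (∀ F : X.Modules, Coh.IsCoh F →
      FGA.eulerCharLE k X (CohB1.tensorMod F N) d = FGA.eulerCharLE k X F d) →
      CohB1.IsAmple (CohB1.tensorMod N H) := by
    intro N hN hNF
    refine S11371.result k X H (CohB1.tensorMod N H) hHi (H23.PicMul.isInvertible_tensor hN hHi)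
      (fun C _ _ => ?_) hH
    have hC : Coh.IsCoh (CohB1.tensorMod (ClSub.quotMod C) H) :=
      AmpleVan.isCoh_tensor (ParShLib.isCoh_quotMod C) (AmpleVan.isCoh_invertible hHi)
    have hC' : Coh.IsCoh (CohB1.tensorMod (ClSub.quotMod C) (CohB1.tensorMod N H)) :=
      AmpleVan.isCoh_tensor (ParShLib.isCoh_quotMod C) (AmpleVan.isCoh_invertible (H23.PicMul.isInvertible_tensor hN hHi))
    rw [← SurfInt.eulerCharLE_eq_euler k hd hC.1, ← SurfInt.eulerCharLE_eq_euler k hd hC'.1]
    refine (hNF _ hC).symm.trans (Pic13Lib.eulerCharLE_congr ?_ d)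
    exact (H23.PicMul.assoc _ _ _).some ≪≫ PicGrp.tensorModIso (Iso.refl _) (H23.PicMul.comm _ _).some
  exact ⟨key _ (H23.PicMul.isInvertible_tensorPow hL m)
      (fun F hF => Pic13Lib.euler_tensorPow_eq d hd hL hτ hF m),
    key _ (H23.PicMul.isInvertible_tensorPow hL' m)
      (fun F hF => Pic13Lib.euler_tensorPow_inv_eq d hd hL hL' hLL'.some hτ hF m)⟩

end Groth.Agent.S4280
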