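import Groth.Statements.S8458
import Groth.Agent.Red23Lib.Comm2.Commute

set_option autoImplicit false
universe u
open CategoryTheory MonoidalCategory CartesianMonoidalCategory MonObj GrpObj AlgebraicGeometry CategoryTheory.Limits
open Red

namespace Groth.Agent.S8458

/-- Let G be a split reductive S-group with splitting D (root homomorphisms u_c : 𝔾_a ⟶ G for all roots
c) and let a, b be two roots with a + b ≠ 0 such that a + b is not a root. Then u_a(x) u_b(y) =
u_b(y) u_a(x) for all points x, y of 𝔾_a with values in any S-scheme. -/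
theorem result (S : Scheme.{u}) (G : Over S) [GrpObj G] (D : Red.SplitRed G)
    (a b : D.idx) (h0 : D.P.root a + D.P.root b ≠ 0) (hab : D.P.root a + D.P.root b ∉ Set.range D.P.root)
    (X : Over S) (x y : X ⟶ Red.Ga S) :
    (x ≫ D.u a) * (y ≫ D.u b) = (y ≫ D.u b) * (x ≫ D.u a) := by
  haveI : IsMonHom (D.u a) := (D.rootHom a).1
  haveI : IsMonHom (D.u b) := (D.rootHom b).1
  haveI : IsAffineHom G.hom := Groth.Agent.RedCell22.isAffineHom_of_split D
  refine Groth.Agent.RedCell22.hom_ext_of_tests fun A _ s φ => ?_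
  simp only [MonObj.comp_mul, ← Category.assoc]
  rw [← Groth.Agent.RedCell22.gaPt_gaFn (φ ≫ x), ← Groth.Agent.RedCell22.gaPt_gaFn (φ ≫ y)]
  rcases eq_or_ne b a with rfl | hne
  · show Groth.Agent.RedCell22.ua D b _ * Groth.Agent.RedCell22.ua D b _ = Groth.Agent.RedCell22.ua D b _ * Groth.Agent.RedCell22.ua D b _
    rw [← Groth.Agent.RedCell22.ua_add, _root_.add_comm, Groth.Agent.RedCell22.ua_add]
  · exact Groth.Agent.Red23Lib.commute_ua hne h0 hab s _ _

end Groth.Agent.S8458
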