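import Groth.Statements.S0052
import Groth.Agent.Coh32.AmpleFinite

set_option autoImplicit false
universe u
open Coherent

namespace Groth.Agent.S0052

open AlgebraicGeometry CategoryTheory in
/-- Let R be Noetherian, f : Y → X a finite surjective morphism of schemes proper over Spec R, and L
invertible on X. Ampleness of L is equivalent to ampleness of its pullback along f. -/
theorem result (R : Type u) [CommRing R] [IsNoetherianRing R]
    {X Y : Scheme.{u}} (gX : X ⟶ Spec (CommRingCat.of R)) (gY : Y ⟶ Spec (CommRingCat.of R)) [IsProper gX]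
    [IsProper gY] (f : Y ⟶ X) (hf : f ≫ gX = gY) [IsFinite f] [Surjective f] (L : X.Modules)
    (hL : PicF.IsInvertible L) :
    CohB1.IsAmple L ↔ CohB1.IsAmple ((Scheme.Modules.pullback f).obj L) := by
  letI : X.Over (Spec (CommRingCat.of R)) := ⟨gX⟩
  haveI : IsProper (X ↘ Spec (CommRingCat.of R)) := (inferInstance : IsProper gX)
  haveI : CompactSpace Y := QuasiCompact.compactSpace_of_compactSpace gY
  exact ⟨Groth.Agent.AbTors.isAmple_pullback_of_isAffineHom f,
    Groth.Agent.Coh32.AmpleInt.isAmple_of_finite_surjective R hL f⟩

end Groth.Agent.S0052
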