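import Groth.Statements.S0125
import Groth.Agent.S8560
-- import your own Groth.Agent.* helpers here

set_option autoImplicit false
universe u
open CategoryTheory CategoryTheory.Limits AlgebraicGeometry Opposite
open EtPBC

namespace Groth.Agent.S0125

/-- Part (1): for f : X -> Y quasi-compact and quasi-separated and F a torsion abelian sheaf on X_et,
each R^n f_* F is a torsion abelian sheaf on Y_et. -/
theorem result {X Y : Scheme.{u}} (f : X ⟶ Y) [QuasiCompact f] [QuasiSeparated f]
    [EtCoh.BCCont f] (F : EtCoh.Ab X) (hF : EtCoh.IsTorsion F) (n : ℕ) :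
    EtCoh.IsTorsion ((EtCoh.Rpush f n).obj F) := by
  have key : ∀ {Z : Scheme.{u}} (G : EtCoh.Ab Z), EtCoh.IsTorsion G ↔ EtAcyc.IsLTorsion Set.univ G := by
    intro Z G
    refine ⟨fun h U s x => ?_, fun h U s x => ?_⟩
    · obtain ⟨V, g, hv, ho⟩ := h U s x
      exact ⟨V, g, addOrderOf (G.obj.map g.op s), hv, ⟨ho.addOrderOf_pos, fun _ _ _ => trivial⟩,
        addOrderOf_nsmul_eq_zero _⟩
    · obtain ⟨V, g, m, hv, hm, h0⟩ := h U s x
      exact ⟨V, g, hv, isOfFinAddOrder_iff_nsmul_eq_zero.mpr ⟨m, hm.1, h0⟩⟩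
  exact (key _).mpr (Groth.Agent.S8560.result f Set.univ F ((key F).mp hF) n)

end Groth.Agent.S0125
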