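import Groth.Statements.S0145
import Groth.Agent.EtPBC63.Supported
-- import your own Groth.Agent.* helpers here

set_option autoImplicit false
universe u
open CategoryTheory CategoryTheory.Limits AlgebraicGeometry Opposite
open EtPBC

namespace Groth.Agent.S0145

/-- (1): X Noetherian, E a subset of X stable under specialization, F a torsion abelian sheaf on X_et
supported inside E. Then F is a filtered colimit of constructible abelian sheaves each supported
inside some closed subset contained in E. -/
theorem result (X : Scheme.{u}) [IsNoetherian X]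
    (E : Set X) (hE : StableUnderSpecialization E)
    (F : EtCoh.Ab X) (hF : EtCoh.IsTorsion F) (hsupp : EtPBC.supp F ⊆ E) :
    ∃ (J : Type (u + 1)) (_ : SmallCategory J) (_ : IsFiltered J) (D : J ⥤ EtCoh.Ab X)
      (c : Cocone D) (_ : IsColimit c), Nonempty (c.pt ≅ F) ∧
      ∀ j, EtPBC.IsConstructible (D.obj j) ∧
        ∃ Z : Set X, IsClosed Z ∧ Z ⊆ E ∧ EtPBC.supp (D.obj j) ⊆ Z := by
  obtain ⟨J, i, i', D, c, hc, e, hD⟩ := EtPBC63.exists_colimit_supp F (fun Z => Z ⊆ E) (Set.empty_subset _)
    (fun _ _ h h' => Set.union_subset h h') (fun _ _ h h' => h.trans h') (fun Ω _ _ ξ c => by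
      obtain ⟨V, hV, v, n, hn, h, rfl⟩ := EtPBC63.exists_gen hF c
      haveI := EtFound.pull_preservesFiniteLimits (𝟙 X)
      have hG := EtFound.isConstructible_of_epi (S0133.result X V (ZMod n)) (factorThruImage h)
      refine ⟨image h, ⟨hG, EtPBC63.closure_supp_subset hG hE
        ((EtPBC63.supp_subset_of_mono (image.ι h)).trans hsupp)⟩, image.ι h, (EtCoh.stalk ξ).map (factorThruImage h)
        ((Scheme.pointSmallEtale ξ).toPresheafFiber V v (EtPBC.extZeroConst V (ZMod n)).obj (EtPBC63.one V n)), ?_⟩
      refine (Functor.map_comp_apply (EtCoh.stalk ξ) (factorThruImage h) (image.ι h) _).symm.trans ?_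
      rw [image.fac]
      exact EtPBC63.stalk_map_germ h V v (EtPBC63.one V n))
  exact ⟨J, i, i', D, c, hc, e, hD⟩

end Groth.Agent.S0145
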