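import Groth.Statements.S0175
import Groth.Agent.EtDual68.Supp
import Groth.Agent.S0067
import Groth.Agent.EtPBC63.Gen
-- import your own Groth.Agent.* helpers here

set_option autoImplicit false
universe u
open CategoryTheory CategoryTheory.Limits AlgebraicGeometry Opposite
open EtPBC

namespace Groth.Agent.S0175

/-- Let i : Z → X be a closed immersion of schemes with open complement j : U → X, and I an injective
abelian sheaf on X_ét. Then the subsheaf H_Z(I) of sections supported on Z (the kernel of I → j_*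
j^* I), viewed on Z_ét via i^*, is an injective abelian sheaf on Z_ét. -/
theorem result {Z X U : Scheme.{u}} (i : Z ⟶ X) [IsClosedImmersion i]
    (j : U ⟶ X) [IsOpenImmersion j] (hZU : Set.range j = (Set.range i)ᶜ)
    [EtCoh.BCCont i] [EtCoh.BCCont j] (I : EtCoh.Ab X) [Injective I] :
    Injective ((EtCoh.pull i).obj (kernel ((EtCoh.pullPushAdj j).unit.app I))) := by
  let u : I ⟶ (EtCoh.push j).obj ((EtCoh.pull j).obj I) := (EtCoh.pullPushAdj j).unit.app I
  obtain ⟨t, ht⟩ := EtDual68.exists_section_unit j I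
  change t ≫ u = 𝟙 _ at ht
  haveI : Injective (kernel u) := by
    refine Retract.injective ⟨kernel.ι u, kernel.lift u (𝟙 I - u ≫ t) (by
      rw [Preadditive.sub_comp, Category.id_comp, Category.assoc, ht, Category.comp_id, sub_self]), ?_⟩
    rw [← cancel_mono (kernel.ι u)]
    simp
  haveI := (EtFound.pull_preservesFiniteLimits j : PreservesFiniteLimits (EtCoh.pull j))
  have hz : IsZero ((EtCoh.pull j).obj (kernel u)) := by
    haveI : IsIso ((EtCoh.pullPushAdj j).counit.app ((EtCoh.pull j).obj I)) :=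
      EtFound.counit_isIso j (EtFound.liftable_of_isOpenImmersion j) _
    haveI : IsIso ((EtCoh.pull j).map u) :=
      IsIso.of_isIso_fac_right ((EtCoh.pullPushAdj j).left_triangle_components I)
    refine (IsZero.of_iso ?_ (PreservesKernel.iso (EtCoh.pull j) u))
    exact IsZero.of_iso (isZero_zero _) (kernel.ofMono ((EtCoh.pull j).map u))
  haveI : IsIso ((EtCoh.pullPushAdj i).unit.app (kernel u)) := by
    refine EtFound.unit_isIso_of_outside i (EtFound.liftable_of_isClosedImmersion i)
      i.isClosedEmbedding.isClosed_range _ fun k _ _ ξ hξ => ?_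
    obtain ⟨y, hy⟩ : ξ.base (default : Spec (CommRingCat.of k)) ∈ Set.range j.base := hZU.ge hξ
    obtain ⟨Ω, _, _, ζ, rfl⟩ := EtFound.exists_geomPoint y
    have h1 : IsZero ((EtCoh.stalk (ζ ≫ j)).obj (kernel u)) :=
      ((EtCoh.stalk ζ).map_isZero hz).of_iso ((EtFound.stalkPullIso j ζ).app _).symm
    have h2 := AddCommGrpCat.subsingleton_of_isZero h1
    obtain ⟨e⟩ := EtFound.nonempty_stalk_equiv (kernel u) ξ (ζ ≫ j)
      (hy.symm.trans (Scheme.Hom.comp_apply _ _ _).symm)
    exact ⟨@Unique.mk' _ ⟨(0 : (EtCoh.stalk ξ).obj (kernel u))⟩ e.injective.subsingleton⟩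
  let ψ := (asIso ((EtCoh.pullPushAdj i).unit.app (kernel u))).symm
  obtain ⟨_, _⟩ := S0067.result i
  haveI : (EtCoh.push i).IsRightAdjoint := (EtCoh.pullPushAdj i).isRightAdjoint
  refine ⟨fun {G G'} a m _ => ?_⟩
  obtain ⟨c, hc⟩ := (EtCoh.push i).map_surjective
    (Injective.factorThru ((EtCoh.push i).map a ≫ ψ.hom) ((EtCoh.push i).map m) ≫ ψ.inv)
  refine ⟨c, (EtCoh.push i).map_injective ?_⟩
  rw [Functor.map_comp, hc, ← Category.assoc, Injective.comp_factorThru, Category.assoc, Iso.hom_inv_id, Category.comp_id]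

end Groth.Agent.S0175
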