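import Groth.Statements.S0228
import Groth.Agent.GalEt.BrauerTrivial
import Groth.Agent.GalEt.H1
import Groth.Agent.S7734
-- import your own Groth.Agent.* helpers here

set_option autoImplicit false
set_option backward.isDefEq.respectTransparency.types false
universe u
open CategoryTheory CategoryTheory.Limits AlgebraicGeometry
open Curves

namespace Groth.Agent.S0228

/-- Let K be a field such that every finite extension K' of K has trivial Brauer group: every
finite-dimensional central division algebra over K' is K' itself. Then for every q ≥ 1, H^q(Spec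
K_ét, G_m) = 0. (This is the étale-site form of the vanishing of the Galois cohomology of (K^sep)^*
in positive degrees.) -/
theorem result (K : Type u) [Field K]
    (hBr : ∀ (K' : Type u) [Field K'] [Algebra K K'] [FiniteDimensional K K']
      (D : Type u) [DivisionRing D] [Algebra K' D] [Algebra.IsCentral K' D] [FiniteDimensional K' D],
      Module.finrank K' D = 1)
    (q : ℕ) (hq : 1 ≤ q) :
    Subsingleton (EtCoh.H (Spec (CommRingCat.of K)) (EtCoh.Gm (Spec (CommRingCat.of K))) q) := by
  obtain ⟨n, rfl⟩ : ∃ n, q = n + 1 := ⟨q - 1, by omega⟩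
  refine subsingleton_of_forall_eq 0 fun x => ?_
  rcases n with _ | _ | n
  · exact Groth.Agent.GalEt.H_one_eq_zero K _ (Groth.Agent.GalEt.galH1Trivial_Gm K) x
  · refine Groth.Agent.GalEt.BrauerTrivial.eq_zero_of_torsion (fun p hp y hy => ?_)
      (Groth.Agent.GalEt.isOfFinAddOrder_H (k := K) _ 1 x)
    haveI := Fact.mk hp
    exact Groth.Agent.GalEt.brauer_torsion_eq_zero p (Groth.Agent.GalEt.BrauerTrivial.normSurj hBr p) y hy
  · refine Groth.Agent.GalEt.BrauerTrivial.eq_zero_of_torsion (fun p hp y hy => ?_)
      (Groth.Agent.GalEt.isOfFinAddOrder_H (k := K) _ (n + 2) x)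
    haveI := Fact.mk hp
    exact Groth.Agent.S7734.result K p 1 (fun F hF q hq z hz =>
      Groth.Agent.GalEt.BrauerTrivial.cd_le_one hBr p F hF q hq z hz) _ (n + 2 + 1) (by omega) y
      ⟨1, by rw [pow_one]; exact hy⟩

end Groth.Agent.S0228
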