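import Groth.Statements.S0260
import Groth.Agent.P1Punct.Sch
import Mathlib.RingTheory.Henselian

set_option autoImplicit false
universe u
open Pi1

namespace Groth.Agent.S0260

open AlgebraicGeometry CategoryTheory CategoryTheory.Limits in
/-- Let A be a henselian Noetherian local ring of depth at least 3 and f an element of the maximal
ideal. Then restricting finite etale covers from the punctured spectrum of A to the punctured
spectrum of A/fA is fully faithful. -/
theorem result (A : Type u) [CommRing A] [IsNoetherianRing A] [HenselianLocalRing A] (hA : (3 : ℕ∞) ≤ LocCoh.depth A A)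
    (f : A) (hf : f ∈ IsLocalRing.maximalIdeal A) :
    (FEt.restrict (pullback.fst (FEt.puncturedSpec A).ι
      (Spec.map (CommRingCat.ofHom (Ideal.Quotient.mk (Ideal.span {f})))))).Full ∧
    (FEt.restrict (pullback.fst (FEt.puncturedSpec A).ι
      (Spec.map (CommRingCat.ofHom (Ideal.Quotient.mk (Ideal.span {f})))))).Faithful := by
  haveI : HenselianRing A (Ideal.span {f}) :=
    Groth.Agent.Hensel.henselianRing_of_le (J := IsLocalRing.maximalIdeal A) ((Ideal.span_singleton_le_iff_mem _).2 hf)
  exact P1Punct.restrict_fullyFaithful_punctured f hf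
    ⟨0, P1Punct.exists_H_zero_of_depth f hA 1 (by omega)⟩ ⟨0, P1Punct.exists_H_zero_of_depth f hA 2 (by omega)⟩

end Groth.Agent.S0260
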