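import Groth.Statements.S0375
import Groth.Agent.DualityLC.FinLenDual
-- import your own Groth.Agent.* helpers here

set_option autoImplicit false
set_option linter.style.haveILetI false
universe u v
open CategoryTheory
attribute [local instance] HasDerivedCategory.standard
open Dual

namespace Groth.Agent.S0375

/-- Over a Noetherian local ring of dimension 0, a normalized dualizing complex is isomorphic in D(A) to
an injective hull of the residue field placed in degree 0. -/
theorem result (A : Type u) [CommRing A] [IsLocalRing A] [IsNoetherianRing A] (h0 : ringKrullDim A = 0) (ω : Dual.D A) (hω : Dual.IsDualizing A ω) (hn : Dual.IsNormalized A ω) (E : Type u) [AddCommGroup E] [Module A E] (f : IsLocalRing.ResidueField A →ₗ[A] E) (hf : InjHull.IsInjectiveHull f) : Nonempty (ω ≅ Dual.inD A E) := by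
  haveI : IsArtinianRing A := isArtinianRing_iff_krullDimLE_zero.2 (Ring.krullDimLE_iff.2 h0.le)
  have hfl : IsFiniteLength A A := isFiniteLength_iff_isNoetherian_isArtinian.2 ⟨inferInstance, inferInstance⟩
  have hv := (Groth.Agent.DualityLC.finLen_hom hω hn A hfl).1
  obtain ⟨eA⟩ := Groth.Agent.DualityLC.exists_finLenEquiv hω hn hf A hfl
  have hz : ∀ i : ℤ, i ≠ 0 → Subsingleton (Dual.HD A ω i) := fun i hi => by
    obtain ⟨e⟩ := Groth.Agent.KFlatLib.exists_homRingLEquiv ω i
    haveI := hv i hi
    exact e.symm.toEquiv.subsingleton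
  haveI : DerivedCategory.IsGE ω 0 := (DerivedCategory.isGE_iff _ _).2 fun i hi =>
    @ModuleCat.isZero_of_subsingleton _ _ _ (hz i (by omega))
  haveI : DerivedCategory.IsLE ω 0 := (DerivedCategory.isLE_iff _ _).2 fun i hi =>
    @ModuleCat.isZero_of_subsingleton _ _ _ (hz i (by omega))
  obtain ⟨W, ⟨eW⟩⟩ := DerivedCategory.exists_iso_singleFunctor_obj_of_isGE_of_isLE ω 0
  obtain ⟨e0⟩ := Groth.Agent.KFlatLib.exists_homRingLEquiv ω 0
  let eWE : W ≃ₗ[A] E :=
    ((DerivedCategory.homologyFunctor (ModuleCat.{u} A) 0).mapIso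
        ((eW ≪≫ (DerivedCategory.singleFunctorIsoCompQ (ModuleCat.{u} A) 0).app W)) ≪≫
      (DerivedCategory.homologyFunctorFactors (ModuleCat.{u} A) 0).app _ ≪≫
      HomologicalComplex.singleObjHomologySelfIso (ComplexShape.up ℤ) 0 W).symm.toLinearEquiv.trans
    (e0.symm.trans ((Groth.Agent.DualityLC.homShiftZero _ ω).trans (eA.trans (LinearMap.ringLmapEquivSelf A A E))))
  exact ⟨eW ≪≫ (DerivedCategory.singleFunctor (ModuleCat.{u} A) 0).mapIso eWE.toModuleIso⟩

end Groth.Agent.S0375
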