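import Groth.Statements.S0405
import Groth.Agent.RGCore.Openness
-- import your own Groth.Agent.* helpers here

set_option autoImplicit false
universe u
open FlatMor

namespace Groth.Agent.S0405

/-- Raynaud–Gruson: over a domain R, a finite module over a finite type R-algebra S that is flat over R
is finitely presented as an S-module. -/
theorem result {R S M : Type u} [CommRing R] [IsDomain R] [CommRing S] [Algebra R S] [Algebra.FiniteType R S]
    [AddCommGroup M] [Module S M] [Module R M] [IsScalarTower R S M] [Module.Finite S M] [Module.Flat R M] :
    Module.FinitePresentation S M := by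
  refine (RGCore.fpAway_of_local M (1 : S) fun q _ _ => ?_).finitePresentation_of_one
  obtain ⟨h, hh, -, hfp, -⟩ := RGCore.exists_flat_fp_nhd RGCore.weakAss_finite_of_isDomain q
    (RGCore.flat_localizedModule (A := R) q.primeCompl M)
  exact ⟨h, hh, hfp⟩
end Groth.Agent.S0405
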