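import Groth.Statements.S0407
import Groth.Agent.RGCore.UnivInjLinear

set_option autoImplicit false
universe u
open FlatMor

namespace Groth.Agent.S0407

open Groth.Agent.RGCore

open TensorProduct in
/-- For a local homomorphism A → B essentially of finite type, a flat A-module M, a finite B-module N
and an A-linear map u from N to M that is injective modulo the maximal ideal of A: u is universally
injective over A, N is finitely presented over B and N is flat over A (no Noetherian hypothesis). -/
theorem result {A B M N : Type u} [CommRing A] [CommRing B] [IsLocalRing A] [IsLocalRing B] [Algebra A B] [IsLocalHom (algebraMap A B)] [Algebra.EssFiniteType A B]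
    [AddCommGroup M] [Module A M] [Module.Flat A M]
    [AddCommGroup N] [Module A N] [Module B N] [IsScalarTower A B N] [Module.Finite B N]
    (u : N →ₗ[A] M) (h : Function.Injective (LinearMap.lTensor (IsLocalRing.ResidueField A) u)) :
    (∀ (Q : Type u) [AddCommGroup Q] [Module A Q], Function.Injective (LinearMap.rTensor Q u)) ∧
      Module.FinitePresentation B N ∧ Module.Flat A N := by
  classical
  let B₀ := Algebra.EssFiniteType.subalgebra A B
  obtain ⟨n, π₀, hπ₀⟩ := Algebra.FiniteType.iff_quotient_mvPolynomial''.mp (inferInstance : Algebra.FiniteType A B₀)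
  let P := MvPolynomial (Fin n) A
  let ι : P →ₐ[A] B := B₀.val.comp π₀
  let : Algebra P B := ι.toRingHom.toAlgebra
  let : Module P N := Module.compHom N ι.toRingHom
  have : IsScalarTower P B N := .of_algebraMap_smul fun _ _ => rfl
  have : IsScalarTower A P N := .of_algebraMap_smul fun a v => by
    show ι (algebraMap A _ a) • v = a • v
    rw [AlgHom.commutes, algebraMap_smul]
  let y : Ideal P := (IsLocalRing.maximalIdeal B).comap ι.toRingHom
  have : y.IsPrime := Ideal.IsPrime.comap _
  have hyu : ∀ t : y.primeCompl, IsUnit (ι t) := fun t => not_not.1 t.2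
  have hy : y.comap MvPolynomial.C = IsLocalRing.maximalIdeal A := by
    ext a
    show ι (algebraMap A P a) ∈ IsLocalRing.maximalIdeal B ↔ _
    rw [AlgHom.commutes, IsLocalRing.mem_maximalIdeal, IsLocalRing.mem_maximalIdeal, mem_nonunits_iff,
      mem_nonunits_iff, isUnit_map_iff]
  have hden : ∀ b : B, ∃ t : y.primeCompl, ∃ t' : P, ι t * b = ι t' := by
    intro b
    obtain ⟨⟨c, ⟨s, hs⟩⟩, hcs⟩ := IsLocalization.surj (Algebra.EssFiniteType.submonoid A B) b
    obtain ⟨t, rfl⟩ := hπ₀ s
    obtain ⟨t', rfl⟩ := hπ₀ c
    exact ⟨⟨t, fun h' => h' hs⟩, t', (mul_comm _ _).trans hcs⟩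
  obtain ⟨gens, hgens⟩ := (Module.Finite.fg_top : (⊤ : Submodule B N).FG)
  let N' : Submodule P N := Submodule.span _ (gens : Set N)
  have : Module.Finite P N' := Module.Finite.span_of_finite _ gens.finite_toSet
  have : IsLocalizedModule y.primeCompl N'.subtype :=
    { map_units := fun s => (Module.End.isUnit_iff _).2 ((hyu s).smul_bijective (β := N))
      surj := fun z => by
        have hz : z ∈ Submodule.span B (gens : Set N) := hgens ▸ trivial
        induction hz using Submodule.span_induction with
        | mem v hv => exact ⟨⟨⟨v, Submodule.subset_span hv⟩, 1⟩, one_smul _ v⟩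
        | zero => exact ⟨⟨0, 1⟩, by simp⟩
        | add v w _ _ hv hw =>
          obtain ⟨⟨a, s⟩, ha⟩ := hv
          obtain ⟨⟨c, t⟩, hc⟩ := hw
          refine ⟨⟨(t : P) • a + (s : P) • c, s * t⟩, ?_⟩
          show ((s : P) * t) • (v + w) = _ • (a : N) + _ • (c : N)
          rw [smul_add, show (a : N) = (s : P) • v from ha.symm, show (c : N) = (t : P) • w from hc.symm,
            smul_smul, smul_smul, mul_comm]
        | smul b v _ hv =>
          obtain ⟨⟨a, s⟩, ha⟩ := hv
          obtain ⟨t, t', htt⟩ := hden b
          refine ⟨⟨t' • a, t * s⟩, ?_⟩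
          show ι (t * s) • b • v = ι t' • (a : N)
          rw [show (a : N) = ι (s : P) • v from ha.symm, smul_smul, smul_smul, ← htt, map_mul]
          congr 1
          ring
      exists_of_eq := fun {a c} h => ⟨1, by rw [Subtype.ext h]⟩ }
  -- a cover with the same closed fibre
  let p : Ideal A := IsLocalRing.maximalIdeal A
  obtain ⟨N₀, _, _, _, _, π, _, hπ, hπκ⟩ := exists_fp_cover (n := n) p N'
  let κe : IsLocalRing.ResidueField A ≃ₗ[A] p.ResidueField :=
    LinearEquiv.ofBijective (IsScalarTower.toAlgHom A (A ⧸ p) p.ResidueField).toLinearMap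
      (Ideal.bijective_algebraMap_quotient_residueField p)
  have hu : Function.Injective (u.lTensor p.ResidueField) := by
    rw [injective_iff_map_eq_zero]
    intro w hw
    apply (LinearEquiv.rTensor N κe.symm).injective
    rw [map_zero]
    apply h
    rw [map_zero, ← LinearEquiv.map_zero (LinearEquiv.rTensor M κe.symm), ← hw]
    clear hw
    induction w with
    | zero => simp
    | add a b ha hb => simp only [map_add, ha, hb]
    | tmul c x => simp
  let l' := N'.subtype ∘ₗ π
  let v₀ : N₀ →ₗ[A] M := u ∘ₗ l'.restrictScalars A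
  have hflat₀ : Module.Flat A (LocalizedModule y.primeCompl N₀) := by
    refine flat_localized_of_injective_poly y p hy v₀ fun w hw => ?_
    have h0 : (N'.subtype.restrictScalars A).lTensor p.ResidueField ((π.restrictScalars A).lTensor p.ResidueField w) = 0 := by
      refine hu ?_
      rw [map_zero, ← hw, ← LinearMap.lTensor_comp_apply, ← LinearMap.lTensor_comp_apply]
      rfl
    obtain ⟨t, ht, htw⟩ := exists_smul_eq_zero_of_lTensor y.primeCompl N'.subtype _ h0
    exact ⟨t, ht, hπκ (by rw [map_zero, lTensor_lsmul_map, htw])⟩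
  let G := LocalizedModule y.primeCompl N₀
  let lG := LocalizedModule.mkLinearMap y.primeCompl N₀
  let L : G →ₗ[P] N := IsLocalizedModule.map y.primeCompl lG N'.subtype π
  have hL : L ∘ₗ lG = l' := IsLocalizedModule.map_comp y.primeCompl lG N'.subtype π
  have hLκ : Function.Injective ((L.restrictScalars A).lTensor p.ResidueField) :=
    injective_lTensor_localized y.primeCompl lG N'.subtype π L hL fun w hw =>
      ⟨1, one_mem _, by rw [hπκ (hw.trans (map_zero _).symm), map_zero]⟩
  let v : G →ₗ[A] M := u ∘ₗ L.restrictScalars A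
  have hv : FlatCA.UnivInj A v := by
    refine univInj_of_injective_residue y hy lG v ?_
    rw [injective_iff_map_eq_zero]
    intro w hw
    apply (LinearEquiv.rTensor G κe).injective
    rw [map_zero]
    apply hLκ
    apply hu
    rw [map_zero, map_zero, ← LinearEquiv.map_zero (LinearEquiv.rTensor M κe), ← hw]
    clear hw
    induction w using TensorProduct.induction_on with
    | zero => simp
    | add a b ha hb => simp only [map_add, ha, hb]
    | tmul c x => simp [v]
  have hLi : Function.Injective L := by
    intro a b hab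
    have : ((1 : A) ⊗ₜ[A] a : A ⊗[A] G) = (1 : A) ⊗ₜ[A] b := hv A (by
      show (1 : A) ⊗ₜ[A] u (L a) = (1 : A) ⊗ₜ[A] u (L b)
      rw [hab])
    simpa using congr(TensorProduct.lid A G $this)
  have hLs : Function.Surjective L := fun z => by
    obtain ⟨⟨x, t⟩, hx⟩ := IsLocalizedModule.surj y.primeCompl N'.subtype z
    obtain ⟨x, rfl⟩ := hπ x
    have hx' : (t : P) • z = L (lG x) := hx.trans (LinearMap.congr_fun hL x).symm
    obtain ⟨g, hg⟩ := ((Module.End.isUnit_iff _).1 (IsLocalizedModule.map_units lG t)).2 (lG x)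
    refine ⟨g, ((Module.End.isUnit_iff _).1 (IsLocalizedModule.map_units N'.subtype t)).1 ?_⟩
    show (t : P) • L g = (t : P) • z
    rw [hx', ← map_smul]
    exact congrArg L hg
  let e : G ≃ₗ[P] N := LinearEquiv.ofBijective L ⟨hLi, hLs⟩
  refine ⟨fun Q _ _ => ?_, ?_, Module.Flat.of_linearEquiv (e.restrictScalars A).symm⟩
  · rw [injective_iff_map_eq_zero]
    intro w hw
    apply (LinearEquiv.rTensor Q (e.restrictScalars A).symm).injective
    rw [map_zero]
    apply (TensorProduct.comm A G Q).injective
    rw [map_zero]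
    apply hv Q
    rw [map_zero, ← LinearEquiv.map_zero (TensorProduct.comm A M Q), ← hw]
    clear hw
    induction w with
    | zero => simp
    | add a b ha hb => simp only [map_add, ha, hb]
    | tmul x c =>
      simp only [LinearEquiv.rTensor_tmul, TensorProduct.comm_tmul, LinearMap.lTensor_tmul, LinearMap.rTensor_tmul]
      show c ⊗ₜ[A] u (e (e.symm x)) = _
      rw [LinearEquiv.apply_symm_apply]
  · have : IsLocalizedModule y.primeCompl l' := by
      rw [← hL]
      exact IsLocalizedModule.of_linearEquiv y.primeCompl lG e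
    let φ : B ⊗[P] N₀ →ₗ[B] N := l'.liftBaseChange B
    have hone : ∀ x, φ ((1 : B) ⊗ₜ x) = l' x := fun x => by simp [φ]
    have hrep : ∀ z : B ⊗[P] N₀, ∃ t : y.primeCompl, ∃ x : N₀, (t : P) • z = (1 : B) ⊗ₜ[P] x := by
      intro z
      induction z using TensorProduct.induction_on with
      | zero => exact ⟨1, 0, by simp⟩
      | add a b ha hb =>
        obtain ⟨t, x, hx⟩ := ha
        obtain ⟨t', x', hx'⟩ := hb
        refine ⟨t * t', (t' : P) • x + (t : P) • x', ?_⟩
        rw [tmul_add, tmul_smul, tmul_smul, ← hx, ← hx', smul_add, smul_smul, smul_smul, Submonoid.coe_mul,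
          mul_comm (t' : P)]
      | tmul b x =>
        obtain ⟨t, t', htt⟩ := hden b
        refine ⟨t, t' • x, ?_⟩
        rw [← smul_tmul, smul_tmul', Algebra.smul_def, Algebra.smul_def, mul_one]
        exact congrArg (· ⊗ₜ[P] x) htt
    have hinv : ∀ (t : y.primeCompl) (z : B ⊗[P] N₀), (t : P) • z = 0 → z = 0 := fun t z hz => by
      rw [← algebraMap_smul B (t : P) z] at hz
      exact (hyu t).smul_eq_zero.1 hz
    refine Module.FinitePresentation.of_equiv (LinearEquiv.ofBijective φ ⟨?_, fun z => ?_⟩)
    · rw [injective_iff_map_eq_zero]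
      intro z hz
      obtain ⟨t, x, hx⟩ := hrep z
      have h1 : l' x = 0 := by rw [← hone, ← hx, LinearMap.map_smul_of_tower, hz, smul_zero]
      obtain ⟨c, hc⟩ := (IsLocalizedModule.eq_zero_iff y.primeCompl l').1 h1
      refine hinv (c * t) z ?_
      rw [Submonoid.coe_mul, mul_smul, hx, ← tmul_smul]
      show (1 : B) ⊗ₜ[P] (c • x) = 0
      rw [hc, tmul_zero]
    · obtain ⟨⟨x, t⟩, hx⟩ := IsLocalizedModule.surj y.primeCompl l' z
      obtain ⟨u', hu'⟩ := hyu t
      refine ⟨(↑u'⁻¹ : B) • ((1 : B) ⊗ₜ[P] x), ?_⟩
      rw [map_smul, hone, ← show (t : P) • z = l' x from hx]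
      show (↑u'⁻¹ : B) • ι t • z = z
      rw [← hu', smul_smul, Units.inv_mul, one_smul]

end Groth.Agent.S0407
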