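import Groth.Statements.S0420
import Groth.Agent.Ega43Sect.GeomConnMain

set_option autoImplicit false
set_option linter.style.haveILetI false
set_option backward.isDefEq.respectTransparency false
set_option backward.isDefEq.respectTransparency.types false
universe u
open FlatMor

namespace Groth.Agent.S0420

open AlgebraicGeometry CategoryTheory Limits in
/-- For a morphism of finite type to an irreducible scheme whose generic fibre is geometrically
connected, all fibres over some nonempty open of the target are geometrically connected. -/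
theorem result {X Y : Scheme.{u}} (f : X ⟶ Y) [IrreducibleSpace ↑Y] [LocallyOfFiniteType f] [QuasiCompact f]
    (h : GeometricallyConnected (f.fiberToSpecResidueField (genericPoint ↑Y))) :
    ∃ V : Y.Opens, (V : Set ↑Y).Nonempty ∧ GeometricallyConnected (f ∣_ V) := by
  obtain ⟨A, _, _, ψ, hψ, hV⟩ := Ega43Sect.exists_domain_chart Y
  let Ω := AlgebraicClosure (FractionRing A)
  haveI : FaithfulSMul A Ω := by
    rw [faithfulSMul_iff_algebraMap_injective, IsScalarTower.algebraMap_eq A (FractionRing A) Ω]
    exact (algebraMap (FractionRing A) Ω).injective.comp (IsFractionRing.injective A (FractionRing A))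
  haveI : CompactSpace ↥(pullback f ψ) := QuasiCompact.compactSpace_of_compactSpace (pullback.snd f ψ)
  let yΩ := Spec.map (CommRingCat.ofHom (algebraMap A Ω))
  have hΩ : ConnectedSpace ↥(pullback (pullback.snd f ψ) yΩ) := by
    have h1 : ConnectedSpace ↥(pullback f (yΩ ≫ ψ)) :=
      Ega43Sect.pullback_of_fiber f (fun Z => ConnectedSpace ↥Z) (genericPoint ↥Y) h.1 (yΩ ≫ ψ)
        (hψ (PrimeSpectrum.comap (algebraMap A Ω) (IsLocalRing.closedPoint Ω)) (le_bot_iff.1 fun a ha => by
          have h0 : algebraMap A Ω a ∈ IsLocalRing.maximalIdeal Ω := ha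
          rw [IsLocalRing.maximalIdeal_eq_bot, Ideal.mem_bot] at h0
          exact Ideal.mem_bot.2 (FaithfulSMul.algebraMap_injective A Ω (h0.trans (map_zero _).symm))))
    haveI := h1
    exact (pullbackLeftPullbackSndIso f ψ yΩ).inv.homeomorph.surjective.connectedSpace
      (pullbackLeftPullbackSndIso f ψ yΩ).inv.continuous
  obtain ⟨c, hc, hnear⟩ := Ega43Sect.exists_connectedSpace_near (pullback.snd f ψ) Ω hΩ
  obtain ⟨V, hVne, hV⟩ := hV c hc
  refine ⟨V, hVne, ⟨geometrically_iff_of_isClosedUnderIsomorphisms.mpr fun K _ y => ?_⟩⟩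
  obtain ⟨φ, hφ, hy⟩ := hV K (y ≫ V.ι) (y.base (IsLocalRing.closedPoint K)).2
  letI := φ.toAlgebra
  have h2 := hnear K hφ
  let e : pullback (f ∣_ V) y ≅ pullback f (y ≫ V.ι) :=
    (IsPullback.paste_vert (IsPullback.of_hasPullback (f ∣_ V) y).flip (isPullback_morphismRestrict f V)).flip.isoPullback
  haveI : ConnectedSpace ↥(pullback f (y ≫ V.ι)) := by
    rw [← hy]
    haveI := h2
    exact (pullbackLeftPullbackSndIso f ψ _).hom.homeomorph.surjective.connectedSpace
      (pullbackLeftPullbackSndIso f ψ _).hom.continuous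
  exact e.inv.homeomorph.surjective.connectedSpace e.inv.continuous
end Groth.Agent.S0420
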