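import Groth.Statements.S0447
import Groth.Agent.RGCore.GeomIntMain

set_option autoImplicit false
universe u
open FlatMor

namespace Groth.Agent.S0447

open AlgebraicGeometry CategoryTheory Limits in
/-- For a flat morphism of finite presentation between affine schemes whose fibres are geometrically
integral, the coordinate ring of the source is a projective module over that of the target. -/
theorem result {X S : Scheme.{u}} (f : X ⟶ S) [IsAffine X] [IsAffine S] [Flat f] [LocallyOfFinitePresentation f] [GeometricallyIntegral f] :
    @Module.Projective Γ(S, ⊤) _ Γ(X, ⊤) _ (f.appTop).hom.toAlgebra.toModule := by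
  algebraize [(f.appTop).hom]
  have hfp : Algebra.FinitePresentation Γ(S, ⊤) Γ(X, ⊤) :=
    (HasRingHomProperty.iff_of_isAffine (P := @LocallyOfFinitePresentation)).1 inferInstance
  have hfl : Module.Flat Γ(S, ⊤) Γ(X, ⊤) := (HasRingHomProperty.iff_of_isAffine (P := @Flat)).1 inferInstance
  refine Groth.Agent.RGCore.projective_of_isDomain_fibres fun K _ _ => ?_
  refine Groth.Agent.RGCore.isDomain_tensor_of_geomIntegral ?_ K
  show GeometricallyIntegral (Spec.map f.appTop)
  have he := Scheme.isoSpec_hom_naturality f
  have hsq : CommSq X.isoSpec.inv (Spec.map f.appTop) f S.isoSpec.inv :=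
    ⟨by rw [Iso.eq_comp_inv, Category.assoc, ← he, Iso.inv_hom_id_assoc]⟩
  exact MorphismProperty.of_isPullback (P := @GeometricallyIntegral) (IsPullback.of_horiz_isIso hsq) ‹_›

end Groth.Agent.S0447
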