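import Groth.Statements.S0610
import Groth.Statements.S0610
import Groth.Agent.CurveFin75.Instances

set_option autoImplicit false
universe u
open AlgebraicGeometry CategoryTheory
open Zeta

open Groth.Agent

namespace Groth.Agent.S0610

/-- Weil conjectures for curves, in elementary form (rationality of the zeta function with numerator of
degree 2g, the functional equation and the Riemann hypothesis, packaged as a point-count formula):
let k be a finite field with q elements and C a smooth, proper, geometrically irreducible curve over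
k of genus g, the genus being pinned down by #H¹(C, O_C) = q^g (equivalent to dim_k H¹(C, O_C) = g).
Then there are complex numbers α_1, …, α_{2g}, each an algebraic integer with |α_i|² = q, and a
permutation σ of the indices with α_{σ(i)} · α_i = q for all i, such that for every finite extension
k' of k the number of k'-points of C equals q^{[k':k]} + 1 − Σ_i α_i^{[k':k]}. -/
theorem result {k : Type u} [Field k] [Finite k] {C : Scheme.{u}}
    (f : C ⟶ Spec (CommRingCat.of k)) (hC : Curve.IsSmoothProperCurve k C f)
    [GeometricallyIrreducible f] (g : ℕ)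
    (hg : Nat.card (Coh.HH C (Coh.structureModule C) 1) = Nat.card k ^ g) :
    ∃ α : Fin (2 * g) → ℂ, (∀ i, IsIntegral ℤ (α i)) ∧ (∀ i, ‖α i‖ ^ 2 = Nat.card k) ∧
      (∃ σ : Equiv.Perm (Fin (2 * g)), ∀ i, α (σ i) * α i = Nat.card k) ∧
      ∀ (k' : Type u) [Field k'] [Algebra k k'] [Finite k'],
        (SgaExt.pointCount f k' : ℂ) =
          (Nat.card k : ℂ) ^ Module.finrank k k' + 1 - ∑ i, α i ^ Module.finrank k k' := by
  obtain ⟨hP, hS, hI, hdim⟩ := hC
  letI : C.Over (Spec (CommRingCat.of k)) := ⟨f⟩
  haveI : IsProper (C ↘ Spec (CommRingCat.of k)) := hP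
  haveI : Smooth (C ↘ Spec (CommRingCat.of k)) := hS
  haveI : IsIntegral C := hI
  haveI : GeometricallyIrreducible (C ↘ Spec (CommRingCat.of k)) := ‹GeometricallyIrreducible f›
  letI := CurveFF.ffAlg k C
  have h0 := CurveFin75.finrank_h0_of_geometricallyIrreducible k C
  have hK := CurveFin75.isFunctionField k hdim h0
  obtain rfl := CurveFin75.genus_eq_of_card k hdim h0 hg
  obtain ⟨α, hint, hα, hpair⟩ := FFLib.exists_reciprocal_roots hK
  obtain ⟨hn, hσ⟩ := CurveFin75.norm_and_pairing hK α hα hpair
  refine ⟨α, hint, hn, ⟨Fin.revPerm, hσ⟩, fun k' _ _ _ => ?_⟩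
  haveI : Module.Finite k k' := Module.Finite.of_finite
  rw [show SgaExt.pointCount f k' = _ from CurveFin75.pointCount_eq_placeCount k hdim k',
    FFLib.placeCount_eq hK.1 α hα Module.finrank_pos]
  ring

end Groth.Agent.S0610
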