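import Groth.Statements.S0646
import Groth.Agent.EtLim64.OneStageLimit
import Groth.Agent.EtLim64.Aft
-- import your own Groth.Agent.* helpers here

set_option autoImplicit false
set_option maxHeartbeats 1000000
set_option maxRecDepth 10000
set_option backward.isDefEq.respectTransparency.types false
open CategoryTheory CategoryTheory.Limits AlgebraicGeometry Opposite
universe u
open EtCore

namespace Groth.Agent.S0646

/-- For systems of sheaves pulled back from one stage: let ι be a directed preordered set, (X_i) an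
inverse system of quasi-compact quasi-separated schemes indexed by ι with affine transition
morphisms, X a limit with projections f_i, i₀ an index and F₀ an abelian sheaf on the small etale
site of X_{i₀}. Then H^p(X, f_{i₀}^{-1} F₀) is the colimit of the groups H^p(X_j, F₀|_{X_j}) over j
≥ i₀, in the concrete sense: every class on X is pulled back from some X_j, and a class on X_j that
pulls back to zero on X already pulls back to zero on some X_k, k ≥ j. (The source allows general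
systems of sheaves (F_i, φ_{i'i}); only systems pulled back from a single stage are stated.)
(Exactness of pullback of abelian sheaves, which always holds, is carried as an instance
hypothesis.) -/
theorem result {ι : Type u} [Preorder ι] [IsDirected ι (· ≤ ·)] (Xs : ιᵒᵖ ⥤ Scheme.{u})
    (haff : ∀ ⦃a b : ιᵒᵖ⦄ (h : a ⟶ b), IsAffineHom (Xs.map h))
    (hqc : ∀ a, CompactSpace ↥(Xs.obj a)) (hqs : ∀ a, QuasiSeparatedSpace ↥(Xs.obj a))
    (c : Cone Xs) (hc : IsLimit c) (i₀ : ι) (F₀ : EtCoh.Ab (Xs.obj (op i₀))) (p : ℕ)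
    [∀ a, PreservesFiniteLimits (EtCoh.pull (c.π.app a))]
    [∀ ⦃a b : ιᵒᵖ⦄ (h : a ⟶ b), PreservesFiniteLimits (EtCoh.pull (Xs.map h))] :
    (∀ ξ : EtCoh.H c.pt ((EtCoh.pull (c.π.app (op i₀))).obj F₀) p,
      ∃ (j : ι) (hj : i₀ ≤ j) (ξj : EtCoh.H (Xs.obj (op j)) ((EtCoh.pull (Xs.map (homOfLE hj).op)).obj F₀) p),
        EtCore.HpullVia (c.π.app (op j)) (Xs.map (homOfLE hj).op) (c.π.app (op i₀)) (c.w (homOfLE hj).op) F₀ p ξj = ξ) ∧
    (∀ (j : ι) (hj : i₀ ≤ j) (ξj : EtCoh.H (Xs.obj (op j)) ((EtCoh.pull (Xs.map (homOfLE hj).op)).obj F₀) p),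
      EtCore.HpullVia (c.π.app (op j)) (Xs.map (homOfLE hj).op) (c.π.app (op i₀)) (c.w (homOfLE hj).op) F₀ p ξj = 0 →
        ∃ (k : ι) (hk : j ≤ k), EtCore.Hpull (Xs.map (homOfLE hk).op) _ p ξj = 0) := by
  open EtLim64 in
  let Ys := (aftFun i₀).op ⋙ Xs
  let d := c.whisker (EtLim64.aftFun i₀).op
  haveI : ∀ a, PreservesFiniteLimits (EtCoh.pull (d.π.app a)) :=
    fun _ => EtFound.pull_preservesFiniteLimits _
  haveI : ∀ ⦃a b : (EtLim64.Aft i₀)ᵒᵖ⦄ (h : a ⟶ b), PreservesFiniteLimits (EtCoh.pull (Ys.map h)) :=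
    fun _ _ _ => EtFound.pull_preservesFiniteLimits _
  have ha : ∀ ⦃i j : EtLim64.Aft i₀⦄ (h : i ≤ j),
      Ys.map (homOfLE h).op ≫ Xs.map (homOfLE i.2).op = Xs.map (homOfLE j.2).op := fun i j h =>
    (Xs.map_comp ((EtLim64.aftFun i₀).op.map (homOfLE h).op) (homOfLE i.2).op).symm.trans
      (congrArg Xs.map (Subsingleton.elim _ _))
  obtain ⟨hs, hi⟩ := EtLim64.exists_pull_stage Ys d (fun j => Xs.map (homOfLE j.2).op) ha
    (c.π.app (op i₀)) (fun j => c.w (homOfLE j.2).op) F₀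
    ((Functor.Initial.isLimitWhiskerEquiv (EtLim64.aftFun i₀).op c).symm hc)
    (fun _ _ h => haff ((EtLim64.aftFun i₀).op.map h)) (fun _ => hqc _) (fun _ => hqs _) p
  refine ⟨fun ξ => ?_, fun j hj ξj h0 => ?_⟩
  · obtain ⟨j, x, hx⟩ := hs ξ
    exact ⟨j.1, j.2, x, hx⟩
  · obtain ⟨k, hk, e⟩ := hi ⟨j, hj⟩ ξj h0
    exact ⟨k.1, hk, EtLim64.Hpull_eq_zero_of_hpullThen _ _ ((EtEff48.HFun.θ _ _ _ (ha hk)).app F₀) p ξj e⟩

end Groth.Agent.S0646
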