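import Groth.Statements.S0720
import Groth.Agent.ProDI71.Final

set_option autoImplicit false
open CategoryTheory CategoryTheory.Limits AlgebraicGeometry Opposite
universe u
open ProEtS

namespace Groth.Agent.S0720

/-- Let f : X -> Y be quasi-compact and quasi-separated and F an abelian sheaf on X_et. Then for every
q, R^q f_{proet,*} (eps^{-1} F) is isomorphic to eps^{-1} (R^q f_{et,*} F) (continuity of the
comparison and base change functors assumed as binders; existence of an isomorphism). -/
theorem result {X Y : Scheme.{u}} (f : X ⟶ Y) [QuasiCompact f]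
    [QuasiSeparated f] [ProEtS.EpsCont X] [ProEtS.EpsCont Y] [ProEtS.PCont f] (F : EtCoh.Ab X)
    (q : ℕ) :
    Nonempty ((ProEtS.RpushP f q).obj ((ProEtS.epsPull X).obj F) ≅
      (ProEtS.epsPull Y).obj ((EtCoh.Rpush f q).obj F)) := by
  obtain ⟨e⟩ := Groth.Agent.ProDI71.rpushP_pullC_iso f F q
  exact ⟨(ProEtS.RpushP f q).mapIso ((Groth.Agent.ProEtLib.epsPullIso X).app F) ≪≫ e ≪≫
    ((Groth.Agent.ProEtLib.epsPullIso Y).app _).symm⟩

end Groth.Agent.S0720
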