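import Groth.Statements.S0731
import Groth.Agent.EtModLC71.ExtZeroLimits

set_option autoImplicit false
open CategoryTheory CategoryTheory.Limits AlgebraicGeometry Opposite
universe u
open ProEtS

namespace Groth.Agent.S0731

/-- For a quasi-compact open immersion j : U -> X the functor j_! on abelian pro-etale sheaves commutes
with (small) limits (continuity of the site functor of j assumed as a binder). -/
theorem result {U X : Scheme.{u}} (j : U ⟶ X)
    [IsOpenImmersion j] [QuasiCompact j] [ProEtS.JPCont j] (J : Type u) [SmallCategory J] :
    PreservesLimitsOfShape J (ProEtS.extZeroP j) := by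
  have : HasLimitsOfSize.{u, u} AddCommGrpCat.{u + 1} := hasLimitsOfSizeShrink.{u, u, u + 1, u + 1} _
  exact Groth.Agent.EtModLC71.preservesLimitsOfShape_extZeroP j J

end Groth.Agent.S0731
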