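import Groth.Statements.S0732
import Groth.Agent.EtModLC71.Recoll
import Mathlib.CategoryTheory.Sites.EpiMono

set_option autoImplicit false
open CategoryTheory CategoryTheory.Limits AlgebraicGeometry Opposite
universe u
open ProEtS
open Groth.Agent
set_option backward.isDefEq.respectTransparency.types false

namespace Groth.Agent.S0732

/-- Let j : U -> X be weakly etale and i : Z -> X a closed immersion with U x_X Z empty. Let V be an
affine object of X_proet in which each point has some specialization lying over Z. Then j_! F (V) =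
0 for every abelian sheaf F on U_proet (continuity of the site functor of j assumed as a binder). -/
theorem result {U X Z : Scheme.{u}} (j : U ⟶ X) [WeaklyEtale j] (i : Z ⟶ X)
    [IsClosedImmersion i] (hUZ : Disjoint (Set.range j.base) (Set.range i.base)) [ProEtS.JPCont j]
    (V : X.ProEt) [IsAffine V.left]
    (hV : ∀ v : ↥V.left, ∃ z : ↥V.left, V.hom.base z ∈ Set.range i.base ∧ v ⤳ z)
    (F : ProEtS.AbP U) :
    Subsingleton (ProEtS.sectP ((ProEtS.extZeroP j).obj F) V) := by
  have : ProEtS.PCont i := ProEtLib.pCont i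
  have hom_eq : ∀ {Q : ProEtS.AbP Z} (φ ψ : (ProEtS.extZeroP j).obj F ⟶ (ProEtS.pushP i).obj Q), φ = ψ := by
    intro Q φ ψ
    refine ((ProEtS.extZeroPAdj j).homEquiv _ _).injective (Sheaf.hom_ext (NatTrans.ext (funext fun W =>
      ConcreteCategory.hom_ext _ _ fun x => ?_)))
    refine @Subsingleton.elim _ (EtModLC71.subsingleton_push Q ((ProEtS.compP j).obj W.unop) ?_) _ _
    rintro _ ⟨v, rfl⟩ hv
    exact Set.disjoint_left.1 hUZ ⟨W.unop.hom.base v, rfl⟩ hv
  refine ⟨fun s t => ?_⟩
  have h0 : (ProEtS.pullPushAdjP i).unit.app ((ProEtS.extZeroP j).obj F) = 0 := hom_eq _ _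
  have h0' : ∀ x, ((ProEtS.pullPushAdjP i).unit.app ((ProEtS.extZeroP j).obj F)).hom.app (op V) x = 0 :=
    fun x => by rw [h0]; rfl
  have hsep : Presieve.IsSeparated (Scheme.ProEt.topology X) (((ProEtS.extZeroP j).obj F).obj ⋙ forget AddCommGrpCat.{u + 1}) :=
    (((isSheaf_iff_isSheaf_of_type _ _).1 (GrothendieckTopology.HasSheafCompose.isSheaf _ ((ProEtS.extZeroP j).obj F).2))).isSeparated
  exact (hsep _ (EtModLC71.closedCover_of_specializes i V _
    (EtModLC71.equalizerSieve_mem_closedTop (ProEtS.pullPushAdjP i) _ s t ((h0' s).trans (h0' t).symm)) hV)).ext fun _ _ hf => hf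

end Groth.Agent.S0732
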