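import Groth.Statements.S0749
import Groth.Agent.EtRest69.Punctual

set_option autoImplicit false
set_option backward.isDefEq.respectTransparency.types false
open CategoryTheory CategoryTheory.Limits AlgebraicGeometry Opposite
open scoped TensorProduct
universe u
attribute [local instance] HasDerivedCategory.standard
open EtRest
open scoped ZeroObject

namespace Groth.Agent.S0749

/-- Let K be a separably closed field, X of finite type over K and Q an object of D(X_et) whose
cohomology sheaves have zero stalks at every geometric point lying over a non-closed point of X.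
Then Q = 0 if and only if H^i(X, Q) = Hom(Z, Q[i]) vanishes for all integers i. -/
theorem result {K : Type u} [Field K] [IsSepClosed K]
    {X : Scheme.{u}} (a : X ⟶ Spec (CommRingCat.of K)) [LocallyOfFiniteType a] [QuasiCompact a]
    (Q : DCoh.DEt X)
    (hQ : ∀ (x : ↥X), ¬ IsClosed ({x} : Set ↥X) → ∀ (Ω : Type u) [Field Ω] [IsSepClosed Ω]
      (ξ : Spec (CommRingCat.of Ω) ⟶ X), Set.range ξ.base = {x} →
        ∀ i : ℤ, IsZero ((EtCoh.stalk ξ).obj (DCoh.HDEt Q i))) :
    IsZero Q ↔ ∀ i : ℤ, Subsingleton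
      ((DerivedCategory.singleFunctor (EtCoh.Ab X) 0).obj (EtCoh.const X ℤ) ⟶ (shiftFunctor (DCoh.DEt X) i).obj Q) := by
  refine ⟨fun h i => ?_, fun h => ?_⟩
  · exact ⟨fun f g => ((shiftFunctor (DCoh.DEt X) i).map_isZero h).eq_of_tgt f g⟩
  have hP : ∀ j : ℤ, EtRest69.IsPunctual (DCoh.HDEt Q j) := fun j x hx => by
    by_contra hcl
    obtain ⟨Ω, _, _, ξ, rfl⟩ := EtFound.exists_geomPoint x
    exact (EtPBC63.mem_supp_iff ξ).1 hx (hQ _ hcl Ω ξ (EtFound.range_point ξ) j)
  have hz : ∀ i : ℤ, IsZero ((DerivedCategory.homologyFunctor (EtCoh.Ab X) i).obj Q) := fun i => by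
    by_contra h0
    obtain ⟨φ, hφ⟩ := EtRest69.exists_hom_ne_zero a _ (hP i) h0
    have hno : EtRest69.NoHom (EtCoh.const X ℤ) 0 ((shiftFunctor (DCoh.DEt X) i).obj Q) := fun f =>
      (h i).elim f 0
    have hi := EtRest69.noHom_of_iso ((shiftFunctorCompIsoId (DCoh.DEt X) i (-i) (add_neg_cancel i)).app Q)
      (EtRest69.noHom_shift (i := i) (k := -i) hno (add_neg_cancel i))
    refine hφ (EtRest69.hom_homology_eq_zero Q
      (fun U : {U : X.Etale // EtFound.IsQcqsObj U} => EtDerLib.ZU U.1) EtRest69.isSeparating_ZU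
      (fun U j => ?_) (fun j => EtRest69.acycFor_const a _ (hP j)) i hi φ)
    have : CompactSpace U.1.left := U.2.1
    exact EtRest69.acycFor_ZU a _ (hP j) U.1
  have : IsIso (0 : Q ⟶ 0) := (DerivedCategory.isIso_iff (EtCoh.Ab X) _).2 fun i =>
    ⟨0, (hz i).eq_of_src _ _, ((DerivedCategory.homologyFunctor (EtCoh.Ab X) i).map_isZero (isZero_zero _)).eq_of_src _ _⟩
  exact (isZero_zero _).of_iso (asIso (0 : Q ⟶ 0))

end Groth.Agent.S0749
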