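import Groth.Statements.S0760
import Groth.Agent.EtRest69.AcyclicConst
import Groth.Agent.EtFound.PullConst
import Groth.Agent.EtFound.Detect

set_option autoImplicit false
open CategoryTheory CategoryTheory.Limits AlgebraicGeometry Opposite
open scoped TensorProduct
set_option backward.isDefEq.respectTransparency.types false
universe u
open EtRest

namespace Groth.Agent.S0760

/-- Let f : X -> S be locally acyclic and F a locally constant abelian sheaf on X_et all of whose
geometric stalks are torsion groups whose elements have order prime to the residue characteristic.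
Then f is locally acyclic relative to F: for every point x, strict henselizations R_S -> R_X of the
local rings at f(x) and x (compatible with f), separably closed field Om under R_S, and every q,
pulling back along the variety of vanishing cycles Spec(R_X (x)_{R_S} Om) -> Spec R_X induces a
bijection H^q(Spec R_X, F|) -> H^q(Spec(R_X (x) Om), F|). (Left exactness of the pullback functor
carried as a binder.) -/
theorem result {X S : Scheme.{u}} (f : X ⟶ S)
    (hf : EtRest.IsLocallyAcyclic f) (F : EtCoh.Ab X) (hF : EtRest.IsLocallyConstant F)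
    (htor : ∀ (Ω : Type u) [Field Ω] [IsSepClosed Ω] (ξ : Spec (CommRingCat.of Ω) ⟶ X)
      (s : (EtCoh.stalk ξ).obj F), ∃ n : ℕ, 0 < n ∧ (n : Ω) ≠ 0 ∧ n • s = 0)
    (x : ↥X) (RS RX : Type u) [CommRing RS] [CommRing RX] [IsLocalRing RS] [IsLocalRing RX]
    [Algebra (S.presheaf.stalk (f.base x)) RS] [IsLocalHom (algebraMap (S.presheaf.stalk (f.base x)) RS)]
    [Hensel.IsStrictHenselization (S.presheaf.stalk (f.base x)) RS]
    [Algebra (X.presheaf.stalk x) RX] [IsLocalHom (algebraMap (X.presheaf.stalk x) RX)]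
    [Hensel.IsStrictHenselization (X.presheaf.stalk x) RX]
    [Algebra RS RX] [IsLocalHom (algebraMap RS RX)]
    (hc : (algebraMap RS RX).comp (algebraMap (S.presheaf.stalk (f.base x)) RS) =
      (algebraMap (X.presheaf.stalk x) RX).comp (f.stalkMap x).hom)
    (Ω : Type u) [Field Ω] [IsSepClosed Ω] [Algebra RS Ω]
    [PreservesFiniteLimits (EtCoh.pull
      (Spec.map (CommRingCat.ofHom (algebraMap RX (EtRest.vcRing RS RX Ω)))))] (q : ℕ) :
    Function.Bijective (EtCore.HpullVia
      (Spec.map (CommRingCat.ofHom (algebraMap RX (EtRest.vcRing RS RX Ω)))) (Hens2.specOf X x RX)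
      (Spec.map (CommRingCat.ofHom (algebraMap RX (EtRest.vcRing RS RX Ω))) ≫ Hens2.specOf X x RX)
      rfl F q) := by
  have : HenselianLocalRing RX := Hensel.IsStrictHenselization.henselian (R := X.presheaf.stalk x)
  have hsc : IsSepClosed (IsLocalRing.ResidueField RX) :=
    (Hensel.IsStrictHenselization.isSepClosure (R := X.presheaf.stalk x) (S := RX)).sep_closed
  let T := Spec (CommRingCat.of RX)
  let i : T ⟶ X := Hens2.specOf X x RX
  let g := Spec.map (CommRingCat.ofHom (algebraMap RX (EtRest.vcRing RS RX Ω)))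
  let G : EtCoh.Ab T := (EtCoh.pull i).obj F
  obtain ⟨ι, U, hU, hUc⟩ := hF
  obtain ⟨M, ⟨E⟩⟩ := EtRest69.exists_iso_const RX (fun k => (EtCoh.bc i).obj (U k))
    (EtFound.covers_bc i hU) (G := G) (fun k => by
      obtain ⟨N, _, ⟨e⟩⟩ := hUc k
      obtain ⟨φ, hφ⟩ := EtFound.exists_constBy e
      exact ⟨_, _, EtFound.constBy_pull i hφ⟩)
  let κ := IsLocalRing.ResidueField RX
  let Q : ℕ → Prop := fun n => (n : κ) ≠ 0
  have hQ : ∀ ⦃n d : ℕ⦄, Q n → d ∣ n → Q d := fun n d hn ⟨c, hc⟩ hd => hn (by
    show (n : κ) = 0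
    rw [hc, Nat.cast_mul, hd, zero_mul])
  let τ : M ⟶ (EtCoh.stalk (EtFound.cpt RX ≫ i)).obj F :=
    (toSheafify T.smallEtaleTopology ((Functor.const _).obj M)).app (op (EtCoh.top T)) ≫
      (Scheme.pointSmallEtale (EtFound.cpt RX)).toPresheafFiber (EtCoh.top T) (EtFound.cptTop RX)
        (sheafify T.smallEtaleTopology ((Functor.const _).obj M)) ≫
      (EtCoh.stalk (EtFound.cpt RX)).map E.inv ≫
      (EtFound.sheafFiberPullIso (A := AddCommGrpCat.{u + 1}) i (EtFound.cpt RX)).hom.app F
  have hM : ∀ m : M, ∃ n, Q n ∧ n • m = 0 := fun m => by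
    obtain ⟨n, -, hn, hns⟩ := htor κ (EtFound.cpt RX ≫ i) (τ m)
    have hτ : Function.Injective τ := by
      have h1 := (EtFound.toSheafify_const_germ_bijective (EtFound.cpt RX) AddCommGrpCat.{u + 1} M
        (EtCoh.top T) (EtFound.cptTop RX)).1
      have h2 : Function.Injective ((EtCoh.stalk (EtFound.cpt RX)).map E.inv ≫
          (EtFound.sheafFiberPullIso (A := AddCommGrpCat.{u + 1}) i (EtFound.cpt RX)).hom.app F) :=
        ((ConcreteCategory.isIso_iff_bijective _).1 inferInstance).1
      exact h2.comp h1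
    exact ⟨n, hn, hτ ((map_nsmul τ.hom n m).trans (hns.trans (map_zero τ.hom).symm))⟩
  have hV : ∀ d, Q d → (∀ q, 0 < q → Subsingleton (EtCoh.H (Spec (CommRingCat.of (EtRest.vcRing RS RX Ω)))
      (EtCoh.const _ (ZMod d)) q)) ∧ Nonempty (EtCoh.H (Spec (CommRingCat.of (EtRest.vcRing RS RX Ω)))
      (EtCoh.const _ (ZMod d)) 0 ≃+ ZMod d) := fun d hd =>
    hf x RS RX hc Ω d fun h => hd (by
      have := congrArg (IsLocalRing.ResidueField.map (algebraMap (X.presheaf.stalk x) RX)) h
      exact (map_natCast _ d).symm.trans (this.trans (map_zero _)))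
  have hb := EtRest69.bijective_Hpull_const g Q hQ (fun h => h Nat.cast_zero) hV M hM q
  have e : ∀ {A B : EtCoh.Ab T} (a : A ≅ B), Function.Bijective (EtCore.Hpull g B q) →
      Function.Bijective (EtCore.Hpull g A q) := fun {A B} a hB => by
    have hAB : Function.Bijective ((EtCoh.HF T q).map a.hom) :=
      (ConcreteCategory.isIso_iff_bijective _).1 inferInstance
    have hV' : Function.Bijective ((EtCoh.HF _ q).map ((EtCoh.pull g).map a.hom)) :=
      (ConcreteCategory.isIso_iff_bijective _).1 inferInstance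
    refine (Function.Bijective.of_comp_iff' hV' _).1 ?_
    exact Eq.mp (congrArg Function.Bijective (funext fun y => EtDerLib.Hpull_natural g a.hom q y)) (hB.comp hAB)
  have h2 : Function.Bijective ((EtCoh.HF (Spec (CommRingCat.of (EtRest.vcRing RS RX Ω))) q).map
      (((EtCore.pullComp g i).symm ≪≫ EtCore.pullCongr (rfl : g ≫ i = g ≫ i)).app F).hom) :=
    (ConcreteCategory.isIso_iff_bijective _).1 inferInstance
  exact h2.comp (e E hb)

end Groth.Agent.S0760
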