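import Groth.Statements.S0761
import Groth.Agent.EtRest69.Charts

set_option autoImplicit false
open CategoryTheory CategoryTheory.Limits AlgebraicGeometry Opposite
open scoped TensorProduct
set_option backward.isDefEq.respectTransparency.types false
universe u
open EtRest

namespace Groth.Agent.S0761

/-- In the case of a locally quasi-finite base change and for constant coefficients: if f : X -> S is
locally acyclic and g : S' -> S is locally quasi-finite, then the base change f' : X x_S S' -> S' is
locally acyclic. -/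
theorem result {X S S' : Scheme.{u}} (f : X ⟶ S) (g : S' ⟶ S)
    [LocallyOfFiniteType g] [LocallyQuasiFinite g] (hf : EtRest.IsLocallyAcyclic f) :
    EtRest.IsLocallyAcyclic (pullback.snd f g) := by
  refine EtRest69.isLocallyAcyclic_pullback_snd f g (fun s' A ιA _ hs' => ?_) hf
  obtain ⟨B, ιB, hιB, hs, hsub⟩ := Scheme.exists_affine_mem_range_and_range_subset
    (X := S') (x := s') (U := g ⁻¹ᵁ ιA.opensRange) hs'
  let φ : A ⟶ B := Spec.preimage (IsOpenImmersion.lift ιA (ιB ≫ g) (by
      rintro _ ⟨c, rfl⟩
      exact hsub ⟨c, rfl⟩))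
  have hφ : ιB ≫ g = Spec.map φ ≫ ιA := by
    rw [Spec.map_preimage, IsOpenImmersion.lift_fac]
  refine ⟨B, φ, ιB, hιB, hφ, hs, ?_⟩
  let := φ.hom.toAlgebra
  have : LocallyQuasiFinite (Spec.map φ ≫ ιA) := hφ ▸ inferInstance
  have : LocallyOfFiniteType (Spec.map φ ≫ ιA) := hφ ▸ inferInstance
  have h1 : LocallyQuasiFinite (Spec.map φ) := LocallyQuasiFinite.of_comp _ ιA
  have h2 : LocallyOfFiniteType (Spec.map φ) := locallyOfFiniteType_of_comp _ ιA
  have hft : Algebra.FiniteType A B := (HasRingHomProperty.Spec_iff (P := @LocallyOfFiniteType)).1 h2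
  have hqf : Algebra.QuasiFinite A B := (HasRingHomProperty.Spec_iff (P := @LocallyQuasiFinite)).1 h1
  exact fun t => ⟨⊤, Set.subset_univ _, hft.equiv Subalgebra.topEquiv.symm,
    Algebra.QuasiFinite.of_surjective_algHom Subalgebra.topEquiv.symm.toAlgHom
      Subalgebra.topEquiv.symm.surjective⟩

end Groth.Agent.S0761
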