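import Groth.Statements.S0762
import Groth.Agent.EtRest69.Charts

set_option autoImplicit false
open CategoryTheory CategoryTheory.Limits AlgebraicGeometry Opposite
open scoped TensorProduct
set_option backward.isDefEq.respectTransparency.types false
universe u
open EtRest

namespace Groth.Agent.S0762

/-- In the case of an integral base change and for constant coefficients: if f : X -> S is locally
acyclic and g : S' -> S is integral, then the base change f' : X x_S S' -> S' is locally acyclic. -/
theorem result {X S S' : Scheme.{u}} (f : X ⟶ S) (g : S' ⟶ S)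
    [IsIntegralHom g] (hf : EtRest.IsLocallyAcyclic f) :
    EtRest.IsLocallyAcyclic (pullback.snd f g) := by
  refine EtRest69.isLocallyAcyclic_pullback_snd f g (fun s' A ιA _ hs' => ?_) hf
  have hV : IsAffineOpen (g ⁻¹ᵁ ιA.opensRange) := (isAffineOpen_opensRange ιA).preimage g
  let φ : A ⟶ Γ(S', g ⁻¹ᵁ ιA.opensRange) :=
    Spec.preimage (IsOpenImmersion.lift ιA (hV.fromSpec ≫ g) (by
      rintro _ ⟨c, rfl⟩
      show g.base (hV.fromSpec.base c) ∈ ιA.opensRange
      exact hV.range_fromSpec.subset ⟨c, rfl⟩))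
  have hφ : hV.fromSpec ≫ g = Spec.map φ ≫ ιA := by
    rw [Spec.map_preimage, IsOpenImmersion.lift_fac]
  refine ⟨_, φ, hV.fromSpec, inferInstance, hφ, ?_, ?_⟩
  · rw [hV.range_fromSpec]; exact hs'
  · have hpb : IsPullback (Spec.map φ) hV.fromSpec ιA g :=
      IsOpenImmersion.isPullback _ _ _ _ hφ (TopologicalSpace.Opens.ext (by
        rw [Scheme.Hom.coe_opensRange, hV.range_fromSpec]))
    have : IsIntegralHom (Spec.map φ) := MorphismProperty.of_isPullback hpb.flip ‹_›
    let := φ.hom.toAlgebra
    have : Algebra.IsIntegral A Γ(S', g ⁻¹ᵁ ιA.opensRange) := ⟨IsIntegralHom.SpecMap_iff.1 ‹_›⟩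
    intro t
    have : Module.Finite A (Algebra.adjoin A (t : Set Γ(S', g ⁻¹ᵁ ιA.opensRange))) :=
      ⟨(Submodule.fg_top _).mpr (fg_adjoin_of_finite t.finite_toSet fun x _ => Algebra.IsIntegral.isIntegral x)⟩
    exact ⟨_, Algebra.subset_adjoin, inferInstance, inferInstance⟩

end Groth.Agent.S0762
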