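import Groth.Statements.S0802
import Groth.Agent.PunctCoh79.ColimBridge
import Groth.Agent.PunctCoh79.ColimPrincipal
-- import your own Groth.Agent.* helpers here

set_option autoImplicit false
universe u
open Formal2

namespace Groth.Agent.S0802

open AlgebraicGeometry in
/-- Let A be a Noetherian ring, f an element of an ideal 𝔞, and M a finite A-module on which f acts as a
nonzerodivisor; suppose A is complete for the f-adic topology and H^1_𝔞(M/fM) is a finite A-module.
Then, with U the complement of V(𝔞), the canonical map from the colimit of the sections of M~ over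
the opens V ⊆ U containing U ∩ V(f) to the limit of the sections of (M/f^nM)~ over U is bijective
(in the elementwise formulation of the prelude, degree-0 cohomology standing for sections). -/
theorem result (A : Type u) [CommRing A] [IsNoetherianRing A]
    (𝔞 : Ideal A) (f : A) (hf : f ∈ 𝔞) [IsAdicComplete (Ideal.span {f}) A]
    (M : Type u) [AddCommGroup M] [Module A M] [Module.Finite A M] (hreg : IsSMulRegular M f)
    (hfin : Module.Finite A (LocCoh.H 𝔞 1 (M ⧸ (Ideal.span {f} • (⊤ : Submodule A M))))) :
    Formal2.FormalCohColimBijective A (Ideal.span {f}) M 0 (LocCoh.puncturedOpen A 𝔞) := by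
  haveI : IsNoetherianRing (CommRingCat.of A) := inferInstanceAs (IsNoetherianRing A)
  rw [PunctCoh79.colimBij_iff]
  haveI : Module.Finite (CommRingCat.of A) ((localCohomology (R := CommRingCat.of A) 𝔞 1).obj
      (PunctCoh79.qM (R := CommRingCat.of A) (Ideal.span {f}) (ModuleCat.of A M) 0)) := by
    let e := Submodule.quotEquivOfEq (Ideal.span {f} • (⊤ : Submodule A M))
      (Ideal.span {f} ^ (0 + 1) • (⊤ : Submodule A M)) (by rw [zero_add, pow_one])
    exact Module.Finite.equiv ((localCohomology (R := A) 𝔞 1).mapIso e.toModuleIso).toLinearEquiv
  exact PunctCoh79.colimBij_principal (R := CommRingCat.of A) f (ModuleCat.of A M) 𝔞 hreg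

end Groth.Agent.S0802
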