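import Groth.Statements.S0883
import Groth.Agent.TopDesc98.NegVan.Basic

set_option autoImplicit false
universe u
open CategoryTheory
open CohTop

namespace Groth.Agent.S0883

open TopologicalSpace in
/-- Part (1) (abelian sheaves; the assertion about Rf_* K is not included): given a continuous map f : X
-> Y, a basis B of opens of Y and an object K of the derived category of abelian sheaves on X such
that H^i(f^{-1}V, K) = 0 for all i < 0 and V in B. Then H^i(f^{-1}V, K) = 0 for i < 0 and every open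
V of Y, and the presheaf V ↦ H^0(f^{-1}V, K) is a sheaf on Y. -/
theorem result {X Y : TopCat.{u}} (f : X ⟶ Y)
    [HasDerivedCategory.{u} (CohTop.Ab X)] (B : Set (Opens Y)) (hB : Opens.IsBasis B)
    (K : DerivedCategory (CohTop.Ab X))
    (h : ∀ V ∈ B, ∀ i : ℤ, i < 0 → Subsingleton (CohCx.HDU K i ((Opens.map f).obj V))) :
    (∀ (V : Opens Y) (i : ℤ), i < 0 → Subsingleton (CohCx.HDU K i ((Opens.map f).obj V))) ∧
    Presheaf.IsSheaf (Opens.grothendieckTopology Y) ((Opens.map f).op ⋙ CohCx.HDUPresheaf K 0) := by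
  obtain ⟨M₀, ⟨eM⟩⟩ : ∃ M₀, Nonempty (DerivedCategory.Q.obj M₀ ≅ K) :=
    ⟨_, ⟨DerivedCategory.Q.objObjPreimageIso K⟩⟩
  obtain ⟨I, φ, hI, hφ, -, -⟩ := TriCat.exists_kInjective_resolution'.{u} (A := CohTop.Ab X) M₀
  let eQ : DerivedCategory.Q.obj I ≅ K := (asIso (DerivedCategory.Q.map φ)).symm ≪≫ eM
  have : Limits.PreservesFiniteLimits (CohTop.pull f) := SiteBase.preservesFiniteLimits_pull f
  have adj := TopCat.Sheaf.pullbackPushforwardAdjunction AddCommGrpCat.{u} f
  have : (CohTop.pull f).IsLeftAdjoint := adj.isLeftAdjoint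
  have : (CohTop.pull f).Additive := Functor.additive_of_preserves_binary_products _
  let M := ((CohTop.push f).mapHomologicalComplex (ComplexShape.up ℤ)).obj I
  have : CochainComplex.IsKInjective M := SiteBase.isKInjective_map (L := CohTop.pull f) adj I
  let w := (Functor.whiskeringLeft _ _ AddCommGrpCat.{u}).obj (Opens.map f).op
  let e : ∀ n, (KInjSections.preCx M).homology n ≅ w.obj (CohCx.HDUPresheaf K n) := fun n =>
    ((KInjSections.preCx I).sc n).mapHomologyIso w ≪≫ w.mapIso (KInjSections.iso I n ≪≫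
      Functor.isoWhiskerLeft _ (preadditiveYoneda.mapIso
        ((shiftFunctor (DerivedCategory (CohTop.Ab X)) n).mapIso eQ)))
  obtain ⟨h₁, h₂⟩ := TopDesc98.negVan M B hB fun U hU n hn =>
    Limits.IsZero.of_iso (@AddCommGrpCat.isZero_of_subsingleton ((w.obj (CohCx.HDUPresheaf K n)).obj (Opposite.op U))
      (h U hU n hn)) ((e n).app (Opposite.op U))
  exact ⟨fun V n hn => AddCommGrpCat.subsingleton_of_isZero
      ((h₁ V n hn).of_iso ((e n).app (Opposite.op V)).symm),
    (Presheaf.isSheaf_of_iso_iff (e 0)).1 h₂⟩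

end Groth.Agent.S0883
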