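import Groth.Statements.S0884
import Groth.Agent.CTopNbd.Stalk
import Groth.Agent.CTopNbd.Spectral

set_option autoImplicit false
universe u
open CategoryTheory
open CohTop

namespace Groth.Agent.S0884

open TopologicalSpace in
/-- Let f : X -> Y be a spectral map of spectral spaces, y a point of Y, E ⊆ Y the set of points
specializing to y, and F an abelian sheaf on X. Then the stalk (R^p f_* F)_y is isomorphic to
H^p(f^{-1}(E), F|_{f^{-1}(E)}), the cohomology of the pullback of F to the subspace f^{-1}(E). -/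
theorem result {X Y : TopCat.{u}} [SpectralSpace X] [SpectralSpace Y]
    (f : X ⟶ Y) (hf : IsSpectralMap f) (y : Y) (F : CohTop.Ab X) (p : ℕ) :
    Nonempty (CohTop.stalk ((CohTop.Rpush f p).obj F) y ≃+
      CohTop.H ((CohTop.pull (TopCat.ofHom ⟨Subtype.val, continuous_subtype_val⟩ :
          TopCat.of {x : X | y ∈ closure {f x}} ⟶ X)).obj F) p) := by
  let i : TopCat.of {x : X | y ∈ closure {f x}} ⟶ X := TopCat.ofHom ⟨Subtype.val, continuous_subtype_val⟩
  have hmem : ∀ (V : Opens Y), y ∈ V → ∀ x, y ∈ closure {f x} → f x ∈ V := fun V hy x hx => by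
    obtain ⟨w, hw, hw'⟩ := mem_closure_iff.1 hx V V.isOpen hy
    rw [Set.mem_singleton_iff] at hw'
    exact hw' ▸ hw
  have hqc : ∀ {V : Opens Y}, IsCompact (V : Set Y) → IsCompact ((Opens.map f).obj V : Set X) :=
    fun {V} hV => hf.isCompact_preimage_of_isOpen V.isOpen hV
  have hsep : ∀ x, ¬ y ∈ closure {f x} → ∃ V : Opens Y, IsCompact (V : Set Y) ∧ y ∈ V ∧ f x ∉ V := by
    intro x hx
    obtain ⟨V, hV, hyV, hle⟩ := Groth.Agent.CTopNbd.exists_qc_nhd
      (show y ∈ (⟨(closure {f x})ᶜ, isClosed_closure.isOpen_compl⟩ : Opens Y) from hx)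
    exact ⟨V, hV, hyV, fun h => hle h (subset_closure rfl)⟩
  have hZ : Groth.Agent.CTopNbd.IsInterQC {x : X | y ∈ closure {f x}} := by
    intro x hx
    obtain ⟨V, hV, hyV, hxV⟩ := hsep x hx
    exact ⟨(Opens.map f).obj V, hqc hV, fun z hz => hmem V hyV z hz, hxV⟩
  have hO' : ∀ O : Opens X, (∀ a : {x : X | y ∈ closure {f x}}, a.1 ∈ O) →
      ∃ V : Opens Y, y ∈ V ∧ (Opens.map f).obj V ≤ O := by
    intro O hO
    obtain ⟨U, ⟨V, hV, hyV, rfl⟩, hd⟩ := Groth.Agent.CTopNbd.exists_mem_disjoint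
      (fun U : Opens X => ∃ V : Opens Y, IsCompact (V : Set Y) ∧ y ∈ V ∧ U = (Opens.map f).obj V)
      ⟨_, ⊤, isCompact_univ, trivial, rfl⟩ (fun U ⟨V, hV, _, hU⟩ => hU ▸ hqc hV)
      (fun U U' ⟨V, hV, hy, hU⟩ ⟨V', hV', hy', hU'⟩ =>
        ⟨V ⊓ V', hV.inter_of_isOpen hV' V.isOpen V'.isOpen, ⟨hy, hy'⟩, by rw [hU, hU']; rfl⟩)
      (O.isOpen.preimage (Groth.Agent.CTopVan.consMap X).hom.continuous).isClosed_compl (fun k hk => by
        obtain ⟨V, hV, hyV, hkV⟩ := hsep (Groth.Agent.CTopVan.consMap X k) fun hz => hk (hO ⟨_, hz⟩)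
        exact ⟨_, ⟨V, hV, hyV, rfl⟩, hkV⟩)
    refine ⟨V, hyV, fun x hx => ?_⟩
    obtain ⟨k, rfl⟩ := Groth.Agent.CTopVan.consMap_surjective X x
    by_contra h
    exact hd k h hx
  obtain ⟨e⟩ := Groth.Agent.CTopNbd.nonempty_stalk_rpush f y i Topology.IsInducing.subtypeVal
    (fun V hy a => hmem V hy a.1 a.2) hO' hZ.ctx hZ.ctx_id hZ.univ_mem F p
  exact ⟨e.addCommGroupIsoToAddEquiv⟩

end Groth.Agent.S0884
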