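import Groth.Statements.S0946
import Groth.Agent.CTopNbd.Colim

set_option autoImplicit false
universe u
open CategoryTheory
open CohTop

namespace Groth.Agent.S0946

open TopologicalSpace Opposite CategoryTheory.Limits in
/-- Take a quasi-compact subset Z of a topological space X whose points are pairwise separated by
disjoint opens of X, and an abelian sheaf F on X. For every p the group H^p(Z, F|_Z) (cohomology of
the pullback of F to the subspace Z) is isomorphic to the colimit of the groups H^p(U, F) over the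
open neighbourhoods U of Z (existence of an isomorphism with the colimit of the cohomology presheaf
restricted to the opens containing Z). -/
theorem result {X : TopCat.{u}} (Z : Set X) (hZ : IsCompact Z)
    (hsep : ∀ x ∈ Z, ∀ y ∈ Z, x ≠ y → ∃ U V : Opens X, x ∈ U ∧ y ∈ V ∧ Disjoint U V)
    (F : CohTop.Ab X) (p : ℕ) :
    Nonempty ((colimit (ObjectProperty.ι (fun U : (Opens X)ᵒᵖ => Z ⊆ (U.unop : Set X)) ⋙
        (Sheaf.cohomologyPresheafFunctor (Opens.grothendieckTopology X) p).obj F) : AddCommGrpCat.{u}) ≃+
      CohTop.H ((CohTop.pull (TopCat.ofHom ⟨Subtype.val, continuous_subtype_val⟩ : TopCat.of Z ⟶ X)).obj F) p) := by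
  have : CompactSpace Z := isCompact_iff_compactSpace.mp hZ
  let i : TopCat.of Z ⟶ X := TopCat.ofHom ⟨Subtype.val, continuous_subtype_val⟩
  have hi : Topology.IsInducing i := Topology.IsInducing.subtypeVal
  have hd : ∀ a b : Z, a ≠ b → Disjoint (nhds (a : X)) (nhds (b : X)) := fun a b hab => by
    obtain ⟨U, V, hx, hy, hUV⟩ := hsep a a.2 b b.2 fun h => hab (Subtype.ext h)
    exact Filter.disjoint_iff.2 ⟨U, U.2.mem_nhds hx, V, V.2.mem_nhds hy,
      Set.disjoint_iff.2 fun x hx => hUV.le_bot hx⟩
  have : T2Space Z := Groth.Agent.CTopNbd.t2Space_of_sep Topology.IsInducing.subtypeVal hd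
  refine Groth.Agent.CTopNbd.nonempty_colimit_addEquiv (i := i) ⟨fun U hU a => hU a.2, fun O hO => ?_⟩ hi
    (Groth.Agent.CTopNbd.ctx_compact (i := i) hi hd) Groth.Agent.CTopNbd.ctx_compact_id isClosed_univ F p
  exact ⟨op O, fun x hx => hO ⟨x, hx⟩, le_rfl⟩

end Groth.Agent.S0946
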