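import Groth.Statements.S0947
import Groth.Agent.CTopNbd.Colim
import Groth.Agent.CTopNbd.Spectral

set_option autoImplicit false
universe u
open CategoryTheory
open CohTop

namespace Groth.Agent.S0947

open TopologicalSpace Opposite CategoryTheory.Limits in
/-- Let X be a spectral space, F an abelian sheaf on X, E ⊆ X a quasi-compact subset and W the set of
points of X specializing to some point of E. Then for every p the group H^p(W, F|_W) (cohomology of
the pullback of F to the subspace W) is isomorphic to the colimit of the groups H^p(U, F) over the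
quasi-compact open neighbourhoods U of E (existence of an isomorphism). -/
theorem result {X : TopCat.{u}} [SpectralSpace X] (E : Set X)
    (hE : IsCompact E) (F : CohTop.Ab X) (p : ℕ) :
    Nonempty ((colimit (ObjectProperty.ι (fun U : (Opens X)ᵒᵖ => E ⊆ (U.unop : Set X) ∧ IsCompact (U.unop : Set X)) ⋙
        (Sheaf.cohomologyPresheafFunctor (Opens.grothendieckTopology X) p).obj F) : AddCommGrpCat.{u}) ≃+
      CohTop.H ((CohTop.pull (TopCat.ofHom ⟨Subtype.val, continuous_subtype_val⟩ :
        TopCat.of {x : X | ∃ e ∈ E, e ∈ closure {x}} ⟶ X)).obj F) p) := by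
  let i : TopCat.of {x : X | ∃ e ∈ E, e ∈ closure {x}} ⟶ X := TopCat.ofHom ⟨Subtype.val, continuous_subtype_val⟩
  have hZ : Groth.Agent.CTopNbd.IsInterQC {x : X | ∃ e ∈ E, e ∈ closure {x}} := by
    intro x hx
    obtain ⟨U, hU, hEU, hle⟩ := Groth.Agent.CTopNbd.exists_qc_between hE
      (O := ⟨(closure {x})ᶜ, isClosed_closure.isOpen_compl⟩) (fun e he h => hx ⟨e, he, h⟩)
    refine ⟨U, hU, ?_, fun h => hle h (subset_closure rfl)⟩
    rintro z ⟨e, he, hez⟩
    obtain ⟨w, hw, hw'⟩ := mem_closure_iff.1 hez U U.isOpen (hEU he)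
    rw [Set.mem_singleton_iff] at hw'
    exact hw' ▸ hw
  refine Groth.Agent.CTopNbd.nonempty_colimit_addEquiv (i := i) ⟨?_, fun O hO => ?_⟩
    Topology.IsInducing.subtypeVal hZ.ctx hZ.ctx_id hZ.univ_mem F p
  · rintro U ⟨hEU, -⟩ ⟨z, e, he, hez⟩
    obtain ⟨w, hw, hw'⟩ := mem_closure_iff.1 hez (U.unop : Set X) U.unop.isOpen (hEU he)
    rw [Set.mem_singleton_iff] at hw'
    exact hw' ▸ hw
  · obtain ⟨U, hU, hEU, hle⟩ := Groth.Agent.CTopNbd.exists_qc_between hE (O := O)
      (fun e he => hO ⟨e, e, he, subset_closure rfl⟩)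
    exact ⟨op U, ⟨hEU, hU⟩, hle⟩

end Groth.Agent.S0947
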