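import Groth.Statements.S0983
import Mathlib

set_option autoImplicit false
universe v u
open CategoryTheory
open CohDer

namespace Groth.Agent.S0983

open CategoryTheory.Pretriangulated in
/-- In a triangulated category, a commutative square f ≫ v = u ≫ f' (with f : X ⟶ Y, f' : X' ⟶ Y', u : X
⟶ X', v : Y ⟶ Y') extends to a diagram with three distinguished rows (X, Y, Z), (X', Y', Z'), (X'',
Y'', Z'') and three distinguished columns (X, X', X''), (Y, Y', Y''), (Z, Z', Z''), in which all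
squares commute except the one formed by the third morphisms of the last row and last column, which
anticommutes; the fourth row and column are the shifts of the first ones. -/
theorem result {D : Type u} [Category.{v} D] [Preadditive D] [Limits.HasZeroObject D] [HasShift D ℤ]
    [∀ n : ℤ, (shiftFunctor D n).Additive] [Pretriangulated D] [IsTriangulated D]
    {X Y X' Y' : D} (f : X ⟶ Y) (f' : X' ⟶ Y') (u : X ⟶ X') (v : Y ⟶ Y') (comm : f ≫ v = u ≫ f') :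
    ∃ (Z Z' X'' Y'' Z'' : D) (g : Y ⟶ Z) (h : Z ⟶ (shiftFunctor D (1 : ℤ)).obj X)
      (g' : Y' ⟶ Z') (h' : Z' ⟶ (shiftFunctor D (1 : ℤ)).obj X')
      (f'' : X'' ⟶ Y'') (g'' : Y'' ⟶ Z'') (h'' : Z'' ⟶ (shiftFunctor D (1 : ℤ)).obj X'')
      (u' : X' ⟶ X'') (u'' : X'' ⟶ (shiftFunctor D (1 : ℤ)).obj X)
      (v' : Y' ⟶ Y'') (v'' : Y'' ⟶ (shiftFunctor D (1 : ℤ)).obj Y)
      (w : Z ⟶ Z') (w' : Z' ⟶ Z'') (w'' : Z'' ⟶ (shiftFunctor D (1 : ℤ)).obj Z),
      Triangle.mk f g h ∈ distinguishedTriangles ∧ Triangle.mk f' g' h' ∈ distinguishedTriangles ∧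
      Triangle.mk f'' g'' h'' ∈ distinguishedTriangles ∧
      Triangle.mk u u' u'' ∈ distinguishedTriangles ∧ Triangle.mk v v' v'' ∈ distinguishedTriangles ∧
      Triangle.mk w w' w'' ∈ distinguishedTriangles ∧
      g ≫ w = v ≫ g' ∧ h ≫ (shiftFunctor D (1 : ℤ)).map u = w ≫ h' ∧
      f' ≫ v' = u' ≫ f'' ∧ g' ≫ w' = v' ≫ g'' ∧ h' ≫ (shiftFunctor D (1 : ℤ)).map u' = w' ≫ h'' ∧
      f'' ≫ v'' = u'' ≫ (shiftFunctor D (1 : ℤ)).map f ∧ g'' ≫ w'' = v'' ≫ (shiftFunctor D (1 : ℤ)).map g ∧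
      h'' ≫ (shiftFunctor D (1 : ℤ)).map u'' = -(w'' ≫ (shiftFunctor D (1 : ℤ)).map h) := by
  obtain ⟨Z, g, h, hZ⟩ := distinguished_cocone_triangle f
  obtain ⟨Z', g', h', hZ'⟩ := distinguished_cocone_triangle f'
  obtain ⟨X'', u', u'', hX''⟩ := distinguished_cocone_triangle u
  obtain ⟨Y'', v', v'', hY''⟩ := distinguished_cocone_triangle v
  obtain ⟨A, p, q, hA⟩ := distinguished_cocone_triangle (f ≫ v)
  let o₁ := Triangulated.someOctahedron (rfl : f ≫ v = f ≫ v) hZ hY'' hA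
  let o₂ := Triangulated.someOctahedron comm.symm hX'' hZ' hA
  obtain ⟨Z'', g'', h'', hZ''⟩ := distinguished_cocone_triangle (o₂.m₁ ≫ o₁.m₃)
  have hR : Triangle.mk o₁.m₃ (v'' ≫ (shiftFunctor D (1 : ℤ)).map g)
      (-(shiftFunctor D (1 : ℤ)).map o₁.m₁) ∈ distinguishedTriangles :=
    rot_of_distTriang _ o₁.mem
  let o₃ := Triangulated.someOctahedron (rfl : o₂.m₁ ≫ o₁.m₃ = o₂.m₁ ≫ o₁.m₃) o₂.mem hR hZ''
  refine ⟨Z, Z', X'', Y'', Z'', g, h, g', h', o₂.m₁ ≫ o₁.m₃, g'', h'', u', u'', v', v'',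
    o₁.m₁ ≫ o₂.m₃, o₃.m₁, o₃.m₃, hZ, hZ', hZ'', hX'', hY'', ?_, ?_, ?_, ?_, ?_, ?_, ?_, ?_, ?_⟩
  · refine (rotate_distinguished_triangle _).2 (isomorphic_distinguished _ o₃.mem _
      (Triangle.isoMk _ _ (Iso.refl _) (Iso.refl _) (Iso.refl _)
      ((Category.comp_id _).trans (Category.id_comp _).symm)
      ((Category.comp_id _).trans (Category.id_comp _).symm) ?_))
    change (-(shiftFunctor D (1 : ℤ)).map (o₁.m₁ ≫ o₂.m₃)) ≫ (shiftFunctor D (1 : ℤ)).map (𝟙 _) =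
      𝟙 _ ≫ ((-(shiftFunctor D (1 : ℤ)).map o₁.m₁) ≫ (shiftFunctor D (1 : ℤ)).map o₂.m₃)
    simp
  · have e₁ := o₁.comm₁
    have e₂ := o₂.comm₃
    rw [reassoc_of% e₁, e₂]
  · have e₁ := o₁.comm₂
    have e₂ := o₂.comm₄
    rw [Category.assoc, ← e₂, reassoc_of% e₁]
  · have e₁ := o₁.comm₃
    have e₂ := o₂.comm₁
    rw [reassoc_of% e₂, e₁]
  · have e₁ := o₁.comm₃
    have e₂ := o₂.comm₃
    have e₃ := o₃.comm₁
    have := p ≫= e₃
    rw [← Category.assoc, ← Category.assoc, e₁, e₂] at this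
    exact this
  · have e₃ := o₃.comm₂
    exact e₃.symm
  · have e₁ := o₁.comm₄
    have e₂ := o₂.comm₂
    rw [Category.assoc, ← e₁, reassoc_of% e₂]
  · have e₃ := o₃.comm₃
    exact e₃
  · have e₁ := o₁.comm₂
    have e₂ := o₂.comm₂
    have e₃ := o₃.comm₄
    have := e₃ =≫ (shiftFunctor D (1 : ℤ)).map q
    simp only [Category.assoc, Preadditive.neg_comp, Preadditive.comp_neg, ← Functor.map_comp,
      e₁, e₂] at this
    exact this

end Groth.Agent.S0983
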