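import Groth.Statements.S1001
import Groth.Agent.Perf52.ProperPush

set_option autoImplicit false
universe u
open CategoryTheory CategoryTheory.Limits AlgebraicGeometry
attribute [local instance] HasDerivedCategory.standard
open Perf

namespace Groth.Agent.S1001

/-- Let S be a Noetherian scheme, f : X ⟶ S locally of finite type, and E ∈ D(O_X) bounded with coherent
cohomology sheaves Hⁱ(E) whose supports are proper over S. Assuming Rf_* exists on the unbounded
derived category, Rf_*E is bounded with coherent cohomology sheaves. -/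
theorem result {X S : Scheme.{u}} [IsNoetherian S] (f : X ⟶ S) [LocallyOfFiniteType f]
    [DCoh.HasRpush f] (E : DCoh.D X) (a b : ℤ) [E.IsGE a] [E.IsLE b] (hE : DCoh.IsCohD E)
    (hsupp : ∀ i : ℤ, ClSub.IsProperOver f (CohB1.support (DCoh.HD E i))) :
    DCoh.IsCohD ((DCoh.Rpush f).obj E) ∧ ((DCoh.Rpush f).obj E).IsGE a ∧ ∃ b' : ℤ, ((DCoh.Rpush f).obj E).IsLE b' := by
  have h : ∀ i, Perf52.IsCohProper f (DCoh.HD E i) := fun i => ⟨hE i, hsupp i⟩
  obtain ⟨h₁, h₂⟩ := Perf52.rpush_cohProper_bounded f (b - a).toNat a E inferInstance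
    (DerivedCategory.TStructure.t.isLE_of_le _ b _ (by omega)) h
  exact ⟨h₁, KFlatLib.isGE_rpush f E a, h₂⟩

end Groth.Agent.S1001
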