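import Groth.Statements.S10047
import Groth.Agent.AlgSpOne.ThickClosed
import Groth.Agent.AlgSpDec.AffineRep
import Groth.Agent.AlgSpLib.LocP
import Groth.Agent.AlgSpLib.LocalSourceInst
-- import your own Groth.Agent.* helpers here

set_option autoImplicit false
universe u
open CategoryTheory CategoryTheory.Limits AlgebraicGeometry
open AlgSp

namespace Groth.Agent.S10047

set_option backward.isDefEq.respectTransparency false
set_option backward.isDefEq.respectTransparency.types false

/-- Let `f : X ⟶ B` and `g : B' ⟶ B` be morphisms of algebraic spaces over `S` with `g` a closed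
immersion inducing a bijection on points, and suppose the base change `X ×_B B' ⟶ B'` is a closed
immersion. If `f` is of finite type or `g` is of finite presentation, then `f` is a closed
immersion. -/
theorem result (S : Scheme.{u}) {X B B' : AlgSp.Space S}
    (f : X ⟶ B) (g : B' ⟶ B) (hg : AlgSp.RepWith @IsClosedImmersion g.hom)
    (hbij : Function.Bijective (AlgSp.Points.map g.hom))
    (X' : AlgSp.Sp S) (fst : X' ⟶ X.obj) (snd : X' ⟶ B'.obj) (hX' : IsPullback fst snd f.hom g.hom)
    (hsnd : AlgSp.RepWith @IsClosedImmersion snd)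
    (hor : AlgSp.IsFiniteTypeMor f.hom ∨ AlgSp.IsFinitePresentationMor g.hom) :
    AlgSp.RepWith @IsClosedImmersion f.hom := by
  have hs : RepWith @Surjective g.hom :=
    Groth.Agent.AlgSpLib.repWith_surjective_of_surjective hg.rep hbij.2
  have hj : IsThickMor g.hom := ⟨hg.rep, fun a b e fs sn h => ⟨hg.2 e fs sn h, hs.2 e fs sn h⟩⟩
  have hi : IsThickMor fst := Groth.Agent.AlgSpLib.repWith_of_isPullback hX'.flip hj
  have hfa : IsAffineMor f.hom :=
    (Groth.Agent.AlgSpLib.isAffineMor_iff_of_thick X.property B.property hi hj hX'.w).1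
      (Groth.Agent.AlgSpDec.isAffineMor_of_repWith (fun _ _ e (_ : IsClosedImmersion e) => inferInstanceAs (IsAffineHom e)) hsnd)
  have hft : RepWith @LocallyOfFiniteType f.hom ∨ RepWith @LocallyOfFinitePresentation g.hom :=
    hor.imp (fun h => Groth.Agent.AlgSpLib.repWith_of_locP B.property (Groth.Agent.AlgSpDec.representable_of_isAffineMor hfa) h.1)
      (fun h => Groth.Agent.AlgSpLib.repWith_of_locP B.property hg.rep h.1)
  refine Groth.Agent.AlgSpDec.repWith_of_affine_test fun Z hZ t => ?_
  obtain ⟨W, i, w, sq, hW⟩ := hfa hZ t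
  refine ⟨W, i, w, sq, hW, ?_⟩
  let c := hj.rep.snd t
  have sqc := hj.rep.isPullback t
  have : IsClosedImmersion c.left := (hj.property_snd t).1
  have : Surjective c.left := (hj.property_snd t).2
  have sq₁ := (IsPullback.of_hasPullback i c).map (AlgSp.yon S)
  have P0 : IsPullback ((AlgSp.yon S).map (pullback.fst i c) ≫ w) ((AlgSp.yon S).map (pullback.snd i c)) f.hom
      (hj.rep.fst t ≫ g.hom) := by
    rw [hj.rep.w t]
    exact sq₁.paste_horiz sq
  let l := hX'.lift ((AlgSp.yon S).map (pullback.fst i c) ≫ w) ((AlgSp.yon S).map (pullback.snd i c) ≫ hj.rep.fst t) (by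
    rw [P0.w, Category.assoc])
  have sq₂ : IsPullback l ((AlgSp.yon S).map (pullback.snd i c)) snd (hj.rep.fst t) :=
    IsPullback.of_right (by rw [hX'.lift_fst]; exact P0) (hX'.lift_snd _ _ _) hX'
  have : IsClosedImmersion (pullback.snd i c).left := hsnd.2 _ _ _ sq₂
  have sqF : IsPullback (pullback.fst i c).left (pullback.snd i c).left i.left c.left :=
    (IsPullback.of_hasPullback i c).map (Over.forget S)
  exact Groth.Agent.AlgSpOne.isClosedImmersion_of_thick sqF
    (hft.imp (fun h => h.2 t w i sq) (fun h => h.property_snd t))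

end Groth.Agent.S10047
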