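import Groth.Statements.S10105
import Groth.Agent.AlgSpDec.FppfFamily
-- import your own Groth.Agent.* helpers here

set_option autoImplicit false
universe u
open CategoryTheory CategoryTheory.Limits AlgebraicGeometry
open AlgSp Groth.Agent.AlgSpLib

namespace Groth.Agent.S10105

/-- Let `F` be an fppf sheaf of sets over `S` and `{S_i ⟶ S}` an fppf covering. If every `h_{S_i} × F`
is an algebraic space and the coproduct `∐ h_{S_i} × F` (in sheaves) is an algebraic space, then `F`
is an algebraic space: being an algebraic space is fppf local on the base. -/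
theorem result (S : Scheme.{u}) (F : AlgSp.Sp S) {ι : Type u} (Si : ι → Over S)
    (hfl : ∀ i, Flat (Si i).hom) (hfp : ∀ i, LocallyOfFinitePresentation (Si i).hom)
    (hsurj : ∀ x : ↥S, ∃ (i : ι) (y : ↥(Si i).left), (Si i).hom.base y = x)
    (halg : ∀ i, AlgSp.IsAlgSpace ((AlgSp.yon S).obj (Si i) ⨯ F))
    (c : Cofan (fun i => (AlgSp.yon S).obj (Si i) ⨯ F)) (hc : IsColimit c) (hcop : AlgSp.IsAlgSpace c.pt) :
    AlgSp.IsAlgSpace F := by
  let u : Over S := Over.mk (𝟙 S)
  have ht : IsTerminal ((yon S).obj u) := Over.mkIdTerminal.isTerminalObj (yon S) u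
  let k : ∀ i, Si i ⟶ u := fun i => Over.homMk (Si i).hom (Category.comp_id _)
  refine Groth.Agent.AlgSpDec.isAlgSpace_of_fppf_local (IsAlgSpace.yon_obj u)
    (fun i => IsAlgSpace.yon_obj (Si i)) (fun i => (yon S).map (k i)) ⟨fun i => ⟨?_, ?_⟩, fun x => ?_⟩
    (ht.from F) (fun i => ?_)
  · exact locP_of_repWith ((repWith_yon_map_iff _ _).2 (hfl i))
  · exact locP_of_repWith ((repWith_yon_map_iff _ _).2 (hfp i))
  · obtain ⟨i, y, hy⟩ := hsurj (Points.toScheme u x)
    refine ⟨i, Points.ofScheme _ y, (Points.schemeEquiv u).symm.injective ?_⟩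
    change Points.toScheme u (Points.map ((yon S).map (k i)) (Points.ofPt (𝟙 _) y)) = Points.toScheme u x
    rw [Points.map_ofPt, Category.id_comp, Points.toScheme_ofPt]
    exact hy
  · exact (halg i).of_iso
      { hom := pullback.lift prod.snd prod.fst (ht.hom_ext _ _)
        inv := prod.lift (pullback.snd _ _) (pullback.fst _ _)
        hom_inv_id := by
          apply prod.hom_ext
          · rw [Category.assoc, prod.lift_fst, pullback.lift_snd, Category.id_comp]
          · rw [Category.assoc, prod.lift_snd, pullback.lift_fst, Category.id_comp]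
        inv_hom_id := by
          apply pullback.hom_ext
          · rw [Category.assoc, pullback.lift_fst, prod.lift_snd, Category.id_comp]
          · rw [Category.assoc, pullback.lift_snd, prod.lift_fst, Category.id_comp] }

end Groth.Agent.S10105
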