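import Groth.Statements.S1011
import Groth.Agent.Perf52.HomRange

set_option autoImplicit false
universe u
open CategoryTheory CategoryTheory.Limits AlgebraicGeometry
attribute [local instance] HasDerivedCategory.standard
open Perf

namespace Groth.Agent.S1011

/-- Let the scheme X be quasi-compact and quasi-separated and K a perfect object of D(O_X). (1) There
are integers a ≤ b such that every morphism K ⟶ L vanishes whenever L has quasi-coherent cohomology
sheaves which are zero in all degrees of the interval [a, b]. (2) If L ∈ D_QCoh(O_X) is bounded,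
then the set of n for which there is a nonzero morphism K ⟶ L[n] is finite. -/
theorem result (X : Scheme.{u}) [CompactSpace ↥X] [QuasiSeparatedSpace ↥X]
    (K : DCoh.D X) (hK : DCoh.IsPerfect K) :
    (∃ a b : ℤ, a ≤ b ∧ ∀ L : DCoh.D X, DCoh.IsQCohD L → (∀ i : ℤ, a ≤ i → i ≤ b → IsZero (DCoh.HD L i)) →
      ∀ φ : K ⟶ L, φ = 0) ∧
    ∀ (L : DCoh.D X) (a' b' : ℤ), DCoh.IsQCohD L → L.IsGE a' → L.IsLE b' →
      {n : ℤ | ∃ φ : K ⟶ L⟦n⟧, φ ≠ 0}.Finite := by
  obtain ⟨a, b, hab, -, -, hrange⟩ := Groth.Agent.Perf52.exists_hom_range hK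
  refine ⟨⟨a, b, hab, hrange⟩, fun L a' b' hq hge hle => ?_⟩
  obtain ⟨a₀, b₀, hhigh, hlow⟩ := Groth.Agent.Perf52.exists_bound_shift hK
  refine Set.Finite.subset (Set.finite_Icc (a' - b₀) (b' - a₀)) ?_
  rintro n ⟨φ, hφ⟩
  refine ⟨?_, ?_⟩ <;> by_contra hn
  · exact hφ (hlow L a' hge n (by omega) φ)
  · exact hφ (hhigh L hq b' hle n (by omega) φ)

end Groth.Agent.S1011
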