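import Groth.Statements.S10119
import Groth.Agent.S10120
-- import your own Groth.Agent.* helpers here

set_option autoImplicit false
universe u
open CategoryTheory CategoryTheory.Limits AlgebraicGeometry MonoidalCategory MonObj
open AlgSp

namespace Groth.Agent.S10119

set_option backward.isDefEq.respectTransparency false
set_option backward.isDefEq.respectTransparency.types false

/-- Let `k` be a field with algebraic closure `k̄` and `G` a separated group algebraic space over `k`.
Then `G_{k̄}` is a scheme. -/
theorem result (k : Type u) [Field k]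
    (G : Over ((AlgSp.yon (Spec (CommRingCat.of k))).obj (Over.mk (𝟙 _)))) [GrpObj G]
    (hG : AlgSp.IsAlgSpace G.left) (hsep : AlgSp.IsSeparatedSp G.left) :
    (G.left ⨯ ((AlgSp.yon (Spec (CommRingCat.of k))).obj (Over.mk (Spec.map (CommRingCat.ofHom (algebraMap k (AlgebraicClosure k))))))).obj.IsRepresentable := by
  have hr : G.left.obj.IsRepresentable := Groth.Agent.S10120.result k G hG hsep
  obtain ⟨Y, ⟨e⟩⟩ := hr.has_representation
  let K' : Over (Spec (CommRingCat.of k)) :=
    Over.mk (Spec.map (CommRingCat.ofHom (algebraMap k (AlgebraicClosure k))))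
  let i : (AlgSp.yon (Spec (CommRingCat.of k))).obj (Y ⨯ K') ≅ G.left ⨯ (AlgSp.yon _).obj K' :=
    PreservesLimitPair.iso (AlgSp.yon _) Y K' ≪≫ prod.mapIso (AlgSp.isoOfRepresentableBy e) (Iso.refl _)
  exact (AlgSp.representableByOfIso i).isRepresentable

end Groth.Agent.S10119
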