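import Groth.Statements.S10129
import Groth.Agent.S9969
import Groth.Agent.S9972
import Groth.Agent.S9973
import Groth.Agent.S10096
import Mathlib.CategoryTheory.Sites.RegularEpi
import Groth.Agent.AlgSpPts.Sep
-- import your own Groth.Agent.* helpers here

set_option autoImplicit false
universe u
open CategoryTheory CategoryTheory.Limits AlgebraicGeometry
open AlgSp Groth.Agent.AlgSpLib Groth.Agent.AlgSpPts

namespace Groth.Agent.S10129

set_option backward.isDefEq.respectTransparency false
set_option backward.isDefEq.respectTransparency.types false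

/-- Consider morphisms `g : X ⟶ Z` and `f : X ⟶ Y` of algebraic spaces over `B`, with `Y ⟶ B` separated
and `g` surjective, flat and locally of finite presentation, and let `V ⊂ Z` be a scheme
theoretically dense open subspace with `V ⟶ Z` quasi-compact such that `f` restricted to `g⁻¹(V)`
factors through `g⁻¹(V) ⟶ V`. Then `f` factors through `g`. (The published statement does not ask
the open immersion `V ⟶ Z` to be quasi-compact; the published proof pulls the scheme theoretic
density of `V` back along a flat morphism by a lemma that requires it, so this row assumes it.) -/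
theorem result (S : Scheme.{u}) (B : AlgSp.Sp S) (hB : AlgSp.IsAlgSpace B)
    (X Y Z : AlgSp.Space S) (pX : X.obj ⟶ B) (pY : Y.obj ⟶ B) (pZ : Z.obj ⟶ B)
    (f : X.obj ⟶ Y.obj) (g : X.obj ⟶ Z.obj) (hf : f ≫ pY = pX) (hg : g ≫ pZ = pX)
    (hY : AlgSp.IsSeparatedMor pY)
    (hgs : AlgSp.IsSurjectiveMor g) (hgf : AlgSp.LocP @Flat g) (hgp : AlgSp.LocP @LocallyOfFinitePresentation g)
    (V : AlgSp.Sp S) (v : V ⟶ Z.obj) (hv : AlgSp.IsSchDense v) (hvq : AlgSp.IsQuasiCompactMor v)
    (hfac : ∃ φ : V ⟶ Y.obj, pullback.fst g v ≫ f = pullback.snd g v ≫ φ) :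
    ∃ h : Z.obj ⟶ Y.obj, g ≫ h = f := by
  have hV : IsAlgSpace V := isAlgSpace_of_representable v hv.1.rep Z.property
  have hR : IsAlgSpace (pullback g g) := isAlgSpace_pullback X.property X.property Z.property g g
  have hepi : Epi g := by
    refine Groth.Agent.S10096.result S X.obj Z.obj g ((repBySpWith_hom_iff _ g).2 fun T ξ P fst snd sq => ?_)
    exact ⟨isAlgSpace_of_isPullback sq X.property (IsAlgSpace.yon_obj T) Z.property,
      ⟨surjective_map_of_isPullback sq hgs,
        locP_of_isPullback sq X.property Z.property (IsAlgSpace.yon_obj T) hgf⟩,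
      locP_of_isPullback sq X.property Z.property (IsAlgSpace.yon_obj T) hgp⟩
  have hflat : LocP @Flat (pullback.fst g g ≫ g) :=
    locP_comp hR X.property Z.property
      (locP_of_isPullback (IsPullback.of_hasPullback g g).flip X.property Z.property X.property hgf) hgf
  let V' : Sp S := pullback v (pullback.fst g g ≫ g)
  have hV' : IsAlgSpace V' := isAlgSpace_pullback hV hR Z.property v _
  let sV : Space S := ⟨V, hV⟩
  let sR : Space S := ⟨_, hR⟩
  let sV' : Space S := ⟨V', hV'⟩
  let jR : sV' ⟶ sR := ObjectProperty.homMk (pullback.snd v (pullback.fst g g ≫ g))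
  have hd : IsSchDense jR.hom :=
    Groth.Agent.S9973.result (X := sR) (Y := Z) (ObjectProperty.homMk (pullback.fst g g ≫ g)) hflat
      (ObjectProperty.homMk v : sV ⟶ Z) hv hvq
      (ObjectProperty.homMk (pullback.fst v (pullback.fst g g ≫ g)) : sV' ⟶ sV) jR
      (IsPullback.of_hasPullback _ _)
  have hjq : IsQuasiCompactMor jR.hom := isQuasiCompactMor_of_isPullback (IsPullback.of_hasPullback _ _) hvq
  have hpr : ∀ pr : pullback g g ⟶ X.obj, pr ≫ g = pullback.fst g g ≫ g →
      pr ≫ f ≫ pY = pullback.fst g g ≫ g ≫ pZ := fun pr h => by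
    rw [hf, ← hg, reassoc_of% h]
  have heq : pullback.fst g g ≫ f = pullback.snd g g ≫ f := by
    refine congrArg InducedCategory.Hom.hom (Groth.Agent.S9972.result (X := sR) (Y := Y) (B := ⟨B, hB⟩)
      (ObjectProperty.homMk pY) hY (ObjectProperty.homMk (pullback.fst g g ≫ f))
      (ObjectProperty.homMk (pullback.snd g g ≫ f)) (ObjectProperty.hom_ext _ ?_) jR hd.1
      ((Groth.Agent.S9969.result jR hd.1 hjq).1 hd) (ObjectProperty.hom_ext _ ?_))
    · change (pullback.fst g g ≫ f) ≫ pY = (pullback.snd g g ≫ f) ≫ pY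
      rw [Category.assoc, Category.assoc, hpr _ rfl, hpr _ pullback.condition.symm]
    · obtain ⟨φ, hφ⟩ := hfac
      have key : ∀ pr : pullback g g ⟶ X.obj, pr ≫ g = pullback.fst g g ≫ g →
          jR.hom ≫ pr ≫ f = pullback.fst v (pullback.fst g g ≫ g) ≫ φ := fun pr h => by
        let l : V' ⟶ pullback g v := pullback.lift (jR.hom ≫ pr) (pullback.fst v _)
          (by rw [Category.assoc, h]; exact pullback.condition.symm)
        calc jR.hom ≫ pr ≫ f = (l ≫ pullback.fst g v) ≫ f := by rw [pullback.lift_fst, Category.assoc]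
          _ = _ := by rw [Category.assoc, hφ, ← Category.assoc, pullback.lift_snd]
      exact (key _ rfl).trans (key _ pullback.condition.symm).symm
  let hreg : RegularEpi g := (IsRegularEpiCategory.regularEpiOfEpi g).regularEpi.some
  have hw : hreg.left ≫ f = hreg.right ≫ f := by
    have := congrArg (pullback.lift hreg.left hreg.right hreg.w ≫ ·) heq
    simpa only [pullback.lift_fst_assoc, pullback.lift_snd_assoc] using this
  exact ⟨(RegularEpi.desc' hreg f hw).1, (RegularEpi.desc' hreg f hw).2⟩

end Groth.Agent.S10129
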