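import Groth.Statements.S1021
import Groth.Agent.Perf52.GenBdd
import Groth.Agent.Perf52.Tower

set_option autoImplicit false
universe u
open CategoryTheory CategoryTheory.Limits AlgebraicGeometry
attribute [local instance] HasDerivedCategory.standard
open Perf

namespace Groth.Agent.S1021

/-- Let the scheme X be quasi-compact and quasi-separated, G a perfect object of D(O_X) generating
D_QCoh(O_X), and E ∈ D_QCoh(O_X). Then E is bounded above if and only if there is an N such that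
every morphism G[-i] ⟶ E with N ≤ i is zero. -/
theorem result (X : Scheme.{u}) [CompactSpace ↥X] [QuasiSeparatedSpace ↥X]
    (G : DCoh.D X) (hG : DCoh.IsPerfect G)
    (hgen : ∀ E : DCoh.D X, DCoh.IsQCohD E → (∀ (n : ℤ) (φ : G⟦n⟧ ⟶ E), φ = 0) → IsZero E)
    (E : DCoh.D X) (hE : DCoh.IsQCohD E) :
    (∃ b : ℤ, E.IsLE b) ↔ ∃ N : ℤ, ∀ i : ℤ, N ≤ i → ∀ φ : G⟦-i⟧ ⟶ E, φ = 0 := by
  constructor
  · rintro ⟨a, ha⟩
    have hb : Groth.Agent.Perf52.BddAt Filter.atTop E :=
      (Filter.eventually_ge_atTop (a + 1)).mono fun n hn => E.isZero_of_isLE a n (by omega)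
    obtain ⟨N, hN⟩ := Filter.eventually_atTop.1 (Groth.Agent.Perf52.evHom_of_bddAt
      Groth.Agent.Perf52.transInv_atTop hG hE hb)
    exact ⟨N, fun i hi => Groth.Agent.Perf52.eq_zero_of_shift i (hN i hi)⟩
  · rintro ⟨N, hN⟩
    obtain ⟨P, hP, -, hgb⟩ := Groth.Agent.Perf52.genBdd_qcqs (X := X) (T := Set.univ) isClosed_univ (by simp)
    obtain ⟨a, ha⟩ := Filter.eventually_atTop.1 (hgb _ Groth.Agent.Perf52.transInv_atTop E hE
      (Groth.Agent.Perf52.suppOn_univ E) (Groth.Agent.Perf52.evHom_of_generator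
        Groth.Agent.Perf52.transInv_atTop hG hgen
        (Filter.eventually_atTop.2 ⟨N, fun i hi => Groth.Agent.Perf52.eq_zero_of_shift' i (hN i hi)⟩) hP))
    exact ⟨a - 1, (DerivedCategory.isLE_iff _ _).2 fun i hi => ha i (by omega)⟩

end Groth.Agent.S1021
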