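import Groth.Statements.S1022
import Groth.Agent.Perf52.HomRange

set_option autoImplicit false
universe u
open CategoryTheory CategoryTheory.Limits AlgebraicGeometry
attribute [local instance] HasDerivedCategory.standard
open Perf

namespace Groth.Agent.S1022

/-- Let the scheme X be quasi-compact and quasi-separated, P a perfect object of D(O_X), E ∈ D_QCoh(O_X)
and a ∈ ℤ. Then the morphisms P[-i] ⟶ E vanish for all large i if and only if the morphisms P[-i] ⟶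
τ_{≥ a}E vanish for all large i. -/
theorem result (X : Scheme.{u}) [CompactSpace ↥X] [QuasiSeparatedSpace ↥X]
    (P : DCoh.D X) (hP : DCoh.IsPerfect P) (E : DCoh.D X) (hE : DCoh.IsQCohD E) (a : ℤ) :
    (∃ N : ℤ, ∀ i : ℤ, N ≤ i → ∀ φ : P⟦-i⟧ ⟶ E, φ = 0) ↔
    (∃ N : ℤ, ∀ i : ℤ, N ≤ i → ∀ φ : P⟦-i⟧ ⟶ ((DerivedCategory.TStructure.t : CategoryTheory.Triangulated.TStructure (DCoh.D X)).truncGE a).obj E, φ = 0) := by
  let t : CategoryTheory.Triangulated.TStructure (DCoh.D X) := DerivedCategory.TStructure.t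
  let T := (t.triangleLTGE a).obj E
  have hT : T ∈ Pretriangulated.distinguishedTriangles := t.triangleLTGE_distinguished a E
  haveI h1 : T.obj₁.IsLE (a - 1) := t.isLE_truncLT_obj E _ _ (by omega)
  have hq : DCoh.IsQCohD T.obj₁ := (Groth.Agent.Perf52.isQCohD_trunc hT h1
    (fun i hi => Groth.Agent.KFlatLib.isIso_homology_truncLTι E a i hi) hE).1
  obtain ⟨a₀, b₀, hhigh, -⟩ := Groth.Agent.Perf52.exists_bound_shift hP
  have hA : ∀ i : ℤ, a - 1 - a₀ < i → ∀ φ : P⟦-i⟧ ⟶ T.obj₁, φ = 0 := fun i hi =>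
    Groth.Agent.Perf52.eq_zero_of_shift i (hhigh _ hq (a - 1) h1 i hi)
  have hA' : ∀ i : ℤ, a - 1 - a₀ < i → ∀ φ : P⟦-i⟧ ⟶ T.obj₁⟦(1 : ℤ)⟧, φ = 0 := fun i hi =>
    Groth.Agent.Perf52.eq_zero_of_shift i (hhigh _ (Groth.Agent.KFlatLib.isQCohD_shift hq 1) (a - 2)
      (t.isLE_shift T.obj₁ (a - 1) 1 (a - 2) (by omega)) i (by omega))
  constructor
  · rintro ⟨N, hN⟩
    refine ⟨max N (a - a₀), fun i hi φ => ?_⟩
    obtain ⟨ψ, hψ⟩ := Pretriangulated.Triangle.coyoneda_exact₃ _ hT φ (hA' i (by omega) _)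
    rw [hψ, hN i (by omega) ψ]
    exact zero_comp
  · rintro ⟨N, hN⟩
    refine ⟨max N (a - a₀), fun i hi φ => ?_⟩
    obtain ⟨ψ, hψ⟩ := Pretriangulated.Triangle.coyoneda_exact₂ _ hT φ (hN i (by omega) _)
    rw [hψ, hA i (by omega) ψ]
    exact zero_comp

end Groth.Agent.S1022
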