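import Groth.Statements.S10229
import Groth.Agent.AlgSpPoint5.Bij
-- import your own Groth.Agent.* helpers here

set_option autoImplicit false
universe u
open CategoryTheory CategoryTheory.Limits AlgebraicGeometry Topology TopologicalSpace
open AlgSp

namespace Groth.Agent.S10229

set_option backward.isDefEq.respectTransparency false
set_option backward.isDefEq.respectTransparency.types false

/-- Let X be an algebraic space over a scheme S and let P be a point of the small etale topos of X,
given as a point of the site X_etale (a fibre functor). Then there is a geometric point x̄ of X such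
that the stalk functor of P on sheaves of sets is isomorphic to the stalk functor F ↦ F_x̄. -/
theorem result {S : Scheme.{u}} (X : AlgSp.Space S)
    (P : GrothendieckTopology.Point.{u} (AlgSp.etTop X.obj)) :
    ∃ p : AlgSp.FieldPt X.obj, p.IsGeometric ∧
      Nonempty (P.sheafFiber (A := Type (u + 1)) ≅ AlgSp.stalkEtFunctor (Type (u + 1)) p) := by
  let Q := Groth.Agent.AlgSpDec.EtPoint.point X.property (Groth.Agent.AlgSpPoint5.geomPt P)
    (Groth.Agent.AlgSpPoint5.isGeometric_geomPt P)
  refine ⟨_, Groth.Agent.AlgSpPoint5.isGeometric_geomPt P, ?_⟩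
  haveI : HasColimitsOfSize.{u, u} (Type (u + 1)) := hasColimitsOfSizeShrink.{u, u, u + 1, u + 1} _
  let a : Q ⟶ P := ⟨Groth.Agent.AlgSpPoint5.compare P⟩
  let b : P ⟶ Q := ⟨inv (Groth.Agent.AlgSpPoint5.compare P)⟩
  have hab : a ≫ b = 𝟙 Q := by
    apply GrothendieckTopology.Point.hom_ext
    simp [a, b]
  have hba : b ≫ a = 𝟙 P := by
    apply GrothendieckTopology.Point.hom_ext
    simp [a, b]
  have h1 : a.sheafFiber (A := Type (u + 1)) ≫ b.sheafFiber = 𝟙 _ := by
    rw [← GrothendieckTopology.Point.Hom.sheafFiber_comp, hba, GrothendieckTopology.Point.Hom.sheafFiber_id]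
  have h2 : b.sheafFiber (A := Type (u + 1)) ≫ a.sheafFiber = 𝟙 _ := by
    rw [← GrothendieckTopology.Point.Hom.sheafFiber_comp, hab, GrothendieckTopology.Point.Hom.sheafFiber_id]
  let e : P.sheafFiber (A := Type (u + 1)) ≅ Q.sheafFiber := ⟨a.sheafFiber, b.sheafFiber, h1, h2⟩
  exact ⟨e⟩

end Groth.Agent.S10229
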