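import Groth.Statements.S1023
import Groth.Agent.Perf52.HomRange

set_option autoImplicit false
universe u
open CategoryTheory CategoryTheory.Limits AlgebraicGeometry
attribute [local instance] HasDerivedCategory.standard
open Perf

namespace Groth.Agent.S1023

/-- Let the scheme X be quasi-compact and quasi-separated, P a perfect object of D(O_X), E ∈ D_QCoh(O_X)
and a ∈ ℤ. Then the morphisms P[-i] ⟶ E vanish for all sufficiently negative i if and only if the
morphisms P[-i] ⟶ τ_{≤ a}E vanish for all sufficiently negative i. -/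
theorem result (X : Scheme.{u}) [CompactSpace ↥X] [QuasiSeparatedSpace ↥X]
    (P : DCoh.D X) (hP : DCoh.IsPerfect P) (E : DCoh.D X) (hE : DCoh.IsQCohD E) (a : ℤ) :
    (∃ N : ℤ, ∀ i : ℤ, i ≤ N → ∀ φ : P⟦-i⟧ ⟶ E, φ = 0) ↔
    (∃ N : ℤ, ∀ i : ℤ, i ≤ N → ∀ φ : P⟦-i⟧ ⟶ ((DerivedCategory.TStructure.t : CategoryTheory.Triangulated.TStructure (DCoh.D X)).truncLE a).obj E, φ = 0) := by
  let t : CategoryTheory.Triangulated.TStructure (DCoh.D X) := DerivedCategory.TStructure.t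
  let T := (t.triangleLTGE (a + 1)).obj E
  have hT : T ∈ Pretriangulated.distinguishedTriangles := t.triangleLTGE_distinguished (a + 1) E
  haveI h3 : T.obj₃.IsGE (a + 1) := t.isGE_truncGE_obj E _ _ le_rfl
  obtain ⟨a₀, b₀, -, hlow⟩ := Groth.Agent.Perf52.exists_bound_shift hP
  have hB : ∀ i : ℤ, i < a + 1 - b₀ → ∀ φ : P⟦-i⟧ ⟶ T.obj₃, φ = 0 := fun i hi =>
    Groth.Agent.Perf52.eq_zero_of_shift i (hlow _ (a + 1) h3 i hi)
  have hB' : ∀ i : ℤ, i < a + 1 - b₀ → ∀ φ : P⟦-i⟧ ⟶ T.obj₃⟦(-1 : ℤ)⟧, φ = 0 := fun i hi =>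
    Groth.Agent.Perf52.eq_zero_of_shift i (hlow _ (a + 2)
      (t.isGE_shift T.obj₃ (a + 1) (-1) (a + 2) (by omega)) i (by omega))
  constructor
  · rintro ⟨N, hN⟩
    refine ⟨min N (a - b₀), fun i hi φ => ?_⟩
    obtain ⟨ψ, hψ⟩ := Pretriangulated.Triangle.coyoneda_exact₂ _
      (Pretriangulated.inv_rot_of_distTriang _ hT) φ (hN i (by omega) _)
    rw [hψ, hB' i (by omega) ψ]
    exact zero_comp
  · rintro ⟨N, hN⟩
    refine ⟨min N (a - b₀), fun i hi φ => ?_⟩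
    obtain ⟨ψ, hψ⟩ := Pretriangulated.Triangle.coyoneda_exact₂ _ hT φ (hB i (by omega) _)
    exact hψ.trans (by rw [show ψ = 0 from hN i (by omega) ψ]; exact zero_comp)

end Groth.Agent.S1023
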