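import Groth.Statements.S10233
import Groth.Agent.AlgSpOne.InvariantImm
-- import your own Groth.Agent.* helpers here

set_option autoImplicit false
universe u
open CategoryTheory CategoryTheory.Limits AlgebraicGeometry Topology TopologicalSpace
open AlgSp

namespace Groth.Agent.S10233

set_option backward.isDefEq.respectTransparency false
set_option backward.isDefEq.respectTransparency.types false

/-- Let X be an algebraic space over a scheme S with a presentation (U, R, s, t, p), and let i' : Z' ⟶ U
be an immersion of schemes that is R-invariant, meaning that one locally closed subscheme R' of R is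
at the same time the inverse image of Z' under s and under t. Then Z' descends to a locally closed
subspace of X: there is a morphism of algebraic spaces i : Z ⟶ X representable by immersions
together with a map h_{Z'} ⟶ Z making h_{Z'} the fibre product Z ×_X h_U; moreover i is a closed
(resp. open) immersion when i' is. -/
theorem result {S : Scheme.{u}} (X : AlgSp.Space S) {R U : Over S} (s t : R ⟶ U)
    (p : (AlgSp.yon S).obj U ⟶ X.obj) (hp : AlgSp.IsPresentation s t p)
    {Z' R' : Scheme.{u}} (i' : Z' ⟶ U.left) [IsImmersion i'] (k : R' ⟶ R.left) (s' t' : R' ⟶ Z')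
    (hs : IsPullback k s' s.left i') (ht : IsPullback k t' t.left i') :
    ∃ (Z : AlgSp.Space S) (i : Z ⟶ X) (q : (AlgSp.yon S).obj (Over.mk (i' ≫ U.hom)) ⟶ Z.obj),
      AlgSp.RepWith @IsImmersion i.hom ∧
      IsPullback q ((AlgSp.yon S).map (Over.homMk i' rfl : Over.mk (i' ≫ U.hom) ⟶ U)) i.hom p ∧
      (IsClosedImmersion i' → AlgSp.RepWith @IsClosedImmersion i.hom) ∧
      (IsOpenImmersion i' → AlgSp.RepWith @IsOpenImmersion i.hom) := by
  let i : Over.mk (i' ≫ U.hom) ⟶ U := CategoryTheory.Over.homMk i' rfl
  have : IsImmersion i.left := ‹IsImmersion i'›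
  obtain ⟨Z, j, q, hj, sq, h1, h2⟩ := Groth.Agent.AlgSpOne.exists_subspace (a := p) (i := i) X.property hp.etale
    hp.surjective fun T x y hxy hx => by
      obtain ⟨l, hl⟩ := hx
      obtain ⟨r, hr⟩ := (AlgSp.yon S).map_surjective (hp.isPullback.lift _ _ hxy)
      have hr₁ : r ≫ t = x := (AlgSp.yon S).map_injective (by rw [Functor.map_comp, hr, IsPullback.lift_fst])
      have hr₂ : r ≫ s = y := (AlgSp.yon S).map_injective (by rw [Functor.map_comp, hr, IsPullback.lift_snd])
      have hw : r.left ≫ t.left = l.left ≫ i' := by
        rw [← Over.comp_left, hr₁, ← hl]; rfl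
      let m : T.left ⟶ R' := ht.lift r.left l.left hw
      refine ⟨CategoryTheory.Over.homMk (m ≫ s') ?_, Over.OverMorphism.ext ?_⟩
      · change (m ≫ s') ≫ i' ≫ U.hom = _
        rw [Category.assoc, ← reassoc_of% hs.w, ← Category.assoc, ht.lift_fst, CategoryTheory.Over.w s]
        exact CategoryTheory.Over.w r
      · change (m ≫ s') ≫ i' = _
        rw [Category.assoc, ← hs.w, ← Category.assoc, ht.lift_fst, ← Over.comp_left, hr₂]
  exact ⟨Z, ObjectProperty.homMk j, q, hj, sq, h1, h2⟩

end Groth.Agent.S10233
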