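import Groth.Statements.S10240
import Groth.Agent.EtQCoh5.Colim
-- import your own Groth.Agent.* helpers here

set_option autoImplicit false
universe u
open CategoryTheory CategoryTheory.Limits AlgebraicGeometry Topology TopologicalSpace
open AlgSp

namespace Groth.Agent.S10240

set_option backward.isDefEq.respectTransparency false
set_option backward.isDefEq.respectTransparency.types false

/-- Let X be an algebraic space over a scheme S. Colimits of quasi-coherent O_X-modules are
quasi-coherent; kernels and cokernels of maps between quasi-coherent O_X-modules are quasi-coherent;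
and in a short exact sequence of O_X-modules, if two out of three are quasi-coherent then so is the
third. -/
theorem result {S : Scheme.{u}} (X : AlgSp.Space S) :
    (∀ (J : Type u) [SmallCategory J] (D : J ⥤ AlgSp.ModEt X.obj) [HasColimit D],
        (∀ j, (D.obj j).IsQuasicoherent) → (colimit D).IsQuasicoherent) ∧
    (∀ (F G : AlgSp.ModEt X.obj) (φ : F ⟶ G), F.IsQuasicoherent → G.IsQuasicoherent →
        (kernel φ).IsQuasicoherent ∧ (cokernel φ).IsQuasicoherent) ∧
    (∀ C : ShortComplex (AlgSp.ModEt X.obj), C.ShortExact →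
        (C.X₁.IsQuasicoherent → C.X₂.IsQuasicoherent → C.X₃.IsQuasicoherent) ∧
        (C.X₁.IsQuasicoherent → C.X₃.IsQuasicoherent → C.X₂.IsQuasicoherent) ∧
        (C.X₂.IsQuasicoherent → C.X₃.IsQuasicoherent → C.X₁.IsQuasicoherent)) := by
  haveI : HasColimitsOfSize.{u, u} (AlgSp.ModEt X.obj) := hasColimitsOfSizeShrink.{u, u, u + 1, u + 1} _
  refine ⟨fun J _ D _ hD => Groth.Agent.EtQCoh5.colimit_of_closed (fun M : AlgSp.ModEt X.obj => M.IsQuasicoherent)
      (fun f h h' => Groth.Agent.EtQCoh5.isQuasicoherent_cokernel f h h')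
      (fun e h => ObjectProperty.prop_of_iso (SheafOfModules.isQuasicoherent (AlgSp.OEtRing X.obj)) e h) D
      (fun F _ h => Groth.Agent.EtQCoh5.isQuasicoherent_coprod_small F h) hD, fun F G φ hF hG =>
    ⟨Groth.Agent.EtQCoh5.isQuasicoherent_kernel φ hF hG, Groth.Agent.EtQCoh5.isQuasicoherent_cokernel φ hF hG⟩,
    fun C hC => ⟨fun h₁ h₂ => Groth.Agent.EtQCoh5.isQuasicoherent_X₃ hC h₁ h₂,
      fun h₁ h₃ => Groth.Agent.EtQCoh5.isQuasicoherent_X₂ hC h₁ h₃,
      fun h₂ h₃ => Groth.Agent.EtQCoh5.isQuasicoherent_X₁ hC h₂ h₃⟩⟩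

end Groth.Agent.S10240
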