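import Groth.Statements.S10255
import Groth.Agent.EtQCoh5.ProjPull
import Groth.Agent.EtQCoh5.ZarShrink
-- import your own Groth.Agent.* helpers here

set_option autoImplicit false
universe u
open CategoryTheory CategoryTheory.Limits AlgebraicGeometry Topology TopologicalSpace
open AlgSp

namespace Groth.Agent.S10255

set_option backward.isDefEq.respectTransparency false
set_option backward.isDefEq.respectTransparency.types false

/-- For a representable morphism: let f : X ⟶ Y be a representable morphism of algebraic spaces over a
scheme S and G a quasi-coherent O_Y-module on the small etale site of Y, with u-small modules of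
sections over the affine objects of that site, which is locally projective (for every scheme V etale
over Y the restriction of G to the Zariski site of V has projective modules of sections over all
affine opens). Then the pullback f^*G is locally projective on X: for every scheme U etale over X
the restriction of f^*G to the Zariski site of U has projective modules of sections over all affine
opens. (The published statement is for an arbitrary morphism of algebraic spaces; this row takes f
representable, where f^* is the left adjoint of the direct image V ↦ (V ×_Y X) on modules on the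
small etale sites with scheme objects. Modules on these sites take values one universe up, so the
smallness of sections is stated as a hypothesis; without it the local-projectivity hypothesis,
phrased through Zariski companions with u-small sections, can be vacuous.) -/
theorem result {S : Scheme.{u}} {X Y : AlgSp.Space S} (f : X ⟶ Y)
    (hrep : AlgSp.Representable f.hom)
    [(SheafOfModules.pushforward.{u + 1} (AlgSp.bcRingHom hrep)).IsRightAdjoint]
    (G : AlgSp.ModEt Y.obj) (hG : G.IsQuasicoherent)
    (hsmall : ∀ E : AlgSp.EtOver Y.obj, IsAffine E.obj.left.left → Small.{u} (AlgSp.sectModEt G E))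
    (hproj : ∀ {V : Over S} (q : (AlgSp.yon S).obj V ⟶ Y.obj) (hrepq : AlgSp.Representable q)
      [(SheafOfModules.pushforward.{u + 1} (AlgSp.bcRingHom hrepq)).IsRightAdjoint]
      (H : V.left.Modules) [Coh.IsQCoh H]
      (c : AlgSp.ZarCompanion V.left H ((AlgSp.resSchModEt V).obj ((AlgSp.pullModEt hrepq).obj G)))
      (W : V.left.Opens), AlgSp.RepWith @Etale q → IsAffineOpen W →
        Module.Projective (V.left.ringCatSheaf.obj.obj (Opposite.op W)) (H.val.obj (Opposite.op W)))
    {U : Over S} (p : (AlgSp.yon S).obj U ⟶ X.obj) (hrepp : AlgSp.Representable p)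
    (hp : AlgSp.RepWith @Etale p)
    [(SheafOfModules.pushforward.{u + 1} (AlgSp.bcRingHom hrepp)).IsRightAdjoint]
    (H' : U.left.Modules) [Coh.IsQCoh H']
    (c' : AlgSp.ZarCompanion U.left H'
      ((AlgSp.resSchModEt U).obj ((AlgSp.pullModEt hrepp).obj ((AlgSp.pullModEt hrep).obj G))))
    (W : U.left.Opens) (hW : IsAffineOpen W) :
    Module.Projective (U.left.ringCatSheaf.obj.obj (Opposite.op W)) (H'.val.obj (Opposite.op W)) := by
  classical
  have hpE : IsEtaleMor p := AlgSp.isEtaleMor_of_repWith _ hp
  have hA : ∀ E : EtOver Y.obj, IsAffine E.obj.left.left → Groth.Agent.EtQCoh5.ProjAt G E := by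
    intro E hE
    have hq : RepWith @Etale E.obj.hom := E.property
    have hqE : IsEtaleMor E.obj.hom := AlgSp.isEtaleMor_of_repWith _ hq
    haveI := (Groth.Agent.AlgSpDec.EtPullRestrict.modAdj hq.1 hqE).isRightAdjoint
    let M := (pullModEt hq.1).obj G
    haveI : M.IsQuasicoherent := Groth.Agent.EtQCoh5.isQuasicoherent_pullModEt hqE hq.1 G hG
    haveI : Groth.Agent.EtQCoh5.SmallSections M := ⟨fun E' =>
      Groth.Agent.EtQCoh5.small_of_affine M (fun E'' hE'' => by
        haveI := hsmall ((EtOver.postcomp E.obj.hom hqE).obj E'') hE''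
        let i := Groth.Agent.EtQCoh5.pullIso hqE hq.1 G
        refine small_of_injective (α := AlgSp.sectModEt M E'') (β := AlgSp.sectModEt G ((EtOver.postcomp E.obj.hom hqE).obj E''))
          (f := fun x => Groth.Agent.EtQCoh5.restrAddEquiv hqE G E'' (i.inv.val.app (Opposite.op E'') x)) ?_
        intro x y hxy
        have h := (Groth.Agent.EtQCoh5.restrAddEquiv hqE G E'').injective hxy
        have hx : ∀ z : AlgSp.sectModEt M E'', i.hom.val.app (Opposite.op E'') (i.inv.val.app (Opposite.op E'') z) = z := fun z =>
          congrArg (fun k : M ⟶ M => k.val.app (Opposite.op E'') z) i.inv_hom_id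
        rw [← hx x, ← hx y]
        exact congrArg _ h) E'⟩
    haveI := Groth.Agent.EtQCoh5.isQCoh_zarMod M
    have hW : IsAffineOpen (⊤ : E.obj.left.left.Opens) := isAffineOpen_top _
    have hP := hproj E.obj.hom hq.1 (Groth.Agent.EtQCoh5.zarMod M) (Groth.Agent.EtQCoh5.zarCompanion M) ⊤ hq hW
    have h₁ := (Groth.Agent.EtQCoh5.projAt_restr_iff hqE G _).1 (Groth.Agent.EtQCoh5.projAt_of_iso
      (Groth.Agent.EtQCoh5.pullIso hqE hq.1 G).symm
      (Groth.Agent.EtQCoh5.projAt_open (Groth.Agent.EtQCoh5.zarCompanion M) ⊤ hP))
    let E₀ := (EtOver.postcomp E.obj.hom hqE).obj (Groth.Agent.EtQCoh5.openObj (U := E.obj.left) ⊤)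
    haveI : IsAffine E₀.obj.left.left := hW
    let l : E.obj.left ⟶ E₀.obj.left := CategoryTheory.Over.homMk E.obj.left.left.topIso.inv (by
      show E.obj.left.left.topIso.inv ≫ (⊤ : E.obj.left.left.Opens).ι ≫ E.obj.left.hom = _
      rw [← Scheme.topIso_hom, Iso.inv_hom_id_assoc])
    let k : E ⟶ E₀ := EtOver.homMk l (by
      show (yon S).map l ≫ ((yon S).map (EtOver.homOfEtale (etaleOfOpen E.obj.left.left ⊤)) ≫ 𝟙 _) ≫ E.obj.hom = _
      rw [Category.comp_id, ← Category.assoc, ← Functor.map_comp]
      refine (congrArg (fun m => (yon S).map m ≫ E.obj.hom) (?_ : _ = 𝟙 E.obj.left)).trans ?_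
      · refine Over.OverMorphism.ext ?_
        show E.obj.left.left.topIso.inv ≫ (⊤ : E.obj.left.left.Opens).ι = 𝟙 _
        rw [← Scheme.topIso_hom, Iso.inv_hom_id]
      · rw [(yon S).map_id]
        exact Category.id_comp _)
    haveI := hG
    exact Groth.Agent.EtQCoh5.projAt_of_map k (Groth.Agent.EtQCoh.cartAt G E₀ E hE k) h₁
  haveI : IsAffine ((EtOver.postcomp p hpE).obj (Groth.Agent.EtQCoh5.openObj W)).obj.left.left := hW
  exact Groth.Agent.EtQCoh5.projective_open c' W (Groth.Agent.EtQCoh5.projAt_of_iso
    (Groth.Agent.EtQCoh5.pullIso hpE hrepp ((pullModEt hrep).obj G))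
    ((Groth.Agent.EtQCoh5.projAt_restr_iff hpE _ _).2
      (Groth.Agent.EtQCoh5.projAt_pull (Y := Y.obj) hrep Y.property G hG hA
        ((EtOver.postcomp p hpE).obj (Groth.Agent.EtQCoh5.openObj W)))))

end Groth.Agent.S10255
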