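import Groth.Statements.S1030
import Groth.Agent.Der55.SpecialSystem

set_option autoImplicit false
universe v u
open CategoryTheory CategoryTheory.Limits
open CohDer

namespace Groth.Agent.S1030

/-- Let P be a class of objects of an abelian category, closed under isomorphisms, which holds for some
zero object, is closed under binary direct sums, and such that every object is a quotient of an
object satisfying P. For any cochain complex K there are bounded above complexes Pₙ (n ≥ 0) with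
terms satisfying P, termwise surjective quasi-isomorphisms πₙ : Pₙ ⟶ τ_{≤ n}K and termwise split
injections ιₙ : Pₙ ⟶ Pₙ₊₁ whose cokernels satisfy P termwise, compatible in the sense that Pₙ ⟶
τ_{≤n}K ⟶ K equals Pₙ ⟶ Pₙ₊₁ ⟶ τ_{≤n+1}K ⟶ K. (The source indexes from 1.) -/
theorem result {A : Type u} [Category.{v} A] [Abelian A] (P : ObjectProperty A) [P.IsClosedUnderIsomorphisms]
    (hP0 : ∃ Z : A, IsZero Z ∧ P Z) (hPsum : ∀ X Y : A, P X → P Y → P (X ⊞ Y))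
    (hP : ∀ X : A, ∃ (Y : A) (π : Y ⟶ X), P Y ∧ Epi π) (K : CochainComplex A ℤ) :
    ∃ (Q : ℕ → CochainComplex A ℤ) (ι : ∀ n, Q n ⟶ Q (n + 1)) (π : ∀ n : ℕ, Q n ⟶ K.truncLE (n : ℤ)),
      (∀ n, QuasiIso (π n) ∧ ∀ i, Epi ((π n).f i)) ∧
      (∀ n, ∃ b : ℤ, (Q n).IsStrictlyLE b) ∧ (∀ n i, P ((Q n).X i)) ∧
      (∀ n i, (∃ r : (Q (n + 1)).X i ⟶ (Q n).X i, (ι n).f i ≫ r = 𝟙 _) ∧ P (cokernel ((ι n).f i))) ∧
      (∀ n : ℕ, π n ≫ K.ιTruncLE (n : ℤ) = ι n ≫ π (n + 1) ≫ K.ιTruncLE ((n + 1 : ℕ) : ℤ)) := by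
  obtain ⟨J, e, hJ0, hJ, he, hqe⟩ := Groth.Agent.TriCat.exists_quasiIso_left_resolution P hP0 hP
    (K.truncLE ((0 : ℕ) : ℤ)) ((0 : ℕ) : ℤ)
  let Good : ℕ → Type (max u v) := fun n =>
    { q : Σ Q : CochainComplex A ℤ, (Q ⟶ K.truncLE (n : ℤ)) //
      QuasiIso q.2 ∧ (∀ i, Epi (q.2.f i)) ∧ (∃ a : ℤ, q.1.IsStrictlyLE a) ∧ ∀ i, P (q.1.X i) }
  have step : ∀ (n : ℕ) (q : Good n), ∃ (q' : Good (n + 1)) (p : q.1.1 ⟶ q'.1.1),
      (∀ i, (∃ r : q'.1.1.X i ⟶ q.1.1.X i, p.f i ≫ r = 𝟙 _) ∧ P (cokernel (p.f i))) ∧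
      q.1.2 ≫ K.ιTruncLE (n : ℤ) = p ≫ q'.1.2 ≫ K.ιTruncLE ((n + 1 : ℕ) : ℤ) := by
    intro n q
    obtain ⟨b, hb⟩ := q.2.2.2.1
    have : (K.truncLE (n : ℤ)).IsStrictlyLE ((n + 1 : ℕ) : ℤ) :=
      CochainComplex.isStrictlyLE_of_le _ (n : ℤ) _ (by omega)
    let r : K.truncLE (n : ℤ) ⟶ K.truncLE ((n + 1 : ℕ) : ℤ) :=
      inv ((K.truncLE (n : ℤ)).ιTruncLE ((n + 1 : ℕ) : ℤ)) ≫
        CochainComplex.truncLEMap (K.ιTruncLE (n : ℤ)) ((n + 1 : ℕ) : ℤ)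
    have hr : r ≫ K.ιTruncLE ((n + 1 : ℕ) : ℤ) = K.ιTruncLE (n : ℤ) := by
      rw [Category.assoc, IsIso.inv_comp_eq]
      exact CochainComplex.ιTruncLE_naturality _ _
    obtain ⟨s⟩ := Groth.Agent.Der55.exists_leftStep P hP0 hPsum hP (q.1.2 ≫ r)
      ((n + 1 : ℕ) : ℤ) b q.2.2.2.2
    exact ⟨⟨⟨s.obj, s.π⟩, s.qis, s.epi, s.bdd, s.mem⟩, s.ι, s.split,
      by dsimp only; rw [← Category.assoc, s.fac, Category.assoc, hr]⟩
  choose next p hp hfac using step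
  let q : ∀ n, Good n := fun n => Nat.rec (motive := Good)
    ⟨⟨J, e⟩, hqe, he, ⟨_, hJ0⟩, hJ⟩ next n
  exact ⟨fun n => (q n).1.1, fun n => p n (q n), fun n => (q n).1.2,
    fun n => ⟨(q n).2.1, (q n).2.2.1⟩, fun n => (q n).2.2.2.1, fun n => (q n).2.2.2.2,
    fun n => hp n (q n), fun n => hfac n (q n)⟩

end Groth.Agent.S1030
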