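import Groth.Statements.S10307
import Groth.Agent.EtQCoh5.Dense
-- import your own Groth.Agent.* helpers here

set_option autoImplicit false
universe u
open CategoryTheory CategoryTheory.Limits AlgebraicGeometry
open AlgSp

namespace Groth.Agent.S10307

set_option backward.isDefEq.respectTransparency false
set_option backward.isDefEq.respectTransparency.types false

/-- For an integral universally injective morphism f of algebraic spaces, f_* on small etale sites is
fully faithful on sheaves of sets and on abelian sheaves, and the counit from the pullback of the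
pushforward to the identity is an isomorphism. (The description of the essential image is not
included here.) -/
theorem result {S : Scheme.{u}} {Y X : AlgSp.Space S} (f : Y ⟶ X)
    (hi : AlgSp.RepWith @IsIntegralHom f.hom) (hu : AlgSp.IsUnivInjectiveMor f.hom) :
    ((AlgSp.pushEt hi.1 (Type (u + 1))).Full ∧ (AlgSp.pushEt hi.1 (Type (u + 1))).Faithful) ∧
    ((AlgSp.pushEt hi.1 AddCommGrpCat.{u + 1}).Full ∧ (AlgSp.pushEt hi.1 AddCommGrpCat.{u + 1}).Faithful) ∧
    IsIso (AlgSp.pullPushAdjEt hi.1 (Type (u + 1))).counit := by
  have h : Groth.Agent.EtQCoh5.IntUnivInj hi.1 := Groth.Agent.EtQCoh5.intUnivInj_of_isUnivInjective hi hu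
  obtain ⟨h₁, h₂⟩ := Groth.Agent.EtQCoh5.pushEt_full_faithful h X.property (Type (u + 1))
  refine ⟨⟨h₁, h₂⟩, Groth.Agent.EtQCoh5.pushEt_full_faithful h X.property AddCommGrpCat.{u + 1}, ?_⟩
  haveI := h₁
  haveI := h₂
  infer_instance

end Groth.Agent.S10307
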