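import Groth.Statements.S10376
import Groth.Agent.AlgSpOne.NormUnique
import Groth.Agent.AlgSpDec.LimDescentRep
import Groth.Agent.AlgSpPts.Sep
import Groth.Agent.AlgSpPts.Misc
import Groth.Agent.AlgSpLib.EtaleSmoothLocal
import Groth.Agent.AlgSpDec.LqfScheme
-- import your own Groth.Agent.* helpers here

set_option autoImplicit false
universe u
open CategoryTheory CategoryTheory.Limits AlgebraicGeometry Topology TopologicalSpace
open AlgSp

namespace Groth.Agent.S10376

set_option backward.isDefEq.respectTransparency false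
set_option backward.isDefEq.respectTransparency.types false

/-- Let S be a scheme, Y and V algebraic spaces over S, j : V ⟶ Y a quasi-compact open immersion, and π
: Z ⟶ V an integral morphism. Then one can find an integral morphism ν : Y' ⟶ Y for which Z is
isomorphic over V to the preimage in Y' of V: there is j' : Z ⟶ Y' making the square (j', π, ν, j)
cartesian. -/
theorem result {S : Scheme.{u}} {V Y Z : AlgSp.Space S} (j : V ⟶ Y)
    (hj : AlgSp.RepWith @IsOpenImmersion j.hom) (hjq : AlgSp.IsQuasiCompactMor j.hom) (π : Z ⟶ V)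
    (hπ : AlgSp.IsIntegralMor π.hom) :
    ∃ (Y' : AlgSp.Space S) (ν : Y' ⟶ Y) (j' : Z ⟶ Y'), AlgSp.IsIntegralMor ν.hom ∧
      IsPullback j'.hom π.hom ν.hom j.hom := by
  have hπr := Groth.Agent.AlgSpDec.isIntegralMor_iff_repWith.1 hπ
  have hjm : Mono j.hom := Groth.Agent.AlgSpPts.mono_of_repWith
    (Groth.Agent.AlgSpLib.repWith_mono (fun _ _ g (_ : IsOpenImmersion g) => (inferInstance : Mono g)) _ hj)
  have H : Groth.Agent.AlgSpOne.NormHyp (π.hom ≫ j.hom) :=
    ⟨Z.property, Y.property,
      Groth.Agent.AlgSpPts.isQuasiCompactMor_comp V.property Y.property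
        (Groth.Agent.AlgSpPts.isQuasiCompactMor_of_repWith
          (Groth.Agent.AlgSpLib.repWith_mono (fun _ _ g (_ : IsIntegralHom g) => (inferInstance : QuasiCompact g)) _ hπr)) hjq,
      Groth.Agent.AlgSpPts.isQuasiSeparatedMor_comp
        (Groth.Agent.AlgSpDec.isQuasiSeparatedMor_of_isSeparatedMor
          (Groth.Agent.AlgSpDec.isSeparatedMor_of_repWith_affine
            (Groth.Agent.AlgSpLib.repWith_mono (fun _ _ g (_ : IsIntegralHom g) => (inferInstance : IsAffineHom g)) _ hπr)))
        (Groth.Agent.AlgSpDec.isQuasiSeparatedMor_of_isSeparatedMor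
          (Groth.Agent.AlgSpDec.isSeparatedMor_of_mono j.hom))⟩
  let f' := Groth.Agent.AlgSpOne.toNorm H
  let ν := Groth.Agent.AlgSpOne.normMap H
  have hν : f' ≫ ν = π.hom ≫ j.hom := Groth.Agent.AlgSpOne.toNorm_normMap H
  have sqP : IsPullback (𝟙 Z.obj) π.hom (π.hom ≫ j.hom) j.hom := by
    refine ⟨⟨Category.id_comp _⟩, ⟨PullbackCone.IsLimit.mk _ (fun c => c.fst) (fun c => Category.comp_id _)
      (fun c => ?_) (fun c l h1 h2 => by simpa using h1)⟩⟩
    rw [← cancel_mono j.hom, Category.assoc, c.condition]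
  let v := pullback.snd ν j.hom
  let g : Z.obj ⟶ pullback ν j.hom := pullback.lift f' π.hom hν
  have hn := Groth.Agent.AlgSpOne.isRelNormalization_normMap_baseChange H V.property
    (Groth.Agent.AlgSpLib.isEtaleMor_of_repWith_isOpenImmersion hj) sqP (IsPullback.of_hasPullback ν j.hom)
    (fW' := g) (pullback.lift_snd _ _ _) (by rw [pullback.lift_fst, Category.id_comp])
  have hself : IsRelNormalization π.hom π.hom (𝟙 Z.obj) :=
    ⟨Category.id_comp _, hπ, fun W _ p k _ hk => ⟨k, ⟨Category.id_comp _, hk⟩, fun h hh => by simpa using hh.1⟩⟩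
  obtain ⟨e, e₁, e₂⟩ := Groth.Agent.AlgSpOne.exists_iso_of_isRelNormalization Z.property
    (Groth.Agent.AlgSpLib.isAlgSpace_pullback (Groth.Agent.AlgSpOne.isAlgSpace_normSp H) V.property Y.property _ _)
    hself hn
  refine ⟨⟨_, Groth.Agent.AlgSpOne.isAlgSpace_normSp H⟩, ObjectProperty.homMk ν, ObjectProperty.homMk f',
    Groth.Agent.AlgSpOne.isIntegralMor_normMap H, ?_⟩
  rw [Category.id_comp] at e₁
  refine (IsPullback.of_hasPullback ν j.hom).of_iso e.symm (Iso.refl _) (Iso.refl _) (Iso.refl _) ?_ ?_ (by simp) (by simp)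
  · rw [Iso.symm_hom, Iso.refl_hom, Category.comp_id, Iso.eq_inv_comp, e₁]
    exact pullback.lift_fst _ _ _
  · rw [Iso.symm_hom, Iso.refl_hom, Category.comp_id, Iso.eq_inv_comp]
    exact e₂

end Groth.Agent.S10376
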