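import Groth.Statements.S10390
import Groth.Agent.AlgSpOne.MonoFibre
import Groth.Agent.AlgSpDec.LimOpen
-- import your own Groth.Agent.* helpers here

set_option autoImplicit false
universe u
open CategoryTheory CategoryTheory.Limits AlgebraicGeometry Topology TopologicalSpace
open AlgSp Groth.Agent.AlgSpLib Groth.Agent.AlgSpPts Groth.Agent.AlgSpDec

namespace Groth.Agent.S10390

set_option backward.isDefEq.respectTransparency false
set_option backward.isDefEq.respectTransparency.types false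

/-- Let S be a scheme, X and Y algebraic spaces over S, and f : X ⟶ Y a morphism, and let y ∈ |Y| be a
point represented by a monomorphism Spec k ⟶ Y which is representable quasi-compact. Then for the
fibre X_k = Spec k ×_Y X the map |X_k| → |X| is a homeomorphism of |X_k| onto f⁻¹({y}) with its
induced topology. -/
theorem result {S : Scheme.{u}} {X Y : AlgSp.Space S} (f : X ⟶ Y)
    (r : AlgSp.FieldPt Y.obj) (hm : Mono r.toHom) (hq : AlgSp.RepWith @QuasiCompact r.toHom)
    (Xk : AlgSp.Space S) (fst : Xk ⟶ X) (snd : Xk.obj ⟶ (AlgSp.yon S).obj r.pt) (hsq : IsPullback fst.hom snd f.hom r.toHom) :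
    IsEmbedding (AlgSp.Points.map fst.hom) ∧
      Set.range (AlgSp.Points.map fst.hom) = AlgSp.Points.map f.hom ⁻¹' {AlgSp.Points.mk r} := by
  have := hm
  have : Mono fst.hom := PullbackCone.mono_fst_of_is_pullback_of_mono hsq.isLimit
  have hinj : Function.Injective (Points.map fst.hom) := injective_points_map_of_mono fst.hom
  let η : ↥r.pt.left := IsLocalRing.closedPoint r.K
  have hη : Points.map r.toHom (Points.ofScheme r.pt η) = Points.mk r := by
    rw [← Points.ofPt_eq_map_ofScheme, Points.ofPt_toHom]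
  have hrange : Set.range (Points.map fst.hom) = Points.map f.hom ⁻¹' {Points.mk r} := by
    ext x
    refine ⟨?_, fun hx => ?_⟩
    · rintro ⟨z, rfl⟩
      obtain ⟨t, ht⟩ := (Points.schemeHomeo r.pt).surjective (Points.map snd z)
      change Points.map f.hom (Points.map fst.hom z) = Points.mk r
      rw [← Points.map_comp, hsq.w, Points.map_comp, ← ht, show t = η from Subsingleton.elim (α := ↥r.pt.left) _ _]
      exact hη
    · obtain ⟨z, hz, -⟩ := exists_point_of_isPullback hsq (x := x) (y := Points.ofScheme r.pt η)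
        (Eq.trans hx hη.symm)
      exact ⟨z, hz⟩
  refine ⟨⟨⟨le_antisymm (Points.continuous_map fst.hom).le_induced fun W hW => ?_⟩, hinj⟩, hrange⟩
  let W' : Set (Points X.obj) := ⋃₀ {O | IsOpen O ∧ Points.map fst.hom ⁻¹' O ⊆ W}
  refine isOpen_induced_iff.2 ⟨W', isOpen_sUnion fun O hO => hO.1, Set.ext fun z =>
    ⟨fun ⟨O, hO, hzO⟩ => hO.2 hzO, fun hz => ?_⟩⟩
  obtain ⟨V, b, v, hV, hb, hv⟩ := exists_affine_chart_at Y.property (Points.map f.hom (Points.map fst.hom z))
  obtain ⟨U, a₀, h, ha₀, ha₀', hsnd⟩ := exists_chart_over X.property Y.property f.hom b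
  let a := a₀ ≫ pullback.fst f.hom b
  have ha : RepWith @Etale a := repWith_comp ha₀ (repWith_fst f.hom hb)
  have hw : a ≫ f.hom = (AlgSp.yon S).map h ≫ b := by
    rw [Category.assoc, pullback.condition, ← Category.assoc, hsnd]
  obtain ⟨u, hu⟩ : ∃ u, Points.ofPt a u = Points.map fst.hom z := by
    obtain ⟨c, hc, -⟩ := exists_point_of_isPullback (IsPullback.of_hasPullback f.hom b)
      (x := Points.map fst.hom z) (y := Points.ofScheme V v) (by rw [← Points.ofPt_eq_map_ofScheme, hv])
    obtain ⟨u, hu⟩ := surjective_ofPt ha₀' c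
    exact ⟨u, by rw [← Points.map_ofPt, hu, hc]⟩
  let P := hq.rep.pullback b
  let v₁ : P ⟶ r.pt := hq.rep.fst' b
  let v₂ : P ⟶ V := hq.rep.snd b
  have sqP : IsPullback ((AlgSp.yon S).map v₁) ((AlgSp.yon S).map v₂) r.toHom b := hq.rep.isPullback' b
  have : IsPreimmersion v₂.left := Groth.Agent.AlgSpOne.isPreimmersion_snd_chart hq hb
  let q₁ := pullback.fst h v₂
  let q₂ := pullback.snd h v₂
  have sqQ := (IsPullback.of_hasPullback h v₂).map (Over.forget S)
  have : IsPreimmersion q₁.left := MorphismProperty.of_isPullback (P := @IsPreimmersion) sqQ.flip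
    (inferInstanceAs (IsPreimmersion v₂.left))
  let c : (AlgSp.yon S).obj (pullback h v₂) ⟶ Xk.obj :=
    hsq.lift ((AlgSp.yon S).map q₁ ≫ a) ((AlgSp.yon S).map (q₂ ≫ v₁)) (by
      rw [Category.assoc, hw, ← Functor.map_comp_assoc, pullback.condition, Functor.map_comp, Category.assoc,
        ← sqP.w, ← Category.assoc, ← Functor.map_comp])
  have hc : c ≫ fst.hom = (AlgSp.yon S).map q₁ ≫ a := hsq.lift_fst _ _ _
  have hlift : ∀ u' : ↥U.left, Points.map f.hom (Points.ofPt a u') = Points.mk r → ∃ q, q₁.left q = u' ∧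
      Points.map fst.hom (Points.ofPt c q) = Points.ofPt a u' := fun u' hu' => by
    rw [Points.map_ofPt, hw, ofPt_comp] at hu'
    obtain ⟨e, -, he⟩ := exists_ofPt_of_eq sqP (u := η) (v := h.left u') (by rw [Points.ofPt_toHom]; exact hu'.symm)
    obtain ⟨q, hq₁, -⟩ := Scheme.exists_preimage_of_isPullback sqQ u' e he.symm
    exact ⟨q, hq₁, by rw [Points.map_ofPt, hc, ofPt_comp]; exact congrArg (Points.ofPt a) hq₁⟩
  obtain ⟨O₁, hO₁, hO₁W⟩ := q₁.left.isEmbedding.isInducing.isOpen_iff.1 (Points.isOpen_iff.1 hW _ c)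
  refine Set.mem_sUnion.2 ⟨Points.ofPt a '' O₁, ⟨isOpenMap_ofPt ha _ hO₁, fun z' hz' => ?_⟩, u, ?_, hu⟩
  · obtain ⟨u', hu'O, hu'⟩ := hz'
    obtain ⟨q, hq₁, hq⟩ := hlift u' (by rw [hu']; exact hrange.subset ⟨z', rfl⟩)
    have hqW : q ∈ Points.ofPt c ⁻¹' W := by rw [← hO₁W]; exact show q₁.left q ∈ O₁ by rw [hq₁]; exact hu'O
    rw [← hinj (hq.trans hu')]
    exact hqW
  · obtain ⟨q, hq₁, hq⟩ := hlift u (by rw [hu]; exact hrange.subset ⟨z, rfl⟩)
    have hqW : q ∈ Points.ofPt c ⁻¹' W := by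
      rw [Set.mem_preimage, hinj (hq.trans hu)]; exact hz
    rw [← hO₁W] at hqW
    rw [← hq₁]; exact hqW

end Groth.Agent.S10390
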