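import Groth.Statements.S10393
import Groth.Agent.AlgSpDec.OnePointGeneral
import Groth.Agent.AlgSpDec.MonoRep
import Groth.Agent.AlgSpDec.LimOpen
import Groth.Agent.AlgSpDec.OpenGlue
import Groth.Agent.AlgSpDec.AffineProps
import Groth.Agent.AlgSpPts.OpenSub
-- import your own Groth.Agent.* helpers here

set_option autoImplicit false
universe u
open CategoryTheory CategoryTheory.Limits AlgebraicGeometry Topology TopologicalSpace
open AlgSp Groth.Agent.AlgSpLib Groth.Agent.AlgSpPts Groth.Agent.AlgSpDec

namespace Groth.Agent.S10393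

set_option backward.isDefEq.respectTransparency false
set_option backward.isDefEq.respectTransparency.types false

theorem isDecent_of_mono {S : Scheme.{u}} {Y : Over S} {F : Sp S} (hF : IsAlgSpace F)
    (f : F ⟶ (yon S).obj Y) [Mono f] : IsDecent F := by
  refine (isDecent_iff_exists_quasiCompact hF).2 fun x => ?_
  obtain ⟨p, rfl⟩ := Points.mk_surjective x
  obtain ⟨g, hg⟩ := (yon S).map_surjective (p.toHom ≫ f)
  have := isIso_diagonal_of_mono f
  refine ⟨p, rfl, repWith_of_postcomp (g := f) (repWith_of_isIso _ _) ?_⟩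
  rw [← hg]
  exact (repWith_yon_map_iff _ _).2 (quasiCompact_of_subsingleton g.left)

/-- Let S be a scheme, Y a scheme over S whose underlying topological space is discrete (equivalently, Y
is a disjoint union of spectra of local rings of dimension zero), and X an algebraic space over S
with a monomorphism X ⟶ Y over S. Then X is a scheme. -/
theorem result {S : Scheme.{u}} (Y : Over S) [DiscreteTopology ↥Y.left]
    (X : AlgSp.Space S) (f : X ⟶ (AlgSp.ofScheme S).obj Y) [Mono f.hom] : X.obj.obj.IsRepresentable := by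
  have hinj : Function.Injective (Points.map f.hom) := injective_points_map_of_mono f.hom
  let e : ↥Y.left ≃ₜ Points ((yon S).obj Y) := Points.schemeHomeo Y
  let W : ↥Y.left → Set (Points X.obj) := fun y => Points.map f.hom ⁻¹' (e '' {y})
  have hW : ∀ y, IsOpen (W y) := fun y =>
    (Points.continuous_map f.hom).isOpen_preimage _ (e.isOpenMap _ (isOpen_discrete _))
  choose X' j hX' hj hr using fun y => exists_open_subspace X.property (hW y)
  have hpiece : ∀ y : {y // (W y).Nonempty}, ∃ Z : Over S, Nonempty ((yon S).obj Z ≅ X' y.1) := by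
    rintro ⟨y, hy⟩
    have hm : Mono (j y) := Groth.Agent.AlgSpDec.mono_of_openImmersion (hj y)
    have hm' : Mono (j y ≫ f.hom) := mono_comp _ _
    have : Nonempty (Points (X' y)) := by
      rw [← hr y] at hy
      obtain ⟨_, z, -⟩ := hy
      exact ⟨z⟩
    have : Subsingleton (Points (X' y)) := ⟨fun a b => by
      have ha : Points.map (j y) a ∈ W y := hr y ▸ ⟨a, rfl⟩
      have hb : Points.map (j y) b ∈ W y := hr y ▸ ⟨b, rfl⟩
      obtain ⟨_, ha₁, ha⟩ := ha
      obtain ⟨_, hb₁, hb⟩ := hb
      rw [Set.mem_singleton_iff] at ha₁ hb₁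
      rw [ha₁] at ha
      rw [hb₁] at hb
      exact injective_points_map_of_mono (j y) (hinj (ha.symm.trans hb))⟩
    obtain ⟨Z, -, hZ⟩ := exists_affine_iso_of_subsingleton (hX' y) (isDecent_of_mono (hX' y) (j y ≫ f.hom))
    exact ⟨Z, hZ⟩
  choose Z hZ using hpiece
  let k : ∀ y : {y // (W y).Nonempty}, (yon S).obj (Z y) ⟶ X.obj := fun y => (hZ y).some.hom ≫ j y.1
  obtain ⟨Q, ⟨eQ⟩, -⟩ := exists_iso_of_open_cover Z k
    (fun y => repWith_comp (repWith_of_isIso _ _) (hj y.1)) fun x => by
    obtain ⟨y, hy⟩ := e.surjective (Points.map f.hom x)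
    have hx : x ∈ W y := ⟨y, rfl, hy⟩
    let y' : {y // (W y).Nonempty} := ⟨y, x, hx⟩
    rw [← hr y] at hx
    obtain ⟨z, rfl⟩ := hx
    obtain ⟨v, hv⟩ := (Points.schemeHomeo (Z y')).surjective (Points.map (hZ y').some.inv z)
    refine ⟨y', v, (Points.ofPt_eq_map_ofScheme _ v).trans ?_⟩
    rw [show Points.ofScheme (Z y') v = _ from hv, ← Points.map_comp]
    show Points.map ((hZ y').some.inv ≫ (hZ y').some.hom ≫ j y) z = _
    rw [Iso.inv_hom_id_assoc]
  exact isRepresentable_of_iso eQ

end Groth.Agent.S10393
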