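import Groth.Statements.S10397
import Groth.Agent.AlgSpOne.DecentFinComp
-- import your own Groth.Agent.* helpers here

set_option autoImplicit false
universe u
open CategoryTheory CategoryTheory.Limits AlgebraicGeometry Topology TopologicalSpace
open AlgSp

namespace Groth.Agent.S10397

set_option backward.isDefEq.respectTransparency false
set_option backward.isDefEq.respectTransparency.types false

/-- (1) ⇔ (3): an algebraic space X over a scheme S is decent with |X| having finitely many irreducible
components if and only if X has a dense open subscheme X' with finitely many irreducible components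
whose generic points x'_j give quasi-compact morphisms Spec κ(x'_j) ⟶ X. -/
theorem result {S : Scheme.{u}} (X : AlgSp.Space S) :
    (AlgSp.IsDecent X.obj ∧ (irreducibleComponents (AlgSp.Points X.obj)).Finite) ↔
      ∃ (X' : Over S) (j : (AlgSp.yon S).obj X' ⟶ X.obj), AlgSp.RepWith @IsOpenImmersion j ∧
        Dense (Set.range (AlgSp.Points.ofPt j)) ∧ (irreducibleComponents ↥X'.left).Finite ∧
        ∀ x' : ↥X'.left, (∃ T ∈ irreducibleComponents ↥X'.left, IsGenericPoint x' T) →
          AlgSp.RepWith @QuasiCompact (AlgSp.FieldPt.ofPt j x').toHom := by
  constructor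
  · rintro ⟨hd, hfin⟩
    obtain ⟨T, j, hj, hdense, hT, hq⟩ :=
      Groth.Agent.AlgSpOne.exists_dense_subscheme_of_decent X.property hd hfin
    exact ⟨T, j, hj, hdense, hT, fun x _ => hq x⟩
  · rintro ⟨T, j, hj, hdense, hT, hq⟩
    exact ⟨Groth.Agent.AlgSpOne.isDecent_of_dense_subscheme X.property j hj hdense hT
      fun x hx => hq x (Groth.Agent.AlgSpOne.exists_component_of_coheight_zero hx),
      Groth.Agent.AlgSpOne.finite_components_of_dense_subscheme j hdense hT⟩

end Groth.Agent.S10397
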