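import Groth.Statements.S10405
import Groth.Agent.AlgSpDec.Fibres
import Groth.Agent.AlgSpDec.Basic
import Groth.Agent.AlgSpDec.EtStalkProps
import Groth.Agent.S3433
import Groth.Agent.S7547

set_option backward.isDefEq.respectTransparency false
set_option backward.isDefEq.respectTransparency.types false

set_option autoImplicit false
universe u
open CategoryTheory CategoryTheory.Limits AlgebraicGeometry Topology TopologicalSpace
open AlgSp

namespace Groth.Agent.S10405

/-- Let S be a scheme, X an algebraic space over S which is decent and locally Noetherian, and x ∈ |X|.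
Then the set W of proper generizations of x (points x' ≠ x with x' ⤳ x), with the topology induced
from |X|, is a topological space which is Noetherian, spectral, sober and Jacobson. -/
theorem result {S : Scheme.{u}} (X : AlgSp.Space S)
    (hd : AlgSp.IsDecent X.obj) (hN : AlgSp.IsLocNoethSp X.obj) (x : AlgSp.Points X.obj) :
    NoetherianSpace {x' : AlgSp.Points X.obj // x' ⤳ x ∧ x' ≠ x} ∧
      SpectralSpace {x' : AlgSp.Points X.obj // x' ⤳ x ∧ x' ≠ x} ∧
      QuasiSober {x' : AlgSp.Points X.obj // x' ⤳ x ∧ x' ≠ x} ∧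
      JacobsonSpace {x' : AlgSp.Points X.obj // x' ⤳ x ∧ x' ≠ x} := by
  open Groth.Agent.AlgSpDec in
  haveI : T0Space (AlgSp.Points X.obj) := Groth.Agent.AlgSpDec.t0Space_points X.property hd
  haveI : QuasiSober (AlgSp.Points X.obj) := Groth.Agent.AlgSpDec.quasiSober_points X.property hd
  obtain ⟨U, a, u, ha, hu⟩ := Groth.Agent.AlgSpDec.EtStalkProps.exists_chart_point X.property x
  haveI : IsLocallyNoetherian U.left := Groth.Agent.AlgSpDec.isLocallyNoetherian_chart ha hN
  subst hu
  let A := U.left.presheaf.stalk u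
  let P := ↥({IsLocalRing.closedPoint A}ᶜ : Set (PrimeSpectrum A))
  haveI hJP : JacobsonSpace P := (Groth.Agent.S3433.result A).1
  haveI : NoetherianSpace (PrimeSpectrum A) := inferInstance
  haveI : NoetherianSpace P := inferInstanceAs (NoetherianSpace ↥({IsLocalRing.closedPoint A}ᶜ : Set (PrimeSpectrum A)))
  let W := {x' : AlgSp.Points X.obj // x' ⤳ AlgSp.Points.ofPt a u ∧ x' ≠ AlgSp.Points.ofPt a u}
  let c : PrimeSpectrum A → U.left := fun q => U.left.fromSpecStalk u q
  have hc : Topology.IsEmbedding c := (U.left.fromSpecStalk u).isEmbedding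
  have hcu : c (IsLocalRing.closedPoint A) = u := Scheme.fromSpecStalk_closedPoint
  have hcr : ∀ v, v ⤳ u → ∃ q, c q = v := fun v hv => by
    have : v ∈ Set.range (U.left.fromSpecStalk u) := by rw [Scheme.range_fromSpecStalk]; exact hv
    exact this
  have hsp : ∀ q, c q ⤳ u := fun q => by
    have : c q ∈ Set.range (U.left.fromSpecStalk u) := ⟨q, rfl⟩
    rw [Scheme.range_fromSpecStalk] at this
    exact this
  let φ : P → W := fun q => ⟨AlgSp.Points.ofPt a (c q.1),
    (hsp q.1).map (AlgSp.Points.continuous_ofPt a), fun he => q.2 (hc.injective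
      ((Groth.Agent.AlgSpDec.eq_of_specializes_of_isDecent hd ha he.symm (hsp q.1)).symm.trans hcu.symm))⟩
  have hφ : Continuous φ :=
    ((AlgSp.Points.continuous_ofPt a).comp (hc.continuous.comp continuous_subtype_val)).subtype_mk _
  have hstrict : ∀ q q' : P, φ q = φ q' → q ⤳ q' → q = q' := fun q q' he hs =>
    Subtype.ext (hc.injective (Groth.Agent.AlgSpDec.eq_of_specializes_of_isDecent hd ha (Subtype.ext_iff.1 he).symm
      ((hs.map continuous_subtype_val).map hc.continuous)).symm)
  have hlift : ∀ (w : W) (v : U.left), v ⤳ u → w.1 ⤳ AlgSp.Points.ofPt a v →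
      ∃ q : P, φ q = w ∧ c q.1 ⤳ v := fun w v hv h => by
    obtain ⟨u', hu', he⟩ := Groth.Agent.AlgSpDec.exists_specializes_lift_of_isDecent hd ha h
    obtain ⟨q, rfl⟩ := hcr u' (hu'.trans hv)
    have hq : q ∈ ({IsLocalRing.closedPoint A}ᶜ : Set (PrimeSpectrum A)) := fun hh =>
      w.2.2 (by rw [← he, Set.mem_singleton_iff.1 hh, hcu])
    exact ⟨⟨q, hq⟩, Subtype.ext he, hu'⟩
  have hsurj : Function.Surjective φ := fun w => by
    obtain ⟨q, hq, -⟩ := hlift w u specializes_rfl w.2.1
    exact ⟨q, hq⟩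
  haveI hNW : NoetherianSpace W := noetherianSpace_of_surjective φ hφ hsurj
  haveI hqs : QuasiSober W := by
    refine ⟨fun {Z} hZ hZc => ?_⟩
    obtain ⟨T, hT, rfl⟩ := isClosed_induced_iff.1 hZc
    have hirr : IsIrreducible (closure (Subtype.val '' (Subtype.val ⁻¹' T : Set W))) :=
      (hZ.image _ continuous_subtype_val.continuousOn).closure
    obtain ⟨η, hη⟩ := QuasiSober.sober hirr isClosed_closure
    obtain ⟨w, hw⟩ := hZ.nonempty
    have hηw : η ⤳ w.1 := hη.specializes (subset_closure ⟨w, hw, rfl⟩)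
    have hηW : η ⤳ AlgSp.Points.ofPt a u ∧ η ≠ AlgSp.Points.ofPt a u :=
      ⟨hηw.trans w.2.1, fun he => w.2.2 (((he ▸ hηw).antisymm w.2.1).eq.symm)⟩
    have hηT : η ∈ T := (closure_minimal (by rintro _ ⟨z, hz, rfl⟩; exact hz) hT) hη.mem
    refine ⟨⟨η, hηW⟩, Set.Subset.antisymm (closure_minimal (by simpa using hηT) hZc) fun z hz => ?_⟩
    rw [← specializes_iff_mem_closure, subtype_specializes_iff]
    exact hη.specializes (subset_closure ⟨z, hz, rfl⟩)
  refine ⟨hNW, ⟨⟩, hqs, ?_⟩
  by_contra hJ
  haveI : PrespectralSpace W := inferInstance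
  obtain ⟨w, hwc, hwl⟩ := Groth.Agent.S7547.result hJ
  obtain ⟨w', hw', hne⟩ : ∃ w', w ⤳ w' ∧ w' ≠ w := by
    by_contra hh
    push_neg at hh
    exact hwc (isClosed_of_closure_subset fun z hz => hh z (specializes_iff_mem_closure.2 hz))
  obtain ⟨q', rfl⟩ := hsurj w'
  obtain ⟨q, hq, hqq⟩ := hlift w (c q'.1) (hsp q'.1) (hw'.map continuous_subtype_val)
  have hqq' : q ⤳ q' := by
    rw [subtype_specializes_iff, ← hc.isInducing.specializes_iff]
    exact hqq
  have hl : IsLocallyClosed ({q} : Set P) := by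
    have e : ({q} : Set P) = φ ⁻¹' {w} ∩ closure {q} := by
      ext z
      refine ⟨fun h => ⟨?_, subset_closure h⟩, fun ⟨h1, h2⟩ => ?_⟩
      · show φ z = w
        rw [Set.mem_singleton_iff.1 h, hq]
      · exact (hstrict q z (hq.trans (Set.mem_singleton_iff.1 h1).symm) (specializes_iff_mem_closure.2 h2)).symm
    rw [e]
    exact (hwl.preimage hφ).inter isClosed_closure.isLocallyClosed
  have hclosed : IsClosed ({q} : Set P) := isClosed_singleton_of_isLocallyClosed_singleton hl
  have : q' = q := hclosed.closure_subset (specializes_iff_mem_closure.1 hqq')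
  exact hne (by rw [this, hq])

end Groth.Agent.S10405
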