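import Groth.Statements.S10408
import Groth.Agent.Dsp6.MonoPt

set_option backward.isDefEq.respectTransparency false
set_option backward.isDefEq.respectTransparency.types false

set_option autoImplicit false
universe u
open CategoryTheory CategoryTheory.Limits AlgebraicGeometry Topology TopologicalSpace
open AlgSp

namespace Groth.Agent.S10408

/-- (4) ⇒ (2): let S be a scheme and X an algebraic space over S. Suppose x ∈ |X| is a point represented
by a monomorphism Spec k ⟶ X, where k is a field. Then for every etale φ : U ⟶ X with U a scheme and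
all u, u' ∈ U over x, the map |U ×_X U| → |U| ×_{|X|} |U| has finite fibre over the point (u, u'). -/
theorem result {S : Scheme.{u}} (X : AlgSp.Space S) (x : AlgSp.Points X.obj)
    (hx : ∃ p : AlgSp.FieldPt X.obj, AlgSp.Points.mk p = x ∧ Mono p.toHom) {U : Over S}
    (φ : (AlgSp.yon S).obj U ⟶ X.obj) (hφ : AlgSp.RepWith @Etale φ) (u u' : ↥U.left)
    (hu : AlgSp.Points.ofPt φ u = x) (hu' : AlgSp.Points.ofPt φ u' = x) :
    ∀ (R : Over S) (s t : R ⟶ U), IsPullback ((AlgSp.yon S).map t) ((AlgSp.yon S).map s) φ φ →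
          {r : ↥R.left | s.left r = u ∧ t.left r = u'}.Finite := by

  intro R s t sqR
  obtain ⟨p, hp, hm⟩ := hx
  obtain ⟨T, T₂, c, i, q₁, q₂, σ, -, hc, hinj, sq, hσt, hσs, hσ⟩ :=
    Groth.Agent.Dsp6.finite_fibre_of_mono_point X.property x hp hφ sqR
  rcases Set.eq_empty_or_nonempty {r : ↥R.left | s.left r = u ∧ t.left r = u'} with h | ⟨r₀, hs₀, ht₀⟩
  · rw [h]; exact Set.finite_empty
  have key : ∀ r : ↥R.left, s.left r = u → t.left r = u' →
      ∃ z, σ.left z = r ∧ i.left (q₁.left z) = u' ∧ i.left (q₂.left z) = u := by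
    intro r hs ht
    obtain ⟨z, hz⟩ := hσ r (by rw [Groth.Agent.AlgSpLib.ofPt_comp, ht, hu'])
    refine ⟨z, hz, ?_, ?_⟩
    · rw [← ht, ← hz]; exact congrArg (fun m => m.left z) hσt.symm
    · rw [← hs, ← hz]; exact congrArg (fun m => m.left z) hσs.symm
  obtain ⟨z₀, -, h1, h2⟩ := key r₀ hs₀ ht₀
  haveI := hc
  refine ((Groth.Agent.Dsp6.finite_pairs (K := p.K) (c := c.left) sq (q₁.left z₀) (q₂.left z₀)).image σ.left).subset ?_
  rintro r ⟨hs, ht⟩
  obtain ⟨z, hz, g1, g2⟩ := key r hs ht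
  exact ⟨z, ⟨hinj (g1.trans h1.symm), hinj (g2.trans h2.symm)⟩, hz⟩

end Groth.Agent.S10408
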