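import Groth.Statements.S10409
import Groth.Agent.Dsp6.MonoPt

set_option backward.isDefEq.respectTransparency false
set_option backward.isDefEq.respectTransparency.types false

set_option autoImplicit false
universe u
open CategoryTheory CategoryTheory.Limits AlgebraicGeometry Topology TopologicalSpace
open AlgSp

namespace Groth.Agent.S10409

/-- (3) ⇔ (4): for an algebraic space X over a scheme S and x ∈ |X|, there is a monomorphism Spec k ⟶ X
representing x if and only if there is a morphism Spec k' ⟶ X representing x whose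
self-fibre-product has etale and quasi-compact projections to Spec k'. -/
theorem result {S : Scheme.{u}} (X : AlgSp.Space S)
    (x : AlgSp.Points X.obj) :
    (∃ p : AlgSp.FieldPt X.obj, AlgSp.Points.mk p = x ∧ Mono p.toHom) ↔
      ∃ q : AlgSp.FieldPt X.obj, AlgSp.Points.mk q = x ∧
        ∀ (P : AlgSp.Sp S) (fst snd : P ⟶ (AlgSp.yon S).obj q.pt), IsPullback fst snd q.toHom q.toHom →
          AlgSp.RepWith @Etale fst ∧ AlgSp.RepWith @QuasiCompact fst := by

  constructor
  · rintro ⟨p, hp, hm⟩
    haveI := hm
    refine ⟨p, hp, fun P fst snd sq => ?_⟩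
    haveI : IsIso fst := sq.isIso_fst_of_mono
    exact ⟨Groth.Agent.AlgSpLib.repWith_of_isIso _ fst, Groth.Agent.AlgSpLib.repWith_of_isIso _ fst⟩
  · rintro ⟨q, hq, h⟩
    have hrep := Groth.Agent.AlgSpLib.representable_from_yon' X.property q.toHom
    obtain ⟨he, hqc⟩ := h _ _ _ (hrep.isPullback' q.toHom)
    haveI : Etale (hrep.fst' q.toHom).left := (AlgSp.repWith_yon_map_iff _ _).1 he
    haveI : QuasiCompact (hrep.fst' q.toHom).left := (AlgSp.repWith_yon_map_iff _ _).1 hqc
    haveI : LocallyQuasiFinite (hrep.fst' q.toHom).left := Groth.Agent.AlgSpLib.locallyQuasiFinite_of_formallyUnramified _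
    haveI : IsAffine q.pt.left := inferInstanceAs (IsAffine (Spec (CommRingCat.of q.K)))
    haveI : IsArtinianScheme q.pt.left := inferInstanceAs (IsArtinianScheme (Spec (CommRingCat.of q.K)))
    haveI : IsFinite (hrep.fst' q.toHom).left := IsFinite.of_locallyQuasiFinite _
    obtain ⟨p, hp, hm⟩ := Groth.Agent.Dsp6.exists_mono_of_finite (K := q.K) q.toHom X.property (hrep.isPullback' q.toHom).flip
    exact ⟨p, by rw [hp, AlgSp.Points.ofPt_toHom, hq], hm⟩

end Groth.Agent.S10409
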