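import Groth.Statements.S1041
import Groth.Agent.Perf52.AffineExtend

set_option autoImplicit false
universe u
open CategoryTheory CategoryTheory.Limits AlgebraicGeometry
attribute [local instance] HasDerivedCategory.standard
open Perf

namespace Groth.Agent.S1041

/-- Let X be an affine scheme, T ⊆ X a closed subset with quasi-compact complement, U a quasi-compact
open and F a perfect object of D(O_U) whose cohomology sheaves are supported on T ∩ U. Then F ⊕ F[1]
extends to X as a perfect complex whose cohomology sheaves are supported on T (through a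
representing complex restricted termwise; the binary direct sum in D(O_U) is assumed to exist, which
it does). -/
theorem result (X : Scheme.{u}) [IsAffine X] (T : Set X) (hT : IsClosed T) (hTc : IsCompact Tᶜ)
    (U : X.Opens) (hU : IsCompact (U : Set X))
    (F : DCoh.D (U : Scheme.{u})) (hF : DCoh.IsPerfect F)
    (hFT : ∀ i : ℤ, CohB1.support (DCoh.HD F i) ⊆ {x : ↥(U : Scheme.{u}) | U.ι.base x ∈ T}) [HasBinaryBiproduct F (F⟦(1 : ℤ)⟧)] :
    ∃ G : CochainComplex X.Modules ℤ, DCoh.IsPerfect (DCoh.toD X G) ∧ (∀ i : ℤ, CohB1.support (DCoh.HD (DCoh.toD X G) i) ⊆ T) ∧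
      Nonempty (DerivedCategory.Q.obj ((DCoh.restrictCx U).obj G) ≅ F ⊞ F⟦(1 : ℤ)⟧) := by
  obtain ⟨G, hG, hGT, ⟨e⟩⟩ := Groth.Agent.Perf52.exists_extend_sum_affine hT hTc U hU hF
    ((Groth.Agent.Perf52.suppOn_iff _ _).2 hFT)
  refine ⟨_, Groth.Agent.Perf52.isPerfect_of_iso (Groth.Agent.KFlatLib.repIso G).symm hG,
    (Groth.Agent.Perf52.suppOn_iff _ _).1 (hGT.of_iso (Groth.Agent.KFlatLib.repIso G).symm),
    ⟨((Groth.Agent.KFlatLib.rhoQ U.ι).app _).symm ≪≫
      (Groth.Agent.KFlatLib.rho U.ι).mapIso (Groth.Agent.KFlatLib.repIso G) ≪≫ e⟩⟩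

end Groth.Agent.S1041
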