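import Groth.Statements.S10410
import Groth.Agent.Dsp6.MonoPt

set_option backward.isDefEq.respectTransparency false
set_option backward.isDefEq.respectTransparency.types false

set_option autoImplicit false
universe u
open CategoryTheory CategoryTheory.Limits AlgebraicGeometry Topology TopologicalSpace
open AlgSp

namespace Groth.Agent.S10410

/-- Let X be an algebraic space over a scheme S, x ∈ |X|, and φ : U ⟶ X etale with U a scheme. Then x
lies in the image of |U| and the fibres of |U| → |X| and |U ×_X U| → |X| over x are finite, if and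
only if x is represented by a monomorphism Spec k ⟶ X such that Spec k ×_X U is a nonempty scheme
finite over k. -/
theorem result {S : Scheme.{u}} (X : AlgSp.Space S) (x : AlgSp.Points X.obj)
    {U : Over S} (φ : (AlgSp.yon S).obj U ⟶ X.obj) (hφ : AlgSp.RepWith @Etale φ) :
    (x ∈ Set.range (AlgSp.Points.ofPt φ) ∧ (AlgSp.Points.ofPt φ ⁻¹' {x}).Finite ∧
        ∀ (R : Over S) (s t : R ⟶ U), IsPullback ((AlgSp.yon S).map t) ((AlgSp.yon S).map s) φ φ →
          (AlgSp.Points.ofPt ((AlgSp.yon S).map t ≫ φ) ⁻¹' {x}).Finite) ↔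
      ∃ p : AlgSp.FieldPt X.obj, AlgSp.Points.mk p = x ∧ Mono p.toHom ∧
        ∀ (T : Over S) (c : T ⟶ p.pt) (snd : (AlgSp.yon S).obj T ⟶ (AlgSp.yon S).obj U),
          IsPullback ((AlgSp.yon S).map c) snd p.toHom φ → Nonempty ↥T.left ∧ IsFinite c.left := by

  constructor
  · rintro ⟨⟨u₀, hu₀⟩, hF, hR⟩
    obtain ⟨p, hp, hm⟩ := Groth.Agent.Dsp6.exists_mono_point_of_finite_fibre X.property hφ u₀ u₀ rfl
      fun R s t sq => (hR R s t sq).subset (by
        rintro r ⟨-, ht⟩
        change AlgSp.Points.ofPt ((AlgSp.yon S).map t ≫ φ) r = x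
        rw [Groth.Agent.AlgSpLib.ofPt_comp, ht, hu₀])
    haveI := hm
    refine ⟨p, hp.trans hu₀, hm, fun T c snd sq => ?_⟩
    obtain ⟨i, rfl⟩ := (AlgSp.yon S).map_surjective snd
    haveI : Etale c.left := hφ.property _ _ _ sq.flip
    haveI : Mono i := (AlgSp.yon S).mono_of_mono_map (PullbackCone.mono_snd_of_is_pullback_of_mono sq.isLimit)
    haveI : Mono i.left := inferInstanceAs (Mono ((Over.forget S).map i))
    have hx : ∀ z : ↥T.left, AlgSp.Points.ofPt φ (i.left z) = x := fun z => by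
      rw [← Groth.Agent.AlgSpLib.ofPt_comp, ← sq.w, Groth.Agent.AlgSpLib.ofPt_comp, AlgSp.Points.ofPt_toHom]
      exact hp.trans hu₀
    haveI : Finite ↥T.left := Set.finite_univ_iff.1
      ((hF.preimage i.left.injective.injOn).subset fun z _ => hx z)
    obtain ⟨z, -, -⟩ := Groth.Agent.AlgSpPts.exists_lift sq
      (x := AlgSp.Points.ofScheme p.pt (IsLocalRing.closedPoint p.K)) (t := u₀) (by
        rw [← AlgSp.Points.ofPt_eq_map_ofScheme, AlgSp.Points.ofPt_toHom, hp])
    refine ⟨⟨z⟩, ?_⟩
    haveI : LocallyQuasiFinite c.left := Groth.Agent.AlgSpLib.locallyQuasiFinite_of_formallyUnramified _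
    haveI : IsAffine p.pt.left := inferInstanceAs (IsAffine (Spec (CommRingCat.of p.K)))
    haveI : IsArtinianScheme p.pt.left := inferInstanceAs (IsArtinianScheme (Spec (CommRingCat.of p.K)))
    haveI : QuasiCompact c.left := (quasiCompact_iff_compactSpace c.left).2 (Finite.compactSpace : CompactSpace ↥T.left)
    exact IsFinite.of_locallyQuasiFinite _
  · rintro ⟨p, hp, hm, h⟩
    haveI := hm
    have hfinT : ∀ (T : Over S) (c : T ⟶ p.pt) (i : T ⟶ U),
        IsPullback ((AlgSp.yon S).map i) ((AlgSp.yon S).map c) φ p.toHom → Nonempty ↥T.left ∧ IsFinite c.left ∧ Finite ↥T.left := by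
      intro T c i sq
      obtain ⟨h1, h2⟩ := h T c _ sq.flip
      haveI := h2
      haveI : Subsingleton ↥p.pt.left := inferInstanceAs (Subsingleton (PrimeSpectrum p.K))
      exact ⟨h1, h2, Set.finite_univ_iff.1 ((c.left.finite_preimage_singleton (IsLocalRing.closedPoint p.K)).subset
        fun z _ => Subsingleton.elim (α := ↥p.pt.left) _ _)⟩
    have sqT := hφ.rep.isPullback' p.toHom
    obtain ⟨⟨z₀⟩, -, hTfin⟩ := hfinT _ _ _ sqT
    have hx : ∀ z, AlgSp.Points.ofPt φ ((hφ.rep.fst' p.toHom).left z) = x := fun z => by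
      rw [← Groth.Agent.AlgSpLib.ofPt_comp, sqT.w, Groth.Agent.AlgSpLib.ofPt_comp, AlgSp.Points.ofPt_toHom]
      exact hp
    refine ⟨⟨_, hx z₀⟩, ?_, fun R s t sqR => ?_⟩
    · refine (Set.finite_range (hφ.rep.fst' p.toHom).left).subset fun u hu => ?_
      obtain ⟨z, -, hz⟩ := Groth.Agent.AlgSpPts.exists_lift sqT.flip
        (x := AlgSp.Points.ofScheme p.pt (IsLocalRing.closedPoint p.K)) (t := u) (by
          rw [← AlgSp.Points.ofPt_eq_map_ofScheme, AlgSp.Points.ofPt_toHom, hp]
          exact hu.symm)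
      exact ⟨z, hz⟩
    · obtain ⟨T, T₂, c, i, q₁, q₂, σ, sq, -, -, sq₂, -, -, hσ⟩ :=
        Groth.Agent.Dsp6.finite_fibre_of_mono_point X.property x hp hφ sqR
      obtain ⟨-, hc, hT⟩ := hfinT T c i sq
      haveI := hc
      haveI : IsFinite q₁.left := MorphismProperty.of_isPullback (P := @IsFinite) sq₂.flip hc
      haveI : Finite ↥T₂.left := Set.finite_univ_iff.1
        (((Set.finite_univ (α := ↥T.left)).preimage' fun b _ => q₁.left.finite_preimage_singleton b))
      exact (Set.finite_range σ.left).subset fun r hr => hσ r hr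

end Groth.Agent.S10410
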