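import Groth.Statements.S10412
import Groth.Agent.AlgSpDec.LqfScheme
import Groth.Agent.AlgSpOne.Residual
import Groth.Agent.AlgSpDec.OpenCoverSpace
open Groth.Agent.AlgSpLib Groth.Agent.AlgSpPts

set_option backward.isDefEq.respectTransparency false
set_option backward.isDefEq.respectTransparency.types false

set_option autoImplicit false
universe u
open CategoryTheory CategoryTheory.Limits AlgebraicGeometry Topology TopologicalSpace
open AlgSp

namespace Groth.Agent.S10412

/-- For an algebraic space X over a scheme S the following are equivalent: (1) X has a Zariski covering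
by open subspaces X_i, each X_i admitting a surjective, etale and quasi-compact morphism U_i ⟶ X_i
with U_i a scheme; (2) there are etale morphisms U_i ⟶ X from schemes, jointly surjective, such that
for each i both projection morphisms from U_i ×_X U_i to U_i are quasi-compact. -/
theorem result {S : Scheme.{u}} (X : AlgSp.Space S) :
    (∃ (ι : Type u) (Xi : ι → AlgSp.Space S) (j : ∀ i, Xi i ⟶ X) (U : ι → Over S)
        (a : ∀ i, (AlgSp.yon S).obj (U i) ⟶ (Xi i).obj),
        AlgSp.IsZarCover (fun i => (Xi i).obj) (fun i => (j i).hom) ∧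
          ∀ i, AlgSp.RepWith @Etale (a i) ∧ AlgSp.RepWith @Surjective (a i) ∧ AlgSp.RepWith @QuasiCompact (a i)) ↔
      ∃ (ι : Type u) (U : ι → Over S) (φ : ∀ i, (AlgSp.yon S).obj (U i) ⟶ X.obj),
        (∀ i, AlgSp.RepWith @Etale (φ i)) ∧
          (∀ x : AlgSp.Points X.obj, ∃ (i : ι) (v : ↥(U i).left), AlgSp.Points.ofPt (φ i) v = x) ∧
          ∀ (i : ι) (R : Over S) (s t : R ⟶ U i), IsPullback ((AlgSp.yon S).map t) ((AlgSp.yon S).map s) (φ i) (φ i) →
            QuasiCompact s.left ∧ QuasiCompact t.left := by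

  haveI : MorphismProperty.IsLocalAtTarget (@QuasiCompact : MorphismProperty Scheme.{u}) Scheme.fppfPrecoverage :=
    isLocalAtTarget_fppf _
  constructor
  · rintro ⟨ι, Xi, j, U, a, ⟨hj, hcov⟩, ha⟩
    refine ⟨ι, U, fun i => a i ≫ (j i).hom, fun i => ?_, fun x => ?_,
      fun i R s t sq => ?_⟩
    · exact repWith_comp (ha i).1 (repWith_mono (fun _ _ g (_ : IsOpenImmersion g) => (inferInstance : Etale g)) _ (hj i))
    · obtain ⟨i, z, rfl⟩ := hcov x
      obtain ⟨v, rfl⟩ := surjective_ofPt (ha i).2.1 z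
      exact ⟨i, v, (AlgSp.Points.map_ofPt _ _ _).symm⟩
    · haveI : Mono (j i).hom := Groth.Agent.AlgSpDec.mono_of_openImmersion (hj i)
      have sq' := Groth.Agent.AlgSpOne.isPullback_of_comp_mono (j i).hom (f' := a i ≫ (j i).hom)
        (g' := a i ≫ (j i).hom) rfl rfl sq
      exact ⟨(ha i).2.2.property _ _ _ sq', (ha i).2.2.property _ _ _ sq'.flip⟩
  · rintro ⟨ι, U, φ, hφ, hcov, hqc⟩
    have key : ∀ i, ∃ (P : AlgSp.Space S) (j : P ⟶ X) (a : (AlgSp.yon S).obj (U i) ⟶ P.obj),
        AlgSp.RepWith @IsOpenImmersion j.hom ∧ a ≫ j.hom = φ i ∧ AlgSp.RepWith @Etale a ∧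
          AlgSp.RepWith @Surjective a ∧ AlgSp.RepWith @QuasiCompact a := by
      intro i
      obtain ⟨P, j, a, hj, hja, hae, has⟩ := Groth.Agent.AlgSpDec.exists_image_chart X.property (hφ i)
      haveI : Mono j := Groth.Agent.AlgSpDec.mono_of_openImmersion hj
      have sq := hae.rep.isPullback' a
      have sqφ : IsPullback ((AlgSp.yon S).map (hae.rep.fst' a)) ((AlgSp.yon S).map (hae.rep.snd a)) (φ i) (φ i) := by
        rw [← hja]
        exact IsPullback.of_isLimit' ⟨by rw [reassoc_of% sq.w]⟩ (PullbackCone.isLimitOfCompMono a a j _ sq.isLimit)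
      haveI := isLocallySurjective_of_etale_surjective hae has
      refine ⟨⟨P, Groth.Agent.AlgSpDec.isAlgSpace_of_representable X.property j hj.rep⟩,
        ObjectProperty.homMk j, a, hj, hja, hae, has, ?_⟩
      exact repWith_of_locallySurjective hae.rep a sq _
        ((AlgSp.repWith_yon_map_iff _ _).2 (hqc i _ _ _ sqφ).1)
    choose P j a hj hja hae has haq using key
    refine ⟨ι, P, j, U, a, ⟨hj, fun x => ?_⟩, fun i => ⟨hae i, has i, haq i⟩⟩
    obtain ⟨i, v, rfl⟩ := hcov x
    exact ⟨i, AlgSp.Points.ofPt (a i) v, by rw [AlgSp.Points.map_ofPt, hja]⟩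

end Groth.Agent.S10412
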