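import Groth.Statements.S10414
import Groth.Agent.Dsp6.MonoPt

set_option backward.isDefEq.respectTransparency false
set_option backward.isDefEq.respectTransparency.types false

set_option autoImplicit false
universe u
open CategoryTheory CategoryTheory.Limits AlgebraicGeometry Topology TopologicalSpace
open AlgSp

namespace Groth.Agent.S10414

/-- Let S be a scheme, X an algebraic space over S, x ∈ |X|, and Z_x ⟶ X the residual space of x (a
monomorphism with image {x} from a space which admits a locally finitely presented, flat, surjective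
morphism whose source is the spectrum of a field). Then Z_x is isomorphic to Spec k' for some field
k' if and only if the point x is represented by some monomorphism Spec k ⟶ X. (The decent case, in
which the right side holds at every point, is not part of this row.) -/
theorem result {S : Scheme.{u}} (X : AlgSp.Space S) (x : AlgSp.Points X.obj)
    {Z : AlgSp.Space S} (i : Z ⟶ X) [Mono i.hom] (hi : Set.range (AlgSp.Points.map i.hom) = {x})
    (hZ : ∃ (k : Type u) (_ : Field k) (str : Spec (CommRingCat.of k) ⟶ S) (p : (AlgSp.yon S).obj (Over.mk str) ⟶ Z.obj),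
        AlgSp.LocP @LocallyOfFinitePresentation p ∧ AlgSp.LocP @Flat p ∧ AlgSp.IsSurjectiveMor p) :
    (∃ (k : Type u) (_ : Field k) (str : Spec (CommRingCat.of k) ⟶ S), Nonempty (Z.obj ≅ (AlgSp.yon S).obj (Over.mk str))) ↔
      ∃ p : AlgSp.FieldPt X.obj, AlgSp.Points.mk p = x ∧ Mono p.toHom := by

  obtain ⟨k, _, str, q, hlfp, hfl, hs⟩ := hZ
  constructor
  · rintro ⟨k', _, str', ⟨e⟩⟩
    let π : (AlgSp.yon S).obj (Over.mk str') ⟶ X.obj := e.inv ≫ i.hom
    let p : AlgSp.FieldPt X.obj := ⟨k', str', (AlgSp.J S).uliftYonedaEquiv π⟩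
    have hp : p.toHom = π := Equiv.symm_apply_apply _ _
    refine ⟨p, ?_, by rw [hp]; exact mono_comp _ _⟩
    have h := AlgSp.Points.ofPt_toHom p (show ↥p.pt.left from IsLocalRing.closedPoint k')
    rw [hp] at h
    refine (Set.mem_singleton_iff.1 ?_)
    rw [← hi, ← h]
    exact ⟨AlgSp.Points.ofPt e.inv _, AlgSp.Points.map_ofPt _ _ _⟩
  · rintro ⟨p, hp, hm⟩
    haveI := hm
    obtain ⟨hr, hN, hne, hsub⟩ := Groth.Agent.AlgSpDec.flat_lfp_cover_package Z.property q hlfp hfl hs
    obtain ⟨z⟩ := hne
    have hP := Groth.Agent.AlgSpLib.isAlgSpace_pullback Z.property (AlgSp.IsAlgSpace.yon_obj p.pt) X.property i.hom p.toHom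
    obtain ⟨w, -, -⟩ := Groth.Agent.AlgSpLib.exists_point_of_isPullback (IsPullback.of_hasPullback i.hom p.toHom)
      (x := z) (y := AlgSp.Points.ofScheme p.pt (IsLocalRing.closedPoint p.K)) (by
        have hz : AlgSp.Points.map i.hom z = x := Set.mem_singleton_iff.1 (hi ▸ Set.mem_range_self z)
        exact hz.trans (hp.symm.trans (((AlgSp.Points.ofPt_eq_map_ofScheme p.toHom _).symm.trans
          (AlgSp.Points.ofPt_toHom p _)).symm)))
    haveI := Groth.Agent.AlgSpDec.isIso_of_mono_field (str := p.str) hP (pullback.snd i.hom p.toHom) w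
    haveI := Groth.Agent.AlgSpDec.isIso_of_mono_of_point hP Z.property hr hN (pullback.fst i.hom p.toHom) w
    exact ⟨p.K, p.field, p.str, ⟨(asIso (pullback.fst i.hom p.toHom)).symm ≪≫ asIso (pullback.snd i.hom p.toHom)⟩⟩

end Groth.Agent.S10414
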