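import Groth.Statements.S10416
import Groth.Agent.Dsp6.ResidualFactor
import Groth.Agent.AlgSpDec.RedInduced
import Groth.Agent.AlgSpDec.AffineProps
import Groth.Agent.AlgSpPts.ProperSubspace

set_option backward.isDefEq.respectTransparency false
set_option backward.isDefEq.respectTransparency.types false

set_option autoImplicit false
universe u
open CategoryTheory CategoryTheory.Limits AlgebraicGeometry Topology TopologicalSpace
open AlgSp

namespace Groth.Agent.S10416

/-- Let S be a scheme, X a locally Noetherian algebraic space over S, x ∈ |X|, and i : Z_x ⟶ X the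
residual space at x. Then x is closed in |X| if and only if i is a closed immersion. -/
theorem result {S : Scheme.{u}} {X Z : AlgSp.Space S}
    (hX : AlgSp.IsLocNoethSp X.obj) (x : AlgSp.Points X.obj) (i : Z ⟶ X) [Mono i.hom]
    (hi : Set.range (AlgSp.Points.map i.hom) = {x}) (hZ : ∃ (k : Type u) (_ : Field k) (str : Spec (CommRingCat.of k) ⟶ S) (p : (AlgSp.yon S).obj (Over.mk str) ⟶ Z.obj),
        AlgSp.LocP @LocallyOfFinitePresentation p ∧ AlgSp.LocP @Flat p ∧ AlgSp.IsSurjectiveMor p) :
    IsClosed ({x} : Set (AlgSp.Points X.obj)) ↔ AlgSp.RepWith @IsClosedImmersion i.hom := by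

  obtain ⟨k, _, str, q, hlfp, hfl, hs⟩ := hZ
  obtain ⟨hr, -, -, -⟩ := Groth.Agent.AlgSpDec.flat_lfp_cover_package Z.property q hlfp hfl hs
  constructor
  · intro hcl
    obtain ⟨W, j, hj, hjr, hjred⟩ := Groth.Agent.AlgSpDec.exists_reduced_induced X.property hcl
    haveI : Mono j := Groth.Agent.AlgSpPts.mono_of_repWith ⟨hj.1, fun T V g fst snd sq => by
      haveI : IsClosedImmersion snd.left := hj.2 g fst snd sq
      exact inferInstanceAs (Mono snd.left)⟩
    obtain ⟨g₁, hg₁⟩ := Groth.Agent.Dsp6.exists_factor_of_image_point X.property W.property hX i.hom hr j x hjr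
      fun z => Set.mem_singleton_iff.1 (hi ▸ Set.mem_range_self z)
    obtain ⟨g₂, hg₂⟩ := Groth.Agent.Dsp6.exists_factor_of_image_point X.property Z.property hX j hjred i.hom x hi
      fun z => Set.mem_singleton_iff.1 (hjr ▸ Set.mem_range_self z)
    haveI : IsIso g₁ := ⟨g₂, (cancel_mono i.hom).1 (by rw [Category.assoc, hg₂, hg₁, Category.id_comp]),
      (cancel_mono j).1 (by rw [Category.assoc, hg₁, hg₂, Category.id_comp])⟩
    have h : AlgSp.RepWith @IsClosedImmersion (g₁ ≫ j) :=
      MorphismProperty.RespectsIso.precomp _ g₁ j hj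
    rwa [show g₁ ≫ j = i.hom from hg₁] at h
  · intro h
    have hu : AlgSp.RepWith @UniversallyClosed i.hom := ⟨h.1, fun T V g fst snd sq => by
      haveI : IsClosedImmersion snd.left := h.2 g fst snd sq
      exact inferInstanceAs (UniversallyClosed snd.left)⟩
    have := Groth.Agent.AlgSpPts.ProperSub.isClosed_range_of_univClosed X.property
      (Groth.Agent.AlgSpDec.isUnivClosedMor_of_repWith_universallyClosed hu)
    rwa [hi] at this

end Groth.Agent.S10416
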