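import Groth.Statements.S10417
import Groth.Agent.Dsp6.FiniteNhd
import Groth.Agent.Dsp6.DiscreteFibre
open Groth.Agent.AlgSpLib Groth.Agent.AlgSpPts

set_option backward.isDefEq.respectTransparency false
set_option backward.isDefEq.respectTransparency.types false

set_option autoImplicit false
universe u
open CategoryTheory CategoryTheory.Limits AlgebraicGeometry Topology TopologicalSpace
open AlgSp

namespace Groth.Agent.S10417

/-- Let W = X ×_Y Z be a fibre product of algebraic spaces over a scheme S with projections p, q and let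
x ∈ |X|, z ∈ |Z| lie over the same point of |Y|. If f : X ⟶ Y is of finite type and quasi-finite at
x, then the set of points of |W| mapping to x and to z is finite. -/
theorem result {S : Scheme.{u}} {X Y Z W : AlgSp.Space S} (f : X ⟶ Y)
    (g : Z ⟶ Y) (p : W ⟶ X) (q : W ⟶ Z) (hW : IsPullback p.hom q.hom f.hom g.hom) (x : AlgSp.Points X.obj)
    (z : AlgSp.Points Z.obj) (hxz : AlgSp.Points.map f.hom x = AlgSp.Points.map g.hom z)
    (hft : AlgSp.IsFiniteTypeMor f.hom) (hf : AlgSp.HasAtMor (fun U _ h u => ∃ W : U.Opens, u ∈ W ∧ LocallyQuasiFinite (W.ι ≫ h) ∧ LocallyOfFiniteType (W.ι ≫ h)) f.hom x) :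
    {w : AlgSp.Points W.obj | AlgSp.Points.map p.hom w = x ∧ AlgSp.Points.map q.hom w = z}.Finite := by

  obtain ⟨k, hk⟩ : ∃ k : AlgSp.FieldPt Z.obj, AlgSp.Points.mk k = z := Quotient.exists_rep z
  let P := pullback q.hom k.toHom
  let fP : P ⟶ W.obj := pullback.fst q.hom k.toHom
  let sP : P ⟶ (AlgSp.yon S).obj k.pt := pullback.snd q.hom k.toHom
  have sq : IsPullback (fP ≫ p.hom) sP f.hom (k.toHom ≫ g.hom) :=
    ((IsPullback.of_hasPullback q.hom k.toHom).flip.paste_vert hW.flip).flip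
  haveI : CompactSpace ↥k.pt.left := inferInstanceAs (CompactSpace (PrimeSpectrum k.K))
  have hPqc : AlgSp.IsQuasiCompactSp P := hft.2 (AlgSp.IsAlgSpace.yon_obj k.pt)
    ⟨k.pt, 𝟙 _, AlgSp.repWith_id _ _, AlgSp.repWith_id _ _, ‹_›⟩ _ _ _ sq
  have hP : AlgSp.IsAlgSpace P :=
    isAlgSpace_pullback W.property (AlgSp.IsAlgSpace.yon_obj k.pt) Z.property q.hom k.toHom
  obtain ⟨A, a, ha, has, hA⟩ := hPqc
  haveI := hA
  obtain ⟨h, hh⟩ := (AlgSp.yon S).map_surjective (a ≫ sP)
  have hsP : AlgSp.LocP @LocallyOfFiniteType sP :=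
    locP_of_isPullback sq X.property Y.property (AlgSp.IsAlgSpace.yon_obj k.pt) hft.1
  haveI : LocallyOfFiniteType h.left :=
    hsP a (𝟙 _) h ha (AlgSp.repWith_id _ _) (by rw [hh, Category.comp_id])
  let O : A.left.Opens := ⟨{v | FlatMor.fibreDimAt h.left v = 0}, Groth.Agent.AlgSpDec.PointLocus.ptProp_lqf.isOpen h.left⟩
  haveI : LocallyQuasiFinite (O.ι ≫ h.left) :=
    (Groth.Agent.AlgSpDec.lqf_iff_fibreDimAt (O.ι ≫ h.left)).2 fun v => by
      rw [Groth.Agent.AlgSpDec.fibreDimAt_etale_comp]; exact v.2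
  haveI : DiscreteTopology ↥(O : Set ↥A.left) :=
    Groth.Agent.Dsp6.discreteTopology_of_lqf_field (K := k.K) (O.ι ≫ h.left)
  haveI : IsLocallyNoetherian k.pt.left := inferInstanceAs (IsLocallyNoetherian (Spec (CommRingCat.of k.K)))
  haveI : IsLocallyNoetherian A.left := LocallyOfFiniteType.isLocallyNoetherian h.left
  haveI : IsNoetherian A.left := {}
  haveI : TopologicalSpace.NoetherianSpace ↥A.left := inferInstance
  have hO : (O : Set ↥A.left).Finite :=
    (TopologicalSpace.NoetherianSpace.isCompact _).finite (isDiscrete_iff_discreteTopology.2 ‹_›)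
  refine (hO.image (fun v => AlgSp.Points.map fP (AlgSp.Points.ofPt a v))).subset ?_
  rintro w ⟨hwx, hwz⟩
  obtain ⟨w', hw', -⟩ := exists_point_of_isPullback (IsPullback.of_hasPullback q.hom k.toHom) (x := w)
    (y := AlgSp.Points.ofScheme k.pt (IsLocalRing.closedPoint k.K))
    (hwz.trans (hk.symm.trans ((AlgSp.Points.ofPt_eq_map_ofScheme k.toHom _).symm.trans
      (AlgSp.Points.ofPt_toHom k _)).symm))
  obtain ⟨v, rfl⟩ := surjective_ofPt has w'
  refine ⟨v, ?_, hw'⟩
  show FlatMor.fibreDimAt h.left v = 0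
  refine (Groth.Agent.Dsp6.qfAt_iff_chart hsP ha (AlgSp.repWith_id _ _) (by rw [hh, Category.comp_id]) v).1 ?_
  refine (Groth.Agent.Dsp6.qfAt_baseChange_iff sq X.property Y.property (AlgSp.IsAlgSpace.yon_obj k.pt) hft.1 _).2 ?_
  have e : AlgSp.Points.map (fP ≫ p.hom) (AlgSp.Points.ofPt a v) = x := by
    rw [AlgSp.Points.map_comp, hw', hwx]
  rw [e]
  exact hf

end Groth.Agent.S10417
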