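import Groth.Statements.S10440
import Groth.Agent.Dsp6.HenzEtale

set_option backward.isDefEq.respectTransparency false
set_option backward.isDefEq.respectTransparency.types false

set_option autoImplicit false
universe u
open CategoryTheory CategoryTheory.Limits AlgebraicGeometry Topology TopologicalSpace
open AlgSp

namespace Groth.Agent.S10440

/-- For a decent algebraic space X over a scheme S and x ∈ |X|, let g : (U', u') ⟶ (U, u) be a morphism
of elementary etale neighbourhoods of (X, x). If R is a henselization of O_{U', u'} then, through
the local ring map O_{U, u} ⟶ O_{U', u'} induced by g, R is a henselization of O_{U, u} as well.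
(The published statement identifies the henselian local ring at x, defined as the colimit of global
sections over all elementary etale neighbourhoods, with the henselization of O_{U, u}; that ring is
not a separate construction here, and this row states the resulting independence of the
henselization from the chosen neighbourhood.) -/
theorem result {S : Scheme.{u}} (X : AlgSp.Space S)
    (hX : AlgSp.IsDecent X.obj) (x : AlgSp.Points X.obj) {U U' : Over S}
    (a : (AlgSp.yon S).obj U ⟶ X.obj) (a' : (AlgSp.yon S).obj U' ⟶ X.obj) (g : U' ⟶ U) (u' : ↥U'.left)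
    (hg : (AlgSp.yon S).map g ≫ a = a') (ha : AlgSp.IsElemEtaleNbhd a (g.left.base u') x)
    (ha' : AlgSp.IsElemEtaleNbhd a' u' x) (R : Type u) [CommRing R] [IsLocalRing R]
    [Algebra ↥(U'.left.presheaf.stalk u') R] [IsLocalHom (algebraMap ↥(U'.left.presheaf.stalk u') R)]
    [Hensel.IsHenselization ↥(U'.left.presheaf.stalk u') R] :
    letI : Algebra ↥(U.left.presheaf.stalk (g.left.base u')) R :=
      ((algebraMap ↥(U'.left.presheaf.stalk u') R).comp (g.left.stalkMap u').hom).toAlgebra
    ∃ (_ : IsLocalHom (algebraMap ↥(U.left.presheaf.stalk (g.left.base u')) R)),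
      Hensel.IsHenselization ↥(U.left.presheaf.stalk (g.left.base u')) R := by

  haveI : Etale g.left := by
    have sq := ha.etale.rep.isPullback' a'
    haveI : Etale (ha.etale.rep.snd a').left := ha.etale.property_snd a'
    haveI : Etale (ha.etale.rep.fst' a').left := ha'.etale.property _ _ _ sq.flip
    obtain ⟨σ₀, h1, h2⟩ := sq.exists_lift ((AlgSp.yon S).map g) (𝟙 _) (hg.trans (Category.id_comp _).symm)
    obtain ⟨σ, rfl⟩ := (AlgSp.yon S).map_surjective σ₀
    rw [← Functor.map_comp] at h1 h2
    rw [← (AlgSp.yon S).map_id] at h2
    have e1 := (AlgSp.yon S).map_injective h1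
    have e2 := (AlgSp.yon S).map_injective h2
    haveI : Etale (σ.left ≫ (ha.etale.rep.snd a').left) := by
      rw [← Over.comp_left, e2]
      exact inferInstanceAs (Etale (𝟙 U'.left))
    haveI : Etale σ.left := Etale.of_comp σ.left (ha.etale.rep.snd a').left
    rw [← e1]
    exact inferInstanceAs (Etale (σ.left ≫ (ha.etale.rep.fst' a').left))
  exact Groth.Agent.Dsp6.isHenselization_stalk_comp g.left u'
    (Groth.Agent.Dsp6.bijective_residueFieldMap_of_elem g u' hg ha.mono ha'.mono) R

end Groth.Agent.S10440
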