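import Groth.Statements.S10444
import Groth.Agent.Dsp6.FibreTop

set_option backward.isDefEq.respectTransparency false
set_option backward.isDefEq.respectTransparency.types false

set_option autoImplicit false
universe u
open CategoryTheory CategoryTheory.Limits AlgebraicGeometry Topology TopologicalSpace
open AlgSp

namespace Groth.Agent.S10444

/-- Take f : X ⟶ Y locally of finite type between algebraic spaces over a scheme S, a field-valued point
Spec k ⟶ Y whose class y ∈ |Y| lies in the image of |f|, the fibre product X_k = Spec k ×_Y X, and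
the fibre F = |f|⁻¹(y) ⊆ |X| with the induced topology. Numbering the conditions (1) F finite, (2) F
discrete, (3) dim F = 0, (4) |X_k| finite, (5) |X_k| discrete, (6) dim |X_k| = 0, (7) dim X_k = 0,
(8) f quasi-finite at all points over y: (5) ⇔ (7) ⇔ (8); (5) ⇒ (6), with the converse when X_k is
decent; (4) ⇒ (5) when X_k is decent; (4) ⇒ (1); (2) ⇒ (3); if Y is decent then (2) ⇔ (5); if X and
Y are decent then (3) ⇒ (2) and (1) ⇒ (2). (The published statement asserts (5) ⇔ (6) for every f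
and (2) ⇔ (3) whenever Y is decent, and does not exclude an empty fibre; for the quotient of the
affine line over a field of characteristic zero by an infinite cyclic group of translations, mapping
to the point, the space of points is infinite and indiscrete, so (3) and (6) hold while (2) and (5)
fail, and for y outside the image (5) holds while (6) and (7) fail; hence the decency hypotheses on
those two converses and the hypothesis that y is in the image. Finiteness of |X_k| for an arbitrary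
field k in the class of y is not derived here from (1).) -/
theorem result {S : Scheme.{u}} {X Y : AlgSp.Space S} (f : X ⟶ Y)
    (hf : AlgSp.LocP @LocallyOfFiniteType f.hom) (r : AlgSp.FieldPt Y.obj)
    (hy : AlgSp.Points.mk r ∈ Set.range (AlgSp.Points.map f.hom)) (Xk : AlgSp.Space S) (fst : Xk ⟶ X)
    (snd : Xk.obj ⟶ (AlgSp.yon S).obj r.pt) (hsq : IsPullback fst.hom snd f.hom r.toHom) :
    (DiscreteTopology (AlgSp.Points Xk.obj) ↔ AlgSp.dim Xk.obj = 0) ∧
    (AlgSp.dim Xk.obj = 0 ↔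
      ∀ x : AlgSp.Points X.obj, AlgSp.Points.map f.hom x = AlgSp.Points.mk r → AlgSp.HasAtMor (fun U _ h u => ∃ W : U.Opens, u ∈ W ∧ LocallyQuasiFinite (W.ι ≫ h) ∧ LocallyOfFiniteType (W.ι ≫ h)) f.hom x) ∧
    (DiscreteTopology (AlgSp.Points Xk.obj) → topologicalKrullDim (AlgSp.Points Xk.obj) = 0) ∧
    (AlgSp.IsDecent Xk.obj → topologicalKrullDim (AlgSp.Points Xk.obj) = 0 →
      DiscreteTopology (AlgSp.Points Xk.obj)) ∧
    (AlgSp.IsDecent Xk.obj → Finite (AlgSp.Points Xk.obj) → DiscreteTopology (AlgSp.Points Xk.obj)) ∧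
    (Finite (AlgSp.Points Xk.obj) → (AlgSp.Points.map f.hom ⁻¹' {AlgSp.Points.mk r}).Finite) ∧
    (DiscreteTopology ↥(AlgSp.Points.map f.hom ⁻¹' {AlgSp.Points.mk r}) → topologicalKrullDim ↥(AlgSp.Points.map f.hom ⁻¹' {AlgSp.Points.mk r}) = 0) ∧
    (AlgSp.IsDecent Y.obj → (DiscreteTopology ↥(AlgSp.Points.map f.hom ⁻¹' {AlgSp.Points.mk r}) ↔ DiscreteTopology (AlgSp.Points Xk.obj))) ∧
    (AlgSp.IsDecent Y.obj → AlgSp.IsDecent X.obj →
      (topologicalKrullDim ↥(AlgSp.Points.map f.hom ⁻¹' {AlgSp.Points.mk r}) = 0 → DiscreteTopology ↥(AlgSp.Points.map f.hom ⁻¹' {AlgSp.Points.mk r})) ∧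
        ((AlgSp.Points.map f.hom ⁻¹' {AlgSp.Points.mk r}).Finite → DiscreteTopology ↥(AlgSp.Points.map f.hom ⁻¹' {AlgSp.Points.mk r}))) := by
  have hp : AlgSp.LocP @LocallyOfFiniteType snd :=
    Groth.Agent.AlgSpLib.locP_of_isPullback hsq X.property Y.property (AlgSp.IsAlgSpace.yon_obj _) hf
  obtain ⟨x₀, hx₀⟩ := hy
  obtain ⟨z₀, hz₀⟩ := Groth.Agent.AlgSpC7.FibreDimSp.exists_fibre_point hsq hx₀
  haveI : Nonempty (AlgSp.Points Xk.obj) := ⟨z₀⟩
  haveI : Nonempty ↥(AlgSp.Points.map f.hom ⁻¹' {AlgSp.Points.mk r}) := ⟨⟨x₀, hx₀⟩⟩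
  have hdd := Groth.Agent.Dsp6.OverFieldPt.discrete_iff_dim Xk.property hp
  have hqf : DiscreteTopology (AlgSp.Points Xk.obj) ↔ ∀ x : AlgSp.Points X.obj,
      AlgSp.Points.map f.hom x = AlgSp.Points.mk r → AlgSp.HasAtMor Groth.Agent.Dsp6.QFQ f.hom x := by
    refine ⟨fun _ x hx => ?_, fun h => discreteTopology_iff_isOpen_singleton.2 fun z => ?_⟩
    · obtain ⟨z, rfl⟩ := Groth.Agent.AlgSpC7.FibreDimSp.exists_fibre_point hsq hx
      exact (Groth.Agent.Dsp6.FibreTop.qfAt_iff_fibre hf r hsq z).1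
        ((Groth.Agent.Dsp6.OverFieldPt.hasAt_localDim_iff Xk.property hp z).2 (isOpen_discrete _))
    · rw [← Groth.Agent.Dsp6.OverFieldPt.hasAt_localDim_iff Xk.property hp z,
        Groth.Agent.Dsp6.FibreTop.qfAt_iff_fibre hf r hsq z]
      exact h _ (Groth.Agent.AlgSpC7.FibreDimSp.map_fst_fibre hsq z)
  refine ⟨hdd, hdd.symm.trans hqf, fun _ => Groth.Agent.Dsp6.FibreTop.topologicalKrullDim_of_discrete _,
    fun hd h => discreteTopology_iff_isOpen_singleton.2 fun z => ?_, fun hd hfin => ?_, fun hfin => ?_,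
    fun _ => Groth.Agent.Dsp6.FibreTop.topologicalKrullDim_of_discrete _, fun hY => ?_,
    fun hY hX => ⟨fun h => ?_, fun h => ?_⟩⟩
  · exact Groth.Agent.Dsp6.OverFieldPt.isOpen_of_localDim Xk.property hp hd
      (le_antisymm (h ▸ Groth.Agent.Dsp6.FibreTop.localDim_le _ z) (Groth.Agent.Dsp6.FibreTop.localDim_nonneg _ z))
  · exact Groth.Agent.Dsp6.OverFieldPt.discrete_of_finite Xk.property hp hd
  · refine (Set.finite_range (AlgSp.Points.map fst.hom)).subset fun x hx => ?_
    obtain ⟨z, hz⟩ := Groth.Agent.AlgSpC7.FibreDimSp.exists_fibre_point hsq hx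
    exact ⟨z, hz⟩
  · rw [hqf, discreteTopology_iff_isOpen_singleton]
    exact ⟨fun h x hx => (Groth.Agent.Dsp6.FibreTop.qfAt_iff_isOpen_in_fibre hf hY hx).1 (h ⟨x, hx⟩),
      fun h z => Groth.Agent.Dsp6.FibreTop.isOpen_singleton_in_fibre hf hY z.2 (h z.1 z.2)⟩
  · refine discreteTopology_iff_isOpen_singleton.2 fun z => Groth.Agent.Dsp6.FibreTop.isOpen_singleton_in_fibre hf hY z.2 ?_
    exact Groth.Agent.Dsp6.FibreTop.qfAt_of_localDim hf hX z.2
      (le_antisymm (h ▸ Groth.Agent.Dsp6.FibreTop.localDim_le _ z) (Groth.Agent.Dsp6.FibreTop.localDim_nonneg _ z))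
  · refine discreteTopology_iff_isOpen_singleton.2 fun z => Groth.Agent.Dsp6.FibreTop.isOpen_singleton_in_fibre hf hY z.2 ?_
    exact Groth.Agent.Dsp6.FibreTop.qfAt_of_finite hf hX z.2 h

end Groth.Agent.S10444
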