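import Groth.Statements.S10450
import Groth.Agent.AlgSpDec.LqfScheme
import Groth.Agent.AlgSpDec.QsDense
import Groth.Agent.AlgSpDec.LimAffineStage
import Groth.Agent.SchTop.ZeroDim
import Groth.Agent.S9830
import Groth.Agent.Dsp6.Dim

set_option backward.isDefEq.respectTransparency false
set_option backward.isDefEq.respectTransparency.types false

set_option autoImplicit false
universe u
open CategoryTheory CategoryTheory.Limits AlgebraicGeometry Topology TopologicalSpace
open AlgSp

namespace Groth.Agent.S10450

/-- Let X be a quasi-separated algebraic space of dimension 0 over a quasi-separated scheme S. Then X is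
a separated scheme and every quasi-compact open of X is affine. (The published statement allows any
base scheme S and takes X quasi-separated in the absolute sense; this row asks S to be
quasi-separated and X quasi-separated over S, which together imply absolute quasi-separatedness.) -/
theorem result {S : Scheme.{u}} [QuasiSeparatedSpace S]
    (X : AlgSp.Space S) (hqs : AlgSp.IsQuasiSeparatedSp X.obj) (hd : AlgSp.dim X.obj = 0) :
    ∃ (U : Over S) (_ : (AlgSp.yon S).obj U ≅ X.obj), U.left.IsSeparated ∧
      ∀ V : U.left.Opens, IsCompact (V : Set ↥U.left) → IsAffineOpen V := by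
  have hle : ∀ (W : Over S) (a : (AlgSp.yon S).obj W ⟶ X.obj), AlgSp.RepWith @Etale a → topologicalKrullDim ↥W.left ≤ 0 :=
    fun W a ha => by
      refine le_trans ?_ hd.le
      refine le_iSup_of_le W (le_iSup_of_le a ?_)
      exact le_iSup (fun _ : AlgSp.RepWith @Etale a => topologicalKrullDim ↥W.left) ha
  obtain ⟨Q, ⟨e⟩⟩ := Groth.Agent.AlgSpDec.exists_rep_of_points X.property fun x => by
    obtain ⟨W, b, hb, hbs⟩ := X.property.atlas
    obtain ⟨w, rfl⟩ := Groth.Agent.AlgSpLib.surjective_ofPt hbs x
    have hw : Order.coheight w = 0 := Groth.Agent.Dsp6.enat_eq_zero (by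
      refine le_trans ?_ (hle W b hb)
      rw [Groth.Agent.AlgSpPts.topologicalKrullDim_eq_krullDim]
      exact Order.coheight_le_krullDim w)
    obtain ⟨T, j, hj, z, hz⟩ :=
      Groth.Agent.AlgSpDec.exists_open_subscheme_of_codimZero_qs X.property hqs hb w hw
    exact ⟨T, j, AlgSp.Points.toScheme T z, hj, by
      rw [AlgSp.Points.ofPt_eq_map_ofScheme, AlgSp.Points.ofScheme_toScheme, hz]⟩
  refine ⟨Q, e, ?_⟩
  haveI : QuasiSeparated Q.hom := (Groth.Agent.AlgSpDec.isQuasiSeparatedSp_yon_iff' Q).1 <| by
    rw [Groth.Agent.AlgSpPts.isQuasiSeparatedSp_iff_mor] at hqs ⊢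
    haveI := Groth.Agent.AlgSpDec.isIso_diagonal_of_mono e.hom
    have h := Groth.Agent.AlgSpPts.isQuasiSeparatedMor_comp
      (show AlgSp.IsQuasiSeparatedMor e.hom from Groth.Agent.AlgSpLib.repWith_of_isIso _ _) hqs
    convert h using 1
    exact (Groth.Agent.AlgSpPts.isTerminalYon S).hom_ext _ _
  haveI : QuasiSeparatedSpace ↥Q.left := by
    haveI : QuasiSeparated (Limits.terminal.from S) := (quasiSeparatedSpace_iff_quasiSeparated _).1 inferInstance
    have h : QuasiSeparated (Q.hom ≫ Limits.terminal.from S) := inferInstance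
    exact (quasiSeparatedSpace_iff_quasiSeparated _).2 (by rwa [Limits.terminal.comp_from] at h)
  have h0 : topologicalKrullDim ↥Q.left ≤ 0 := hle Q e.hom (Groth.Agent.AlgSpLib.repWith_of_isIso _ _)
  haveI := Groth.Agent.SchTop.totallySeparatedSpace_of_dim_le_zero h0
  exact ⟨Groth.Agent.S9830.result Q.left, fun V hV => Groth.Agent.SchTop.isAffineOpen_of_isCompact h0 hV⟩

end Groth.Agent.S10450
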