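import Groth.Statements.S10451
import Groth.Agent.Dsp6.LqfField
import Groth.Agent.AlgSpDec.FieldFibre

set_option backward.isDefEq.respectTransparency false
set_option backward.isDefEq.respectTransparency.types false

set_option autoImplicit false
universe u
open CategoryTheory CategoryTheory.Limits AlgebraicGeometry Topology TopologicalSpace
open AlgSp

namespace Groth.Agent.S10451

/-- Let k be a field and X an algebraic space locally of finite type over k with dim X = 0. Then X is a
separated scheme and every quasi-compact open of X is affine. -/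
theorem result (k : Type u) [Field k]
    (X : AlgSp.Space (Spec (CommRingCat.of k))) (p : X.obj ⟶ (AlgSp.yon (Spec (CommRingCat.of k))).obj (Over.mk (𝟙 _)))
    (hp : AlgSp.LocP @LocallyOfFiniteType p) (hd : AlgSp.dim X.obj = 0) :
    ∃ (U : Over (Spec (CommRingCat.of k))) (_ : (AlgSp.yon (Spec (CommRingCat.of k))).obj U ≅ X.obj), U.left.IsSeparated ∧
      ∀ V : U.left.Opens, IsCompact (V : Set ↥U.left) → IsAffineOpen V := by

  have hlqf : AlgSp.LocP (@LocallyQuasiFinite ⊓ @LocallyOfFiniteType : MorphismProperty Scheme.{u}) p := by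
    intro U V a b h ha hb w
    haveI : LocallyOfFiniteType h.left := hp a b h ha hb w
    obtain ⟨h₀, hh₀⟩ := (AlgSp.yon (Spec (CommRingCat.of k))).map_surjective (a ≫ p)
    have he : h₀.left = U.hom := (Category.comp_id h₀.left).symm.trans (Over.w h₀)
    haveI : LocallyOfFiniteType U.hom := by
      rw [← he]
      exact hp a (𝟙 _) h₀ ha (AlgSp.repWith_id _ _) (by rw [hh₀, Category.comp_id])
    haveI : Subsingleton ↥(Spec (CommRingCat.of k)) := inferInstanceAs (Subsingleton (PrimeSpectrum k))
    haveI : LocallyQuasiFinite U.hom := (Groth.Agent.AlgSpDec.lqf_iff_fibreDimAt U.hom).2 fun u => by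
      refine Groth.Agent.AlgSpDec.FieldFibre.fibreDimAt_eq_zero_of_le U.hom u ?_
      rw [Groth.Agent.AlgSpDec.FieldFibre.fibreDimAt_of_subsingleton]
      refine (iInf_le _ ⟨⊤, trivial⟩).trans ((topologicalKrullDim_subspace_le _ _).trans ?_)
      have h1 : topologicalKrullDim ↥U.left ≤ AlgSp.dim X.obj :=
        le_iSup_of_le U (le_iSup_of_le a (le_iSup_of_le ha le_rfl))
      exact h1.trans (le_of_eq hd)
    haveI : LocallyQuasiFinite (h.left ≫ V.hom) := by rw [Over.w h]; infer_instance
    exact ⟨LocallyQuasiFinite.of_comp h.left V.hom, inferInstance⟩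
  obtain ⟨U, ⟨e⟩⟩ := Groth.Agent.Dsp6.exists_rep_of_lqf_field X.property hlqf
  obtain ⟨hq, hf⟩ := Groth.Agent.Dsp6.chart_lft hlqf (Groth.Agent.AlgSpLib.repWith_of_isIso @Etale e.hom)
  haveI := Groth.Agent.Dsp6.discreteTopology_of_lqf_field (K := k) U.hom
  haveI : IsSeparated U.hom := by
    haveI : LocallyQuasiFinite (pullback.fst U.hom U.hom) := inferInstance
    haveI := Groth.Agent.Dsp6.discreteTopology_of_lqf_field (K := k) (pullback.fst U.hom U.hom ≫ U.hom)
    exact ⟨IsClosedImmersion.of_isPreimmersion _ (isClosed_discrete _)⟩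
  haveI : IsSeparated (terminal.from U.left) := by
    rw [← terminal.comp_from U.hom]
    infer_instance
  refine ⟨U, e, ⟨‹_›⟩, fun V hV => ?_⟩
  haveI : CompactSpace ↥V := isCompact_iff_compactSpace.1 hV
  haveI : QuasiCompact (V.ι ≫ U.hom) := (quasiCompact_iff_compactSpace _).2 ‹_›
  haveI : IsArtinianScheme (Spec (CommRingCat.of k)) := inferInstance
  haveI : IsFinite (V.ι ≫ U.hom) := IsFinite.of_locallyQuasiFinite _
  exact isAffine_of_isAffineHom (V.ι ≫ U.hom)

end Groth.Agent.S10451
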