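import Groth.Statements.S10453
import Groth.Agent.AlgSpDec.QsDense

set_option autoImplicit false
universe u
open CategoryTheory CategoryTheory.Limits AlgebraicGeometry Topology TopologicalSpace
open AlgSp

namespace Groth.Agent.S10453

/-- Let X be a quasi-separated algebraic space over a quasi-separated scheme S and x a point of X of
codimension 0 (the local ring of X at x has dimension 0). Then some open subspace of X containing x
is a scheme. (The published statement allows any base scheme S and takes X quasi-separated in the
absolute sense; this row asks S to be quasi-separated and X quasi-separated over S, which together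
imply absolute quasi-separatedness.) -/
theorem result {S : Scheme.{u}} [QuasiSeparatedSpace S]
    (X : AlgSp.Space S) (hqs : AlgSp.IsQuasiSeparatedSp X.obj) (x : AlgSp.Points X.obj)
    (hx : AlgSp.HasAt (fun U u => ringKrullDim ↥(U.presheaf.stalk u) = 0) X.obj x) :
    ∃ (X' : AlgSp.Space S) (j : X' ⟶ X), AlgSp.RepWith @IsOpenImmersion j.hom ∧
      X'.obj.obj.IsRepresentable ∧ x ∈ Set.range (AlgSp.Points.map j.hom) := by
  obtain ⟨U, a, u, ha, rfl, hu⟩ := hx
  change ringKrullDim _ = 0 at hu
  rw [ringKrullDim_stalk_eq_coheight] at hu
  obtain ⟨T, j, hj, z, hz⟩ := Groth.Agent.AlgSpDec.exists_open_subscheme_of_codimZero_qs X.property hqs ha u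
    (WithBot.coe_eq_zero.1 hu)
  exact ⟨(AlgSp.ofScheme S).obj T, ObjectProperty.homMk j, hj,
    ⟨⟨T, ⟨AlgSp.representableByOfIso (Iso.refl _)⟩⟩⟩, z, hz⟩

end Groth.Agent.S10453
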