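import Groth.Statements.S10483
import Groth.Agent.Dsp6.LqfField

set_option backward.isDefEq.respectTransparency false
set_option backward.isDefEq.respectTransparency.types false

set_option autoImplicit false
universe u
open CategoryTheory CategoryTheory.Limits AlgebraicGeometry Topology TopologicalSpace
open AlgSp

namespace Groth.Agent.S10483

/-- (1) ⇔ (5): let k be a field and X an algebraic space over k. Then X is locally quasi-finite over k
if and only if X decomposes as a disjoint union of spectra of finite-dimensional Artinian local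
k-algebras: X is a scheme every point of which has an affine open neighbourhood with Artinian local
coordinate ring, finite over k. -/
theorem result (k : Type u) [Field k] (X : AlgSp.Space (Spec (CommRingCat.of k))) (p : X.obj ⟶ (AlgSp.yon (Spec (CommRingCat.of k))).obj (Over.mk (𝟙 _))) :
    AlgSp.LocP (@LocallyQuasiFinite ⊓ @LocallyOfFiniteType : MorphismProperty Scheme.{u}) p ↔
      ∃ (U : Over (Spec (CommRingCat.of k))) (_ : (AlgSp.yon (Spec (CommRingCat.of k))).obj U ≅ X.obj), ∀ u : ↥U.left, ∃ V : U.left.Opens,
        u ∈ V ∧ IsAffineOpen V ∧ IsArtinianRing ↥Γ(U.left, V) ∧ IsLocalRing ↥Γ(U.left, V) ∧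
          IsFinite (V.ι ≫ U.hom) := by

  constructor
  · intro hp
    obtain ⟨U, ⟨e⟩⟩ := Groth.Agent.Dsp6.exists_rep_of_lqf_field X.property hp
    obtain ⟨hq, hf⟩ := Groth.Agent.Dsp6.chart_lft hp (Groth.Agent.AlgSpLib.repWith_of_isIso @Etale e.hom)
    refine ⟨U, e, fun u => ?_⟩
    obtain ⟨V, hV, h1, h2, h3, h4⟩ := Groth.Agent.Dsp6.exists_nhd_artinian U u
    exact ⟨V, show u ∈ (V : Set ↥U.left) from hV.symm ▸ rfl, h1, h2, h3, h4⟩
  · rintro ⟨U, e, hU⟩
    choose V hV _ _ _ hfin using hU
    have htop : ⨆ u, V u = ⊤ := top_unique fun s _ => TopologicalSpace.Opens.mem_iSup.2 ⟨s, hV s⟩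
    haveI : LocallyQuasiFinite U.hom :=
      (IsZariskiLocalAtSource.iff_of_iSup_eq_top (P := @LocallyQuasiFinite) V htop).2 fun u => by
        haveI := hfin u
        infer_instance
    haveI : LocallyOfFiniteType U.hom :=
      (IsZariskiLocalAtSource.iff_of_iSup_eq_top (P := @LocallyOfFiniteType) V htop).2 fun u => by
        haveI := hfin u
        infer_instance
    exact Groth.Agent.Dsp6.locP_of_iso e

end Groth.Agent.S10483
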