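import Groth.Statements.S1049
import Groth.Agent.Perf52.CohD

set_option autoImplicit false
universe u
open CategoryTheory CategoryTheory.Limits AlgebraicGeometry
attribute [local instance] HasDerivedCategory.standard
open Perf

namespace Groth.Agent.S1049

/-- Let X be a Noetherian scheme. Granting that coherent modules contain zero and are closed under
kernels, cokernels and finite products in all O_X-modules, with exact inclusion (true on a
Noetherian scheme, carried as instance hypotheses; they make Coh(O_X) an abelian category), the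
induced functor D(Coh(O_X)) ⥤ D(O_X) is fully faithful on bounded objects, and a bounded object of
D(O_X) with coherent cohomology sheaves is isomorphic to the image of a bounded object of
D(Coh(O_X)). -/
theorem result (X : Scheme.{u}) [IsNoetherian X]
    [ObjectProperty.ContainsZero (fun M : X.Modules => Coh.IsCoh M)] [ObjectProperty.IsClosedUnderKernels (fun M : X.Modules => Coh.IsCoh M)]
    [ObjectProperty.IsClosedUnderCokernels (fun M : X.Modules => Coh.IsCoh M)] [ObjectProperty.IsClosedUnderFiniteProducts (fun M : X.Modules => Coh.IsCoh M)]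
    [PreservesFiniteLimits (ObjectProperty.ι (fun M : X.Modules => Coh.IsCoh M))] [PreservesFiniteColimits (ObjectProperty.ι (fun M : X.Modules => Coh.IsCoh M))] :
    (∀ (M N : DerivedCategory (ObjectProperty.FullSubcategory (fun M : X.Modules => Coh.IsCoh M))) (a b : ℤ), M.IsGE a → M.IsLE b → N.IsGE a → N.IsLE b →
      Function.Bijective (fun φ : M ⟶ N => (ObjectProperty.ι (fun M : X.Modules => Coh.IsCoh M)).mapDerivedCategory.map φ)) ∧
    ∀ (K : DCoh.D X) (a b : ℤ), K.IsGE a → K.IsLE b → DCoh.IsCohD K →
      ∃ M : DerivedCategory (ObjectProperty.FullSubcategory (fun M : X.Modules => Coh.IsCoh M)), M.IsGE a ∧ M.IsLE b ∧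
        Nonempty ((ObjectProperty.ι (fun M : X.Modules => Coh.IsCoh M)).mapDerivedCategory.obj M ≅ K) := by
  refine ⟨fun M N _ b _ hM _ _ => (Perf52.derivedMinus_cohι X).1 M N b hM, fun K a b ha hb hC => ?_⟩
  obtain ⟨M, hM, ⟨e⟩⟩ := (Perf52.derivedMinus_cohι X).2 K b hb hC
  refine ⟨M, (DerivedCategory.isGE_iff M a).2 fun i hi => ?_, hM, ⟨e⟩⟩
  have h1 : IsZero ((Perf52.cohι X).obj ((DerivedCategory.homologyFunctor _ i).obj M)) :=
    ((DerivedCategory.isGE_iff K a).1 ha i hi).of_iso
      (((KFlatLib.mapDCHomologyIso (Perf52.cohι X) i).app M).symm ≪≫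
        (DerivedCategory.homologyFunctor X.Modules i).mapIso e)
  rw [IsZero.iff_id_eq_zero] at h1 ⊢
  exact (Perf52.cohι X).map_injective (by rw [CategoryTheory.Functor.map_id, h1, Functor.map_zero])

end Groth.Agent.S1049
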