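import Groth.Statements.S10492
import Groth.Agent.Dsp6.NormalSp

set_option backward.isDefEq.respectTransparency false
set_option backward.isDefEq.respectTransparency.types false

set_option autoImplicit false
universe u
open CategoryTheory CategoryTheory.Limits AlgebraicGeometry Topology TopologicalSpace
open AlgSp

namespace Groth.Agent.S10492

/-- Let X be a normal integral algebraic space over a scheme S. Each point x of X lies in the image of
some etale morphism U ⟶ X from an affine scheme U that is normal and integral. -/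
theorem result {S : Scheme.{u}} (X : AlgSp.Space S)
    (hXi : AlgSp.IsIntegralSp X.obj)
    (hXn : AlgSp.EtaleLocally (fun U => ∀ u : ↥U, IsDomain ↥(U.presheaf.stalk u) ∧
      IsIntegrallyClosed ↥(U.presheaf.stalk u)) X.obj)
    (x : AlgSp.Points X.obj) :
    ∃ (U : Over S) (a : (AlgSp.yon S).obj U ⟶ X.obj), AlgSp.RepWith @Etale a ∧ IsAffine U.left ∧
      IsIntegral U.left ∧ IsIntegrallyClosed ↥Γ(U.left, ⊤) ∧ x ∈ Set.range (AlgSp.Points.ofPt a) := by

  obtain ⟨-, hdec, hi⟩ := hXi
  haveI : IrreducibleSpace (AlgSp.Points X.obj) := hi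
  obtain ⟨W, c, hc, hcs⟩ := X.property.atlas
  obtain ⟨w, rfl⟩ := Groth.Agent.AlgSpLib.surjective_ofPt hcs x
  obtain ⟨V, j, v, hj, hjv, hVa, hVi, hVc⟩ := Groth.Agent.Dsp6.exists_integral_nhd X.property hdec hXn hc w
  haveI := hj
  refine ⟨V, (AlgSp.yon S).map j ≫ c,
    Groth.Agent.AlgSpLib.repWith_comp ((AlgSp.repWith_yon_map_iff _ j).2 (inferInstanceAs (Etale j.left))) hc,
    hVa, hVi, hVc, v, ?_⟩
  rw [Groth.Agent.AlgSpLib.ofPt_comp, hjv]

end Groth.Agent.S10492
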