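import Groth.Statements.S10496
import Groth.Agent.S10423
import Groth.Agent.AlgSpDec.RedInduced
import Groth.Agent.AlgSpPts.Imm

set_option autoImplicit false
universe u
open CategoryTheory CategoryTheory.Limits AlgebraicGeometry Topology TopologicalSpace
open AlgSp

namespace Groth.Agent.S10496

/-- Let X be a decent algebraic space over a scheme S. For every irreducible closed subset T of |X|
there is an integral closed subspace Z of X with |Z| = T. -/
theorem result {S : Scheme.{u}} (X : AlgSp.Space S)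
    (hX : AlgSp.IsDecent X.obj) (T : Set (AlgSp.Points X.obj)) (hT : IsClosed T) (hTi : IsIrreducible T) :
    ∃ (Z : AlgSp.Space S) (i : Z ⟶ X), AlgSp.RepWith @IsClosedImmersion i.hom ∧ AlgSp.IsIntegralSp Z.obj ∧
      Set.range (AlgSp.Points.map i.hom) = T := by
  obtain ⟨Z, j, hj⟩ := Groth.Agent.AlgSpDec.exists_reduced_induced X.property hT
  have hemb : IsEmbedding (AlgSp.Points.map j) := Groth.Agent.AlgSpPts.isEmbedding_map X.property
    (Groth.Agent.AlgSpLib.repWith_mono (P := @IsClosedImmersion) (Q := @IsImmersion)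
      (fun _ _ e (_ : IsClosedImmersion e) => inferInstanceAs (IsImmersion e)) _ hj.1)
  refine ⟨Z, ObjectProperty.homMk j, hj.1, ⟨hj.2.2, ?_, ?_⟩, hj.2.1⟩
  · exact Groth.Agent.AlgSpDec.isDecent_of_isDecentMor Z.property j
      (Groth.Agent.AlgSpDec.isDecentMor_of_representable X.property j hj.1.rep) hX
  · rw [irreducibleSpace_def]
    rw [← hj.2.1, ← Set.image_univ] at hTi
    obtain ⟨y, z, -, -⟩ := hTi.nonempty
    refine ⟨⟨z, trivial⟩, ?_⟩
    rintro u v hu hv ⟨a, -, ha⟩ ⟨b, -, hb⟩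
    obtain ⟨u', hu', rfl⟩ := hemb.isInducing.isOpen_iff.1 hu
    obtain ⟨v', hv', rfl⟩ := hemb.isInducing.isOpen_iff.1 hv
    obtain ⟨_, ⟨c, -, rfl⟩, hcu, hcv⟩ :=
      hTi.2 u' v' hu' hv' ⟨_, ⟨a, trivial, rfl⟩, ha⟩ ⟨_, ⟨b, trivial, rfl⟩, hb⟩
    exact ⟨c, trivial, hcu, hcv⟩

end Groth.Agent.S10496
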