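import Groth.Statements.S10497
import Groth.Agent.Dsp6.GeomInt

set_option backward.isDefEq.respectTransparency false
set_option backward.isDefEq.respectTransparency.types false

set_option autoImplicit false
universe u
open CategoryTheory CategoryTheory.Limits AlgebraicGeometry Topology TopologicalSpace
open AlgSp

namespace Groth.Agent.S10497

/-- Let k be a field and X a decent algebraic space over k. Then all base changes X_K to field
extensions K of k are integral exactly when X is geometrically reduced over k and every |X_K| is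
irreducible. -/
theorem result (k : Type u) [Field k] (X : AlgSp.Space (Spec (CommRingCat.of k))) (hX : AlgSp.IsDecent X.obj) :
    (∀ (K : Type u) [Field K] [Algebra k K], AlgSp.IsIntegralSp (X.obj ⨯ (AlgSp.yon (Spec (CommRingCat.of k))).obj (Over.mk (Spec.map (CommRingCat.ofHom (algebraMap k K)))))) ↔
      (∀ x : AlgSp.Points X.obj, (∃ (U : Over (Spec (CommRingCat.of k))) (a : (AlgSp.yon (Spec (CommRingCat.of k))).obj U ⟶ X.obj) (u : ↥U.left),
      AlgSp.RepWith @Etale a ∧ AlgSp.Points.ofPt a u = x ∧ FBase.IsGeomReducedAt U.hom u)) ∧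
        ∀ (K : Type u) [Field K] [Algebra k K], IrreducibleSpace (AlgSp.Points (X.obj ⨯ (AlgSp.yon (Spec (CommRingCat.of k))).obj (Over.mk (Spec.map (CommRingCat.ofHom (algebraMap k K)))))) := by
  obtain ⟨U, a, ha, has⟩ := X.property.atlas
  constructor
  · intro h
    refine ⟨fun x => ?_, fun K _ _ => (h K).2.2⟩
    obtain ⟨u, rfl⟩ := Groth.Agent.AlgSpLib.surjective_ofPt has x
    exact (Groth.Agent.AlgSpDec.GeomRed.exists_chart_iff ha u).2
      (Groth.Agent.AlgSpDec.GeomRed.geomReduced_of_perfect (AlgebraicClosure k) ha has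
        (h (AlgebraicClosure k)).1 u)
  · rintro ⟨h₁, h₂⟩ K _ _
    exact ⟨Groth.Agent.AlgSpDec.GeomRed.bc_isReduced_of_geomReduced K ha has
        (fun u => (Groth.Agent.AlgSpDec.GeomRed.exists_chart_iff ha u).1 (h₁ _)),
      Groth.Agent.Dsp6.isDecent_bc K X.property hX, h₂ K⟩

end Groth.Agent.S10497
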