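import Groth.Statements.S10501
import Groth.Agent.Dsp6.GeomInt

set_option backward.isDefEq.respectTransparency false
set_option backward.isDefEq.respectTransparency.types false

set_option autoImplicit false
universe u
open CategoryTheory CategoryTheory.Limits AlgebraicGeometry Topology TopologicalSpace
open AlgSp

namespace Groth.Agent.S10501

/-- Over a separably closed field k, an algebraic space X is geometrically connected if and only if it
is connected. -/
theorem result (k : Type u) [Field k] [IsSepClosed k]
    (X : AlgSp.Space (Spec (CommRingCat.of k))) :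
    (∀ (K : Type u) [Field K] [Algebra k K], ConnectedSpace (AlgSp.Points (X.obj ⨯ (AlgSp.yon (Spec (CommRingCat.of k))).obj (Over.mk (Spec.map (CommRingCat.ofHom (algebraMap k K))))))) ↔ ConnectedSpace (AlgSp.Points X.obj) := by
  obtain ⟨U, a, -, has⟩ := X.property.atlas
  have hsurj : ∀ (K : Type u) [Field K] [Algebra k K], Function.Surjective (AlgSp.Points.map
      (prod.fst : X.obj ⨯ (AlgSp.yon (Spec (CommRingCat.of k))).obj (Groth.Agent.AlgSpDec.GeomRed.ext K) ⟶ X.obj)) :=
    fun K _ _ x => Groth.Agent.AlgSpDec.GeomRed.surjective_fst K x has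
  constructor
  · intro h
    haveI := h k
    exact (hsurj k).connectedSpace (AlgSp.Points.continuous_map _)
  · intro _ K _ _
    exact Groth.Agent.Dsp6.connectedSpace_of_isOpenMap_fibres (Groth.Agent.Dsp6.isOpenMap_bc_fst K X.property)
      (hsurj K) (Groth.Agent.Dsp6.isPreconnected_fibre_bc_fst K)

end Groth.Agent.S10501
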