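import Groth.Statements.S1067
import Groth.Agent.DEqT.PnData
-- import your own Groth.Agent.* helpers here

set_option autoImplicit false
universe u
open CategoryTheory CategoryTheory.Limits AlgebraicGeometry
attribute [local instance] HasDerivedCategory.standard
open Perf

namespace Groth.Agent.S1067

/-- Let R be a ring and X = P^n_R. The object O_X ⊕ O_X(-1) ⊕ … ⊕ O_X(-n) generates D_QCoh(O_X): if K ∈
D(O_X) has quasi-coherent cohomology sheaves and every morphism O_X(-d)[m] ⟶ K with 0 ≤ d ≤ n and m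
∈ ℤ is zero, then K = 0. -/
theorem result (n : ℕ) (R : Type u) [CommRing R]
    (K : DCoh.D (CohB1.ProjSpace n R)) (hK : DCoh.IsQCohD K)
    (h : ∀ (d : ℕ), d ≤ n → ∀ (m : ℤ) (φ : (DCoh.inD (CohB1.ProjSpace n R) (Twist.twistProjSpace n R (-(d : ℤ))))⟦m⟧ ⟶ K), φ = 0) :
    IsZero K := by
  haveI : IsProper (CohB1.ProjSpace.toSpec n R) := Groth.Agent.PnCoh.Chow.isProper_toSpec n R
  haveI : CompactSpace (CohB1.ProjSpace n R) := Groth.Agent.KRRLib.CM.compactSpace_projSpace
  obtain ⟨C, hC, ⟨eC⟩⟩ := Groth.Agent.DEqT.Proj.exists_qcoh_rep_of_affine_inter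
    (Groth.Agent.DEqT.Proj.affine_inter_of_separated (CohB1.ProjSpace.toSpec n R)) hK
  refine (Groth.Agent.DEqT.Proj.pnData n R).isZero_of_hom_twist K hC eC hK
    (Groth.Agent.DEqT.Proj.pnData_affine n R) fun d hd j φ => ?_
  exact Groth.Agent.DEqT.Proj.eq_zero_of_forall_inD (Groth.Agent.DEqT.Proj.pnData n R) K j d
    (h d (by rw [Groth.Agent.DEqT.Proj.card_index] at hd; omega) (-j)) φ

end Groth.Agent.S1067
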