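import Groth.Statements.S10670
import Groth.Agent.AlgSpC7.ConnExt

set_option autoImplicit false
universe u
open CategoryTheory CategoryTheory.Limits AlgebraicGeometry
open AlgSp

namespace Groth.Agent.S10670

/-- For morphisms f : X ⟶ Y and g : Y' ⟶ Y between algebraic spaces over S, f' : X' ⟶ Y' the base change
of f along g, an algebraically closed field point k' of Y' and an algebraically closed field point k
of Y whose class in |Y| is the image of the class of k', the fibres X'_{k'} and X_k (pullbacks in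
fppf sheaves) have the same number of connected components of their spaces of points, counted in ℕ∞.
With g the identity this says the number of geometric connected components of the fibre over a point
of |Y| is well defined. -/
theorem result {S : Scheme.{u}} {X Y X' Y' : AlgSp.Space S} (f : X ⟶ Y) (g : Y' ⟶ Y) (gX : X' ⟶ X) (f' : X' ⟶ Y')
    (hsq : IsPullback gX.hom f'.hom f.hom g.hom)
    (k' : AlgSp.FieldPt Y'.obj) (hk' : k'.IsGeometric) (k : AlgSp.FieldPt Y.obj) (hk : k.IsGeometric)
    (hkk : AlgSp.Points.mk k = AlgSp.Points.map g.hom (AlgSp.Points.mk k'))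
    (Xk' : AlgSp.Sp S) (a' : Xk' ⟶ X'.obj) (b' : Xk' ⟶ (AlgSp.yon S).obj k'.pt) (h' : IsPullback a' b' f'.hom k'.toHom)
    (Xk : AlgSp.Sp S) (a : Xk ⟶ X.obj) (b : Xk ⟶ (AlgSp.yon S).obj k.pt) (h : IsPullback a b f.hom k.toHom) :
    ENat.card (_root_.ConnectedComponents (AlgSp.Points Xk')) = ENat.card (_root_.ConnectedComponents (AlgSp.Points Xk)) := by
  obtain ⟨Ω, _, w, u, v, hab⟩ := Points.mk_eq_mk_iff.1 (hkk.trans (Points.map_mk g.hom k'))
  have e₀ : (yon S).map u ≫ k.toHom = (yon S).map v ≫ (k'.map g.hom).toHom := by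
    apply (J S).uliftYonedaEquiv.injective
    rw [← Groth.Agent.AlgSpLib.uliftYonedaEquiv_precomp, ← Groth.Agent.AlgSpLib.uliftYonedaEquiv_precomp,
      FieldPt.uliftYonedaEquiv_toHom, FieldPt.uliftYonedaEquiv_toHom]
    exact hab
  have e : (yon S).map u ≫ k.toHom = (yon S).map (Y := k'.pt) v ≫ k'.toHom ≫ g.hom :=
    e₀.trans (congrArg (fun t => (yon S).map v ≫ t) (FieldPt.toHom_map g.hom k'))
  have s₁ := IsPullback.of_hasPullback b ((yon S).map u)
  have hX := s₁.paste_horiz h
  rw [e] at hX
  have hX' := h'.paste_horiz hsq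
  let m := hX'.lift (pullback.fst b ((yon S).map u) ≫ a) (pullback.snd b ((yon S).map u) ≫ (yon S).map v)
    (by rw [hX.w]; exact (Category.assoc _ _ _).symm)
  have s₂ : IsPullback m (pullback.snd b ((yon S).map u)) b' ((yon S).map v) := by
    refine IsPullback.of_right ?_ (hX'.lift_snd _ _ _) hX'
    rw [hX'.lift_fst]
    exact hX
  haveI : IsAlgClosed k.K := hk
  haveI : IsAlgClosed k'.K := hk'
  obtain ⟨e₁⟩ := Groth.Agent.AlgSpC7.ConnExt.connectedComponents_bc (K := Ω) (sk := k.str) (w := u) s₁
  obtain ⟨e₂⟩ := Groth.Agent.AlgSpC7.ConnExt.connectedComponents_bc (K := Ω) (sk := k'.str) (w := v) s₂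
  exact (ENat.card_congr e₂.toEquiv).symm.trans (ENat.card_congr e₁.toEquiv)

end Groth.Agent.S10670
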