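import Groth.Statements.S10681
import Groth.Agent.AlgSpC7.ConnEtale

set_option autoImplicit false
set_option backward.isDefEq.respectTransparency false
set_option backward.isDefEq.respectTransparency.types false
universe u
open CategoryTheory CategoryTheory.Limits AlgebraicGeometry
open AlgSp

namespace Groth.Agent.S10681

/-- For a morphism f : X ⟶ Y between algebraic spaces over S and a geometric point ȳ of Y (an
algebraically closed field point), the geometric fibre X_ȳ (pullback in fppf sheaves) has connected
space of points if and only if for every scheme V with a representable etale a : h_V ⟶ Y and every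
point v of V through which ȳ factors, the fibre of X ×_Y V ⟶ V over v (pullback along the residue
field point of v) has connected space of points. -/
theorem result {S : Scheme.{u}} {X Y : AlgSp.Space S} (f : X ⟶ Y) (yb : AlgSp.FieldPt Y.obj) (hyb : yb.IsGeometric)
    (Xyb : AlgSp.Sp S) (fst : Xyb ⟶ X.obj) (snd : Xyb ⟶ (AlgSp.yon S).obj yb.pt) (h : IsPullback fst snd f.hom yb.toHom) :
    ConnectedSpace (AlgSp.Points Xyb) ↔
      ∀ (V : Over S) (a : (AlgSp.yon S).obj V ⟶ Y.obj), AlgSp.RepWith @Etale a →
        ∀ (v : ↥V.left) (c : yb.pt ⟶ V), (AlgSp.yon S).map c ≫ a = yb.toHom → c.left (IsLocalRing.closedPoint yb.K) = v →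
          ∀ (Xv : AlgSp.Sp S) (fst' : Xv ⟶ X.obj)
            (snd' : Xv ⟶ (AlgSp.yon S).obj (Over.mk (V.left.fromSpecResidueField v ≫ V.hom))),
            IsPullback fst' snd' f.hom ((AlgSp.yon S).map (Over.homMk (V.left.fromSpecResidueField v) rfl :
              Over.mk (V.left.fromSpecResidueField v ≫ V.hom) ⟶ V) ≫ a) →
            ConnectedSpace (AlgSp.Points Xv) := by
  haveI : IsAlgClosed yb.K := hyb
  refine ⟨fun hc V a _ v c hca hcv Xv fst' snd' hv => ?_, fun H => ?_⟩
  · subst hcv
    let cl : Spec (CommRingCat.of yb.K) ⟶ V.left := c.left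
    let dR : V.left.residueField (c.left (IsLocalRing.closedPoint yb.K)) ⟶ CommRingCat.of yb.K :=
      (Scheme.descResidueField (Scheme.stalkClosedPointTo cl) :
        V.left.residueField (cl (IsLocalRing.closedPoint yb.K)) ⟶ CommRingCat.of yb.K)
    have e₁ : Spec.map dR ≫
        V.left.fromSpecResidueField (c.left (IsLocalRing.closedPoint yb.K)) = c.left :=
      Scheme.descResidueField_stalkClosedPointTo_fromSpecResidueField yb.K V.left cl
    let w : yb.pt ⟶ Over.mk (V.left.fromSpecResidueField (c.left (IsLocalRing.closedPoint yb.K)) ≫ V.hom) :=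
      Over.homMk (Spec.map dR) (by
        show Spec.map _ ≫ V.left.fromSpecResidueField _ ≫ V.hom = yb.str
        rw [← Category.assoc]
        exact (congrArg (· ≫ V.hom) e₁).trans (Over.w c))
    have hw : (yon S).map w ≫ (yon S).map (Over.homMk (V.left.fromSpecResidueField _) rfl :
        Over.mk (V.left.fromSpecResidueField (c.left (IsLocalRing.closedPoint yb.K)) ≫ V.hom) ⟶ V) ≫ a = yb.toHom := by
      rw [← Functor.map_comp_assoc, ← hca]
      exact congrArg (fun t => (yon S).map t ≫ a) (Over.OverMorphism.ext ((Over.comp_left _ _ _ _ _).trans e₁))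
    let m := hv.lift fst (snd ≫ (yon S).map w) (by rw [h.w, Category.assoc, hw])
    have sm : IsPullback m snd snd' ((yon S).map w) := by
      refine IsPullback.of_right ?_ (hv.lift_snd _ _ _) hv
      rw [hv.lift_fst, hw]
      exact h
    exact Groth.Agent.AlgSpC7.ConnExt.connectedSpace_of_bc
      (k := V.left.residueField (c.left (IsLocalRing.closedPoint yb.K))) sm
  · exact Groth.Agent.AlgSpC7.ConnEtale.connectedSpace_of_etale_nbhds f yb h H

end Groth.Agent.S10681
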