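import Groth.Statements.S10695
import Groth.Agent.AlgSpC7.ElemSq

set_option autoImplicit false
universe u
open CategoryTheory CategoryTheory.Limits AlgebraicGeometry
open AlgSp

namespace Groth.Agent.S10695

/-- Suppose `(U ⊂ W, f : V → W)`, a square of algebraic spaces over `S`, is elementary distinguished
(`j` an open immersion, `f` etale and an isomorphism over the reduced closed complement of `U`) and
let `P` with its two projections be a fibre product `U ×_W V`. Then `W` is the pushout of `U` and
`V` along `P` among algebraic spaces over `S`. -/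
theorem result {S : Scheme.{u}} {U V W P : AlgSp.Space S} (j : U ⟶ W) (f : V ⟶ W)
    (hsq : AlgSp.IsElemDistSq j.hom f.hom) (p : P ⟶ U) (q : P ⟶ V)
    (hP : IsPullback p.hom q.hom j.hom f.hom) : IsPushout p q j f := by
  have hw : p ≫ j = q ≫ f := InducedCategory.hom_ext hP.w
  have key : ∀ s : PushoutCocone p q, ∃! m : W ⟶ s.pt, j ≫ m = s.inl ∧ f ≫ m = s.inr := fun s => by
    obtain ⟨m, ⟨h1, h2⟩, hu⟩ := Groth.Agent.AlgSpC7.ElemSq.existsUnique_desc (Z := s.pt.obj) (a := s.inl.hom)
      (b := s.inr.hom) V.property hsq hP (congrArg InducedCategory.Hom.hom s.condition)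
    exact ⟨InducedCategory.homMk m, ⟨InducedCategory.hom_ext h1, InducedCategory.hom_ext h2⟩, fun m' hm' =>
      InducedCategory.hom_ext (hu m'.hom ⟨congrArg InducedCategory.Hom.hom hm'.1, congrArg InducedCategory.Hom.hom hm'.2⟩)⟩
  choose m hm hu using key
  exact ⟨⟨hw⟩, ⟨PushoutCocone.IsColimit.mk hw (fun s => m s) (fun s => (hm s).1) (fun s => (hm s).2)
    (fun s m' h1 h2 => hu s m' ⟨h1, h2⟩)⟩⟩

end Groth.Agent.S10695
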