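import Groth.Statements.S10705
import Groth.Agent.AlgSpC7.GlueCover

set_option autoImplicit false
universe u
open CategoryTheory CategoryTheory.Limits AlgebraicGeometry
open AlgSp

namespace Groth.Agent.S10705

/-- Let `f : Y → X` be a quasi-compact quasi-separated morphism of algebraic spaces over `S`, `i : Z →
X` a closed immersion of finite presentation such that `f⁻¹Z → Z` is an isomorphism and `f` is flat
at every point of `|f⁻¹Z|`, and let `U ⊂ X` be the open subspace complementary to `Z`. Let `a : X₁ →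
X₂` be a morphism of algebraic spaces over `X`. If the base change of `a` to `U` and the base change
of `a` to `Y` are isomorphisms, then `a` is an isomorphism: the formal glueing functor reflects
isomorphisms. -/
theorem result {S : Scheme.{u}} {X Y Z FZ U : AlgSp.Space S} (f : Y ⟶ X)
    (hqc : AlgSp.IsQuasiCompactMor f.hom) (hqs : AlgSp.IsQuasiSeparatedMor f.hom) (i : Z ⟶ X)
    (hi : AlgSp.RepWith @IsClosedImmersion i.hom) (hifp : AlgSp.LocP @LocallyOfFinitePresentation i.hom)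
    (iY : FZ ⟶ Y) (fZ : FZ ⟶ Z) (hFZ : IsPullback iY.hom fZ.hom f.hom i.hom) [IsIso fZ]
    (hflat : ∀ y ∈ Set.range (AlgSp.Points.map iY.hom), AlgSp.IsFlatAtMor f.hom y) (j : U ⟶ X)
    (hj : AlgSp.RepWith @IsOpenImmersion j.hom)
    (hU : Set.range (AlgSp.Points.map j.hom) = (Set.range (AlgSp.Points.map i.hom))ᶜ)
    {X₁ X₂ QU QU₁ QY QY₁ : AlgSp.Space S} (p₂ : X₂ ⟶ X) (a : X₁ ⟶ X₂)
    (qU : QU ⟶ X₂) (rU : QU ⟶ U) (hQU : IsPullback qU.hom rU.hom p₂.hom j.hom) (aU : QU₁ ⟶ QU)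
    (bU : QU₁ ⟶ X₁) (hQU₁ : IsPullback bU.hom aU.hom a.hom qU.hom) [IsIso aU] (qY : QY ⟶ X₂) (rY : QY ⟶ Y)
    (hQY : IsPullback qY.hom rY.hom p₂.hom f.hom) (aY : QY₁ ⟶ QY) (bY : QY₁ ⟶ X₁)
    (hQY₁ : IsPullback bY.hom aY.hom a.hom qY.hom) [IsIso aY] : IsIso a := by
  obtain ⟨ι, T, t, hcov, hl⟩ := Groth.Agent.AlgSpC7.GlueCover.exists_cover f hqc i hi hifp iY fZ hFZ hflat j hj hU
  let X₂k : ι → AlgSp.Sp S := fun k => pullback p₂.hom (t k)
  have hX₂k : ∀ k, AlgSp.IsAlgSpace (X₂k k) := fun k =>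
    Groth.Agent.AlgSpLib.isAlgSpace_pullback X₂.property (AlgSp.IsAlgSpace.yon_obj _) X.property _ _
  have hcov₂ : AlgSp.IsFpqcCover X₂k (fun k => pullback.fst p₂.hom (t k)) :=
    Groth.Agent.AlgSpLib.isFpqcCover_of_isPullback (p := fun k => pullback.snd p₂.hom (t k)) X.property X₂.property
      (fun k => AlgSp.IsAlgSpace.yon_obj _) (fun k => IsPullback.of_hasPullback p₂.hom (t k)) hcov
  have hiso : IsIso a.hom := by
    refine Groth.Agent.AlgSpLib.isIso_of_fpqc (q := fun k => pullback.fst a.hom (pullback.fst p₂.hom (t k)))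
      (p := fun k => pullback.snd a.hom (pullback.fst p₂.hom (t k))) X₁.property X₂.property hX₂k
      (fun k => Groth.Agent.AlgSpLib.isAlgSpace_pullback X₁.property (hX₂k k) X₂.property _ _) hcov₂
      (fun k => IsPullback.of_hasPullback _ _) fun k => ?_
    -- a piece over `X` factors through `U` or through `Y`
    have key : ∀ {Q Q₁ : AlgSp.Space S} {B : AlgSp.Space S} {b : B ⟶ X} {q : Q ⟶ X₂} {r : Q ⟶ B}
        {aQ : Q₁ ⟶ Q} {bQ : Q₁ ⟶ X₁}, IsPullback q.hom r.hom p₂.hom b.hom → IsPullback bQ.hom aQ.hom a.hom q.hom →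
        IsIso aQ → ∀ l : (AlgSp.yon S).obj (T k) ⟶ B.obj, l ≫ b.hom = t k →
        IsIso (pullback.snd a.hom (pullback.fst p₂.hom (t k))) := by
      intro Q Q₁ B b q r aQ bQ hQ hQ₁ haQ l hlb
      let m : X₂k k ⟶ Q.obj := hQ.lift (pullback.fst p₂.hom (t k)) (pullback.snd p₂.hom (t k) ≫ l)
        (by rw [Category.assoc, hlb, pullback.condition])
      have hm : m ≫ q.hom = pullback.fst p₂.hom (t k) := hQ.lift_fst _ _ _
      haveI : IsIso aQ.hom := by
        exact (inferInstance : IsIso ((ObjectProperty.ι _).map aQ))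
      have sqQ := (IsPullback.of_hasPullback aQ.hom m).paste_horiz hQ₁ |> fun h => h
      have sq' : IsPullback (pullback.fst aQ.hom m ≫ bQ.hom) (pullback.snd aQ.hom m) a.hom
          (pullback.fst p₂.hom (t k)) := hm ▸ sqQ
      rw [← sq'.isoPullback_inv_snd]
      infer_instance
    rcases hl k with ⟨l, hl⟩ | ⟨l, hl⟩
    · exact key hQU hQU₁ inferInstance l hl
    · exact key hQY hQY₁ inferInstance l hl
  haveI : IsIso ((ObjectProperty.ι _).map a) := hiso
  exact isIso_of_fully_faithful (ObjectProperty.ι _) a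

end Groth.Agent.S10705
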