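import Groth.Statements.S10766
import Groth.Agent.AlgSpQ4.Induction
import Groth.Agent.AlgSpDec.LimAffineStage

set_option autoImplicit false
universe u
open CategoryTheory CategoryTheory.Limits AlgebraicGeometry
open AlgSp Groth.Agent

namespace Groth.Agent.S10766

/-- Let X be a quasi-compact and quasi-separated algebraic space over S and P a property of the objects
of the site of algebraic spaces etale over X. Assume (1) P holds for every object whose underlying
space is isomorphic to an affine scheme, and (2) for every elementary distinguished square (U ⊂ W, V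
⟶ W) of objects, with W quasi-compact and quasi-separated, U quasi-compact, V affine and any fibre
product U ×_W V, whenever P is true of U, V and U ×_W V it is true of W. The conclusion is that
every quasi-compact and quasi-separated object, X itself included, has property P.
Quasi-separatedness is taken relative to S with S quasi-separated, so that it agrees with the
absolute notion. -/
theorem result {S : Scheme.{u}} [QuasiSeparatedSpace ↥S] (X : AlgSp.Space S)
    (hXc : AlgSp.IsQuasiCompactSp X.obj) (hXs : AlgSp.IsQuasiSeparatedSp X.obj)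
    (P : AlgSp.EtSpOver X → Prop)
    (h1 : ∀ (W : AlgSp.EtSpOver X) (T : Over S), IsAffine T.left →
      Nonempty ((AlgSp.yon S).obj T ≅ W.obj.left.obj) → P W)
    (h2 : ∀ (W U V UV : AlgSp.EtSpOver X) (j : U ⟶ W) (f : V ⟶ W) (p : UV ⟶ U) (q : UV ⟶ V),
      AlgSp.IsQuasiCompactSp W.obj.left.obj → AlgSp.IsQuasiSeparatedSp W.obj.left.obj →
      AlgSp.IsQuasiCompactSp U.obj.left.obj →
      (∃ T : Over S, IsAffine T.left ∧ Nonempty ((AlgSp.yon S).obj T ≅ V.obj.left.obj)) →
      AlgSp.IsElemDistSq j.hom.left.hom f.hom.left.hom →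
      IsPullback p.hom.left.hom q.hom.left.hom j.hom.left.hom f.hom.left.hom →
      P U → P V → P UV → P W) :
    ∀ W : AlgSp.EtSpOver X, AlgSp.IsQuasiCompactSp W.obj.left.obj → AlgSp.IsQuasiSeparatedSp W.obj.left.obj → P W := by
  intro W hWc hWs
  refine AlgSpQ4.induction_principle (B := fun W => AlgSp.IsQuasiCompactSp W.obj.left.obj ∧
    AlgSp.IsQuasiSeparatedSp W.obj.left.obj) (fun _ h => h) ?_ ?_
    (fun W U V UV j f p q hB hU hV hsq hpb hPU hPV hPUV => h2 W U V UV j f p q hB.1 hB.2 hU hV hsq hpb hPU hPV hPUV) W ⟨hWc, hWs⟩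
  · intro W U j hW hj hU
    refine ⟨hU, ?_⟩
    rw [AlgSpPts.isQuasiSeparatedSp_iff_mor]
    rw [(AlgSpPts.isTerminalYon S).hom_ext ((AlgSpPts.isTerminalYon S).from U.obj.left.obj)
      (j.hom.left.hom ≫ (AlgSpPts.isTerminalYon S).from W.obj.left.obj)]
    exact AlgSpPts.isQuasiSeparatedMor_comp
      (AlgSpLib.repWith_mono (fun _ _ g (_ : IsClosedImmersion g) => (inferInstance : QuasiCompact g)) _
        (AlgSpLib.repWith_diagonal hj fun g (_ : IsOpenImmersion g) => (inferInstance : IsClosedImmersion (pullback.diagonal g))))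
      ((AlgSpPts.isQuasiSeparatedSp_iff_mor _).1 hW.2)
  · intro V T hT hV
    obtain ⟨e⟩ := hV
    refine ⟨⟨?_, ?_⟩, h1 V T hT ⟨e⟩⟩
    · rw [AlgSpPts.isQuasiCompactSp_iff V.obj.left.property]
      have : CompactSpace (AlgSp.Points ((AlgSp.yon S).obj T)) := (AlgSp.Points.schemeHomeo T).compactSpace
      exact ⟨(Set.range_eq_univ (f := AlgSp.Points.map e.hom)).2 (fun v => ⟨AlgSp.Points.map e.inv v, by
        rw [← AlgSp.Points.map_comp, e.inv_hom_id, AlgSp.Points.map_id]⟩) ▸
        isCompact_range (AlgSp.Points.continuous_map e.hom)⟩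
    · refine AlgSpDec.isQuasiSeparatedSp_of_affine e.inv (AlgSpLib.repWith_of_isIso _ _) ?_
      rw [AlgSpDec.isQuasiSeparatedSp_yon_iff']
      infer_instance

end Groth.Agent.S10766
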