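import Groth.Statements.S10768
import Groth.Agent.AlgSpQ4.Induction

set_option autoImplicit false
universe u
open CategoryTheory CategoryTheory.Limits AlgebraicGeometry
open AlgSp Groth.Agent

namespace Groth.Agent.S10768

/-- Let X be a quasi-compact and quasi-separated algebraic space over S, W ⊂ X a quasi-compact open
subspace, and P a property of open subspaces of X (pairs of an algebraic space and a representable
open immersion into X). Assume (1) W has property P, and (2) given any elementary distinguished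
square (W₁ ⊂ W₂, V ⟶ W₂) where W₁ ⊂ W₂ are quasi-compact open subspaces of X containing W and V is
affine, P for W₁ implies P for W₂. Then P holds for X (with its identity). Quasi-separatedness is
relative to S with S quasi-separated. -/
theorem result {S : Scheme.{u}} [QuasiSeparatedSpace ↥S] (X : AlgSp.Space S)
    (hXc : AlgSp.IsQuasiCompactSp X.obj) (hXs : AlgSp.IsQuasiSeparatedSp X.obj)
    (P : ∀ U : AlgSp.Space S, (U ⟶ X) → Prop)
    (W : AlgSp.Space S) (jW : W ⟶ X) (hjW : AlgSp.RepWith @IsOpenImmersion jW.hom)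
    (hWc : AlgSp.IsQuasiCompactSp W.obj) (h1 : P W jW)
    (h2 : ∀ (W₁ W₂ V : AlgSp.Space S) (j₁ : W₁ ⟶ X) (j₂ : W₂ ⟶ X) (k : W₁ ⟶ W₂) (m : W ⟶ W₁) (f : V ⟶ W₂),
      AlgSp.RepWith @IsOpenImmersion j₁.hom → AlgSp.RepWith @IsOpenImmersion j₂.hom →
      k ≫ j₂ = j₁ → m ≫ j₁ = jW →
      AlgSp.IsQuasiCompactSp W₁.obj → AlgSp.IsQuasiCompactSp W₂.obj →
      (∃ T : Over S, IsAffine T.left ∧ Nonempty ((AlgSp.yon S).obj T ≅ V.obj)) →
      AlgSp.IsElemDistSq k.hom f.hom → P W₁ j₁ → P W₂ j₂) :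
    P X (𝟙 X) := by
  classical
  have hXA := X.property
  let P' : Set (AlgSp.Points X.obj) → Prop := fun Q => ∃ (W₁ : AlgSp.Space S) (j₁ : W₁ ⟶ X) (m : W ⟶ W₁),
    AlgSp.RepWith @IsOpenImmersion j₁.hom ∧ AlgSp.IsQuasiCompactSp W₁.obj ∧ m ≫ j₁ = jW ∧
      Set.range (AlgSp.Points.map j₁.hom) = Q ∧ P W₁ j₁
  obtain ⟨W₁, j₁, m, hj₁, hc₁, hm, hr, hP₁⟩ := AlgSpQ4.points_induction hXA hXc hXs P' _
    (AlgSpDec.isOpen_range_openImm hXA hjW) (by
      have := (AlgSpPts.isQuasiCompactSp_iff W.property).1 hWc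
      exact isCompact_range (AlgSp.Points.continuous_map jW.hom))
    ⟨W, jW, 𝟙 W, hjW, hWc, Category.id_comp _, rfl, h1⟩ (by
      rintro Q₁ Q₂ V b hQo hQc - hV hb hQ₂ hn ⟨W₁, j₁, m, hj₁, hc₁, hm, hr, hP₁⟩
      have hQ₂o : IsOpen Q₂ := hQ₂ ▸ hQo.union (AlgSpLib.isOpenMap_ofPt hb).isOpen_range
      obtain ⟨F, j, hF, hj, hjr⟩ := AlgSpPts.exists_open_subspace hXA hQ₂o
      let W₂ : AlgSp.Space S := ⟨F, hF⟩
      let j₂ : W₂ ⟶ X := ObjectProperty.homMk j
      obtain ⟨k, hk⟩ := AlgSpQ4.exists_factor_sub hXA hF W₁.property hj j₁.hom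
        (by rw [hr, hjr, hQ₂]; exact Set.subset_union_left)
      obtain ⟨f, hf⟩ := AlgSpQ4.exists_factor_sub hXA hF (AlgSp.IsAlgSpace.yon_obj V) hj b
        (by rw [AlgSpOne.QaOpen.range_map_yon, hjr, hQ₂]; exact Set.subset_union_right)
      have := AlgSpDec.mono_of_openImm hj
      have hkk : AlgSp.RepWith @IsOpenImmersion k := AlgSpQ4.repWith_of_comp_mono k j (hk.symm ▸ hj₁)
      have hc₂ : AlgSp.IsQuasiCompactSp F := by
        refine AlgSpQ4.isQuasiCompactSp_of_range hXA hF hj ?_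
        rw [hjr, hQ₂]
        exact hQc.union (isCompact_range (AlgSp.Points.continuous_ofPt b))
      let k' : W₁ ⟶ W₂ := ObjectProperty.homMk k
      let f' : (⟨_, AlgSp.IsAlgSpace.yon_obj V⟩ : AlgSp.Space S) ⟶ W₂ := ObjectProperty.homMk f
      refine ⟨W₂, j₂, m ≫ k', hj, hc₂, ?_, hjr, h2 W₁ W₂ _ j₁ j₂ k' m f' hj₁ hj ?_ hm hc₁ hc₂
        ⟨V, hV, ⟨Iso.refl _⟩⟩ ?_ hP₁⟩
      · rw [Category.assoc, show k' ≫ j₂ = j₁ from ObjectProperty.hom_ext _ hk, hm]
      · exact ObjectProperty.hom_ext _ hk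
      refine AlgSpQ4.isElemDistSq_of_noDbl hF hkk f (AlgSpQ4.repWith_of_comp_mono f j (hf.symm ▸ hb)) ?_ ?_
      · refine Set.eq_univ_of_forall fun z => ?_
        have hz : AlgSp.Points.map j z ∈ Q₁ ∪ Set.range (AlgSp.Points.ofPt b) := hQ₂ ▸ hjr ▸ ⟨z, rfl⟩
        have hinj := (AlgSpQ4.isEmbedding_map_openImm hXA hj).injective
        rcases hz with h | ⟨v, hv⟩
        · obtain ⟨w, hw⟩ := hr.ge h
          exact .inl ⟨w, hinj (by rw [← hw, ← AlgSp.Points.map_comp, hk])⟩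
        · exact .inr ⟨v, hinj (by rw [AlgSp.Points.map_ofPt, hf, hv])⟩
      · intro T y y' e hy
        refine hn T y y' (by rw [← hf, ← Category.assoc, e, Category.assoc]) fun t ht => hy t ?_
        obtain ⟨w, hw⟩ := hr.ge ht
        refine ⟨w, (AlgSpQ4.isEmbedding_map_openImm hXA hj).injective ?_⟩
        rw [← AlgSp.Points.map_comp, hk, hw, AlgSp.Points.map_ofPt, Category.assoc, hf])
  have : IsIso j₁.hom := AlgSpDec.isIso_of_openImm_surjective hXA hj₁ (Set.range_eq_univ.1 hr)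
  have hid : AlgSp.RepWith @IsOpenImmersion (𝟙 X.obj) := AlgSpLib.repWith_of_isIso _ _
  let A : Over S := Over.mk (Scheme.emptyTo S)
  have : IsEmpty ↥A.left := inferInstanceAs (IsEmpty ↥(∅ : Scheme.{u}))
  obtain ⟨f⟩ := AlgSpDec.nonempty_hom_of_isEmpty X.obj A
  have hfe : AlgSp.RepWith @Etale f := by
    refine AlgSpLib.repWith_mono (P := @IsOpenImmersion) (fun _ _ g (_ : IsOpenImmersion g) => inferInstanceAs (Etale g)) _ ?_
    refine ⟨X.property.representable_from_yon f, fun T P g fst snd sq => ?_⟩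
    obtain ⟨fst, rfl⟩ := (AlgSp.yon S).map_surjective fst
    have : IsEmpty ↥P.left := ⟨fun p => IsEmpty.false (α := ↥A.left) (fst.left p)⟩
    show IsOpenImmersion snd.left
    infer_instance
  refine h2 W₁ X ⟨_, AlgSp.IsAlgSpace.yon_obj A⟩ j₁ (𝟙 X) j₁ m (ObjectProperty.homMk f) hj₁ hid
    (Category.comp_id _) hm hc₁ hXc ⟨A, inferInstanceAs (IsAffine (∅ : Scheme.{u})), ⟨Iso.refl _⟩⟩ ?_ hP₁
  exact AlgSpQ4.isElemDistSq_of_noDbl hXA hj₁ f hfe (by rw [hr, Set.univ_union]) fun T y y' _ _ => by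
    have : IsEmpty ↥T.left := ⟨fun t => IsEmpty.false (α := ↥A.left) (y.left t)⟩
    exact (AlgSp.yon S).map_injective (AlgSpDec.hom_ext_of_isEmpty _ _)

end Groth.Agent.S10768
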