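import Groth.Statements.S10802
import Groth.Agent.AlgSpQ4.FibreNoeth

set_option autoImplicit false
universe u
open CategoryTheory CategoryTheory.Limits AlgebraicGeometry Topology TopologicalSpace
open AlgSp

namespace Groth.Agent.S10802

/-- For algebraic spaces X and Y over a scheme S and a morphism f : X ⟶ Y which is locally of finite
type, every fibre of f over a field-valued point of Y is a locally Noetherian algebraic space: for
every field k and every point p : Spec k ⟶ Y, the fibre X_p = Spec k ×_Y X (any pullback of f along
the morphism of p) admits a representable etale surjective chart from a locally Noetherian scheme. -/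
theorem result {S : Scheme.{u}} (X Y : AlgSp.Space S) (f : X ⟶ Y)
    (hf : AlgSp.LocP @LocallyOfFiniteType f.hom) (p : AlgSp.FieldPt Y.obj)
    {P : AlgSp.Sp S} (fst : P ⟶ X.obj) (snd : P ⟶ (AlgSp.yon S).obj p.pt) (hP : IsPullback fst snd f.hom p.toHom) :
    AlgSp.IsLocNoethSp P := by
  have hP' := AlgSpLib.isAlgSpace_of_isPullback hP X.property (IsAlgSpace.yon_obj p.pt) Y.property
  have h := AlgSpLib.locP_of_isPullback hP X.property Y.property (IsAlgSpace.yon_obj p.pt) hf
  obtain ⟨W, c, hc, hc'⟩ := hP'.atlas
  obtain ⟨k, hk⟩ := (yon S).map_surjective (c ≫ snd)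
  have : LocallyOfFiniteType k.left := h c (𝟙 _) k hc (repWith_id _ _) (by rw [Category.comp_id, hk])
  let k' : W.left ⟶ Spec (CommRingCat.of p.K) := k.left
  have : IsLocallyNoetherian (Spec (CommRingCat.of p.K)) := inferInstance
  exact ⟨W, c, hc, hc', LocallyOfFiniteType.isLocallyNoetherian k'⟩

end Groth.Agent.S10802
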