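import Groth.Statements.S10810
import Groth.Agent.AlgSpQ4.WeakAssBasic

set_option autoImplicit false
universe u
open CategoryTheory CategoryTheory.Limits AlgebraicGeometry Topology TopologicalSpace
open AlgSp

namespace Groth.Agent.S10810

/-- Let X be an algebraic space over a scheme S and F a quasi-coherent O_X-module on the small etale
site of X. Then F = 0 if and only if the set of weakly associated points of F is empty. -/
theorem result {S : Scheme.{u}} (X : AlgSp.Space S)
    (M : AlgSp.ModEt X.obj) [M.IsQuasicoherent] :
    IsZero M ↔ AlgSp.WeakAssEt M = ∅ := by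
  exact ⟨Groth.Agent.AlgSpQ4.weakAssEt_eq_empty_of_isZero M, Groth.Agent.AlgSpQ4.isZero_of_weakAssEt_eq_empty M⟩

end Groth.Agent.S10810
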