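import Groth.Statements.S10844
import Groth.Agent.QCoh.AnnIdeal
import Groth.Agent.QCoh.Support
import Groth.Agent.QCoh.Tilde
import Groth.Agent.LimitsH94.LimMod
import Groth.Agent.KFlatLib.Scheme.Exact
-- import your own Groth.Agent.* helpers here

set_option autoImplicit false
universe u
open RepF

open CategoryTheory.Limits
namespace Groth.Agent.S10844

open AlgebraicGeometry CategoryTheory in
/-- For a scheme S and a homomorphism v : E → F of quasi-coherent O_S-modules with F of finite type,
there is an open subscheme U of S such that a morphism of schemes f : T → S factors through U (its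
image lies in U) if and only if the pulled-back homomorphism f^*v : f^*E → f^*F is an epimorphism. -/
theorem result {S : Scheme.{u}} {E F : S.Modules}
    [Coh.IsQCoh E] [Coh.IsQCoh F] (hF : CohB1.IsFT F) (v : E ⟶ F) :
    ∃ U : S.Opens, ∀ (T : Scheme.{u}) (f : T ⟶ S),
      Set.range f.base ⊆ (U : Set S) ↔ Epi ((Scheme.Modules.pullback f).map v) := by
  classical
  have hE : Coh.IsQCoh E := inferInstance
  have hF' : Coh.IsQCoh F := inferInstance
  have hq : Coh.IsQCoh (cokernel v) := Groth.Agent.QCoh.isQCoh_cokernel hE hF' v
  have hft : CohB1.IsFT (cokernel v) := Groth.Agent.LimitsH94.LM.isFT_cokernel hE hF' hF v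
  refine ⟨⟨(CohB1.support (cokernel v))ᶜ, (Groth.Agent.QCoh.isClosed_support_of_isFT hq hft).isOpen_compl⟩, fun T f => ?_⟩
  haveI : (Scheme.Modules.pullback f).PreservesZeroMorphisms := inferInstance
  rw [Preadditive.epi_iff_isZero_cokernel, ← (PreservesCokernel.iso (Scheme.Modules.pullback f) v).isZero_iff]
  have key : IsZero ((Scheme.Modules.pullback f).obj (cokernel v)) ↔
      ∀ t, t ∉ CohB1.support ((Scheme.Modules.pullback f).obj (cokernel v)) := by
    refine ⟨fun h t ht => ht ?_, fun h => Groth.Agent.KFlatLib.isZero_of_stalk _ fun t => ?_⟩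
    · exact ModuleCat.subsingleton_of_isZero (Functor.map_isZero (DerSch.stalkFunctor T t) h)
    · haveI : Subsingleton ((DerSch.stalkFunctor T t).obj ((Scheme.Modules.pullback f).obj (cokernel v))) :=
        not_not.1 (h t)
      exact ModuleCat.isZero_of_subsingleton _
  rw [key, Groth.Agent.QCoh.support_pullback f hq hft]
  exact ⟨fun h t => h ⟨t, rfl⟩, fun h x hx => by obtain ⟨t, rfl⟩ := hx; exact h t⟩

end Groth.Agent.S10844
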