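import Groth.Statements.S10847
import Groth.Agent.FittX.Sheaf

set_option autoImplicit false
universe u
open FlatMod

namespace Groth.Agent.S10847

open AlgebraicGeometry CategoryTheory in
/-- Let X be a scheme, F a finite-type quasi-coherent O_X-module and r a natural number. Then there is
an immersion i : Z → X (a subscheme of X) such that a morphism of schemes f : T → X factors through
i if and only if the pullback f^*F is finite locally free of rank r. -/
theorem result {X : Scheme.{u}} (F : X.Modules)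
    [Coh.IsQCoh F] (hF : CohB1.IsFT F) (r : ℕ) :
    ∃ (Z : Scheme.{u}) (i : Z ⟶ X), IsImmersion i ∧ ∀ (T : Scheme.{u}) (f : T ⟶ X),
      (∃ g : T ⟶ Z, g ≫ i = f) ↔ FlatMod.IsFinLocFreeOfRank r ((Scheme.Modules.pullback f).obj F) := by
  classical
  have hM : Coh.IsQCoh F := inferInstance
  let J : X.IdealSheafData := (Finset.range r).sup fun k => Fitt.sheafIdeal F k
  let W : X.Opens := ⟨((Fitt.sheafIdeal F r).support : Set X)ᶜ, (Fitt.sheafIdeal F r).support.isClosed.isOpen_compl⟩
  have hmono : ∀ k, r ≤ k → Fitt.sheafIdeal F r ≤ Fitt.sheafIdeal F k := fun k hk U => by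
    rw [Groth.Agent.FittX.sheafIdeal_ideal hM hF, Groth.Agent.FittX.sheafIdeal_ideal hM hF]
    haveI := Groth.Agent.QCoh.finite_of_isFT hM hF U.2
    exact Groth.Agent.FittX.ideal_mono hk
  refine ⟨(J.comap W.ι).subscheme, (J.comap W.ι).subschemeι ≫ W.ι, inferInstance, fun T f => ?_⟩
  rw [Groth.Agent.FittX.isFinLocFreeOfRank_iff (Groth.Agent.QCoh.isQCoh_pullback f hM)
    (Groth.Agent.FittX.isFT_pullback f hM hF)]
  simp only [← Groth.Agent.FittX.sheafIdeal_comap f hM hF]
  have hlow : (∀ k, k < r → (Fitt.sheafIdeal F k).comap f = ⊥) ↔ J.comap f = ⊥ := by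
    simp only [eq_bot_iff, ← Scheme.IdealSheafData.le_map_iff_comap_le, J, Finset.sup_le_iff, Finset.mem_range]
  have hhigh : (∀ k, r ≤ k → (Fitt.sheafIdeal F k).comap f = ⊤) ↔ Set.range f.base ⊆ (W : Set X) := by
    constructor
    · rintro h _ ⟨t, rfl⟩ ht
      have h1 : t ∈ ((Fitt.sheafIdeal F r).comap f).support := by
        rw [Scheme.IdealSheafData.support_comap]; exact ht
      rw [h r le_rfl, Scheme.IdealSheafData.support_top] at h1
      exact h1
    · intro h k hk
      refine top_le_iff.1 (le_trans ?_ (Scheme.IdealSheafData.comap_mono f (hmono k hk)))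
      rw [top_le_iff, ← Scheme.IdealSheafData.support_eq_bot_iff, Scheme.IdealSheafData.support_comap]
      exact TopologicalSpace.Closeds.ext (Set.eq_empty_iff_forall_notMem.2 fun t ht => h ⟨t, rfl⟩ ht)
  rw [hlow, hhigh]
  constructor
  · rintro ⟨g, rfl⟩
    refine ⟨?_, ?_⟩
    · rw [Scheme.IdealSheafData.comap_comp, Scheme.IdealSheafData.comap_comp, eq_bot_iff,
        ← Scheme.IdealSheafData.le_map_iff_comap_le, ← Scheme.IdealSheafData.le_map_iff_comap_le,
        Scheme.IdealSheafData.map_bot]
      refine le_trans (le_of_eq ?_) (Scheme.IdealSheafData.map_mono _ bot_le)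
      simp only [Scheme.IdealSheafData.map_bot, Scheme.IdealSheafData.ker_subschemeι]
    · rintro _ ⟨t, rfl⟩
      exact ((g ≫ (J.comap W.ι).subschemeι).base t).2
  · rintro ⟨hJ, hW⟩
    have hf : IsOpenImmersion.lift W.ι f (by rwa [Scheme.Opens.range_ι]) ≫ W.ι = f :=
      IsOpenImmersion.lift_fac _ _ _
    rw [← hf, Scheme.IdealSheafData.comap_comp, eq_bot_iff,
      ← Scheme.IdealSheafData.le_map_iff_comap_le, Scheme.IdealSheafData.map_bot] at hJ
    refine ⟨IsClosedImmersion.lift (J.comap W.ι).subschemeι _ (by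
      rw [Scheme.IdealSheafData.ker_subschemeι]; exact hJ), ?_⟩
    rw [IsClosedImmersion.lift_fac_assoc, hf]

end Groth.Agent.S10847
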