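import Groth.Statements.S10882
import Groth.Agent.FlatFun4.FlatDimField
import Groth.Agent.DimFormula.Criteria
import Groth.Agent.S2082
import Groth.Agent.FlatDvr.FibreStalk
-- import your own Groth.Agent.* helpers here

set_option autoImplicit false
set_option linter.style.haveILetI false
set_option backward.isDefEq.respectTransparency false
set_option backward.isDefEq.respectTransparency.types false
universe u
open CategoryTheory AlgebraicGeometry
open FlatMor

namespace Groth.Agent.S10882

/-- Let X and Y be schemes locally of finite type over a field k and f : X → Y a k-morphism, with Y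
regular (all local rings regular), X Cohen–Macaulay (all local rings Cohen–Macaulay), X
equidimensional of dimension e, Y equidimensional of dimension d ≤ e, and all fibres of f
equidimensional of dimension e − d (every irreducible component of every fibre has dimension e − d).
Then f is flat. -/
theorem result (k : Type u) [Field k] {X Y : Scheme.{u}}
    (q : Y ⟶ Spec (CommRingCat.of k)) [LocallyOfFiniteType q] (f : X ⟶ Y) [LocallyOfFiniteType (f ≫ q)]
    (hY : ∀ y : Y, IsRegularLocalRing (Y.presheaf.stalk y))
    (hX : ∀ x : X, LocCoh.IsCohenMacaulayLocalRing (X.presheaf.stalk x))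
    (e d : ℕ) (hde : d ≤ e)
    (hXe : ∀ Z ∈ irreducibleComponents (X : Type u), topologicalKrullDim Z = e)
    (hYd : ∀ Z ∈ irreducibleComponents (Y : Type u), topologicalKrullDim Z = d)
    (hfib : ∀ y : Y, ∀ Z ∈ irreducibleComponents (f.base ⁻¹' {y}), topologicalKrullDim Z = (e - d : ℕ)) :
    Flat f := by
  haveI := FibDim.subsingleton_spec_field k
  haveI : LocallyOfFiniteType f := locallyOfFiniteType_of_comp f q
  haveI : IsLocallyNoetherian Y := LocallyOfFiniteType.isLocallyNoetherian q
  haveI : IsLocallyNoetherian X := LocallyOfFiniteType.isLocallyNoetherian (f ≫ q)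
  have hXe' := (FlatFun4.FlatDimField.components_iff (f ≫ q) e).1 hXe
  have hYd' := (FlatFun4.FlatDimField.components_iff q d).1 hYd
  refine Flat.of_stalkMap f fun x => ?_
  haveI := hY (f x)
  haveI := hX x
  letI := (f.stalkMap x).hom.toAlgebra
  haveI : IsLocalHom (algebraMap (Y.presheaf.stalk (f x)) (X.presheaf.stalk x)) :=
    inferInstanceAs (IsLocalHom (f.stalkMap x).hom)
  show Module.Flat (Y.presheaf.stalk (f x)) (X.presheaf.stalk x)
  refine S2082.result ?_
  -- the fibre
  obtain ⟨z, hz, hfz, hzm, -, hrd⟩ := DimFormula.exists_fibMax_top f x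
  have hfibdim : FibDim.rd f z = e - d := by
    haveI : QuasiSober ↥(f.base ⁻¹' {f x}) := (f.fiberHomeo (f x)).symm.isClosedEmbedding.quasiSober
    let zz : ↥(f.base ⁻¹' {f x}) := ⟨z, hfz⟩
    obtain ⟨ξ, hξ⟩ := QuasiSober.sober (isIrreducible_irreducibleComponent (x := zz)) isClosed_irreducibleComponent
    have hξz : ξ.1 ⤳ z := ((subtype_specializes_iff _ _).1 (hξ.specializes mem_irreducibleComponent))
    have e1 : ξ = zz := Subtype.ext (hzm _ hξz ((show f ξ.1 = f x from ξ.2).trans hfz.symm))
    have h1 := hfib (f x) _ (irreducibleComponent_mem_irreducibleComponents zz)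
    rw [← (Homeomorph.setCongr hξ.def).isHomeomorph.topologicalKrullDim_eq, e1,
      (Topology.IsEmbedding.subtypeVal.homeomorphImage _).isHomeomorph.topologicalKrullDim_eq,
      (Homeomorph.setCongr (show Subtype.val '' closure ({zz} : Set ↥(f.base ⁻¹' {f x})) = closure {z} ∩ f ⁻¹' {f z} by
        rw [Topology.IsEmbedding.subtypeVal.closure_eq_preimage_closure_image, Set.image_preimage_eq_inter_range,
          Set.image_singleton, Subtype.range_coe, hfz])).isHomeomorph.topologicalKrullDim_eq, FibDim.dim_closure_inter] at h1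
    exact Nat.cast_inj.mp (WithBot.coe_inj.mp h1)
  obtain ⟨η, hη, hηm, hcdX⟩ := DimFormula.exists_maximal_cd_eq_codim x
  obtain ⟨ξ, hξ, hξm, hcdY⟩ := DimFormula.exists_maximal_cd_eq_codim (f x)
  have h1 := DimFormula.cd_add_rd_of_fibre (f ≫ q) hη (Subsingleton.elim _ _)
  rw [hXe' η hηm, hcdX, FibDim.rd_comp] at h1
  have h2 := DimFormula.cd_add_rd_of_fibre q hξ (Subsingleton.elim _ _)
  rw [hYd' ξ hξm, hcdY] at h2
  have key : DimFormula.codim x = DimFormula.codim (f x) + DimFormula.fb f x := by omega
  rw [(DimFormula.formula_iff f x).2 key]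
  congr 1
  have hw : f.fiberι (f x) (f.asFiber x) = x := f.fiberι_asFiber x
  let w := f.asFiber x
  let π : X.presheaf.stalk x →+* (f.fiber (f x)).presheaf.stalk w :=
    ((X.presheaf.stalkCongr (.of_eq hw)).inv ≫ (f.fiberι (f x)).stalkMap w).hom
  have key2 : ∀ (a : X) (e : f.fiberι (f x) w = a),
      let π : X.presheaf.stalk a →+* (f.fiber (f x)).presheaf.stalk w :=
        ((X.presheaf.stalkCongr (.of_eq e)).inv ≫ (f.fiberι (f x)).stalkMap w).hom
      Function.Surjective π ∧ RingHom.ker π = (IsLocalRing.maximalIdeal (Y.presheaf.stalk (f a))).map (f.stalkMap a).hom := by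
    rintro _ rfl
    rw [show (X.presheaf.stalkCongr (.of_eq (rfl : f.fiberι (f x) w = f.fiberι (f x) w))).inv = 𝟙 _ from by
      simp [TopCat.Presheaf.stalkCongr], Category.id_comp]
    exact ⟨(f.fiberι (f x)).stalkMap_surjective w, FlatDvr.ker_stalkMap_fiberι f w⟩
  obtain ⟨hs, hk⟩ := key2 x hw
  exact (ringKrullDim_eq_of_ringEquiv ((Ideal.quotEquivOfEq hk.symm).trans (RingHom.quotientKerEquivOfSurjective hs))).symm

end Groth.Agent.S10882
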