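import Groth.Statements.S10888
import Groth.Agent.FlatMisc.Fibrewise

set_option linter.style.haveILetI false
set_option backward.isDefEq.respectTransparency false
set_option backward.isDefEq.respectTransparency.types false
open CategoryTheory.Limits
-- import your own Groth.Agent.* helpers here

set_option autoImplicit false
universe u
open CategoryTheory AlgebraicGeometry
open FlatMor

namespace Groth.Agent.S10888

theorem exists_nhd_smooth_surjective {X Y S : Scheme.{u}} (h : Y ⟶ S) (f : X ⟶ Y)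
    [UniversallyClosed h] [UniversallyClosed (f ≫ h)] [LocallyOfFiniteType h]
    [LocallyOfFinitePresentation (f ≫ h)] [Flat (f ≫ h)] [LocallyOfFinitePresentation f]
    (s₀ : S) [IsIso (pullback.snd f (h.fiberι s₀))] :
    ∃ V : S.Opens, s₀ ∈ V ∧ (∀ x : X, h (f x) ∈ V → x ∈ f.smoothLocus) ∧
      ∀ y : Y, h y ∈ V → y ∈ Set.range f := by
  have hsm : ∀ x : X, h (f x) = s₀ → x ∈ f.smoothLocus := by
    intro x hx
    refine FlatMisc.smooth_stalk_of_smooth_fibre h f x (Flat.stalkMap _ _) ?_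
    rw [hx]
    infer_instance
  haveI : Smooth (f.smoothLocus.ι ≫ f) := by
    haveI : LocallyOfFinitePresentation (f.smoothLocus.ι ≫ f) := inferInstance
    rw [← Scheme.Hom.smoothLocus_eq_top_iff, ← Scheme.Hom.preimage_smoothLocus_eq, eq_top_iff]
    exact fun x _ => x.2
  have hO : IsOpen (f '' (f.smoothLocus : Set X)) := by
    have e : f '' (f.smoothLocus : Set X) = Set.range (f.smoothLocus.ι ≫ f) := by
      rw [Scheme.Hom.comp_base, TopCat.coe_comp, Set.range_comp, Scheme.Opens.range_ι]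
    rw [e]
    exact (f.smoothLocus.ι ≫ f).isOpenMap.isOpen_range
  let C₁ : Set S := (f ≫ h) '' (f.smoothLocus : Set X)ᶜ
  let C₂ : Set S := h '' (f '' (f.smoothLocus : Set X))ᶜ
  have hC₁ : IsClosed C₁ := (f ≫ h).isClosedMap _ f.smoothLocus.2.isClosed_compl
  have hC₂ : IsClosed C₂ := h.isClosedMap _ hO.isClosed_compl
  refine ⟨⟨(C₁ ∪ C₂)ᶜ, (hC₁.union hC₂).isOpen_compl⟩, ?_, ?_, ?_⟩
  · rintro (⟨x, hx, hxs⟩ | ⟨y, hy, hys⟩)
    · exact hx (hsm x (by rwa [Scheme.Hom.comp_apply] at hxs))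
    · obtain ⟨y', hy'⟩ := FlatMisc.mem_range_fiberι h s₀ y hys
      obtain ⟨w, hw⟩ := (pullback.snd f (h.fiberι s₀)).surjective y'
      have he : f (pullback.fst f (h.fiberι s₀) w) = y := by
        rw [← Scheme.Hom.comp_apply, pullback.condition, Scheme.Hom.comp_apply, hw, hy']
      exact hy ⟨_, hsm _ (by rw [he]; exact hys), he⟩
  · intro x hx
    by_contra hn
    exact hx (Or.inl ⟨x, hn, Scheme.Hom.comp_apply _ _ _⟩)
  · intro y hy
    by_contra hn
    exact hy (Or.inr ⟨y, fun ⟨x, _, hxy⟩ => hn ⟨x, hxy⟩, rfl⟩)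

theorem isIso_diagonal_fibre {X Y S : Scheme.{u}} (h : Y ⟶ S) (f : X ⟶ Y) [IsSeparated f]
    (s₀ : S) [IsIso (pullback.snd f (h.fiberι s₀))] :
    IsIso (pullback.snd (pullback.diagonal f) ((pullback.fst f f ≫ f ≫ h).fiberι s₀)) := by
  let q := pullback.fst f f ≫ f ≫ h
  have hF := ConsPropLib.isPullback_fiberMap f h s₀
  haveI : IsIso (MoreMor.fiberMap f h s₀) := by
    have : hF.isoPullback.hom ≫ pullback.snd f (h.fiberι s₀) = MoreMor.fiberMap f h s₀ := hF.isoPullback_hom_snd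
    rw [← this]; infer_instance
  have e1 : (q.fiberι s₀ ≫ pullback.fst f f) ≫ (f ≫ h) = q.fiberToSpecResidueField s₀ ≫ S.fromSpecResidueField s₀ := by
    rw [Category.assoc]; exact q.fiber_fac s₀
  have e2 : (q.fiberι s₀ ≫ pullback.snd f f) ≫ (f ≫ h) = q.fiberToSpecResidueField s₀ ≫ S.fromSpecResidueField s₀ := by
    rw [← e1, Category.assoc, Category.assoc, pullback.condition_assoc]
  let a : q.fiber s₀ ⟶ (f ≫ h).fiber s₀ := pullback.lift _ _ e1
  let b : q.fiber s₀ ⟶ (f ≫ h).fiber s₀ := pullback.lift _ _ e2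
  have ha : a ≫ (f ≫ h).fiberι s₀ = q.fiberι s₀ ≫ pullback.fst f f := pullback.lift_fst _ _ _
  have hb : b ≫ (f ≫ h).fiberι s₀ = q.fiberι s₀ ≫ pullback.snd f f := pullback.lift_fst _ _ _
  have hab : a = b := by
    rw [← cancel_mono (MoreMor.fiberMap f h s₀), ← cancel_mono (h.fiberι s₀), Category.assoc, Category.assoc,
      ConsPropLib.fiberMap_comp_ι, ← Category.assoc, ← Category.assoc, ha, hb, Category.assoc, Category.assoc,
      pullback.condition]
  have hkey : (q.fiberι s₀ ≫ pullback.fst f f) ≫ pullback.diagonal f = q.fiberι s₀ := by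
    apply pullback.hom_ext
    · simp
    · rw [Category.assoc, pullback.diagonal_snd, Category.comp_id, ← ha, hab, hb]
  let σ := pullback.lift (f := pullback.diagonal f) (g := q.fiberι s₀) (q.fiberι s₀ ≫ pullback.fst f f)
    (𝟙 _) (by rw [hkey, Category.id_comp])
  have hσ : σ ≫ pullback.snd (pullback.diagonal f) (q.fiberι s₀) = 𝟙 _ := pullback.lift_snd _ _ _
  exact ⟨σ, by rw [← cancel_mono (pullback.snd (pullback.diagonal f) (q.fiberι s₀)), Category.assoc, hσ,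
    Category.comp_id, Category.id_comp], hσ⟩

theorem exists_nhd_isIso {X Y S : Scheme.{u}} (h : Y ⟶ S) (f : X ⟶ Y)
    [IsProper h] [LocallyOfFinitePresentation h] [IsProper (f ≫ h)] [LocallyOfFinitePresentation (f ≫ h)]
    [Flat (f ≫ h)] (s₀ : S) [IsIso (pullback.snd f (h.fiberι s₀))] :
    ∃ V : S.Opens, s₀ ∈ V ∧ IsIso (f ∣_ (h ⁻¹ᵁ V)) := by
  haveI : IsProper f := IsProper.of_comp f h
  haveI : LocallyOfFinitePresentation f := AlgSpPts.locallyOfFinitePresentation_of_comp f h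
  obtain ⟨V₁, hs₁, hsm, hsur⟩ := exists_nhd_smooth_surjective h f s₀
  let q := pullback.fst f f ≫ f ≫ h
  let Δ := pullback.diagonal f
  have hΔ : Δ ≫ q = f ≫ h := by simp [Δ, q]
  haveI : IsIso (pullback.snd Δ (q.fiberι s₀)) := isIso_diagonal_fibre h f s₀
  haveI : UniversallyClosed (Δ ≫ q) := by rw [hΔ]; infer_instance
  haveI : LocallyOfFinitePresentation (Δ ≫ q) := by rw [hΔ]; infer_instance
  haveI : Flat (Δ ≫ q) := by rw [hΔ]; infer_instance
  haveI : LocallyOfFinitePresentation Δ := AlgSpPts.locallyOfFinitePresentation_of_comp Δ q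
  obtain ⟨V₂, hs₂, hsm₂, hsur₂⟩ := exists_nhd_smooth_surjective q Δ s₀
  refine ⟨V₁ ⊓ V₂, ⟨hs₁, hs₂⟩, ?_⟩
  let W := h ⁻¹ᵁ (V₁ ⊓ V₂)
  let f' := f ∣_ W
  have hx₁ : ∀ x : (f ⁻¹ᵁ W).toScheme, h (f ((f ⁻¹ᵁ W).ι x)) ∈ V₁ := fun x => x.2.1
  have hx₂ : ∀ x : (f ⁻¹ᵁ W).toScheme, h (f ((f ⁻¹ᵁ W).ι x)) ∈ V₂ := fun x => x.2.2
  haveI : Smooth f' := by
    refine MorphismProperty.of_postcomp (W' := @IsOpenImmersion) @Smooth _ W.ι inferInstance ?_
    rw [morphismRestrict_ι]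
    rw [← Scheme.Hom.smoothLocus_eq_top_iff, ← Scheme.Hom.preimage_smoothLocus_eq, eq_top_iff]
    exact fun x _ => hsm _ (hx₁ x)
  let m : pullback f' f' ⟶ pullback f f := pullback.map f' f' f f (f ⁻¹ᵁ W).ι (f ⁻¹ᵁ W).ι W.ι
    (morphismRestrict_ι f W) (morphismRestrict_ι f W)
  haveI : IsOpenImmersion m := inferInstance
  have hm : pullback.diagonal f' ≫ m = (f ⁻¹ᵁ W).ι ≫ Δ := by
    apply pullback.hom_ext <;> simp [m, Δ]
  haveI : Smooth (pullback.diagonal f') := by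
    refine MorphismProperty.of_postcomp (W' := @IsOpenImmersion) @Smooth _ m inferInstance ?_
    rw [hm, ← Scheme.Hom.smoothLocus_eq_top_iff, ← Scheme.Hom.preimage_smoothLocus_eq, eq_top_iff]
    intro x _
    refine hsm₂ _ ?_
    rw [← Scheme.Hom.comp_apply, hΔ, Scheme.Hom.comp_apply]
    exact hx₂ x
  haveI : IsOpenImmersion (pullback.diagonal f') := IsOpenImmersion.of_flat_of_mono _
  haveI : Surjective (pullback.diagonal f') := ⟨fun z => by
    have hz₂ : q (m z) ∈ V₂ := by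
      have e : m ≫ q = pullback.fst f' f' ≫ (f ⁻¹ᵁ W).ι ≫ f ≫ h := by simp [m, q]
      rw [← Scheme.Hom.comp_apply, e]
      simp only [Scheme.Hom.comp_apply]
      exact hx₂ _
    obtain ⟨x, hx⟩ := hsur₂ _ hz₂
    have hxW : x ∈ f ⁻¹ᵁ W := by
      have e : m ≫ pullback.fst f f = pullback.fst f' f' ≫ (f ⁻¹ᵁ W).ι := by simp [m]
      have : x = (f ⁻¹ᵁ W).ι (pullback.fst f' f' z) := by
        rw [← Scheme.Hom.comp_apply, ← e, Scheme.Hom.comp_apply, ← hx, ← Scheme.Hom.comp_apply]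
        simp [Δ]
      rw [this]
      exact (pullback.fst f' f' z).2
    refine ⟨⟨x, hxW⟩, m.isOpenEmbedding.injective ?_⟩
    rw [← Scheme.Hom.comp_apply, hm, Scheme.Hom.comp_apply]
    exact hx⟩
  haveI : IsIso (pullback.diagonal f') :=
    (isIso_iff_isOpenImmersion_and_surjective _).mpr ⟨inferInstance, inferInstance⟩
  haveI : Mono f' := (pullback.isIso_diagonal_iff f').mp inferInstance
  haveI : IsOpenImmersion f' := IsOpenImmersion.of_flat_of_mono _
  haveI : Surjective f' := ⟨fun y => by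
    obtain ⟨x, hx⟩ := hsur (W.ι y) y.2.1
    refine ⟨⟨x, ?_⟩, W.ι.isOpenEmbedding.injective ?_⟩
    · show f x ∈ W
      rw [hx]; exact y.2
    · rw [← Scheme.Hom.comp_apply, morphismRestrict_ι, Scheme.Hom.comp_apply]
      exact hx⟩
  exact (isIso_iff_isOpenImmersion_and_surjective _).mpr ⟨inferInstance, inferInstance⟩

/-- The fibre map is an isomorphism iff the two fibres are compatibly isomorphic. -/
theorem fibre_iso_iff {X Y S : Scheme.{u}} (h : Y ⟶ S) (f : X ⟶ Y) (s : S) :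
    IsIso (pullback.snd f (h.fiberι s)) ↔
      ∃ e : (f ≫ h).fiber s ≅ h.fiber s, e.hom ≫ h.fiberι s = (f ≫ h).fiberι s ≫ f := by
  have hF := ConsPropLib.isPullback_fiberMap f h s
  have h1 : hF.isoPullback.hom ≫ pullback.snd f (h.fiberι s) = MoreMor.fiberMap f h s := hF.isoPullback_hom_snd
  constructor
  · intro _
    haveI : IsIso (MoreMor.fiberMap f h s) := by rw [← h1]; infer_instance
    exact ⟨asIso (MoreMor.fiberMap f h s), ConsPropLib.fiberMap_comp_ι f h s⟩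
  · rintro ⟨e, he⟩
    have he2 : e.hom = MoreMor.fiberMap f h s := by
      rw [← cancel_mono (h.fiberι s), he, ConsPropLib.fiberMap_comp_ι]
    have e3 : pullback.snd f (h.fiberι s) = hF.isoPullback.inv ≫ e.hom := by
      rw [he2]; exact hF.isoPullback_inv_snd.symm
    rw [e3]; infer_instance

/-- Let g : X → S and h : Y → S be proper and of finite presentation with g flat, and f : X → Y a
morphism over S. Then the locus U of points of S over which the fibre morphism X_s → Y_s is an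
isomorphism is an open subset of S, and f restricts to an isomorphism over U. -/
theorem result {X Y S : Scheme.{u}} (g : X ⟶ S) (h : Y ⟶ S)
    [IsProper g] [LocallyOfFinitePresentation g] [Flat g] [IsProper h] [LocallyOfFinitePresentation h]
    (f : X ⟶ Y) (w : f ≫ h = g) :
    ∃ U : S.Opens, (∀ s : S, s ∈ U ↔ ∃ e : g.fiber s ≅ h.fiber s, e.hom ≫ h.fiberι s = g.fiberι s ≫ f) ∧
      IsIso (f ∣_ (h ⁻¹ᵁ U)) := by
  subst w
  have hopen : ∀ s : S, IsIso (pullback.snd f (h.fiberι s)) →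
      ∃ V : S.Opens, s ∈ V ∧ IsIso (f ∣_ (h ⁻¹ᵁ V)) := fun s hs => by
    haveI := hs
    exact exists_nhd_isIso h f s
  have hmem : ∀ (V : S.Opens) (s : S), IsIso (f ∣_ (h ⁻¹ᵁ V)) → s ∈ V → IsIso (pullback.snd f (h.fiberι s)) := by
    intro V s hV hs
    have hr : Set.range (h.fiberι s) ⊆ Set.range (h ⁻¹ᵁ V).ι := by
      rw [Scheme.Hom.range_fiberι, Scheme.Opens.range_ι]
      intro y hy
      show h y ∈ V
      rw [show h y = s from hy]; exact hs
    let l := IsOpenImmersion.lift (h ⁻¹ᵁ V).ι (h.fiberι s) hr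
    have hl : l ≫ (h ⁻¹ᵁ V).ι = h.fiberι s := IsOpenImmersion.lift_fac _ _ _
    have hp := (IsPullback.of_hasPullback (f ∣_ (h ⁻¹ᵁ V)) l).paste_horiz
      (isPullback_morphismRestrict f (h ⁻¹ᵁ V)).flip
    rw [hl] at hp
    rw [show pullback.snd f (h.fiberι s) = hp.isoPullback.inv ≫ pullback.snd (f ∣_ (h ⁻¹ᵁ V)) l from
      hp.isoPullback_inv_snd.symm]
    haveI := hV
    infer_instance
  let U : S.Opens := ⟨{s | IsIso (pullback.snd f (h.fiberι s))}, isOpen_iff_forall_mem_open.2 fun s hs => by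
    obtain ⟨V, hsV, hV⟩ := hopen s hs
    exact ⟨V, fun t ht => hmem V t hV ht, V.2, hsV⟩⟩
  refine ⟨U, fun s => fibre_iso_iff h f s, ?_⟩
  haveI : ∀ s : U, IsIso (f ∣_ (h ⁻¹ᵁ (Classical.choose (hopen s.1 s.2)))) := fun s =>
    (Classical.choose_spec (hopen s.1 s.2)).2
  refine (IsZariskiLocalAtTarget.iff_of_openCover (P := MorphismProperty.isomorphisms Scheme.{u})
    ((h ⁻¹ᵁ U).toScheme.openCoverOfIsOpenCover
      (fun s : U => (h ⁻¹ᵁ U).ι ⁻¹ᵁ (h ⁻¹ᵁ (Classical.choose (hopen s.1 s.2)))) ?_)).2 fun s => ?_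
  · refine TopologicalSpace.IsOpenCover.mk (eq_top_iff.2 fun y _ => ?_)
    exact TopologicalSpace.Opens.mem_iSup.2 ⟨⟨h y.1, y.2⟩, (Classical.choose_spec (hopen (h y.1) y.2)).1⟩
  · let V := Classical.choose (hopen s.1 s.2)
    show IsIso (pullback.snd (f ∣_ h ⁻¹ᵁ U) ((h ⁻¹ᵁ U).ι ⁻¹ᵁ (h ⁻¹ᵁ V)).ι)
    have hp := (IsPullback.of_hasPullback (f ∣_ h ⁻¹ᵁ U) ((h ⁻¹ᵁ U).ι ⁻¹ᵁ (h ⁻¹ᵁ V)).ι).paste_horiz
      (isPullback_morphismRestrict f (h ⁻¹ᵁ U)).flip
    let l : ((h ⁻¹ᵁ U).ι ⁻¹ᵁ (h ⁻¹ᵁ V)).toScheme ⟶ (h ⁻¹ᵁ V).toScheme := (h ⁻¹ᵁ U).ι ∣_ (h ⁻¹ᵁ V)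
    have hl : l ≫ (h ⁻¹ᵁ V).ι = ((h ⁻¹ᵁ U).ι ⁻¹ᵁ (h ⁻¹ᵁ V)).ι ≫ (h ⁻¹ᵁ U).ι := morphismRestrict_ι _ _
    have hp' := (IsPullback.of_hasPullback (f ∣_ (h ⁻¹ᵁ V)) l).paste_horiz
      (isPullback_morphismRestrict f (h ⁻¹ᵁ V)).flip
    rw [hl] at hp'
    rw [← hp.isoPullback_hom_snd, ← hp'.isoPullback_inv_snd]
    haveI : IsIso (f ∣_ (h ⁻¹ᵁ V)) := (Classical.choose_spec (hopen s.1 s.2)).2
    infer_instance

end Groth.Agent.S10888
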