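import Groth.Statements.S10925
import Groth.Agent.PicfLib.H0Locus
import Groth.Agent.PicfLib.ProjBase

set_option autoImplicit false
universe u
open CategoryTheory CategoryTheory.Limits AlgebraicGeometry
open PicF

namespace Groth.Agent.S10925

/-- Let k be an algebraically closed field, Y an integral scheme of finite type over k, f : X → Y flat
and projective (f = i ≫ pr for a closed immersion i : X → P^n_Y), such that every fibre X_y, y ∈ Y,
is integral, and let E be an invertible O_X-module whose pullback to every fibre X_y is isomorphic
to the structure sheaf. Then L = f_*E is an invertible O_Y-module and the canonical map f^*f_*E → E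
(the counit of f^* ⊣ f_*) is an isomorphism, so E ≅ f^*L. (Over a base field that is not
algebraically closed the conclusion fails already for the spectrum of a nontrivial finite field
extension mapping to the point; the base field is taken algebraically closed here, the standing
convention for varieties.) -/
theorem result (k : Type u) [Field k] [IsAlgClosed k]
    {X Y : Scheme.{u}} (g : Y ⟶ Spec (CommRingCat.of k)) [LocallyOfFiniteType g] [QuasiCompact g]
    [IsIntegral Y] (n : ℕ) (i : X ⟶ CohB1.ProjSpaceOver n Y) [IsClosedImmersion i]
    (f : X ⟶ Y) (hf : f = i ≫ CohB1.ProjSpaceOver.toBase n Y) [Flat f]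
    (hint : ∀ y : Y, IsIntegral (f.fiber y))
    (E : X.Modules) (hE : PicF.IsInvertible E)
    (htriv : ∀ y : Y, Nonempty ((Scheme.Modules.pullback (f.fiberι y)).obj E ≅ Coh.structureModule (f.fiber y))) :
    PicF.IsInvertible ((Scheme.Modules.pushforward f).obj E) ∧
      IsIso ((Scheme.Modules.pullbackPushforwardAdjunction f).counit.app E) := by
  haveI := Groth.Agent.PicfLib.isProper_projSpaceOver_toBase n Y
  haveI : IsProper f := by rw [hf]; infer_instance
  haveI : IsLocallyNoetherian Y := LocallyOfFiniteType.isLocallyNoetherian g
  have hsurj : Function.Surjective f.base := fun y => by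
    haveI := hint y
    obtain ⟨z⟩ : Nonempty ↥(f.fiber y) := inferInstance
    exact ⟨f.fiberι y z, (f.range_fiberι y).le ⟨z, rfl⟩⟩
  have h0 := Groth.Agent.PicfLib.H0Locus.fieldH0_of_closed_integral f g hsurj (fun y _ => hint y)
  exact (Groth.Agent.S16759.result f
    (Groth.Agent.PicfLib.H0Locus.finrank_eq_one_of_fieldH0 f h0) E hE).2 htriv

end Groth.Agent.S10925
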