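import Groth.Statements.S10932
import Groth.Agent.CAlgH39.ExtSelf
import Groth.Agent.S0582
-- import your own Groth.Agent.* helpers here

set_option autoImplicit false
universe u
open CategoryTheory
open CAlg

namespace Groth.Agent.S10932

/-- Let A be a (Noetherian) regular local ring of Krull dimension n and M a finitely generated A-module
such that Ext^j_A(M, A) = 0 for every j with 1 ≤ j ≤ n. Then M is projective, hence a free A-module. -/
theorem result (A : Type u) [CommRing A] [IsRegularLocalRing A]
    (n : ℕ) (hn : ringKrullDim A = n) (M : Type u) [AddCommGroup M] [Module A M] [Module.Finite A M]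
    (h : ∀ j : ℕ, 1 ≤ j → j ≤ n →
      Subsingleton (Abelian.Ext (ModuleCat.of A M) (ModuleCat.of A A) j)) :
    Module.Free A M := by
  haveI := Groth.Agent.S0563.result A n hn M
  haveI : HasProjectiveDimensionLT (ModuleCat.of A M) 1 :=
    CAlgH39.hasProjectiveDimensionLT_of_ext_self_vanish (n + 1) 1 inferInstance fun j h1 h2 => h j h1 (by omega)
  haveI : Module.Projective A M :=
    (IsProjective.iff_projective M).mpr (projective_iff_hasProjectiveDimensionLT_one.mpr inferInstance)
  exact Module.free_of_flat_of_isLocalRing

end Groth.Agent.S10932
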