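import Groth.Statements.S10933
import Groth.Agent.CAlgH39.ExtSelf
-- import your own Groth.Agent.* helpers here

set_option autoImplicit false
universe u
open CategoryTheory
open CAlg

namespace Groth.Agent.S10933

/-- Let A be a (Noetherian) regular local ring, M a finitely generated A-module and d a natural number.
Then the projective dimension of M equals d if and only if Ext^j_A(M, A) = 0 for every j > d and
Ext^d_A(M, A) ≠ 0. (Projective dimension valued in WithBot ℕ∞, the zero module having projective
dimension ⊥.) -/
theorem result (A : Type u) [CommRing A] [IsRegularLocalRing A]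
    (M : Type u) [AddCommGroup M] [Module A M] [Module.Finite A M] (d : ℕ) :
    projectiveDimension (ModuleCat.of A M) = (d : WithBot ℕ∞) ↔
      ((∀ j : ℕ, d < j → Subsingleton (Abelian.Ext (ModuleCat.of A M) (ModuleCat.of A A) j)) ∧
        Nontrivial (Abelian.Ext (ModuleCat.of A M) (ModuleCat.of A A) d)) := by
  obtain ⟨n, hn⟩ : ∃ n : ℕ, ringKrullDim A = n :=
    ⟨_, ((isRegularLocalRing_iff A).mp inferInstance).symm⟩
  haveI := Groth.Agent.S0563.result A n hn M
  have key : projectiveDimension (ModuleCat.of A M) = (d : WithBot ℕ∞) ↔
      HasProjectiveDimensionLT (ModuleCat.of A M) (d + 1) ∧ ¬ HasProjectiveDimensionLT (ModuleCat.of A M) d := by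
    rw [← projectiveDimension_lt_iff, ← projectiveDimension_lt_iff, not_lt]
    generalize projectiveDimension (ModuleCat.of A M) = e
    constructor
    · rintro rfl; exact ⟨by exact_mod_cast Nat.lt_succ_self d, le_rfl⟩
    · rintro ⟨h1, h2⟩
      induction e using WithBot.recBotCoe with
      | bot => simp at h2
      | coe e =>
        induction e using ENat.recTopCoe with
        | top => simp at h1
        | coe e => norm_cast at h1 h2 ⊢; omega
  rw [key]
  constructor
  · rintro ⟨h1, h2⟩
    refine ⟨fun j hj => HasProjectiveDimensionLT.subsingleton _ (d + 1) j hj _, ?_⟩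
    by_contra h3
    rw [not_nontrivial_iff_subsingleton] at h3
    exact h2 (CAlgH39.hasProjectiveDimensionLT_of_ext_self d h3)
  · rintro ⟨h1, h2⟩
    refine ⟨CAlgH39.hasProjectiveDimensionLT_of_ext_self_vanish (n + 1) (d + 1) inferInstance fun j hj _ => h1 j hj, fun h3 => ?_⟩
    have := HasProjectiveDimensionLT.subsingleton (ModuleCat.of A M) d d le_rfl (ModuleCat.of A A)
    exact not_nontrivial (Abelian.Ext (ModuleCat.of A M) (ModuleCat.of A A) d) h2

end Groth.Agent.S10933
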