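import Groth.Statements.S10935
import Groth.Agent.FlatFun4.AssFlat
import Groth.Agent.SchTop.Closed
-- import your own Groth.Agent.* helpers here

set_option autoImplicit false
set_option linter.style.haveILetI false
set_option backward.isDefEq.respectTransparency false
set_option backward.isDefEq.respectTransparency.types false
universe u
open CategoryTheory CategoryTheory.Limits AlgebraicGeometry
open FlatMor

namespace Groth.Agent.S10935

/-- Let Y be an integral, regular (every local ring a regular local ring), one-dimensional scheme with
generic point η, X a Noetherian scheme and f : X → Y a morphism. Then f is flat if and only if every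
associated point x of X — a point such that the maximal ideal of O_{X,x} is an associated prime of
O_{X,x} — satisfies f(x) = η. -/
theorem result {X Y : Scheme.{u}} (f : X ⟶ Y)
    [IsIntegral Y] (hreg : ∀ y : Y, IsRegularLocalRing (Y.presheaf.stalk y))
    (hY : topologicalKrullDim ↥Y = 1) [IsNoetherian X] :
    Flat f ↔ ∀ x : X, Curv2.IsAssPoint (Coh.structureModule X) x → f.base x = genericPoint ↥Y := by
  have hdim : ∀ y : Y, ringKrullDim (Y.presheaf.stalk y) ≤ 1 := fun y => (SchTop.ringKrullDim_stalk_le y).trans hY.le
  have hfield : ∀ y : Y, IsField (Y.presheaf.stalk y) ↔ y = genericPoint Y := fun y => by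
    constructor
    · intro hy
      have e := DimFormula.fromSpecStalk_bot y
      rw [show (⟨⊥, Ideal.isPrime_bot⟩ : PrimeSpectrum (Y.presheaf.stalk y)) = IsLocalRing.closedPoint _ from
        PrimeSpectrum.ext (IsLocalRing.isField_iff_maximalIdeal_eq.1 hy).symm] at e
      exact (Scheme.fromSpecStalk_closedPoint).symm.trans e
    · rintro rfl
      exact Field.toIsField Y.functionField
  constructor
  · intro hf x hx
    exact (hfield _).1 (FlatFun4.AssFlat.isField_of_flat f x hx)
  · intro h
    exact FlatFun4.AssFlat.flat_of_assPoints f hreg hdim fun x hx => (hfield _).2 (h x hx)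

end Groth.Agent.S10935
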