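import Groth.Statements.S10939
import Groth.Agent.VarHyper.HomogCover
import Mathlib.AlgebraicGeometry.Morphisms.Finite
-- import your own Groth.Agent.* helpers here

set_option autoImplicit false
universe u
open CategoryTheory CategoryTheory.Limits AlgebraicGeometry
open Variety

namespace Groth.Agent.S10939

/-- Let k be a field, P = P^n_k = Proj k[x_0, …, x_n], and i_X : X → P, i_Y : Y → P closed immersions
with X of dimension r. Then there are homogeneous polynomials h_1, …, h_{r+1} of positive degree,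
with basic opens D_j = D_+(h_j) and hypersurfaces H_j = P ∖ D_j, such that every H_j contains Y and
X ∖ Y = ⋃_j (X ∖ H_j), i.e. every point of X outside Y lies in some D_j; moreover each X ∖ H_j = X ∩
D_j is affine. (The published statement takes X and Y reduced; the assertion only concerns the
underlying closed sets.) -/
theorem result (k : Type u) [Field k] (n r : ℕ)
    {X Y : Scheme.{u}} (iX : X ⟶ CohB1.ProjSpace n k) (iY : Y ⟶ CohB1.ProjSpace n k)
    [IsClosedImmersion iX] [IsClosedImmersion iY] (hX : topologicalKrullDim ↥X = r) :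
    ∃ (h : Fin (r + 1) → MvPolynomial (Fin (n + 1)) k) (D : Fin (r + 1) → (CohB1.ProjSpace n k).Opens),
      (∀ j, D j = Proj.basicOpen (CohB1.polyGrading n k) (h j)) ∧
      (∀ j, ∃ d : ℕ, 0 < d ∧ (h j).IsHomogeneous d) ∧
      (∀ j, Set.range iY.base ⊆ (D j : Set ↥(CohB1.ProjSpace n k))ᶜ) ∧
      (Set.range iX.base \ Set.range iY.base ⊆ ⋃ j, (D j : Set ↥(CohB1.ProjSpace n k))) ∧
      ∀ j, IsAffineOpen (iX ⁻¹ᵁ (D j)) := by
  haveI : IsProper (CohB1.ProjSpace.toSpec n k) := Groth.Agent.PnCoh.Chow.isProper_toSpec n k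
  haveI : IsLocallyNoetherian (CohB1.ProjSpace n k) :=
    LocallyOfFiniteType.isLocallyNoetherian (CohB1.ProjSpace.toSpec n k)
  haveI : CompactSpace (CohB1.ProjSpace n k) :=
    QuasiCompact.compactSpace_of_compactSpace (CohB1.ProjSpace.toSpec n k)
  haveI : IsNoetherian (CohB1.ProjSpace n k) := {}
  obtain ⟨h, hh, hC, hcov⟩ := Groth.Agent.VarHyper.exists_forms_cover k n (Set.range iY.base)
    iY.isClosedEmbedding.isClosed_range (r + 1) (Set.range iX.base) iX.isClosedEmbedding.isClosed_range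
    (by
      rintro _ ⟨⟨x, rfl⟩, -⟩
      have h1 := Groth.Agent.VarDim.deg_map_le iX (CohB1.ProjSpace.toSpec n k)
        (p := iX ≫ CohB1.ProjSpace.toSpec n k) rfl x
      have h2 : ((Groth.Agent.VarDim.deg (iX ≫ CohB1.ProjSpace.toSpec n k) x : ℕ∞) : WithBot ℕ∞) ≤ (r : WithBot ℕ∞) := by
        rw [← hX, Groth.Agent.VarDim.topologicalKrullDim_eq_iSup_deg (iX ≫ CohB1.ProjSpace.toSpec n k)]
        exact le_iSup_of_le x le_rfl
      have h3 : Groth.Agent.VarDim.deg (iX ≫ CohB1.ProjSpace.toSpec n k) x ≤ r := by exact_mod_cast h2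
      exact Nat.lt_succ_of_le (h1.trans h3))
  refine ⟨h, fun j => Groth.Agent.VarHyper.bo k n (h j), fun j => rfl, hh, hC, hcov, fun j => ?_⟩
  obtain ⟨d, hd, hhom⟩ := hh j
  have hV : IsAffineOpen (Groth.Agent.VarHyper.bo k n (h j)) :=
    Proj.isAffineOpen_basicOpen (CohB1.polyGrading n k) (h j) hhom hd
  exact hV.preimage iX

end Groth.Agent.S10939
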