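import Groth.Statements.S10941
import Groth.Agent.FlatFun4.FlatDimField
-- import your own Groth.Agent.* helpers here

set_option autoImplicit false
set_option linter.style.haveILetI false
set_option backward.isDefEq.respectTransparency false
set_option backward.isDefEq.respectTransparency.types false
universe u
open CategoryTheory CategoryTheory.Limits AlgebraicGeometry
open FlatMor

namespace Groth.Agent.S10941

/-- Let k be a field, X, Y and Y' schemes of finite type over k with Y irreducible, f : X → Y a flat
k-morphism and n a natural number such that every irreducible component of X has dimension dim Y +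
n. Let g : Y' → Y be a k-morphism and f' : X ×_Y Y' → Y' the base change of f. Then for every
irreducible closed subset V of Y', every irreducible component of the preimage of V under f' (with
the subspace topology) has dimension dim V + n. In particular (Y' = Y) every irreducible component
of f⁻¹(V) has dimension dim V + n for every irreducible closed V ⊆ Y. -/
theorem result (k : Type u) [Field k]
    {X Y Y' : Scheme.{u}} (qX : X ⟶ Spec (CommRingCat.of k)) (qY : Y ⟶ Spec (CommRingCat.of k))
    (qY' : Y' ⟶ Spec (CommRingCat.of k))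
    [LocallyOfFiniteType qX] [QuasiCompact qX] [LocallyOfFiniteType qY] [QuasiCompact qY]
    [LocallyOfFiniteType qY'] [QuasiCompact qY']
    [IrreducibleSpace ↥Y] (f : X ⟶ Y) (hf : f ≫ qY = qX) [Flat f] (n : ℕ)
    (hX : ∀ Z : Set ↥X, Z ∈ irreducibleComponents ↥X →
      topologicalKrullDim ↥Z = topologicalKrullDim ↥Y + (n : WithBot ℕ∞))
    (g : Y' ⟶ Y) (hg : g ≫ qY = qY')
    (V : Set ↥Y') (hV : IsClosed V) (hVirr : IsIrreducible V)
    (W : Set ↥((pullback.snd f g).base ⁻¹' V))
    (hW : W ∈ irreducibleComponents ↥((pullback.snd f g).base ⁻¹' V)) :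
    topologicalKrullDim ↥W = topologicalKrullDim ↥V + (n : WithBot ℕ∞) := by
  haveI : LocallyOfFiniteType f := by
    haveI : LocallyOfFiniteType (f ≫ qY) := hf.symm ▸ ‹LocallyOfFiniteType qX›
    exact locallyOfFiniteType_of_comp f qY
  haveI : LocallyOfFiniteType g := by
    haveI : LocallyOfFiniteType (g ≫ qY) := hg.symm ▸ ‹LocallyOfFiniteType qY'›
    exact locallyOfFiniteType_of_comp g qY
  have hd : ∀ ξ : Y, (∀ z, z ⤳ ξ → z = ξ) → FibDim.rd qY ξ = FibDim.rd qY (genericPoint Y) :=
    fun ξ hξ => by rw [FlatFun4.FlatDimField.maximal_eq_genericPoint hξ]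
  have hfib : ∀ z, FibDim.FibMax f z → FibDim.rd f z = n := by
    refine (FlatFun4.FlatDimField.fibres_iff f hf _ n hd).1 ((FlatFun4.FlatDimField.components_iff qX _).1 fun Z hZ => ?_)
    rw [hX Z hZ, FlatFun4.FlatDimField.dim_eq_rd_genericPoint qY]
    norm_cast
  haveI : LocallyOfFiniteType (pullback.snd f g) := MorphismProperty.pullback_snd _ _ ‹_›
  haveI : Flat (pullback.snd f g) := MorphismProperty.pullback_snd _ _ ‹_›
  obtain ⟨v, hv, hdimV⟩ := FlatFun4.FlatDimField.dim_closed_irreducible qY' hV hVirr
  have hP : IsClosed ((pullback.snd f g).base ⁻¹' V) := hV.preimage (pullback.snd f g).continuous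
  obtain ⟨w, hwP, hwmax, hdimW⟩ := FlatFun4.FlatDimField.component_dim_closed (pullback.snd f g ≫ qY') hP hW
  have hqv : pullback.snd f g w = v := by
    obtain ⟨t, ht, hqt⟩ := Flat.generalizingMap (pullback.snd f g) (hv.specializes hwP)
    rw [← hwmax t (show pullback.snd f g t ∈ V from hqt ▸ hv.mem) ht, hqt]
  have hwfib : FibDim.FibMax (pullback.snd f g) w := fun t ht hqt =>
    hwmax t (show pullback.snd f g t ∈ V by rw [hqt, hqv]; exact hv.mem) ht
  rw [hdimW, hdimV, FibDim.rd_comp, hqv,
    FlatFun4.FlatDimField.rd_baseChange_fibMax f (IsPullback.of_hasPullback f g) n hfib hwfib, Nat.cast_add,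
    WithBot.coe_add]
  rfl

end Groth.Agent.S10941
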