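import Groth.Statements.S10946
import Groth.Agent.QcqsColim.FTSub

set_option autoImplicit false
universe u
open CategoryTheory AlgebraicGeometry
open Coherent

namespace Groth.Agent.S10946

/-- Let X be a Noetherian separated scheme and n a natural number such that H^i(X, F) = 0 for all
coherent O_X-modules F and all i > n. Then H^i(X, G) = 0 for all quasi-coherent O_X-modules G and
all i > n. -/
theorem result (X : Scheme.{u}) [IsNoetherian X]
    [X.IsSeparated] (n : ℕ)
    (h : ∀ F : X.Modules, Coh.IsCoh F → ∀ i : ℕ, n < i → Subsingleton (Coh.HH X F i))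
    (G : X.Modules) (hG : Coh.IsQCoh G) (i : ℕ) (hi : n < i) :
    Subsingleton (Coh.HH X G i) := by
  refine QcqsColim.subsingleton_HH_of_ftSub hG i fun N hN => h _ ⟨QCoh.isQCoh_of_ftOn hG hN, ?_⟩ i hi
  exact QCoh.isFT_of_ftOn hG hN

end Groth.Agent.S10946
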