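import Groth.Statements.S10961
import Groth.Agent.Div86.MeroGen
-- import your own Groth.Agent.* helpers here

set_option autoImplicit false
universe u
open CategoryTheory AlgebraicGeometry TopologicalSpace
open Mero

namespace Groth.Agent.S10961

/-- Let X be a reduced scheme with only finitely many irreducible components, with generic points x_1,
…, x_r, and let U be an open subset of X. Then the ring of sections over U of the sheaf of
meromorphic functions K_X maps bijectively, by evaluation, onto the product of the rings K_{X,x_i}
over those generic points x_i that lie in U; moreover for each generic point x_i the local ring of X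
at x_i is a field and maps bijectively onto K_{X,x_i}, so that K_{X,x_i} is the residue field of
x_i. (The hypothesis holds for every Noetherian scheme; for X integral it says that K_X is the
constant sheaf with value the function field.) -/
theorem result
    (X : Scheme.{u}) [IsReduced X] (hfin : (irreducibleComponents (X : Type u)).Finite) (U : X.Opens) :
    Function.Bijective (fun s : Γ(Mero.kmod X, U) =>
      fun x : {x : U // closure ({x.1} : Set X) ∈ irreducibleComponents (X : Type u)} =>
        Mero.evalK X U x.1 s) ∧
    (∀ x : X, closure ({x} : Set X) ∈ irreducibleComponents (X : Type u) →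
      IsField (X.presheaf.stalk x) ∧
        Function.Bijective (algebraMap (X.presheaf.stalk x) (Mero.KStalk X x))) := by
  have hgen : Div86.WGen X := Div86.wGen_of_isReduced
  have hfin' : Div86.WFin X := Div86.wFin_of_locallyFinite hgen fun x =>
    ⟨⊤, trivial, hfin.subset fun Z hZ => hZ.1⟩
  have hspec : ∀ x : X, closure ({x} : Set X) ∈ irreducibleComponents X → ∀ y : X, y ⤳ x → y = x :=
    fun x hx y hy => by
      have h1 : closure ({x} : Set X) ⊆ closure {y} := specializes_iff_closure_subset.1 hy
      have h2 := hx.2 isIrreducible_singleton.closure h1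
      exact (hy.antisymm (specializes_iff_closure_subset.2 h2)).eq
  have hfield : ∀ x : X, closure ({x} : Set X) ∈ irreducibleComponents X →
      IsField (X.presheaf.stalk x) := fun x hx => by
    rw [IsLocalRing.isField_iff_maximalIdeal_eq, eq_bot_iff]
    intro g hg
    obtain ⟨V, hxV, r, rfl⟩ := X.presheaf.exists_germ_eq (x := x) g
    obtain ⟨W, hW, hxW, hWV⟩ := exists_isAffineOpen_mem_and_subset hxV
    rw [← X.presheaf.germ_res_apply (homOfLE hWV) x hxW r] at hg ⊢
    refine Ideal.mem_bot.2 (IsReduced.eq_zero _
      (Div86.isNilpotent_germ_of_mem hW hxW (hspec x hx) ?_))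
    by_contra hr
    exact (IsLocalRing.mem_maximalIdeal _).1 hg
      ((X.mem_basicOpen _ x hxW).1 ((QCoh.mem_basicOpen_iff_notMem hW hxW _).2 hr))
  have hbij : ∀ x : X, closure ({x} : Set X) ∈ irreducibleComponents X →
      Function.Bijective (algebraMap (X.presheaf.stalk x) (Mero.KStalk X x)) := fun x hx => by
    refine ⟨Mero.algebraMap_KStalk_injective x, fun q => ?_⟩
    induction q using LocalizedModule.induction_on with
    | h c s =>
      have hs : (s : X.presheaf.stalk x) ∈ nonZeroDivisors (X.presheaf.stalk x) :=
        Mero.regStalk_le_nonZeroDivisors (X := X) x s.property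
      obtain ⟨t, ht⟩ := (hfield x hx).mul_inv_cancel (nonZeroDivisors.ne_zero hs)
      refine ⟨c * t, (IsLocalization.map_units (Mero.KStalk X x) s).mul_right_cancel ?_⟩
      rw [← map_mul, mul_assoc, mul_comm t, ht, mul_one]
      exact (Div86.mk_mul_algebraMap c s).symm
  refine ⟨⟨fun s s' hss => Div86.kmod_ext_wAss s s' fun y hy => congrFun hss
    ⟨y, Div86.closure_mem_irreducibleComponents y.1 (hgen y.1 hy)⟩, fun v => ?_⟩,
    fun x hx => ⟨hfield x hx, hbij x hx⟩⟩
  classical
  obtain ⟨s, hs⟩ := Div86.exists_glue (U := U) (fun y =>
    if hy : closure ({y.1} : Set X) ∈ irreducibleComponents X then v ⟨y, hy⟩ else 0) (fun x => by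
    obtain ⟨W, hW, hxW, hWU⟩ := exists_isAffineOpen_mem_and_subset x.2
    have hc : ∀ (z : X) (hz : z ∈ W) (hw : Div86.WAss z), ∃ c, algebraMap (X.presheaf.stalk z)
        (Mero.KStalk X z) c = v ⟨⟨z, hWU hz⟩, Div86.closure_mem_irreducibleComponents z (hgen z hw)⟩ :=
      fun z hz hw => (hbij z (Div86.closure_mem_irreducibleComponents z (hgen z hw))).2 _
    choose c hc using hc
    obtain ⟨a, b, hab⟩ := Div86.exists_frac_values hW (hfin' W hW) hgen c
    refine ⟨W, hWU, hxW, Div86.frac a b, fun y hy => ?_⟩
    rw [Div86.frac_val_of_germ_eq a b y (hab y.1 y.2 hy), hc, dif_pos])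
  refine ⟨s, funext fun y => ?_⟩
  refine (hs y.1 (Div86.wAss_of_generic y.1.1 (hspec y.1.1 y.2))).trans ?_
  exact dif_pos y.2

end Groth.Agent.S10961
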