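import Groth.Statements.S1100
import Groth.Agent.KSix54.Pull.TorInd
import Groth.Agent.Perf52.RelTor

set_option autoImplicit false
universe u
open CategoryTheory CategoryTheory.Limits AlgebraicGeometry Opposite
attribute [local instance] HasDerivedCategory.standard
open Perf

namespace Groth.Agent.S1100

/-- Let f : X ⟶ S be flat and locally of finite presentation, g : S' ⟶ S any morphism, X' = X ×_S S'
with projections g' : X' ⟶ X and f' : X' ⟶ S'. Assume L(g')^* exists. If K ∈ D(O_X) is S-perfect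
(pseudo-coherent and locally of finite tor dimension as a complex of f⁻¹O_S-modules, the latter in
the form: locally represented by bounded complexes of S-flat modules), then L(g')^*K is S'-perfect. -/
theorem result {X S S' : Scheme.{u}} (f : X ⟶ S) [Flat f] [LocallyOfFinitePresentation f] (g : S' ⟶ S)
    [DCoh.HasLpull (pullback.fst f g)] (K : DCoh.D X) (hK : ((∀ m : ℤ, DCoh.IsPseudoCoherentD m K) ∧ DCoh.LocHasFiniteRelTorDim f K)) :
    ((∀ m : ℤ, DCoh.IsPseudoCoherentD m ((DCoh.Lpull (pullback.fst f g)).obj K)) ∧ DCoh.LocHasFiniteRelTorDim (pullback.snd f g) ((DCoh.Lpull (pullback.fst f g)).obj K)) := by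
  haveI : Flat (pullback.snd f g) := inferInstance
  refine ⟨fun m => KFlatLib.isPseudoCoherentD_lpull _ (hK.1 m), (Perf52.locRelTor_iff _ _).2 fun x' => ?_⟩
  obtain ⟨V, a, b, hx, hV⟩ := (Perf52.locRelTor_iff f K).1 hK.2 ((pullback.fst f g).base x')
  refine ⟨(pullback.fst f g) ⁻¹ᵁ V, a, b, hx, fun z hz => ?_⟩
  let P := KFlatLib.repK K
  have hP : DCoh.IsKFlat P := KFlatLib.isKFlat_repK K
  have h1 : DerSch.HasTorAmplitudeAt f a b P ((pullback.fst f g).base z) :=
    (KSix54.torAmplitudeAt_iff f a b P _).2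
      (H9Misc.DRingTor.of_iso ((KSix54.stalkD f _).mapIso (KFlatLib.repKIso K).symm) (hV _ hz))
  haveI : Flat (f ≫ 𝟙 S) := by rw [Category.comp_id]; infer_instance
  have hY : IsPullback g (𝟙 S') (𝟙 S) g := IsPullback.of_vert_isIso ⟨by simp⟩
  have h2 := KSix54.Pull.torAmplitudeAt_bc_torIndep (IsPullback.of_hasPullback f g) (𝟙 S) hY hP z h1
  haveI := KFlatLib.isIso_lpullComparison (pullback.fst f g) hP
  exact H9Misc.DRingTor.of_iso ((KSix54.stalkD _ z).mapIso
    ((asIso ((KFlatLib.lpullComparison (pullback.fst f g)).app P)).symm ≪≫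
      (DCoh.Lpull (pullback.fst f g)).mapIso (KFlatLib.repKIso K)))
    ((KSix54.torAmplitudeAt_iff (pullback.snd f g) a b _ z).1 h2)

end Groth.Agent.S1100
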