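import Groth.Statements.S1108
import Groth.Agent.AmpleVan.AffineCrit
import Groth.Agent.S2297
import Groth.Agent.KFlatLib.Scheme.TildePC

set_option autoImplicit false
set_option linter.style.haveILetI false
set_option backward.isDefEq.respectTransparency false
set_option backward.isDefEq.respectTransparency.types false
set_option maxHeartbeats 800000
universe u
open CategoryTheory AlgebraicGeometry
open Perf

namespace Groth.Agent.S1108

/-- A scheme X admitting an ample invertible O_X-module has the resolution property: every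
quasi-coherent O_X-module of finite type is a quotient of a finite locally free O_X-module. -/
theorem result (X : Scheme.{u}) (L : X.Modules) (hL : CohB1.IsAmple L) : PerfAux.HasResolutionProperty X := by
  open Groth.Agent in
  open Groth.Agent.H23.PicMul in
  intro M hq hft
  haveI : CompactSpace X := hL.2.1
  haveI := AmpleX.isSeparated_of_isAmple hL
  obtain ⟨N, hN⟩ := AmpleX.eventually_generated hL hq hft
  obtain ⟨G, φ, ι, s, hs⟩ := hN N le_rfl
  have hP' := InvX.isInvertible_tensorPow hL.1 N
  obtain ⟨P, hP, e⟩ := H23.PicInv.exists_inverse hP'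
  haveI := AmpleVan.isEquivalence_tw hP
  have hG : Coh.IsQCoh G ∧ CohB1.IsFT G := by
    have h := KFlatLib.isQCoh_tensor hq (ProjUPX.isQCoh_of_isInvertible hP')
    exact ⟨KFlatLib.isQCoh_of_iso φ.symm h, KFlatLib.isFT_of_iso' φ.symm
      (haveI := hq; haveI := ProjUPX.isQCoh_of_isInvertible hP'; (S2297.result M (CohB1.tensorPow L N)).2 hft
        (QCoh.isFT_of_isFP (QCoh.isFP_of_isFinLocFree (H23.PullPush.isFinLocFree_of_isInvertible hP'))))⟩
  obtain ⟨c, f, hf⟩ := AmpleVan.exists_fin_generatedBy hG s hs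
  obtain ⟨g, hg⟩ := InvX.exists_epi_freeMod hf
  obtain ⟨ψ⟩ : Nonempty ((AmpleVan.tw P).obj G ≅ M) := cl_eq_iff.1 (by
    show PicF.cl (CohB1.tensorMod G P) = _
    rw [cl_tensor, cl_eq_iff.2 ⟨φ⟩, cl_tensor, mul_assoc]
    rw [show PicF.cl (CohB1.tensorPow L N) * PicF.cl P = 1 from (PicGrp.cl_eq_cl_iff _ _).2 e, mul_one])
  haveI := hg
  exact ⟨(AmpleVan.tw P).obj (FlatMod.freeMod X c), (AmpleVan.tw P).map g ≫ ψ.hom,
    KFlatLib.isFinLocFree_tensor (KFlatLib.isFinLocFree_freeMod c) (H23.PullPush.isFinLocFree_of_isInvertible hP),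
    inferInstance⟩

end Groth.Agent.S1108
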