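import Groth.Statements.S11087
import Groth.Agent.CAlgH39.AlgLift
-- import your own Groth.Agent.* helpers here

set_option autoImplicit false
universe u
attribute [local instance] FractionRing.liftAlgebra
open CAlg

namespace Groth.Agent.S11087

/-- Let A be a complete discrete valuation ring and K a perfect field contained in A such that K → A →
A/m is bijective. Let B be a Dedekind domain which is a finite torsion-free A-algebra with fraction
field separable over that of A (the integral closure of A in a finite separable extension of its
fraction field). Then for every maximal ideal M of B and every b in B there is exactly one element c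
of B which is algebraic over K and congruent to b modulo M; in other words the algebraic closure of
K in B is a subfield mapping isomorphically onto B/M. -/
theorem result (K A B : Type u) [Field K]
    [PerfectField K] [CommRing A] [IsDomain A] [IsDiscreteValuationRing A]
    [IsAdicComplete (IsLocalRing.maximalIdeal A) A]
    [Algebra K A] (hK : Function.Bijective ((IsLocalRing.residue A).comp (algebraMap K A)))
    [CommRing B] [IsDedekindDomain B] [Algebra A B] [Module.Finite A B] [Module.IsTorsionFree A B]
    [Algebra.IsSeparable (FractionRing A) (FractionRing B)] [Algebra K B] [IsScalarTower K A B]
    (M : Ideal B) [M.IsMaximal] (b : B) :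
    ∃! c : B, IsAlgebraic K c ∧ b - c ∈ M := by
  have hB := Groth.Agent.CAlgH39.NormVal.isLocalRing_of_finite_domain A B
  have : HenselianLocalRing A := Groth.Agent.Hensel.henselianLocalRing_of_henselianRing _
  have : HenselianLocalRing B := Groth.Agent.Hensel.henselianLocalRing_of_isIntegral_local A B
  exact Groth.Agent.CAlgH39.AlgLift.existsUnique_lift K A B hK M b

end Groth.Agent.S11087
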