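import Groth.Statements.S11094
import Groth.Agent.AVDegPoly.Translate
import Groth.Agent.AbTors.Points

set_option autoImplicit false
universe u
open CategoryTheory CategoryTheory.Limits MonoidalCategory CartesianMonoidalCategory MonObj GrpObj AlgebraicGeometry
open AbVar

namespace Groth.Agent.S11094

/-- Let k be an algebraically closed field, E and E′ elliptic curves over k — group schemes over Spec k
whose underlying schemes are proper, smooth, integral and one-dimensional — and φ : E → E′ a
homomorphism which is finite, surjective and étale (a separable isogeny), sending the generic point
of E to that of E′, so that the function field of E′ maps into the function field of E. Then the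
function field of E is a Galois extension of that of E′, and the number of its automorphisms over
the function field of E′ equals the number of k-valued points of E that φ sends to the unit of E′. -/
theorem result (k : Type u) [Field k] [IsAlgClosed k]
    (E E' : Over (Spec (CommRingCat.of k)))
    [GrpObj E] [IsProper E.hom] [Smooth E.hom] [IsIntegral E.left] (hE : topologicalKrullDim E.left = 1)
    [GrpObj E'] [IsProper E'.hom] [Smooth E'.hom] [IsIntegral E'.left] (hE' : topologicalKrullDim E'.left = 1)
    (φ : E ⟶ E') [IsMonHom φ] [IsFinite φ.left] [Surjective φ.left] [Etale φ.left]
    (e : φ.left (genericPoint E.left) = genericPoint E'.left) :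
    letI := ((E'.left.presheaf.stalkSpecializes (specializes_of_eq e) ≫
      φ.left.stalkMap (genericPoint E.left)).hom).toAlgebra
    IsGalois E'.left.functionField E.left.functionField ∧
      Nat.card (E.left.functionField ≃ₐ[E'.left.functionField] E.left.functionField) =
        Nat.card {P : 𝟙_ (Over (Spec (CommRingCat.of k))) ⟶ E // P ≫ φ = η[E']} := by
  letI := AVDegLib.ffExt φ
  haveI := AVDegLib.finiteDimensional_ff φ
  show IsGalois E'.left.functionField E.left.functionField ∧ _
  haveI : Flat φ.left := inferInstance
  haveI : LocallyOfFinitePresentation φ.left := inferInstance
  obtain ⟨H, hH⟩ := AVDegPoly.exists_subgroup_card_ker φ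
  have h1 : (1 : 𝟙_ (Over (Spec (CommRingCat.of k))) ⟶ E') = η[E'] := by
    rw [Hom.one_def, toUnit_unique (toUnit (𝟙_ _)) (𝟙 _), Category.id_comp]
  rw [h1] at hH
  have hker := AbTors.card_fibre φ η[E']
  rw [AVDegLib.finrank_eq φ] at hker
  haveI : Finite (E.left.functionField ≃ₐ[E'.left.functionField] E.left.functionField) := inferInstance
  have hle : Nat.card (E.left.functionField ≃ₐ[E'.left.functionField] E.left.functionField) ≤
      Module.finrank E'.left.functionField E.left.functionField := by
    rw [Nat.card_eq_fintype_card]; exact AlgEquiv.card_le
  have hge := H.card_le_card_group
  have heq : Nat.card (E.left.functionField ≃ₐ[E'.left.functionField] E.left.functionField) =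
      Module.finrank E'.left.functionField E.left.functionField := by omega
  exact ⟨IsGalois.of_card_aut_eq_finrank _ _ heq, heq.trans hker.symm⟩

end Groth.Agent.S11094
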