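import Groth.Statements.S11095
import Groth.Agent.FormCat.HenselDomain
-- import your own Groth.Agent.* helpers here

set_option autoImplicit false
universe u
open CAlg

namespace Groth.Agent.S11095

/-- Let K₀ be a perfect field, K an algebraic extension of K₀ and F₀ a field extension of K₀ such that
K₀ is algebraically closed in F₀. Then the K₀-algebra F₀ ⊗ K is a field; consequently F₀ and K,
embedded in it by x ↦ x ⊗ 1 and y ↦ 1 ⊗ y, are linearly disjoint over K₀. -/
theorem result (K₀ F₀ K : Type u)
    [Field K₀] [PerfectField K₀] [Field F₀] [Algebra K₀ F₀] [Field K] [Algebra K₀ K]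
    [Algebra.IsAlgebraic K₀ K] (h : algebraicClosure K₀ F₀ = ⊥) :
    IsField (TensorProduct K₀ F₀ K) := by
  have hdom : IsDomain (TensorProduct K₀ K F₀) := by
    refine Groth.Agent.FormCat.isDomain_tensor_of_finite K₀ F₀ (fun L _ _ hL => ?_) K
    obtain ⟨α, hα⟩ := Field.exists_primitive_element K₀ L
    have hint : IsIntegral K₀ α := Algebra.IsIntegral.isIntegral α
    let p := minpoly K₀ α
    let P := p.map (algebraMap K₀ F₀)
    have hPm : P.Monic := (minpoly.monic hint).map _
    have hirr : Irreducible P := by
      have hP1 : P ≠ 1 := fun h1 => by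
        have := congrArg Polynomial.natDegree h1
        rw [Polynomial.natDegree_map, Polynomial.natDegree_one] at this
        exact (minpoly.natDegree_pos hint).ne' this
      rw [Polynomial.irreducible_of_monic hPm hP1]
      intro f g hf hg hfg
      have lift : ∀ q : Polynomial F₀, q.Monic → q ∣ P →
          ∃ r : Polynomial K₀, r.Monic ∧ r.map (algebraMap K₀ F₀) = q := by
        intro q hq hd
        have hlift : q ∈ Polynomial.lifts (algebraMap K₀ F₀) := by
          rw [Polynomial.lifts_iff_coeff_lifts]
          intro i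
          have hi := Polynomial.isIntegral_coeff_of_dvd p q (minpoly.monic hint) hq hd i
          have hm : q.coeff i ∈ algebraicClosure K₀ F₀ :=
            mem_algebraicClosure_iff.2 hi.isAlgebraic
          rw [h] at hm
          exact IntermediateField.mem_bot.1 hm
        obtain ⟨r, hr, -, hrm⟩ := Polynomial.lifts_and_natDegree_eq_and_monic hlift hq
        exact ⟨r, hrm, hr⟩
      obtain ⟨f', hf', rfl⟩ := lift f hf ⟨g, hfg.symm⟩
      obtain ⟨g', hg', rfl⟩ := lift g hg ⟨_, by rw [mul_comm]; exact hfg.symm⟩
      have hp : f' * g' = p := Polynomial.map_injective _ (algebraMap K₀ F₀).injective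
        (by rw [Polynomial.map_mul]; exact hfg)
      rcases (Polynomial.irreducible_of_monic (minpoly.monic hint) (minpoly.ne_one K₀ α)).1
        (minpoly.irreducible hint) f' g' hf' hg' hp with rfl | rfl
      · exact Or.inl (Polynomial.map_one _)
      · exact Or.inr (Polynomial.map_one _)
    have := Fact.mk hirr
    have hev : Polynomial.eval₂ (Algebra.ofId F₀ (TensorProduct K₀ F₀ L))
        ((1 : F₀) ⊗ₜ[K₀] α) P = 0 := by
      rw [Polynomial.eval₂_map]
      have := congrArg (Algebra.TensorProduct.includeRight (R := K₀) (A := F₀) (B := L))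
        (minpoly.aeval K₀ α)
      rw [← Polynomial.aeval_algHom_apply, map_zero, Polynomial.aeval_def] at this
      change Polynomial.eval₂ ((algebraMap F₀ (TensorProduct K₀ F₀ L)).comp (algebraMap K₀ F₀))
        ((1 : F₀) ⊗ₜ[K₀] α) p = 0
      rw [← IsScalarTower.algebraMap_eq]
      exact this
    let Φ : AdjoinRoot P →ₐ[F₀] TensorProduct K₀ F₀ L :=
      AdjoinRoot.liftAlgHom P (Algebra.ofId _ _) ((1 : F₀) ⊗ₜ[K₀] α) hev
    have hΦα : (1 : F₀) ⊗ₜ[K₀] α ∈ Φ.range := ⟨AdjoinRoot.root P, by simp [Φ]⟩
    have hsurj : Function.Surjective Φ := by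
      rw [← AlgHom.range_eq_top, eq_top_iff]
      intro x hx
      clear hx
      induction x with
      | zero => exact zero_mem _
      | add a b ha hb => exact add_mem ha hb
      | tmul a b =>
        have hb : b ∈ Algebra.adjoin K₀ ({α} : Set L) := by
          rw [← IntermediateField.adjoin_simple_toSubalgebra_of_isAlgebraic hint.isAlgebraic, hα]
          exact trivial
        have h1b : (1 : F₀) ⊗ₜ[K₀] b ∈ Φ.range := by
          induction hb using Algebra.adjoin_induction with
          | mem y hy => rw [Set.mem_singleton_iff.1 hy]; exact hΦα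
          | algebraMap r =>
            rw [show (1 : F₀) ⊗ₜ[K₀] algebraMap K₀ L r =
              algebraMap F₀ (TensorProduct K₀ F₀ L) (algebraMap K₀ F₀ r) by
              rw [← IsScalarTower.algebraMap_apply]
              exact (Algebra.TensorProduct.includeRight (R := K₀) (A := F₀) (B := L)).commutes r]
            exact Subalgebra.algebraMap_mem _ _
          | add y z _ _ hy hz => rw [TensorProduct.tmul_add]; exact add_mem hy hz
          | mul y z _ _ hy hz =>
            rw [show (1 : F₀) ⊗ₜ[K₀] (y * z) = ((1 : F₀) ⊗ₜ[K₀] y) * ((1 : F₀) ⊗ₜ[K₀] z) by simp]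
            exact mul_mem hy hz
        rw [show a ⊗ₜ[K₀] b = a • ((1 : F₀) ⊗ₜ[K₀] b) by rw [TensorProduct.smul_tmul', smul_eq_mul, mul_one]]
        exact Subalgebra.smul_mem _ h1b a
    have : Nontrivial (TensorProduct K₀ F₀ L) :=
      Algebra.TensorProduct.nontrivial_of_algebraMap_injective_of_flat_left K₀ F₀ L
        (algebraMap K₀ L).injective
    let e := AlgEquiv.ofBijective Φ ⟨Φ.toRingHom.injective, hsurj⟩
    have : IsDomain (TensorProduct K₀ F₀ L) := e.symm.toMulEquiv.isDomain (AdjoinRoot P)
    exact (Algebra.TensorProduct.comm K₀ L F₀).toMulEquiv.isDomain (TensorProduct K₀ F₀ L)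
  have : IsDomain (TensorProduct K₀ F₀ K) :=
    (Algebra.TensorProduct.comm K₀ F₀ K).toMulEquiv.isDomain (TensorProduct K₀ K F₀)
  exact Algebra.TensorProduct.isField_of_isAlgebraic K₀ F₀ K (Or.inr inferInstance)


end Groth.Agent.S11095
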