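import Groth.Statements.S11154
import Groth.Agent.Coh32.InjAffine
import Groth.Agent.FlatFun4.StalkDesc
import Groth.Agent.GrpSchLib.FieldSmooth

set_option autoImplicit false
universe u
open CategoryTheory CategoryTheory.Limits AlgebraicGeometry
open Coherent

namespace Groth.Agent.S11154

/-- Let X be a locally Noetherian scheme, x a point of X, and k(x) → E an injective hull of the residue
field over the local ring O_{X,x}. Then the direct image along Spec O_{X,x} ⟶ X of the sheaf E~ on
Spec O_{X,x} is an injective O_X-module (an injective object of the category of O_X-modules), and it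
is quasi-coherent. -/
theorem result {X : Scheme.{u}} [IsLocallyNoetherian X]
    (x : X) (E : Type u) [AddCommGroup E] [Module (X.presheaf.stalk x) E]
    (i : IsLocalRing.ResidueField (X.presheaf.stalk x) →ₗ[X.presheaf.stalk x] E)
    (hi : InjHull.IsInjectiveHull i) :
    Injective ((Scheme.Modules.pushforward (X.fromSpecStalk x)).obj
        (tilde (ModuleCat.of (X.presheaf.stalk x) E))) ∧
      Coh.IsQCoh ((Scheme.Modules.pushforward (X.fromSpecStalk x)).obj
        (tilde (ModuleCat.of (X.presheaf.stalk x) E))) := by
  haveI : IsNoetherianRing (X.presheaf.stalk x) := by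
    obtain ⟨_, ⟨U, hU, rfl⟩, hxU, -⟩ :=
      X.isBasis_affineOpens.exists_subset_of_mem_open (Set.mem_univ x) isOpen_univ
    haveI : IsNoetherianRing Γ(X, U) := IsLocallyNoetherian.component_noetherian ⟨U, hU⟩
    letI := TopCat.Presheaf.algebra_section_stalk X.presheaf (⟨x, hxU⟩ : U)
    haveI := IsAffineOpen.isLocalization_stalk hU ⟨x, hxU⟩
    exact IsLocalization.isNoetherianRing (IsAffineOpen.primeIdealOf hU ⟨x, hxU⟩).asIdeal.primeCompl _ inferInstance
  haveI := Groth.Agent.Coh32.noetherian_top (R := X.presheaf.stalk x)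
  have hq : Coh.IsQCoh (tilde (ModuleCat.of (X.presheaf.stalk x) E)) :=
    inferInstanceAs ((tilde (ModuleCat.of (X.presheaf.stalk x) E)).IsQuasicoherent)
  have hT : Injective (tilde (ModuleCat.of (X.presheaf.stalk x) E)) :=
    Groth.Agent.Coh32.injective_of_baer_top hq
      (Groth.Agent.Coh32.baer_tilde_top _ (Module.Baer.of_injective hi.isInjective))
  haveI : Flat (X.fromSpecStalk x) := Groth.Agent.GrpSchLib.flat_fromSpecStalk x
  haveI : (Scheme.Modules.pullback (X.fromSpecStalk x)).PreservesMonomorphisms :=
    ⟨fun a _ => Groth.Agent.FlatFun4.mono_pullback a _⟩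
  refine ⟨Injective.injective_of_adjoint
    (Scheme.Modules.pullbackPushforwardAdjunction (X.fromSpecStalk x)) _, ?_⟩
  exact Groth.Agent.QCoh.isQCoh_pushforward _ hq

end Groth.Agent.S11154
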