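import Groth.Statements.S11165
import Groth.Agent.QCoh.RpushAbGod

set_option autoImplicit false
universe u
open CategoryTheory CategoryTheory.Limits AlgebraicGeometry
open Coherent

namespace Groth.Agent.S11165

/-- Let f : X ⟶ Y be a separated morphism of schemes, U an open of X on which f restricts to an affine
morphism, i : U ⟶ X the inclusion and F a quasi-coherent O_X-module. Then i_*(F|_U) is acyclic for
f_*: its higher direct images R^j f_* vanish for j > 0. (The binder asserting injective resolutions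
of O_X-modules always holds.) -/
theorem result {X Y : Scheme.{u}} (f : X ⟶ Y) [IsSeparated f]
    (U : X.Opens) [IsAffineHom (U.ι ≫ f)] (F : X.Modules) (hF : Coh.IsQCoh F)
    [HasInjectiveResolutions X.Modules] (j : ℕ) (hj : 0 < j) :
    IsZero ((Coh.Rpush f j).obj ((Scheme.Modules.pushforward U.ι).obj ((Scheme.Modules.restrictFunctor U.ι).obj F))) := by
  obtain ⟨q, rfl⟩ : ∃ q, j = q + 1 := ⟨j - 1, by omega⟩
  haveI : IsAffineHom U.ι := IsAffineHom.of_comp U.ι f
  have hFU := Groth.Agent.QCoh.isQCoh_restrict U.ι hF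
  obtain ⟨e⟩ := Groth.Agent.QCoh.nonempty_RpushAb_affine_push U.ι f hFU (q+1)
  have h0 := IsZero.of_iso (Groth.Agent.QCoh.RpushAb_isZero_of_isAffineHom (U.ι ≫ f) hFU q) e
  obtain ⟨e₁⟩ := Groth.Agent.QCoh.nonempty_RpushAb_iso f ((Scheme.Modules.pushforward U.ι).obj ((Scheme.Modules.restrictFunctor U.ι).obj F)) q
  obtain ⟨e₂⟩ := Groth.Agent.QCoh.nonempty_Rpush_iso f ((Scheme.Modules.pushforward U.ι).obj ((Scheme.Modules.restrictFunctor U.ι).obj F)) q
  refine IsZero.of_iso ?_ e₂
  have h1 := IsZero.of_iso h0 e₁.symm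
  haveI : (Groth.Agent.QCoh.toAbFunctor Y).Faithful := inferInstanceAs (SheafOfModules.toSheaf Y.ringCatSheaf).Faithful
  rw [IsZero.iff_id_eq_zero]
  apply (Groth.Agent.QCoh.toAbFunctor Y).map_injective
  exact h1.eq_of_src _ _

end Groth.Agent.S11165
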