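import Groth.Statements.S1117
import Groth.Agent.Perf52.PushPerfTensor
import Groth.Agent.S0965

set_option autoImplicit false
universe u
open CategoryTheory CategoryTheory.Limits AlgebraicGeometry Opposite
attribute [local instance] HasDerivedCategory.standard
open Perf

namespace Groth.Agent.S1117

/-- In the case of a single module: let S be Noetherian, f : X ⟶ S locally of finite type, E a cochain
complex of O_X-modules whose image in D(O_X) is perfect, and G a coherent O_X-module flat over S
with support proper over S. Assuming the derived functors exist, Rf_* RHom(E, G) is a perfect object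
of D(O_S). (The source allows a bounded complex of such modules G.) -/
theorem result {X S : Scheme.{u}} [IsNoetherian S] (f : X ⟶ S) [LocallyOfFiniteType f]
    (E : CochainComplex X.Modules ℤ) (hE : DCoh.IsPerfect (DCoh.toD X E)) [DCoh.HasLTensorCx E] [DCoh.HasRSheafHom E] [DCoh.HasRpush f]
    (G : X.Modules) (hG : Coh.IsCoh G) (hflat : FlatMod.IsFlatOver f G) (hsupp : ClSub.IsProperOver f (CohB1.support G)) :
    DCoh.IsPerfect ((DCoh.Rpush f).obj ((DCoh.RSheafHom E).obj (DCoh.inD X G))) := by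
  let R := KFlatLib.repK (DCoh.toD X E)
  have hR : DCoh.IsKFlat R := KFlatLib.isKFlat_repK _
  haveI := KFlatLib.hasLTensorCx R
  obtain ⟨eT⟩ := KFlatLib.nonempty_LTensorCx_congr_D (KFlatLib.repKIso (DCoh.toD X E))
  let adj := (DCoh.RSheafHomAdj E).ofNatIsoLeft eT.symm
  haveI : DCoh.HasRSheafHom R := adj.isLeftAdjoint
  let eH : DCoh.RSheafHom E ≅ DCoh.RSheafHom R := adj.rightAdjointUniq (DCoh.RSheafHomAdj R)
  have hRp : DCoh.IsPerfect (DerivedCategory.Q.obj R) :=
    (KFlatLib.isPerfect_iff _).2 (((KFlatLib.isPerfect_iff _).1 hE).of_iso (KFlatLib.repKIso _).symm)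
  obtain ⟨hdual, hiso⟩ := Groth.Agent.S0965.result R hR hRp
  let D := KFlatLib.repK
    ((DCoh.RSheafHom R).obj ((DerivedCategory.singleFunctor X.Modules 0).obj (Coh.structureModule X)))
  have hD : DCoh.IsKFlat D := KFlatLib.isKFlat_repK _
  haveI := KFlatLib.hasLTensorCx D
  haveI := KFlatLib.hasLTensorMod G
  let S0 := (HomologicalComplex.single X.Modules (ComplexShape.up ℤ) 0).obj G
  obtain ⟨eD⟩ := hiso D hD ⟨KFlatLib.repKIso _⟩ (DCoh.inD X G)
  haveI := KFlatLib.isIso_ltensorModComparison G hD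
  let e : (DCoh.RSheafHom E).obj (DCoh.inD X G) ≅ (DCoh.LTensorMod G).obj (DCoh.toD X D) :=
    eH.app _ ≪≫ eD.symm ≪≫
      (DCoh.LTensorCx D).mapIso ((DerivedCategory.singleFunctorIsoCompQ X.Modules 0).app G) ≪≫
      @asIso _ _ _ _ _ (KFlatLib.isIso_LTensorCx_counit_of_isKFlat_right D hD S0) ≪≫
      DerivedCategory.Q.mapIso ((KFlatLib.symmIso (KFlatLib.tensorBiFlipIso X) D).app S0) ≪≫
      DerivedCategory.Q.mapIso ((KFlatLib.singleIso DCoh.tensorBi G).app D) ≪≫
      (asIso ((KFlatLib.ltensorModComparison G).app D)).symm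
  have h := Perf52.isPerfect_rpush_ltensorMod f (E := DCoh.toD X D)
    ((KFlatLib.isPerfect_iff _).2 (((KFlatLib.isPerfect_iff _).1 hdual).of_iso
      (KFlatLib.repKIso _).symm)) hG hflat hsupp
  exact (KFlatLib.isPerfect_iff _).2
    (((KFlatLib.isPerfect_iff _).1 h).of_iso ((DCoh.Rpush f).mapIso e).symm)

end Groth.Agent.S1117
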