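import Groth.Statements.S1122
import Groth.Agent.Der55.CartanEilenberg

set_option autoImplicit false
universe v u
open CategoryTheory CategoryTheory.Limits
open CohDer

namespace Groth.Agent.S1122

/-- Existence of Cartan–Eilenberg resolutions: let A be an abelian category with enough injectives and K
a bounded below cochain complex in A. There is a double complex I — written as a cochain complex (in
the vertical degree q) of cochain complexes (in the horizontal degree p) — with an augmentation ε :
K ⟶ I⁰ killed by the vertical differential I⁰ ⟶ I¹, such that: I^{p,q} = 0 for p below some bound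
and for q < 0; for every p the column (I^{p,q})_q with augmentation εᵖ is an injective resolution of
Kᵖ; the column of horizontal cycles at p, with the augmentation induced on cycles, is an injective
resolution of the cycles Zᵖ(K); and the column of horizontal cohomology at p, with the induced
augmentation, is an injective resolution of Hᵖ(K). (The usual definition of a Cartan–Eilenberg
resolution also asks the columns of horizontal images to resolve the images Bᵖ(K); that condition is
not asserted here.) -/
theorem result {A : Type u} [Category.{v} A] [Abelian A] [EnoughInjectives A]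
    (K : CochainComplex A ℤ) (n : ℤ) [K.IsStrictlyGE n] :
    ∃ (I : CochainComplex (CochainComplex A ℤ) ℤ) (ε : K ⟶ I.X 0) (hε : ε ≫ I.d 0 1 = 0),
      (∃ i : ℤ, ∀ p q : ℤ, p < i → IsZero ((I.X q).X p)) ∧
      (∀ p : ℤ, CE.IsInjResolutionVia (((HomologicalComplex.eval A (ComplexShape.up ℤ) p).mapHomologicalComplex (ComplexShape.up ℤ)).obj I) (K.X p) (ε.f p)) ∧
      (∀ p : ℤ, CE.IsInjResolutionVia (((HomologicalComplex.cyclesFunctor A (ComplexShape.up ℤ) p).mapHomologicalComplex (ComplexShape.up ℤ)).obj I) (K.cycles p) (HomologicalComplex.cyclesMap ε p)) ∧
      (∀ p : ℤ, CE.IsInjResolutionVia (((HomologicalComplex.homologyFunctor A (ComplexShape.up ℤ) p).mapHomologicalComplex (ComplexShape.up ℤ)).obj I) (K.homology p) (HomologicalComplex.homologyMap ε p)) := by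
  open Groth.Agent.Der55.CEres in
  refine ⟨res n K, aug n K, aug_d n K, ⟨n, fun p q hp => isZero_X n K p q hp⟩,
    fun p => ?_, fun p => ?_, fun p => ?_⟩
  · exact Groth.Agent.Der55.CEres.isInjResolutionVia n K (HomologicalComplex.eval A _ p)
      (fun S => S.eval_shortExact p) (fun S => Groth.Agent.Der55.CEres.injective_tgt_X S.C n p)
  · exact Groth.Agent.Der55.CEres.isInjResolutionVia n K (HomologicalComplex.cyclesFunctor A _ p)
      (fun S => S.cycles_shortExact p) (fun S => Groth.Agent.Der55.CEres.injective_tgt_cycles S.C n p)
  · exact Groth.Agent.Der55.CEres.isInjResolutionVia n K (HomologicalComplex.homologyFunctor A _ p)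
      (fun S => S.homology_shortExact p) (fun S => Groth.Agent.Der55.CEres.injective_tgt_homology S.C n p)

end Groth.Agent.S1122
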