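import Groth.Statements.S11229
import Groth.Agent.AGF27.UnipFix
import Groth.Agent.AGF27.Unip.GeomFibre
-- import your own Groth.Agent.* helpers here

set_option autoImplicit false
universe u
open CategoryTheory MonoidalCategory CartesianMonoidalCategory MonObj GrpObj AlgebraicGeometry
open scoped TensorProduct
open AGF

namespace Groth.Agent.S11229

/-- Let k an algebraically closed field, G a connected reductive linear algebraic group over k, B a
Borel subgroup of G with unipotent radical U (a maximal unipotent subgroup), and let A be a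
commutative k-algebra with a rational action of G by algebra automorphisms. Then A has a nonzero
nilpotent element if and only if A^U does; equivalently A is reduced if and only if A^U is reduced. -/
theorem result (k : Type u) [Field k] [IsAlgClosed k]
    (G : Over (Spec (CommRingCat.of k))) [GrpObj G] (hG : Red.IsReductiveOver k G)
    (Bo : Over (Spec (CommRingCat.of k))) [GrpObj Bo] (iB : Bo ⟶ G) (hB : Red.IsBorelOver k iB)
    (U : Over (Spec (CommRingCat.of k))) [GrpObj U] (u : U ⟶ Bo) (hU : Par.IsUnipotentRadical u)
    (A : Type u) [CommRing A] [Algebra k A] (ρ : VecGrp.GMod G A) (hρ : ρ.IsMult) :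
    IsReduced A ↔ IsReduced ↥(ρ.fixedSubalgebra hρ (u ≫ iB)) := by
  obtain ⟨hGaff, hGsm, -, -⟩ := hG
  obtain ⟨hiBm, hiBc, -, -, -, -⟩ := hB
  obtain ⟨hum, huc, hUsm, hUconn, hUno⟩ := AGF27.Unip.of_isUnipotentRadical hU
  haveI := hGaff; haveI := hGsm; haveI := hiBm; haveI := hiBc; haveI := hum; haveI := huc; haveI := hUsm
  haveI := hUconn
  haveI : IsAffine Bo.left := isAffine_of_isAffineHom iB.left
  haveI : IsAffine U.left := isAffine_of_isAffineHom u.left
  have hUu := AGF27.Unip.isUnipotent_fn U hUno
  constructor
  · intro h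
    exact isReduced_of_injective (ρ.fixedSubalgebra hρ (u ≫ iB)).val Subtype.val_injective
  · intro h
    refine ⟨fun x hx => ?_⟩
    by_contra hx0
    obtain ⟨y, hy, hy0, hyf⟩ := AGF27.exists_fixed_mem hUu ρ (u ≫ iB) (W := (nilradical A).restrictScalars k)
      (fun g z hz => by
        rw [Submodule.restrictScalars_mem, mem_nilradical] at hz ⊢
        exact hz.map (AGF27.rAlg ρ hρ g)) (Submodule.restrictScalars_mem k _ _ |>.mpr (mem_nilradical.mpr hx)) hx0
    rw [Submodule.restrictScalars_mem, mem_nilradical] at hy
    obtain ⟨n, hn⟩ := hy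
    let z : ↥(ρ.fixedSubalgebra hρ (u ≫ iB)) := ⟨y, hyf⟩
    exact hy0 (congrArg Subtype.val (IsNilpotent.eq_zero (x := z) ⟨n, Subtype.ext (by simpa using hn)⟩))

end Groth.Agent.S11229
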