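import Groth.Statements.S11230
import Groth.Agent.AGF27.UnipZD
import Groth.Agent.AGF27.Unip.GeomFibre
-- import your own Groth.Agent.* helpers here

set_option autoImplicit false
universe u
open CategoryTheory MonoidalCategory CartesianMonoidalCategory MonObj GrpObj AlgebraicGeometry
open scoped TensorProduct
open AGF

namespace Groth.Agent.S11230

/-- Let k an algebraically closed field, G a connected reductive linear algebraic group over k, B a
Borel subgroup of G with unipotent radical U (a maximal unipotent subgroup), and let A be a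
commutative k-algebra with a rational action of G by algebra automorphisms. Then A has zero divisors
(two nonzero elements with product zero) if and only if the algebra of invariants A^U does. -/
theorem result (k : Type u) [Field k] [IsAlgClosed k]
    (G : Over (Spec (CommRingCat.of k))) [GrpObj G] (hG : Red.IsReductiveOver k G)
    (Bo : Over (Spec (CommRingCat.of k))) [GrpObj Bo] (iB : Bo ⟶ G) (hB : Red.IsBorelOver k iB)
    (U : Over (Spec (CommRingCat.of k))) [GrpObj U] (u : U ⟶ Bo) (hU : Par.IsUnipotentRadical u)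
    (A : Type u) [CommRing A] [Algebra k A] (ρ : VecGrp.GMod G A) (hρ : ρ.IsMult) :
    (∃ a b : A, a ≠ 0 ∧ b ≠ 0 ∧ a * b = 0) ↔
      ∃ a b : ↥(ρ.fixedSubalgebra hρ (u ≫ iB)), a ≠ 0 ∧ b ≠ 0 ∧ a * b = 0 := by
  obtain ⟨hGaff, hGsm, -, -⟩ := hG
  obtain ⟨hiBm, hiBc, -, -, -, -⟩ := hB
  obtain ⟨hum, huc, hUsm, hUconn, hUno⟩ := AGF27.Unip.of_isUnipotentRadical hU
  haveI := hGaff; haveI := hGsm; haveI := hiBm; haveI := hiBc; haveI := hum; haveI := huc; haveI := hUsm
  haveI := hUconn
  haveI : IsAffine Bo.left := isAffine_of_isAffineHom iB.left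
  haveI : IsAffine U.left := isAffine_of_isAffineHom u.left
  have hUu := AGF27.Unip.isUnipotent_fn U hUno
  constructor
  · rintro ⟨a, b, ha, hb, hab⟩
    obtain ⟨x, y, hx, hy, hx0, hy0, hxy⟩ := AGF27.exists_fixed_zeroDivisor hUu (AGF27.gmodRes ρ (u ≫ iB))
      (fun B _ _ h => hρ B (h ≫ u ≫ iB)) ha hb hab
    exact ⟨⟨x, AGF27.mem_fixedUnder_gmodRes ρ _ hx⟩, ⟨y, AGF27.mem_fixedUnder_gmodRes ρ _ hy⟩,
      fun h => hx0 (congrArg Subtype.val h), fun h => hy0 (congrArg Subtype.val h), Subtype.ext hxy⟩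
  · rintro ⟨a, b, ha, hb, hab⟩
    exact ⟨a, b, fun h => ha (Subtype.ext h), fun h => hb (Subtype.ext h), congrArg Subtype.val hab⟩

end Groth.Agent.S11230
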