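import Groth.Statements.S11241
import Groth.Agent.AGF27.UnipFix
import Groth.Agent.GrpSchLib.TensorDomain
-- import your own Groth.Agent.* helpers here

set_option autoImplicit false
universe u
open CategoryTheory MonoidalCategory CartesianMonoidalCategory MonObj GrpObj AlgebraicGeometry
open scoped TensorProduct
open AGF
open scoped Groth.Agent.AGF27
open Groth.Agent.GrpSchLib.Kunneth

namespace Groth.Agent.S11241

/-- Let k be an algebraically closed field and H a connected unipotent linear algebraic group over k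
(affine, smooth, connected, with no nontrivial subtorus), acting rationally by algebra automorphisms
on a commutative k-algebra A which is an integral domain. An H-invariant element of the fraction
field of A is a quotient of two H-invariant elements of A: if a₀, b₀ ∈ A with b₀ ≠ 0 satisfy
(h·a₀)·b₀ = a₀·(h·b₀) for every point h of H (invariance of a₀/b₀), then there are a, b ∈ A^H with b
≠ 0 and a·b₀ = b·a₀. (The published statement allows any unipotent H; this row takes H connected.) -/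
theorem result (k : Type u) [Field k] [IsAlgClosed k]
    (H : Over (Spec (CommRingCat.of k))) [GrpObj H] [IsAffine H.left] [Smooth H.hom] [ConnectedSpace H.left]
    (hH : Red.HasNoSubtorus k H)
    (A : Type u) [CommRing A] [IsDomain A] [Algebra k A] (ρ : VecGrp.GMod H A) (hρ : ρ.IsMult)
    (a₀ b₀ : A) (hb₀ : b₀ ≠ 0)
    (hinv : ∀ (B : Type u) [CommRing B] [Algebra k B] (h : VecGrp.pt k B ⟶ H),
      ρ.ρ B h ((1 : B) ⊗ₜ[k] a₀) * ((1 : B) ⊗ₜ[k] b₀) = ((1 : B) ⊗ₜ[k] a₀) * ρ.ρ B h ((1 : B) ⊗ₜ[k] b₀)) :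
    ∃ a b : A, a ∈ ρ.fixedUnder (𝟙 H) ∧ b ∈ ρ.fixedUnder (𝟙 H) ∧ b ≠ 0 ∧ a * b₀ = b * a₀ := by
  letI cA := AGF27.comodOf ρ
  haveI := AGF27.isDomain_fn (G := H)
  haveI : IsDomain (Fn H ⊗[k] A) := by
    haveI : LocallyOfFiniteType H.hom := inferInstance
    exact GrpSchLib.isDomain_tensor_of_isAlgClosed
  let σ : A → (Fn H) ⊗[k] A := fun x => ρ.ρ (Fn H) (AGF27.univPt H) ((1 : (Fn H)) ⊗ₜ[k] x)
  have hσ : ∀ x y, σ (x * y) = σ x * σ y := AGF27.rho_univ_mul ρ hρ
  have hinj : Function.Injective fun x : A => ((1 : (Fn H)) ⊗ₜ[k] x) :=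
    Algebra.TensorProduct.includeRight_injective (A := (Fn H)) (B := A) (algebraMap k (Fn H)).injective
  have hσ0 : σ b₀ ≠ 0 := fun h => hb₀ (hinj (((LinearEquiv.map_eq_zero_iff _).mp h).trans (TensorProduct.tmul_zero _ _).symm))
  have hsw : ∀ a b : A, a * b₀ = b * a₀ → σ a * ((1 : (Fn H)) ⊗ₜ[k] b₀) = σ b * ((1 : (Fn H)) ⊗ₜ[k] a₀) := by
    intro a b h
    have h1 : σ a * σ b₀ = σ b * σ a₀ := by rw [← hσ, ← hσ, h]
    refine mul_right_cancel₀ hσ0 ?_
    calc σ a * ((1 : (Fn H)) ⊗ₜ[k] b₀) * σ b₀ = σ a * σ b₀ * ((1 : (Fn H)) ⊗ₜ[k] b₀) := mul_right_comm _ _ _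
      _ = σ b * (σ a₀ * ((1 : (Fn H)) ⊗ₜ[k] b₀)) := by rw [h1, _root_.mul_assoc]
      _ = σ b * (((1 : (Fn H)) ⊗ₜ[k] a₀) * σ b₀) := by rw [hinv (Fn H) (AGF27.univPt H)]
      _ = σ b * ((1 : (Fn H)) ⊗ₜ[k] a₀) * σ b₀ := (_root_.mul_assoc _ _ _).symm
  let I : Submodule k A := (Ideal.span {b₀}).restrictScalars k
  let φ : A →ₗ[k] A ⧸ I := I.mkQ ∘ₗ LinearMap.mulRight k a₀
  have hker : ∀ b : A, b ∈ LinearMap.ker φ ↔ ∃ a, a * b₀ = b * a₀ := by
    intro b
    rw [LinearMap.mem_ker]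
    show Submodule.Quotient.mk (b * a₀) = 0 ↔ _
    rw [Submodule.Quotient.mk_eq_zero, Submodule.restrictScalars_mem, Ideal.mem_span_singleton']
  have hW : HopfRep.IsSubcomod (k := k) (A := (Fn H)) (LinearMap.ker φ) := by
    intro b hb
    obtain ⟨a, ha⟩ := (hker b).1 hb
    have hex : Function.Exact (LinearMap.ker φ).subtype φ := LinearMap.exact_subtype_ker_map φ
    refine (Module.Flat.rTensor_exact (Fn H) hex _).mp ?_
    show φ.rTensor (Fn H) (TensorProduct.comm k (Fn H) A (σ b)) = 0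
    have e1 : ∀ z : (Fn H) ⊗[k] A, φ.rTensor (Fn H) (TensorProduct.comm k (Fn H) A z) =
        TensorProduct.comm k (Fn H) (A ⧸ I) (I.mkQ.lTensor (Fn H) (z * ((1 : (Fn H)) ⊗ₜ[k] a₀))) := by
      intro z
      induction z using TensorProduct.induction_on with
      | zero => simp
      | tmul c x => simp [φ]
      | add p q hp hq => simp only [map_add, add_mul, hp, hq]
    have e2 : ∀ z : (Fn H) ⊗[k] A, I.mkQ.lTensor (Fn H) (z * ((1 : (Fn H)) ⊗ₜ[k] b₀)) = 0 := by
      intro z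
      induction z using TensorProduct.induction_on with
      | zero => simp
      | tmul c x =>
        rw [Algebra.TensorProduct.tmul_mul_tmul, LinearMap.lTensor_tmul, Submodule.mkQ_apply,
          (Submodule.Quotient.mk_eq_zero I).mpr (Ideal.mem_span_singleton'.mpr ⟨x, rfl⟩), TensorProduct.tmul_zero]
      | add p q hp hq => simp only [map_add, add_mul, hp, hq, add_zero]
    rw [e1, ← hsw a b ha, e2, map_zero]
  obtain ⟨b, hb, hb0, hbfix⟩ := AGF27.exists_fixed_mem_of_isSubcomod ρ (AGF27.Unip.isUnipotent_fn H hH) hW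
    ((hker b₀).2 ⟨a₀, mul_comm _ _⟩) hb₀
  obtain ⟨a, ha⟩ := (hker b).1 hb
  refine ⟨a, b, ?_, hbfix, hb0, ha⟩
  have hfix : ∀ x, x ∈ ρ.fixedUnder (𝟙 H) ↔ σ x = (1 : (Fn H)) ⊗ₜ[k] x := fun x => by
    rw [AGF27.mem_fixedUnder_id_iff, AGF27.coactOf_eq_comm]
    exact ⟨fun h => (TensorProduct.comm k (Fn H) A).injective (h.trans (TensorProduct.comm_tmul k _ _ _ _).symm),
      fun h => (congrArg _ h).trans (TensorProduct.comm_tmul k _ _ _ _)⟩
  refine (hfix a).2 (mul_right_cancel₀ (b := (1 : (Fn H)) ⊗ₜ[k] b₀) (fun h => hb₀ (hinj (h.trans (TensorProduct.tmul_zero _ _).symm))) ?_)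
  rw [hsw a b ha, (hfix b).1 hbfix, Algebra.TensorProduct.tmul_mul_tmul, Algebra.TensorProduct.tmul_mul_tmul, ha]

end Groth.Agent.S11241
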