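import Groth.Statements.S11246
import Groth.Agent.AGF27.SemiInv
import Groth.Agent.AGF27.Unip.GeomFibre
import Groth.Agent.GrpSchLib.TensorDomain
-- import your own Groth.Agent.* helpers here

set_option autoImplicit false
universe u
open CategoryTheory MonoidalCategory CartesianMonoidalCategory MonObj GrpObj AlgebraicGeometry
open scoped TensorProduct
open AGF
open scoped Groth.Agent.AGF27
open Groth.Agent.GrpSchLib.Kunneth

namespace Groth.Agent.S11246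

/-- Let k be an algebraically closed field and H a connected solvable linear algebraic group over k
(affine, smooth, connected, solvable) with maximal torus T and unipotent radical U (so H = T·U),
acting rationally by algebra automorphisms on a commutative k-algebra A which is an integral domain.
Let χ be a character of H and let a₀, b₀ ∈ A, b₀ ≠ 0, be such that H acts on the fraction a₀/b₀
through χ: (h·a₀)·b₀ = χ(h)·a₀·(h·b₀) for every point h of H. Then there are U-invariant elements a,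
b ∈ A with b ≠ 0 and a·b₀ = b·a₀ (so a₀/b₀ = a/b), and a character θ of T such that b is a
T-semi-invariant of weight θ and a is a T-semi-invariant of weight θ + χ|_T. -/
theorem result (k : Type u) [Field k] [IsAlgClosed k]
    (H : Over (Spec (CommRingCat.of k))) [GrpObj H] [IsAffine H.left] [Smooth H.hom] [ConnectedSpace H.left]
    (hsolv : Red.IsSolvableGrp H)
    (T : Over (Spec (CommRingCat.of k))) [GrpObj T] (iT : T ⟶ H) [IsMonHom iT] (hT : AGF.IsMaxTorus iT)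
    (U : Over (Spec (CommRingCat.of k))) [GrpObj U] (uH : U ⟶ H) (hU : Par.IsUnipotentRadical uH)
    (χ : H ⟶ Red.Gm (Spec (CommRingCat.of k))) [IsMonHom χ]
    (A : Type u) [CommRing A] [IsDomain A] [Algebra k A] (ρ : VecGrp.GMod H A) (hρ : ρ.IsMult)
    (a₀ b₀ : A) (hb₀ : b₀ ≠ 0)
    (hχ : ∀ (B : Type u) [CommRing B] [Algebra k B] (h : VecGrp.pt k B ⟶ H),
      ρ.ρ B h ((1 : B) ⊗ₜ[k] a₀) * ((1 : B) ⊗ₜ[k] b₀) =
        VecGrp.chiVal χ h • (((1 : B) ⊗ₜ[k] a₀) * ρ.ρ B h ((1 : B) ⊗ₜ[k] b₀))) :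
    ∃ a b : A, a ∈ ρ.fixedUnder uH ∧ b ∈ ρ.fixedUnder uH ∧ b ≠ 0 ∧ a * b₀ = b * a₀ ∧
      ∃ θ : T ⟶ Red.Gm (Spec (CommRingCat.of k)), IsMonHom θ ∧
        (∀ (B : Type u) [CommRing B] [Algebra k B] (t : VecGrp.pt k B ⟶ T),
          ρ.ρ B (t ≫ iT) ((1 : B) ⊗ₜ[k] b) = VecGrp.chiVal θ t • ((1 : B) ⊗ₜ[k] b)) ∧
        (∀ (B : Type u) [CommRing B] [Algebra k B] (t : VecGrp.pt k B ⟶ T),
          ρ.ρ B (t ≫ iT) ((1 : B) ⊗ₜ[k] a) =
            (VecGrp.chiVal θ t * VecGrp.chiVal χ (t ≫ iT)) • ((1 : B) ⊗ₜ[k] a)) := by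
  obtain ⟨hum, huc, hUsm, hUconn, hUno⟩ := AGF27.Unip.of_isUnipotentRadical hU
  haveI := hum; haveI := huc; haveI := hUsm; haveI := hUconn
  haveI : IsAffine U.left := isAffine_of_isAffineHom uH.left
  haveI := AGF27.isReduced_fn (G := H)
  haveI : LocallyOfFiniteType H.hom := inferInstance
  let J : Submodule k A :=
    { carrier := {b | ∃ a, a * b₀ = b * a₀}
      add_mem' := fun {x y} ⟨a, ha⟩ ⟨a', ha'⟩ => ⟨a + a', by rw [add_mul, add_mul, ha, ha']⟩
      zero_mem' := ⟨0, by simp⟩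
      smul_mem' := fun c x ⟨a, ha⟩ => ⟨c • a, by rw [smul_mul_assoc, smul_mul_assoc, ha]⟩ }
  let C : Fn H := Red.gmFn χ
  have hC : IsGroupLikeElem k C := AGF27.isGroupLikeElem_gmFn χ
  have hCne : ∀ g : VecGrp.pt k k ⟶ H, pullFn g C ≠ 0 := fun g => (hC.isUnit.map (pullFn g)).ne_zero
  have hpt : ∀ g : VecGrp.pt k k ⟶ H, AGF27.rAct ρ g a₀ * b₀ = pullFn g C • (a₀ * AGF27.rAct ρ g b₀) := by
    intro g
    apply AGF27.one_tmul_injective (k := k)
    have h := hχ k g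
    rw [AGF27.chiVal_eq, AGF27.ρ_k_one_tmul, AGF27.ρ_k_one_tmul, Algebra.TensorProduct.tmul_mul_tmul,
      Algebra.TensorProduct.tmul_mul_tmul, _root_.one_mul] at h
    show (1 : k) ⊗ₜ[k] _ = (1 : k) ⊗ₜ[k] _
    rw [TensorProduct.tmul_smul]
    exact h
  have hmove : ∀ (g : VecGrp.pt k k ⟶ H) (a b : A), a * b₀ = b * a₀ →
      AGF27.rAct ρ g a * b₀ = pullFn g C • (AGF27.rAct ρ g b * a₀) := by
    intro g a b hab
    have hne : AGF27.rAct ρ g b₀ ≠ 0 := fun h => hb₀ (by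
      rw [← AGF27.rAct_inv_rAct ρ g b₀, h, map_zero])
    refine mul_left_cancel₀ hne ?_
    calc AGF27.rAct ρ g b₀ * (AGF27.rAct ρ g a * b₀)
        = AGF27.rAct ρ g (a * b₀) * b₀ := by rw [AGF27.rAct_mult ρ hρ]; ring
      _ = AGF27.rAct ρ g b * (AGF27.rAct ρ g a₀ * b₀) := by rw [hab, AGF27.rAct_mult ρ hρ]; ring
      _ = AGF27.rAct ρ g b₀ * pullFn g C • (AGF27.rAct ρ g b * a₀) := by
        rw [hpt, Algebra.smul_def, Algebra.smul_def]; ring
  have hJ : ∀ (g : VecGrp.pt k k ⟶ H), ∀ b ∈ J, AGF27.rAct ρ g b ∈ J := by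
    rintro g b ⟨a, hab⟩
    refine ⟨(pullFn g C)⁻¹ • AGF27.rAct ρ g a, ?_⟩
    rw [smul_mul_assoc, hmove g a b hab, smul_smul, inv_mul_cancel₀ (hCne g), one_smul]
  obtain ⟨n, hn⟩ := hsolv
  obtain ⟨b, ⟨a, hab⟩, hb0, c, hc, hbc⟩ := AGF27.exists_eigen_mem ⟨n, hn _⟩ ρ hJ
    (x := b₀) ⟨a₀, mul_comm _ _⟩ hb₀
  have hac : AGF27.coactOf ρ a = a ⊗ₜ[k] (c * C) := AGF27.coactOf_of_forall_rAct ρ fun g => by
    refine mul_right_cancel₀ hb₀ ?_
    rw [hmove g a b hab, AGF27.rAct_of_coactOf ρ hbc, map_mul, smul_mul_assoc, smul_mul_assoc, smul_smul, hab, mul_comm]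
  have hall : ∀ (x : A) (d : Fn H), AGF27.coactOf ρ x = x ⊗ₜ[k] d → ∀ (B : Type u) [CommRing B] [Algebra k B]
      (h : VecGrp.pt k B ⟶ H), ρ.ρ B h ((1 : B) ⊗ₜ[k] x) = pullFn h d • ((1 : B) ⊗ₜ[k] x) := by
    intro x d hd B _ _ h
    rw [AGF27.ρ_one_tmul, hd, LinearMap.lTensor_tmul, TensorProduct.comm_tmul, TensorProduct.smul_tmul', smul_eq_mul,
      _root_.mul_one]
    rfl
  have hU1 : ∀ d : Fn H, IsGroupLikeElem k d → ev uH d = 1 := fun d hd => by
    refine AGF27.eq_one_of_isGroupLikeElem_of_isUnipotent (AGF27.Unip.isUnipotent_fn U hUno) ?_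
    exact hd.map (AGF27.evBialg uH)
  have hfix : ∀ (x : A) (d : Fn H), IsGroupLikeElem k d → AGF27.coactOf ρ x = x ⊗ₜ[k] d → x ∈ ρ.fixedUnder uH := by
    intro x d hd hx B _ _ h
    rw [hall x d hx, AGF27.pullFn_comp, AlgHom.comp_apply, hU1 d hd, map_one, one_smul]
  obtain ⟨θ, hθ, hθc⟩ := AGF27.exists_character_of_isGroupLikeElem hc
  haveI := hθ
  refine ⟨a, b, hfix a _ (hc.mul hC) hac, hfix b c hc hbc, hb0, hab, iT ≫ θ, inferInstance, fun B _ _ t => ?_,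
    fun B _ _ t => ?_⟩
  · rw [hall b c hbc, ← hθc]
    rfl
  · rw [hall a _ hac, map_mul, ← hθc]
    rfl

end Groth.Agent.S11246
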