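import Groth.Statements.S11297
import Groth.Agent.Grass60.Plucker
import Groth.Agent.Grass60.Closed

set_option autoImplicit false
universe u
open CategoryTheory CategoryTheory.Limits AlgebraicGeometry
open Grass

namespace Groth.Agent.S11297

/-- Let k be an algebraically closed field, M a k-vector space of finite dimension N and 1 ≤ n ≤ N. The
Grassmannian of rank-n locally free quotients of M ⊗ O is a projective k-scheme: its Plücker
morphism to the projective space of the n-th exterior power, of dimension C(N, n) - 1, is a closed
embedding. Stated here for any k-scheme X that represents the Grassmann functor on affine k-schemes,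
i.e. comes with bijections, compatible with base change along k-algebra maps A → B, between the
k-morphisms Spec A → X and the A-submodules of A ⊗_k M whose quotient is finite projective of
constant rank n (Mathlib's Grassmannian functor): there is a closed immersion of X over k into
projective space of dimension C(N, n) - 1 over k. (The existence of the representing scheme and its
smoothness of relative dimension n(N - n) with a cover by affine spaces are not restated here; only
projectivity is, and the closed immersion is asserted to exist rather than named as the Plücker
morphism. The published statement has the universal property on all k-schemes; this row assumes it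
on affine ones, which determines X.) -/
theorem result (k : Type u) [Field k] [IsAlgClosed k]
    (M : Type u) [AddCommGroup M] [Module k M] [FiniteDimensional k M] (N n : ℕ)
    (hN : Module.finrank k M = N) (h1 : 1 ≤ n) (hn : n ≤ N) (X : Over (Spec (CommRingCat.of k)))
    (e : ∀ A : CommAlgCat.{u} k,
      (Over.mk (Spec.map (CommRingCat.ofHom (algebraMap k A))) ⟶ X) ≃
        (Module.Grassmannian.functor (R := k) (M := M) n).obj A)
    (he : ∀ (A B : CommAlgCat.{u} k) (φ : A ⟶ B)
      (g : Over.mk (Spec.map (CommRingCat.ofHom (algebraMap k A))) ⟶ X)
      (g' : Over.mk (Spec.map (CommRingCat.ofHom (algebraMap k B))) ⟶ X),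
      g'.left = Spec.map (CommRingCat.ofHom φ.hom.toRingHom) ≫ g.left →
        e B g' = (Module.Grassmannian.functor (R := k) (M := M) n).map φ (e A g)) :
    ∃ c : X.left ⟶ CohB1.ProjSpaceOver (N.choose n - 1) (Spec (CommRingCat.of k)),
      IsClosedImmersion c ∧
        c ≫ CohB1.ProjSpaceOver.toBase (N.choose n - 1) (Spec (CommRingCat.of k)) = X.hom := by
  let v : (Fin N → k) →ₗ[k] M := ((Module.finBasisOfFinrankEq k M hN).equivFun).symm.toLinearMap
  have hv : Function.Surjective v := (Module.finBasisOfFinrankEq k M hN).equivFun.symm.surjective
  have hbij : ∀ A : CommAlgCat.{u} k,
      Function.Bijective (Groth.Agent.Grass60.comapPt (R := k) (k := n) (A := (A : Type u)) hv) := fun A =>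
    ⟨Groth.Agent.Grass60.comapPt_injective hv, fun P => Groth.Agent.Grass60.exists_comapPt_eq hv P (by
      intro x hx
      have hinj : Function.Injective (v.baseChange (A : Type u)) :=
        ((Module.finBasisOfFinrankEq k M hN).equivFun.symm.baseChange k (A : Type u)).injective
      have h0 : x = 0 := hinj ((LinearMap.mem_ker.1 hx).trans (map_zero _).symm)
      rw [h0]
      exact P.toSubmodule.zero_mem)⟩
  refine Groth.Agent.Grass60.Plucker.exists_closedImmersion_projSpace hn
    (e := fun A => (e A).trans (Equiv.ofBijective _ (hbij A))) fun A B φ g => ?_
  show Groth.Agent.Grass60.comapPt hv (e B _) = _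
  rw [he A B φ g _ rfl]
  exact Groth.Agent.Grass60.comapPt_map hv φ.hom _

end Groth.Agent.S11297
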