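import Groth.Statements.S11321
import Groth.Agent.FlatMisc.ImageFlat
import Groth.Agent.DimFormula.DedekindFlat
import Groth.Agent.PnCoh.Chow.Proper
import Groth.Agent.Triage.SchDense

set_option linter.style.haveILetI false
set_option backward.isDefEq.respectTransparency false
set_option backward.isDefEq.respectTransparency.types false
open CategoryTheory.Limits
-- import your own Groth.Agent.* helpers here

set_option autoImplicit false
universe u
open CategoryTheory CategoryTheory.Limits AlgebraicGeometry
open FlatMor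

namespace Groth.Agent.S11321

/-- An affine open of a regular integral scheme of dimension `≤ 1` is a Dedekind scheme. -/
theorem isDedekindDomain_affineOpen {Y : Scheme.{u}} [IsIntegral Y] [IsLocallyNoetherian Y]
    (hreg : ∀ y : Y, IsRegularLocalRing (Y.presheaf.stalk y)) (hY : topologicalKrullDim ↥Y ≤ 1)
    {V : Y.Opens} (hV : IsAffineOpen V) [Nonempty V] : IsDedekindDomain Γ(Y, V) := by
  haveI : IsNoetherianRing Γ(Y, V) := IsLocallyNoetherian.component_noetherian ⟨V, hV⟩
  haveI : IsDedekindDomainDvr Γ(Y, V) := by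
    refine { noetherian := IsNoetherian.noetherian, is_dvr_at_nonzero_prime := fun P hP hPp => ?_ }
    let y : Y := hV.fromSpec ⟨P, hPp⟩
    have hyV : y ∈ V := by
      rw [← SetLike.mem_coe, ← hV.range_fromSpec]
      exact ⟨_, rfl⟩
    letI := Y.presheaf.algebra_section_stalk ⟨y, hyV⟩
    haveI : IsLocalization.AtPrime (Y.presheaf.stalk y) P := hV.isLocalization_stalk' ⟨P, hPp⟩ hyV
    haveI := hreg y
    have hdim : ringKrullDim (Y.presheaf.stalk y) ≤ 1 := by
      refine le_trans ?_ hY
      rw [ringKrullDim_stalk_eq_coheight, topologicalKrullDim,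
        Order.krullDim_eq_of_orderIso (irreducibleSetEquivPoints (α := Y))]
      exact Order.coheight_le_krullDim y
    haveI := DimFormula.isPrincipalIdealRing_of_regular_dim_le_one hdim
    let e : Y.presheaf.stalk y ≃+* Localization.AtPrime P :=
      (IsLocalization.algEquiv P.primeCompl (Y.presheaf.stalk y) (Localization.AtPrime P)).toRingEquiv
    haveI : IsPrincipalIdealRing (Localization.AtPrime P) :=
      IsPrincipalIdealRing.of_surjective e.toRingHom e.surjective
    exact { not_a_field' := by
              rw [Ne, ← IsLocalRing.isField_iff_maximalIdeal_eq]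
              exact IsLocalization.AtPrime.not_isField _ hP _ }
  infer_instance

/-- The closed subscheme cut out by a morphism is determined by a schematically dominant factorisation. -/
theorem ker_eq_of_dominant {X Z Z' : Scheme.{u}} (j : X ⟶ Z) (i : Z ⟶ Z') [IsSchemeTheoreticallyDominant j] :
    (j ≫ i).ker = i.ker := by
  rw [Scheme.Hom.ker_comp, j.ker_eq_bot, Scheme.IdealSheafData.map_bot]

theorem flat_imageι_of_dedekind {Y P X : Scheme.{u}} [IsIntegral Y] [IsLocallyNoetherian Y]
    (hreg : ∀ y : Y, IsRegularLocalRing (Y.presheaf.stalk y)) (hY : topologicalKrullDim ↥Y ≤ 1)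
    (q : P ⟶ Y) (f : X ⟶ P) [QuasiCompact f] [Flat (f ≫ q)] : Flat (f.imageι ≫ q) := by
  refine IsZariskiLocalAtTarget.of_forall_exists_morphismRestrict fun y => ?_
  obtain ⟨_, ⟨V, hV, rfl⟩, hyV, -⟩ :=
    Y.isBasis_affineOpens.exists_subset_of_mem_open (Set.mem_univ y) isOpen_univ
  haveI : Nonempty V := ⟨⟨y, hyV⟩⟩
  haveI := isDedekindDomain_affineOpen hreg hY hV
  refine ⟨V, hyV, ?_⟩
  let W := q ⁻¹ᵁ V
  let f' := f ∣_ W
  let q' := q ∣_ V ≫ hV.isoSpec.hom
  haveI : Flat (f' ≫ q') := by
    haveI : Flat (f' ≫ q ∣_ V) := by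
      show Flat (f ∣_ q ⁻¹ᵁ V ≫ q ∣_ V)
      rw [← morphismRestrict_comp]
      exact IsZariskiLocalAtTarget.restrict (P := @Flat) (inferInstanceAs (Flat (f ≫ q))) V
    rw [← Category.assoc]
    infer_instance
  have h1 : Flat (f'.imageι ≫ q') := FlatMisc.flat_imageι (R := Γ(Y, V)) q' f'
  haveI h2 : Flat (f'.imageι ≫ q ∣_ V) := by
    have e : f'.imageι ≫ q ∣_ V = (f'.imageι ≫ q') ≫ hV.isoSpec.inv := by
      simp [q']
    rw [e]
    infer_instance
  haveI : IsSchemeTheoreticallyDominant (f.toImage ∣_ f.imageι ⁻¹ᵁ W) := by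
    haveI := Triage.SchDense.isSchemeTheoreticallyDominant_toImage f
    exact IsSchemeTheoreticallyDominant.of_isPullback (isPullback_morphismRestrict _ _).flip
  have hker : f'.ker = (f.imageι ∣_ W).ker := by
    show (f ∣_ W).ker = _
    rw [← ker_eq_of_dominant (f.toImage ∣_ f.imageι ⁻¹ᵁ W) (f.imageι ∣_ W)]
    congr 1
    rw [← morphismRestrict_comp]
    congr 1
    exact f.toImage_imageι.symm
  have hker' : f'.imageι.ker = (f.imageι ∣_ W).ker := by
    rw [← hker]; exact Scheme.IdealSheafData.ker_subschemeι _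
  haveI := IsClosedImmersion.isIso_lift f'.imageι (f.imageι ∣_ W) hker'
  have e : (f.imageι ≫ q) ∣_ V =
      IsClosedImmersion.lift f'.imageι (f.imageι ∣_ W) hker'.le ≫ f'.imageι ≫ q ∣_ V := by
    rw [IsClosedImmersion.lift_fac_assoc, morphismRestrict_comp]
  rw [e]
  infer_instance

/-- Flat limits over a curve: let Y be a locally Noetherian integral scheme of dimension one all of
whose local rings are regular local rings, P a closed point of Y with open complement U, V = P^n_U
the inverse image of U in P^n_Y, and X a closed subscheme of V (a closed immersion i : X → V) which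
is flat over Y, equivalently over U. Then X extends to a closed subscheme X' of P^n_Y which is flat
over Y and whose restriction to V is X — there are a closed immersion i' : X' → P^n_Y with X' → Y
flat and a morphism j : X → X' making X the fibre product of X' and V over P^n_Y — and such an
extension is unique: for any second one (X'', i'', j'') there is an isomorphism X' ≅ X'' over P^n_Y.
(The published statement does not say that Y is locally Noetherian; the printed argument, through
associated points and the scheme-theoretic closure, uses it, and this row assumes it.) -/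
theorem result
    {Y : Scheme.{u}} [IsIntegral Y] [IsLocallyNoetherian Y] (hreg : ∀ y : Y, IsRegularLocalRing (Y.presheaf.stalk y))
    (hY : topologicalKrullDim ↥Y = 1) (P : Y) (U : Y.Opens) (hU : (U : Set ↥Y) = {P}ᶜ) (n : ℕ)
    (X : Scheme.{u}) (i : X ⟶ ↑(CohB1.ProjSpaceOver.toBase n Y ⁻¹ᵁ U)) [IsClosedImmersion i]
    [Flat (i ≫ (CohB1.ProjSpaceOver.toBase n Y ⁻¹ᵁ U).ι ≫ CohB1.ProjSpaceOver.toBase n Y)] :
    ∃ (X' : Scheme.{u}) (i' : X' ⟶ CohB1.ProjSpaceOver n Y) (j : X ⟶ X'),
      IsClosedImmersion i' ∧ Flat (i' ≫ CohB1.ProjSpaceOver.toBase n Y) ∧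
      IsPullback j i i' (CohB1.ProjSpaceOver.toBase n Y ⁻¹ᵁ U).ι ∧
      ∀ (X'' : Scheme.{u}) (i'' : X'' ⟶ CohB1.ProjSpaceOver n Y) (j'' : X ⟶ X''),
        IsClosedImmersion i'' → Flat (i'' ≫ CohB1.ProjSpaceOver.toBase n Y) →
        IsPullback j'' i i'' (CohB1.ProjSpaceOver.toBase n Y ⁻¹ᵁ U).ι →
        ∃ e : X' ≅ X'', e.hom ≫ i'' = i' := by
  classical
  haveI : IsProper (CohB1.ProjSpace.toSpec n (ULift.{u} ℤ)) := PnCoh.Chow.isProper_toSpec n _
  haveI : IsProper (CohB1.ProjSpaceOver.toBase n Y) :=
    inferInstanceAs (IsProper (pullback.snd (CohB1.ProjSpace.toSpec n (ULift.{u} ℤ)) _))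
  let q := CohB1.ProjSpaceOver.toBase n Y
  let W := q ⁻¹ᵁ U
  haveI : IsLocallyNoetherian (CohB1.ProjSpaceOver n Y) := LocallyOfFiniteType.isLocallyNoetherian q
  let f := i ≫ W.ι
  haveI : Flat (f ≫ q) := by rw [Category.assoc]; infer_instance
  haveI : QuasiCompact W.ι := inferInstance
  haveI : QuasiCompact f := inferInstance
  haveI := Triage.SchDense.isSchemeTheoreticallyDominant_toImage f
  haveI := flat_imageι_of_dedekind hreg hY.le q f
  -- the restriction of the closure
  let j' : X ⟶ pullback f.imageι W.ι := pullback.lift f.toImage i f.toImage_imageι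
  have hsq : IsPullback j' (𝟙 X) (pullback.fst f.imageι W.ι) f.toImage := by
    refine IsPullback.of_right ?_ (by simp [j']) (IsPullback.of_hasPullback f.imageι W.ι).flip
    have h1 : j' ≫ pullback.snd f.imageι W.ι = i := pullback.lift_snd _ _ _
    rw [h1, f.toImage_imageι]
    refine ⟨⟨by simp [f]⟩, ⟨PullbackCone.IsLimit.mk _ (fun c => c.snd) ?_ ?_ ?_⟩⟩
    · intro c
      rw [← cancel_mono W.ι, Category.assoc]
      exact c.condition.symm
    · intro c; exact Category.comp_id _
    · intro c m _ hm; simpa using hm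
  haveI : IsSchemeTheoreticallyDominant j' := IsSchemeTheoreticallyDominant.of_isPullback hsq.flip
  have hj : IsClosedImmersion j' := by
    haveI : IsClosedImmersion (j' ≫ pullback.snd f.imageι W.ι) := by rw [pullback.lift_snd]; infer_instance
    exact IsClosedImmersion.of_comp j' (pullback.snd f.imageι W.ι)
  haveI : IsIso j' := IsClosedImmersion.isIso_of_ker_eq j' (𝟙 _) j' (Category.comp_id _)
    (by rw [j'.ker_eq_bot]; exact (Scheme.Hom.ker_eq_bot (𝟙 (pullback f.imageι W.ι) : _ ⟶ _)).symm)
  refine ⟨f.image, f.imageι, f.toImage, inferInstance, inferInstance, ?_, ?_⟩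
  · exact IsPullback.of_iso_pullback ⟨f.toImage_imageι⟩ (asIso j') (pullback.lift_fst _ _ _) (pullback.lift_snd _ _ _)
  intro X'' i'' j'' _ hflat hpb
  haveI : IsSchemeTheoreticallyDominant U.ι := by
    haveI : Nonempty Y := ⟨P⟩
    haveI : IsDominant U.ι := ⟨by
      rw [DenseRange, Scheme.Opens.range_ι]
      refine U.2.dense ?_
      show (U : Set ↥Y).Nonempty
      rw [hU]
      obtain ⟨y, hy⟩ : ∃ y : Y, y ≠ P := by
        by_contra! hall
        haveI : Subsingleton Y := ⟨fun a b => (hall a).trans (hall b).symm⟩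
        have : topologicalKrullDim ↥Y ≤ 0 := by
          rw [topologicalKrullDim]
          haveI : Subsingleton (TopologicalSpace.IrreducibleCloseds Y) := ⟨fun a b =>
            TopologicalSpace.IrreducibleCloseds.ext (by
              exact a.2.nonempty.eq_univ.trans b.2.nonempty.eq_univ.symm)⟩
          exact Order.krullDim_nonpos_of_subsingleton
        rw [hY] at this
        exact absurd this (by norm_num)
      exact ⟨y, hy⟩⟩
    exact IsSchemeTheoreticallyDominant.of_isDominant _
  haveI : QuasiCompact U.ι := inferInstance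
  haveI := hflat
  haveI : IsSchemeTheoreticallyDominant j'' :=
    IsSchemeTheoreticallyDominant.of_isPullback ((hpb.paste_vert (isPullback_morphismRestrict q U).flip).flip)
  have hker : f.imageι.ker = i''.ker := by
    rw [← ker_eq_of_dominant j'' i'', hpb.w]
    exact Scheme.IdealSheafData.ker_subschemeι _
  haveI := IsClosedImmersion.isIso_lift i'' f.imageι hker.symm
  exact ⟨asIso (IsClosedImmersion.lift i'' f.imageι hker.symm.le), IsClosedImmersion.lift_fac _ _ _⟩

end Groth.Agent.S11321
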