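import Groth.Statements.S11376
import Groth.Agent.CohDim98.Vanish
import Groth.Agent.CohDim98.ResProp
-- import your own Groth.Agent.* helpers here

set_option autoImplicit false
universe u
open CategoryTheory CategoryTheory.Limits AlgebraicGeometry TopologicalSpace
open CohDim

namespace Groth.Agent.S11376

/-- Let S be an integral scheme, separated and of finite type over an algebraically closed field k, with
all local rings regular, and let r ≥ 0. If H^i(S, E) is finite-dimensional over k for every i > r
and every finite locally free O_S-module E, then H^i(S, F) is finite-dimensional over k for every i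
> r and every coherent O_S-module F. -/
theorem result (k : Type u) [Field k] [IsAlgClosed k] (S : Scheme.{u})
    [S.Over (Spec (CommRingCat.of k))] [IsSeparated (S ↘ (Spec (CommRingCat.of k)))]
    [LocallyOfFiniteType (S ↘ (Spec (CommRingCat.of k)))] [QuasiCompact (S ↘ (Spec (CommRingCat.of k)))]
    [IsIntegral S] (hreg : ∀ x : S, IsRegularLocalRing (S.presheaf.stalk x)) (r : ℕ)
    (hlf : ∀ E : S.Modules, FlatMod.IsFinLocFree E → ∀ i : ℕ, r < i → Module.Finite k (Coh.HH S E i))
    (F : S.Modules) (hF : Coh.IsCoh F) (i : ℕ) (hi : r < i) :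
    Module.Finite k (Coh.HH S F i) := by
  haveI : IsLocallyNoetherian S := LocallyOfFiniteType.isLocallyNoetherian (S ↘ Spec (CommRingCat.of k))
  haveI : CompactSpace S := QuasiCompact.compactSpace_of_compactSpace (S ↘ Spec (CommRingCat.of k))
  haveI : AlgebraicGeometry.IsNoetherian S := {}
  haveI : S.IsSeparated := ⟨by
    rw [← Limits.terminal.comp_from (S ↘ Spec (CommRingCat.of k))]; infer_instance⟩
  have hC : ∀ G : S.Modules, Coh.IsCoh G → ∃ (E : S.Modules) (p : E ⟶ G),
      FlatMod.IsFinLocFree E ∧ Coh.IsCoh E ∧ Epi p := fun G hG =>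
    let ⟨E, p, hE, hp⟩ := Groth.Agent.CohDim98.hasEnoughLocFree_of_regular hreg G hG
    ⟨E, p, hE, Groth.Agent.KZ.LFRes.flf_isCoh hE, hp⟩
  exact Groth.Agent.CohDim98.finite_of_class k r FlatMod.IsFinLocFree hC hlf F hF i hi

end Groth.Agent.S11376
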