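import Groth.Statements.S11377
import Groth.Agent.CohDim98.Vanish
import Groth.Agent.CohDim98.Ample
import Groth.Agent.Lib.RegEpiGen
import Groth.Agent.AmpleX.Separated
-- import your own Groth.Agent.* helpers here

set_option autoImplicit false
universe u
open CategoryTheory CategoryTheory.Limits AlgebraicGeometry TopologicalSpace
open CohDim

namespace Groth.Agent.S11377

/-- Let S be an integral scheme, separated and of finite type over an algebraically closed field k, with
all local rings regular, let L be an ample invertible O_S-module with tensor inverse M (so S is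
quasi-projective and M^{⊗m} plays the role of O_S(-m)), and let r ≥ 0. If there is m₀ such that
H^i(S, M^{⊗m}) = 0 for every i > r and every m ≥ m₀, then H^i(S, F) = 0 for every i > r and every
coherent O_S-module F. (The published statement takes O_S(1) from a quasi-projective embedding; the
printed proof uses only that F ⊗ O_S(m) is generated by finitely many global sections for m ≫ 0,
which holds for any ample L.) -/
theorem result (k : Type u) [Field k] [IsAlgClosed k] (S : Scheme.{u})
    [S.Over (Spec (CommRingCat.of k))] [IsSeparated (S ↘ (Spec (CommRingCat.of k)))]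
    [LocallyOfFiniteType (S ↘ (Spec (CommRingCat.of k)))] [QuasiCompact (S ↘ (Spec (CommRingCat.of k)))]
    [IsIntegral S] (hreg : ∀ x : S, IsRegularLocalRing (S.presheaf.stalk x))
    (L M : S.Modules) (hL : CohB1.IsAmple L) (hM : ClSub.IsInverseOf M L) (r : ℕ)
    (hneg : ∃ m₀ : ℕ, ∀ m : ℕ, m₀ ≤ m → ∀ i : ℕ, r < i → Subsingleton (Coh.HH S (CohB1.tensorPow M m) i))
    (F : S.Modules) (hF : Coh.IsCoh F) (i : ℕ) (hi : r < i) :
    Subsingleton (Coh.HH S F i) := by
  haveI : IsLocallyNoetherian S := LocallyOfFiniteType.isLocallyNoetherian (S ↘ Spec (CommRingCat.of k))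
  haveI : CompactSpace S := QuasiCompact.compactSpace_of_compactSpace (S ↘ Spec (CommRingCat.of k))
  haveI : AlgebraicGeometry.IsNoetherian S := {}
  haveI : S.IsSeparated := Groth.Agent.AmpleX.isSeparated_of_isAmple hL
  obtain ⟨m₀, hm⟩ := hneg
  refine Groth.Agent.CohDim98.subsingleton_of_class (S ↘ Spec (CommRingCat.of k)) r
    (fun E => Coh.IsCoh E ∧ ∀ j, r < j → Subsingleton (Coh.HH S E j)) (fun G hG => ?_) (fun E hE => hE.2) F hF i hi
  obtain ⟨n, c, p, hn, hp⟩ := Groth.Agent.CohDim98.exists_epi_inverse_pow hL hM hG m₀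
  have hinv : Coh.IsCoh (CohB1.tensorPow M n) :=
    Groth.Agent.KZ.LFRes.flf_isCoh (Groth.Agent.CohDim98.flf_inverse_pow hL hM n)
  exact ⟨_, p, ⟨Groth.Agent.CohDim98.isCoh_sigma c _ hinv, fun j hj =>
    Groth.Agent.RegEpi.subsingleton_HH_sigma _ j fun _ => hm n hn j hj⟩, Groth.Agent.CohDim98.isCoh_sigma c _ hinv, hp⟩

end Groth.Agent.S11377
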