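import Groth.Statements.S11397
import Groth.Agent.Chev24.AffPart

set_option autoImplicit false
universe u
open CategoryTheory MonoidalCategory CartesianMonoidalCategory MonObj GrpObj AlgebraicGeometry CategoryTheory.Limits
open AlgGrp

namespace Groth.Agent.S11397

/-- Over an algebraically closed field k, let G be an algebraic group (a smooth k-group scheme of finite
type) which is not proper over k. Then G has a smooth closed subgroup scheme which is affine and of
positive dimension. -/
theorem result (k : Type u) [Field k] [IsAlgClosed k]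
    (G : Over (Spec (CommRingCat.of k))) [GrpObj G] [Smooth G.hom] [QuasiCompact G.hom] (hG : ¬ IsProper G.hom) :
    ∃ (H : Over (Spec (CommRingCat.of k))) (_ : GrpObj H) (j : H ⟶ G), IsMonHom j ∧ IsClosedImmersion j.left ∧
      Smooth H.hom ∧ IsAffine H.left ∧ 0 < topologicalKrullDim ↥H.left := by
  obtain ⟨G₀, _, c, hcm, hcc, hco, hG₀s, hG₀q, hG₀c, hfac⟩ := Chev24.exists_neutral G
  haveI := hcm; haveI := hcc; haveI := hco; haveI := hG₀s; haveI := hG₀q; haveI := hG₀c
  obtain ⟨L, Q, _, _, l, q, hlm, hlc, hLs, hLc, hLa, -, hqm, hqf, hqs, hqk, hQp, -, -⟩ :=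
    Chev24.exists_chevalley (G := G₀)
  haveI := hlm; haveI := hlc; haveI := hLs; haveI := hLc; haveI := hLa; haveI := hqm; haveI := hqf; haveI := hqs
  haveI := hQp
  haveI : IsSeparated G.hom := GrpSchLib.AntiAffine.isSeparated_grp G
  haveI : Mono c := Over.mono_of_mono_left _
  haveI : Mono l := Over.mono_of_mono_left _
  haveI : IsClosedImmersion (l ≫ c).left := by rw [Over.comp_left]; infer_instance
  refine ⟨L, inferInstance, l ≫ c, inferInstance, inferInstance, hLs, hLa, ?_⟩
  by_contra hdim
  haveI : IsIntegral L.left := by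
    haveI := AlgGrpH24.geometricallyIntegral_grp L
    exact GeometricallyIntegral.isIntegral_of_subsingleton L.hom
  have hd : VarDim.deg L.hom (genericPoint L.left) = 0 := by
    rw [VarDim.topologicalKrullDim_eq_iSup_deg L.hom, not_lt] at hdim
    have := (le_iSup (fun x : L.left => ((VarDim.deg L.hom x : ℕ∞) : WithBot ℕ∞)) (genericPoint L.left)).trans hdim
    exact Nat.le_zero.1 (by exact_mod_cast this)
  haveI : UniversallyClosed L.hom := Chev24.universallyClosed_of_deg_zero hd
  haveI : UniversallyClosed q.left := Chev24.universallyClosed_quotient l q hqk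
  haveI : UniversallyClosed G₀.hom := by rw [← Over.w q]; infer_instance
  have hn : AlgGrp.IsNormalHom c := AlgGrp25.LinPart.isNormalHom_of_points c fun g => by
    obtain ⟨f, -, hf⟩ := hfac G₀ (c ≫ AlgGrp25.LinPart.conj g)
    exact ⟨f, hf⟩
  obtain ⟨R, _, r, hrm, hrs, hrf, -, hRl, hRq, hRsep, hrk⟩ := AlgGrpH24.exists_quotient_grp c hn
  haveI := hrm; haveI := hrs; haveI := hrf; haveI := hRl; haveI := hRq; haveI := hRsep
  haveI : UniversallyClosed r.left := Chev24.universallyClosed_quotient c r hrk
  have hfin := Chev24.finite_image_of_open_subgroup c η[G₀] (IsMonHom.one_hom c) (𝟙 G) r (by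
    rw [Category.id_comp, hrk.w, ← Hom.one_def])
  rw [Category.id_comp, r.left.surjective.range_eq] at hfin
  haveI : Finite R.left := Set.finite_univ_iff.1 hfin
  haveI : LocallyQuasiFinite R.hom := locallyQuasiFinite_iff_finite_preimage_singleton.2 fun _ => Set.toFinite _
  haveI : IsFinite R.hom := IsFinite.of_locallyQuasiFinite R.hom
  haveI : UniversallyClosed G.hom := by rw [← Over.w r]; infer_instance
  exact hG {}

end Groth.Agent.S11397
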