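import Groth.Statements.S11398
import Groth.Agent.Chev24.AffPart

set_option autoImplicit false
universe u
open CategoryTheory MonoidalCategory CartesianMonoidalCategory MonObj GrpObj AlgebraicGeometry CategoryTheory.Limits
open AlgGrp

namespace Groth.Agent.S11398

/-- Over an algebraically closed field k, every algebraic group G (a smooth k-group scheme of finite
type) has a largest connected affine normal algebraic subgroup G_aff: a homomorphism and closed
immersion i : N → G from a smooth, connected, affine k-group scheme, normal in G, through which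
every other such subgroup factors. Moreover the quotient G/G_aff has trivial G_aff: for every flat
surjective homomorphism q : G → Q of k-group schemes of finite type with kernel i, every smooth
connected affine normal closed subgroup of Q is the trivial group. -/
theorem result (k : Type u) [Field k] [IsAlgClosed k]
    (G : Over (Spec (CommRingCat.of k))) [GrpObj G] [Smooth G.hom] [QuasiCompact G.hom] :
    ∃ (N : Over (Spec (CommRingCat.of k))) (_ : GrpObj N) (i : N ⟶ G), (IsMonHom i ∧ IsClosedImmersion i.left ∧ Smooth N.hom ∧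
      ConnectedSpace ↥N.left ∧ IsAffine N.left ∧ AlgGrp.IsNormalHom i) ∧
      (∀ (N' : Over (Spec (CommRingCat.of k))) [GrpObj N'] (i' : N' ⟶ G) [IsMonHom i'] [IsClosedImmersion i'.left]
        [Smooth N'.hom] [ConnectedSpace ↥N'.left] [IsAffine N'.left], AlgGrp.IsNormalHom i' → ∃ f : N' ⟶ N, f ≫ i = i') ∧
      (∀ (Q : Over (Spec (CommRingCat.of k))) [GrpObj Q] [LocallyOfFiniteType Q.hom] [QuasiCompact Q.hom] (q : G ⟶ Q) [IsMonHom q]
        [Surjective q.left] [Flat q.left], AlgGrp.IsKernel i q →
        ∀ (N'' : Over (Spec (CommRingCat.of k))) [GrpObj N''] (i'' : N'' ⟶ Q) [IsMonHom i''] [IsClosedImmersion i''.left]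
          [Smooth N''.hom] [ConnectedSpace ↥N''.left] [IsAffine N''.left], AlgGrp.IsNormalHom i'' → IsIso N''.hom) := by
  obtain ⟨N, _, i, him, hic, hNs, hNc, hNa, hNn, hmax⟩ := Chev24.exists_affPart G
  haveI := him; haveI := hic; haveI := hNs; haveI := hNc; haveI := hNa
  refine ⟨N, inferInstance, i, ⟨him, hic, hNs, hNc, hNa, hNn⟩, fun N' _ i' _ _ _ _ _ _ => hmax N' i', ?_⟩
  intro Q _ _ _ q _ _ _ hq N'' _ i'' _ _ _ _ _ hn''
  haveI : IsSeparated Q.hom := GrpSchLib.AntiAffine.isSeparated_grp Q
  haveI : QuasiCompact q.left := by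
    haveI : QuasiCompact (q.left ≫ Q.hom) := by rw [Over.w]; infer_instance
    exact QuasiCompact.of_comp q.left Q.hom
  obtain ⟨R, _, r, hrm, -, -, -, hRl, -, -, hrk⟩ := AlgGrpH24.exists_quotient_grp i'' hn''
  haveI := hrm; haveI := hRl
  obtain ⟨E, _, j, p, c, hjm, hjc, -, -, hpm, hpf, hps, hpi, hcm, -, hck⟩ := Chev24.exists_extension q i hq i'' r hrk
  haveI := hjm; haveI := hjc; haveI := hpm; haveI := hpf; haveI := hps; haveI := hcm
  haveI : LocallyOfFiniteType E.hom := by rw [← Over.w j]; infer_instance
  haveI : QuasiCompact E.hom := by rw [← Over.w j]; infer_instance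
  haveI : QuasiCompact N.hom := inferInstance
  haveI : QuasiCompact N''.hom := inferInstance
  obtain ⟨hEa, hEs, hEc⟩ := Groth.Agent.S7982.result k N E N'' c p hck
  haveI := hEa inferInstance inferInstance
  haveI := hEs inferInstance inferInstance
  haveI := hEc inferInstance inferInstance
  obtain ⟨f, hf⟩ := hmax E j
  have hp1 : p ≫ i'' = 1 := by
    rw [hpi, ← hf, Category.assoc, hq.w, ← Category.assoc, comp_toUnit, ← Hom.one_def]
  haveI : QuasiCompact p.left := by
    haveI : IsSeparated N''.hom := inferInstance
    haveI : QuasiCompact (p.left ≫ N''.hom) := by rw [Over.w]; infer_instance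
    exact QuasiCompact.of_comp p.left N''.hom
  haveI : Epi p.left := Flat.epi_of_flat_of_surjective _
  haveI : Epi p := (Over.forget _).epi_of_epi_map (by assumption)
  haveI : Mono i'' := Over.mono_of_mono_left _
  have hid : (𝟙 N'' : N'' ⟶ N'') = 1 := by
    rw [← cancel_mono i'', ← cancel_epi p, MonObj.one_comp, Category.id_comp, hp1, MonObj.comp_one]
  refine ⟨⟨η[N''].left, ?_, Over.w η[N'']⟩⟩
  exact (congrArg CommaMorphism.left hid).symm

end Groth.Agent.S11398
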