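import Groth.Statements.S11400
import Groth.Agent.Chev24.AffQuot
import Groth.Agent.AlgGrp25.AffProper

set_option autoImplicit false
universe u
open CategoryTheory MonoidalCategory CartesianMonoidalCategory MonObj GrpObj AlgebraicGeometry CategoryTheory.Limits
open AlgGrp

namespace Groth.Agent.S11400

/-- Over an algebraically closed field k, let G be a connected algebraic group (smooth k-group scheme of
finite type), let i : N → G be its largest connected affine normal algebraic subgroup G_aff (a
homomorphism and closed immersion from a smooth, connected, affine k-group scheme, normal in G,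
through which every other such subgroup factors), and let j : Z → G be the scheme-theoretic centre
of G. Then G = Z · G_aff, in the sense that the multiplication morphism Z × G_aff → G is surjective,
and G is commutative exactly when G_aff is. (The published statement also gives G = Z⁰_red · G_aff
and identifies the scheme-theoretic intersection Z ∩ G_aff with the centre of G_aff; those clauses
are not stated here.) -/
theorem result (k : Type u) [Field k] [IsAlgClosed k]
    (G : Over (Spec (CommRingCat.of k))) [GrpObj G] [Smooth G.hom] [QuasiCompact G.hom] [ConnectedSpace ↥G.left]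
    (N : Over (Spec (CommRingCat.of k))) [GrpObj N] (i : N ⟶ G) [IsMonHom i] [IsClosedImmersion i.left]
    [Smooth N.hom] [ConnectedSpace ↥N.left] [IsAffine N.left] (hN : AlgGrp.IsNormalHom i)
    (hNmax : ∀ (N' : Over (Spec (CommRingCat.of k))) [GrpObj N'] (i' : N' ⟶ G) [IsMonHom i'] [IsClosedImmersion i'.left]
      [Smooth N'.hom] [ConnectedSpace ↥N'.left] [IsAffine N'.left], AlgGrp.IsNormalHom i' → ∃ f : N' ⟶ N, f ≫ i = i')
    (Z : Over (Spec (CommRingCat.of k))) [GrpObj Z] (j : Z ⟶ G) (hZ : Red.IsCentre j) :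
    Surjective ((j ⊗ₘ i) ≫ μ[G]).left ∧ (IsCommMonObj G ↔ IsCommMonObj N) := by
  obtain ⟨A, _, α, hαm, hαf, hαs, hαk, hAp, hAs, hAc⟩ := Chev24.exists_affQuot i hN hNmax
  haveI := hαm; haveI := hαf; haveI := hαs; haveI := hAp; haveI := hAs; haveI := hAc
  obtain ⟨M, I, _, _, jM, p, h⟩ := AlgGrp25.exists_antiAffPart G
  haveI := h.isMonHom_j; haveI := h.isClosedImmersion_j; haveI := h.lft_M; haveI := h.qc_M
  have hO := (GrpSchLib.AntiAffine.bijective_appTop_iff M.hom).2 h.antiAffine
  haveI : IsCommMonObj M := (Groth.Agent.S3293.result k M hO).2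
  have hc : ∀ {T : Over (Spec (CommRingCat.of k))} (m : T ⟶ M) (g : T ⟶ G), (m ≫ jM) * g = g * (m ≫ jM) :=
    fun {T} m g => by simpa using Groth.Agent.S7996.result k M G hO jM T m T (𝟙 T) g
  obtain ⟨hjm, hjmono, hiff⟩ := hZ
  obtain ⟨z, hz⟩ := (hiff M jM).2 fun X' x t => by
    rw [Category.comp_id]; exact hc x t
  haveI hsur : Surjective ((jM ⊗ₘ i) ≫ μ[G]).left :=
    @Chev24.surjective_mul_swap _ _ _ _ _ _ _ _ i hN jM (AlgGrp25.surjective_mul_antiAffPart i hN α hαk h)
  refine ⟨?_, fun hG => ?_, fun hNc => ?_⟩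
  · have e : (z ▷ N) ≫ (j ⊗ₘ i) ≫ μ[G] = (jM ⊗ₘ i) ≫ μ[G] := by
      rw [← tensorHom_id, tensorHom_comp_tensorHom_assoc, hz, Category.id_comp]
    haveI : Surjective ((z ▷ N).left ≫ ((j ⊗ₘ i) ≫ μ[G]).left) := by rw [← Over.comp_left, e]; exact hsur
    exact Surjective.of_comp (z ▷ N).left _
  · haveI : Mono i := Over.mono_of_mono_left _
    exact Chev24.isCommMonObj_of_mono i
  · haveI : IsSeparated G.hom := GrpSchLib.AntiAffine.isSeparated_grp G
    haveI : IsReduced G.left := H23.RigidGamma.isReduced_of_smooth G.hom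
    haveI : QuasiCompact N.hom := inferInstance
    let f : M ⊗ N ⟶ G := (jM ⊗ₘ i) ≫ μ[G]
    haveI : IsMonHom f := AlgGrpH24.isMonHom_mul_central jM i hc
    haveI : LocallyOfFiniteType (M ⊗ N).hom := Chev24.lft_tensor M N
    haveI : QuasiCompact (M ⊗ N).hom := Chev24.qc_tensor M N
    haveI : QuasiCompact f.left := by
      haveI : QuasiCompact (f.left ≫ G.hom) := by rw [Over.w]; infer_instance
      exact QuasiCompact.of_comp f.left G.hom
    haveI : Surjective f.left := hsur
    haveI : Flat f.left := GrpSchLib.flat_of_surjective_hom f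
    haveI : IsCommMonObj (M ⊗ N) := inferInstance
    haveI := (AlgGrpH24.isCover_tensorHom (f := f) (g := f) ⟨‹_›, ‹_›, ‹_›⟩ ⟨‹_›, ‹_›, ‹_›⟩).epi
    refine ⟨?_⟩
    rw [← cancel_epi (f ⊗ₘ f), BraidedCategory.braiding_naturality_assoc, ← IsMonHom.mul_hom,
      IsCommMonObj.mul_comm_assoc]

end Groth.Agent.S11400
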