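import Groth.Statements.S19705
import Groth.Agent.AlgGrp25.AffProper
import Groth.Agent.GrpSchLib.AntiAffineSmoothAny
import Groth.Agent.GrpSchLib.SmoothReduced

set_option autoImplicit false
set_option linter.style.haveILetI false
set_option linter.unusedVariables false
universe u
open CategoryTheory MonoidalCategory CartesianMonoidalCategory MonObj GrpObj AlgebraicGeometry CategoryTheory.Limits
open AlgGrp
open Groth.Agent.GrpSchLib Groth.Agent.AlgGrp25

namespace Groth.Agent.S19705


theorem isCommMonObj_of_points {C : Type*} [Category C] [CartesianMonoidalCategory C] [BraidedCategory C] {M : C}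
    [GrpObj M] (h : ∀ (T : C) (a b : T ⟶ M), a * b = b * a) : IsCommMonObj M where
  mul_comm := by
    have := h _ (snd M M) (fst M M)
    rw [Hom.mul_def, Hom.mul_def] at this
    rw [show (β_ M M).hom = lift (snd M M) (fst M M) from hom_ext _ _ (by simp) (by simp), this, lift_fst_snd,
      Category.id_comp]

theorem exists_kernel_affine {k : Type u} [Field k] {G N A X : Over (Spec (CommRingCat.of k))} [GrpObj G] [GrpObj N]
    [GrpObj A] [GrpObj X] [IsAffine N.left] (i : N ⟶ G) [IsClosedImmersion i.left] (q : G ⟶ A) [IsMonHom q]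
    (hq : AlgGrp.IsKernel i q) (f : X ⟶ G) [IsMonHom f] [IsClosedImmersion f.left] :
    ∃ (K : Over (Spec (CommRingCat.of k))) (_ : GrpObj K) (a : K ⟶ X) (b : K ⟶ N),
      IsMonHom a ∧ IsClosedImmersion a.left ∧ AlgGrp.IsNormalHom a ∧ IsAffine K.left ∧ AlgGrp.IsKernel a (f ≫ q) ∧
        b ≫ i = a ≫ f := by
  haveI := AntiAffine.isSeparated_grp A
  obtain ⟨K, gK, a, ha, hac, han, hk⟩ := GrpSchLib.exists_kernel (f ≫ q)
  haveI := ha; haveI := hac
  let b : K ⟶ N := (hq : IsPullback i (toUnit N) q η[A]).lift (a ≫ f) (toUnit K) (by rw [Category.assoc]; exact hk.w)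
  have hb : b ≫ i = a ≫ f := IsPullback.lift_fst _ _ _ _
  haveI : IsClosedImmersion (b.left ≫ i.left) := by rw [← Over.comp_left, hb, Over.comp_left]; infer_instance
  haveI : IsClosedImmersion b.left := IsClosedImmersion.of_comp b.left i.left
  exact ⟨K, gK, a, b, ha, hac, han, isAffine_of_isAffineHom b.left, hk, hb⟩

/-- Let k be a field and G a connected k-group scheme of finite type, not necessarily smooth. Let i : N
→ G be a closed normal subgroup scheme which is affine and is the kernel of a flat surjective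
homomorphism q : G → A of k-group schemes of finite type with A proper, and let j : M → G be the
largest anti-affine closed subgroup scheme G_ant of G (O(M) = k, and every anti-affine closed
subgroup scheme of G factors through M). Then the multiplication morphism N × M → G is surjective
(on underlying topological spaces), and every closed subgroup scheme H of G for which the
multiplication H × N → G is surjective contains G_ant, i.e. M factors through H. (The published
statement takes N = G_aff, the smallest connected affine normal subgroup scheme whose quotient is an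
abelian variety; the row allows any affine closed normal subgroup scheme N whose quotient G/N is
proper, for which the same argument applies.) -/
theorem result (k : Type u) [Field k]
    (G : Over (Spec (CommRingCat.of k))) [GrpObj G] [LocallyOfFiniteType G.hom] [QuasiCompact G.hom] [ConnectedSpace ↥G.left]
    (N : Over (Spec (CommRingCat.of k))) [GrpObj N] (i : N ⟶ G) [IsMonHom i] [IsClosedImmersion i.left] [IsAffine N.left]
    (hN : AlgGrp.IsNormalHom i)
    (A : Over (Spec (CommRingCat.of k))) [GrpObj A] [IsProper A.hom]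
    (q : G ⟶ A) [IsMonHom q] [Surjective q.left] [Flat q.left] (hq : AlgGrp.IsKernel i q)
    (M : Over (Spec (CommRingCat.of k))) [GrpObj M] [LocallyOfFiniteType M.hom] [QuasiCompact M.hom] (j : M ⟶ G) [IsMonHom j] [IsClosedImmersion j.left]
    (hM : Function.Bijective ((Scheme.ΓSpecIso (CommRingCat.of k)).inv ≫ M.hom.appTop).hom)
    (hMmax : ∀ (M₁ : Over (Spec (CommRingCat.of k))) [GrpObj M₁] [LocallyOfFiniteType M₁.hom] [QuasiCompact M₁.hom] (j₁ : M₁ ⟶ G) [IsMonHom j₁] [IsClosedImmersion j₁.left],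
      Function.Bijective ((Scheme.ΓSpecIso (CommRingCat.of k)).inv ≫ M₁.hom.appTop).hom → ∃ g : M₁ ⟶ M, g ≫ j = j₁) :
    Surjective ((i ⊗ₘ j) ≫ μ[G]).left ∧
      ∀ (H : Over (Spec (CommRingCat.of k))) [GrpObj H] (h : H ⟶ G) [IsMonHom h] [IsClosedImmersion h.left],
        Surjective ((h ⊗ₘ i) ≫ μ[G]).left → ∃ g : M ⟶ H, g ≫ h = j := by
  haveI := AntiAffine.isSeparated_grp G
  haveI := AntiAffine.isSeparated_grp A
  haveI : ConnectedSpace A.left := Function.Surjective.connectedSpace q.left.surjective q.left.continuous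
  have hM' := (AntiAffine.bijective_appTop_iff M.hom).mp hM
  refine ⟨?_, ?_⟩
  · obtain ⟨M₀, I, _, _, j₀, p, h⟩ := exists_antiAffPart G
    haveI := h.isMonHom_j; haveI := h.isClosedImmersion_j; haveI := h.lft_M; haveI := h.qc_M
    obtain ⟨g, hg⟩ := hMmax M₀ j₀ ((AntiAffine.bijective_appTop_iff M₀.hom).mpr h.antiAffine)
    haveI := surjective_mul_antiAffPart i hN q hq h
    have e : (i ⊗ₘ j₀) ≫ μ[G] = (N ◁ g) ≫ (i ⊗ₘ j) ≫ μ[G] := by
      rw [← id_tensorHom, MonoidalCategory.tensorHom_comp_tensorHom_assoc, Category.id_comp, hg]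
    haveI : Surjective ((N ◁ g).left ≫ ((i ⊗ₘ j) ≫ μ[G]).left) := by rw [← Over.comp_left, ← e]; infer_instance
    exact Surjective.of_comp (N ◁ g).left _
  intro H _ h _ _ hsur
  haveI := hsur
  haveI : LocallyOfFiniteType H.hom := by rw [← Over.w h]; infer_instance
  haveI : QuasiCompact H.hom := by rw [← Over.w h]; infer_instance
  haveI hhq : Surjective (h ≫ q).left := by
    have e : ((h ⊗ₘ i) ≫ μ[G]) ≫ q = fst H N ≫ h ≫ q := by
      rw [← lift_fst_comp_snd_comp, ← Hom.mul_def, MonObj.mul_comp, Category.assoc, Category.assoc,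
        hq.w, ← Category.assoc (snd H N), comp_toUnit]
      exact _root_.mul_one _
    haveI : Surjective ((fst H N).left ≫ (h ≫ q).left) := by
      rw [← Over.comp_left, ← e, Over.comp_left]; infer_instance
    exact Surjective.of_comp (fst H N).left _
  obtain ⟨A', _, qH, iA, hqH, hiA, hqi, hciA, hflH, hsH, hlA', hqA'⟩ := ImageFactor.exists_image (h ≫ q)
  haveI := hqH; haveI := hiA; haveI := hciA; haveI := hflH; haveI := hsH; haveI := hlA'; haveI := hqA'
  haveI : IsProper A'.hom := by rw [← Over.w iA]; infer_instance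
  haveI : Surjective iA.left := by
    haveI : Surjective (qH.left ≫ iA.left) := by rw [← Over.comp_left, hqi]; infer_instance
    exact Surjective.of_comp qH.left _
  haveI : ConnectedSpace A'.left := by
    let e := iA.left.isClosedEmbedding.isEmbedding.toHomeomorphOfSurjective iA.left.surjective
    exact Function.Surjective.connectedSpace e.symm.surjective e.symm.continuous
  obtain ⟨KH, _, aH, bH, haH, hacH, hanH, hKHa, hkH, hbH⟩ := exists_kernel_affine i q hq h
  haveI := haH; haveI := hacH; haveI := hKHa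
  have hkH' : AlgGrp.IsKernel aH qH := by
    have : Mono iA.left := inferInstance
    haveI : Mono iA := (Over.forget _).mono_of_mono_map (inferInstanceAs (Mono iA.left))
    have hw : aH ≫ qH = toUnit KH ≫ η[A'] := by
      rw [← cancel_mono iA, Category.assoc, Category.assoc, hqi, IsMonHom.one_hom iA]; exact hkH.w
    have hk0 : IsPullback aH (toUnit KH) (qH ≫ iA) (η[A'] ≫ iA) := by
      rw [hqi, IsMonHom.one_hom iA]; exact hkH
    exact ⟨⟨hw⟩, ⟨PullbackCone.IsLimit.mk hw (fun s => hk0.lift s.fst s.snd (by rw [reassoc_of% s.condition]))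
      (fun s => hk0.lift_fst _ _ _) (fun s => hk0.lift_snd _ _ _)
      (fun s m h1 h2 => hk0.hom_ext (by rw [h1, hk0.lift_fst]) (toUnit_unique _ _))⟩⟩
  obtain ⟨H₀, I, _, _, jH, pH, hH0⟩ := exists_antiAffPart H
  haveI := hH0.isMonHom_j; haveI := hH0.isClosedImmersion_j; haveI := hH0.lft_M; haveI := hH0.qc_M
  haveI hHsur := surjective_mul_antiAffPart aH hanH qH hkH' hH0
  haveI : IsClosedImmersion (jH ≫ h).left := by rw [Over.comp_left]; infer_instance
  obtain ⟨g, hg⟩ := hMmax H₀ (jH ≫ h) ((AntiAffine.bijective_appTop_iff H₀.hom).mpr hH0.antiAffine)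
  haveI : Mono j.left := inferInstance
  haveI : Mono j := (Over.forget _).mono_of_mono_map (inferInstanceAs (Mono j.left))
  haveI hgm : IsMonHom g :=
    { one_hom := by rw [← cancel_mono j, Category.assoc, hg, IsMonHom.one_hom j, IsMonHom.one_hom (jH ≫ h)]
      mul_hom := by
        rw [← cancel_mono j, Category.assoc, hg, IsMonHom.mul_hom (jH ≫ h), Category.assoc, IsMonHom.mul_hom j,
          MonoidalCategory.tensorHom_comp_tensorHom_assoc, hg] }
  haveI : IsClosedImmersion (g.left ≫ j.left) := by rw [← Over.comp_left, hg]; infer_instance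
  haveI : IsClosedImmersion g.left := IsClosedImmersion.of_comp g.left j.left
  -- `H₀` surjects onto `A`
  have hgA : Function.Surjective (g ≫ j ≫ q).left := by
    have e : ((aH ⊗ₘ jH) ≫ μ[H]) ≫ h ≫ q = snd KH H₀ ≫ g ≫ j ≫ q := by
      rw [← lift_fst_comp_snd_comp, ← Hom.mul_def, MonObj.mul_comp, Category.assoc, Category.assoc, hkH.w,
        reassoc_of% hg, ← Category.assoc, comp_toUnit]
      exact _root_.one_mul _
    intro z
    haveI : Surjective (((aH ⊗ₘ jH) ≫ μ[H]).left ≫ (h ≫ q).left) := inferInstance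
    obtain ⟨y, hy⟩ := (((aH ⊗ₘ jH) ≫ μ[H]).left ≫ (h ≫ q).left).surjective z
    refine ⟨(snd KH H₀).left y, ?_⟩
    have e2 := congr($(congrArg CommaMorphism.left e) y)
    exact e2.symm.trans hy
  haveI : Smooth M.hom := GrpSchLib.AntiAffineSmooth.smooth hM'
  haveI : IsReduced M.left := GrpSchLib.isReduced_of_smooth_field M.hom
  haveI := AntiAffine.connectedSpace_of_bijective hM'
  haveI : IsCommMonObj M := isCommMonObj_of_points fun T a b => by
    have := AntiAffine.commute hM' (𝟙 M) (Category.comp_id _) a b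
    simpa using this
  obtain ⟨NM, _, aM, bM, haM, hacM, hanM, hNMa, hkM, hbM⟩ := exists_kernel_affine i q hq j
  haveI := haM; haveI := hacM; haveI := hNMa
  haveI : LocallyOfFiniteType NM.hom := by rw [← Over.w aM]; infer_instance
  haveI : QuasiCompact NM.hom := by rw [← Over.w aM]; infer_instance
  haveI : Mono aM.left := inferInstance
  haveI : Mono aM := (Over.forget _).mono_of_mono_map (inferInstanceAs (Mono aM.left))
  haveI : Mono g := (Over.forget _).mono_of_mono_map (inferInstanceAs (Mono g.left))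
  let r : NM ⊗ H₀ ⟶ M := (fst NM H₀ ≫ aM) * (snd NM H₀ ≫ g)
  haveI : IsMonHom r := by
    have e : r = lift (fst NM H₀ ≫ aM) (snd NM H₀ ≫ g) ≫ μ[M] := Hom.mul_def _ _
    rw [e, lift_fst_comp_snd_comp]
    infer_instance
  -- `M = (M ∩ N) · H₀`
  haveI : Surjective r.left := by
    constructor
    intro m
    obtain ⟨h0, hh0⟩ := hgA ((j ≫ q).left m)
    obtain ⟨z, hz1, hz2⟩ := Scheme.Pullback.exists_preimage_pullback m h0 hh0.symm
    let T : Over (Spec (CommRingCat.of k)) := Over.mk (pullback.fst (j ≫ q).left (g ≫ j ≫ q).left ≫ M.hom)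
    let a : T ⟶ M := Over.homMk (pullback.fst (j ≫ q).left (g ≫ j ≫ q).left) rfl
    let b : T ⟶ H₀ := Over.homMk (pullback.snd (j ≫ q).left (g ≫ j ≫ q).left) (by
      show pullback.snd _ _ ≫ H₀.hom = pullback.fst _ _ ≫ M.hom
      rw [← Over.w (g ≫ j ≫ q), ← pullback.condition_assoc, Over.w (j ≫ q)])
    have hab : a ≫ j ≫ q = b ≫ g ≫ j ≫ q := Over.OverMorphism.ext pullback.condition
    have hker : (a * (b ≫ g)⁻¹) ≫ j ≫ q = 1 := by
      rw [MonObj.mul_comp, GrpObj.inv_comp, hab, Category.assoc, mul_inv_cancel]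
    let l : T ⟶ NM := (hkM : IsPullback aM (toUnit NM) (j ≫ q) η[A]).lift (a * (b ≫ g)⁻¹) (toUnit T) hker
    have hl : l ≫ aM = a * (b ≫ g)⁻¹ := IsPullback.lift_fst _ _ _ _
    have e : lift l b ≫ r = a := by
      rw [MonObj.comp_mul, lift_fst_assoc, lift_snd_assoc, hl, inv_mul_cancel_right]
    refine ⟨(lift l b).left z, ?_⟩
    rw [← Scheme.Hom.comp_apply, ← Over.comp_left, e]
    exact hz1
  haveI : LocallyOfFiniteType (NM ⊗ H₀).hom :=
    inferInstanceAs (LocallyOfFiniteType (pullback.fst NM.hom H₀.hom ≫ NM.hom))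
  haveI : QuasiCompact (NM ⊗ H₀).hom :=
    inferInstanceAs (QuasiCompact (pullback.fst NM.hom H₀.hom ≫ NM.hom))
  haveI := AntiAffine.isSeparated_grp M
  haveI : QuasiCompact r.left := by
    haveI : QuasiCompact (r.left ≫ M.hom) := by rw [Over.w r]; infer_instance
    exact QuasiCompact.of_comp r.left M.hom
  haveI : Flat r.left := GrpSchLib.flat_of_surjective_hom r
  obtain ⟨Kr, _, ar, har, hacr, -, hkr⟩ := GrpSchLib.exists_kernel r
  haveI := har
  -- the subgroup `(M ∩ N) ∩ H₀` of `M ∩ N`
  let R : Over (Spec (CommRingCat.of k)) := Over.mk (pullback.fst aM.left g.left ≫ NM.hom)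
  let rN : R ⟶ NM := Over.homMk (pullback.fst aM.left g.left) rfl
  let rH : R ⟶ H₀ := Over.homMk (pullback.snd aM.left g.left) (by
    show pullback.snd _ _ ≫ H₀.hom = pullback.fst _ _ ≫ NM.hom
    rw [← Over.w g, ← pullback.condition_assoc, Over.w aM])
  have hR : rN ≫ aM = rH ≫ g := Over.OverMorphism.ext pullback.condition
  haveI : IsClosedImmersion rN.left := inferInstanceAs (IsClosedImmersion (pullback.fst aM.left g.left))
  haveI : Mono rN := (Over.forget _).mono_of_mono_map (inferInstanceAs (Mono rN.left))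
  have hRlift : ∀ {T : Over (Spec (CommRingCat.of k))} (n : T ⟶ NM) (x : T ⟶ H₀), n ≫ aM = x ≫ g →
      ∃ l : T ⟶ R, l ≫ rN = n := fun {T} n x e => ⟨Over.homMk (pullback.lift n.left x.left
      (congrArg CommaMorphism.left e)) (by
        show pullback.lift _ _ _ ≫ pullback.fst _ _ ≫ NM.hom = T.hom
        rw [pullback.lift_fst_assoc, Over.w n]), Over.OverMorphism.ext (pullback.lift_fst _ _ _)⟩
  obtain ⟨eR, heR⟩ := hRlift η[NM] η[H₀] (by rw [IsMonHom.one_hom aM, IsMonHom.one_hom g])
  obtain ⟨mR, hmR⟩ := hRlift ((fst R R ≫ rN) * (snd R R ≫ rN)) ((fst R R ≫ rH) * (snd R R ≫ rH)) (by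
    simp only [MonObj.mul_comp, Category.assoc, hR])
  obtain ⟨vR, hvR⟩ := hRlift rN⁻¹ rH⁻¹ (by rw [GrpObj.inv_comp, GrpObj.inv_comp, hR])
  obtain ⟨gR, hrNm⟩ := exists_grpObj_of_mono rN eR heR mR hmR vR hvR
  haveI : IsCommMonObj NM := isCommMonObj_of_points fun T a b => by
    rw [← cancel_mono aM, MonObj.mul_comp, MonObj.mul_comp, _root_.mul_comm]
  have hnR : AlgGrp.IsNormalHom rN := fun T x n => ⟨n, by rw [_root_.mul_comm x, mul_inv_cancel_right]⟩
  obtain ⟨Q, _, q', hq', hQa, hQl, -, -, hkq'⟩ := NormalQuot.exists_quot NM R rN hnR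
  haveI := hq'; haveI := hQa; haveI := hQl
  have hkill : ar ≫ fst NM H₀ ≫ q' = toUnit Kr ≫ η[Q] := by
    have h1 := hkr.w
    change ar ≫ r = (1 : Kr ⟶ M) at h1
    rw [MonObj.comp_mul, mul_eq_one_iff_eq_inv] at h1
    obtain ⟨l, hl⟩ := hRlift (ar ≫ fst NM H₀) ((ar ≫ snd NM H₀)⁻¹) (by
      rw [GrpObj.inv_comp, Category.assoc, Category.assoc]; exact h1)
    rw [← Category.assoc, ← hl, Category.assoc, hkq'.w, ← Category.assoc, comp_toUnit]
  obtain ⟨φ, hφ, hrφ, -⟩ := S3280.result k (NM ⊗ H₀) Kr M Q r ar hkr (fst NM H₀ ≫ q') hkill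
  haveI := hφ
  have hφ1 : φ = toUnit M ≫ η[Q] := by
    have := AntiAffine.eq_const_of_isAffine hM' φ η[M]
    rwa [IsMonHom.one_hom φ] at this
  have hq1 : q' = 1 := by
    have h2 := congrArg (lift (𝟙 NM) (1 : NM ⟶ H₀) ≫ ·) hrφ
    simp only [lift_fst_assoc, Category.id_comp, hφ1] at h2
    rw [← h2, ← Category.assoc r, comp_toUnit, ← Category.assoc, comp_toUnit]
    rfl
  let l : NM ⟶ R := (hkq' : IsPullback rN (toUnit R) q' η[Q]).lift (𝟙 NM) (toUnit NM) (by rw [Category.id_comp]; exact hq1)
  have hl : aM = (l ≫ rH) ≫ g := by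
    rw [Category.assoc, ← hR, ← Category.assoc, show l ≫ rN = 𝟙 NM from IsPullback.lift_fst _ _ _ _, Category.id_comp]
  haveI : Surjective g.left := by
    have e : r = ((fst NM H₀ ≫ l ≫ rH) * snd NM H₀) ≫ g := by
      rw [MonObj.mul_comp, Category.assoc, ← hl]
    haveI : Surjective (((fst NM H₀ ≫ l ≫ rH) * snd NM H₀).left ≫ g.left) := by
      rw [← Over.comp_left, ← e]; infer_instance
    exact Surjective.of_comp ((fst NM H₀ ≫ l ≫ rH) * snd NM H₀).left _
  haveI : IsIso g.left := isIso_of_isClosedImmersion_of_surjective g.left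
  haveI : IsIso g := by
    haveI : IsIso ((Over.forget _).map g) := inferInstanceAs (IsIso g.left)
    exact isIso_of_reflects_iso g (Over.forget _)
  exact ⟨inv g ≫ jH, by rw [Category.assoc, ← hg, IsIso.inv_hom_id_assoc]⟩

end Groth.Agent.S19705
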