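import Groth.Statements.S14744
import Groth.Agent.Chev24.AffQuot
import Groth.Agent.GrpSchLib.ImageFactor
import Groth.Agent.AVDegLib.MulN
import Groth.Agent.S3293

set_option autoImplicit false
universe u
open CategoryTheory MonoidalCategory CartesianMonoidalCategory MonObj GrpObj AlgebraicGeometry
open AlgGrp

namespace Groth.Agent.S14744

/-- Over an algebraically closed field k, a smooth connected k-group scheme of finite type M whose only
global functions are the constants (an anti-affine group variety; the largest anti-affine subgroup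
of any group variety is of this kind) is divisible: for every n ≥ 1 the n-th power map M → M is
surjective. -/
theorem result (k : Type u) [Field k] [IsAlgClosed k]
    (M : Over (Spec (CommRingCat.of k))) [GrpObj M] [Smooth M.hom] [QuasiCompact M.hom] [ConnectedSpace ↥M.left]
    (hM : Function.Bijective ((Scheme.ΓSpecIso (CommRingCat.of k)).inv ≫ M.hom.appTop).hom)
    (n : ℕ) (hn : 0 < n) :
    Surjective ((𝟙 M) ^ n).left := by
  haveI : IsCommMonObj M := (Groth.Agent.S3293.result k M hM).2
  haveI : IsMonHom (𝟙 M ^ n : M ⟶ M) := AlgGrpH24.isMonHom_of_forall_mul _ fun {T} a b => by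
    simp only [MonObj.comp_pow, Category.comp_id]
    exact mul_pow a b n
  obtain ⟨I, _, p, i, hp, hi, hpi, hic, hpf, hps, hIl, hIq⟩ := GrpSchLib.ImageFactor.exists_image (𝟙 M ^ n : M ⟶ M)
  haveI := hp; haveI := hi; haveI := hic; haveI := hpf; haveI := hps; haveI := hIl; haveI := hIq
  haveI : Mono i := Over.mono_of_mono_left _
  obtain ⟨C, _, r, hrm, hrs, hrf, -, hCl, hCq, hCsep, hrk⟩ :=
    AlgGrpH24.exists_quotient_grp i (fun T g x => ⟨x, by rw [_root_.mul_comm g, mul_inv_cancel_right]⟩)
  haveI := hrm; haveI := hrs; haveI := hrf; haveI := hCl; haveI := hCq; haveI := hCsep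
  haveI : Smooth C.hom := GrpSchLib.smooth_of_quotient r
  haveI : ConnectedSpace C.left := r.left.surjective.connectedSpace r.left.continuous
  obtain ⟨L, Q, _, _, l, q, hlm, hlc, hLs, hLc, hLa, -, hqm, hqf, hqs, hqk, hQp, hQs, hQc⟩ :=
    Chev24.exists_chevalley (G := C)
  haveI := hlm; haveI := hlc; haveI := hLs; haveI := hLc; haveI := hLa; haveI := hqm; haveI := hqf; haveI := hqs
  haveI := hQp; haveI := hQs; haveI := hQc
  haveI := AlgGrpH24.geometricallyIntegral_grp Q
  haveI : Surjective (𝟙 Q ^ n : Q ⟶ Q).left := AVMulN.surjective_pow (A := Q) n hn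
  have hn1 : (r ≫ q) ≫ (𝟙 Q ^ n : Q ⟶ Q) = 1 := by
    have h1 : (𝟙 M ^ n : M ⟶ M) ≫ r ≫ q = (r ≫ q) ^ n := by rw [MonObj.pow_comp, Category.id_comp]
    rw [MonObj.comp_pow, Category.comp_id, ← h1, ← hpi, Category.assoc, reassoc_of% hrk.w, IsMonHom.one_hom,
      ← Category.assoc, comp_toUnit, ← Hom.one_def]
  have hsub : ∀ y : Q.left, y = η[Q].left (IsLocalRing.closedPoint k) := fun y => by
    obtain ⟨z, rfl⟩ := (𝟙 Q ^ n : Q ⟶ Q).left.surjective y
    obtain ⟨c, rfl⟩ := q.left.surjective z
    obtain ⟨m, rfl⟩ := r.left.surjective c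
    exact (congrArg (fun f : M ⟶ Q => f.left m) (hn1.trans Hom.one_def)).trans
      (congrArg η[Q].left (Subsingleton.elim (α := Spec (CommRingCat.of k)) _ _))
  haveI : Surjective l.left := ⟨fun x => by
    obtain ⟨z, hz, -⟩ := Scheme.Pullback.exists_preimage_pullback (f := q.left) (g := η[Q].left) x
      (IsLocalRing.closedPoint k) (hsub _)
    have h := hqk.map (Over.forget _)
    refine ⟨h.isoPullback.inv z, ?_⟩
    exact (congrArg (fun m : Limits.pullback q.left η[Q].left ⟶ C.left => m z) h.isoPullback_inv_fst).trans hz⟩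
  haveI : IsReduced C.left := H23.RigidGamma.isReduced_of_smooth C.hom
  haveI : IsIso l.left := isIso_of_isClosedImmersion_of_surjective l.left
  haveI : IsAffine C.left := IsAffine.of_isIso (inv l.left)
  have hr1 : r = 1 := by
    rw [GrpSchLib.AntiAffine.eq_const_of_isAffine ((GrpSchLib.AntiAffine.bijective_appTop_iff M.hom).1 hM) r η[M],
      IsMonHom.one_hom, ← Hom.one_def]
  obtain ⟨s, hs⟩ : ∃ s, s ≫ i = 𝟙 M :=
    ⟨hrk.lift (𝟙 M) (toUnit M) (by rw [Category.id_comp, hr1, ← Hom.one_def]), hrk.lift_fst _ _ _⟩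
  haveI : Surjective i.left := by
    haveI : Surjective (s.left ≫ i.left) := by rw [← Over.comp_left, hs]; exact inferInstanceAs (Surjective (𝟙 _))
    exact Surjective.of_comp s.left i.left
  rw [← hpi, Over.comp_left]
  infer_instance

end Groth.Agent.S14744
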