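import Groth.Statements.S11407
import Groth.Agent.S14744
import Groth.Agent.AlgGrpH24.UnipKilled
import Groth.Agent.Chev24.AffQuot
import Groth.Agent.AlgGrpH24.Cover
import Groth.Agent.H23.CubeField
import Groth.Agent.Chev24.Minimal
import Groth.Agent.AlgGrpH24.GrpInt
-- import your own Groth.Agent.* helpers here

set_option autoImplicit false
universe u
open CategoryTheory MonoidalCategory CartesianMonoidalCategory MonObj GrpObj AlgebraicGeometry CategoryTheory.Limits
open AlgGrp

namespace Groth.Agent.S11407

/-- Over an algebraically closed field k of characteristic p > 0, let G be a connected commutative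
algebraic group (smooth k-group scheme of finite type) which is an extension of an abelian variety A
(a proper, smooth, connected k-group scheme) by a connected unipotent algebraic group U: i : U → G
is a homomorphism and closed immersion from a smooth, connected, affine k-group scheme containing no
non-trivial subtorus (for smooth connected affine groups over an algebraically closed field this is
unipotency), and α : G → A is a flat surjective homomorphism with kernel i. Then the only global
functions on G are the constants if and only if U is the trivial group. -/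
theorem result (k : Type u) [Field k] [IsAlgClosed k]
    (p : ℕ) [Fact p.Prime] [CharP k p]
    (G : Over (Spec (CommRingCat.of k))) [GrpObj G] [Smooth G.hom] [QuasiCompact G.hom] [ConnectedSpace ↥G.left] [IsCommMonObj G]
    (U : Over (Spec (CommRingCat.of k))) [GrpObj U] (i : U ⟶ G) [IsMonHom i] [IsClosedImmersion i.left]
    [Smooth U.hom] [ConnectedSpace ↥U.left] [IsAffine U.left] (hU : Red.HasNoSubtorus k U)
    (A : Over (Spec (CommRingCat.of k))) [GrpObj A] [IsProper A.hom] [Smooth A.hom] [ConnectedSpace ↥A.left]
    (α : G ⟶ A) [IsMonHom α] [Surjective α.left] [Flat α.left] (hker : AlgGrp.IsKernel i α) :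
    Function.Bijective ((Scheme.ΓSpecIso (CommRingCat.of k)).inv ≫ G.hom.appTop).hom ↔ IsIso U.hom := by
  haveI : IsSeparated G.hom := GrpSchLib.AntiAffine.isSeparated_grp G
  haveI : IsSeparated A.hom := inferInstance
  haveI : LocallyOfFiniteType α.left := by
    haveI : LocallyOfFiniteType (α.left ≫ A.hom) := by rw [Over.w]; infer_instance
    exact locallyOfFiniteType_of_comp α.left A.hom
  have hcov : GrpSchLib.IsCover α := GrpSchLib.isCover_of_flat_surjective α
  constructor
  · intro hG
    obtain ⟨e, he⟩ := AlgGrpH24.exists_pow_eq_one_of_hasNoSubtorus p U hU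
    have hpow := S14744.result k G hG (p ^ e) (pow_pos (Fact.out : p.Prime).pos e)
    have hi : i ≫ (𝟙 G : G ⟶ G) ^ p ^ e = 1 := by
      rw [MonObj.comp_pow, Category.comp_id]
      calc i ^ p ^ e = ((𝟙 U : U ⟶ U) ^ p ^ e) ≫ i := by rw [MonObj.pow_comp, Category.id_comp]
        _ = 1 := by rw [he, MonObj.one_comp]
    obtain ⟨h, hh⟩ := AlgGrpH24.exists_desc_of_cover hcov ((𝟙 G : G ⟶ G) ^ p ^ e) fun W g₁ g₂ h => by
      obtain ⟨m, hm⟩ := AlgGrpH24.exists_kernel_pt hker h
      rw [MonObj.comp_pow, MonObj.comp_pow, Category.comp_id, Category.comp_id]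
      have h1 : (g₁⁻¹ * g₂) ^ p ^ e = 1 := by
        have := congrArg (m ≫ ·) hi
        simpa only [MonObj.comp_pow, Category.comp_id, MonObj.comp_one, ← hm] using this
      rw [mul_pow, inv_pow, inv_mul_eq_one] at h1
      exact h1
    haveI : Surjective h.left := by
      haveI : Surjective (α.left ≫ h.left) := by rw [← Over.comp_left, hh]; exact hpow
      exact Surjective.of_comp α.left h.left
    haveI : UniversallyClosed G.hom := by
      haveI : UniversallyClosed (h.left ≫ G.hom) := by rw [Over.w]; infer_instance
      exact UniversallyClosed.of_comp_surjective h.left G.hom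
    haveI : IsProper G.hom := ⟨⟩
    haveI : IsProper U.hom := by rw [← Over.w i]; infer_instance
    exact Chev24.isIso_hom_of_proper_of_affine
  · intro hUi
    haveI : Mono α := ⟨fun {T} g₁ g₂ h => by
      obtain ⟨m, hm⟩ := AlgGrpH24.exists_kernel_pt hker h
      have hm1 : m = 1 := by
        apply Over.OverMorphism.ext
        rw [← cancel_mono U.hom, Over.w, Over.w]
      rw [hm1, MonObj.one_comp] at hm
      exact (inv_mul_eq_one.mp hm.symm)⟩
    haveI : Mono α.left := Over.mono_left_of_mono α
    haveI := LocallyOfFiniteType.isLocallyNoetherian A.hom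
    haveI : IsOpenImmersion α.left := IsOpenImmersion.of_flat_of_mono α.left
    haveI : IsIso α.left := (isIso_iff_isOpenImmersion_and_epi_base _).mpr ⟨inferInstance,
      (TopCat.epi_iff_surjective _).mpr α.left.surjective⟩
    haveI : IsProper G.hom := by rw [← Over.w α]; infer_instance
    haveI := AlgGrpH24.geometricallyIntegral_grp G
    haveI := Chev24.geometricallyConnected_of_geometricallyIrreducible G.hom
    exact (GrpSchLib.AntiAffine.bijective_appTop_iff G.hom).2 (H23.CubeField.bijective_appTop_of_connected G)

end Groth.Agent.S11407
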