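import Groth.Statements.S11435
import Groth.Agent.GITBal.OrbitProper
-- import your own Groth.Agent.* helpers here

set_option autoImplicit false
universe u
open CategoryTheory MonoidalCategory CartesianMonoidalCategory MonObj GrpObj AlgebraicGeometry Topology
open GIT

namespace Groth.Agent.S11435

/-- Over an algebraically closed field k, let a group scheme G of finite type act on a scheme X of
finite type and let x be a k-rational point of X. Then the orbit morphism ψ_x : G × Spec k → X ×
Spec k, g ↦ (g · x, pt), is proper if and only if the orbit of x (the image of ψ_x) is closed and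
the stabilizer of x (the fibre of ψ_x over (x, pt)) is proper over k. -/
theorem result (k : Type u) [Field k] [IsAlgClosed k]
    (G X : Over (Spec (CommRingCat.of k))) [GrpObj G] [LocallyOfFiniteType G.hom] [QuasiCompact G.hom]
    [LocallyOfFiniteType X.hom] [QuasiCompact X.hom] (a : AlgGrp.Action G X)
    (x : 𝟙_ (Over (Spec (CommRingCat.of k))) ⟶ X) :
    IsProper (GIT.psi a x).left ↔
      IsClosed (Set.range (GIT.psi a x).left.base) ∧
        IsProper (Limits.pullback.snd (GIT.psi a x).left (lift x (𝟙 (𝟙_ (Over (Spec (CommRingCat.of k)))))).left ≫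
          (𝟙_ (Over (Spec (CommRingCat.of k)))).hom) := by
  have hpsi : GIT.psi a x = (ρ_ G).hom ≫ a.orbitMap x ≫ (ρ_ X).inv := by
    refine CartesianMonoidalCategory.hom_ext _ _ ?_ (toUnit_unique _ _)
    simp only [GIT.psi, lift_fst, Category.assoc, rightUnitor_inv_fst, Category.comp_id, rightUnitor_hom]
    rw [AlgGrp.Action.comp_orbitMap]
    congr 1
    refine CartesianMonoidalCategory.hom_ext _ _ ?_ ?_
    · simp
    · rw [whiskerLeft_snd, lift_snd, toUnit_unique (toUnit _) (snd _ _)]
  have hlx : lift x (𝟙 (𝟙_ (Over (Spec (CommRingCat.of k))))) = x ≫ (ρ_ X).inv := by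
    refine CartesianMonoidalCategory.hom_ext _ _ ?_ (toUnit_unique _ _)
    simp
  haveI : IsIso (ρ_ G).hom.left := ((Over.forget _).mapIso (ρ_ G)).isIso_hom
  haveI : IsIso (ρ_ X).inv.left := ((Over.forget _).mapIso (ρ_ X).symm).isIso_hom
  haveI : IsIso (ρ_ G).hom := (ρ_ G).isIso_hom
  haveI : IsIso (ρ_ X).inv := (ρ_ X).isIso_inv
  have e1 : (GIT.psi a x).left = (ρ_ G).hom.left ≫ (a.orbitMap x).left ≫ (ρ_ X).inv.left := by
    rw [hpsi, Over.comp_left, Over.comp_left]
  have hP : IsProper (GIT.psi a x).left ↔ IsProper (a.orbitMap x).left := by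
    rw [e1]
    exact (MorphismProperty.cancel_left_of_respectsIso @IsProper _ _).trans
      (MorphismProperty.cancel_right_of_respectsIso @IsProper _ _)
  have sq : IsPullback (Limits.pullback.fst (GIT.psi a x).left
      (lift x (𝟙 (𝟙_ (Over (Spec (CommRingCat.of k)))))).left ≫ (ρ_ G).hom.left)
      (Limits.pullback.snd (GIT.psi a x).left (lift x (𝟙 (𝟙_ (Over (Spec (CommRingCat.of k)))))).left)
      (a.orbitMap x).left x.left := by
    have h0 : IsPullback (ρ_ G).hom (GIT.psi a x) (a.orbitMap x) (ρ_ X).hom :=
      IsPullback.of_horiz_isIso ⟨by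
        rw [hpsi, Category.assoc, Category.assoc, Iso.inv_hom_id, Category.comp_id]⟩
    have h1 : IsPullback (ρ_ G).hom.left (GIT.psi a x).left (a.orbitMap x).left (fst X (𝟙_ _)).left := by
      have := h0.map (Over.forget _)
      rwa [rightUnitor_hom (X := X)] at this
    have h2 := (IsPullback.of_hasPullback (GIT.psi a x).left
      (lift x (𝟙 (𝟙_ (Over (Spec (CommRingCat.of k)))))).left).paste_horiz h1
    rwa [← Over.comp_left, lift_fst] at h2
  have sq' : IsPullback (Limits.pullback.fst (a.orbitMap x) x).left (Limits.pullback (a.orbitMap x) x).hom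
      (a.orbitMap x).left x.left := by
    have h := (IsPullback.of_hasPullback (a.orbitMap x) x).map (Over.forget _)
    have e : (Limits.pullback.snd (a.orbitMap x) x).left = (Limits.pullback (a.orbitMap x) x).hom := by
      have := Over.w (Limits.pullback.snd (a.orbitMap x) x)
      simpa using this
    rwa [← e]
  have hid : (𝟙_ (Over (Spec (CommRingCat.of k)))).hom = 𝟙 _ := rfl
  have hS : IsProper (Limits.pullback.snd (GIT.psi a x).left
      (lift x (𝟙 (𝟙_ (Over (Spec (CommRingCat.of k)))))).left ≫ (𝟙_ (Over (Spec (CommRingCat.of k)))).hom) ↔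
      IsProper (Limits.pullback (a.orbitMap x) x).hom := by
    rw [hid, Category.comp_id, ← sq.isoIsPullback_hom_snd _ _ sq']
    exact MorphismProperty.cancel_left_of_respectsIso @IsProper _ _
  have hR : Set.range (GIT.psi a x).left.base = (ρ_ X).inv.left.base '' Set.range (a.orbitMap x).left.base := by
    rw [e1]
    ext y
    constructor
    · rintro ⟨z, rfl⟩
      exact ⟨_, ⟨(ρ_ G).hom.left.base z, rfl⟩, rfl⟩
    · rintro ⟨_, ⟨z, rfl⟩, rfl⟩
      obtain ⟨z', rfl⟩ := (ρ_ G).hom.left.surjective z
      exact ⟨z', rfl⟩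
  have hclosed : IsClosed (Set.range (GIT.psi a x).left.base) ↔ IsClosed (Set.range (a.orbitMap x).left.base) := by
    rw [hR]
    exact ((ρ_ X).inv.left.isClosedEmbedding.isClosed_iff_image_isClosed).symm
  rw [hP, hS, hclosed]
  constructor
  · intro h
    exact ⟨(a.orbitMap x).left.isClosedMap.isClosed_range,
      MorphismProperty.of_isPullback (P := @IsProper) sq' h⟩
  · rintro ⟨hc, hs⟩
    exact GITBal.isProper_orbitMap a x hc hs

end Groth.Agent.S11435
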