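import Groth.Statements.S11486
import Groth.Agent.Pn90.Rank
-- import your own Groth.Agent.* helpers here

set_option autoImplicit false
universe u
open VBPn

namespace Groth.Agent.S11486

open CategoryTheory CategoryTheory.Limits AlgebraicGeometry in
/-- Let k be a characteristic-zero algebraically closed field and E a finite locally free O-module of
rank r on P^n_k. Then E splits as a direct sum of twisting sheaves O(a_1) ⊕ ⋯ ⊕ O(a_r) if and only
if H^i(P^n_k, E ⊗ O(d)) = 0 for every 0 < i < n and every integer d. -/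
theorem result (k : Type u) [Field k] [IsAlgClosed k] [CharZero k]
    (n r : ℕ) (E : (CohB1.ProjSpace n k).Modules) (hE : FlatMod.IsFinLocFreeOfRank r E) :
    (∃ a : Fin r → ℤ, Nonempty (E ≅ ∐ fun j : Fin r => Twist.twistProjSpace n k (a j))) ↔
      ∀ (i : ℕ) (d : ℤ), 0 < i → i < n →
        Subsingleton (Coh.HH (CohB1.ProjSpace n k) (CohB1.tensorMod E (Twist.twistProjSpace n k d)) i) := by
  refine ⟨fun ⟨a, ⟨e⟩⟩ i d h0 hn => (Pn90.noMid_coprod a).of_retract e.hom e.inv e.hom_inv_id i d h0 hn, fun h => ?_⟩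
  rcases Nat.eq_zero_or_pos n with rfl | hn
  · exact ⟨fun _ => 0, Pn90.exists_iso_coprod_zero hE⟩
  have hf : FlatMod.IsFinLocFree E := fun x => let ⟨U, hx, e⟩ := hE x; ⟨U, r, hx, e⟩
  obtain ⟨r', a, ⟨e⟩⟩ := Pn90.exists_iso_coprod hn (CurveDeg.isCoh_of_isFinLocFree hf) h
    (Pn90.exists_H0_vanishing hn hf)
  obtain rfl := Pn90.eq_of_iso_coprod hE e
  exact ⟨a, ⟨e⟩⟩

end Groth.Agent.S11486
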