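import Groth.Statements.S11523
import Mathlib.CategoryTheory.Subobject.Limits
import Mathlib.CategoryTheory.Abelian.Refinements
import Mathlib.CategoryTheory.Simple

set_option linter.style.haveILetI false

set_option autoImplicit false
universe v u v' u'
open CategoryTheory CategoryTheory.Limits
open PervT

namespace Groth.Agent.S11523

/-- A nonzero noetherian object has a simple quotient. -/
lemma exists_simple_quotient {A : Type u} [Category.{v} A] [Abelian A] (X : A)
    [IsNoetherianObject X] (hX : ¬ IsZero X) :
    ∃ (T : A) (p : X ⟶ T), Epi p ∧ Simple T := by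
  obtain ⟨M, hM, hmax⟩ := (wellFounded_gt (α := Subobject X)).has_min {K | K ≠ ⊤} ⟨⊥, fun h => hX <| by
    rw [IsZero.iff_id_eq_zero]
    have := Subobject.isIso_arrow_iff_eq_top (⊥ : Subobject X) |>.2 h
    rw [← cancel_epi ((⊥ : Subobject X).arrow)]
    simp⟩
  refine ⟨cokernel M.arrow, cokernel.π M.arrow, inferInstance, simple_of_cosimple _ ?_⟩
  intro Z q _
  constructor
  · intro hq hq0
    subst hq0
    apply hM
    have hZ : IsZero (cokernel M.arrow) := by
      rw [IsZero.iff_id_eq_zero]
      exact (cancel_mono (0 : cokernel M.arrow ⟶ Z)).1 (by simp)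
    have hπ : cokernel.π M.arrow = 0 := hZ.eq_of_tgt _ _
    haveI : Epi M.arrow := Abelian.epi_of_cokernel_π_eq_zero _ hπ
    haveI := isIso_of_mono_of_epi M.arrow
    exact Subobject.eq_top_of_isIso_arrow M
  · intro hq
    have hle : M ≤ kernelSubobject (cokernel.π M.arrow ≫ q) :=
      le_kernelSubobject _ M (by simp)
    have hne : kernelSubobject (cokernel.π M.arrow ≫ q) ≠ ⊤ := by
      intro h
      haveI := (Subobject.isIso_arrow_iff_eq_top _).2 h
      apply hq
      rw [← cancel_epi (cokernel.π M.arrow),
        ← cancel_epi (kernelSubobject (cokernel.π M.arrow ≫ q)).arrow]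
      simp
    have heq : kernelSubobject (cokernel.π M.arrow ≫ q) = M :=
      ((eq_or_lt_of_le hle).resolve_right (hmax _ hne)).symm
    haveI : Mono q := by
      refine Preadditive.mono_of_cancel_zero _ (fun {W} x hx => ?_)
      obtain ⟨W', π, hπ, x', hx'⟩ := surjective_up_to_refinements_of_epi (cokernel.π M.arrow) x
      have hk : x' ≫ cokernel.π M.arrow ≫ q = 0 := by
        rw [← Category.assoc, ← hx', Category.assoc, hx, comp_zero]
      have hfac := kernelSubobject_factors _ x' hk
      rw [heq] at hfac
      rw [← cancel_epi π, hx', comp_zero, ← Subobject.factorThru_arrow M x' hfac,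
        Category.assoc, cokernel.condition, comp_zero]
    exact isIso_of_mono_of_epi q


/-- Let `u : A ⥤ B` be a fully faithful exact functor of abelian categories admitting a left adjoint and
a right adjoint `uStar`. Suppose every object of `A` has finite length (it is both an artinian and a
noetherian object) and that `u` sends simple objects to simple objects. Then for every object `Y` of
`B` the counit `u (uStar Y) ⟶ Y` of the adjunction `u ⊣ uStar` is a monomorphism. (The published
statement also lists two further conditions equivalent to this one: that for every object `Y` of `B`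
the unit `Y ⟶ u (L Y)` of the adjunction `L ⊣ u` of the left adjoint `L` is an epimorphism, and that
the essential image of `u` is stable under subobjects and quotients; this row states only the counit
condition.) -/
theorem result {A : Type u} [Category.{v} A] [Abelian A] {B : Type u'} [Category.{v'} B] [Abelian B]
    (u : A ⥤ B) [u.Full] [u.Faithful] [PreservesFiniteLimits u] [PreservesFiniteColimits u] [u.IsRightAdjoint]
    (uStar : B ⥤ A) (adj : u ⊣ uStar)
    (hlen : ∀ X : A, IsArtinianObject X ∧ IsNoetherianObject X)
    (hsimple : ∀ X : A, Simple X → Simple (u.obj X)) (Y : B) :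
    Mono (adj.counit.app Y) := by
  by_contra hY
  obtain ⟨X, a, ha, hm⟩ : ∃ (X : A) (a : X ⟶ uStar.obj Y), Mono a ∧
      ¬ Mono (u.map a ≫ adj.counit.app Y) :=
    ⟨_, 𝟙 _, inferInstance, by simpa using hY⟩
  haveI : WellFoundedLT (Subobject (uStar.obj Y)) :=
    have := (hlen (uStar.obj Y)).1; inferInstance
  obtain ⟨P, hP, hPmin⟩ := (wellFounded_lt (α := Subobject (uStar.obj Y))).has_min
    {P | ¬ Mono (u.map P.arrow ≫ adj.counit.app Y)} ⟨Subobject.mk a, by
      intro h
      apply hm
      have : u.map a ≫ adj.counit.app Y = u.map (Subobject.underlyingIso a).inv ≫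
          (u.map (Subobject.mk a).arrow ≫ adj.counit.app Y) := by
        rw [← Category.assoc, ← u.map_comp, Subobject.underlyingIso_arrow]
      rw [this]
      haveI := h
      infer_instance⟩
  have hP0 : ¬ IsZero (P : A) := by
    intro h
    apply hP
    have hz : IsZero (u.obj (P : A)) := u.map_isZero h
    exact ⟨fun _ _ _ => hz.eq_of_tgt _ _⟩
  haveI : IsNoetherianObject (P : A) := (hlen _).2
  obtain ⟨T, p, hp, hT⟩ := exists_simple_quotient (P : A) hP0
  haveI := hsimple T hT
  set Q : Subobject (uStar.obj Y) := Subobject.mk (kernel.ι p ≫ P.arrow) with hQ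
  have hQP : Q < P := by
    refine lt_of_le_of_ne (Subobject.mk_le_of_comm (kernel.ι p) rfl) ?_
    intro h
    have e := Subobject.ofLE P Q h.ge ≫ (Subobject.underlyingIso _).hom
    have he : (Subobject.ofLE P Q h.ge ≫ (Subobject.underlyingIso (kernel.ι p ≫ P.arrow)).hom) ≫
        kernel.ι p = 𝟙 _ := by
      rw [← cancel_mono P.arrow]
      simp only [Category.assoc, Category.id_comp, Subobject.underlyingIso_hom_comp_eq_mk]
      exact Subobject.ofLE_arrow _
    have hp0 : p = 0 := by
      calc p = 𝟙 _ ≫ p := (Category.id_comp p).symm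
        _ = 0 := by rw [← he, Category.assoc, kernel.condition, comp_zero]
    apply Simple.not_isZero T
    rw [IsZero.iff_id_eq_zero, ← cancel_epi p, hp0]
    simp
  have hQmono : Mono (u.map (kernel.ι p) ≫ u.map P.arrow ≫ adj.counit.app Y) := by
    have h := hPmin Q
    simp only [Set.mem_ofPred_eq] at h
    have hmQ : Mono (u.map Q.arrow ≫ adj.counit.app Y) := not_not.1 fun hn => h hn hQP
    have : u.map (kernel.ι p) ≫ u.map P.arrow ≫ adj.counit.app Y =
        u.map (Subobject.underlyingIso (kernel.ι p ≫ P.arrow)).inv ≫
          (u.map Q.arrow ≫ adj.counit.app Y) := by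
      rw [← Category.assoc, ← Category.assoc, ← u.map_comp, ← u.map_comp]
      congr 2
      exact (Subobject.underlyingIso_arrow _).symm
    rw [this]
    infer_instance
  let c := u.map P.arrow ≫ adj.counit.app Y
  haveI : Mono (kernel.ι c ≫ u.map p) := by
    refine Preadditive.mono_of_cancel_zero _ (fun {W} x hx => ?_)
    rw [← Category.assoc] at hx
    let e := PreservesKernel.iso u p
    have h2 : kernel.lift (u.map p) (x ≫ kernel.ι c) hx ≫ e.inv ≫ u.map (kernel.ι p) =
        x ≫ kernel.ι c := by simp [e]
    haveI := hQmono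
    have h3 : kernel.lift (u.map p) (x ≫ kernel.ι c) hx ≫ e.inv = 0 := by
      rw [← cancel_mono (u.map (kernel.ι p) ≫ c)]
      simp only [Category.assoc, zero_comp]
      rw [reassoc_of% h2, kernel.condition, comp_zero]
    rw [← cancel_mono (kernel.ι c), zero_comp, ← h2, ← Category.assoc, h3, zero_comp]
  have hnz : kernel.ι c ≫ u.map p ≠ 0 := by
    intro h
    apply hP
    refine Preadditive.mono_of_cancel_zero _ (fun {W} x hx => ?_)
    have h0 : kernel.ι c = 0 := by
      have hid : 𝟙 (kernel c) = 0 := (cancel_mono (kernel.ι c ≫ u.map p)).1 (by simp [h])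
      rw [← Category.id_comp (kernel.ι c), hid, zero_comp]
    rw [← kernel.lift_ι c x hx, h0, comp_zero]
  haveI := isIso_of_mono_of_nonzero hnz
  let s : T ⟶ (P : A) := u.preimage (inv (kernel.ι c ≫ u.map p) ≫ kernel.ι c)
  have hs : s ≫ P.arrow = 0 := by
    refine (adj.homEquiv T Y).symm.injective ?_
    rw [Adjunction.homEquiv_counit, Adjunction.homEquiv_counit, u.map_comp, Category.assoc]
    simp [s, c]
  have hs' : s = 0 := (cancel_mono P.arrow).1 (hs.trans zero_comp.symm)
  apply Simple.not_isZero T
  rw [IsZero.iff_id_eq_zero]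
  apply u.map_injective
  have : u.map (s ≫ p) = u.map (𝟙 T) := by simp [s]
  rw [← this, hs', zero_comp]

end Groth.Agent.S11523
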