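import Groth.Statements.S5022
import Groth.Agent.Synt29.SmoothDim
import Groth.Agent.Synt29.OmegaAffine
import Groth.Agent.QCoh.LocFree
import Groth.Agent.PP38.SmoothAtFibre
-- import your own Groth.Agent.* helpers here

set_option autoImplicit false
universe u
open CategoryTheory CategoryTheory.Limits AlgebraicGeometry TopologicalSpace
open Unram17

namespace Groth.Agent.S5022

open PP38.SmoothAtFibre

/-- Let f : X ⟶ Y be locally of finite presentation, (Ω', d) a sheaf of differentials of X over Y (d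
universal) and x a point of X. Then f is smooth at x if and only if the stalk map at x is flat and
there are an open neighbourhood U of x and an integer n with Ω' free of rank n on U and n equal to
the local dimension at x of the fibre of f through x. -/
theorem result {X Y : Scheme.{u}} (f : X ⟶ Y)
    [LocallyOfFinitePresentation f] (Ω' : X.Modules) (d : OmegaSh.Der f Ω') (hd : OmegaSh.IsUniversal d) (x : ↥X) :
    x ∈ f.smoothLocus ↔
      (f.stalkMap x).hom.Flat ∧
        ∃ (U : X.Opens) (n : ℕ), x ∈ U ∧ Nonempty (Ω'.restrict U.ι ≅ FlatMod.freeMod (↑U) n) ∧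
          FlatMor.fibreDimAt f x = (n : WithBot ℕ∞) := by
  constructor
  · intro hx
    obtain ⟨_, ⟨U, hU, rfl⟩, hxU, -⟩ :=
      Y.isBasis_affineOpens.exists_subset_of_mem_open (Set.mem_univ (f x)) isOpen_univ
    obtain ⟨_, ⟨V, hV, rfl⟩, hxV, e : V ≤ f ⁻¹ᵁ U⟩ :=
      X.isBasis_affineOpens.exists_subset_of_mem_open hxU (U.2.preimage f.continuous)
    have := f.finitePresentation_appLE hU hV e
    refine ⟨?_, ?_⟩
    · obtain ⟨U', hU', V', hV', e', hxV', hsm⟩ := exists_smooth_of_formallySmooth_stalk f x hx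
      algebraize [(f.appLE U' V' e').hom]
      have : Module.Flat Γ(Y, U') Γ(X, V') := inferInstance
      exact flat_stalkMap_of_flat f hU' hV' e' hxV' this
    · algebraize [(f.appLE U V e).hom]
      haveI : Algebra.IsSmoothAt Γ(Y, U) (hV.primeIdealOf ⟨x, hxV⟩).asIdeal :=
        (formallySmooth_stalkMap_iff U hU V hV e hxV).mp hx
      obtain ⟨r, hrx, hr⟩ := Algebra.IsSmoothAt.exists_notMem_isStandardSmooth Γ(Y, U)
        (hV.primeIdealOf ⟨x, hxV⟩).asIdeal
      have hxr : x ∈ X.basicOpen r := by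
        have h1 : hV.primeIdealOf ⟨x, hxV⟩ ∈ PrimeSpectrum.basicOpen r := hrx
        rw [← hV.fromSpec_preimage_basicOpen] at h1
        have h2 : hV.fromSpec (hV.primeIdealOf ⟨x, hxV⟩) ∈ X.basicOpen r := h1
        rwa [hV.fromSpec_primeIdealOf] at h2
      have e' : X.basicOpen r ≤ f ⁻¹ᵁ U := (X.basicOpen_le r).trans e
      have := hV.isLocalization_basicOpen r
      have hstd : (f.appLE U (X.basicOpen r) e').hom.IsStandardSmooth := by
        let _ := (f.appLE U (X.basicOpen r) e').hom.toAlgebra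
        haveI : IsScalarTower Γ(Y, U) Γ(X, V) Γ(X, X.basicOpen r) := IsScalarTower.of_algebraMap_eq fun a => by
          show f.appLE U (X.basicOpen r) e' a = X.presheaf.map _ (f.appLE U V e a)
          rw [← ConcreteCategory.comp_apply, Scheme.Hom.appLE_map]
        exact Algebra.IsStandardSmooth.of_algEquiv
          ((IsLocalization.algEquiv (Submonoid.powers r) (Localization.Away r) Γ(X, X.basicOpen r)).restrictScalars Γ(Y, U))
      let _ := (f.appLE U (X.basicOpen r) e').hom.toAlgebra
      obtain ⟨ι, σ, hι, hσ, ⟨P⟩⟩ := (show Algebra.IsStandardSmooth Γ(Y, U) Γ(X, X.basicOpen r) from hstd).out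
      have hrel : RingHom.IsStandardSmoothOfRelativeDimension P.dimension (f.appLE U (X.basicOpen r) e').hom :=
        ⟨ι, σ, ‹_›, ‹_›, P, rfl⟩
      refine ⟨X.basicOpen r, P.dimension, hxr, ?_, ?_⟩
      · haveI : Algebra.IsStandardSmoothOfRelativeDimension P.dimension Γ(Y, U) Γ(X, X.basicOpen r) := hrel
        haveI : Algebra.IsStandardSmooth Γ(Y, U) Γ(X, X.basicOpen r) := hstd
        haveI : Nontrivial Γ(X, X.basicOpen r) := by
          refine ⟨⟨0, 1, fun h => ?_⟩⟩
          have h1 := congrArg (X.presheaf.germ (X.basicOpen r) x hxr) h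
          rw [map_zero, map_one] at h1
          exact zero_ne_one h1
        have hk : Module.finrank Γ(X, X.basicOpen r) Ω[Γ(X, X.basicOpen r)⁄Γ(Y, U)] = P.dimension := by
          have := Algebra.IsStandardSmoothOfRelativeDimension.rank_kaehlerDifferential (R := Γ(Y, U))
            (S := Γ(X, X.basicOpen r)) P.dimension
          simp [Module.finrank, this]
        let b := (Module.finBasisOfFinrankEq Γ(X, X.basicOpen r) Ω[Γ(X, X.basicOpen r)⁄Γ(Y, U)] hk).reindex
          Equiv.ulift.symm
        obtain ⟨l⟩ := Synt29.OmegaStalk.exists_linearEquiv_sections hd (hV.basicOpen r) hU e'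
        exact QCoh.exists_free_restrict (Synt29.OmegaStalk.isQCoh_of_isUniversal hd) (hV.basicOpen r)
          (l.trans b.repr)
      · haveI := Synt29.SmoothDim.smoothOfRelativeDimension_chart f hU (hV.basicOpen r) e' hrel
        exact Synt29.SmoothDim.fibreDimAt_eq_of_nhd f (X.basicOpen r) P.dimension hxr
  · rintro ⟨hflat, W, n, hxW, ⟨eW⟩, hdim⟩
    obtain ⟨_, ⟨U, hU, rfl⟩, hxU, -⟩ :=
      Y.isBasis_affineOpens.exists_subset_of_mem_open (Set.mem_univ (f x)) isOpen_univ
    obtain ⟨_, ⟨V, hV, rfl⟩, hxV, hVle⟩ :=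
      X.isBasis_affineOpens.exists_subset_of_mem_open (show x ∈ (W ⊓ f ⁻¹ᵁ U : X.Opens) from ⟨hxW, hxU⟩)
        (W ⊓ f ⁻¹ᵁ U).2
    have e : V ≤ f ⁻¹ᵁ U := fun y hy => (hVle hy).2
    obtain ⟨lf⟩ := QCoh.free_sections hV (fun y hy => (hVle hy).1) eW
    have := f.finitePresentation_appLE hU hV e
    algebraize [(f.appLE U V e).hom]
    obtain ⟨ls⟩ := Synt29.OmegaStalk.exists_linearEquiv_sections hd hV hU e
    refine (formallySmooth_stalkMap_iff U hU V hV e hxV).mpr ?_
    exact isSmoothAt_of_free f hU hV e hxV hflat n (ls.symm.trans lf) hdim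

end Groth.Agent.S5022
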