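import Groth.Statements.S1169
import Groth.Agent.Grass60.CurveAddPoint
import Groth.Agent.SrcDescent.SmoothFppf

set_option autoImplicit false
set_option linter.style.haveILetI false
open CategoryTheory CategoryTheory.Limits AlgebraicGeometry
universe u
open HilbD

namespace Groth.Agent.S1169

open Groth.Agent.HilbDLib Groth.Agent.Grass60

theorem topDeg {Y S : Scheme.{u}} (p : Y ⟶ S) :
    Mor2.IsFinLocFreeOfDeg 0 ((⊤ : Y.IdealSheafData).subschemeι ≫ p) := by
  refine ⟨⟨inferInstance, inferInstance, inferInstance⟩, fun y => ?_⟩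
  haveI : IsFinite ((⊤ : Y.IdealSheafData).subschemeι ≫ p) := inferInstance
  haveI : Flat ((⊤ : Y.IdealSheafData).subschemeι ≫ p) := inferInstance
  set g := (⊤ : Y.IdealSheafData).subschemeι ≫ p
  by_contra h
  haveI := (pullback.snd g (S.fromSpecResidueField y)).one_le_finrank_iff_surjective.1 fun t => by
    rw [Scheme.Hom.finrank_pullback_snd, Scheme.fromSpecResidueField_apply]
    exact Nat.one_le_iff_ne_zero.2 h
  obtain ⟨z, -⟩ := (pullback.snd g (S.fromSpecResidueField y)).surjective default
  exact isEmptyElim (pullback.fst g (S.fromSpecResidueField y) z)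

/-- Let f : X ⟶ S be smooth of relative dimension 1 and separated, and assume the Hilbert functor of
points of X over S is representable in every degree. Then for every d, any scheme H over S carrying
a universal family for the degree-d Hilbert functor of points is smooth over S. (The published
statement also asserts that H has relative dimension d over S; only smoothness is asserted here.) -/
theorem result {X S : Scheme.{u}} (f : X ⟶ S) [SmoothOfRelativeDimension 1 f] [IsSeparated f]
    (hrep : ∀ e : ℕ, HilbD.Representable f e) (d : ℕ) (H : Over S) (Z : HilbD.Obj f d H)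
    (hZ : HilbD.IsUniversal f d H Z) : Smooth H.hom := by
  haveI : Smooth f := SmoothOfRelativeDimension.smooth 1 f
  induction d generalizing H with
  | zero =>
    haveI : ∀ U : Over S, SmoothOfRelativeDimension 1 (PicF.XTproj f U) := fun U =>
      (smoothOfRelativeDimension_isStableUnderBaseChange 1).of_isPullback (IsPullback.of_hasPullback f U.hom) inferInstance
    have top : ∀ {U : Over S} (I : HilbD.Obj f 0 U), I.1 = ⊤ := fun {U} I =>
      CurveFlag.eq_top_of_deg_zero (PicF.XTproj f U) I.2
    let O : Over S := Over.mk (𝟙 S)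
    obtain ⟨s, -, -⟩ := hZ O ⟨⊤, topDeg _⟩
    have h1 : s.left ≫ H.hom = 𝟙 S := Over.w s
    let t : H ⟶ O := Over.homMk H.hom (Category.comp_id _)
    have h2 : t ≫ s = 𝟙 H := (hZ H Z).unique
      ((top ⟨_, isFinLocFreeOfDeg_pull f (t ≫ s) Z.1 Z.2⟩).trans (top Z).symm) (pull_id f _)
    haveI : IsIso H.hom := ⟨s.left, congrArg CommaMorphism.left h2, h1⟩
    infer_instance
  | succ d ih =>
    obtain ⟨H₀, Z₀, hZ₀⟩ := hrep d
    haveI := ih H₀ Z₀ hZ₀
    let T : Over S := Over.mk (pullback.fst H₀.hom f ≫ H₀.hom)
    let πH : T ⟶ H₀ := Over.homMk (pullback.fst H₀.hom f) rfl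
    haveI : SmoothOfRelativeDimension 1 (PicF.XTproj f T) :=
      (smoothOfRelativeDimension_isStableUnderBaseChange 1).of_isPullback (IsPullback.of_hasPullback f T.hom) inferInstance
    obtain ⟨m, hm, -⟩ := hZ T ⟨_, CurveDiv.sum_finLocFreeOfDeg (PicF.XTproj f T)
      (isFinLocFreeOfDeg_pull f πH Z₀.1 Z₀.2)
      (CurveAddPoint.deg_secGraph f T (pullback.snd H₀.hom f) pullback.condition.symm)⟩
    obtain ⟨⟨m1, m2, m3⟩, m4⟩ :=
      CurveAddPoint.finLocFree_addPoint f d H₀ Z₀ hZ₀ H Z hZ m hm
    haveI : Surjective m.left := m.left.one_le_finrank_iff_surjective.1 fun y => by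
      rw [m4 y]; exact Nat.le_add_left 1 d
    haveI : Smooth (m.left ≫ H.hom) := by
      rw [Over.w m]; change Smooth (pullback.fst H₀.hom f ≫ H₀.hom); infer_instance
    exact Groth.Agent.SrcDescent.smooth_of_fppf_comp m.left H.hom

end Groth.Agent.S1169
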