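import Groth.Statements.S1170
import Groth.Agent.Grass60.CurveAffine
import Groth.Agent.Grass60.HilbGen
import Groth.Agent.S1169

set_option autoImplicit false
set_option linter.style.haveILetI false
open CategoryTheory CategoryTheory.Limits AlgebraicGeometry
universe u
open HilbD

namespace Groth.Agent.S1170

open Groth.Agent.HilbDLib Groth.Agent.Grass60

theorem universallyClosed {X S : Scheme.{u}} (f : X ⟶ S) [SmoothOfRelativeDimension 1 f] [IsSeparated f]
    [UniversallyClosed f] (hrep : ∀ e : ℕ, HilbD.Representable f e) (d : ℕ) :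
    ∀ (H : Over S) (Z : HilbD.Obj f d H), HilbD.IsUniversal f d H Z → UniversallyClosed H.hom := by
  haveI : ∀ U : Over S, SmoothOfRelativeDimension 1 (PicF.XTproj f U) := fun U =>
    (smoothOfRelativeDimension_isStableUnderBaseChange 1).of_isPullback (IsPullback.of_hasPullback f U.hom) inferInstance
  induction d with
  | zero =>
    intro H Z hZ
    obtain ⟨s, -, -⟩ := hZ (Over.mk (𝟙 S)) ⟨⊤, S1169.topDeg _⟩
    let t : H ⟶ Over.mk (𝟙 S) := Over.homMk H.hom (Category.comp_id _)
    have h2 : t ≫ s = 𝟙 H := (hZ H Z).unique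
      ((CurveFlag.eq_top_of_deg_zero (PicF.XTproj f H) (isFinLocFreeOfDeg_pull f (t ≫ s) Z.1 Z.2)).trans
        (CurveFlag.eq_top_of_deg_zero (PicF.XTproj f H) Z.2).symm) (pull_id f _)
    haveI : IsIso H.hom := ⟨s.left, congrArg CommaMorphism.left h2, Over.w s⟩
    infer_instance
  | succ d ih =>
    intro H Z hZ
    obtain ⟨H₀, Z₀, hZ₀⟩ := hrep d
    haveI := ih H₀ Z₀ hZ₀
    let T : Over S := Over.mk (pullback.fst H₀.hom f ≫ H₀.hom)
    obtain ⟨m, hm, -⟩ := hZ T ⟨_, CurveDiv.sum_finLocFreeOfDeg (PicF.XTproj f T)
      (isFinLocFreeOfDeg_pull f (Over.homMk (pullback.fst H₀.hom f) rfl : T ⟶ H₀) Z₀.1 Z₀.2)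
      (CurveAddPoint.deg_secGraph f T (pullback.snd H₀.hom f) pullback.condition.symm)⟩
    obtain ⟨⟨m1, m2, m3⟩, m4⟩ :=
      CurveAddPoint.finLocFree_addPoint f d H₀ Z₀ hZ₀ H Z hZ m hm
    haveI : Surjective m.left := m.left.one_le_finrank_iff_surjective.1 fun y => by
      rw [m4 y]; exact Nat.le_add_left 1 d
    haveI : UniversallyClosed (m.left ≫ H.hom) := by
      rw [Over.w m]; change UniversallyClosed (pullback.fst H₀.hom f ≫ H₀.hom); infer_instance
    exact UniversallyClosed.of_comp_surjective m.left H.hom

/-- Let X be a smooth proper curve over a field k which stays irreducible after every extension of the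
base field. Then for every d the degree-d Hilbert functor of points of X over k is represented by a
scheme which is proper and smooth over k. The published statement has projective in place of proper
(the two agree for curves over a field) and also asserts that the representing scheme is irreducible
of dimension d, which is not asserted here. -/
theorem result (k : Type u) [Field k] (X : Scheme.{u}) (f : X ⟶ Spec (CommRingCat.of k))
    (hX : Curve.IsSmoothProperCurve k X f) [GeometricallyIrreducible f] (d : ℕ) :
    ∃ (H : Over (Spec (CommRingCat.of k))) (Z : HilbD.Obj f d H), HilbD.IsUniversal f d H Z ∧ IsProper H.hom ∧ Smooth H.hom := by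
  haveI : IsProper f := hX.1
  haveI := CurveAffine.smoothOfRelativeDimension_one k f hX
  have hrep : ∀ e : ℕ, HilbD.Representable f e := fun e => HilbGen.representable fun _ x _ => by
    obtain ⟨U, hU, hT⟩ := CurveAffine.exists_affineOpen_finite k f hX (Set.finite_range x)
    exact ⟨U, hU, fun i => hT ⟨i, rfl⟩⟩
  obtain ⟨H, Z, hZ⟩ := hrep d
  haveI : Smooth H.hom := S1169.result f hrep d H Z hZ
  haveI := isSeparated_of_isUniversal f d H Z hZ
  haveI := universallyClosed f hrep d H Z hZ
  exact ⟨H, Z, hZ, {}, inferInstance⟩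

end Groth.Agent.S1170
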