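import Groth.Statements.S1191
import Groth.Agent.AssFiber.Basic
import Mathlib

set_option autoImplicit false
universe u
open FlatMor

namespace Groth.Agent.S1191

attribute [local instance] Algebra.TensorProduct.rightAlgebra

open TensorProduct in
/-- For a finitely presented algebra S over R, a finitely presented S-module N and a prime q of S over
p, some element of S outside q maps into every associated prime of the fibre module of N over p that
is not contained in the extension of q to the fibre ring. -/
theorem result {R S : Type u} [CommRing R] [CommRing S] [Algebra R S] [Algebra.FinitePresentation R S]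
    (N : Type u) [AddCommGroup N] [Module S N] [Module R N] [IsScalarTower R S N] [Module.FinitePresentation S N]
    (p : Ideal R) [p.IsPrime] (q : Ideal S) [q.IsPrime] [q.LiesOver p] :
    ∃ g : S, g ∉ q ∧ ∀ r ∈ associatedPrimes (p.Fiber S) (FlatCA.fiberMod p S N),
      ¬ r ≤ FlatCA.fiberIdeal p q → (1 : p.ResidueField) ⊗ₜ[R] g ∈ r := by
  classical
  have : IsNoetherianRing (p.Fiber S) := Algebra.FiniteType.isNoetherianRing p.ResidueField _
  have : Module.Finite (p.Fiber S) (FlatCA.fiberMod p S N) :=
    inferInstanceAs (Module.Finite (p.Fiber S) ((p.Fiber S) ⊗[S] N))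
  have hfin := associatedPrimes.finite (p.Fiber S) (FlatCA.fiberMod p S N)
  let ι := (Algebra.TensorProduct.includeRight (R := R) (A := p.ResidueField) (B := S)).toRingHom
  have hex : ∀ r : Ideal (p.Fiber S), ¬ r ≤ FlatCA.fiberIdeal p q → ∃ g : S, g ∉ q ∧ ι g ∈ r := by
    intro r hr
    by_contra hne
    push Not at hne
    refine hr fun b hb => ?_
    obtain ⟨a, ha, s, hs⟩ := AssFiber.exists_smul_eq_includeRight p b
    have hu : IsUnit ((1 : p.ResidueField) ⊗ₜ[R] algebraMap R S a : p.Fiber S) := by
      rw [Algebra.algebraMap_eq_smul_one, ← TensorProduct.smul_tmul, ← Algebra.algebraMap_eq_smul_one]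
      have hne : algebraMap R p.ResidueField a ≠ 0 := fun h => ha (Ideal.algebraMap_residueField_eq_zero.1 h)
      exact (isUnit_iff_ne_zero.2 hne).map
        (Algebra.TensorProduct.includeLeftRingHom (R := R) (A := p.ResidueField) (B := S))
    rw [← Ideal.unit_mul_mem_iff_mem _ hu, hs]
    refine Ideal.mem_map_of_mem ι ?_
    by_contra hsq
    refine hne s hsq ?_
    show (1 : p.ResidueField) ⊗ₜ[R] s ∈ r
    rw [← hs]
    exact r.mul_mem_left _ hb
  choose! g hgq hgr using hex
  refine ⟨∏ r ∈ hfin.toFinset.filter (fun r => ¬ r ≤ FlatCA.fiberIdeal p q), g r, fun h => ?_, fun r hr hrq => ?_⟩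
  · obtain ⟨r, hr, hrq⟩ := (Ideal.IsPrime.prod_mem_iff (hp := ‹q.IsPrime›)).1 h
    exact hgq r (Finset.mem_filter.1 hr).2 hrq
  · show ι _ ∈ r
    rw [map_prod]
    refine Ideal.prod_mem (f := fun r' => ι (g r')) r (Finset.mem_filter.2 ⟨hfin.mem_toFinset.2 hr, hrq⟩) (hgr r hrq)

end Groth.Agent.S1191
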