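import Groth.Statements.S1204
import Groth.Agent.RGCore.GenericBasis

set_option autoImplicit false
universe u
open FlatMor

namespace Groth.Agent.S1204

open Groth.Agent.RGCore

open TensorProduct IsLocalRing in
/-- Let R be a local ring and S a finitely presented flat R-algebra with geometrically integral fibres,
so that 𝔭 = 𝔪_R S is a prime of S; let q be a prime of S over 𝔪_R and N a finite S-module. Then
there is an S-linear map α from a finite free module S^r to N inducing a bijection after base change
to κ(𝔭); and for any such α the following are equivalent: N_q is flat over R; α is universally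
injective over R and the cokernel of α is flat over R at q; α is injective and the cokernel is flat
at q; α localized at 𝔭 is bijective and the cokernel is flat at q; α localized at q is injective and
the cokernel is flat at q. -/
theorem result {R S : Type u} [CommRing R] [IsLocalRing R] [CommRing S] [Algebra R S] [Algebra.FinitePresentation R S] [Module.Flat R S]
    (hgi : FlatCA.GeomIntegralFibres R S) [((maximalIdeal R).map (algebraMap R S)).IsPrime]
    (q : Ideal S) [q.IsPrime] [q.LiesOver (maximalIdeal R)]
    (N : Type u) [AddCommGroup N] [Module S N] [Module R N] [IsScalarTower R S N] [Module.Finite S N] :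
    (∃ (r : ℕ) (α : (Fin r → S) →ₗ[S] N), Function.Bijective (α.baseChange ((maximalIdeal R).map (algebraMap R S)).ResidueField)) ∧
    ∀ (r : ℕ) (α : (Fin r → S) →ₗ[S] N), Function.Bijective (α.baseChange ((maximalIdeal R).map (algebraMap R S)).ResidueField) →
      [FlatCA.FlatAt R q N,
       FlatCA.UnivInj R (α.restrictScalars R) ∧ FlatCA.FlatAt R q (N ⧸ LinearMap.range α),
       Function.Injective α ∧ FlatCA.FlatAt R q (N ⧸ LinearMap.range α),
       Function.Bijective (LocalizedModule.map ((maximalIdeal R).map (algebraMap R S)).primeCompl α) ∧ FlatCA.FlatAt R q (N ⧸ LinearMap.range α),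
       Function.Injective (LocalizedModule.map q.primeCompl α) ∧ FlatCA.FlatAt R q (N ⧸ LinearMap.range α)].TFAE := by
  classical
  let P := (maximalIdeal R).map (algebraMap R S)
  have hPq : P ≤ q := Ideal.map_le_iff_le_comap.2 (q.over_def (maximalIdeal R)).le
  have : P.LiesOver (maximalIdeal R) :=
    ⟨le_antisymm Ideal.le_comap_map ((Ideal.comap_mono hPq).trans (q.over_def (maximalIdeal R)).ge)⟩
  refine ⟨exists_generic_basis P N, fun r α hα => ?_⟩
  let α' : (ULift.{u} (Fin r) → S) →ₗ[S] N := α ∘ₗ (LinearEquiv.funCongrLeft S S Equiv.ulift.symm).toLinearMap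
  let e : (ULift.{u} (Fin r) → S) ≃ₗ[S] (Fin r → S) := LinearEquiv.funCongrLeft S S Equiv.ulift.symm
  have hkey : ∀ (Z : Type u) [AddCommGroup Z] [Module R Z] (w : Z ⊗[R] (Fin r → S)) (t : S), t ∉ P →
      ((LinearMap.lsmul S (Fin r → S) t).restrictScalars R).lTensor Z w = 0 → w = 0 := by
    intro Z _ _ w t ht hw
    apply ((e.restrictScalars R).lTensor Z).symm.injective
    rw [map_zero]
    refine eq_zero_of_lsmul hgi _ t (fun p hp => ?_) ?_
    · have : p.IsPrime := hp.choose_spec.1.1
      obtain ⟨Q, hQP, hQ, hQp⟩ := Ideal.exists_ideal_le_liesOver_of_le P (IsLocalRing.le_maximalIdeal (Ideal.IsPrime.ne_top this) : p ≤ maximalIdeal R)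
      exact ⟨Q, hQ, hQp, fun h' => ht (hQP h')⟩
    · apply ((e.restrictScalars R).lTensor Z).injective
      rw [map_zero, ← hw]
      clear hw
      induction w using TensorProduct.induction_on with
      | zero => simp
      | add a b ha hb => simp only [map_add, ha, hb]
      | tmul c x => simp [e]; rfl
  have hzero : ∀ x : Fin r → S, ∀ t ∉ P, t • x = 0 → x = 0 := fun x t ht h => by
    have := hkey R ((1 : R) ⊗ₜ[R] x) t ht (by rw [LinearMap.lTensor_tmul]; show (1 : R) ⊗ₜ[R] (t • x) = 0; rw [h, tmul_zero])
    simpa using congr(TensorProduct.lid R _ $this)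
  have hαinj : Function.Injective (α'.baseChange P.ResidueField) := by
    have : α'.baseChange P.ResidueField = α.baseChange P.ResidueField ∘ₗ
        (e.toLinearMap.baseChange P.ResidueField) := LinearMap.baseChange_comp _ _ 
    rw [this]
    exact hα.injective.comp (LinearEquiv.baseChange S P.ResidueField _ _ e).injective
  tfae_have 1 → 2 := by
    intro hflat
    have huniv : FlatCA.UnivInj R (α.restrictScalars R) := by
      intro Z _ _
      rw [injective_iff_map_eq_zero]
      intro w hw
      obtain ⟨t, ht, htw⟩ := killed_generic (maximalIdeal R) α' hαinj (flatAt_of_le N hPq hflat)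
        (((e.restrictScalars R).lTensor Z).symm w) (by
          rw [← hw]
          clear hw
          induction w using TensorProduct.induction_on with
          | zero => simp
          | add a b ha hb => simp only [map_add, ha, hb]
          | tmul c x => simp [α', e]; rfl)
      refine hkey Z w t ht ?_
      apply ((e.restrictScalars R).lTensor Z).symm.injective
      rw [map_zero, ← htw]
      clear htw hw
      induction w using TensorProduct.induction_on with
      | zero => simp
      | add a b ha hb => simp only [map_add, ha, hb]
      | tmul c x => simp [e]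
    exact ⟨huniv, flat_localized_coker q.primeCompl α hflat fun J w hw =>
      ⟨1, one_mem _, by rw [huniv (R ⧸ J) (hw.trans (map_zero _).symm), map_zero]⟩⟩
  tfae_have 2 → 3 := by
    rintro ⟨h, h'⟩
    refine ⟨fun a b hab => ?_, h'⟩
    have : (1 : R) ⊗ₜ[R] a = (1 : R) ⊗ₜ[R] b := h R (by
      simp only [LinearMap.lTensor_tmul, LinearMap.coe_restrictScalars, hab])
    simpa using congr(TensorProduct.lid R _ $this)
  tfae_have 3 → 4 := by
    rintro ⟨h, h'⟩
    refine ⟨⟨LocalizedModule.map_injective _ _ h, ?_⟩, h'⟩
    intro z
    induction z using LocalizedModule.induction_on with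
    | _ n s =>
      obtain ⟨t, ht, x, hx⟩ := exists_smul_mem_range (maximalIdeal R) α' (by
        have : α'.baseChange P.ResidueField = α.baseChange P.ResidueField ∘ₗ
          (e.toLinearMap.baseChange P.ResidueField) := LinearMap.baseChange_comp _ _
        rw [this]
        exact hα.surjective.comp (LinearEquiv.baseChange S P.ResidueField _ _ e).surjective) n
      refine ⟨LocalizedModule.mk (e x) (⟨t, ht⟩ * s), ?_⟩
      rw [LocalizedModule.map_mk, LocalizedModule.mk_eq]
      refine ⟨1, ?_⟩
      simp only [one_smul, Submonoid.smul_def, Submonoid.coe_mul]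
      rw [show α (e x) = α' x from rfl, hx, mul_comm, mul_smul]
  tfae_have 4 → 5 := by
    rintro ⟨h, h'⟩
    refine ⟨LocalizedModule.map_injective _ _ ?_, h'⟩
    rw [injective_iff_map_eq_zero]
    intro x hx
    have h0 : LocalizedModule.mkLinearMap P.primeCompl (Fin r → S) x = 0 := h.1 (by
      rw [map_zero, LocalizedModule.mkLinearMap_apply, LocalizedModule.map_mk, hx, LocalizedModule.zero_mk])
    obtain ⟨t, ht⟩ := (IsLocalizedModule.eq_zero_iff P.primeCompl _).1 h0
    exact hzero x t t.2 ht
  tfae_have 5 → 1 := by
    rintro ⟨h, h'⟩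
    have : Module.Flat R (Fin r → S) := Module.Flat.of_linearEquiv
      (DFinsupp.linearEquivFunOnFintype (R := R) (M := fun _ : Fin r => S)).symm
    refine flat_localized_of_extension q.primeCompl α h' fun x hx => ?_
    have h0 : LocalizedModule.mkLinearMap q.primeCompl (Fin r → S) x = 0 := h (by
      rw [map_zero, LocalizedModule.mkLinearMap_apply, LocalizedModule.map_mk, hx, LocalizedModule.zero_mk])
    obtain ⟨t, ht⟩ := (IsLocalizedModule.eq_zero_iff q.primeCompl _).1 h0
    exact ⟨t, t.2, ht⟩
  tfae_finish

end Groth.Agent.S1204
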