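import Groth.Statements.S1205
import Groth.Agent.RGCore.GenericBasis
import Groth.Agent.RGCore.Openness
import Groth.Agent.FlatModel.Open

set_option autoImplicit false
universe u
open FlatMor

namespace Groth.Agent.S1205

open Groth.Agent.RGCore

set_option maxHeartbeats 1000000 in
open TensorProduct in
/-- Let S be a finitely presented flat R-algebra with geometrically integral fibres, q a prime of S over
the prime 𝔯 of R, so that 𝔭 = 𝔯S is a prime of S, and N a finitely presented S-module. Then there is
an S-linear map α from a finite free module S^r to N inducing a bijection after base change to κ(𝔭);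
and for any such α the following are equivalent: N_q is flat over R; for some f ∈ R outside 𝔯 the
localization α_f is universally injective over R and for some g ∈ S outside q the localization of
the cokernel at g is flat over R; α localized at (the image of) 𝔯 is universally injective over R
and the cokernel is flat over R at q; α localized at 𝔯 is injective and the cokernel is flat at q; α
localized at 𝔭 is bijective and the cokernel is flat at q; α localized at q is injective and the
cokernel is flat at q. (Universal injectivity over R_f or R_𝔯 of a map of modules over these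
localizations is the same as over R, which is how it is written.) -/
theorem result {R S : Type u} [CommRing R] [CommRing S] [Algebra R S] [Algebra.FinitePresentation R S] [Module.Flat R S]
    (hgi : FlatCA.GeomIntegralFibres R S) (rr : Ideal R) [rr.IsPrime] [(rr.map (algebraMap R S)).IsPrime]
    (q : Ideal S) [q.IsPrime] [q.LiesOver rr]
    (N : Type u) [AddCommGroup N] [Module S N] [Module R N] [IsScalarTower R S N] [Module.FinitePresentation S N] :
    (∃ (r : ℕ) (α : (Fin r → S) →ₗ[S] N), Function.Bijective (α.baseChange (rr.map (algebraMap R S)).ResidueField)) ∧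
    ∀ (r : ℕ) (α : (Fin r → S) →ₗ[S] N), Function.Bijective (α.baseChange (rr.map (algebraMap R S)).ResidueField) →
      [FlatCA.FlatAt R q N,
       (∃ f : R, f ∉ rr ∧ FlatCA.UnivInj R ((LocalizedModule.map (Submonoid.powers (algebraMap R S f)) α).restrictScalars R)) ∧
         (∃ g : S, g ∉ q ∧ Module.Flat R (LocalizedModule (Submonoid.powers g) (N ⧸ LinearMap.range α))),
       FlatCA.UnivInj R ((LocalizedModule.map (Algebra.algebraMapSubmonoid S rr.primeCompl) α).restrictScalars R) ∧ FlatCA.FlatAt R q (N ⧸ LinearMap.range α),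
       Function.Injective (LocalizedModule.map (Algebra.algebraMapSubmonoid S rr.primeCompl) α) ∧ FlatCA.FlatAt R q (N ⧸ LinearMap.range α),
       Function.Bijective (LocalizedModule.map (rr.map (algebraMap R S)).primeCompl α) ∧ FlatCA.FlatAt R q (N ⧸ LinearMap.range α),
       Function.Injective (LocalizedModule.map q.primeCompl α) ∧ FlatCA.FlatAt R q (N ⧸ LinearMap.range α)].TFAE := by
  classical
  let P := rr.map (algebraMap R S)
  have hPq : P ≤ q := Ideal.map_le_iff_le_comap.2 (q.over_def rr).le
  have : P.LiesOver rr :=
    ⟨le_antisymm Ideal.le_comap_map ((Ideal.comap_mono hPq).trans (q.over_def rr).ge)⟩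
  refine ⟨exists_generic_basis P N, fun r α hα => ?_⟩
  let e : (ULift.{u} (Fin r) → S) ≃ₗ[S] (Fin r → S) := LinearEquiv.funCongrLeft S S Equiv.ulift.symm
  let α' : (ULift.{u} (Fin r) → S) →ₗ[S] N := α ∘ₗ e.toLinearMap
  have he : ∀ (Z : Type u) [AddCommGroup Z] [Module R Z] (w : Z ⊗[R] (Fin r → S)) (t : S),
      ((LinearMap.lsmul S (ULift.{u} (Fin r) → S) t).restrictScalars R).lTensor Z (((e.restrictScalars R).lTensor Z).symm w) =
        ((e.restrictScalars R).lTensor Z).symm (((LinearMap.lsmul S (Fin r → S) t).restrictScalars R).lTensor Z w) := by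
    intro Z _ _ w t
    induction w using TensorProduct.induction_on with
    | zero => simp
    | add a b ha hb => simp only [map_add, ha, hb]
    | tmul c x => simp [e]
  -- elements of `Z ⊗ S^r` killed outside `P`
  have hkey : ∀ (f : R) (t : S), (∀ p : Ideal R, p.IsPrime → f ∉ p → ∃ Q : Ideal S, Q.IsPrime ∧ Q.LiesOver p ∧ t ∉ Q) →
      ∀ (Z : Type u) [AddCommGroup Z] [Module R Z] (w : Z ⊗[R] (Fin r → S)),
      (∀ p ∈ FlatCA.weakAss R Z, f ∉ p) →
      ((LinearMap.lsmul S (Fin r → S) t).restrictScalars R).lTensor Z w = 0 → w = 0 := by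
    intro f t ht Z _ _ w hZ hw
    apply ((e.restrictScalars R).lTensor Z).symm.injective
    rw [map_zero]
    exact eq_zero_of_lsmul hgi _ t (fun p hp => ht p hp.choose_spec.1.1 (hZ p hp))
      (by rw [he, hw, map_zero])
  have hloc : ∀ (W : Submonoid R) (Z : Type u) [AddCommGroup Z] [Module R Z],
      ∀ p ∈ FlatCA.weakAss R (LocalizedModule W Z), ∀ a ∈ W, a ∉ p := by
    intro W Z _ _ p hp a ha hap
    obtain ⟨z, hz⟩ := hp
    obtain ⟨t, ht, k, hk⟩ := WeakAss.exists_mul_pow_mem hz hap
    have h0 : t • z = 0 := by
      have hu := (Module.End.isUnit_iff _).1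
        (IsLocalizedModule.map_units (LocalizedModule.mkLinearMap W Z) (⟨a, ha⟩ ^ k : W))
      refine hu.1 (Eq.trans ?_ (map_zero _).symm)
      show (a ^ k) • (t • z) = 0
      rw [smul_smul, mul_comm]
      exact WeakAss.mem_annEl.1 hk
    exact ht (hz.1.2 (WeakAss.mem_annEl.2 h0))
  have hpass : ∀ (W : Submonoid R) (Z : Type u) [AddCommGroup Z] [Module R Z] (w : Z ⊗[R] (Fin r → S)),
      (LocalizedModule.mkLinearMap W Z).rTensor (Fin r → S) w = 0 →
      ∃ a ∈ W, ((LinearMap.lsmul S (Fin r → S) (algebraMap R S a)).restrictScalars R).lTensor Z w = 0 := by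
    intro W Z _ _ w hw
    obtain ⟨a, ha, haw⟩ := exists_smul_eq_zero_of_lTensor W (LocalizedModule.mkLinearMap W Z)
      (TensorProduct.comm R Z (Fin r → S) w) (by
        have := congr(TensorProduct.comm R _ (Fin r → S) $hw)
        rw [map_zero] at this
        rw [← this]
        clear this hw
        induction w using TensorProduct.induction_on with
        | zero => simp
        | add a b ha hb => simp only [map_add, ha, hb]
        | tmul c x => simp)
    refine ⟨a, ha, (TensorProduct.comm R Z (Fin r → S)).injective (Eq.trans ?_ (map_zero _).symm)⟩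
    rw [← haw]
    clear haw hw
    induction w using TensorProduct.induction_on with
    | zero => simp
    | add a b ha hb => simp only [map_add, ha, hb]
    | tmul c x => simp [smul_tmul', ← smul_tmul]
  have hgen : ∀ (Z : Type u) [AddCommGroup Z] [Module R Z] (w : Z ⊗[R] (Fin r → S)) (t : S), t ∉ P →
      ((LinearMap.lsmul S (Fin r → S) t).restrictScalars R).lTensor Z w = 0 →
      ∃ a ∉ rr, ((LinearMap.lsmul S (Fin r → S) (algebraMap R S a)).restrictScalars R).lTensor Z w = 0 := by
    intro Z _ _ w t ht h
    let W := rr.primeCompl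
    let L := LocalizedModule W Z
    have h0 : (LocalizedModule.mkLinearMap W Z).rTensor (Fin r → S) w = 0 := by
      apply ((e.restrictScalars R).lTensor L).symm.injective
      rw [map_zero]
      refine eq_zero_of_lsmul hgi _ t (fun p hp => ?_) ?_
      · have : p.IsPrime := hp.choose_spec.1.1
        have hle : p ≤ rr := fun a ha => by
          by_contra har
          exact hloc W Z p hp a har ha
        obtain ⟨Q, hQP, hQ, hQp⟩ := Ideal.exists_ideal_le_liesOver_of_le P hle
        exact ⟨Q, hQ, hQp, fun h' => ht (hQP h')⟩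
      · rw [he, show ((LinearMap.lsmul S (Fin r → S) t).restrictScalars R).lTensor L
          ((LocalizedModule.mkLinearMap W Z).rTensor (Fin r → S) w) = 0 by
            rw [← LinearMap.comp_apply, LinearMap.lTensor_comp_rTensor, ← LinearMap.rTensor_comp_lTensor,
              LinearMap.comp_apply, h, map_zero], map_zero]
    exact hpass W Z w h0
  have hbij : ∀ (W : Submonoid S), Function.Injective (LocalizedModule.map W α) →
      ∀ x, α x = 0 → ∃ t ∈ W, t • x = 0 := by
    intro W h x hx
    have h0 : LocalizedModule.mkLinearMap W (Fin r → S) x = 0 := h (by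
      rw [map_zero, LocalizedModule.mkLinearMap_apply, LocalizedModule.map_mk, hx, LocalizedModule.zero_mk])
    obtain ⟨t, ht⟩ := (IsLocalizedModule.eq_zero_iff W _).1 h0
    exact ⟨t, t.2, ht⟩
  have hinjW : ∀ (W : Submonoid S), (∀ x, α x = 0 → ∃ t ∈ W, t • x = 0) →
      Function.Injective (LocalizedModule.map W α) := by
    intro W h
    rw [injective_iff_map_eq_zero]
    intro z hz
    induction z using LocalizedModule.induction_on with
    | _ x s =>
      rw [LocalizedModule.map_mk, ← LocalizedModule.zero_mk s, LocalizedModule.mk_eq] at hz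
      obtain ⟨u, hu⟩ := hz
      simp only [Submonoid.smul_def, smul_zero] at hu
      obtain ⟨t, ht, htx⟩ := h _ (show α ((u : S) • (s : S) • x) = 0 by rw [map_smul, map_smul, hu])
      rw [← LocalizedModule.zero_mk s, LocalizedModule.mk_eq]
      exact ⟨⟨t, ht⟩ * u, by simp only [Submonoid.smul_def, Submonoid.coe_mul, smul_zero, mul_smul, htx]⟩
  have hsurj : Function.Surjective (α'.baseChange P.ResidueField) := by
    have : α'.baseChange P.ResidueField = α.baseChange P.ResidueField ∘ₗ
        (e.toLinearMap.baseChange P.ResidueField) := LinearMap.baseChange_comp _ _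
    rw [this]
    exact hα.surjective.comp (LinearEquiv.baseChange S P.ResidueField _ _ e).surjective
  have hsurjP : Function.Surjective (LocalizedModule.map P.primeCompl α) := by
    intro z
    induction z using LocalizedModule.induction_on with
    | _ n s =>
      obtain ⟨t, ht, x, hx⟩ := exists_smul_mem_range rr α' hsurj n
      refine ⟨LocalizedModule.mk (e x) (⟨t, ht⟩ * s), ?_⟩
      rw [LocalizedModule.map_mk, LocalizedModule.mk_eq]
      refine ⟨1, ?_⟩
      simp only [one_smul, Submonoid.smul_def, Submonoid.coe_mul]
      rw [show α (e x) = α' x from rfl, hx, mul_comm, mul_smul]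
  have hαinj : Function.Injective (α'.baseChange P.ResidueField) := by
    have : α'.baseChange P.ResidueField = α.baseChange P.ResidueField ∘ₗ
        (e.toLinearMap.baseChange P.ResidueField) := LinearMap.baseChange_comp _ _
    rw [this]
    exact hα.injective.comp (LinearEquiv.baseChange S P.ResidueField _ _ e).injective
  have huniv : ∀ W : Submonoid S, (∀ (Z : Type u) [AddCommGroup Z] [Module R Z] (w : Z ⊗[R] (Fin r → S)),
      (α.restrictScalars R).lTensor Z w = 0 →
        ∃ t ∈ W, ((LinearMap.lsmul S (Fin r → S) t).restrictScalars R).lTensor Z w = 0) →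
      FlatCA.UnivInj R ((LocalizedModule.map W α).restrictScalars R) := by
    intro W h Z _ _
    exact injective_lTensor_localized W (LocalizedModule.mkLinearMap W (Fin r → S)) (LocalizedModule.mkLinearMap W N) α
      _ (IsLocalizedModule.map_comp W _ _ α) (h Z)
  tfae_have 1 → 2 := by
    intro hflat
    have hflatP := flatAt_of_le N hPq hflat
    have hinjP : Function.Injective (LocalizedModule.map P.primeCompl α) := hinjW _ fun x hx => by
      obtain ⟨t, ht, htx⟩ := killed_generic rr α' hαinj hflatP ((1 : R) ⊗ₜ[R] e.symm x) (by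
        rw [LinearMap.lTensor_tmul]
        show (1 : R) ⊗ₜ[R] α (e (e.symm x)) = 0
        rw [LinearEquiv.apply_symm_apply, hx, tmul_zero])
      refine ⟨t, ht, e.symm.injective ?_⟩
      rw [map_zero, map_smul]
      simpa using congr(TensorProduct.lid R _ $htx)
    obtain ⟨h, hh, hhbij⟩ := Module.FinitePresentation.exists_notMem_bijective α P
      (LocalizedModule.mkLinearMap P.primeCompl (Fin r → S)) (LocalizedModule.mkLinearMap P.primeCompl N) (by
        have : IsLocalizedModule.map P.primeCompl (LocalizedModule.mkLinearMap P.primeCompl (Fin r → S))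
            (LocalizedModule.mkLinearMap P.primeCompl N) α = (LocalizedModule.map P.primeCompl α).restrictScalars S := by
          refine IsLocalizedModule.linearMap_ext P.primeCompl (LocalizedModule.mkLinearMap P.primeCompl _)
            (LocalizedModule.mkLinearMap P.primeCompl _) ?_
          exact LinearMap.ext fun x => (IsLocalizedModule.map_apply _ _ _ α x).trans (by
            simp [LocalizedModule.mkLinearMap_apply, LocalizedModule.map_mk])
        rw [this]
        exact ⟨hinjP, hsurjP⟩)
    -- the open set of fibres meeting `D(h)`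
    have hU : IsOpen (PrimeSpectrum.comap (algebraMap R S) '' ↑(PrimeSpectrum.basicOpen h)) :=
      PrimeSpectrum.isOpenMap_comap_of_hasGoingDown_of_finitePresentation _ (PrimeSpectrum.basicOpen h).2
    have hmem : (⟨rr, inferInstance⟩ : PrimeSpectrum R) ∈
        PrimeSpectrum.comap (algebraMap R S) '' ↑(PrimeSpectrum.basicOpen h) :=
      ⟨⟨P, inferInstance⟩, hh, PrimeSpectrum.ext (P.over_def rr).symm⟩
    obtain ⟨_, ⟨f, rfl⟩, hf, hfU⟩ := PrimeSpectrum.isTopologicalBasis_basic_opens.exists_subset_of_mem_open hmem hU
    refine ⟨⟨f, hf, huniv _ fun Z _ _ w hw => ?_⟩, ?_⟩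
    · let W := Submonoid.powers f
      let Zf := LocalizedModule W Z
      let w' := (LocalizedModule.mkLinearMap W Z).rTensor (Fin r → S) w
      have h1 : ((LocalizedModule.mkLinearMap (Submonoid.powers h) (Fin r → S)).restrictScalars R).lTensor Zf w' = 0 := by
        let eh : LocalizedModule (Submonoid.powers h) (Fin r → S) ≃ₗ[R] LocalizedModule (Submonoid.powers h) N :=
          (LinearEquiv.ofBijective (LocalizedModule.map (Submonoid.powers h) α) hhbij).restrictScalars R
        apply (eh.lTensor Zf).injective
        rw [map_zero]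
        have h2 : (α.restrictScalars R).lTensor Zf w' = 0 := by
          show (α.restrictScalars R).lTensor Zf ((LocalizedModule.mkLinearMap W Z).rTensor (Fin r → S) w) = 0
          rw [← LinearMap.comp_apply, LinearMap.lTensor_comp_rTensor, ← LinearMap.rTensor_comp_lTensor,
            LinearMap.comp_apply, hw, map_zero]
        have h3 := congr(((LocalizedModule.mkLinearMap (Submonoid.powers h) N).restrictScalars R).lTensor Zf $h2)
        rw [map_zero] at h3
        rw [← h3]
        clear h3 h2
        generalize w' = v
        induction v using TensorProduct.induction_on with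
        | zero => simp
        | add a b ha hb => simp only [map_add, ha, hb]
        | tmul c x => simp [eh, LocalizedModule.mkLinearMap_apply, LocalizedModule.map_mk]
      obtain ⟨_, ⟨k, rfl⟩, hk⟩ := exists_smul_eq_zero_of_lTensor (Submonoid.powers h)
        (LocalizedModule.mkLinearMap (Submonoid.powers h) (Fin r → S)) w' h1
      have hw' : w' = 0 := hkey f (h ^ k) (fun p hp hfp => by
        obtain ⟨Q, hQ, hQp⟩ := hfU (show (⟨p, hp⟩ : PrimeSpectrum R) ∈ _ from hfp)
        exact ⟨Q.asIdeal, Q.isPrime, ⟨(congrArg PrimeSpectrum.asIdeal hQp).symm⟩,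
          fun h' => hQ (Q.isPrime.mem_of_pow_mem k h')⟩) Zf w'
        (fun p hp => hloc W Z p hp f ⟨1, pow_one f⟩) hk
      obtain ⟨_, ⟨k', rfl⟩, hk'⟩ := hpass W Z w hw'
      exact ⟨_, ⟨k', (map_pow (algebraMap R S) f k').symm⟩, hk'⟩
    · have hK : FlatCA.FlatAt R q (N ⧸ LinearMap.range α) := by
        refine flat_localized_coker q.primeCompl α hflat fun J w hw => ?_
        obtain ⟨t, ht, htw⟩ := killed_generic rr α' hαinj hflatP (((e.restrictScalars R).lTensor _).symm w) (by
          rw [← hw]
          clear hw
          induction w using TensorProduct.induction_on with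
          | zero => simp
          | add a b ha hb => simp only [map_add, ha, hb]
          | tmul c x => simp [α', e] <;> rfl)
        obtain ⟨a, ha, haw⟩ := hgen _ w t ht (by
          apply ((e.restrictScalars R).lTensor (R ⧸ J)).symm.injective
          rw [← he, htw, map_zero])
        refine ⟨_, fun h'' => ha ?_, haw⟩
        rw [q.over_def rr]
        exact h''
      have : Module.FinitePresentation S (N ⧸ LinearMap.range α) :=
        Module.finitePresentation_of_surjective _ (Submodule.mkQ_surjective _)
          (by rw [Submodule.ker_mkQ]; exact Submodule.fg_range α)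
      have ho := FlatModel.isOpen_flatLocus (R := R) (S := S) (N ⧸ LinearMap.range α)
      obtain ⟨_, ⟨g, rfl⟩, hg, hgU⟩ := PrimeSpectrum.isTopologicalBasis_basic_opens.exists_subset_of_mem_open
        (a := (⟨q, inferInstance⟩ : PrimeSpectrum S)) hK ho
      exact ⟨g, hg, flat_away_of_local g (fun q' _ hg' => hgU (show (⟨q', ‹_›⟩ : PrimeSpectrum S) ∈ _ from hg')) _ (Submonoid.mem_powers g)⟩
  tfae_have 2 → 3 := by
    rintro ⟨⟨f, hf, hfu⟩, g, hg, hgflat⟩
    refine ⟨huniv _ fun Z _ _ w hw => ?_, ?_⟩
    · have h0 := hfu Z (a₁ := ((LocalizedModule.mkLinearMap (Submonoid.powers (algebraMap R S f)) (Fin r → S)).restrictScalars R).lTensor Z w) (a₂ := 0) (by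
        rw [map_zero, ← LinearMap.lTensor_comp_apply]
        have h2 := congr(((LocalizedModule.mkLinearMap (Submonoid.powers (algebraMap R S f)) N).restrictScalars R).lTensor Z $hw)
        rw [map_zero, ← LinearMap.lTensor_comp_apply] at h2
        rw [← h2]
        congr 2
        ext x
        simp [LocalizedModule.mkLinearMap_apply, LocalizedModule.map_mk])
      obtain ⟨t, ht, hk⟩ := exists_smul_eq_zero_of_lTensor (Submonoid.powers (algebraMap R S f))
        (LocalizedModule.mkLinearMap (Submonoid.powers (algebraMap R S f)) (Fin r → S)) w h0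
      obtain ⟨k, rfl⟩ := (Submonoid.mem_powers_iff t _).1 ht
      exact ⟨_, ⟨f ^ k, fun h' => hf (‹rr.IsPrime›.mem_of_pow_mem k h'), map_pow _ f k⟩, hk⟩
    · rw [FlatCA.FlatAt, FlatModel.flat_localized_iff q.primeCompl (LocalizedModule.mkLinearMap q.primeCompl _)]
      rw [FlatModel.flat_localized_iff (Submonoid.powers g)
        (LocalizedModule.mkLinearMap (Submonoid.powers g) (N ⧸ LinearMap.range α))] at hgflat
      intro J y hy
      obtain ⟨t, ht, hk⟩ := hgflat J y hy
      obtain ⟨k, rfl⟩ := (Submonoid.mem_powers_iff t _).1 ht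
      exact ⟨_, fun h' => hg (‹q.IsPrime›.mem_of_pow_mem k h'), hk⟩
  tfae_have 3 → 4 := by
    rintro ⟨h, h'⟩
    refine ⟨fun a b hab => ?_, h'⟩
    have : (1 : R) ⊗ₜ[R] a = (1 : R) ⊗ₜ[R] b := h R (by
      simp only [LinearMap.lTensor_tmul, LinearMap.coe_restrictScalars, hab])
    simpa using congr(TensorProduct.lid R _ $this)
  tfae_have 4 → 5 := by
    rintro ⟨h, h'⟩
    refine ⟨⟨hinjW _ fun x hx => ?_, hsurjP⟩, h'⟩
    obtain ⟨_, ⟨a, ha, rfl⟩, hax⟩ := hbij _ h x hx
    refine ⟨_, fun h'' => ha ?_, hax⟩
    rw [P.over_def rr]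
    exact h''
  tfae_have 5 → 6 := by
    rintro ⟨h, h'⟩
    refine ⟨hinjW _ fun x hx => ?_, h'⟩
    obtain ⟨t, ht, htx⟩ := hbij _ h.1 x hx
    obtain ⟨a, ha, hax⟩ := hgen R ((1 : R) ⊗ₜ[R] x) t ht (by
      rw [LinearMap.lTensor_tmul]
      show (1 : R) ⊗ₜ[R] (t • x) = 0
      rw [htx, tmul_zero])
    refine ⟨algebraMap R S a, fun h'' => ha ?_, by simpa using congr(TensorProduct.lid R _ $hax)⟩
    rw [q.over_def rr]
    exact h''
  tfae_have 6 → 1 := by
    rintro ⟨h, h'⟩
    have : Module.Flat R (Fin r → S) := Module.Flat.of_linearEquiv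
      (DFinsupp.linearEquivFunOnFintype (R := R) (M := fun _ : Fin r => S)).symm
    exact flat_localized_of_extension q.primeCompl α h' (hbij _ h)
  tfae_finish

end Groth.Agent.S1205
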