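import Groth.Statements.S1208
import Groth.Agent.RGCore.FiniteAt
-- import your own Groth.Agent.* helpers here

set_option autoImplicit false
universe u
open FlatMor

namespace Groth.Agent.S1208

/-- Let S be a finitely presented R-algebra, N a finite S-module and q a prime of S such that N_q is
flat over R. Then N_q is a finitely presented module over S_q. -/
theorem result {R S : Type u} [CommRing R] [CommRing S] [Algebra R S] [Algebra.FinitePresentation R S]
    (N : Type u) [AddCommGroup N] [Module S N] [Module R N] [IsScalarTower R S N] [Module.Finite S N]
    (q : Ideal S) [q.IsPrime] (h : FlatCA.FlatAt R q N) :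
    Module.FinitePresentation (Localization.AtPrime q) (LocalizedModule q.primeCompl N) := by
  have : Module.Flat R (LocalizedModule q.primeCompl N) := h
  obtain ⟨-, -, ⟨N₀, _, _, π, _, hπ, hker⟩, -⟩ := RGCore.finite_at (q.under R) q
    (LocalizedModule.mkLinearMap q.primeCompl N) (RGCore.fibre_killed_of_localized (q.under R) q)
  have := RGCore.isLocalizedModule_comp_surjective q.primeCompl (LocalizedModule.mkLinearMap q.primeCompl N) π hπ hker
  exact FinitePresentation.of_isBaseChange (LocalizedModule.mkLinearMap q.primeCompl N ∘ₗ π)
    ((isLocalizedModule_iff_isBaseChange q.primeCompl (Localization.AtPrime q) _).mp this)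

end Groth.Agent.S1208
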