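import Groth.Statements.S12085
import Mathlib
import Groth.Agent.DirColim.Descend
-- import your own Groth.Agent.* helpers here

set_option autoImplicit false
universe u
open TensorProduct
open CAlg

namespace Groth.Agent.S12085

/-- If `R → S` is G-unramified (of finite presentation and formally unramified), then there are a finite
type `ℤ`-algebra `R₀`, a ring map `R₀ → R` and a G-unramified ring map `R₀ → S₀` such that `S ≅ R
⊗_{R₀} S₀` as `R`-algebras (existence of an isomorphism). -/
theorem result (R : Type u) [CommRing R] (S : Type u) [CommRing S]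
    [Algebra R S] [Algebra.FinitePresentation R S] [Algebra.FormallyUnramified R S] :
    ∃ (R₀ : Type u) (_ : CommRing R₀) (_ : Algebra.FiniteType ℤ R₀) (S₀ : Type u) (_ : CommRing S₀)
      (_ : Algebra R₀ S₀) (_ : Algebra.FinitePresentation R₀ S₀) (_ : Algebra.FormallyUnramified R₀ S₀)
      (_ : Algebra R₀ R), Nonempty (R ⊗[R₀] S₀ ≃ₐ[R] S) := by
  let P := Algebra.Presentation.ofFinitePresentation R S
  let R₁ := Algebra.adjoin ℤ P.coeffs
  haveI : P.HasCoeffs R₁ := ⟨by simp [R₁]⟩
  haveI : Algebra.FiniteType ℤ R₁ :=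
    (Subalgebra.fg_iff_finiteType R₁).1 ⟨P.finite_coeffs.toFinset, by simp [R₁]⟩
  let C := P.ModelOfHasCoeffs R₁
  let e : R ⊗[R₁] C ≃ₐ[R] S := P.tensorModelOfHasCoeffsEquiv R₁
  classical
  let G : Finset R → Subalgebra R₁ R := fun s => Algebra.adjoin R₁ (s : Set R)
  let g : ∀ s, (G s) →ₐ[R₁] R := fun s => (G s).val
  have hG : DirColim.IsColim g :=
    { surj := fun a => ⟨{a}, ⟨a, Algebra.subset_adjoin (by simp)⟩, rfl⟩
      directed := fun s t => ⟨s ∪ t,
        ⟨⟨Subalgebra.inclusion (Algebra.adjoin_mono (by simp)), by ext; rfl⟩⟩,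
        ⟨⟨Subalgebra.inclusion (Algebra.adjoin_mono (by simp)), by ext; rfl⟩⟩⟩
      ker := fun s x hx => ⟨s, ⟨AlgHom.id R₁ _, by ext; rfl⟩, Subtype.ext hx⟩ }
  have hu : Algebra.Unramified R (R ⊗[R₁] C) :=
    { formallyUnramified := Algebra.FormallyUnramified.of_equiv e.symm
      finiteType := inferInstance }
  obtain ⟨s, hs⟩ := DirColim.exists_unramified hG hu
  haveI : Algebra.FiniteType R₁ (G s) :=
    (Subalgebra.fg_iff_finiteType (G s)).1 ⟨s, rfl⟩
  refine ⟨G s, inferInstance, ?_, (G s) ⊗[R₁] C, inferInstance, inferInstance, inferInstance,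
    hs.formallyUnramified, inferInstance, ⟨?_⟩⟩
  · convert! Algebra.FiniteType.trans (R := ℤ) (S := R₁) (A := G s) inferInstance inferInstance
  · exact (Algebra.TensorProduct.cancelBaseChange R₁ (G s) R R C).trans e

end Groth.Agent.S12085
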