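import Groth.Statements.S12121
import Groth.Agent.E4Basics.SkEmbedded

set_option autoImplicit false
universe u
open EGA4

namespace Groth.Agent.S12121

/-- Let A be a Noetherian ring, M a finite A-module (a coherent sheaf on X = Spec A) and k ≥ 1. Then M
has property (S_k) — depth M_p ≥ min(k, dim M_p) at every prime p — if and only if, for every basic
open set D(g) of X, every integer r < k and every M_g-regular sequence f_1, …, f_r in A_g, the
module M_g/(f_1, …, f_r)M_g has no embedded associated primes, i.e. no associated prime of it
strictly contains another one. (The published statement quantifies over all open subsets of a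
locally Noetherian scheme; both sides being local, over an affine scheme the basic open sets
suffice.) -/
theorem result (k : ℕ) (hk : 1 ≤ k) (A : Type u) [CommRing A] [IsNoetherianRing A]
    (M : Type u) [AddCommGroup M] [Module A M] [Module.Finite A M] :
    LocCoh.HasSk k A M ↔
      ∀ (g : A) (rs : List (Localization.Away g)), rs.length < k →
        RingTheory.Sequence.IsWeaklyRegular (LocalizedModule (Submonoid.powers g) M) rs →
        ∀ p ∈ associatedPrimes (Localization.Away g)
            (LocalizedModule (Submonoid.powers g) M ⧸
              (Ideal.ofList rs • (⊤ : Submodule (Localization.Away g) (LocalizedModule (Submonoid.powers g) M)))),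
          ∀ q ∈ associatedPrimes (Localization.Away g)
            (LocalizedModule (Submonoid.powers g) M ⧸
              (Ideal.ofList rs • (⊤ : Submodule (Localization.Away g) (LocalizedModule (Submonoid.powers g) M)))),
            p ≤ q → p = q := by
  constructor
  · intro h g rs hlen hreg
    haveI : Module.Finite (Localization.Away g) (LocalizedModule (Submonoid.powers g) M) :=
      Module.Finite.of_isLocalizedModule (Submonoid.powers g) (LocalizedModule.mkLinearMap _ M)
    haveI : IsNoetherianRing (Localization.Away g) := IsLocalization.isNoetherianRing (Submonoid.powers g) _ inferInstance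
    have h1 : LocCoh.HasSk k (Localization.Away g) (LocalizedModule (Submonoid.powers g) M) :=
      (Alg6.hasSk_localization_iff (Submonoid.powers g) M k).mpr fun q _ _ => h q
    have h2 := E4Basics.hasSk_quot_ofList rs (LocalizedModule (Submonoid.powers g) M) (k - rs.length)
      (by rwa [Nat.sub_add_cancel hlen.le]) hreg
    have hone : (1 : ℕ) ≤ k - rs.length := by omega
    have h3 : LocCoh.HasSk 1 (Localization.Away g) (LocalizedModule (Submonoid.powers g) M ⧸
        (Ideal.ofList rs • (⊤ : Submodule (Localization.Away g) (LocalizedModule (Submonoid.powers g) M)))) :=
      fun p _ => le_trans (min_le_min (by exact_mod_cast hone) le_rfl) (h2 p)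
    exact fun p hp q hq hle => E4Basics.eq_of_hasSk_one h3 hp hq hle
  · intro h q _
    by_cases hq : (⟨q, ‹_›⟩ : PrimeSpectrum A) ∈ Module.support A M
    · haveI : Nontrivial (LocalizedModule q.primeCompl M) := Module.mem_support_iff.mp hq
      haveI : Module.Finite (Localization.AtPrime q) (LocalizedModule q.primeCompl M) :=
        Module.Finite.of_isLocalizedModule q.primeCompl (LocalizedModule.mkLinearMap _ M)
      obtain ⟨d, hd⟩ := LC.exists_supportDim_eq_nat (R := Localization.AtPrime q) (LocalizedModule q.primeCompl M)
      obtain ⟨e, he⟩ := LC.exists_depth_eq_nat (R := Localization.AtPrime q) (LocalizedModule q.primeCompl M)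
      rw [hd, he]
      refine E4Basics.min_le_coe_iff.mpr ?_
      by_contra hlt
      obtain ⟨g, rs, hlen, hreg, P, hP, Q, hQ, hPQ, hne⟩ :=
        E4Basics.exists_ass_embedded hq (show e < d by omega) hd he
      exact hne (h g rs (by omega) hreg P hP Q hQ hPQ)
    · haveI := Module.notMem_support_iff.mp hq
      refine le_trans (min_le_right _ _) ?_
      rw [Module.supportDim_eq_bot_of_subsingleton]
      exact bot_le

end Groth.Agent.S12121
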