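import Groth.Statements.S12137
import Groth.Agent.EgaQ.Rel2
import Groth.Agent.EgaQ.PolyExt
import Groth.Agent.RelSpecX.Spec
-- import your own Groth.Agent.* helpers here

set_option autoImplicit false
universe u
open CategoryTheory CategoryTheory.Limits AlgebraicGeometry Opposite TopologicalSpace
open scoped HomogeneousIdeal
set_option backward.isDefEq.respectTransparency false
set_option maxHeartbeats 1000000

noncomputable section
open EGA2

namespace Groth.Agent.S12137

open HomogeneousLocalization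

lemma spec_map_awayι_comp_map {A B σ τ : Type u} [CommRing A] [CommRing B] [SetLike σ A] [AddSubgroupClass σ A]
    [SetLike τ B] [AddSubgroupClass τ B] {𝒜 : ℕ → σ} [GradedRing 𝒜] {ℬ : ℕ → τ} [GradedRing ℬ]
    (f : 𝒜 →+*ᵍ ℬ) (hf : ℬ₊ ≤ (𝒜₊).map f) (s : A) (hs : s ∈ 𝒜 1) (s' : B) (hs' : s' ∈ ℬ 1) (e : f s = s')
    (RA RB : CommRingCat.{u}) (θA : CommRingCat.of (Away 𝒜 s) ⟶ RA) (θB : CommRingCat.of (Away ℬ s') ⟶ RB)
    (r : RA ⟶ RB)
    (H : ∀ x : Away 𝒜 s, ∀ y : Away ℬ s', (∀ (k : ℕ) (b : A) (hb : b ∈ 𝒜 (k • 1)),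
        x = Away.mk 𝒜 hs k b hb → y = Away.mk ℬ hs' k (f b) (f.map_mem hb)) → r.hom (θA.hom x) = θB.hom y) :
    Spec.map r ≫ Spec.map θA ≫ Proj.awayι 𝒜 s hs one_pos =
      Spec.map θB ≫ Proj.awayι ℬ s' hs' one_pos ≫ Proj.map f hf := by
  subst e
  rw [Proj.awayι_comp_map f hf one_pos s hs, ← Spec.map_comp_assoc, ← Spec.map_comp_assoc]
  congr 2
  ext x
  refine H x (Away.map f s x) fun k b hb hx => ?_
  subst hx
  exact Away.map_mk f s hs k b hb


/-- Let Y be a scheme, 𝒜 a quasi-coherent O_Y-algebra and Ŝ = 𝒜[T], graded with 𝒜 in degree 0 and T in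
degree 1 — presented through a homomorphism of algebras ι : 𝒜 → Ŝ landing in degree 0 and a global
section z of Ŝ of degree 1 such that, over every affine open U, the map 𝒜(U)[X] → Ŝ(U) sending X to
z is bijective — and let p : P → Y with its charts be the relative homogeneous spectrum Proj(Ŝ). For
each affine open U let θ_U : Ŝ(U)_(z) → 𝒜(U) be the ring isomorphism sending ι(a) z^k / z^k to a.
Then there is a unique morphism i : Spec(𝒜) → P which, on the chart Spec 𝒜(U) of Spec(𝒜) over each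
affine open U, is Spec(θ_U) followed by the open immersion of D_+(z|U) into Proj Ŝ(U) and the chart
of P; moreover i is an isomorphism and lies over Y. In particular Proj(O_Y[T]) is Y. -/
theorem result {Y P : Scheme.{u}} (𝒜 : RelSpec.QCAlg Y) (Sh : RelProj.QCGrAlg Y)
    (ι : 𝒜 ⟶ Sh.toQCAlg)
    (hι : ∀ (U : Y.Opens) (hU : IsAffineOpen U) (a : 𝒜.presheaf.obj (op U)), (ι.hom.app (op U)).hom a ∈ Sh.deg U hU 0)
    (z : Sh.presheaf.obj (op ⊤))
    (hz : ∀ (U : Y.Opens) (hU : IsAffineOpen U), (Sh.presheaf.map (homOfLE le_top).op).hom z ∈ Sh.deg U hU 1)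
    (hpoly : ∀ (U : Y.Opens) (hU : IsAffineOpen U),
      Function.Bijective (Polynomial.eval₂RingHom (ι.hom.app (op U)).hom ((Sh.presheaf.map (homOfLE le_top).op).hom z)))
    (p : P ⟶ Y)
    (chart : ∀ (U : Y.Opens) (hU : IsAffineOpen U), (((p ⁻¹ᵁ U : P.Opens) : Scheme.{u}) ≅ Proj (Sh.deg U hU)))
    (hP : RelProj.IsRelProj Sh p chart)
    (θ : ∀ (U : Y.Opens) (hU : IsAffineOpen U),
      CommRingCat.of (HomogeneousLocalization.Away (Sh.deg U hU) ((Sh.presheaf.map (homOfLE le_top).op).hom z)) ⟶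
        𝒜.presheaf.obj (op U))
    (hθ : ∀ (U : Y.Opens) (hU : IsAffineOpen U)
      (q : HomogeneousLocalization.Away (Sh.deg U hU) ((Sh.presheaf.map (homOfLE le_top).op).hom z))
      (k : ℕ) (a : 𝒜.presheaf.obj (op U)),
        q.val = Localization.mk ((ι.hom.app (op U)).hom a * (Sh.presheaf.map (homOfLE le_top).op).hom z ^ k)
          ⟨(Sh.presheaf.map (homOfLE le_top).op).hom z ^ k,
            pow_mem (Submonoid.mem_powers ((Sh.presheaf.map (homOfLE le_top).op).hom z)) k⟩ →
        (θ U hU).hom q = a) :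
    (∃! i : 𝒜.spec ⟶ P, ∀ (U : Y.Opens) (hU : IsAffineOpen U),
        𝒜.ι U hU ≫ i =
          Spec.map (θ U hU) ≫
            Proj.awayι (Sh.deg U hU) ((Sh.presheaf.map (homOfLE le_top).op).hom z) (hz U hU) one_pos ≫
              RelProj.emb p chart U hU) ∧
      ∀ i : 𝒜.spec ⟶ P, (∀ (U : Y.Opens) (hU : IsAffineOpen U),
        𝒜.ι U hU ≫ i =
          Spec.map (θ U hU) ≫
            Proj.awayι (Sh.deg U hU) ((Sh.presheaf.map (homOfLE le_top).op).hom z) (hz U hU) one_pos ≫
              RelProj.emb p chart U hU) →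
        IsIso i ∧ i ≫ p = 𝒜.π := by
  classical
  -- homogeneous elements of degree `n` are `ι a * z ^ n`
  have hproj : ∀ (U : Y.Opens) (hU : IsAffineOpen U) (n : ℕ) (a : 𝒜.presheaf.obj (op U)) (j : ℕ),
      GradedRing.proj (Sh.deg U hU) n ((ι.hom.app (op U)).hom a * (Sh.presheaf.map (homOfLE le_top).op).hom z ^ j) =
        if j = n then (ι.hom.app (op U)).hom a * (Sh.presheaf.map (homOfLE le_top).op).hom z ^ j else 0 := by
    intro U hU n a j
    have hm : (ι.hom.app (op U)).hom a * (Sh.presheaf.map (homOfLE le_top).op).hom z ^ j ∈ Sh.deg U hU j := by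
      simpa using SetLike.mul_mem_graded (hι U hU a) (SetLike.pow_mem_graded j (hz U hU))
    split_ifs with h
    · exact Proj16.proj_of_mem _ (h ▸ hm)
    · exact Proj16.proj_of_mem_ne _ hm h
  have hrepr : ∀ (U : Y.Opens) (hU : IsAffineOpen U) (n : ℕ) (b : Sh.presheaf.obj (op U)), b ∈ Sh.deg U hU n →
      ∃ a, b = (ι.hom.app (op U)).hom a * (Sh.presheaf.map (homOfLE le_top).op).hom z ^ n := by
    intro U hU n b hb
    obtain ⟨q, rfl⟩ := (hpoly U hU).2 b
    rw [← Proj16.proj_of_mem _ hb]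
    refine ⟨q.coeff n, ?_⟩
    clear hb
    induction q using Polynomial.induction_on' with
    | add q r hq hr => rw [map_add, map_add, hq, hr, Polynomial.coeff_add, map_add, add_mul]
    | monomial j a =>
      simp only [Polynomial.coe_eval₂RingHom, Polynomial.eval₂_monomial, Polynomial.coeff_monomial]
      rw [hproj U hU]
      split_ifs with h
      · rw [h]
      · rw [map_zero, zero_mul]
  have hirr : ∀ (U : Y.Opens) (hU : IsAffineOpen U),
      ((Sh.deg U hU)₊).toIdeal ≤ Ideal.span {(Sh.presheaf.map (homOfLE le_top).op).hom z} := by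
    intro U hU b hb
    have hb0 : GradedRing.proj (Sh.deg U hU) 0 b = 0 := hb
    obtain ⟨q, rfl⟩ := (hpoly U hU).2 b
    rw [← sub_zero (Polynomial.eval₂RingHom _ _ q), ← hb0]
    clear hb hb0
    induction q using Polynomial.induction_on' with
    | add q r hq hr => rw [map_add, map_add, add_sub_add_comm]; exact Ideal.add_mem _ hq hr
    | monomial j a =>
      simp only [Polynomial.coe_eval₂RingHom, Polynomial.eval₂_monomial]
      rw [hproj U hU]
      split_ifs with h
      · rw [sub_self]; exact zero_mem _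
      · rw [sub_zero]
        have hzs : (Sh.presheaf.map (homOfLE (le_top (a := U))).op).hom z ∈
            Ideal.span {(Sh.presheaf.map (homOfLE (le_top (a := U))).op).hom z} :=
          Ideal.subset_span (Set.mem_singleton _)
        exact Ideal.mul_mem_left _ _ (Ideal.pow_mem_of_mem _ hzs j (Nat.pos_of_ne_zero h))
  have hθmk : ∀ (U : Y.Opens) (hU : IsAffineOpen U) (k : ℕ) (b : Sh.presheaf.obj (op U))
      (hb : b ∈ Sh.deg U hU (k • 1)) (a : 𝒜.presheaf.obj (op U)),
      b = (ι.hom.app (op U)).hom a * (Sh.presheaf.map (homOfLE le_top).op).hom z ^ k →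
        (θ U hU).hom (HomogeneousLocalization.Away.mk _ (hz U hU) k b hb) = a := by
    intro U hU k b hb a e
    refine hθ U hU _ k a ?_
    rw [HomogeneousLocalization.Away.val_mk]
    subst e
    rfl
  have hθiso : ∀ (U : Y.Opens) (hU : IsAffineOpen U), IsIso (θ U hU) := by
    intro U hU
    refine (ConcreteCategory.isIso_iff_bijective _).mpr ⟨?_, fun a => ?_⟩
    · refine (injective_iff_map_eq_zero (θ U hU).hom).mpr fun x hx => ?_
      obtain ⟨k, b, hb, rfl⟩ := x.mk_surjective _ (hz U hU)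
      obtain ⟨a, ha⟩ := hrepr U hU k b (by simpa using hb)
      rw [hθmk U hU k b hb a ha] at hx
      subst hx
      apply HomogeneousLocalization.val_injective
      rw [HomogeneousLocalization.Away.val_mk, HomogeneousLocalization.val_zero]
      subst ha
      rw [map_zero, zero_mul, Localization.mk_zero]
    · exact ⟨HomogeneousLocalization.Away.mk _ (hz U hU) 0 ((ι.hom.app (op U)).hom a)
        (by simpa using hι U hU a), hθmk U hU 0 _ _ a (by simp)⟩
  let f : ∀ (U : Y.Opens) (hU : IsAffineOpen U), Spec (𝒜.presheaf.obj (op U)) ⟶ P := fun U hU =>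
    Spec.map (θ U hU) ≫
      Proj.awayι (Sh.deg U hU) ((Sh.presheaf.map (homOfLE le_top).op).hom z) (hz U hU) one_pos ≫
        RelProj.emb p chart U hU
  have hnat : ∀ {U V : Y.AffineZariskiSite} (i : V ⟶ U),
      Spec.map (𝒜.presheaf.map (homOfLE (Scheme.AffineZariskiSite.toOpens_mono i.le)).op) ≫ f U.1 U.2 =
        f V.1 V.2 := by
    intro U V i
    have hVU : V.1 ≤ U.1 := Scheme.AffineZariskiSite.toOpens_mono i.le
    have hres : Sh.res U.2 V.2 hVU ((Sh.presheaf.map (homOfLE le_top).op).hom z) =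
        (Sh.presheaf.map (homOfLE le_top).op).hom z := by
      rw [RelProj.QCGrAlg.res_apply, ← CommRingCat.comp_apply, ← Functor.map_comp]
      rfl
    have key := spec_map_awayι_comp_map (Sh.res U.2 V.2 hVU) (Proj16.irrelevant_le_res Sh U.2 V.2 hVU i.le)
      _ (hz U.1 U.2) _ (hz V.1 V.2) hres _ _ (θ U.1 U.2) (θ V.1 V.2) (𝒜.presheaf.map (homOfLE hVU).op) ?_
    · simp only [f]
      rw [reassoc_of% key, EgaQ.map_res_emb' hP U.2 V.2 hVU i.le]
    intro x y hxy
    obtain ⟨k, b, hb, rfl⟩ := x.mk_surjective _ (hz U.1 U.2)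
    obtain ⟨a, ha⟩ := hrepr U.1 U.2 k b (by simpa using hb)
    rw [hθmk U.1 U.2 k b hb a ha, hxy k b hb rfl]
    refine (hθmk V.1 V.2 k _ _ _ ?_).symm
    rw [ha, map_mul, map_pow, hres]
    congr 1
    exact congr(($(ι.hom.naturality (homOfLE hVU).op)).hom a).symm
  let c : Cocone 𝒜.glueData.functor :=
    ⟨P, { app := fun U => f U.1 U.2
          naturality := fun V U i => by
            refine Eq.trans ?_ (Category.comp_id _).symm
            exact hnat i }⟩
  let i : 𝒜.spec ⟶ P := colimit.desc 𝒜.glueData.functor c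
  have hi : ∀ (U : Y.Opens) (hU : IsAffineOpen U), 𝒜.ι U hU ≫ i = f U hU := fun U hU =>
    colimit.ι_desc (F := 𝒜.glueData.functor) c (⟨U, hU⟩ : Y.AffineZariskiSite)
  refine ⟨⟨i, hi, fun i' hi' => RelSpecX.spec_hom_ext fun y => ?_⟩, fun i' hi' => ?_⟩
  · obtain ⟨_, ⟨U, hU, rfl⟩, hy, -⟩ := Y.isBasis_affineOpens.exists_subset_of_mem_open
      (Set.mem_univ y) isOpen_univ
    exact ⟨U, hU, hy, (hi' U hU).trans (hi U hU).symm⟩
  have hover : i' ≫ p = 𝒜.π := by
    refine RelSpecX.spec_hom_ext fun y => ?_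
    obtain ⟨_, ⟨U, hU, rfl⟩, hy, -⟩ := Y.isBasis_affineOpens.exists_subset_of_mem_open
      (Set.mem_univ y) isOpen_univ
    refine ⟨U, hU, hy, ?_⟩
    rw [reassoc_of% (hi' U hU), 𝒜.ι_π, EgaQ.emb_π hP, Proj.awayι_toSpecZero_assoc,
      ← Spec.map_comp_assoc, ← Spec.map_comp_assoc]
    congr 2
    ext r
    refine hθ U hU _ 0 ((𝒜.str.app (op U)).hom r) ?_
    refine congrArg₂ Localization.mk ?_ (Subtype.ext (pow_zero _).symm)
    rw [pow_zero, mul_one]
    exact congr(($(NatTrans.congr_app ι.comm (op U))).hom r).symm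
  refine ⟨?_, hover⟩
  let g : ∀ U : Y.affineOpens, Spec (𝒜.presheaf.obj (op U.1)) ⟶ Proj (Sh.deg U.1 U.2) := fun U =>
    Spec.map (θ U.1 U.2) ≫
      Proj.awayι (Sh.deg U.1 U.2) ((Sh.presheaf.map (homOfLE le_top).op).hom z) (hz U.1 U.2) one_pos
  have hgiso : ∀ U, IsIso (g U) := by
    intro U
    have := hθiso U.1 U.2
    have htop : (Proj.awayι (Sh.deg U.1 U.2) ((Sh.presheaf.map (homOfLE le_top).op).hom z) (hz U.1 U.2)
        one_pos).opensRange = ⊤ := by
      rw [Proj.opensRange_awayι]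
      have := Proj.iSup_basicOpen_eq_top (𝒜 := Sh.deg U.1 U.2)
        (fun _ : Unit => (Sh.presheaf.map (homOfLE (le_top (a := U.1))).op).hom z)
        ((hirr U.1 U.2).trans (Ideal.span_mono (by simp)))
      simpa using this
    have : IsIso (Proj.awayι (Sh.deg U.1 U.2) ((Sh.presheaf.map (homOfLE le_top).op).hom z) (hz U.1 U.2)
        one_pos) := isIso_of_isOpenImmersion_of_opensRange_eq_top _ htop
    infer_instance
  show MorphismProperty.isomorphisms Scheme.{u} i'
  refine (IsZariskiLocalAtTarget.iff_of_openCover (P := MorphismProperty.isomorphisms Scheme.{u})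
    (RelTildeX.embCover (𝒮 := Sh) p chart)).mpr fun U => ?_
  have hpb : IsPullback (g U) (𝒜.ι U.1 U.2) (RelProj.emb p chart U.1 U.2) i' := by
    refine IsOpenImmersion.isPullback _ _ _ _ ?_ ?_
    · rw [hi' U.1 U.2]; simp [g]
    · rw [RelTildeX.opensRange_emb, ← Scheme.Hom.comp_preimage, hover, 𝒜.π_preimage U.1 U.2]
  show IsIso (pullback.snd i' (RelProj.emb p chart U.1 U.2))
  have := hgiso U
  rw [← hpb.flip.isoPullback_inv_snd]
  infer_instance

end Groth.Agent.S12137
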