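import Groth.Statements.S12152
import Groth.Agent.EgaQ.SymL.Criteria
-- import your own Groth.Agent.* helpers here

set_option autoImplicit false
universe u
open CategoryTheory CategoryTheory.Limits AlgebraicGeometry TopologicalSpace Opposite
open scoped HomogeneousIdeal
set_option backward.isDefEq.respectTransparency false
noncomputable section
open EGA2

namespace Groth.Agent.S12152

/-- Let q : X → Y be a morphism with Y affine, L an invertible O_X-module with 𝒮L = ⊕ L^{⊗n} (whose Proj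
is X), 𝒮 a quasi-coherent positively graded O_Y-algebra with S = Γ(Y, 𝒮), ψ♭ = u : 𝒮 → q_*𝒮L a
graded q-morphism and r = r_{L,ψ} : G(ψ) → P = Proj(𝒮). For a family s_a ∈ S_{n_a} (n_a > 0) put f_a
= ψ♭(s_a) ∈ Γ(X, L^{⊗n_a}) and let X_{f_a} be the open where f_a does not vanish; conditions: (i)
the X_{f_a} cover X; (ii) the X_{f_a} are affine; (iii) every function t on X_{f_a} is of the form
ψ♭(s') f_a^{-m} with m > 0 and s' ∈ S_{m n_a} (that is, t f_a^m = ψ♭(s') in 𝒮L(X_{f_a})); (v) the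
opens D_+(s_a) cover Proj S. Then r is everywhere defined and a closed immersion if and only if
there is a family (s_a) satisfying (i), (ii), (iii) and (v). -/
theorem result {Y X P PL : Scheme.{u}} (q : X ⟶ Y)
    (L : X.Modules) (hL : PicF.IsInvertible L) (hLq : Coh.IsQCoh L)
    (𝒮 : RelProj.QCGrAlg Y) (𝒮L : RelProj.QCGrAlg X) (j : L ⟶ 𝒮L.toModule) (hj : RelProj.IsGrSymAlg L 𝒮L j)
    (u : RelProj.QGrHom q 𝒮 𝒮L)
    (p : P ⟶ Y) (chart : ∀ (U : Y.Opens) (hU : IsAffineOpen U), (((p ⁻¹ᵁ U : P.Opens) : Scheme.{u}) ≅ Proj (𝒮.deg U hU)))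
    (hP : RelProj.IsRelProj 𝒮 p chart)
    (pL : PL ⟶ X) (chartL : ∀ (U : X.Opens) (hU : IsAffineOpen U), (((pL ⁻¹ᵁ U : PL.Opens) : Scheme.{u}) ≅ Proj (𝒮L.deg U hU)))
    (hPL : RelProj.IsRelProj 𝒮L pL chartL)
    (r : ((RelProj.domQ u pL chartL : PL.Opens) : Scheme.{u}) ⟶ P)
    (hr : RelProj.IsProjQMapOn u p chart pL chartL (RelProj.domQ u pL chartL) r)
    (hY : IsAffineOpen (⊤ : Y.Opens)) :
    (RelProj.domQ u pL chartL = ⊤ ∧ IsClosedImmersion r) ↔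
      ∃ (ι : Type u) (n : ι → ℕ) (s : ι → 𝒮.presheaf.obj (op ⊤)) (XT : ι → X.Opens),
        (∀ a, 0 < n a ∧ s a ∈ 𝒮.deg ⊤ hY (n a)) ∧
        (∀ a, XT a = (⨆ V : {V : X.affineOpens //
          ((𝒮L.deg V.1 V.2 (n a) : AddSubgroup (𝒮L.presheaf.obj (op (V.1 : X.Opens)))) : Set (𝒮L.presheaf.obj (op (V.1 : X.Opens)))) ⊆
            (Ideal.span {(u.appLE ⊤ (V.1 : X.Opens) (le_top.trans (Scheme.Hom.preimage_top q).ge)).hom (s a)} : Set (𝒮L.presheaf.obj (op (V.1 : X.Opens))))},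
          (V.1.1 : X.Opens))) ∧
        (⨆ a, XT a) = ⊤ ∧ (∀ a, IsAffineOpen (XT a)) ∧
        (∀ (a : ι) (t : X.presheaf.obj (op (XT a))), ∃ (m : ℕ) (_ : 0 < m) (s' : 𝒮.presheaf.obj (op ⊤)) (_ : s' ∈ 𝒮.deg ⊤ hY (m * n a)),
            (𝒮L.str.app (op (XT a))).hom t * ((u.appLE ⊤ (XT a) (le_top.trans (Scheme.Hom.preimage_top q).ge)).hom (s a)) ^ m =
              (u.appLE ⊤ (XT a) (le_top.trans (Scheme.Hom.preimage_top q).ge)).hom s') ∧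
        (⨆ a, Proj.basicOpen (𝒮.deg ⊤ hY) (s a)) = ⊤ := by
  have hA := EgaQ.SymL.isLine hL hLq hj
  constructor
  · rintro ⟨htop, himm⟩
    let ι := {nf : ULift.{u} ℕ × 𝒮.presheaf.obj (op ⊤) // 0 < nf.1.down ∧ nf.2 ∈ 𝒮.deg ⊤ hY nf.1.down}
    have hc : ∀ a : ι, IsAffineOpen (EgaQ.SymL.locus u ⊤ a.1.1.down a.1.2) ∧
        EgaQ.SymL.SurjCond u hY a.1.1.down a.1.2 := fun a ↦
      (EgaQ.SymL.isClosedImmersion_restrict_iff hA hP hPL hr hY a.2.1 a.2.2).mp inferInstance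
    refine ⟨ι, fun a ↦ a.1.1.down, fun a ↦ a.1.2, fun a ↦ EgaQ.SymL.locus u ⊤ a.1.1.down a.1.2,
      fun a ↦ a.2, fun a ↦ (EgaQ.SymL.locus_top u _ _).symm,
      eq_top_iff.mpr fun x _ ↦ ?_, fun a ↦ (hc a).1, fun a ↦ (hc a).2, eq_top_iff.mpr fun z _ ↦ ?_⟩
    · obtain ⟨d, f, hd, hf, hx⟩ := (EgaQ.SymL.domQ_eq_top_iff hA hPL).mp htop x ⊤ hY trivial
      exact Opens.mem_iSup.mpr ⟨⟨(⟨d⟩, f), hd, hf⟩, hx⟩
    · obtain ⟨d, f, hd, hf, hz, -⟩ :=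
        Proj16.exists_basicOpen_subset isOpen_univ (Set.mem_univ z)
      exact Opens.mem_iSup.mpr ⟨⟨(⟨d⟩, f), hd, hf⟩, hz⟩
  · rintro ⟨ι, n, s, XT, hn, hXT, hcov, haff, hs, hP'⟩
    obtain rfl : XT = fun a ↦ EgaQ.SymL.locus u ⊤ (n a) (s a) :=
      funext fun a ↦ (hXT a).trans (EgaQ.SymL.locus_top u _ _)
    have hcov' : ∀ x, ∃ a, x ∈ EgaQ.SymL.locus u ⊤ (n a) (s a) :=
      fun x ↦ Opens.mem_iSup.mp (hcov.ge (trivial : x ∈ (⊤ : X.Opens)))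
    exact ⟨EgaQ.SymL.domQ_eq_top_of_exists hA hPL fun x ↦
        let ⟨a, ha⟩ := hcov' x; ⟨⊤, hY, n a, s a, (hn a).1, (hn a).2, ha⟩,
      EgaQ.SymL.isClosedImmersion_of_crit hA hP hPL hr (fun _ ↦ ⊤) (fun _ ↦ hY) n (fun a ↦ (hn a).1)
        s (fun a ↦ (hn a).2) ((EgaQ.SymL.iSup_emb_top hY s).mpr hP') haff hs⟩

end Groth.Agent.S12152
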