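import Groth.Statements.S12154
import Groth.Agent.EgaQ.SymL.Push
-- import your own Groth.Agent.* helpers here

set_option autoImplicit false
universe u
open CategoryTheory CategoryTheory.Limits AlgebraicGeometry TopologicalSpace Opposite
open scoped HomogeneousIdeal
set_option backward.isDefEq.respectTransparency false
noncomputable section
open EGA2

namespace Groth.Agent.S12154

/-- Let q : X → Y be a morphism, L an invertible O_X-module with 𝒮L = ⊕ L^{⊗n} (whose Proj, with its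
charts, is X), v : 𝒯 → 𝒮 a graded homomorphism of quasi-coherent positively graded O_Y-algebras, ψ♭
= u : 𝒮 → q_*𝒮L a graded q-morphism and ψ'♭ = u' its composite with v; let r = r_{L,ψ} : G(ψ) →
Proj(𝒮) and r' = r_{L,ψ'} : G(ψ') → Proj(𝒯), with r' everywhere defined and v (TN)-surjective (v :
𝒯_k → 𝒮_k surjective for all large k, on sections over affine opens). If r' is an open immersion, so
is r; if r' is a closed immersion, so is r. -/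
theorem result {Y X P PL P' : Scheme.{u}} (q : X ⟶ Y)
    (L : X.Modules) (hL : PicF.IsInvertible L) (hLq : Coh.IsQCoh L)
    (𝒮 : RelProj.QCGrAlg Y) (𝒮L : RelProj.QCGrAlg X) (j : L ⟶ 𝒮L.toModule) (hj : RelProj.IsGrSymAlg L 𝒮L j)
    (u : RelProj.QGrHom q 𝒮 𝒮L)
    (p : P ⟶ Y) (chart : ∀ (U : Y.Opens) (hU : IsAffineOpen U), (((p ⁻¹ᵁ U : P.Opens) : Scheme.{u}) ≅ Proj (𝒮.deg U hU)))
    (hP : RelProj.IsRelProj 𝒮 p chart)
    (pL : PL ⟶ X) (chartL : ∀ (U : X.Opens) (hU : IsAffineOpen U), (((pL ⁻¹ᵁ U : PL.Opens) : Scheme.{u}) ≅ Proj (𝒮L.deg U hU)))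
    (hPL : RelProj.IsRelProj 𝒮L pL chartL)
    (r : ((RelProj.domQ u pL chartL : PL.Opens) : Scheme.{u}) ⟶ P)
    (hr : RelProj.IsProjQMapOn u p chart pL chartL (RelProj.domQ u pL chartL) r)
    (𝒯 : RelProj.QCGrAlg Y) (v : 𝒯.toQCAlg ⟶ 𝒮.toQCAlg) (hv : RelProj.IsGradedHom v)
    (u' : RelProj.QGrHom q 𝒯 𝒮L) (hu' : ∀ U : Y.Opens, u'.app U = v.hom.app (op U) ≫ u.app U)
    (p' : P' ⟶ Y) (chart' : ∀ (U : Y.Opens) (hU : IsAffineOpen U), (((p' ⁻¹ᵁ U : P'.Opens) : Scheme.{u}) ≅ Proj (𝒯.deg U hU)))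
    (hP' : RelProj.IsRelProj 𝒯 p' chart')
    (r' : ((RelProj.domQ u' pL chartL : PL.Opens) : Scheme.{u}) ⟶ P')
    (hr' : RelProj.IsProjQMapOn u' p' chart' pL chartL (RelProj.domQ u' pL chartL) r')
    (hTN : ∃ n : ℕ, ∀ k, n ≤ k → ∀ (U : Y.Opens) (hU : IsAffineOpen U), ∀ y ∈ 𝒮.deg U hU k,
      ∃ x ∈ 𝒯.deg U hU k, (v.hom.app (op U)).hom x = y)
    (hdef : RelProj.domQ u' pL chartL = ⊤) :
    (IsOpenImmersion r' → IsOpenImmersion r) ∧ (IsClosedImmersion r' → IsClosedImmersion r) := by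
  have hA := EgaQ.SymL.isLine hL hLq hj
  obtain ⟨n, hn⟩ := hTN
  constructor
  · intro himm
    choose U hU hxU using fun x : X ↦ EgaQ.SymL.exists_affine_nhd (q x)
    choose d f hd hf hx haff hs hi using fun x : X ↦
      EgaQ.SymL.exists_crit_of_isOpenImmersion hA hP' hPL hr' hdef (hU x) (hxU x)
    exact (EgaQ.SymL.isOpenImmersion_of_crit hA hP hPL hr U hU d hd _ (fun x ↦ hv _ _ _ _ (hf x))
      (fun x ↦ ⟨x, (EgaQ.SymL.locus_of_comp hu' _ _ _).le (hx x)⟩)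
      (fun x ↦ EgaQ.SymL.locus_of_comp hu' _ _ _ ▸ haff x)
      (fun x ↦ EgaQ.SymL.surjCond_push hv hu' _ (hs x))
      fun x ↦ EgaQ.SymL.injCond_push hv hu' _ (fun k hk y hy ↦ hn k hk _ _ y hy) (hd x) (hf x) (hi x)).2
  · intro himm
    let ι := Σ U : Y.affineOpens, {nf : ULift.{u} ℕ × 𝒯.presheaf.obj (op U.1) //
      0 < nf.1.down ∧ nf.2 ∈ 𝒯.deg U.1 U.2 nf.1.down}
    have hc : ∀ a : ι, IsAffineOpen (EgaQ.SymL.locus u' a.1.1 a.2.1.1.down a.2.1.2) ∧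
        EgaQ.SymL.SurjCond u' a.1.2 a.2.1.1.down a.2.1.2 := fun a ↦
      (EgaQ.SymL.isClosedImmersion_restrict_iff hA hP' hPL hr' a.1.2 a.2.2.1 a.2.2.2).mp inferInstance
    refine EgaQ.SymL.isClosedImmersion_of_crit hA hP hPL hr (fun a : ι ↦ a.1.1) (fun a ↦ a.1.2)
      (fun a ↦ a.2.1.1.down) (fun a ↦ a.2.2.1) (fun a ↦ (v.hom.app (op a.1.1)).hom a.2.1.2)
      (fun a ↦ hv _ _ _ _ a.2.2.2) (eq_top_iff.mpr fun y _ ↦ ?_)
      (fun a ↦ EgaQ.SymL.locus_of_comp hu' _ _ _ ▸ (hc a).1)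
      fun a ↦ EgaQ.SymL.surjCond_push hv hu' _ (hc a).2
    obtain ⟨U, hU, hyU⟩ := EgaQ.SymL.exists_affine_nhd (p y)
    obtain ⟨d, f, hd, hf, hyf, -⟩ :=
      EgaQ.SymL.exists_basicOpen_nhd (chart := chart) (O := ⊤) (y := y) trivial hU hyU
    have hdeg : f ^ (n + 1) ∈ 𝒮.deg U hU ((n + 1) * d) := by
      simpa using SetLike.pow_mem_graded (n + 1) hf
    obtain ⟨g, hg, hge⟩ := hn ((n + 1) * d) ((Nat.le_succ n).trans (Nat.le_mul_of_pos_right _ hd))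
      U hU _ hdeg
    refine Opens.mem_iSup.mpr ⟨⟨⟨U, hU⟩, (⟨(n + 1) * d⟩, g), Nat.mul_pos n.succ_pos hd, hg⟩, ?_⟩
    show y ∈ RelProj.emb p chart U hU ''ᵁ Proj.basicOpen (𝒮.deg U hU) ((v.hom.app (op U)).hom g)
    obtain ⟨w, hw, rfl⟩ := hyf
    refine ⟨w, ?_, rfl⟩
    rw [hge]
    exact fun h ↦ hw (w.isPrime.mem_of_pow_mem _ h)

end Groth.Agent.S12154
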