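import Groth.Statements.S12155
import Groth.Agent.EgaQ.ConeQ
import Groth.Agent.EgaQ.BC

set_option autoImplicit false
universe u
open CategoryTheory CategoryTheory.Limits AlgebraicGeometry TopologicalSpace Opposite
open scoped HomogeneousIdeal
set_option backward.isDefEq.respectTransparency false
noncomputable section
open EGA2

namespace Groth.Agent.S12155

/-- Let q : Y' → Y be a morphism, φ : 𝒮 → q_*𝒮' a graded q-morphism of quasi-coherent positively graded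
algebras with 𝒮_0 = O_Y, 𝒮'_0 = O_{Y'}, φ̂ : 𝒮[z] → q_*𝒮'[z] its extension with φ̂(z) = z, Ĉ =
Proj(𝒮[z]), Ĉ' = Proj(𝒮'[z]) the projective cones with pointed cones Ê, Ê', and Φ̂ = Proj(φ̂) :
G(φ̂) → Ĉ. Then Φ̂⁻¹(Ê) ⊆ Ê'; moreover if Proj(φ) is everywhere defined on Proj(𝒮'), then Φ̂ is
everywhere defined on Ĉ' and Φ̂⁻¹(Ê) = Ê'. -/
theorem result {Y Y' PC PC' : Scheme.{u}} (q : Y' ⟶ Y)
    (𝒮 : RelProj.QCGrAlg Y) (𝒮' : RelProj.QCGrAlg Y') (h0 : RelCone.StrZeroBij 𝒮) (h0' : RelCone.StrZeroBij 𝒮')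
    (u : RelProj.QGrHom q 𝒮 𝒮')
    (𝒮h : RelProj.QCGrAlg Y) (ι : 𝒮.toQCAlg ⟶ 𝒮h.toQCAlg) (z : 𝒮h.presheaf.obj (op ⊤))
    (hz : RelCone.IsPolyOver 𝒮 𝒮h ι z)
    (pC : PC ⟶ Y) (chartC : ∀ (U : Y.Opens) (hU : IsAffineOpen U), (((pC ⁻¹ᵁ U : PC.Opens) : Scheme.{u}) ≅ Proj (𝒮h.deg U hU)))
    (hC : RelProj.IsRelProj 𝒮h pC chartC)
    (𝒮h' : RelProj.QCGrAlg Y') (ι' : 𝒮'.toQCAlg ⟶ 𝒮h'.toQCAlg) (z' : 𝒮h'.presheaf.obj (op ⊤))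
    (hz' : RelCone.IsPolyOver 𝒮' 𝒮h' ι' z')
    (pC' : PC' ⟶ Y') (chartC' : ∀ (U : Y'.Opens) (hU : IsAffineOpen U), (((pC' ⁻¹ᵁ U : PC'.Opens) : Scheme.{u}) ≅ Proj (𝒮h'.deg U hU)))
    (hC' : RelProj.IsRelProj 𝒮h' pC' chartC')
    (uh : RelProj.QGrHom q 𝒮h 𝒮h')
    (huh : ∀ U : Y.Opens, ι.hom.app (op U) ≫ uh.app U = u.app U ≫ ι'.hom.app (op (q ⁻¹ᵁ U)))
    (huhz : (uh.app ⊤).hom z = RelCone.restrictTop 𝒮h' z' (q ⁻¹ᵁ ⊤))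
    (Φh : ((RelProj.domQ uh pC' chartC' : PC'.Opens) : Scheme.{u}) ⟶ PC)
    (hΦh : RelProj.IsProjQMapOn uh pC chartC pC' chartC' (RelProj.domQ uh pC' chartC') Φh)
    {P' : Scheme.{u}} (p' : P' ⟶ Y') (chart' : ∀ (U : Y'.Opens) (hU : IsAffineOpen U), (((p' ⁻¹ᵁ U : P'.Opens) : Scheme.{u}) ≅ Proj (𝒮'.deg U hU)))
    (hP' : RelProj.IsRelProj 𝒮' p' chart') :
    (RelProj.domQ uh pC' chartC').ι ''ᵁ (Φh ⁻¹ᵁ RelCone.pointedProjCone 𝒮 hz pC chartC) ≤ RelCone.pointedProjCone 𝒮' hz' pC' chartC' ∧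
      (RelProj.domQ u p' chart' = ⊤ →
        RelProj.domQ uh pC' chartC' = ⊤ ∧
          (RelProj.domQ uh pC' chartC').ι ''ᵁ (Φh ⁻¹ᵁ RelCone.pointedProjCone 𝒮 hz pC chartC) = RelCone.pointedProjCone 𝒮' hz' pC' chartC') := by
  have hA := EgaQ.isQComp_preHom ι hz.graded uh
  rw [EgaQ.preHom_eq_postHom hz.graded hz'.graded huh] at hA
  have hB := EgaQ.isQComp_postHom u ι' hz'.graded
  have hÊ := EgaQ.pointedProjCone_eq_domQ hz hC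
  have hÊ' := EgaQ.pointedProjCone_eq_domQ hz' hC'
  obtain ⟨r', hr'⟩ := EgaQ.exists_isProjQMapOn (RelProj.QGrHom.ofHom ι' hz'.graded) hC' hP'
  have key : ∀ x : PC', x ∈ (RelProj.domQ uh pC' chartC').ι ''ᵁ
      (Φh ⁻¹ᵁ RelCone.pointedProjCone 𝒮 hz pC chartC) ↔
      x ∈ RelProj.domQ (EgaQ.postHom u ι' hz'.graded) pC' chartC' := by
    intro x
    rw [EgaQ.mem_domQ_comp hC hC' hA hΦh x, ← hÊ]
    constructor
    · rintro ⟨w, hw, rfl⟩; exact ⟨w.2, hw⟩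
    · rintro ⟨hx, hx'⟩; exact ⟨⟨x, hx⟩, hx', rfl⟩
  refine ⟨fun x hx => ?_, fun htop => ?_⟩
  · obtain ⟨hx', -⟩ := (EgaQ.mem_domQ_comp hP' hC' hB hr' x).mp ((key x).mp hx)
    rwa [hÊ']
  · have hsub : ∀ x : PC', x ∈ RelCone.pointedProjCone 𝒮' hz' pC' chartC' →
        x ∈ RelProj.domQ (EgaQ.postHom u ι' hz'.graded) pC' chartC' := fun x hx =>
      (EgaQ.mem_domQ_comp hP' hC' hB hr' x).mpr ⟨hÊ' ▸ hx, htop.ge (Set.mem_univ _)⟩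
    refine ⟨eq_top_iff.mpr fun x _ => ?_, le_antisymm (fun x hx => ?_) fun x hx =>
      (key x).mpr (hsub x hx)⟩
    · by_cases hx : x ∈ RelCone.pointedProjCone 𝒮' hz' pC' chartC'
      · exact ((EgaQ.mem_domQ_comp hC hC' hA hΦh x).mp (hsub x hx)).1
      · obtain ⟨π, hπ⟩ := EgaQ.exists_pair q (pC' x)
        obtain ⟨t, rfl⟩ := EgaQ.mem_range_emb (p := pC') (chart := chartC') π.U' π.hU' x hπ
        rw [EgaQ.emb_mem_pointedProjCone hz' hC'] at hx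
        exact EgaQ.basicOpen_z_le_domQ hz huhz π
          ((EgaQ.isPolyExt hz' π.U' π.hU').not_mem_of_forall (x := t) fun a ha =>
            not_not.mp fun hax => hx ((RelCone.mem_domOpen _ t).mpr ⟨a, ha, hax⟩))
    · obtain ⟨hx', -⟩ := (EgaQ.mem_domQ_comp hP' hC' hB hr' x).mp ((key x).mp hx)
      rwa [hÊ']

end Groth.Agent.S12155
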