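import Groth.Statements.S12157
import Groth.Agent.EgaQ.ConeQ
import Groth.Agent.EgaQ.BC

set_option autoImplicit false
universe u
open CategoryTheory CategoryTheory.Limits AlgebraicGeometry TopologicalSpace Opposite
open scoped HomogeneousIdeal
set_option backward.isDefEq.respectTransparency false
noncomputable section
open EGA2

namespace Groth.Agent.S12157

/-- Let q : Y' → Y be a morphism, φ : 𝒮 → q_*𝒮' a graded q-morphism of quasi-coherent positively graded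
algebras with 𝒮_0 = O_Y, 𝒮'_0 = O_{Y'}, φ̂ : 𝒮[z] → q_*𝒮'[z] its extension with φ̂(z) = z, Ĉ =
Proj(𝒮[z]), Ĉ' = Proj(𝒮'[z]) the projective cones with pointed cones Ê, Ê', and Φ̂ = Proj(φ̂) :
G(φ̂) → Ĉ; let Φ = Spec(φ) : C' = Spec(𝒮') → C = Spec(𝒮) be the morphism of affine cones and i : C →
Ĉ, i' : C' → Ĉ' the canonical open immersions. Then i'(C') ⊆ G(φ̂) and the square formed by Φ, i', i
and Φ̂ commutes. -/
theorem result {Y Y' PC PC' : Scheme.{u}} (q : Y' ⟶ Y)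
    (𝒮 : RelProj.QCGrAlg Y) (𝒮' : RelProj.QCGrAlg Y') (h0 : RelCone.StrZeroBij 𝒮) (h0' : RelCone.StrZeroBij 𝒮')
    (u : RelProj.QGrHom q 𝒮 𝒮')
    (𝒮h : RelProj.QCGrAlg Y) (ι : 𝒮.toQCAlg ⟶ 𝒮h.toQCAlg) (z : 𝒮h.presheaf.obj (op ⊤))
    (hz : RelCone.IsPolyOver 𝒮 𝒮h ι z)
    (pC : PC ⟶ Y) (chartC : ∀ (U : Y.Opens) (hU : IsAffineOpen U), (((pC ⁻¹ᵁ U : PC.Opens) : Scheme.{u}) ≅ Proj (𝒮h.deg U hU)))
    (hC : RelProj.IsRelProj 𝒮h pC chartC)
    (𝒮h' : RelProj.QCGrAlg Y') (ι' : 𝒮'.toQCAlg ⟶ 𝒮h'.toQCAlg) (z' : 𝒮h'.presheaf.obj (op ⊤))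
    (hz' : RelCone.IsPolyOver 𝒮' 𝒮h' ι' z')
    (pC' : PC' ⟶ Y') (chartC' : ∀ (U : Y'.Opens) (hU : IsAffineOpen U), (((pC' ⁻¹ᵁ U : PC'.Opens) : Scheme.{u}) ≅ Proj (𝒮h'.deg U hU)))
    (hC' : RelProj.IsRelProj 𝒮h' pC' chartC')
    (uh : RelProj.QGrHom q 𝒮h 𝒮h')
    (huh : ∀ U : Y.Opens, ι.hom.app (op U) ≫ uh.app U = u.app U ≫ ι'.hom.app (op (q ⁻¹ᵁ U)))
    (huhz : (uh.app ⊤).hom z = RelCone.restrictTop 𝒮h' z' (q ⁻¹ᵁ ⊤))
    (Φh : ((RelProj.domQ uh pC' chartC' : PC'.Opens) : Scheme.{u}) ⟶ PC)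
    (hΦh : RelProj.IsProjQMapOn uh pC chartC pC' chartC' (RelProj.domQ uh pC' chartC') Φh)
    (Φc : 𝒮'.toQCAlg.spec ⟶ 𝒮.toQCAlg.spec) (hΦc : RelSpec.IsSpecQMap u.toQHom Φc)
    (i : 𝒮.toQCAlg.spec ⟶ PC) (hi : RelCone.IsConeImm 𝒮 hz pC chartC i)
    (i' : 𝒮'.toQCAlg.spec ⟶ PC') (hi' : RelCone.IsConeImm 𝒮' hz' pC' chartC' i') :
    Set.range i'.base ⊆ ((RelProj.domQ uh pC' chartC' : PC'.Opens) : Set PC') ∧
      ∀ i'' : 𝒮'.toQCAlg.spec ⟶ ((RelProj.domQ uh pC' chartC' : PC'.Opens) : Scheme.{u}),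
        i'' ≫ (RelProj.domQ uh pC' chartC').ι = i' → i'' ≫ Φh = Φc ≫ i := by
  classical
  have hpre : Set.range i'.base ⊆ ((RelProj.domQ uh pC' chartC' : PC'.Opens) : Set PC') := by
    rintro _ ⟨c, rfl⟩
    obtain ⟨π, hπ⟩ := EgaQ.exists_pair q (𝒮'.toQCAlg.π c)
    obtain ⟨w, rfl⟩ := (𝒮'.toQCAlg.π_preimage π.U' π.hU').le hπ
    rw [← Scheme.Hom.comp_apply, hi' π.U' π.hU']
    simp only [Scheme.Hom.comp_apply]
    refine EgaQ.basicOpen_z_le_domQ hz huhz π ?_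
    exact (Proj.opensRange_awayι _ _ (hz'.deg_z π.U' π.hU') one_pos).le ⟨_, rfl⟩
  refine ⟨hpre, fun i'' hi'' => ?_⟩
  refine Scheme.hom_ext_of_forall _ _ fun c => ?_
  obtain ⟨π, hπ⟩ := EgaQ.exists_pair q (𝒮'.toQCAlg.π c)
  refine ⟨(𝒮'.toQCAlg.ι π.U' π.hU').opensRange, (𝒮'.toQCAlg.π_preimage π.U' π.hU').le hπ, ?_⟩
  have h1 : 𝒮'.toQCAlg.ι π.U' π.hU' ≫ i'' ≫ Φh = 𝒮'.toQCAlg.ι π.U' π.hU' ≫ Φc ≫ i := by
    set e := (EgaQ.uAt uh π)
    have key : Set.range (Proj.awayι (𝒮h'.deg π.U' π.hU') _ (hz'.deg_z π.U' π.hU') one_pos).base ⊆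
        Set.range (RelCone.domOpen e).ι.base := by
      rintro _ ⟨x, rfl⟩
      rw [Scheme.Opens.range_ι]
      refine EgaQ.basicOpen_le_domOpen e (hz.deg_z π.U π.hU) one_pos ?_
      show _ ∈ Proj.basicOpen _ ((uh.appLE π.U π.U' π.le).hom _)
      rw [EgaQ.uh_z huhz]
      exact (Proj.opensRange_awayι _ _ (hz'.deg_z π.U' π.hU') one_pos).le ⟨x, rfl⟩
    have hzz : e (RelCone.restrictTop 𝒮h z π.U) = RelCone.restrictTop 𝒮h' z' π.U' :=
      EgaQ.uh_z huhz π.U π.U' π.le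
    let n := IsOpenImmersion.lift _ _ key
    have hn : n ≫ (RelCone.domOpen e).ι =
        Proj.awayι (𝒮h'.deg π.U' π.hU') _ (hz'.deg_z π.U' π.hU') one_pos := IsOpenImmersion.lift_fac _ _ _
    have hl : 𝒮'.toQCAlg.ι π.U' π.hU' ≫ i'' =
        Spec.map (CommRingCat.ofHom (hz'.awayZToBase π.U' π.hU')) ≫ n ≫ EgaQ.domι uh π := by
      rw [← cancel_mono (RelProj.domQ uh pC' chartC').ι, Category.assoc, hi'', hi' π.U' π.hU']
      simp only [Category.assoc, EgaQ.domι_ι]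
      rw [reassoc_of% hn]
    rw [reassoc_of% hl, (EgaQ.isProjQMapOn_iff Φh).mp hΦh π, EgaQ.locMap,
      reassoc_of% (hΦc π.U π.hU π.U' π.hU' π.le), hi π.U π.hU]
    have hzm := e.map_mem (hz.deg_z π.U π.hU)
    let cast : HomogeneousLocalization.Away (𝒮h'.deg π.U' π.hU') (e (RelCone.restrictTop 𝒮h z π.U)) →+*
        HomogeneousLocalization.Away (𝒮h'.deg π.U' π.hU') (RelCone.restrictTop 𝒮h' z' π.U') :=
      HomogeneousLocalization.map (GradedRingHom.id _) (by rw [hzz]; exact le_rfl)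
    have hn2 : n = Spec.map (CommRingCat.ofHom cast) ≫ EgaQ.awayDom e (hz.deg_z π.U π.hU) one_pos := by
      rw [← cancel_mono (RelCone.domOpen e).ι, Category.assoc, hn, EgaQ.awayDom_ι]
      have gen : ∀ (x : 𝒮h'.presheaf.obj (op π.U')) (hx : x ∈ 𝒮h'.deg π.U' π.hU' 1)
          (y : 𝒮h'.presheaf.obj (op π.U')) (hy : y ∈ 𝒮h'.deg π.U' π.hU' 1) (h : x = y)
          (hle : Submonoid.powers x ≤ (Submonoid.powers y).comap (GradedRingHom.id (𝒮h'.deg π.U' π.hU'))),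
          Proj.awayι (𝒮h'.deg π.U' π.hU') y hy one_pos =
            Spec.map (CommRingCat.ofHom (HomogeneousLocalization.map (GradedRingHom.id _) hle)) ≫
              Proj.awayι (𝒮h'.deg π.U' π.hU') x hx one_pos := by
        intro x hx y hy h hle
        subst h
        rw [HomogeneousLocalization.map_id]
        exact (Category.id_comp _).symm.trans (by rw [CommRingCat.ofHom_id, Spec.map_id])
      exact gen _ hzm _ (hz'.deg_z π.U' π.hU') hzz _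
    rw [hn2]
    simp only [Category.assoc]
    rw [EgaQ.awayDom_domMap_assoc, ← Spec.map_comp_assoc, ← Spec.map_comp_assoc,
      ← Spec.map_comp_assoc]
    refine congrArg (fun m => Spec.map m ≫ _) ?_
    refine CommRingCat.hom_ext (RingHom.ext fun x => ?_)
    obtain ⟨k, b, hb, rfl⟩ := x.mk_surjective _ (hz.deg_z π.U π.hU)
    show hz'.awayZToBase π.U' π.hU' (cast (HomogeneousLocalization.Away.map e _ _)) =
      (u.appLE π.U π.U' π.le).hom (hz.awayZToBase π.U π.hU _)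
    rw [EgaQ.awayZToBase_mk hz π.U π.hU, HomogeneousLocalization.Away.map_mk]
    refine (hz'.awayZToBase_of_val π.U' π.hU' _ (e b) k ?_).trans ?_
    · simp only [cast, HomogeneousLocalization.Away.mk, HomogeneousLocalization.map_mk,
        HomogeneousLocalization.val_mk]
      exact congr_arg (Localization.mk _) (Subtype.ext (by show e _ ^ k = _; rw [hzz]))
    · exact congr($(EgaQ.evalOne_comm hz hz' huh huhz π.U π.hU π.U' π.hU' π.le) b)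
  refine (cancel_epi (𝒮'.toQCAlg.ι π.U' π.hU').isoOpensRange.hom).mp ?_
  rw [Scheme.Hom.isoOpensRange_hom_ι_assoc, Scheme.Hom.isoOpensRange_hom_ι_assoc]
  exact h1

end Groth.Agent.S12157
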