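import Groth.Statements.S12158
import Groth.Agent.EgaQ.ConeQ
import Groth.Agent.EgaQ.BC

set_option autoImplicit false
universe u
open CategoryTheory CategoryTheory.Limits AlgebraicGeometry TopologicalSpace Opposite
open scoped HomogeneousIdeal
set_option backward.isDefEq.respectTransparency false
noncomputable section
open EGA2

namespace Groth.Agent.S12158

/-- Let q : Y' → Y be a morphism, φ : 𝒮 → q_*𝒮' a graded q-morphism of quasi-coherent positively graded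
algebras with 𝒮_0 = O_Y, 𝒮'_0 = O_{Y'}, φ̂ : 𝒮[z] → q_*𝒮'[z] its extension with φ̂(z) = z, Ĉ =
Proj(𝒮[z]), Ĉ' = Proj(𝒮'[z]) the projective cones with pointed cones Ê, Ê', and Φ̂ = Proj(φ̂) :
G(φ̂) → Ĉ; let Proj(φ) : G(φ) → X = Proj(𝒮) be the morphism induced by φ on G(φ) ⊆ X' = Proj(𝒮'),
and j : X → Ĉ, j' : X' → Ĉ' the canonical closed immersions at infinity (Proj of the graded
retractions 𝒮[z] → 𝒮, 𝒮'[z] → 𝒮' killing z). Then j'(G(φ)) ⊆ G(φ̂) and the square formed by Proj(φ),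
j', j and Φ̂ commutes. -/
theorem result {Y Y' PC PC' : Scheme.{u}} (q : Y' ⟶ Y)
    (𝒮 : RelProj.QCGrAlg Y) (𝒮' : RelProj.QCGrAlg Y') (h0 : RelCone.StrZeroBij 𝒮) (h0' : RelCone.StrZeroBij 𝒮')
    (u : RelProj.QGrHom q 𝒮 𝒮')
    (𝒮h : RelProj.QCGrAlg Y) (ι : 𝒮.toQCAlg ⟶ 𝒮h.toQCAlg) (z : 𝒮h.presheaf.obj (op ⊤))
    (hz : RelCone.IsPolyOver 𝒮 𝒮h ι z)
    (pC : PC ⟶ Y) (chartC : ∀ (U : Y.Opens) (hU : IsAffineOpen U), (((pC ⁻¹ᵁ U : PC.Opens) : Scheme.{u}) ≅ Proj (𝒮h.deg U hU)))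
    (hC : RelProj.IsRelProj 𝒮h pC chartC)
    (𝒮h' : RelProj.QCGrAlg Y') (ι' : 𝒮'.toQCAlg ⟶ 𝒮h'.toQCAlg) (z' : 𝒮h'.presheaf.obj (op ⊤))
    (hz' : RelCone.IsPolyOver 𝒮' 𝒮h' ι' z')
    (pC' : PC' ⟶ Y') (chartC' : ∀ (U : Y'.Opens) (hU : IsAffineOpen U), (((pC' ⁻¹ᵁ U : PC'.Opens) : Scheme.{u}) ≅ Proj (𝒮h'.deg U hU)))
    (hC' : RelProj.IsRelProj 𝒮h' pC' chartC')
    (uh : RelProj.QGrHom q 𝒮h 𝒮h')
    (huh : ∀ U : Y.Opens, ι.hom.app (op U) ≫ uh.app U = u.app U ≫ ι'.hom.app (op (q ⁻¹ᵁ U)))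
    (huhz : (uh.app ⊤).hom z = RelCone.restrictTop 𝒮h' z' (q ⁻¹ᵁ ⊤))
    (Φh : ((RelProj.domQ uh pC' chartC' : PC'.Opens) : Scheme.{u}) ⟶ PC)
    (hΦh : RelProj.IsProjQMapOn uh pC chartC pC' chartC' (RelProj.domQ uh pC' chartC') Φh)
    {P P' : Scheme.{u}} (p : P ⟶ Y) (chart : ∀ (U : Y.Opens) (hU : IsAffineOpen U), (((p ⁻¹ᵁ U : P.Opens) : Scheme.{u}) ≅ Proj (𝒮.deg U hU)))
    (hP : RelProj.IsRelProj 𝒮 p chart)
    (p' : P' ⟶ Y') (chart' : ∀ (U : Y'.Opens) (hU : IsAffineOpen U), (((p' ⁻¹ᵁ U : P'.Opens) : Scheme.{u}) ≅ Proj (𝒮'.deg U hU)))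
    (hP' : RelProj.IsRelProj 𝒮' p' chart')
    (Φ : ((RelProj.domQ u p' chart' : P'.Opens) : Scheme.{u}) ⟶ P)
    (hΦ : RelProj.IsProjQMapOn u p chart p' chart' (RelProj.domQ u p' chart') Φ)
    (θ : 𝒮h.toQCAlg ⟶ 𝒮.toQCAlg) (hθ : RelProj.IsGradedHom θ) (hθι : ι ≫ θ = 𝟙 _)
    (hθz : (θ.hom.app (op ⊤)).hom z = 0)
    (jX : P ⟶ PC) (hjX : RelProj.IsProjQMap (RelProj.QGrHom.ofHom θ hθ) pC chartC p chart jX)
    (θ' : 𝒮h'.toQCAlg ⟶ 𝒮'.toQCAlg) (hθ' : RelProj.IsGradedHom θ') (hθι' : ι' ≫ θ' = 𝟙 _)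
    (hθz' : (θ'.hom.app (op ⊤)).hom z' = 0)
    (jX' : P' ⟶ PC') (hjX' : RelProj.IsProjQMap (RelProj.QGrHom.ofHom θ' hθ') pC' chartC' p' chart' jX')
    (T : Scheme.{u}) (d : T ⟶ ((RelProj.domQ u p' chart' : P'.Opens) : Scheme.{u}))
    (e : T ⟶ ((RelProj.domQ uh pC' chartC' : PC'.Opens) : Scheme.{u}))
    (hde : d ≫ (RelProj.domQ u p' chart').ι ≫ jX' = e ≫ (RelProj.domQ uh pC' chartC').ι) :
    jX'.base '' ((RelProj.domQ u p' chart' : P'.Opens) : Set P') ⊆ ((RelProj.domQ uh pC' chartC' : PC'.Opens) : Set PC') ∧ e ≫ Φh = d ≫ Φ ≫ jX := by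
  have hA := EgaQ.isQComp_preHom θ hθ u
  have hB := EgaQ.isQComp_theta hz huh huhz hθ hθι hθz hθ' hθι' hθz'
  set u₃ := EgaQ.preHom θ hθ u
  have hjX0 := EgaQ.isProjQMapOn_of_isProjQMap hjX
  have hjX0' := EgaQ.isProjQMapOn_of_isProjQMap hjX'
  have h1 : ∀ x : P', x ∈ RelProj.domQ u₃ p' chart' ↔ x ∈ RelProj.domQ u p' chart' := by
    intro x
    rw [EgaQ.mem_domQ_comp hP hP' hA hΦ x]
    exact ⟨fun ⟨hx, _⟩ => hx, fun hx => ⟨hx, hjX.1.ge (Set.mem_univ _)⟩⟩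
  have h2 : ∀ x : P', x ∈ RelProj.domQ u₃ p' chart' → jX' x ∈ RelProj.domQ uh pC' chartC' :=
    fun x hx => ((EgaQ.mem_domQ_comp hC' hP' hB hjX0' x).mp hx).2
  refine ⟨?_, ?_⟩
  · rintro _ ⟨x, hx, rfl⟩
    exact h2 x ((h1 x).mpr hx)
  obtain ⟨v₃, hv₃⟩ := EgaQ.exists_isProjQMapOn u₃ hP' hC (p := pC) (chart := chartC)
  have heq : RelProj.domQ u₃ p' chart' = RelProj.domQ u p' chart' := TopologicalSpace.Opens.ext (Set.ext h1)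
  let a₃ := d ≫ (P'.isoOfEq heq.symm).hom
  have ha₃ : a₃ ≫ (RelProj.domQ u₃ p' chart').ι = d ≫ (RelProj.domQ u p' chart').ι := by
    simp [a₃]
  have := EgaQ.isIso_ι_of_eq_top (u := RelProj.QGrHom.ofHom θ hθ) hjX.1
  have := EgaQ.isIso_ι_of_eq_top (u := RelProj.QGrHom.ofHom θ' hθ') hjX'.1
  let cθ := d ≫ Φ ≫ inv (RelProj.domQ (RelProj.QGrHom.ofHom θ hθ) p chart).ι
  let bθ := d ≫ (RelProj.domQ u p' chart').ι ≫ inv (RelProj.domQ (RelProj.QGrHom.ofHom θ' hθ') p' chart').ι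
  have e1 := EgaQ.projQMapOn_functorial hP hP' hA hΦ hjX0 hv₃ a₃ d cθ ha₃ (by simp [cθ])
  have e2 := EgaQ.projQMapOn_functorial hC' hP' hB hjX0' hΦh hv₃ a₃ bθ e (by simp [bθ, ha₃])
    (by simpa [bθ] using hde)
  rw [← e2, e1]
  simp [cθ]

end Groth.Agent.S12158
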