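import Groth.Statements.S12159
import Groth.Agent.EgaQ.SymL.Push
-- import your own Groth.Agent.* helpers here

set_option autoImplicit false
universe u
open CategoryTheory CategoryTheory.Limits AlgebraicGeometry TopologicalSpace Opposite
open scoped HomogeneousIdeal
set_option backward.isDefEq.respectTransparency false
noncomputable section
open EGA2

namespace Groth.Agent.S12159

/-- Let Y be a quasi-compact scheme, q : X → Y a quasi-compact morphism, L an invertible O_X-module with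
𝒮L = ⊕ L^{⊗n} (whose Proj is X), 𝒮 = colim 𝒮^i a filtered colimit of quasi-coherent positively
graded O_Y-algebras along graded homomorphisms φ_i : 𝒮^i → 𝒮 (colimit taken on sections over affine
opens), ψ♭ = u : 𝒮 → q_*𝒮L a graded q-morphism and ψ_i♭ = u ∘ φ_i. Then r_{L,ψ} is everywhere
defined if and only if some r_{L,ψ_i} is everywhere defined, and in that case r_{L,ψ_j} is
everywhere defined for all j ≥ i. -/
theorem result {Y X P PL : Scheme.{u}} (q : X ⟶ Y)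
    (L : X.Modules) (hL : PicF.IsInvertible L) (hLq : Coh.IsQCoh L)
    (𝒮 : RelProj.QCGrAlg Y) (𝒮L : RelProj.QCGrAlg X) (j : L ⟶ 𝒮L.toModule) (hj : RelProj.IsGrSymAlg L 𝒮L j)
    (u : RelProj.QGrHom q 𝒮 𝒮L)
    (p : P ⟶ Y) (chart : ∀ (U : Y.Opens) (hU : IsAffineOpen U), (((p ⁻¹ᵁ U : P.Opens) : Scheme.{u}) ≅ Proj (𝒮.deg U hU)))
    (hP : RelProj.IsRelProj 𝒮 p chart)
    (pL : PL ⟶ X) (chartL : ∀ (U : X.Opens) (hU : IsAffineOpen U), (((pL ⁻¹ᵁ U : PL.Opens) : Scheme.{u}) ≅ Proj (𝒮L.deg U hU)))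
    (hPL : RelProj.IsRelProj 𝒮L pL chartL)
    [CompactSpace Y] [QuasiCompact q]
    (Λ : Type u) [Preorder Λ] [IsDirected Λ (· ≤ ·)] [Nonempty Λ]
    (𝒮i : Λ → RelProj.QCGrAlg Y) (φ : ∀ i, (𝒮i i).toQCAlg ⟶ 𝒮.toQCAlg) (hφ : ∀ i, RelProj.IsGradedHom (φ i))
    (t : ∀ i j, i ≤ j → ((𝒮i i).toQCAlg ⟶ (𝒮i j).toQCAlg)) (ht : ∀ i j (h : i ≤ j), RelProj.IsGradedHom (t i j h))
    (hφt : ∀ i j (h : i ≤ j), t i j h ≫ φ j = φ i)
    (hsurj : ∀ (U : Y.Opens), IsAffineOpen U → ∀ x : 𝒮.presheaf.obj (op U),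
      ∃ (i : Λ) (y : (𝒮i i).presheaf.obj (op U)), ((φ i).hom.app (op U)).hom y = x)
    (hker : ∀ (U : Y.Opens), IsAffineOpen U → ∀ (i : Λ) (y : (𝒮i i).presheaf.obj (op U)),
      ((φ i).hom.app (op U)).hom y = 0 → ∃ (j : Λ) (h : i ≤ j), ((t i j h).hom.app (op U)).hom y = 0)
    (ui : ∀ i, RelProj.QGrHom q (𝒮i i) 𝒮L) (hui : ∀ i (U : Y.Opens), (ui i).app U = (φ i).hom.app (op U) ≫ u.app U) :
    (RelProj.domQ u pL chartL = ⊤ ↔ ∃ i, RelProj.domQ (ui i) pL chartL = ⊤) ∧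
      ∀ i, RelProj.domQ (ui i) pL chartL = ⊤ → ∀ j, i ≤ j → RelProj.domQ (ui j) pL chartL = ⊤ := by
  have hA := EgaQ.SymL.isLine hL hLq hj
  have hlift : ∀ (U : Y.Opens) (hU : IsAffineOpen U) (d : ℕ) (f : 𝒮.presheaf.obj (op U)),
      f ∈ 𝒮.deg U hU d → ∃ (i : Λ) (y : (𝒮i i).presheaf.obj (op U)),
        y ∈ (𝒮i i).deg U hU d ∧ ((φ i).hom.app (op U)).hom y = f := by
    classical
    intro U hU d f hf
    obtain ⟨i, y, hy⟩ := hsurj U hU f
    refine ⟨i, _, (DirectSum.decompose ((𝒮i i).deg U hU) y d).2, ?_⟩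
    show RelProj.gradedHomAt (φ i) (hφ i) U hU _ = f
    rw [GradedRingHom.map_directSumDecompose, show RelProj.gradedHomAt (φ i) (hφ i) U hU y = f from hy,
      DirectSum.decompose_of_mem_same _ hf]
  have hcomp : ∀ i k (h : i ≤ k) (U : Y.Opens),
      (ui i).app U = (t i k h).hom.app (op U) ≫ (ui k).app U := fun i k h U ↦ by
    rw [hui, hui, ← Category.assoc, ← NatTrans.comp_app]
    congr 2
    exact congrArg (·.hom) (hφt i k h).symm
  have hmono : ∀ i, RelProj.domQ (ui i) pL chartL = ⊤ → ∀ k, i ≤ k →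
      RelProj.domQ (ui k) pL chartL = ⊤ := fun i hi k h ↦
    EgaQ.SymL.domQ_eq_top_of_exists hA hPL fun x ↦ by
      obtain ⟨U, hU, hx⟩ := EgaQ.SymL.exists_affine_nhd (q x)
      obtain ⟨d, f, hd, hf, hxf⟩ := (EgaQ.SymL.domQ_eq_top_iff hA hPL).mp hi x U hU hx
      exact ⟨U, hU, d, _, hd, ht i k h U hU d f hf, (EgaQ.SymL.locus_of_comp (hcomp i k h) U d f).le hxf⟩
  refine ⟨⟨fun htop ↦ ?_, fun ⟨i, hi⟩ ↦ ?_⟩, hmono⟩
  · have hX : CompactSpace X := QuasiCompact.compactSpace_of_compactSpace q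
    choose U hU hxU using fun x : X ↦ EgaQ.SymL.exists_affine_nhd (q x)
    choose d f hd hf hx using fun x : X ↦
      (EgaQ.SymL.domQ_eq_top_iff hA hPL).mp htop x (U x) (hU x) (hxU x)
    choose i g hg hge using fun x : X ↦ hlift (U x) (hU x) (d x) (f x) (hf x)
    have hmem : ∀ x, x ∈ EgaQ.SymL.locus (ui (i x)) (U x) (d x) (g x) := fun x ↦ by
      rw [EgaQ.SymL.locus_of_comp (hui (i x)), hge]; exact hx x
    obtain ⟨s, hs⟩ := isCompact_univ.elim_finite_subcover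
      (fun x ↦ (EgaQ.SymL.locus (ui (i x)) (U x) (d x) (g x) : Set X))
      (fun x ↦ (EgaQ.SymL.locus (ui (i x)) (U x) (d x) (g x)).isOpen)
      (fun x _ ↦ Set.mem_iUnion.mpr ⟨x, hmem x⟩)
    classical
    obtain ⟨k, hk⟩ := Finset.exists_le (s.image i)
    refine ⟨k, EgaQ.SymL.domQ_eq_top_of_exists hA hPL fun x ↦ ?_⟩
    obtain ⟨y, hy, hxy⟩ := Set.mem_iUnion₂.mp (hs (Set.mem_univ x))
    have hik := hk _ (Finset.mem_image_of_mem i hy)
    exact ⟨U y, hU y, d y, _, hd y, ht _ k hik _ (hU y) _ _ (hg y),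
      (EgaQ.SymL.locus_of_comp (hcomp _ k hik) _ _ _).le hxy⟩
  · refine EgaQ.SymL.domQ_eq_top_of_exists hA hPL fun x ↦ ?_
    obtain ⟨U, hU, hx⟩ := EgaQ.SymL.exists_affine_nhd (q x)
    obtain ⟨d, f, hd, hf, hxf⟩ := (EgaQ.SymL.domQ_eq_top_iff hA hPL).mp hi x U hU hx
    exact ⟨U, hU, d, _, hd, hφ i U hU d f hf, (EgaQ.SymL.locus_of_comp (hui i) U d f).le hxf⟩

end Groth.Agent.S12159
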