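import Groth.Statements.S12161
import Groth.Agent.EgaQ.SymL.Push
-- import your own Groth.Agent.* helpers here

set_option autoImplicit false
universe u
open CategoryTheory CategoryTheory.Limits AlgebraicGeometry TopologicalSpace Opposite
open scoped HomogeneousIdeal
set_option backward.isDefEq.respectTransparency false
noncomputable section
open EGA2

namespace Groth.Agent.S12161

/-- Let Y be a quasi-compact scheme, q : X → Y a quasi-compact morphism, L an invertible O_X-module with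
𝒮L = ⊕ L^{⊗n} (whose Proj is X), 𝒮 = colim 𝒮^i a filtered colimit of quasi-coherent positively
graded O_Y-algebras along graded homomorphisms φ_i : 𝒮^i → 𝒮 (colimit taken on sections over affine
opens), ψ♭ = u : 𝒮 → q_*𝒮L a graded q-morphism and ψ_i♭ = u ∘ φ_i, with q of finite type; let r =
r_{L,ψ} : G(ψ) → Proj(𝒮) and r_i = r_{L,ψ_i} : G(ψ_i) → Proj(𝒮^i). Then r is everywhere defined and
an immersion if and only if some r_i is, and then so is r_j for all j ≥ i. -/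
theorem result {Y X P PL : Scheme.{u}} (q : X ⟶ Y)
    (L : X.Modules) (hL : PicF.IsInvertible L) (hLq : Coh.IsQCoh L)
    (𝒮 : RelProj.QCGrAlg Y) (𝒮L : RelProj.QCGrAlg X) (j : L ⟶ 𝒮L.toModule) (hj : RelProj.IsGrSymAlg L 𝒮L j)
    (u : RelProj.QGrHom q 𝒮 𝒮L)
    (p : P ⟶ Y) (chart : ∀ (U : Y.Opens) (hU : IsAffineOpen U), (((p ⁻¹ᵁ U : P.Opens) : Scheme.{u}) ≅ Proj (𝒮.deg U hU)))
    (hP : RelProj.IsRelProj 𝒮 p chart)
    (pL : PL ⟶ X) (chartL : ∀ (U : X.Opens) (hU : IsAffineOpen U), (((pL ⁻¹ᵁ U : PL.Opens) : Scheme.{u}) ≅ Proj (𝒮L.deg U hU)))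
    (hPL : RelProj.IsRelProj 𝒮L pL chartL)
    [CompactSpace Y] [QuasiCompact q] [LocallyOfFiniteType q]
    (r : ((RelProj.domQ u pL chartL : PL.Opens) : Scheme.{u}) ⟶ P)
    (hr : RelProj.IsProjQMapOn u p chart pL chartL (RelProj.domQ u pL chartL) r)
    (Λ : Type u) [Preorder Λ] [IsDirected Λ (· ≤ ·)] [Nonempty Λ]
    (𝒮i : Λ → RelProj.QCGrAlg Y) (φ : ∀ i, (𝒮i i).toQCAlg ⟶ 𝒮.toQCAlg) (hφ : ∀ i, RelProj.IsGradedHom (φ i))
    (t : ∀ i j, i ≤ j → ((𝒮i i).toQCAlg ⟶ (𝒮i j).toQCAlg)) (ht : ∀ i j (h : i ≤ j), RelProj.IsGradedHom (t i j h))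
    (hφt : ∀ i j (h : i ≤ j), t i j h ≫ φ j = φ i)
    (hsurj : ∀ (U : Y.Opens), IsAffineOpen U → ∀ x : 𝒮.presheaf.obj (op U),
      ∃ (i : Λ) (y : (𝒮i i).presheaf.obj (op U)), ((φ i).hom.app (op U)).hom y = x)
    (hker : ∀ (U : Y.Opens), IsAffineOpen U → ∀ (i : Λ) (y : (𝒮i i).presheaf.obj (op U)),
      ((φ i).hom.app (op U)).hom y = 0 → ∃ (j : Λ) (h : i ≤ j), ((t i j h).hom.app (op U)).hom y = 0)
    (ui : ∀ i, RelProj.QGrHom q (𝒮i i) 𝒮L) (hui : ∀ i (U : Y.Opens), (ui i).app U = (φ i).hom.app (op U) ≫ u.app U)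
    (Pi : Λ → Scheme.{u}) (pi : ∀ i, Pi i ⟶ Y)
    (charti : ∀ i (U : Y.Opens) (hU : IsAffineOpen U), ((((pi i) ⁻¹ᵁ U : (Pi i).Opens) : Scheme.{u}) ≅ Proj ((𝒮i i).deg U hU)))
    (hPi : ∀ i, RelProj.IsRelProj (𝒮i i) (pi i) (charti i))
    (ri : ∀ i, ((RelProj.domQ (ui i) pL chartL : PL.Opens) : Scheme.{u}) ⟶ Pi i)
    (hri : ∀ i, RelProj.IsProjQMapOn (ui i) (pi i) (charti i) pL chartL (RelProj.domQ (ui i) pL chartL) (ri i)) :
    ((RelProj.domQ u pL chartL = ⊤ ∧ IsImmersion r) ↔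
        ∃ i, RelProj.domQ (ui i) pL chartL = ⊤ ∧ IsImmersion (ri i)) ∧
      ∀ i, (RelProj.domQ (ui i) pL chartL = ⊤ ∧ IsImmersion (ri i)) →
        ∀ j, i ≤ j → RelProj.domQ (ui j) pL chartL = ⊤ ∧ IsImmersion (ri j) := by
  have hA := EgaQ.SymL.isLine hL hLq hj
  have hlift : ∀ (U : Y.Opens) (hU : IsAffineOpen U) (d : ℕ) (f : 𝒮.presheaf.obj (op U)),
      f ∈ 𝒮.deg U hU d → ∃ (i : Λ) (y : (𝒮i i).presheaf.obj (op U)),
        y ∈ (𝒮i i).deg U hU d ∧ ((φ i).hom.app (op U)).hom y = f := by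
    classical
    intro U hU d f hf
    obtain ⟨i, y, hy⟩ := hsurj U hU f
    refine ⟨i, _, (DirectSum.decompose ((𝒮i i).deg U hU) y d).2, ?_⟩
    show RelProj.gradedHomAt (φ i) (hφ i) U hU _ = f
    rw [GradedRingHom.map_directSumDecompose, show RelProj.gradedHomAt (φ i) (hφ i) U hU y = f from hy,
      DirectSum.decompose_of_mem_same _ hf]
  have hcomp : ∀ i k (h : i ≤ k) (U : Y.Opens),
      (ui i).app U = (t i k h).hom.app (op U) ≫ (ui k).app U := fun i k h U ↦ by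
    rw [hui, hui, ← Category.assoc, ← NatTrans.comp_app]
    congr 2
    exact congrArg (·.hom) (hφt i k h).symm
  refine ⟨⟨?_, fun ⟨i, hi, hi'⟩ ↦
      EgaQ.SymL.isImmersion_of_comp hA hP hPL hr (hφ i) (hui i) (hPi i) (hri i) hi⟩,
    fun i ⟨hi, hi'⟩ k h ↦ EgaQ.SymL.isImmersion_of_comp hA (hPi k) hPL (hri k) (ht i k h)
      (hcomp i k h) (hPi i) (hri i) hi⟩
  rintro ⟨htop, himm⟩
  have hX : CompactSpace X := QuasiCompact.compactSpace_of_compactSpace q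
  choose U hU hxU using fun x : X ↦ EgaQ.SymL.exists_affine_nhd (q x)
  choose d f hd hf hx haff hs using fun x : X ↦
    EgaQ.SymL.exists_crit_of_isImmersion hA hP hPL hr htop (hU x) (hxU x)
  obtain ⟨S, hS⟩ := isCompact_univ.elim_finite_subcover
    (fun x ↦ (EgaQ.SymL.locus u (U x) (d x) (f x) : Set X))
    (fun x ↦ (EgaQ.SymL.locus u (U x) (d x) (f x)).isOpen)
    (fun x _ ↦ Set.mem_iUnion.mpr ⟨x, hx x⟩)
  choose T hT using fun x : X ↦
    EgaQ.SymL.exists_generators (q := q) (hU x) (haff x) (EgaQ.SymL.locus_le u (U x) (d x) (f x))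
  choose m hm s hsm hse using fun x : X ↦ hs x
  choose i g hg hge using fun x : X ↦ hlift (U x) (hU x) (d x) (f x) (hf x)
  choose i' g' hg' hge' using fun (x : X) (z : Γ(X, EgaQ.SymL.locus u (U x) (d x) (f x))) ↦
    hlift (U x) (hU x) _ (s x z) (hsm x z)
  classical
  obtain ⟨k, hk⟩ := Finset.exists_le (S.image i ∪ S.biUnion fun x ↦ (T x).image (i' x))
  have hkap : ∀ j (h : j ≤ k) (V : Y.Opens) (y : (𝒮i j).presheaf.obj (op V)),
      ((φ k).hom.app (op V)).hom (((t j k h).hom.app (op V)).hom y) = ((φ j).hom.app (op V)).hom y :=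
    fun j h V y ↦ by rw [← hφt j k h]; rfl
  let ι := {x // x ∈ S}
  have hi : ∀ x : ι, i x.1 ≤ k := fun x ↦
    hk _ (Finset.mem_union_left _ (Finset.mem_image_of_mem i x.2))
  let fk : ∀ x : ι, (𝒮i k).presheaf.obj (op (U x.1)) := fun x ↦
    ((t _ k (hi x)).hom.app (op (U x.1))).hom (g x.1)
  have hfk : ∀ x : ι, ((φ k).hom.app (op (U x.1))).hom (fk x) = f x.1 := fun x ↦
    (hkap _ _ _ _).trans (hge x.1)
  have hL : ∀ x : ι, EgaQ.SymL.locus u (U x.1) (d x.1) (f x.1) =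
      EgaQ.SymL.locus (ui k) (U x.1) (d x.1) (fk x) := fun x ↦ by
    rw [EgaQ.SymL.locus_of_comp (hui k), hfk]
  refine ⟨k, EgaQ.SymL.isImmersion_of_crit hA (hPi k) hPL (hri k) (fun x : ι ↦ U x.1) (fun x ↦ hU x.1)
    (fun x ↦ d x.1) (fun x ↦ hd x.1) fk (fun x ↦ ht _ k (hi x) _ _ _ _ (hg x.1)) (fun y ↦ ?_)
    (fun x ↦ hL x ▸ haff x.1) fun x ↦ ?_⟩
  · obtain ⟨x, hxS, hyx⟩ := Set.mem_iUnion₂.mp (hS (Set.mem_univ y))
    exact ⟨⟨x, hxS⟩, (hL ⟨x, hxS⟩).le hyx⟩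
  · have hs' : ∀ z ∈ T x.1, ∃ (n : ℕ) (w : (𝒮i k).presheaf.obj (op (U x.1))),
        w ∈ (𝒮i k).deg (U x.1) (hU x.1) (n * d x.1) ∧
        EgaQ.SymL.strA 𝒮L _ z * (((ui k).appLE (U x.1) _ (EgaQ.SymL.locus_le u _ _ _)).hom (fk x)) ^ n =
          ((ui k).appLE (U x.1) _ (EgaQ.SymL.locus_le u (U x.1) (d x.1) (f x.1))).hom w := by
      intro z hz
      have hi2 : i' x.1 z ≤ k := hk _ (Finset.mem_union_right _
        (Finset.mem_biUnion.mpr ⟨x.1, x.2, Finset.mem_image_of_mem _ hz⟩))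
      refine ⟨m x.1 z, ((t _ k hi2).hom.app (op (U x.1))).hom (g' x.1 z),
        ht _ k hi2 _ _ _ _ (hg' x.1 z), ?_⟩
      rw [EgaQ.SymL.appLE_of_comp (hui k), EgaQ.SymL.appLE_of_comp (hui k), hfk, hkap, hge']
      exact hse x.1 z
    have key : ∀ (L : X.Opens), L = EgaQ.SymL.locus (ui k) (U x.1) (d x.1) (fk x) → ∀ (T : Finset Γ(X, L))
        (h : L ≤ q ⁻¹ᵁ U x.1), Subring.closure (Set.range (q.appLE (U x.1) L h).hom ∪ T) = ⊤ →
        (∀ z ∈ T, ∃ (n : ℕ) (w : (𝒮i k).presheaf.obj (op (U x.1))),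
          w ∈ (𝒮i k).deg (U x.1) (hU x.1) (n * d x.1) ∧
          EgaQ.SymL.strA 𝒮L L z * (((ui k).appLE (U x.1) L h).hom (fk x)) ^ n =
            ((ui k).appLE (U x.1) L h).hom w) →
        EgaQ.SymL.SurjCond (ui k) (hU x.1) (d x.1) (fk x) := by
      rintro L rfl T h hT hz
      exact EgaQ.SymL.surjCond_of_generators (hU x.1)
        (by simpa [fk] using ht _ k (hi x) _ (hU x.1) _ _ (hg x.1)) T hT hz
    exact key _ (hL x) (T x.1) _ (hT x.1) hs'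

end Groth.Agent.S12161
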