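import Groth.Statements.S12166
import Groth.Agent.EgaQ.Rel2
import Groth.Agent.EgaQ.TN

set_option autoImplicit false
set_option backward.isDefEq.respectTransparency false
universe u
open CategoryTheory CategoryTheory.Limits AlgebraicGeometry TopologicalSpace Opposite
open scoped HomogeneousIdeal
noncomputable section
open EGA2

namespace Groth.Agent.S12166

/-- Let φ : 𝒜 → ℬ be a graded homomorphism of quasi-coherent positively graded O_Y-algebras which is a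
(TN)-isomorphism (φ : 𝒜_k → ℬ_k bijective for all large k, on sections over affine opens), PA =
Proj(𝒜), PB = Proj(ℬ) with their charts. Then Proj(φ) is defined on all of PB and is an isomorphism
PB → PA. -/
theorem result {Y PA PB : Scheme.{u}} (𝒜 ℬ : RelProj.QCGrAlg Y)
    (φ : 𝒜.toQCAlg ⟶ ℬ.toQCAlg) (hφ : RelProj.IsGradedHom φ)
    (hTN : ∃ n : ℕ, ∀ k, n ≤ k → ∀ (U : Y.Opens) (hU : IsAffineOpen U),
      (∀ x ∈ 𝒜.deg U hU k, (φ.hom.app (op U)).hom x = 0 → x = 0) ∧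
        ∀ y ∈ ℬ.deg U hU k, ∃ x ∈ 𝒜.deg U hU k, (φ.hom.app (op U)).hom x = y)
    (pA : PA ⟶ Y) (chartA : ∀ (U : Y.Opens) (hU : IsAffineOpen U), (((pA ⁻¹ᵁ U : PA.Opens) : Scheme.{u}) ≅ Proj (𝒜.deg U hU)))
    (hA : RelProj.IsRelProj 𝒜 pA chartA)
    (pB : PB ⟶ Y) (chartB : ∀ (U : Y.Opens) (hU : IsAffineOpen U), (((pB ⁻¹ᵁ U : PB.Opens) : Scheme.{u}) ≅ Proj (ℬ.deg U hU)))
    (hB : RelProj.IsRelProj ℬ pB chartB) :
    RelProj.domQ (RelProj.QGrHom.ofHom φ hφ) pB chartB = ⊤ ∧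
      ∀ h : PB ⟶ PA, RelProj.IsProjQMap (RelProj.QGrHom.ofHom φ hφ) pA chartA pB chartB h → IsIso h := by
  obtain ⟨n, hn⟩ := hTN
  have hs : ∀ (U : Y.Opens) (hU : IsAffineOpen U), ∀ k, n ≤ k → ∀ y ∈ ℬ.deg U hU k,
      ∃ x ∈ 𝒜.deg U hU k, RelProj.gradedHomAt φ hφ U hU x = y :=
    fun U hU k hk => (hn k hk U hU).2
  have hi : ∀ (U : Y.Opens) (hU : IsAffineOpen U), ∀ k, n ≤ k → ∀ x ∈ 𝒜.deg U hU k,
      RelProj.gradedHomAt φ hφ U hU x = 0 → x = 0 :=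
    fun U hU k hk => (hn k hk U hU).1
  refine ⟨EgaQ.domQ_eq_top _ fun y => ?_, fun h hh => ?_⟩
  · obtain ⟨_, ⟨U, hU, rfl⟩, hy, -⟩ := Y.isBasis_affineOpens.exists_subset_of_mem_open
      (Set.mem_univ y) isOpen_univ
    refine ⟨EgaQ.idPair U hU, hy, ?_⟩
    rw [EgaQ.uAt_ofHom]
    exact EgaQ.domOpen_eq_top_of_surj _ (hs U hU)
  · refine EgaQ.projQMap_of_pairs (Pr := MorphismProperty.isomorphisms Scheme) hA hB hh fun π hπ => ?_
    rw [EgaQ.eq_idPair π hπ, EgaQ.uAt_ofHom]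
    exact EgaQ.isIso_domMap _ (hs π.U π.hU) (hi π.U π.hU)

end Groth.Agent.S12166
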