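import Groth.Statements.S12193
import Groth.Agent.AlgSpDec.RedImage
import Groth.Agent.AlgSpDec.OneFlat
import Groth.Agent.AlgSpLib.OpenMor
import Groth.Agent.AlgSpLib.EtaleSmoothLocal

set_option autoImplicit false
universe u
open CategoryTheory CategoryTheory.Limits AlgebraicGeometry
open AlgSp

namespace Groth.Agent.S12193

/-- Let X be a reduced algebraic space over S, f : X → Y a morphism of algebraic spaces over S, and Z →
Y the scheme theoretic image of f. Then forming the scheme theoretic image commutes with etale base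
change: for every etale morphism V → Y of algebraic spaces and cartesian squares X ×_Y V, Z ×_Y V,
the closed subspace Z ×_Y V → V is the scheme theoretic image of X ×_Y V → V. -/
theorem result {S : Scheme.{u}} {X Y Z V XV ZV : AlgSp.Space S} (f : X ⟶ Y)
    (i : Z ⟶ Y) (hX : AlgSp.IsReducedSp X.obj) (hZ : AlgSp.IsSchImage f.hom i.hom) (b : V ⟶ Y)
    (hb : AlgSp.IsEtaleMor b.hom) (f₁ : XV ⟶ X) (fV : XV ⟶ V) (i₁ : ZV ⟶ Z) (iV : ZV ⟶ V)
    (sqX : IsPullback f₁.hom fV.hom f.hom b.hom) (sqZ : IsPullback i₁.hom iV.hom i.hom b.hom) :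
    AlgSp.IsSchImage fV.hom iV.hom := by
  have hred : ∀ {W W' : AlgSp.Space S} (g : W' ⟶ W), IsEtaleMor g.hom → IsReducedSp W.obj →
      IsReducedSp W'.obj := by
    intro W W' g hg hW
    obtain ⟨U, c, hc, hc'⟩ := W'.property.atlas
    exact ⟨U, c, hc, hc', AlgSpDec.isReduced_chart hW (hg c hc)⟩
  have hXV : IsReducedSp XV.obj := hred f₁
    (AlgSpLib.isEtaleMor_of_isPullback sqX.flip V.property Y.property X.property hb) hX
  obtain ⟨hic, hrange, hZr⟩ := AlgSpDec.isRedInduced_of_schImage Y.property hX hZ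
  have hZV : IsReducedSp ZV.obj := hred i₁
    (AlgSpLib.isEtaleMor_of_isPullback sqZ.flip V.property Y.property Z.property hb) hZr
  have hl := (AlgSpLib.isEtaleMor_iff_locP V.property Y.property b.hom).1 hb
  have ho : IsOpenMap (Points.map b.hom) :=
    AlgSpLib.isOpenMap_map_of_fppf V.property Y.property b.hom
      (AlgSpLib.locP_mono (P := @Etale) (fun _ _ g (_ : Etale g) => inferInstanceAs (Flat g)) hl)
      (AlgSpLib.locP_mono (P := @Etale)
        (fun _ _ g (_ : Etale g) => inferInstanceAs (LocallyOfFinitePresentation g)) hl)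
  have hr : Set.range (Points.map iV.hom) = closure (Set.range (Points.map fV.hom)) := by
    rw [AlgSpLib.range_map_snd_of_isPullback sqZ, AlgSpLib.range_map_snd_of_isPullback sqX, hrange,
      ho.preimage_closure_eq_closure_preimage (Points.continuous_map b.hom)]
  have hicV : RepWith @IsClosedImmersion iV.hom := AlgSpLib.repWith_of_isPullback sqZ hic
  refine ⟨hicV, AlgSpDec.exists_factor_reduced hXV fV.hom hicV (hr ▸ subset_closure), fun Z' i' _ hi' hf' => ?_⟩
  obtain ⟨f'', hf''⟩ := hf'
  refine AlgSpDec.exists_factor_reduced hZV iV.hom hi' (hr.le.trans (closure_minimal ?_ ?_))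
  · rintro _ ⟨x, rfl⟩
    exact ⟨Points.map f'' x, by rw [← Points.map_comp, hf'']⟩
  · exact (AlgSpPts.isClosedMap_map (AlgSpLib.repWith_mono
      (fun _ _ g (_ : IsClosedImmersion g) => inferInstanceAs (UniversallyClosed g)) _ hi')).isClosed_range

end Groth.Agent.S12193
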