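import Groth.Statements.S1223
import Groth.Agent.RGCore.GeomIntegral
import Mathlib.RingTheory.Ideal.GoingDown
import Mathlib.RingTheory.Flat.Stability

set_option autoImplicit false
universe u
open FlatMor

namespace Groth.Agent.S1223

open TensorProduct

/-- Ring form, X = Spec B affine: a finite type, flat A-algebra B with geometrically integral fibres is
universally pure relative to Spec A. -/
theorem result {A B : Type u} [CommRing A] [CommRing B] [Algebra A B] [Algebra.FiniteType A B] [Module.Flat A B]
    (h : FlatCA.GeomIntegralFibres A B) : FlatCA.IsUnivPure A B B := by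
  intro p _ A' B' N' _ _ _ _ _ _ _ _ _ _ _ _ _ _ f t' t _ _ P _ himp
  obtain ⟨hpush, hf, hle, -, hP, hass, hno⟩ := himp
  haveI := hpush
  haveI : Algebra.IsPushout A A' B B' := hpush.symm
  haveI : Module.Flat A' B' := Module.Flat.of_linearEquiv (Algebra.IsPushout.equiv A A' B B').toLinearEquiv.symm
  have hdom : ∀ (s : Ideal A') [s.IsPrime], IsDomain (s.Fiber B') := by
    intro s _
    letI := Algebra.TensorProduct.rightAlgebra (R := A') (A := s.ResidueField) (B := B')
    haveI : Algebra.IsPushout A' s.ResidueField B' (s.Fiber B') := TensorProduct.isPushout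
    letI : Algebra B (s.Fiber B') :=
      ((Algebra.TensorProduct.includeRight (R := A') (A := s.ResidueField) (B := B')).toRingHom.comp
        (algebraMap B B')).toAlgebra
    haveI : IsScalarTower B B' (s.Fiber B') := .of_algebraMap_eq fun _ => rfl
    haveI : IsScalarTower A B (s.Fiber B') := .of_algebraMap_eq fun a => by
      show algebraMap A (s.Fiber B') a = (1 : s.ResidueField) ⊗ₜ[A'] algebraMap B B' (algebraMap A B a)
      rw [← IsScalarTower.algebraMap_apply A B B', IsScalarTower.algebraMap_apply A A' B',
        IsScalarTower.algebraMap_apply A A' (s.Fiber B')]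
      exact IsScalarTower.algebraMap_apply A' B' (s.Fiber B') (algebraMap A A' a)
    haveI : IsScalarTower A B' (s.Fiber B') := .of_algebraMap_eq fun a => by
      rw [IsScalarTower.algebraMap_apply A A' (s.Fiber B'), IsScalarTower.algebraMap_apply A' B' (s.Fiber B'),
        ← IsScalarTower.algebraMap_apply A A' B']
    haveI : Algebra.IsPushout A s.ResidueField B (s.Fiber B') :=
      (Algebra.IsPushout.comp_iff A A' B (S' := B') (T := s.ResidueField) (T' := s.Fiber B')).2 inferInstance
    haveI := Groth.Agent.RGCore.isDomain_tensor_of_geomIntegral h s.ResidueField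
    exact (Algebra.IsPushout.equiv A s.ResidueField B (s.Fiber B')).symm.toMulEquiv.isDomain _
  -- a point of the fibre over `t`
  haveI := hdom t
  let g : B' →+* t.Fiber B' := (Algebra.TensorProduct.includeRight (R := A') (A := t.ResidueField) (B := B')).toRingHom
  let Q : Ideal B' := RingHom.ker g
  haveI : Q.IsPrime := RingHom.ker_isPrime g
  haveI : Q.LiesOver t := ⟨by
    ext a
    rw [Ideal.under, Ideal.mem_comap, RingHom.mem_ker]
    show a ∈ t ↔ (1 : t.ResidueField) ⊗ₜ[A'] algebraMap A' B' a = 0
    rw [Algebra.algebraMap_eq_smul_one, ← smul_tmul, Algebra.smul_def, mul_one]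
    constructor
    · intro ha
      rw [Ideal.algebraMap_residueField_eq_zero.2 ha, zero_tmul]
    · intro ha
      refine Ideal.algebraMap_residueField_eq_zero.1 (RingHom.injective
        (algebraMap t.ResidueField (t.Fiber B')) ?_)
      rw [map_zero]
      exact ha⟩
  obtain ⟨P₁, hP₁, _, _⟩ := Ideal.exists_ideal_le_liesOver_of_le Q hle
  refine hno Q (fun x hx => hP₁ ?_) inferInstance
  -- `P` is the generic point of the fibre
  haveI := hdom t'
  let Fib := t'.Fiber B'
  letI := Algebra.TensorProduct.rightAlgebra (R := A') (A := t'.ResidueField) (B := B')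
  let eN : B' ≃ₗ[B'] N' := (AlgebraTensorModule.rid B B' B').symm ≪≫ₗ hf.equiv
  let e : FlatCA.fiberMod t' B' N' ≃ₗ[Fib] Fib :=
    AlgebraTensorModule.congr (LinearEquiv.refl Fib Fib) eN.symm ≪≫ₗ AlgebraTensorModule.rid B' Fib Fib
  rw [LinearEquiv.AssociatedPrimes.eq e] at hass
  have hbot : FlatCA.fiberIdeal t' P = ⊥ := by
    obtain ⟨hI, z, hz⟩ := hass
    have hz0 : z ≠ 0 := by
      rintro rfl
      refine hI.ne_top ?_
      rw [hz, Ideal.radical_eq_top, Ideal.eq_top_iff_one, Submodule.mem_colon_singleton, smul_zero]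
      exact Submodule.zero_mem _
    rw [hz, eq_bot_iff]
    intro y hy
    obtain ⟨k, hk⟩ := hy
    rw [Submodule.mem_colon_singleton, Submodule.mem_bot, smul_eq_mul, mul_eq_zero] at hk
    exact (Submodule.mem_bot _).2 (eq_zero_of_pow_eq_zero (hk.resolve_right hz0))
  have h0 : (Algebra.TensorProduct.includeRight (R := A') (A := t'.ResidueField) (B := B')) x ∈
      FlatCA.fiberIdeal t' P := Ideal.mem_map_of_mem _ hx
  rw [hbot, Submodule.mem_bot] at h0
  let g₁ : Fib →ₐ[A'] P₁.ResidueField := Algebra.TensorProduct.productMap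
    (Ideal.ResidueField.mapₐ t' P₁ (Algebra.ofId A' B') (P₁.over_def t')) (IsScalarTower.toAlgHom A' B' P₁.ResidueField)
  have h1 := congr(g₁ $h0)
  have h2 : g₁ ((Algebra.TensorProduct.includeRight (R := A') (A := t'.ResidueField) (B := B')) x) =
      algebraMap B' P₁.ResidueField x :=
    (Algebra.TensorProduct.productMap_apply_tmul _ _ _ x).trans (by rw [map_one, one_mul]; rfl)
  exact Ideal.algebraMap_residueField_eq_zero.1 (h2.symm.trans (h1.trans (map_zero g₁)))

end Groth.Agent.S1223
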