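import Groth.Statements.S12231
import Groth.Agent.FlatFun4.OneStepBC

set_option linter.style.haveILetI false
set_option backward.isDefEq.respectTransparency false
set_option backward.isDefEq.respectTransparency.types false
set_option autoImplicit false
universe u
open TensorProduct
open FlatMor

namespace Groth.Agent.S12231

attribute [local instance] Algebra.TensorProduct.rightAlgebra

/-- All schemes are affine here, as in the ambient rendering of a one-step dévissage. Let R → S be a
ring map of finite type, N a finite S-module, p a prime of R and (C, D, G, n) a one-step dévissage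
of N/S/R over p — C a finitely presented quotient of S with a finite C-module G identified with N
over S, D an R-algebra smooth of relative dimension n with geometrically irreducible fibres and a
finite map D → C over R, n the dimension of the support of the fibre module of N over p. Let R → R'
be a ring map, p' a prime of R' over p, and let S', C', D' be the base changes of S, C, D to R'
(pushout squares, with the R'-algebra maps S' → C' ← D' induced from S → C ← D) and N' = N ⊗_S S',
G' = G ⊗_C C' (base-change maps f, g). Then (C', D', G', n) is a one-step dévissage of N'/S'/R' over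
p'. -/
theorem result
    (R S : Type u) [CommRing R] [CommRing S] [Algebra R S] [Algebra.FiniteType R S]
    (N : Type u) [AddCommGroup N] [Module S N] [Module R N] [IsScalarTower R S N] [Module.Finite S N]
    (p : Ideal R) [p.IsPrime]
    (C D G : Type u) [CommRing C] [CommRing D] [Algebra S C] [Algebra R C] [IsScalarTower R S C]
    [Algebra R D] [Algebra D C] [IsScalarTower R D C] [AddCommGroup G] [Module C G] [Module S G]
    [IsScalarTower S C G] (n : ℕ)
    (h : FlatCA.IsOneStepDevissage R S N p C D G n)
    (R' : Type u) [CommRing R'] [Algebra R R'] (p' : Ideal R') [p'.IsPrime] [p'.LiesOver p]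
    (S' C' D' : Type u) [CommRing S'] [CommRing C'] [CommRing D']
    [Algebra R' S'] [Algebra R S'] [Algebra S S'] [IsScalarTower R R' S'] [IsScalarTower R S S']
    [Algebra.IsPushout R R' S S']
    [Algebra R' C'] [Algebra R C'] [Algebra C C'] [IsScalarTower R R' C'] [IsScalarTower R C C']
    [Algebra.IsPushout R R' C C']
    [Algebra R' D'] [Algebra R D'] [Algebra D D'] [IsScalarTower R R' D'] [IsScalarTower R D D']
    [Algebra.IsPushout R R' D D']
    [Algebra S' C'] [IsScalarTower R' S' C'] [Algebra S C'] [IsScalarTower S S' C'] [IsScalarTower S C C']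
    [Algebra D' C'] [IsScalarTower R' D' C'] [Algebra D C'] [IsScalarTower D D' C'] [IsScalarTower D C C']
    (N' : Type u) [AddCommGroup N'] [Module S' N'] [Module R' N'] [IsScalarTower R' S' N']
    [Module S N'] [IsScalarTower S S' N'] (f : N →ₗ[S] N') (hf : IsBaseChange S' f)
    (G' : Type u) [AddCommGroup G'] [Module C' G'] [Module S' G'] [IsScalarTower S' C' G']
    [Module C G'] [IsScalarTower C C' G'] (g : G →ₗ[C] G') (hg : IsBaseChange C' g) :
    FlatCA.IsOneStepDevissage R' S' N' p' C' D' G' n := by
  obtain ⟨⟨e⟩, hsurj, hfp, hfin, hfinG, hsm, hgi, hdim⟩ := h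
  letI : Module S G' := Module.compHom G' (algebraMap S C)
  haveI : IsScalarTower S C G' := .of_algebraMap_smul fun _ _ => rfl
  haveI : IsScalarTower S S' G' := .of_algebraMap_smul fun r x => by
    rw [← algebraMap_smul C' (algebraMap S S' r) x, ← IsScalarTower.algebraMap_apply S S' C',
      IsScalarTower.algebraMap_apply S C C', algebraMap_smul]
    rfl
  have hg' := FlatFun4.OneStepBC.isBaseChange_restrict (R := R) (R' := R') (S := S) (S' := S')
    (C := C) (C' := C') g hg
  refine ⟨⟨hf.equiv.symm ≪≫ₗ AlgebraTensorModule.congr (LinearEquiv.refl S' S') e ≪≫ₗ hg'.equiv⟩,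
    FlatFun4.OneStepBC.surjective_algebraMap (R := R) (R' := R') (S := S) (C := C) hsurj,
    FlatFun4.OneStepBC.finitePresentation (R := R) (R' := R') (S := S) (C := C), ?_, ?_,
    FlatFun4.OneStepBC.smoothRelDim (R := R) (R' := R') hsm,
    FlatFun4.OneStepBC.geomIrredFibres (R := R) (R' := R') hgi, ?_⟩
  · haveI : IsScalarTower R R' C' := inferInstance
    exact FlatFun4.OneStepBC.finite (R := R) (R' := R') (S := D) (S' := D') (C := C) (C' := C')
  · haveI := hfinG
    exact Module.Finite.equiv hg.equiv
  · haveI : Nontrivial (FlatCA.fiberMod p S N) := (Module.supportDim_ne_bot_iff_nontrivial (p.Fiber S) (FlatCA.fiberMod p S N)).mp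
      (by rw [hdim]; exact WithBot.coe_ne_bot)
    haveI : Nontrivial (p.Fiber S ⊗[S] N) := ‹Nontrivial (FlatCA.fiberMod p S N)›
    exact (FlatFun4.OneStepBC.supportDim_fibre_aux (R := R) (R' := R') (S := S) (S' := S')
      (k := p.ResidueField) (K := p'.ResidueField) (A := p.Fiber S) (B := p'.Fiber S')
      (Ideal.ResidueField.mapₐ p p' (Algebra.ofId R R') (‹p'.LiesOver p›).over).toRingHom
      (fun r => AlgHom.commutes _ r) N f hf).trans hdim

end Groth.Agent.S12231
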