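import Groth.Statements.S12243
import Groth.Agent.FlatFun4.CompleteDevBC

set_option linter.style.haveILetI false
set_option backward.isDefEq.respectTransparency false
set_option backward.isDefEq.respectTransparency.types false
set_option autoImplicit false
universe u
open FlatMor

namespace Groth.Agent.S12243

attribute [local instance] Algebra.TensorProduct.rightAlgebra
open FlatFun4.CompleteDevBC

open TensorProduct in
/-- All schemes are affine; the base-changed complete dévissage is asserted to exist with its pieces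
pinned as base changes. Let R → S be of finite type, N a finite S-module, p a prime of R and 𝒟 a
complete dévissage of N/S/R over p in the prelude's algebraic form (rings A_i, smooth R-algebras B_i
with pB_i prime and geometrically irreducible fibres, finite A_i-modules M_i with N ≅ M_0, maps α_i
from finite free B_i-modules, bijective on the fibre at pB_i, whose cokernels are the next modules,
the last one surjective; steps indexed by i below the length). Let R → R' be a ring map, p' a prime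
of R' over p, S' the base change of S and N' = N ⊗_S S'. Then N'/S'/R' has a complete dévissage 𝒟'
over p' of the same length and the same ranks whose pieces are base changes of those of 𝒟: for the
steps i below the length there are algebra structures making A'_i and B'_i the base changes of A_i
and B_i along R → R', compatibly with B_i → A_i, with B_i → A_{i+1}, with S → A_0 and with S' →
A'_0, and A_i-linear base-change maps M_i → M'_i (M'_i ≅ M_i ⊗_{A_i} A'_i) carrying N ≅ M_0 to N' ≅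
M'_0 and the image of α_i onto a generating set of the image of α'_i. (The published statement
base-changes all the data functorially; here the identifications of cokernels inside 𝒟' are not
required to be the base-changed ones.) -/
theorem result
    (R S : Type u) [CommRing R] [CommRing S] [Algebra R S] [Algebra.FiniteType R S]
    (N : Type u) [AddCommGroup N] [Module S N] [Module.Finite S N]
    (p : Ideal R) [p.IsPrime] (𝒟 : FlatCA.CompleteDevissage R S N p)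
    (R' : Type u) [CommRing R'] [Algebra R R'] (p' : Ideal R') [p'.IsPrime] [p'.LiesOver p]
    (S' : Type u) [CommRing S'] [Algebra R' S'] [Algebra R S'] [Algebra S S'] [IsScalarTower R R' S']
    [IsScalarTower R S S'] [Algebra.IsPushout R R' S S']
    (N' : Type u) [AddCommGroup N'] [Module S' N'] [Module S N'] [IsScalarTower S S' N']
    (f : N →ₗ[S] N') (hf : IsBaseChange S' f) :
    ∃ (𝒟' : FlatCA.CompleteDevissage R' S' N' p')
      (aA : ∀ i : Fin 𝒟.n, Algebra (𝒟.A i) (𝒟'.A i)) (rA : ∀ i : Fin 𝒟.n, Algebra R (𝒟'.A i))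
      (_t1 : ∀ i : Fin 𝒟.n, IsScalarTower R (R') (𝒟'.A i)) (_t2 : ∀ i : Fin 𝒟.n, IsScalarTower R (𝒟.A i) (𝒟'.A i))
      (aB : ∀ i : Fin 𝒟.n, Algebra (𝒟.B i) (𝒟'.B i)) (rB : ∀ i : Fin 𝒟.n, Algebra R (𝒟'.B i))
      (_t3 : ∀ i : Fin 𝒟.n, IsScalarTower R (R') (𝒟'.B i)) (_t4 : ∀ i : Fin 𝒟.n, IsScalarTower R (𝒟.B i) (𝒟'.B i))
      (bA : ∀ i : Fin 𝒟.n, Algebra (𝒟.B i) (𝒟'.A i)) (_t5 : ∀ i : Fin 𝒟.n, IsScalarTower (𝒟.B i) (𝒟.A i) (𝒟'.A i))
      (_t6 : ∀ i : Fin 𝒟.n, IsScalarTower (𝒟.B i) (𝒟'.B i) (𝒟'.A i))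
      (bA' : ∀ i : Fin 𝒟.n, Algebra (𝒟.B i) (𝒟'.A (i + 1)))
      (_t7 : ∀ i : Fin 𝒟.n, IsScalarTower (𝒟.B i) (𝒟'.B i) (𝒟'.A (i + 1)))
      (sA : Algebra S (𝒟'.A 0)) (_t8 : IsScalarTower S (S') (𝒟'.A 0))
      (mA : ∀ i : Fin 𝒟.n, Module (𝒟.A i) (𝒟'.M i)) (_t9 : ∀ i : Fin 𝒟.n, IsScalarTower (𝒟.A i) (𝒟'.A i) (𝒟'.M i))
      (gM : ∀ i : Fin 𝒟.n, 𝒟.M i →ₗ[𝒟.A i] 𝒟'.M i),
      𝒟'.n = 𝒟.n ∧ 𝒟'.r = 𝒟.r ∧
      (letI := aA ⟨0, 𝒟.pos⟩; IsScalarTower S (𝒟.A 0) (𝒟'.A 0)) ∧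
      (∀ x : N, 𝒟'.isoN (f x) = gM ⟨0, 𝒟.pos⟩ (𝒟.isoN x)) ∧
      (∀ (i : Fin 𝒟.n) (h : (i : ℕ) + 1 < 𝒟.n),
        letI := aA ⟨i + 1, h⟩; IsScalarTower (𝒟.B i) (𝒟.A (i + 1)) (𝒟'.A (i + 1))) ∧
      ∀ i : Fin 𝒟.n,
        Algebra.IsPushout R R' (𝒟.A i) (𝒟'.A i) ∧ Algebra.IsPushout R R' (𝒟.B i) (𝒟'.B i) ∧
        IsBaseChange (𝒟'.A i) (gM i) ∧
        LinearMap.range (𝒟'.α i) =
          Submodule.span (𝒟'.B i) ((gM i) '' (LinearMap.range (𝒟.α i) : Set (𝒟.M i))) := by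
  let φ : S' →+* A' 𝒟 R' 0 := (Algebra.pushoutDesc S' (IsScalarTower.toAlgHom R R' (A' 𝒟 R' 0))
    ((IsScalarTower.toAlgHom R (𝒟.A 0) (A' 𝒟 R' 0)).comp (IsScalarTower.toAlgHom R S (𝒟.A 0)))
    (fun _ _ => mul_comm _ _)).toRingHom
  letI : Algebra S' (A' 𝒟 R' 0) := φ.toAlgebra
  haveI hR' : IsScalarTower R' S' (A' 𝒟 R' 0) := .of_algebraMap_eq fun r =>
    (Algebra.pushoutDesc_left (S' := S') (IsScalarTower.toAlgHom R R' (A' 𝒟 R' 0))
      ((IsScalarTower.toAlgHom R (𝒟.A 0) (A' 𝒟 R' 0)).comp (IsScalarTower.toAlgHom R S (𝒟.A 0))) (fun _ _ => mul_comm _ _) r).symm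
  letI : Algebra S (A' 𝒟 R' 0) := ((algebraMap S' (A' 𝒟 R' 0)).comp (algebraMap S S')).toAlgebra
  haveI hS : IsScalarTower S S' (A' 𝒟 R' 0) := .of_algebraMap_eq fun _ => rfl
  haveI hA : IsScalarTower S (𝒟.A 0) (A' 𝒟 R' 0) := .of_algebraMap_eq fun x =>
    Algebra.pushoutDesc_right (S' := S') (IsScalarTower.toAlgHom R R' (A' 𝒟 R' 0))
      ((IsScalarTower.toAlgHom R (𝒟.A 0) (A' 𝒟 R' 0)).comp (IsScalarTower.toAlgHom R S (𝒟.A 0))) (fun _ _ => mul_comm _ _) x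
  haveI := isPushout_A 𝒟 (R' := R') 𝒟.pos
  letI : Module S' (M' 𝒟 R' 0) := Module.compHom _ φ
  haveI : IsScalarTower S' (A' 𝒟 R' 0) (M' 𝒟 R' 0) := .of_algebraMap_smul fun _ _ => rfl
  letI : Module S (M' 𝒟 R' 0) := Module.compHom _ (algebraMap S S')
  haveI : IsScalarTower S S' (M' 𝒟 R' 0) := .of_algebraMap_smul fun _ _ => rfl
  haveI : IsScalarTower S (𝒟.A 0) (M' 𝒟 R' 0) := .of_algebraMap_smul fun x m => by
    rw [← algebraMap_smul (A' 𝒟 R' 0) (algebraMap S (𝒟.A 0) x) m, ← IsScalarTower.algebraMap_apply S (𝒟.A 0)]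
    rfl
  have hg := FlatFun4.OneStepBC.isBaseChange_restrict (R := R) (R' := R') (S := S) (S' := S')
    (gM 𝒟 0) (isBaseChange_gM 𝒟 0 (R' := R'))
  let e0 : N' ≃ₗ[S'] M' 𝒟 R' 0 :=
    hf.equiv.symm ≪≫ₗ AlgebraTensorModule.congr (LinearEquiv.refl S' S') 𝒟.isoN ≪≫ₗ hg.equiv
  have he0 : ∀ x, e0 (f x) = gM 𝒟 0 (𝒟.isoN x) := fun x => by
    simp [e0, IsBaseChange.equiv_symm_apply, IsBaseChange.equiv_tmul]
  haveI := 𝒟.fpSA
  let 𝒟' : FlatCA.CompleteDevissage R' S' N' p' :=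
    { n := 𝒟.n
      pos := 𝒟.pos
      A := A' 𝒟 R'
      B := B' 𝒟 p'
      M := M' 𝒟 R'
      r := 𝒟.r
      hp := isPrime_map_B' 𝒟 p'
      α := α' 𝒟 p'
      surjSA := FlatFun4.OneStepBC.surjective_algebraMap (R := R) (R' := R') (S := S) (C := 𝒟.A 0) 𝒟.surjSA
      fpSA := FlatFun4.OneStepBC.finitePresentation (R := R) (R' := R') (S := S) (C := 𝒟.A 0)
      surjBA' := fun i h' => (surj_fp_succ 𝒟 p' (by omega) h').1
      fpBA' := fun i h' => (surj_fp_succ 𝒟 p' (by omega) h').2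
      finiteBA := fun i h => finite_B'A' 𝒟 p' h
      smooth := fun i h => smooth_B' 𝒟 p' h
      geomIrred := fun i h => geomIrred_B' 𝒟 p' h
      finiteM := fun i h => haveI := 𝒟.finiteM i h; Module.Finite.equiv (isBaseChange_gM 𝒟 i (R' := R')).equiv
      isoN := e0
      isoCoker := fun i h' => (isoCoker' 𝒟 p' (by omega) h').some
      fibreIso := fun i h => bijective_fibre 𝒟 p' h
      cokerLast := surjective_α'_last 𝒟 p' }
  refine ⟨𝒟', fun i => instAlgAA' 𝒟 i, fun i => instAlgRA' 𝒟 i, fun i => instTowA' 𝒟 i,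
    fun i => instTowA'2 𝒟 i, fun i => algBB' 𝒟 p' i.2, fun i => instAlgRB' 𝒟 p' i, fun i => instTowB' 𝒟 p' i,
    fun i => tower_RBB' 𝒟 p' i.2,
    fun i => ((algebraMap (B' 𝒟 p' i) (A' 𝒟 R' i)).comp (algBB' 𝒟 p' i.2).algebraMap).toAlgebra,
    fun i => ?_, fun i => ?_,
    fun i => ((algebraMap (B' 𝒟 p' i) (A' 𝒟 R' (i + 1))).comp (algBB' 𝒟 p' i.2).algebraMap).toAlgebra,
    fun i => ?_, ‹Algebra S (A' 𝒟 R' 0)›, hS, fun i => instAM' 𝒟 i, fun i => instTowAM' 𝒟 i,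
    fun i => gM 𝒟 i, rfl, rfl, hA, he0, fun i h => ?_, fun i =>
      ⟨isPushout_A 𝒟 i.2, isPushout_B 𝒟 p' i.2, isBaseChange_gM 𝒟 i, range_α' 𝒟 p' i.2⟩⟩
  · letI : Algebra (𝒟.B i) (A' 𝒟 R' i) :=
      ((algebraMap (B' 𝒟 p' i) (A' 𝒟 R' i)).comp (algBB' 𝒟 p' i.2).algebraMap).toAlgebra
    exact .of_algebraMap_eq fun b => toA_algebraMap 𝒟 p' i.2 b
  · letI := algBB' 𝒟 p' i.2
    letI : Algebra (𝒟.B i) (A' 𝒟 R' i) :=
      ((algebraMap (B' 𝒟 p' i) (A' 𝒟 R' i)).comp (algBB' 𝒟 p' i.2).algebraMap).toAlgebra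
    exact .of_algebraMap_eq fun b => rfl
  · letI := algBB' 𝒟 p' i.2
    letI : Algebra (𝒟.B i) (A' 𝒟 R' (i + 1)) :=
      ((algebraMap (B' 𝒟 p' i) (A' 𝒟 R' (i + 1))).comp (algBB' 𝒟 p' i.2).algebraMap).toAlgebra
    exact .of_algebraMap_eq fun b => rfl
  · letI : Algebra (𝒟.B i) (A' 𝒟 R' (i + 1)) :=
      ((algebraMap (B' 𝒟 p' i) (A' 𝒟 R' (i + 1))).comp (algBB' 𝒟 p' i.2).algebraMap).toAlgebra
    exact .of_algebraMap_eq fun b => toA'_algebraMap 𝒟 p' i.2 b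

end Groth.Agent.S12243
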