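import Groth.Statements.S12244
import Groth.Agent.FlatFun4.TrivResFibre
import Groth.Agent.FlatMor3.FibreBC

set_option linter.style.haveILetI false
set_option backward.isDefEq.respectTransparency false
set_option backward.isDefEq.respectTransparency.types false
set_option autoImplicit false
universe u
open FlatMor

namespace Groth.Agent.S12244

attribute [local instance] Algebra.TensorProduct.rightAlgebra

attribute [instance] FlatCA.CompleteDevissageAt.hqB FlatCA.CompleteDevissageAt.hqA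
  FlatCA.CompleteDevissageAt.overB FlatCA.CompleteDevissageAt.overA

theorem liesOver_of_square {A B C E : Type u} [CommRing A] [CommRing B] [CommRing C] [CommRing E]
    [Algebra A B] [Algebra A C] [Algebra B E] [Algebra C E] [Algebra A E] [IsScalarTower A B E]
    [IsScalarTower A C E] (b : Ideal B) (a : Ideal A) (e : Ideal E) [e.LiesOver b] [b.LiesOver a] :
    (e.under C).LiesOver a :=
  ⟨by
    rw [Ideal.under, Ideal.under, Ideal.comap_comap, ← IsScalarTower.algebraMap_eq,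
      IsScalarTower.algebraMap_eq A B E, ← Ideal.comap_comap]
    exact (Ideal.LiesOver.over (p := a) (P := b)).trans
      (congrArg (Ideal.comap (algebraMap A B)) (Ideal.LiesOver.over (p := b) (P := e)))⟩


open TensorProduct in
/-- All schemes are affine. Let R → S be of finite type, N a finite S-module, p ⊆ R and q ⊆ S primes, 𝒟
a complete dévissage of N/S/R over p in the prelude's algebraic form and 𝒜 a datum making it a
complete dévissage at q (primes qB_i ⊆ B_i over p with purely transcendental residue fields, unique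
primes qA_i ⊆ A_i over them, threaded through q and through the maps B_i → A_{i+1}, relative
dimensions d_i of R → B_i equal to the local dimension of the fibre support of M_i at qB_i). Let R →
R' be a ring map and p' a prime over p with κ(p) → κ(p') bijective, S' the base change of S, N' = N
⊗_S S', and q' a prime of S' over q and over p'. Let 𝒟' be a complete dévissage of N'/S'/R' over p'
of the same length whose rings A'_i, B'_i (i below the length) are base changes of A_i, B_i along R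
→ R' compatibly with B_i → A_i, B_i → A_{i+1}, S → A_0 and S' → A'_0, and whose modules M'_i are
base changes of M_i along A_i → A'_i compatibly with N ≅ M_0 and N' ≅ M'_0. Assume moreover that at
every index at or beyond the length the ring B'_i has a prime over p' and A'_i a prime over that one
(the structure's families run over all natural numbers and constrain nothing at those indices, while
a datum at a point asks for such primes at every index; the condition touches only this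
unconstrained tail and holds, for instance, when the tail repeats the last genuine step — without it
the zero ring could sit there and no datum would exist). Then 𝒟' is a complete dévissage at q' with
the same relative dimensions: there is a datum 𝒜' for (𝒟', q') with d' = d whose primes qB'_i, qA'_i
lie over qB_i, qA_i for every step i below the length. -/
theorem result
    (R S : Type u) [CommRing R] [CommRing S] [Algebra R S] [Algebra.FiniteType R S]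
    (N : Type u) [AddCommGroup N] [Module S N] [Module.Finite S N]
    (p : Ideal R) [p.IsPrime] (q : Ideal S) [q.IsPrime] (𝒟 : FlatCA.CompleteDevissage R S N p)
    (𝒜 : FlatCA.CompleteDevissageAt R S N p q 𝒟)
    (R' : Type u) [CommRing R'] [Algebra R R'] (p' : Ideal R') [p'.IsPrime] [hp' : p'.LiesOver p]
    (hκ : Function.Bijective (Ideal.ResidueField.mapₐ p p' (Algebra.ofId R R') hp'.over))
    (S' : Type u) [CommRing S'] [Algebra R' S'] [Algebra R S'] [Algebra S S'] [IsScalarTower R R' S']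
    [IsScalarTower R S S'] [Algebra.IsPushout R R' S S']
    (N' : Type u) [AddCommGroup N'] [Module S' N'] [Module S N'] [IsScalarTower S S' N']
    (f : N →ₗ[S] N') (hf : IsBaseChange S' f)
    (q' : Ideal S') [q'.IsPrime] [q'.LiesOver q] [q'.LiesOver p']
    (𝒟' : FlatCA.CompleteDevissage R' S' N' p') (hn : 𝒟'.n = 𝒟.n)
    (htail : ∀ i, 𝒟.n ≤ i → ∃ (Q : Ideal (𝒟'.B i)) (P : Ideal (𝒟'.A i)),
      Q.IsPrime ∧ P.IsPrime ∧ Q.LiesOver p' ∧ P.LiesOver Q)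
    [aA : ∀ i : Fin 𝒟.n, Algebra (𝒟.A i) (𝒟'.A i)] [rA : ∀ i : Fin 𝒟.n, Algebra R (𝒟'.A i)]
      [∀ i : Fin 𝒟.n, IsScalarTower R (R') (𝒟'.A i)] [∀ i : Fin 𝒟.n, IsScalarTower R (𝒟.A i) (𝒟'.A i)]
      [aB : ∀ i : Fin 𝒟.n, Algebra (𝒟.B i) (𝒟'.B i)] [rB : ∀ i : Fin 𝒟.n, Algebra R (𝒟'.B i)]
      [∀ i : Fin 𝒟.n, IsScalarTower R (R') (𝒟'.B i)] [∀ i : Fin 𝒟.n, IsScalarTower R (𝒟.B i) (𝒟'.B i)]
      [bA : ∀ i : Fin 𝒟.n, Algebra (𝒟.B i) (𝒟'.A i)] [∀ i : Fin 𝒟.n, IsScalarTower (𝒟.B i) (𝒟.A i) (𝒟'.A i)]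
      [∀ i : Fin 𝒟.n, IsScalarTower (𝒟.B i) (𝒟'.B i) (𝒟'.A i)]
      [bA' : ∀ i : Fin 𝒟.n, Algebra (𝒟.B i) (𝒟'.A (i + 1))]
      [∀ i : Fin 𝒟.n, IsScalarTower (𝒟.B i) (𝒟'.B i) (𝒟'.A (i + 1))]
      [sA : Algebra S (𝒟'.A 0)] [IsScalarTower S (S') (𝒟'.A 0)]
      [mA : ∀ i : Fin 𝒟.n, Module (𝒟.A i) (𝒟'.M i)] [∀ i : Fin 𝒟.n, IsScalarTower (𝒟.A i) (𝒟'.A i) (𝒟'.M i)]
      (gM : ∀ i : Fin 𝒟.n, 𝒟.M i →ₗ[𝒟.A i] 𝒟'.M i)
    (hbc : (letI := aA ⟨0, 𝒟.pos⟩; IsScalarTower S (𝒟.A 0) (𝒟'.A 0)) ∧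
      (∀ x : N, 𝒟'.isoN (f x) = gM ⟨0, 𝒟.pos⟩ (𝒟.isoN x)) ∧
      (∀ (i : Fin 𝒟.n) (h : (i : ℕ) + 1 < 𝒟.n),
        letI := aA ⟨i + 1, h⟩; IsScalarTower (𝒟.B i) (𝒟.A (i + 1)) (𝒟'.A (i + 1))) ∧
      ∀ i : Fin 𝒟.n,
        Algebra.IsPushout R R' (𝒟.A i) (𝒟'.A i) ∧ Algebra.IsPushout R R' (𝒟.B i) (𝒟'.B i) ∧
        IsBaseChange (𝒟'.A i) (gM i)) :
    ∃ 𝒜' : FlatCA.CompleteDevissageAt R' S' N' p' q' 𝒟', 𝒜'.d = 𝒜.d ∧
      ∀ i : Fin 𝒟.n, (𝒜'.qB i).LiesOver (𝒜.qB i) ∧ (𝒜'.qA i).LiesOver (𝒜.qA i) := by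
  obtain ⟨hA0, hiso, hstep, hpo⟩ := hbc
  haveI hPA : ∀ i : Fin 𝒟.n, Algebra.IsPushout R R' (𝒟.A i) (𝒟'.A i) := fun i => (hpo i).1
  haveI hPB : ∀ i : Fin 𝒟.n, Algebra.IsPushout R R' (𝒟.B i) (𝒟'.B i) := fun i => (hpo i).2.1
  have hex : ∀ i, ∃ (Q : Ideal (𝒟'.B i)) (P : Ideal (𝒟'.A i)), Q.IsPrime ∧ P.IsPrime ∧ Q.LiesOver p' ∧
      P.LiesOver Q ∧ ∀ h : i < 𝒟.n, (letI := aB ⟨i, h⟩; Q.LiesOver (𝒜.qB i)) ∧
        (letI := aA ⟨i, h⟩; P.LiesOver (𝒜.qA i)) := by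
    intro i
    by_cases h : i < 𝒟.n
    · obtain ⟨j, rfl⟩ : ∃ j : Fin 𝒟.n, (j : ℕ) = i := ⟨⟨i, h⟩, rfl⟩
      obtain ⟨Q, hQ, hQq, hQp⟩ :=
        FlatFun4.TrivResFibre.exists_liesOver (S' := 𝒟'.B j) p p' hκ (𝒜.qB j)
      haveI : (𝒜.qA j).LiesOver p := Ideal.LiesOver.trans (𝒜.qA j) (𝒜.qB j) p
      obtain ⟨P, hP, hPq, hPp⟩ :=
        FlatFun4.TrivResFibre.exists_liesOver (S' := 𝒟'.A j) p p' hκ (𝒜.qA j)
      haveI : (P.under (𝒟'.B j)).LiesOver (𝒜.qB j) := liesOver_of_square (B := 𝒟.A j) (𝒜.qA j) (𝒜.qB j) P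
      haveI : (P.under (𝒟'.B j)).LiesOver p' := ⟨by
        rw [Ideal.under, Ideal.under, Ideal.comap_comap, ← IsScalarTower.algebraMap_eq]
        exact Ideal.LiesOver.over⟩
      exact ⟨Q, P, hQ, hP, hQp,
        ⟨(FlatFun4.TrivResFibre.eq_of_liesOver p p' hκ (𝒜.qB j) (P.under (𝒟'.B j)) Q).symm⟩,
        fun _ => ⟨hQq, hPq⟩⟩
    · obtain ⟨Q, P, hQ, hP, hQp, hPQ⟩ := htail i (by omega)
      exact ⟨Q, P, hQ, hP, hQp, hPQ, fun h' => absurd h' h⟩
  choose qB qA hqB hqA overB overA hcore using hex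
  haveI := hqB
  haveI := hqA
  haveI := overB
  haveI := overA
  haveI hB : ∀ j : Fin 𝒟.n, (qB j).LiesOver (𝒜.qB j) := fun j => (hcore j j.2).1
  haveI hA : ∀ j : Fin 𝒟.n, (qA j).LiesOver (𝒜.qA j) := fun j => (hcore j j.2).2
  haveI hpA : ∀ i, (qA i).LiesOver p' := fun i => Ideal.LiesOver.trans (qA i) (qB i) p'
  refine ⟨{
    qB := qB
    qA := qA
    pureTrans := fun i h => ?_
    uniq := fun i h => ?_
    q0 := ?_
    qStep := fun i h => ?_
    d := 𝒜.d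
    relDim := fun i h => ?_
    locDim := fun i h => ?_ }, rfl, fun i => ⟨hB i, hA i⟩⟩
  · rw [hn] at h
    obtain ⟨j, rfl⟩ : ∃ j : Fin 𝒟.n, (j : ℕ) = i := ⟨⟨i, h⟩, rfl⟩
    exact FlatFun4.TrivResFibre.purelyTranscendental p p' hκ (𝒜.qB j) (qB j) (𝒜.pureTrans j h)
  · rw [hn] at h
    obtain ⟨j, rfl⟩ : ∃ j : Fin 𝒟.n, (j : ℕ) = i := ⟨⟨i, h⟩, rfl⟩
    intro Q _ hQ
    haveI : Q.LiesOver p' := Ideal.LiesOver.trans Q (qB j) p'
    haveI : (Q.under (𝒟.A j)).LiesOver (𝒜.qB j) := liesOver_of_square (B := 𝒟'.B j) (qB j) (𝒜.qB j) Q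
    haveI : Q.LiesOver (𝒜.qA j) := ⟨(𝒜.uniq j h (Q.under (𝒟.A j)) inferInstance).symm⟩
    haveI : (𝒜.qA j).LiesOver p := Ideal.LiesOver.trans (𝒜.qA j) (𝒜.qB j) p
    exact FlatFun4.TrivResFibre.eq_of_liesOver p p' hκ (𝒜.qA j) Q (qA j)
  · letI := aA ⟨0, 𝒟.pos⟩
    haveI := hA0
    haveI := hA ⟨0, 𝒟.pos⟩
    haveI : (𝒜.qA 0).LiesOver q := ⟨𝒜.q0.symm⟩
    haveI : ((qA 0).under S').LiesOver q := liesOver_of_square (B := 𝒟.A 0) (𝒜.qA 0) q (qA 0)
    haveI : IsScalarTower R' S' (𝒟'.A 0) := 𝒟'.tRSA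
    haveI : ((qA 0).under S').LiesOver p' := ⟨by
      rw [Ideal.under, Ideal.under, Ideal.comap_comap, ← IsScalarTower.algebraMap_eq]
      exact Ideal.LiesOver.over⟩
    haveI : q.LiesOver p := ⟨by
      haveI : (𝒜.qA 0).LiesOver p := Ideal.LiesOver.trans (𝒜.qA 0) (𝒜.qB 0) p
      rw [← 𝒜.q0, Ideal.under, Ideal.comap_comap, ← IsScalarTower.algebraMap_eq]
      exact Ideal.LiesOver.over⟩
    exact FlatFun4.TrivResFibre.eq_of_liesOver p p' hκ q ((qA 0).under S') q'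
  · rw [hn] at h
    obtain ⟨j, rfl⟩ : ∃ j : Fin 𝒟.n, (j : ℕ) = i := ⟨⟨i, by omega⟩, rfl⟩
    letI := aA ⟨j + 1, h⟩
    haveI := hstep j h
    haveI := hA ⟨j + 1, h⟩
    haveI : (𝒜.qA (j + 1)).LiesOver (𝒜.qB j) := ⟨(𝒜.qStep j h).symm⟩
    haveI : ((qA (j + 1)).under (𝒟'.B j)).LiesOver (𝒜.qB j) :=
      liesOver_of_square (B := 𝒟.A (j + 1)) (𝒜.qA (j + 1)) (𝒜.qB j) (qA (j + 1))
    haveI : ((qA (j + 1)).under (𝒟'.B j)).LiesOver p' := ⟨by
      rw [Ideal.under, Ideal.under, Ideal.comap_comap, ← IsScalarTower.algebraMap_eq]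
      exact Ideal.LiesOver.over⟩
    exact FlatFun4.TrivResFibre.eq_of_liesOver p p' hκ (𝒜.qB j) ((qA (j + 1)).under (𝒟'.B j)) (qB j)
  · rw [hn] at h
    obtain ⟨j, rfl⟩ : ∃ j : Fin 𝒟.n, (j : ℕ) = i := ⟨⟨i, h⟩, rfl⟩
    exact FlatFun4.OneStepBC.smoothRelDim (R := R) (R' := R') (𝒜.relDim j h)
  · rw [hn] at h
    obtain ⟨j, rfl⟩ : ∃ j : Fin 𝒟.n, (j : ℕ) = i := ⟨⟨i, h⟩, rfl⟩
    letI : Module (𝒟.B j) (𝒟'.M j) := Module.compHom _ (algebraMap (𝒟.B j) (𝒟'.B j))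
    haveI : IsScalarTower (𝒟.B j) (𝒟'.B j) (𝒟'.M j) := .of_algebraMap_smul fun _ _ => rfl
    haveI : IsScalarTower (𝒟.B j) (𝒟.A j) (𝒟'.M j) := .of_algebraMap_smul fun b x => by
      show _ = algebraMap (𝒟.B j) (𝒟'.B j) b • x
      rw [← algebraMap_smul (𝒟'.A j) (algebraMap (𝒟.B j) (𝒟.A j) b) x, ← IsScalarTower.algebraMap_apply,
        IsScalarTower.algebraMap_apply (𝒟.B j) (𝒟'.B j) (𝒟'.A j), algebraMap_smul]
    have hbc := FlatFun4.OneStepBC.isBaseChange_restrict (R := R) (R' := R') (S := 𝒟.B j) (S' := 𝒟'.B j) (gM j) (hpo j).2.2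
    haveI := 𝒟.finiteBA j h
    haveI := 𝒟.finiteM j h
    haveI : Module.Finite (𝒟.B j) (𝒟.M j) := Module.Finite.trans (𝒟.A j) (𝒟.M j)
    obtain ⟨ξ, hξ, hξq, hξd⟩ := 𝒜.locDim j h
    obtain ⟨ξ', hξ', hc, hd⟩ := FlatFun4.TrivResFibre.exists_fibre_point (R := R) (R' := R')
      (S := 𝒟.B j) (S' := 𝒟'.B j) (k := p.ResidueField) (K := p'.ResidueField)
      (A := p.Fiber (𝒟.B j)) (B := p'.Fiber (𝒟'.B j))
      (Ideal.ResidueField.mapₐ p p' (Algebra.ofId R R') hp'.over).toRingHom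
      (fun r => AlgHom.commutes _ r) hκ (𝒟.M j) ((gM j).restrictScalars (𝒟.B j)) hbc ξ hξ
    refine ⟨ξ', hξ', ?_, hd.trans hξd⟩
    haveI : (ξ'.asIdeal.comap (algebraMap (𝒟'.B j) (p'.Fiber (𝒟'.B j)))).LiesOver (𝒜.qB j) := ⟨by
      rw [Ideal.under, hc, hξq, FlatMor3.comap_fiberIdeal_of_liesOver]⟩
    haveI := FlatMor3.liesOver_of_fiber p' ξ'.asIdeal
    rw [← FlatFun4.TrivResFibre.eq_of_liesOver p p' hκ (𝒜.qB j)
      (ξ'.asIdeal.comap (algebraMap (𝒟'.B j) (p'.Fiber (𝒟'.B j)))) (qB j),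
      FlatMor3.comap_fiberIdeal_of_prime]

end Groth.Agent.S12244
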