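import Groth.Statements.S1225
import Groth.Agent.RGCore.PureAlong

set_option autoImplicit false
universe u
open FlatMor TensorProduct

namespace Groth.Agent.S1225

open IsLocalRing in
/-- Ring form, X = Spec B affine: let A be a local ring, B a finite type A-algebra and N a finite
B-module which is flat over A and pure along the closed fibre. Then a B-linear map φ from N to any
B-module is injective if and only if its localization at q is injective for every prime q of B over
𝔪_A whose extension to the closed fibre ring is an associated prime of the closed fibre module. -/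
theorem result {A B : Type u} [CommRing A] [IsLocalRing A] [CommRing B] [Algebra A B] [Algebra.FiniteType A B]
    (N : Type u) [AddCommGroup N] [Module B N] [Module A N] [IsScalarTower A B N] [Module.Finite B N] [Module.Flat A N]
    (hpure : FlatCA.IsPureAlong A B N (maximalIdeal A))
    (N' : Type u) [AddCommGroup N'] [Module B N'] (φ : N →ₗ[B] N') :
    Function.Injective φ ↔ ∀ (q : Ideal B) [q.IsPrime], q.LiesOver (maximalIdeal A) →
      FlatCA.fiberIdeal (maximalIdeal A) q ∈ associatedPrimes ((maximalIdeal A).Fiber B) (FlatCA.fiberMod (maximalIdeal A) B N) →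
      Function.Injective (LocalizedModule.map q.primeCompl φ) := by
  refine ⟨fun h q _ _ _ => LocalizedModule.map_injective _ _ h, fun h => ?_⟩
  rw [injective_iff_map_eq_zero]
  intro n hn
  have h0 : (1 : A) ⊗ₜ[A] n = 0 := by
    refine Groth.Agent.RGCore.eq_zero_of_assassins (S := B) A _ fun Q _ _ hass => ?_
    obtain ⟨P, hP, hQP, hPm⟩ := Groth.Agent.RGCore.exists_liesOver_of_pureAlong _ hpure (Q.under A)
      (IsLocalRing.le_maximalIdeal (Ideal.IsPrime.ne_top inferInstance)) Q
      ((Groth.Agent.RGCore.fibAss_iff_fiberIdeal _ Q).1 hass)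
    obtain ⟨q, _, hQq, -, hqm, hqass⟩ := Groth.Agent.RGCore.exists_assassin_ge (N := N) (maximalIdeal A) P
      (Groth.Agent.RGCore.flat_localizedModule _ N) (Q.under A) Q hQP hass
    have h1 := h q hqm ((Groth.Agent.RGCore.fibAss_iff_fiberIdeal _ q).1 hqass)
    have h2 : LocalizedModule.mkLinearMap q.primeCompl N n = 0 := h1 (by
      rw [map_zero, LocalizedModule.mkLinearMap_apply, LocalizedModule.map_mk, hn, LocalizedModule.zero_mk])
    obtain ⟨s, hs⟩ := (IsLocalizedModule.eq_zero_iff q.primeCompl _).1 h2
    refine ⟨q, hQq, s, s.2, ?_⟩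
    rw [LinearMap.lTensor_tmul]
    show (1 : A) ⊗ₜ[A] ((s : B) • n) = 0
    rw [show (s : B) • n = 0 from hs, TensorProduct.tmul_zero]
  simpa using congr(TensorProduct.lid A N $h0)

end Groth.Agent.S1225
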