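import Groth.Statements.S12314

set_option autoImplicit false
universe u
open CategoryTheory CategoryTheory.Limits AlgebraicGeometry MonObj
open SGA7

namespace Groth.Agent.S12314

/-- Let R be a henselian discrete valuation ring with fraction field K and residue field k, Ω a
separable closure of K, W a valuation subring of Ω lying over R, A and C abelian varieties over K
(proper, geometrically integral commutative group schemes), and u : C → A an isogeny, in the form:
there are a homomorphism v : A → C and an integer n > 0 with v ∘ u = n and u ∘ v = n. Let ℓ be a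
prime invertible in k and consider the ℓ-adic Tate modules of the Ω-points of C and A; call an
element fixed when all its components are fixed by the inertia group at W (for such ℓ the fixed part
is the inertia invariants). Then T_ℓ(u) maps the fixed part of T_ℓ(C) into the fixed part of T_ℓ(A)
and induces an isogeny between them: T_ℓ(u) is injective, and n times every fixed element of T_ℓ(A)
is the image of a fixed element of T_ℓ(C). (The case of a prime equal to the residue characteristic,
where the fixed part is defined through the Néron model, is not stated.) -/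
theorem result (R K Ω : Type u) [CommRing R] [IsDomain R] [IsDiscreteValuationRing R] [HenselianLocalRing R]
    [Field K] [Algebra R K] [IsFractionRing R K] [Field Ω] [Algebra K Ω] [IsSepClosure K Ω]
    (W : ValuationSubring Ω) (hW : SGA7.LiesOver K R W)
    (A C : Over (Spec (CommRingCat.of K))) [GrpObj A] [IsCommMonObj A] [IsProper A.hom] [GeometricallyIntegral A.hom]
    [GrpObj C] [IsCommMonObj C] [IsProper C.hom] [GeometricallyIntegral C.hom]
    (u : C ⟶ A) [IsMonHom u] (v : A ⟶ C) [IsMonHom v] (n : ℕ) (hn : 0 < n)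
    (huv : u ≫ v = (𝟙 C) ^ n) (hvu : v ≫ u = (𝟙 A) ^ n)
    (l : ℕ) (hl : l.Prime) (hlp : (l : IsLocalRing.ResidueField R) ≠ 0) :
    (∀ z : AbDual.TateMod C l (SGA7.pt Ω),
      (∀ (τ : Ω ≃ₐ[K] Ω) (m : ℕ), SGA7.IsInertia W τ →
        SGA7.galAct τ (AbDual.TateMod.component C l (SGA7.pt Ω) m z).toMul =
          (AbDual.TateMod.component C l (SGA7.pt Ω) m z).toMul) →
      (∀ (τ : Ω ≃ₐ[K] Ω) (m : ℕ), SGA7.IsInertia W τ →
        SGA7.galAct τ (AbDual.TateMod.component A l (SGA7.pt Ω) m (AbDual.tateMap u z)).toMul =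
          (AbDual.TateMod.component A l (SGA7.pt Ω) m (AbDual.tateMap u z)).toMul)) ∧
    (∀ z : AbDual.TateMod C l (SGA7.pt Ω), AbDual.tateMap (l := l) (T := SGA7.pt Ω) u z = 0 → z = 0) ∧
    (∀ y : AbDual.TateMod A l (SGA7.pt Ω),
      (∀ (τ : Ω ≃ₐ[K] Ω) (m : ℕ), SGA7.IsInertia W τ →
        SGA7.galAct τ (AbDual.TateMod.component A l (SGA7.pt Ω) m y).toMul =
          (AbDual.TateMod.component A l (SGA7.pt Ω) m y).toMul) →
      ∃ z : AbDual.TateMod C l (SGA7.pt Ω),
        (∀ (τ : Ω ≃ₐ[K] Ω) (m : ℕ), SGA7.IsInertia W τ →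
        SGA7.galAct τ (AbDual.TateMod.component C l (SGA7.pt Ω) m z).toMul =
          (AbDual.TateMod.component C l (SGA7.pt Ω) m z).toMul) ∧
        AbDual.tateMap (l := l) (T := SGA7.pt Ω) u z = n • y) := by
  classical
  haveI hcomp : ∀ (τ : Ω ≃ₐ[K] Ω) (B : Over (Spec (CommRingCat.of K))) (w : SGA7.Pts Ω B)
      {B' : Over (Spec (CommRingCat.of K))} (g : B ⟶ B'),
      SGA7.galAct τ (w ≫ g) = SGA7.galAct τ w ≫ g := fun τ B w B' g => (Category.assoc _ _ _).symm
  have hn : ∀ {B : Over (Spec (CommRingCat.of K))} [GrpObj B] [IsCommMonObj B]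
      (z : AbDual.TateMod B l (SGA7.pt Ω)), n • z = 0 → z = 0 := by
    intro B _ _ z hz
    refine AbDual.TateMod.ext fun m => ?_
    obtain ⟨e, n', hn', rfl⟩ := Nat.exists_eq_pow_mul_and_not_dvd hn.ne' l hl.ne_one
    have hstep : ∀ j m, (l ^ j) • (z : ℕ → Additive (SGA7.pt Ω ⟶ B)) (m + j) =
        (z : ℕ → Additive (SGA7.pt Ω ⟶ B)) m := by
      intro j
      induction j with
      | zero => simp
      | succ j ih =>
        intro m
        rw [pow_succ, mul_nsmul', show m + (j + 1) = m + j + 1 by omega, AbDual.TateMod.compat, ih]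
    have h0 : (l ^ e * n') • (z : ℕ → Additive (SGA7.pt Ω ⟶ B)) (m + e) = 0 :=
      congrArg (fun w : AbDual.TateMod B l (SGA7.pt Ω) => (w : ℕ → Additive (SGA7.pt Ω ⟶ B)) (m + e)) hz
    rw [mul_comm, mul_nsmul', hstep] at h0
    have h1 := z.torsion m
    have hcop : Nat.Coprime n' (l ^ m) :=
      Nat.Coprime.pow_right _ ((hl.coprime_iff_not_dvd.mpr hn').symm)
    have := addOrderOf_dvd_iff_nsmul_eq_zero.mpr h0
    have h2 := addOrderOf_dvd_iff_nsmul_eq_zero.mpr h1
    have h3 := Nat.dvd_gcd this h2
    rw [hcop] at h3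
    exact AddMonoid.addOrderOf_eq_one_iff.mp (Nat.dvd_one.mp h3)
  have hpow : ∀ {B : Over (Spec (CommRingCat.of K))} [GrpObj B] [IsCommMonObj B]
      (z : AbDual.TateMod B l (SGA7.pt Ω)) (m : ℕ),
      (AbDual.TateMod.component B l (SGA7.pt Ω) m z).toMul ≫ ((𝟙 B : B ⟶ B) ^ n) =
        (AbDual.TateMod.component B l (SGA7.pt Ω) m (n • z)).toMul := by
    intro B _ _ z m
    rw [MonObj.comp_pow, Category.comp_id, map_nsmul, toMul_nsmul]
  refine ⟨?_, ?_, ?_⟩
  · intro z hz τ m hτ
    simp only [AbDual.tateMap_component]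
    rw [hcomp, hz τ m hτ]
  · intro z hz
    refine hn z (AbDual.TateMod.ext fun m => ?_)
    have h := hpow z m
    rw [← huv, ← Category.assoc, ← AbDual.tateMap_component u, ← AbDual.tateMap_component v, hz,
      map_zero, map_zero] at h
    exact congrArg Additive.ofMul h.symm
  · intro y hy
    refine ⟨AbDual.tateMap v y, fun τ m hτ => ?_, AbDual.TateMod.ext fun m => ?_⟩
    · simp only [AbDual.tateMap_component]
      rw [hcomp, hy τ m hτ]
    · have h := hpow y m
      rw [← hvu, ← Category.assoc, ← AbDual.tateMap_component v, ← AbDual.tateMap_component u] at h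
      exact congrArg Additive.ofMul h

end Groth.Agent.S12314
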