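import Groth.Statements.S1238
import Groth.Agent.RGCore.Openness
-- import your own Groth.Agent.* helpers here

set_option autoImplicit false
universe u
open FlatMor

namespace Groth.Agent.S1238

/-- Ring form, X = Spec S, S = Spec R affine: let R be a ring with finitely many weakly associated
primes and S a finite type R-algebra. Then the set of primes q of S with S_q flat over R is open in
Spec S, and every such q has a basic open neighbourhood D(g) with S_g flat and of finite
presentation over R. -/
theorem result {R S : Type u} [CommRing R] [CommRing S] [Algebra R S] [Algebra.FiniteType R S]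
    (hR : (FlatCA.weakAss R R).Finite) :
    IsOpen {q : PrimeSpectrum S | Module.Flat R (Localization.AtPrime q.asIdeal)} ∧
    ∀ (q : Ideal S) [q.IsPrime], Module.Flat R (Localization.AtPrime q) → ∃ g : S, g ∉ q ∧
      Algebra.FinitePresentation R (Localization.Away g) ∧ Module.Flat R (Localization.Away g) := by
  have key : ∀ (q : Ideal S) [q.IsPrime], Module.Flat R (Localization.AtPrime q) ↔
      Module.Flat R (LocalizedModule q.primeCompl S) := fun q _ =>
    Module.Flat.equiv_iff
      ((IsLocalizedModule.iso q.primeCompl (Algebra.linearMap S (Localization.AtPrime q))).restrictScalars R).symm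
  refine ⟨?_, fun q _ hq => ?_⟩
  · rw [isOpen_iff_forall_mem_open]
    intro q hq
    obtain ⟨g, hg, hW, -⟩ := RGCore.exists_flat_fp_nhd hR q.asIdeal ((key _).1 hq)
    exact ⟨PrimeSpectrum.basicOpen g, fun q' hq' => (key _).2 (hW _ hq'), PrimeSpectrum.isOpen_basicOpen, hg⟩
  · obtain ⟨g, hg, hW, -, hrel⟩ := RGCore.exists_flat_fp_nhd hR q ((key q).1 hq)
    have := hW _ (Submonoid.mem_powers g)
    exact ⟨g, hg, RGCore.algebra_finitePresentation_of_relFP g hrel, Module.Flat.of_linearEquiv
      ((IsLocalizedModule.iso (Submonoid.powers g) (Algebra.linearMap S (Localization.Away g))).restrictScalars R).symm⟩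
end Groth.Agent.S1238
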