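import Groth.Statements.S1250
import Groth.Agent.RGCore.DevissageFlat

set_option autoImplicit false
universe u
open FlatMor

namespace Groth.Agent.S1250

/-- Given an elementary dévissage E of N at q over p in dimension n, the following are equivalent: N_q
is flat over R; G_z is flat over R'; G_y (G viewed as a D-module) is flat over R'. Also equivalent
to each other: N becomes flat over R on some basic open D(g) ∋ q of Spec S; G becomes flat over R'
on some basic open of Spec C containing z; G as a D-module becomes flat over R' on some basic open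
of Spec D containing y. -/
theorem result {R S : Type u} [CommRing R] [CommRing S] [Algebra R S] [Algebra.FiniteType R S]
    (N : Type u) [AddCommGroup N] [Module S N] [Module R N] [IsScalarTower R S N] [Module.Finite S N]
    (p : Ideal R) [p.IsPrime] (q : Ideal S) [q.IsPrime] [q.LiesOver p] (n : ℕ) (E : FlatCA.ElemDevissage R S N p q n) :
    [FlatCA.FlatAt R q N, FlatCA.FlatAt E.R' E.z E.G, FlatCA.FlatAt E.R' E.y E.G].TFAE ∧
    [∃ g : S, g ∉ q ∧ Module.Flat R (LocalizedModule (Submonoid.powers g) N),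
     ∃ g : E.C, g ∉ E.z ∧ Module.Flat E.R' (LocalizedModule (Submonoid.powers g) E.G),
     ∃ g : E.D, g ∉ E.y ∧ Module.Flat E.R' (LocalizedModule (Submonoid.powers g) E.G)].TFAE := by
  letI : Module R E.N' := Module.compHom E.N' (algebraMap R E.S')
  haveI : IsScalarTower R E.S' E.N' := IsScalarTower.of_algebraMap_smul fun _ _ => rfl
  haveI tR'S'G : IsScalarTower E.R' E.S' E.G := IsScalarTower.of_algebraMap_smul fun r m => by
    rw [← algebraMap_smul E.C (algebraMap E.R' E.S' r), ← IsScalarTower.algebraMap_apply, algebraMap_smul]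
  letI : Module R E.G := Module.compHom E.G (algebraMap R E.R')
  haveI : IsScalarTower R E.R' E.G := IsScalarTower.of_algebraMap_smul fun _ _ => rfl
  haveI : IsScalarTower R E.S' E.G := IsScalarTower.of_algebraMap_smul fun r m => by
    rw [IsScalarTower.algebraMap_apply R E.R' E.S', algebraMap_smul]; rfl
  obtain ⟨hR, -, -⟩ := E.etaleR
  obtain ⟨hS, hlS, -⟩ := E.etaleS
  haveI := hR; haveI := hS; haveI := hlS
  haveI := E.finiteDC
  haveI : Module.Finite E.S' E.C := Module.Finite.of_surjective (Algebra.linearMap E.S' E.C) E.surjC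
  have key : ∀ (Q : Ideal S) (Q' : Ideal E.S') [Q.IsPrime] [Q'.IsPrime] [Q'.LiesOver Q],
      FlatCA.FlatAt R Q N ↔ FlatCA.FlatAt E.R' Q' E.G := fun Q Q' _ _ _ =>
    (RGCore.flatAt_baseChange_iff N E.f Q Q' E.isBaseChange).trans
      (Iff.trans ⟨RGCore.flatAt_congr Q' E.iso, RGCore.flatAt_congr Q' E.iso.symm⟩
        (S1231.result (R := R) (T := E.R') E.G Q').1)
  have hzq : ∀ (Q : Ideal E.C) [Q.IsPrime], Q.LiesOver E.q' → Q = E.z := fun Q _ hQ =>
    Ideal.comap_injective_of_surjective _ E.surjC (hQ.over.symm.trans (E.z.over_def E.q'))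
  have upS : ∀ (z₁ : Ideal E.C) [z₁.IsPrime], FlatCA.FlatAt E.R' (z₁.comap (algebraMap E.S' E.C)) E.G →
      FlatCA.FlatAt E.R' z₁ E.G := fun z₁ _ h => RGCore.flatAt_of_flatAt_comap _ z₁ le_rfl E.G h
  have upD : ∀ (z₁ : Ideal E.C) [z₁.IsPrime], FlatCA.FlatAt E.R' (z₁.comap (algebraMap E.D E.C)) E.G →
      FlatCA.FlatAt E.R' z₁ E.G := fun z₁ _ h => RGCore.flatAt_of_flatAt_comap _ z₁ le_rfl E.G h
  refine ⟨?_, ?_⟩
  · tfae_have 1 → 2 := fun h => by
      have h' := (key q E.q').1 h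
      exact RGCore.flatAt_of_flatAt_comap E.q' E.z (E.z.over_def E.q').ge E.G h'
    tfae_have 2 → 1 := fun h => (key q E.q').2 (RGCore.flatAt_of_unique E.q' E.z hzq E.G h)
    tfae_have 2 → 3 := fun h => RGCore.flatAt_of_unique E.y E.z E.uniq E.G h
    tfae_have 3 → 2 := fun h => RGCore.flatAt_of_flatAt_comap E.y E.z (E.z.over_def E.y).ge E.G h
    tfae_finish
  · simp only [RGCore.flat_away_iff]
    tfae_have 1 → 2 := fun ⟨g, hg, h⟩ => by
      refine ⟨algebraMap E.S' E.C (algebraMap S E.S' g), fun hgz => hg ?_, fun z₁ _ hgz₁ => upS z₁ ?_⟩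
      · exact (Ideal.mem_of_liesOver E.q' q g).2 ((Ideal.mem_of_liesOver E.z E.q' _).2 hgz)
      · haveI : (z₁.comap (algebraMap E.S' E.C)).LiesOver ((z₁.comap (algebraMap E.S' E.C)).under S) := ⟨rfl⟩
        exact (key _ (z₁.comap (algebraMap E.S' E.C))).1 (h ((z₁.comap (algebraMap E.S' E.C)).under S) hgz₁)
    tfae_have 2 → 1 := fun ⟨g, hg, h⟩ => by
      obtain ⟨gt, rfl⟩ := E.surjC g
      have hopen := PrimeSpectrum.isOpenMap_comap_of_hasGoingDown_of_finitePresentation (R := S) (S := E.S') _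
        (PrimeSpectrum.basicOpen gt).isOpen
      have hmem : (⟨q, ‹_›⟩ : PrimeSpectrum S) ∈ PrimeSpectrum.comap (algebraMap S E.S') ''
          (PrimeSpectrum.basicOpen gt : Set (PrimeSpectrum E.S')) :=
        ⟨⟨E.q', inferInstance⟩, fun hgt => hg ((Ideal.mem_of_liesOver E.z E.q' gt).1 hgt),
          PrimeSpectrum.ext (E.q'.over_def q).symm⟩
      obtain ⟨_, ⟨_, ⟨g₁, rfl⟩, rfl⟩, hg₁, hsub⟩ :=
        PrimeSpectrum.isBasis_basic_opens.exists_subset_of_mem_open hmem hopen
      refine ⟨g₁, hg₁, fun Q _ hQ => ?_⟩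
      obtain ⟨Q', hQ', hQ'Q⟩ := hsub (show (⟨Q, ‹_›⟩ : PrimeSpectrum S) ∈ PrimeSpectrum.basicOpen g₁ from hQ)
      haveI : Q'.asIdeal.LiesOver Q := ⟨(congr_arg PrimeSpectrum.asIdeal hQ'Q).symm⟩
      refine (key Q Q'.asIdeal).2 (RGCore.flatAt_of_forall E.G Q'.asIdeal fun z₁ _ hz₁ => h z₁ fun hgz => ?_)
      exact hQ' ((Ideal.mem_of_liesOver z₁ Q'.asIdeal gt).2 hgz)
    tfae_have 2 → 3 := fun ⟨g, hg, h⟩ => by
      obtain ⟨b, hb, hby⟩ : ∃ b, algebraMap E.D E.C b ∈ Ideal.span {g} ∧ b ∉ E.y := by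
        by_contra hcon
        push Not at hcon
        obtain ⟨Q, hgQ, hQ, hQy⟩ := Ideal.exists_ideal_over_prime_of_isIntegral E.y (Ideal.span {g}) hcon
        exact hg (E.uniq Q ⟨hQy.symm⟩ ▸ hgQ (Ideal.mem_span_singleton_self g))
      refine ⟨b, hby, fun P _ hbP => RGCore.flatAt_of_forall E.G P fun z₁ _ hz₁ => h z₁ fun hgz => hbP ?_⟩
      exact (Ideal.mem_of_liesOver z₁ P b).2 ((Ideal.span_singleton_le_iff_mem _).2 hgz hb)
    tfae_have 3 → 2 := fun ⟨b, hb, h⟩ =>
      ⟨algebraMap E.D E.C b, fun hbz => hb ((Ideal.mem_of_liesOver E.z E.y b).2 hbz),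
        fun z₁ _ hz₁ => upD z₁ (h _ hz₁)⟩
    tfae_finish

end Groth.Agent.S1250
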