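import Groth.Statements.S1251
import Groth.Agent.RGCore.FPLocal

set_option autoImplicit false
set_option linter.style.haveILetI false
universe u
open FlatMor

namespace Groth.Agent.S1251

/-- Given an elementary dévissage E of N at q over p in dimension n, with S of finite presentation over
R: the finite map D → C is of finite presentation; the following are equivalent: N_q is a finitely
presented S_q-module; G_z is a finitely presented C_z-module; G_y is a finitely presented
D_y-module. Also equivalent to each other: N is finitely presented on some basic open of Spec S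
containing q; G is finitely presented on some basic open of Spec C containing z; G as a D-module is
finitely presented on some basic open of Spec D containing y. -/
theorem result {R S : Type u} [CommRing R] [CommRing S] [Algebra R S] [Algebra.FinitePresentation R S]
    (N : Type u) [AddCommGroup N] [Module S N] [Module R N] [IsScalarTower R S N] [Module.Finite S N]
    (p : Ideal R) [p.IsPrime] (q : Ideal S) [q.IsPrime] [q.LiesOver p] (n : ℕ) (E : FlatCA.ElemDevissage R S N p q n) :
    Algebra.FinitePresentation E.D E.C ∧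
    [Module.FinitePresentation (Localization.AtPrime q) (LocalizedModule q.primeCompl N),
     Module.FinitePresentation (Localization.AtPrime E.z) (LocalizedModule E.z.primeCompl E.G),
     Module.FinitePresentation (Localization.AtPrime E.y) (LocalizedModule E.y.primeCompl E.G)].TFAE ∧
    [∃ g : S, g ∉ q ∧ Module.FinitePresentation (Localization.Away g) (LocalizedModule (Submonoid.powers g) N),
     ∃ g : E.C, g ∉ E.z ∧ Module.FinitePresentation (Localization.Away g) (LocalizedModule (Submonoid.powers g) E.G),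
     ∃ g : E.D, g ∉ E.y ∧ Module.FinitePresentation (Localization.Away g) (LocalizedModule (Submonoid.powers g) E.G)].TFAE := by
  haveI tR'S'G : IsScalarTower E.R' E.S' E.G := IsScalarTower.of_algebraMap_smul fun r m => by
    rw [← algebraMap_smul E.C (algebraMap E.R' E.S' r), ← IsScalarTower.algebraMap_apply, algebraMap_smul]
  obtain ⟨hR, -, -⟩ := E.etaleR
  obtain ⟨hS, hlS, -⟩ := E.etaleS
  haveI := hR; haveI := hS; haveI := hlS
  haveI := E.finiteDC
  haveI := E.fpC
  haveI hCfin : Module.Finite E.S' E.C := Module.Finite.of_surjective (Algebra.linearMap E.S' E.C) E.surjC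
  letI : Algebra R E.C := ((algebraMap E.R' E.C).comp (algebraMap R E.R')).toAlgebra
  haveI : IsScalarTower R E.R' E.C := IsScalarTower.of_algebraMap_eq fun _ => rfl
  haveI : IsScalarTower R E.S' E.C := IsScalarTower.of_algebraMap_eq fun x => by
    rw [IsScalarTower.algebraMap_apply R E.R' E.S', ← IsScalarTower.algebraMap_apply E.R' E.S' E.C]; rfl
  haveI : Algebra.FinitePresentation R E.S' := Algebra.FinitePresentation.trans R S E.S'
  haveI : Algebra.FinitePresentation R E.C := Algebra.FinitePresentation.trans R E.S' E.C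
  haveI : Algebra.FinitePresentation E.R' E.C :=
    Algebra.FinitePresentation.of_restrict_scalars_finitePresentation R E.R' E.C
  haveI : Algebra.FiniteType E.R' E.D := by
    haveI := E.smooth
    haveI := AlgebraicGeometry.SmoothOfRelativeDimension.smooth n
      (AlgebraicGeometry.Spec.map (CommRingCat.ofHom (algebraMap E.R' E.D)))
    have hft : AlgebraicGeometry.LocallyOfFiniteType
        (AlgebraicGeometry.Spec.map (CommRingCat.ofHom (algebraMap E.R' E.D))) := inferInstance
    exact RingHom.finiteType_algebraMap.1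
      ((AlgebraicGeometry.HasRingHomProperty.Spec_iff (P := @AlgebraicGeometry.LocallyOfFiniteType)).1 hft)
  haveI hDC : Algebra.FinitePresentation E.D E.C :=
    Algebra.FinitePresentation.of_restrict_scalars_finitePresentation E.R' E.D E.C
  haveI : Module.FinitePresentation E.D E.C := Module.FinitePresentation.of_finite_of_finitePresentation E.D E.C
  haveI : Module.FinitePresentation E.S' E.C := Module.FinitePresentation.of_finite_of_finitePresentation E.S' E.C
  have hiso : IsBaseChange E.S' E.iso.toLinearMap := IsBaseChange.ofEquiv E.iso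
  have hiso' : IsBaseChange E.S' E.iso.symm.toLinearMap := IsBaseChange.ofEquiv E.iso.symm
  have same : ∀ {A : Type u} [CommRing A] (W : Submonoid A), ∀ w ∈ W, ∃ v ∈ W, algebraMap A A w ∣ v :=
    fun W w hw => ⟨w, hw, dvd_rfl⟩
  have isoIff : ∀ V : Submonoid E.S',
      Module.FinitePresentation (Localization V) (LocalizedModule V E.N') ↔
      Module.FinitePresentation (Localization V) (LocalizedModule V E.G) := fun V =>
    ⟨RGCore.fp_localized_baseChange _ V V (same V) hiso, RGCore.fp_localized_baseChange _ V V (same V) hiso'⟩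
  have hzq : ∀ (Q : Ideal E.C) [Q.IsPrime], Q.LiesOver E.q' → Q = E.z := fun Q _ hQ =>
    Ideal.comap_injective_of_surjective _ E.surjC (hQ.over.symm.trans (E.z.over_def E.q'))
  refine ⟨hDC, ?_, ?_⟩
  · have h12 : Module.FinitePresentation (Localization.AtPrime q) (LocalizedModule q.primeCompl N) ↔
        Module.FinitePresentation (Localization.AtPrime E.z) (LocalizedModule E.z.primeCompl E.G) := by
      have hWV : ∀ w ∈ q.primeCompl, ∃ v ∈ E.q'.primeCompl, algebraMap S E.S' w ∣ v :=
        fun w hw => ⟨_, fun h => hw ((Ideal.mem_of_liesOver E.q' q w).2 h), dvd_rfl⟩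
      have hsurj : ∀ Q : Ideal S, Q.IsPrime → Disjoint (q.primeCompl : Set S) Q →
          ∃ Q' : Ideal E.S', Q'.IsPrime ∧ Disjoint (E.q'.primeCompl : Set E.S') Q' ∧
            Q'.comap (algebraMap S E.S') = Q := fun Q hQ hd => by
        haveI := hQ
        obtain ⟨Q', hQ'le, hQ'p, hQ'o⟩ := Ideal.exists_ideal_le_liesOver_of_le (p := Q) (q := q) E.q'
          fun x hx => by_contra fun h => Set.disjoint_left.1 hd h hx
        exact ⟨Q', hQ'p, Set.disjoint_left.2 fun x h1 h2 => h1 (hQ'le h2), hQ'o.over.symm⟩
      refine Iff.trans (Iff.trans ⟨RGCore.fp_localized_baseChange N _ _ hWV E.isBaseChange,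
        RGCore.fp_localized_descend N _ _ hWV E.isBaseChange hsurj⟩ (isoIff _))
        (RGCore.fp_localized_iff_of_fp_algebra E.G E.q'.primeCompl E.z.primeCompl
          (fun w hw h => hw ((Ideal.mem_of_liesOver E.z E.q' w).2 h)) fun v hv => ?_)
      obtain ⟨t, rfl⟩ := E.surjC v
      exact ⟨t, fun h => hv ((Ideal.mem_of_liesOver E.z E.q' t).1 h), dvd_rfl⟩
    have h23 : Module.FinitePresentation (Localization.AtPrime E.y) (LocalizedModule E.y.primeCompl E.G) ↔
        Module.FinitePresentation (Localization.AtPrime E.z) (LocalizedModule E.z.primeCompl E.G) := by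
      refine RGCore.fp_localized_iff_of_fp_algebra E.G E.y.primeCompl E.z.primeCompl
        (fun w hw h => hw ((Ideal.mem_of_liesOver E.z E.y w).2 h)) fun v hv => ?_
      by_contra hcon
      push Not at hcon
      obtain ⟨Q, hvQ, hQ, hQy⟩ := Ideal.exists_ideal_over_prime_of_isIntegral E.y (Ideal.span {v}) fun b hb =>
        by_contra fun hby => hcon b hby (Ideal.mem_span_singleton.1 hb)
      exact hv (E.uniq Q ⟨hQy.symm⟩ ▸ hvQ (Ideal.mem_span_singleton_self v))
    tfae_have 1 ↔ 2 := h12
    tfae_have 3 ↔ 2 := h23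
    tfae_finish
  · tfae_have 1 → 2 := fun ⟨g, hg, h⟩ => by
      have hWV : ∀ w ∈ Submonoid.powers g, ∃ v ∈ Submonoid.powers (algebraMap S E.S' g), algebraMap S E.S' w ∣ v := by
        rintro _ ⟨k, rfl⟩; exact ⟨_, ⟨k, rfl⟩, by rw [map_pow]⟩
      refine ⟨algebraMap E.S' E.C (algebraMap S E.S' g), fun hgz => hg ?_, ?_⟩
      · exact (Ideal.mem_of_liesOver E.q' q g).2 ((Ideal.mem_of_liesOver E.z E.q' _).2 hgz)
      · refine (RGCore.fp_localized_iff_of_fp_algebra E.G (Submonoid.powers (algebraMap S E.S' g))
          (Submonoid.powers (algebraMap E.S' E.C (algebraMap S E.S' g))) ?_ ?_).1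
          ((isoIff _).1 (RGCore.fp_localized_baseChange N _ _ hWV E.isBaseChange h))
        · rintro _ ⟨k, rfl⟩; exact ⟨k, (map_pow _ _ _).symm⟩
        · rintro _ ⟨k, rfl⟩; exact ⟨_, ⟨k, rfl⟩, by rw [map_pow]⟩
    tfae_have 2 → 1 := fun ⟨g, hg, h⟩ => by
      obtain ⟨gt, rfl⟩ := E.surjC g
      have h' : Module.FinitePresentation (Localization (Submonoid.powers gt))
          (LocalizedModule (Submonoid.powers gt) E.N') := by
        refine (isoIff _).2 ((RGCore.fp_localized_iff_of_fp_algebra E.G (Submonoid.powers gt)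
          (Submonoid.powers (algebraMap E.S' E.C gt)) ?_ ?_).2 h)
        · rintro _ ⟨k, rfl⟩; exact ⟨k, (map_pow _ _ _).symm⟩
        · rintro _ ⟨k, rfl⟩; exact ⟨_, ⟨k, rfl⟩, by rw [map_pow]⟩
      have hopen := PrimeSpectrum.isOpenMap_comap_of_hasGoingDown_of_finitePresentation (R := S) (S := E.S') _
        (PrimeSpectrum.basicOpen gt).isOpen
      have hmem : (⟨q, ‹_›⟩ : PrimeSpectrum S) ∈ PrimeSpectrum.comap (algebraMap S E.S') ''
          (PrimeSpectrum.basicOpen gt : Set (PrimeSpectrum E.S')) :=
        ⟨⟨E.q', inferInstance⟩, fun hgt => hg ((Ideal.mem_of_liesOver E.z E.q' gt).1 hgt),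
          PrimeSpectrum.ext (E.q'.over_def q).symm⟩
      obtain ⟨_, ⟨_, ⟨g₁, rfl⟩, rfl⟩, hg₁, hsub⟩ :=
        PrimeSpectrum.isBasis_basic_opens.exists_subset_of_mem_open hmem hopen
      let gs := gt * algebraMap S E.S' g₁
      have h'' : Module.FinitePresentation (Localization (Submonoid.powers gs))
          (LocalizedModule (Submonoid.powers gs) E.N') := by
        refine RGCore.fp_localized_baseChange E.N' (Submonoid.powers gt) (Submonoid.powers gs) ?_
          (IsBaseChange.ofEquiv (LinearEquiv.refl E.S' E.N')) h'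
        rintro _ ⟨k, rfl⟩
        exact ⟨gs ^ k, ⟨k, rfl⟩, pow_dvd_pow_of_dvd (dvd_mul_right _ _) k⟩
      refine ⟨g₁, hg₁, RGCore.fp_localized_descend N (Submonoid.powers g₁) (Submonoid.powers gs) ?_
        E.isBaseChange ?_ h''⟩
      · rintro _ ⟨k, rfl⟩
        exact ⟨gs ^ k, ⟨k, rfl⟩, by rw [map_pow]; exact pow_dvd_pow_of_dvd (dvd_mul_left _ _) k⟩
      · intro Q hQ hd
        have hQg : g₁ ∉ Q := fun h0 => Set.disjoint_left.1 hd (Submonoid.mem_powers g₁) h0
        obtain ⟨Q', hQ', hQ'Q⟩ := hsub (show (⟨Q, hQ⟩ : PrimeSpectrum S) ∈ PrimeSpectrum.basicOpen g₁ from hQg)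
        refine ⟨Q'.asIdeal, Q'.isPrime, (Ideal.disjoint_powers_iff_notMem _ ?_).2 ?_, congr_arg PrimeSpectrum.asIdeal hQ'Q⟩
        · exact Q'.isPrime.isRadical
        · intro hm
          rcases Q'.isPrime.mem_or_mem hm with h1 | h1
          · exact hQ' h1
          · exact hQg (by
              have := congr_arg PrimeSpectrum.asIdeal hQ'Q
              simp only at this
              rw [← this]; exact h1)
    tfae_have 2 → 3 := fun ⟨g, hg, h⟩ => by
      obtain ⟨b, hb, hby⟩ : ∃ b, algebraMap E.D E.C b ∈ Ideal.span {g} ∧ b ∉ E.y := by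
        by_contra hcon
        push Not at hcon
        obtain ⟨Q, hgQ, hQ, hQy⟩ := Ideal.exists_ideal_over_prime_of_isIntegral E.y (Ideal.span {g}) hcon
        exact hg (E.uniq Q ⟨hQy.symm⟩ ▸ hgQ (Ideal.mem_span_singleton_self g))
      have h' : Module.FinitePresentation (Localization (Submonoid.powers (algebraMap E.D E.C b)))
          (LocalizedModule (Submonoid.powers (algebraMap E.D E.C b)) E.G) := by
        refine RGCore.fp_localized_baseChange E.G (Submonoid.powers g) _ ?_
          (IsBaseChange.ofEquiv (LinearEquiv.refl E.C E.G)) h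
        rintro _ ⟨k, rfl⟩
        exact ⟨_, ⟨k, rfl⟩, pow_dvd_pow_of_dvd (Ideal.mem_span_singleton.1 hb) k⟩
      refine ⟨b, hby, (RGCore.fp_localized_iff_of_fp_algebra E.G (Submonoid.powers b)
          (Submonoid.powers (algebraMap E.D E.C b)) ?_ ?_).2 h'⟩
      · rintro _ ⟨k, rfl⟩; exact ⟨k, (map_pow _ _ _).symm⟩
      · rintro _ ⟨k, rfl⟩; exact ⟨_, ⟨k, rfl⟩, by rw [map_pow]⟩
    tfae_have 3 → 2 := fun ⟨b, hb, h⟩ => by
      refine ⟨algebraMap E.D E.C b, fun hbz => hb ((Ideal.mem_of_liesOver E.z E.y b).2 hbz),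
        (RGCore.fp_localized_iff_of_fp_algebra E.G (Submonoid.powers b)
          (Submonoid.powers (algebraMap E.D E.C b)) ?_ ?_).1 h⟩
      · rintro _ ⟨k, rfl⟩; exact ⟨k, (map_pow _ _ _).symm⟩
      · rintro _ ⟨k, rfl⟩; exact ⟨_, ⟨k, rfl⟩, by rw [map_pow]⟩
    tfae_finish

end Groth.Agent.S1251
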