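import Groth.Statements.S1253
import Groth.Agent.RGCore.DevissageStep
import Groth.Agent.RGCore.DevissageChain
import Groth.Agent.CAlgUI.Local

set_option autoImplicit false
universe u
open FlatMor

namespace Groth.Agent.S1253

open IsLocalRing in
/-- Let R be a local ring, S a finitely presented R-algebra, N a finite S-module and q a prime of S over
𝔪_R with N_q flat over R. If N/S/R admits a complete dévissage at q, then N is of finite
presentation over S and free over R; more precisely N is R-isomorphic to the product over the steps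
of the dévissage of the free modules B_i^{r_i}, with B_i and r_i the dévissage's own smooth algebras
and ranks. -/
theorem result {R S : Type u} [CommRing R] [IsLocalRing R] [CommRing S] [Algebra R S] [Algebra.FinitePresentation R S]
    (N : Type u) [AddCommGroup N] [Module S N] [Module R N] [IsScalarTower R S N] [Module.Finite S N]
    (q : Ideal S) [q.IsPrime] [q.LiesOver (maximalIdeal R)] (hflat : FlatCA.FlatAt R q N)
    (D : FlatCA.CompleteDevissage R S N (maximalIdeal R)) (hD : Nonempty (FlatCA.CompleteDevissageAt R S N (maximalIdeal R) q D)) :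
    Module.FinitePresentation S N ∧ Module.Free R N ∧
      Nonempty (N ≃ₗ[R] (∀ i : Fin D.n, Fin (D.r i) → D.B i)) := by
  classical
  obtain ⟨E⟩ := hD
  haveI := E.hqA
  haveI := E.hqB
  haveI := E.overB
  haveI := E.overA
  have hAM : ∀ i, IsScalarTower R (D.A i) (D.M i) := fun i => .to₁₃₄ R (D.B i) (D.A i) (D.M i)
  have hsm : ∀ i, i < D.n → Algebra.Smooth R (D.B i) := D.smooth
  have H : ∀ i, i < D.n → ∀ (K : Type u) [Field K] [Algebra R K], IsDomain (TensorProduct R K (D.B i)) := fun i hi K _ _ =>
    haveI := hsm i hi
    Groth.Agent.RGCore.isDomain_tensor_of_geomIrred (D.geomIrred i hi) K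
  have hfinM : ∀ i, i < D.n → Module.Finite (D.B i) (D.M i) := fun i hi =>
    haveI := D.finiteBA i hi
    haveI := D.finiteM i hi
    Module.Finite.trans (D.A i) (D.M i)
  have htS : IsScalarTower R S (D.M 0) := by
    refine .of_algebraMap_smul fun a x => ?_
    rw [← algebraMap_smul (D.A 0) (algebraMap R S a) x, ← IsScalarTower.algebraMap_apply R S (D.A 0), algebraMap_smul]
  have htB' : ∀ i, IsScalarTower R (D.B i) (D.M (i + 1)) := fun i => by
    refine .of_algebraMap_smul fun a x => ?_
    rw [← algebraMap_smul (D.A (i + 1)) (algebraMap R (D.B i) a) x, ← IsScalarTower.algebraMap_apply R (D.B i) (D.A (i + 1)),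
      algebraMap_smul]
  -- flatness along the dévissage
  have hflatA : ∀ i, i < D.n → FlatCA.FlatAt R (E.qA i) (D.M i) := by
    intro i
    induction i with
    | zero =>
      intro _
      exact Groth.Agent.RGCore.flatAt_of_flatAt_comap q (E.qA 0) E.q0.le (D.M 0)
        (Groth.Agent.RGCore.flatAt_congr q D.isoN hflat)
    | succ i ih =>
      intro hi
      have hi' : i < D.n := by omega
      haveI := hsm i hi'
      haveI := D.finiteBA i hi'
      haveI := hfinM i hi'
      have h1 := Groth.Agent.RGCore.flatAt_of_unique (E.qB i) (E.qA i) (fun Q _ hQ => E.uniq i hi' Q hQ) (D.M i) (ih hi')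
      have h2 := (Groth.Agent.RGCore.devissage_step (H i hi') (maximalIdeal R) rfl (E.qB i) h1 (D.α i)
        (D.fibreIso i hi').1).2
      exact Groth.Agent.RGCore.flatAt_of_flatAt_comap (E.qB i) (E.qA (i + 1)) (E.qStep i hi).le (D.M (i + 1))
        (Groth.Agent.RGCore.flatAt_congr (E.qB i) (D.isoCoker i hi) h2)
  have hinj : ∀ i, i < D.n → Function.Injective (D.α i) := fun i hi => by
    haveI := hsm i hi
    haveI := D.finiteBA i hi
    haveI := hfinM i hi
    exact (Groth.Agent.RGCore.devissage_step (H i hi) (maximalIdeal R) rfl (E.qB i)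
      (Groth.Agent.RGCore.flatAt_of_unique (E.qB i) (E.qA i) (fun Q _ hQ => E.uniq i hi Q hQ) (D.M i) (hflatA i hi))
      (D.α i) (D.fibreIso i hi).1).1
  have hBproj : ∀ i, i < D.n → Module.Projective R (D.B i) := fun i hi =>
    haveI := hsm i hi
    Groth.Agent.RGCore.projective_of_isDomain_fibres (H i hi)
  have hpi : ∀ i, i < D.n → Module.Projective R (Fin (D.r i) → D.B i) := fun i hi =>
    haveI := hBproj i hi
    Module.Projective.of_equiv (DFinsupp.linearEquivFunOnFintype (R := R) (M := fun _ : Fin (D.r i) => D.B i))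
  let ψ : ∀ i, i + 1 < D.n → (D.M i →ₗ[D.B i] D.M (i + 1)) := fun i hi =>
    (D.isoCoker i hi).toLinearMap ∘ₗ (LinearMap.range (D.α i)).mkQ
  have hψs : ∀ i hi, Function.Surjective (ψ i hi) := fun i hi =>
    (D.isoCoker i hi).surjective.comp (Submodule.mkQ_surjective _)
  have hψe : ∀ i hi, Function.Exact (D.α i) (ψ i hi) := fun i hi => by
    rw [LinearMap.exact_iff]
    simp [ψ, LinearMap.ker_comp]
  -- the downward induction
  have key : ∀ k i, i < D.n → D.n = i + 1 + k →
      Module.FinitePresentation (D.A i) (D.M i) ∧ Module.Projective R (D.M i) := by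
    intro k
    induction k with
    | zero =>
      intro i hi hn
      have hi1 : i = D.n - 1 := by omega
      subst hi1
      haveI := hBproj _ hi
      haveI := hpi _ hi
      haveI := D.finiteBA _ hi
      let e := LinearEquiv.ofBijective (D.α (D.n - 1)) ⟨hinj _ hi, D.cokerLast⟩
      haveI : Module.FinitePresentation (D.B (D.n - 1)) (D.M (D.n - 1)) := Module.FinitePresentation.of_equiv e
      exact ⟨Groth.Agent.RGCore.fp_of_finite_algebra (B := D.B (D.n - 1)) _,
        Module.Projective.of_equiv (e.restrictScalars R)⟩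
    | succ k ih =>
      intro i hi hn
      obtain ⟨hfp, hpr⟩ := ih (i + 1) (by omega) (by omega)
      have hi1 : i + 1 < D.n := by omega
      haveI := hBproj _ hi
      haveI := hpi _ hi
      haveI := D.finiteBA _ hi
      haveI := D.fpBA' i hi1
      haveI : Module.Finite (D.B i) (D.A (i + 1)) :=
        Module.Finite.of_surjective (Algebra.linearMap _ _) (D.surjBA' i hi1)
      haveI : Module.FinitePresentation (D.B i) (D.A (i + 1)) :=
        Module.FinitePresentation.of_finite_of_finitePresentation _ _
      haveI : Module.FinitePresentation (D.B i) (D.M (i + 1)) :=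
        Module.FinitePresentation.trans (D.B i) (D.M (i + 1)) (D.A (i + 1))
      haveI : Module.FinitePresentation (D.B i) (LinearMap.ker (ψ i hi1)) := Module.FinitePresentation.of_equiv
        ((LinearEquiv.ofInjective (D.α i) (hinj i hi)).trans
          (LinearEquiv.ofEq _ _ (LinearMap.exact_iff.1 (hψe i hi1)).symm))
      haveI : Module.FinitePresentation (D.B i) (D.M i) :=
        Module.finitePresentation_of_ker (ψ i hi1) (hψs i hi1)
      refine ⟨Groth.Agent.RGCore.fp_of_finite_algebra (B := D.B i) _, ?_⟩
      obtain ⟨e⟩ := Groth.Agent.RGCore.exists_equiv_prod ((D.α i).restrictScalars R) ((ψ i hi1).restrictScalars R)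
        (hinj i hi) (hψe i hi1) (hψs i hi1)
      exact Module.Projective.of_equiv e.symm
  obtain ⟨hfp0, hproj0⟩ := key (D.n - 1) 0 D.pos (by have := D.pos; omega)
  haveI := D.fpSA
  haveI : Module.Finite S (D.A 0) := Module.Finite.of_surjective (Algebra.linearMap _ _) D.surjSA
  haveI : Module.FinitePresentation S (D.A 0) := Module.FinitePresentation.of_finite_of_finitePresentation _ _
  haveI : Module.FinitePresentation S (D.M 0) := Module.FinitePresentation.trans S (D.M 0) (D.A 0)
  haveI : Module.Projective R N := Module.Projective.of_equiv (D.isoN.restrictScalars R).symm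
  refine ⟨Module.FinitePresentation.of_equiv D.isoN.symm,
    Groth.Agent.CAlgUI.free_of_countablyGenerated (Groth.Agent.RGCore.isCountablyGenerated_of_finiteType (S := S) N), ?_⟩
  obtain ⟨e⟩ := Groth.Agent.RGCore.exists_equiv_pi_of_chain (R := R) D.n D.pos D.M
    (fun i => Fin (D.r i) → D.B i) (fun i hi => by
      haveI := (key (D.n - 1 - (i + 1)) (i + 1) hi (by omega)).2
      exact Groth.Agent.RGCore.exists_equiv_prod ((D.α i).restrictScalars R) ((ψ i hi).restrictScalars R)
        (hinj i (by omega)) (hψe i hi) (hψs i hi))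
    ⟨((LinearEquiv.ofBijective (D.α (D.n - 1)) ⟨hinj _ (by have := D.pos; omega), D.cokerLast⟩).restrictScalars R).symm⟩
  exact ⟨(D.isoN.restrictScalars R).trans e⟩

end Groth.Agent.S1253
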