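import Groth.Statements.S1254
import Groth.Agent.RGCore.DevissageAway

set_option autoImplicit false
universe u
open FlatMor

namespace Groth.Agent.S1254

/-- Let S be a finitely presented R-algebra, N a finitely presented S-module which is flat over R, and 𝔯
a prime of R such that N/S/R admits a complete dévissage over 𝔯. Then for some f ∈ R outside 𝔯 the
localization N_f is projective over R_f, and is R_f-isomorphic to a finite product of free modules
B_i^{r_i} over smooth R_f-algebras B_i whose fibres are geometrically irreducible. -/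
theorem result {R S : Type u} [CommRing R] [CommRing S] [Algebra R S] [Algebra.FinitePresentation R S]
    (N : Type u) [AddCommGroup N] [Module S N] [Module R N] [IsScalarTower R S N] [Module.FinitePresentation S N] [Module.Flat R N]
    (rr : Ideal R) [rr.IsPrime] (D : FlatCA.CompleteDevissage R S N rr) :
    ∃ f : R, f ∉ rr ∧
      Module.Projective (Localization.Away f) (LocalizedModule (Submonoid.powers f) N) ∧
      ∃ (k : ℕ) (B : Fin k → Type u) (_ : ∀ i, CommRing (B i)) (_ : ∀ i, Algebra (Localization.Away f) (B i)) (r : Fin k → ℕ),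
        (∀ i, Algebra.Smooth (Localization.Away f) (B i) ∧ FlatCA.GeomIrredFibres (Localization.Away f) (B i)) ∧
        Nonempty (LocalizedModule (Submonoid.powers f) N ≃ₗ[Localization.Away f] (∀ i, Fin (r i) → B i)) := by
  classical
  haveI := D.hp
  have hAM : ∀ i, IsScalarTower R (D.A i) (D.M i) := fun i => .to₁₃₄ R (D.B i) (D.A i) (D.M i)
  have hsm : ∀ i, i < D.n → Algebra.Smooth R (D.B i) := D.smooth
  have H : ∀ i, i < D.n → ∀ (K : Type u) [Field K] [Algebra R K], IsDomain (TensorProduct R K (D.B i)) :=
    fun i hi K _ _ =>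
      haveI := hsm i hi
      Groth.Agent.RGCore.isDomain_tensor_of_geomIrred (D.geomIrred i hi) K
  have htS : IsScalarTower R S (D.M 0) := by
    refine .of_algebraMap_smul fun a x => ?_
    rw [← algebraMap_smul (D.A 0) (algebraMap R S a) x, ← IsScalarTower.algebraMap_apply R S (D.A 0), algebraMap_smul]
  have htB' : ∀ i, IsScalarTower R (D.B i) (D.M (i + 1)) := fun i => by
    refine .of_algebraMap_smul fun a x => ?_
    rw [← algebraMap_smul (D.A (i + 1)) (algebraMap R (D.B i) a) x, ← IsScalarTower.algebraMap_apply R (D.B i) (D.A (i + 1)),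
      algebraMap_smul]
  have hfpA : ∀ i, i < D.n → Algebra.FinitePresentation R (D.A i) := by
    intro i hi
    cases i with
    | zero =>
      haveI := D.fpSA
      exact Algebra.FinitePresentation.trans R S (D.A 0)
    | succ i =>
      haveI := hsm i (by omega)
      haveI := D.fpBA' i hi
      exact Algebra.FinitePresentation.trans R (D.B i) (D.A (i + 1))
  have hfpBA : ∀ i, i < D.n → Module.FinitePresentation (D.B i) (D.A i) := fun i hi => by
    haveI := hsm i hi
    haveI := D.finiteBA i hi
    haveI := hfpA i hi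
    haveI : Algebra.FinitePresentation (D.B i) (D.A i) :=
      Algebra.FinitePresentation.of_restrict_scalars_finitePresentation R _ _
    exact Module.FinitePresentation.of_finite_of_finitePresentation _ _
  have hfp : ∀ i, i < D.n → Module.FinitePresentation (D.B i) (D.M i) := by
    intro i
    induction i with
    | zero =>
      intro hi
      haveI := hfpBA 0 hi
      haveI := D.fpSA
      haveI : Module.Finite S (D.A 0) := Module.Finite.of_surjective (Algebra.linearMap _ _) D.surjSA
      haveI : Module.FinitePresentation S (D.M 0) := Module.FinitePresentation.of_equiv D.isoN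
      haveI : Module.FinitePresentation (D.A 0) (D.M 0) := Groth.Agent.RGCore.fp_of_finite_algebra (B := S) _
      exact Module.FinitePresentation.trans (D.B 0) (D.M 0) (D.A 0)
    | succ i ih =>
      intro hi
      haveI := ih (by omega)
      haveI := hfpBA (i + 1) hi
      haveI : Module.FinitePresentation (D.B i) (D.M i ⧸ LinearMap.range (D.α i)) :=
        Module.finitePresentation_of_surjective _ (Submodule.mkQ_surjective _) (by
          rw [Submodule.ker_mkQ]; exact Module.Finite.fg_top.map (D.α i) |> fun h => by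
            rwa [Submodule.map_top] at h)
      haveI : Module.FinitePresentation (D.B i) (D.M (i + 1)) := Module.FinitePresentation.of_equiv (D.isoCoker i hi)
      haveI : Module.Finite (D.B i) (D.A (i + 1)) :=
        Module.Finite.of_surjective (Algebra.linearMap _ _) (D.surjBA' i hi)
      haveI : Module.FinitePresentation (D.A (i + 1)) (D.M (i + 1)) :=
        Groth.Agent.RGCore.fp_of_finite_algebra (B := D.B i) _
      exact Module.FinitePresentation.trans (D.B (i + 1)) (D.M (i + 1)) (D.A (i + 1))
  -- one basic open for all the steps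
  have up : ∀ i, i < D.n → ∃ f : R, f ∉ rr ∧ Groth.Agent.RGCore.FlatOff f (D.M i) ∧
      ∀ j, j < i → ∀ x, D.α j x = 0 → ∃ k : ℕ, f ^ k • x = 0 := by
    intro i
    induction i with
    | zero =>
      intro _
      exact ⟨1, fun h => ‹rr.IsPrime›.ne_top ((Ideal.eq_top_iff_one rr).2 h),
        (Groth.Agent.RGCore.flatOff_of_flat 1).congr (D.isoN.restrictScalars R), fun j hj => absurd hj (Nat.not_lt_zero j)⟩
    | succ i ih =>
      intro hi
      have hi' : i < D.n := by omega
      obtain ⟨f, hf, hflat, hker⟩ := ih hi'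
      haveI := hsm i hi'
      haveI := hfp i hi'
      obtain ⟨g, hg, hflat', hker'⟩ := Groth.Agent.RGCore.devissage_step_away (H i hi') rr hf hflat (D.α i) (D.fibreIso i hi')
      refine ⟨g * f, ‹rr.IsPrime›.mul_notMem hg hf, hflat'.congr ((D.isoCoker i hi).restrictScalars R), fun j hj x hx => ?_⟩
      rcases Nat.lt_succ_iff_lt_or_eq.1 hj with hj | rfl
      · obtain ⟨k, hk⟩ := hker j hj x hx
        exact ⟨k, by rw [mul_pow, mul_smul, hk, smul_zero]⟩
      · exact hker' x hx
  have hn1 : D.n - 1 < D.n := by have := D.pos; omega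
  obtain ⟨f₁, hf₁, hflat₁, hker₁⟩ := up (D.n - 1) hn1
  obtain ⟨f, hf, hker⟩ : ∃ f : R, f ∉ rr ∧ ∀ j, j < D.n → ∀ x, D.α j x = 0 → ∃ k : ℕ, f ^ k • x = 0 := by
    haveI := hsm _ hn1
    haveI := hfp _ hn1
    obtain ⟨g, hg, -, hker'⟩ := Groth.Agent.RGCore.devissage_step_away (H _ hn1) rr hf₁ hflat₁ (D.α _) (D.fibreIso _ hn1)
    refine ⟨g * f₁, ‹rr.IsPrime›.mul_notMem hg hf₁, fun j hj x hx => ?_⟩
    rcases Nat.lt_or_ge j (D.n - 1) with hj' | hj'
    · obtain ⟨k, hk⟩ := hker₁ j hj' x hx
      exact ⟨k, by rw [mul_pow, mul_smul, hk, smul_zero]⟩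
    · obtain rfl : j = D.n - 1 := by omega
      exact hker' x hx
  let Rf := Localization.Away f
  let a : ∀ i, TensorProduct R Rf (Fin (D.r i) → D.B i) →ₗ[Rf] TensorProduct R Rf (D.M i) := fun i =>
    ((D.α i).restrictScalars R).baseChange Rf
  have ha : ∀ i, i < D.n → Function.Injective (a i) := fun i hi =>
    Groth.Agent.RGCore.injective_baseChange_away f _ (hker i hi)
  let π : ∀ i, TensorProduct R Rf (Fin (D.r i) → D.B i) ≃ₗ[Rf] (Fin (D.r i) → TensorProduct R Rf (D.B i)) := fun i =>
    TensorProduct.piRight R Rf Rf fun _ : Fin (D.r i) => D.B i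
  have hproj : ∀ i, i < D.n → Module.Projective Rf (TensorProduct R Rf (Fin (D.r i) → D.B i)) := fun i hi => by
    haveI := hsm i hi
    haveI := Groth.Agent.RGCore.projective_of_isDomain_fibres (H i hi)
    haveI : Module.Projective Rf (Fin (D.r i) → TensorProduct R Rf (D.B i)) :=
      Module.Projective.of_equiv
        (DFinsupp.linearEquivFunOnFintype (R := Rf) (M := fun _ : Fin (D.r i) => TensorProduct R Rf (D.B i)))
    exact Module.Projective.of_equiv (π i).symm
  let ψ : ∀ i, i + 1 < D.n → (D.M i →ₗ[R] D.M (i + 1)) := fun i hi =>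
    ((D.isoCoker i hi).toLinearMap ∘ₗ (LinearMap.range (D.α i)).mkQ).restrictScalars R
  have hψs : ∀ i hi, Function.Surjective (ψ i hi) := fun i hi =>
    (D.isoCoker i hi).surjective.comp (Submodule.mkQ_surjective _)
  have hψe : ∀ i hi, Function.Exact ((D.α i).restrictScalars R) (ψ i hi) := fun i hi => by
    show Function.Exact (D.α i) ((D.isoCoker i hi).toLinearMap ∘ₗ (LinearMap.range (D.α i)).mkQ)
    rw [LinearMap.exact_iff]
    simp [LinearMap.ker_comp]
  have hse : ∀ i hi, Function.Surjective ((ψ i hi).baseChange Rf) ∧ Function.Exact (a i) ((ψ i hi).baseChange Rf) :=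
    fun i hi => ⟨LinearMap.lTensor_surjective Rf (hψs i hi), lTensor_exact Rf (hψe i hi) (hψs i hi)⟩
  let last := LinearEquiv.ofBijective (a (D.n - 1)) ⟨ha _ hn1, LinearMap.lTensor_surjective Rf D.cokerLast⟩
  have key : ∀ k i, i < D.n → D.n = i + 1 + k → Module.Projective Rf (TensorProduct R Rf (D.M i)) := by
    intro k
    induction k with
    | zero =>
      intro i hi hn
      obtain rfl : i = D.n - 1 := by omega
      haveI := hproj _ hi
      exact Module.Projective.of_equiv last
    | succ k ih =>
      intro i hi hn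
      haveI := ih (i + 1) (by omega) (by omega)
      haveI := hproj _ hi
      obtain ⟨e⟩ := Groth.Agent.RGCore.exists_equiv_prod (a i) _ (ha i hi) (hse i (by omega)).2 (hse i (by omega)).1
      exact Module.Projective.of_equiv e.symm
  haveI := key (D.n - 1) 0 D.pos (by omega)
  let eN : LocalizedModule (Submonoid.powers f) N ≃ₗ[Rf] TensorProduct R Rf (D.M 0) :=
    (LocalizedModule.equivTensorProduct (Submonoid.powers f) N).trans
      (LinearEquiv.baseChange R Rf _ _ (D.isoN.restrictScalars R))
  obtain ⟨e⟩ := Groth.Agent.RGCore.exists_equiv_pi_of_chain (R := Rf) D.n D.pos (fun i => TensorProduct R Rf (D.M i))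
    (fun i => Fin (D.r i) → TensorProduct R Rf (D.B i)) (fun i hi => by
      haveI := key (D.n - 1 - (i + 1)) (i + 1) hi (by omega)
      obtain ⟨e⟩ := Groth.Agent.RGCore.exists_equiv_prod (a i) _ (ha i (by omega)) (hse i hi).2 (hse i hi).1
      exact ⟨e.trans (LinearEquiv.prodCongr (π i) (LinearEquiv.refl _ _))⟩)
    ⟨last.symm.trans (π _)⟩
  refine ⟨f, hf, Module.Projective.of_equiv eN.symm, D.n, fun i => TensorProduct R Rf (D.B i), inferInstance,
    inferInstance, fun i => D.r i, fun i => ⟨?_, ?_⟩, ⟨eN.trans e⟩⟩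
  · haveI := hsm i i.2
    infer_instance
  · exact Groth.Agent.RGCore.geomIrredFibres_baseChange (D.geomIrred i i.2) Rf

end Groth.Agent.S1254
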