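import Groth.Statements.S12552
import Mathlib.LinearAlgebra.Dual.Lemmas
import Mathlib.LinearAlgebra.Dimension.Constructions
import Mathlib.Tactic.Linarith
import Mathlib.Tactic.FieldSimp
import Mathlib.Algebra.Order.Field.Basic
import Mathlib.Tactic.Module
import Mathlib.Tactic.LinearCombination
import Mathlib.Tactic.Positivity
import Mathlib.Data.Rat.Lemmas
-- import your own Groth.Agent.* helpers here

set_option autoImplicit false
universe u
open GIT

namespace Groth.Agent.S12552

section

open Module

variable {F : Type*} [Field F] [LinearOrder F] [IsStrictOrderedRing F]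

/-- Farkas' lemma over an ordered field. -/
theorem farkas {W : Type*} [AddCommGroup W] [Module F W] :
    ∀ (m : ℕ) (a : Fin m → W) (b : W), (¬ ∃ lam : Fin m → F, (∀ j, 0 ≤ lam j) ∧ b = ∑ j, lam j • a j) →
      ∃ φ : W →ₗ[F] F, (∀ j, 0 ≤ φ (a j)) ∧ φ b < 0
  | 0, a, b, h => by
    have hb : b ≠ 0 := fun e => h ⟨fun j => j.elim0, fun j => j.elim0, by simp [e]⟩
    obtain ⟨φ, hφ⟩ : ∃ φ : W →ₗ[F] F, φ b ≠ 0 := by
      by_contra hc
      push Not at hc
      exact hb ((Module.forall_dual_apply_eq_zero_iff F b).mp hc)
    exact ⟨(-(φ b)⁻¹) • φ, fun j => j.elim0, by simp [hφ]⟩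
  | m + 1, a, b, h => by
    obtain ⟨φ, hφ, hb⟩ := farkas m (fun j => a j.castSucc) b fun ⟨lam, hl, e⟩ =>
      h ⟨Fin.snoc lam 0, Fin.lastCases (by simp) (by simpa using hl), by simp [Fin.sum_univ_castSucc, e]⟩
    by_cases hlast : 0 ≤ φ (a (Fin.last m))
    · exact ⟨φ, Fin.lastCases hlast hφ, hb⟩
    rw [not_le] at hlast
    set z := a (Fin.last m)
    let pr : W →ₗ[F] W := LinearMap.id - ((φ z)⁻¹ • φ).smulRight z
    have hpr : ∀ x, pr x = x - ((φ z)⁻¹ * φ x) • z := fun x => by simp [pr]
    have hz : pr z = 0 := by rw [hpr, inv_mul_cancel₀ hlast.ne, one_smul, sub_self]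
    obtain ⟨ψ, hψ, hψb⟩ := farkas m (fun j => pr (a j.castSucc)) (pr b) fun ⟨lam, hl, e⟩ => by
      refine h ⟨Fin.snoc lam ((φ z)⁻¹ * φ b - ∑ j, lam j * ((φ z)⁻¹ * φ (a j.castSucc))), ?_, ?_⟩
      · refine Fin.lastCases ?_ (by simpa using hl)
        simp only [Fin.snoc_last, sub_nonneg]
        refine (Finset.sum_nonpos fun j _ => ?_).trans (mul_nonneg_of_nonpos_of_nonpos ?_ hb.le)
        · exact mul_nonpos_of_nonneg_of_nonpos (hl j) (mul_nonpos_of_nonpos_of_nonneg (inv_nonpos.mpr hlast.le) (hφ j))
        · exact inv_nonpos.mpr hlast.le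
      · simp only [Fin.sum_univ_castSucc, Fin.snoc_castSucc, Fin.snoc_last]
        simp only [hpr, smul_sub, Finset.sum_sub_distrib, smul_smul, ← Finset.sum_smul] at e
        rw [sub_smul]
        linear_combination (norm := module) e
    refine ⟨ψ ∘ₗ pr, Fin.lastCases ?_ hψ, hψb⟩
    show 0 ≤ ψ (pr z)
    rw [hz, map_zero]

variable {K : Type*} [Field K] {V : Type*} [AddCommGroup V] [Module K V]

/-- The greedy algorithm: the maximal weight of an independent set bounds every weight vector satisfying the rank
inequalities. -/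
theorem greedy {ι : Type*} [DecidableEq ι] (x : ι → V) (w c : ι → F) (q : F)
    (hrank : ∀ A : Finset ι, ∑ j ∈ A, w j ≤ q * (finrank K (Submodule.span K (x '' (A : Set ι))) : F)) :
    ∀ A : Finset ι, ∀ θ : F, (∀ j ∈ A, θ ≤ c j) →
      ∃ S : Finset ι, S ⊆ A ∧ LinearIndepOn K x (S : Set ι) ∧
        Submodule.span K (x '' (S : Set ι)) = Submodule.span K (x '' (A : Set ι)) ∧
        (∑ j ∈ A, w j * c j) - q * ∑ j ∈ S, c j ≤ θ * ((∑ j ∈ A, w j) - q * (S.card : F)) := by
  intro A
  induction A using Finset.strongInduction with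
  | H A ih =>
  intro θ hθ
  rcases A.eq_empty_or_nonempty with rfl | hA
  · exact ⟨∅, subset_rfl, by simp, rfl, by simp⟩
  obtain ⟨a, ha, hmin⟩ := A.exists_min_image c hA
  obtain ⟨S, hSA, hS, hspan, hle⟩ := ih (A.erase a) (Finset.erase_ssubset ha) (c a)
    fun j hj => hmin j (Finset.mem_of_mem_erase hj)
  have hins : insert a (A.erase a) = A := Finset.insert_erase ha
  have hspanA : Submodule.span K (x '' (A : Set ι)) = Submodule.span K {x a} ⊔ Submodule.span K (x '' (S : Set ι)) := by
    rw [hspan, ← Submodule.span_union, ← Set.insert_eq, ← Set.image_insert_eq, ← Finset.coe_insert, hins]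
  have hsum : ∀ f : ι → F, f a + ∑ j ∈ A.erase a, f j = ∑ j ∈ A, f j := fun f => Finset.add_sum_erase A f ha
  have haS : a ∉ S := fun h => (Finset.notMem_erase a A) (hSA h)
  have hcard : ∀ T : Finset ι, LinearIndepOn K x (T : Set ι) →
      Submodule.span K (x '' (T : Set ι)) = Submodule.span K (x '' (A : Set ι)) →
      (∑ j ∈ A, w j) - q * (T.card : F) ≤ 0 := by
    intro T hT e
    have h1 := hrank A
    rw [← e, Set.image_eq_range, finrank_span_eq_card hT] at h1
    simpa using h1
  by_cases hmem : x a ∈ Submodule.span K (x '' (S : Set ι))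
  · have hsp : Submodule.span K (x '' (S : Set ι)) = Submodule.span K (x '' (A : Set ι)) := by
      rw [hspanA, sup_eq_right.mpr (Submodule.span_le.mpr (Set.singleton_subset_iff.mpr hmem))]
    refine ⟨S, hSA.trans (Finset.erase_subset a A), hS, hsp, ?_⟩
    have h2 := mul_le_mul_of_nonpos_right (hθ a ha) (hcard S hS hsp)
    rw [← hsum (fun j => w j * c j)]
    rw [← hsum w] at h2 ⊢
    linarith [hle, h2]
  · have hI : LinearIndepOn K x (insert a S : Finset ι) := by
      rw [Finset.coe_insert, linearIndepOn_insert (Finset.mem_coe.not.mpr haS)]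
      exact ⟨hS, hmem⟩
    have hsp : Submodule.span K (x '' ((insert a S : Finset ι) : Set ι)) = Submodule.span K (x '' (A : Set ι)) := by
      rw [Finset.coe_insert, Set.image_insert_eq, Submodule.span_insert, hspanA]
    refine ⟨insert a S, Finset.insert_subset ha (hSA.trans (Finset.erase_subset a A)), hI, hsp, ?_⟩
    have h2 := mul_le_mul_of_nonpos_right (hθ a ha) (hcard _ hI hsp)
    rw [Finset.sum_insert haS, ← hsum (fun j => w j * c j)]
    rw [Finset.card_insert_of_notMem haS, Nat.cast_succ, ← hsum w] at h2 ⊢
    linarith [hle, h2]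

end

/-- Let V be a finite-dimensional vector space over a field K and x_0, …, x_m non-zero vectors, a
configuration of m + 1 points of P(V); a set S of dim V indices with (x_j)_(j ∈ S) linearly
independent is a determinant section non-zero at the configuration. Then the configuration is stable
(for every subspace L with 0 ≠ L ≠ V, the number of i with x_i ∈ L times dim V is less than dim L ·
(m + 1)) if and only if there are integers N ≥ N_0 > 0 such that for each index i some non-empty
finite multiset of such sets S contains every index j ≠ i exactly N times and the index i exactly N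
− N_0 times (a monomial in the determinant sections, non-zero at the configuration, of multidegree
(N, …, N − N_0, …, N) with the N − N_0 in place i). -/
theorem result (K : Type u) [Field K]
    (V : Type u) [AddCommGroup V] [Module K V] [FiniteDimensional K V]
    (m : ℕ) (x : Fin (m + 1) → V) (hx : ∀ i, x i ≠ 0) :
    (∀ L : Submodule K V, L ≠ ⊥ → L ≠ ⊤ →
        Set.ncard {i : Fin (m + 1) | x i ∈ L} * Module.finrank K V < Module.finrank K L * (m + 1)) ↔
      ∃ N N₀ : ℕ, 0 < N₀ ∧ N₀ ≤ N ∧
        ∀ i : Fin (m + 1), ∃ P : Multiset (Finset (Fin (m + 1))), P ≠ 0 ∧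
          (∀ S ∈ P, S.card = Module.finrank K V ∧ LinearIndependent K (fun j : S => x j)) ∧
          ∀ j : Fin (m + 1),
            Multiset.card (P.filter (fun S => j ∈ S)) = if j = i then N - N₀ else N := by
  classical
  set n := Module.finrank K V with hn_def
  have hn : 0 < n := by
    by_contra h
    have : Subsingleton V := Module.finrank_zero_iff.mp (Nat.eq_zero_of_not_pos h)
    exact hx 0 (Subsingleton.elim _ _)
  constructor
  · intro hL
    -- the index set of the bases among the points
    let Bs : Finset (Finset (Fin (m + 1))) := Finset.univ.filter fun S =>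
      S.card = n ∧ LinearIndependent K (fun j : S => x j)
    let q : ℚ := ((m : ℚ) + 1 - 1 / ((n : ℚ) + 1)) / n
    have hnq : (0 : ℚ) < n := by exact_mod_cast hn
    have hrank : ∀ i, ∀ A : Finset (Fin (m + 1)), (∑ j ∈ A, (if j = i then 1 - 1 / ((n : ℚ) + 1) else 1)) ≤
        q * (Module.finrank K (Submodule.span K (x '' (A : Set (Fin (m + 1))))) : ℚ) := by
      intro i A
      set L := Submodule.span K (x '' (A : Set (Fin (m + 1))))
      have hsum : (∑ j ∈ A, (if j = i then 1 - 1 / ((n : ℚ) + 1) else 1)) = (A.card : ℚ) - if i ∈ A then 1 / ((n : ℚ) + 1) else 0 := by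
        rw [Finset.sum_congr rfl fun j _ => (show (if j = i then 1 - 1 / ((n : ℚ) + 1) else 1) =
          1 - if j = i then 1 / ((n : ℚ) + 1) else 0 by split_ifs <;> simp), Finset.sum_sub_distrib, Finset.sum_ite_eq']
        simp
      rcases eq_or_ne L ⊥ with hbot | hbot
      · have hA : A = ∅ := by
          refine Finset.eq_empty_of_forall_notMem fun j hj => hx j ?_
          have : x j ∈ L := Submodule.subset_span ⟨j, hj, rfl⟩
          rwa [hbot, Submodule.mem_bot] at this
        rw [hA, Finset.sum_empty, hbot, finrank_bot, Nat.cast_zero, mul_zero]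
      rcases eq_or_ne L ⊤ with htop | htop
      · rw [htop, finrank_top, hsum, ← hn_def, div_mul_cancel₀ _ hnq.ne']
        have h1 : (A.card : ℚ) ≤ (m : ℚ) + 1 := by
          exact_mod_cast (A.card_le_univ.trans_eq (Fintype.card_fin _))
        split_ifs with hi
        · linarith
        · have : A.card + 1 ≤ m + 1 := by
            have := Finset.card_lt_card (Finset.ssubset_univ_iff.mpr (fun h => hi (h ▸ Finset.mem_univ i)) : A ⊂ Finset.univ)
            simpa using this
          have h2 : (A.card : ℚ) + 1 ≤ (m : ℚ) + 1 := by exact_mod_cast this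
          have h3 : 1 / ((n : ℚ) + 1) ≤ 1 := by
            rw [div_le_one (by positivity)]; linarith
          linarith
      · have h1 := hL L hbot htop
        have h2 : A.card ≤ Set.ncard {j : Fin (m + 1) | x j ∈ L} := by
          rw [← Set.ncard_coe_finset A]
          exact Set.ncard_le_ncard (fun j hj => Submodule.subset_span ⟨j, hj, rfl⟩)
        have h3 : (A.card : ℚ) * n + 1 ≤ (Module.finrank K L : ℚ) * ((m : ℚ) + 1) := by
          have : A.card * n + 1 ≤ Module.finrank K L * (m + 1) :=
            Nat.succ_le_of_lt (lt_of_le_of_lt (Nat.mul_le_mul_right n h2) h1)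
          exact_mod_cast this
        have h4 : (Module.finrank K L : ℚ) ≤ n := by exact_mod_cast Submodule.finrank_le L
        rw [hsum, div_mul_eq_mul_div, le_div_iff₀ hnq]
        have h5 : 0 ≤ (if i ∈ A then 1 / ((n : ℚ) + 1) else 0) := by split_ifs <;> positivity
        have h6 : (Module.finrank K L : ℚ) * (1 / ((n : ℚ) + 1)) ≤ 1 := by
          rw [mul_one_div, div_le_one (by positivity)]; linarith
        nlinarith
    have htotal : ∀ i : Fin (m + 1), (∑ j : Fin (m + 1), (if j = i then 1 - 1 / ((n : ℚ) + 1) else 1)) = (m : ℚ) + 1 - 1 / ((n : ℚ) + 1) := by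
      intro i
      rw [Finset.sum_congr rfl fun j _ => (show (if j = i then 1 - 1 / ((n : ℚ) + 1) else 1) =
          1 - if j = i then 1 / ((n : ℚ) + 1) else 0 by split_ifs <;> simp), Finset.sum_sub_distrib, Finset.sum_ite_eq']
      simp
    have hspanuniv : Submodule.span K (x '' ((Finset.univ : Finset (Fin (m + 1))) : Set (Fin (m + 1)))) = ⊤ := by
      by_contra h
      have h1 := hL _ (fun e => hx 0 ?_) h
      · have h2 : Set.ncard {i : Fin (m + 1) | x i ∈ Submodule.span K
            (x '' ((Finset.univ : Finset (Fin (m + 1))) : Set (Fin (m + 1))))} = m + 1 := by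
          rw [Set.eq_univ_of_forall (s := {i : Fin (m + 1) | x i ∈ Submodule.span K
            (x '' ((Finset.univ : Finset (Fin (m + 1))) : Set (Fin (m + 1))))}) fun i =>
            Submodule.subset_span ⟨i, Finset.mem_coe.mpr (Finset.mem_univ i), rfl⟩]
          simp
        rw [h2, mul_comm] at h1
        exact absurd (Nat.lt_of_mul_lt_mul_right h1) (not_lt.mpr (Submodule.finrank_le _))
      · have : x 0 ∈ Submodule.span K (x '' ((Finset.univ : Finset (Fin (m + 1))) : Set (Fin (m + 1)))) :=
          Submodule.subset_span ⟨0, Finset.mem_coe.mpr (Finset.mem_univ 0), rfl⟩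
        rwa [e, Submodule.mem_bot] at this
    -- a rational decomposition for every point
    have hdec : ∀ i, ∃ lam : Bs → ℚ, (∀ S, 0 ≤ lam S) ∧
        ∀ j, (∑ S : Bs, if j ∈ S.1 then lam S else 0) = if j = i then 1 - 1 / ((n : ℚ) + 1) else 1 := by
      intro i
      set e := (Fintype.equivFin Bs).symm
      by_contra hc
      obtain ⟨φ, hφ, hb⟩ := farkas (F := ℚ) _ (fun r j => if j ∈ (e r).1 then (1 : ℚ) else 0)
          (fun j => if j = i then 1 - 1 / ((n : ℚ) + 1) else 1) (fun ⟨lam, hl, hlam⟩ => hc ⟨lam ∘ e.symm, fun S => hl _, fun j => by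
          rw [congrFun hlam j, Finset.sum_apply, ← e.sum_comp]
          simp only [Function.comp, Equiv.symm_apply_apply, Pi.smul_apply, smul_eq_mul, mul_ite, mul_one, mul_zero]⟩)
      let c : Fin (m + 1) → ℚ := fun j => - φ (fun l => if l = j then 1 else 0)
      have hφc : ∀ v : Fin (m + 1) → ℚ, φ v = - ∑ j, v j * c j := fun v => by
        rw [LinearMap.pi_apply_eq_sum_univ φ v, ← Finset.sum_neg_distrib]
        refine Finset.sum_congr rfl fun j _ => ?_
        simp [c, eq_comm]
      obtain ⟨θ, hθ⟩ : ∃ θ, ∀ j, θ ≤ c j :=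
        ⟨Finset.univ.inf' Finset.univ_nonempty c, fun j => Finset.inf'_le _ (Finset.mem_univ j)⟩
      obtain ⟨S, -, hS, hspan, hle⟩ := greedy (K := K) x (fun j => if j = i then 1 - 1 / ((n : ℚ) + 1) else 1) c q
        (hrank i) Finset.univ θ (fun j _ => hθ j)
      have hcard : S.card = n := by
        have := finrank_span_eq_card hS
        rw [show Set.range (fun j : (S : Set (Fin (m + 1))) => x j) = x '' (S : Set _) from (Set.image_eq_range x _).symm,
          hspan, hspanuniv, finrank_top] at this
        simpa using this.symm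
      have hS' : S ∈ Bs := Finset.mem_filter.mpr ⟨Finset.mem_univ S, hcard, hS⟩
      rw [htotal, hcard, div_mul_cancel₀ _ hnq.ne', sub_self, mul_zero] at hle
      have h1 := hφ (e.symm ⟨S, hS'⟩)
      simp only [Equiv.apply_symm_apply, hφc, ite_mul, one_mul, zero_mul, Finset.sum_ite_mem, Finset.univ_inter] at h1
      rw [hφc] at hb
      have h2 : q * ∑ j ∈ S, c j ≤ 0 := by
        refine mul_nonpos_of_nonneg_of_nonpos (div_nonneg ?_ hnq.le) (by linarith)
        have : 1 / ((n : ℚ) + 1) ≤ 1 := by rw [div_le_one (by positivity)]; linarith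
        linarith [(Nat.cast_nonneg m : (0 : ℚ) ≤ m)]
      linarith
    choose lam hlam hlam' using hdec
    let D : ℕ := ∏ p : Fin (m + 1) × Bs, (lam p.1 p.2).den
    have hD : 0 < D := Finset.prod_pos fun p _ => (lam p.1 p.2).den_pos
    have hcount : ∀ i S, ∃ c : ℕ, (c : ℚ) = lam i S * (((n + 1) * D : ℕ) : ℚ) := by
      intro i S
      obtain ⟨t, ht⟩ : (lam i S).den ∣ D := Finset.dvd_prod_of_mem (fun p : Fin (m + 1) × Bs => (lam p.1 p.2).den) (Finset.mem_univ (i, S))
      refine ⟨(lam i S).num.toNat * ((n + 1) * t), ?_⟩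
      have h1 : ((lam i S).num.toNat : ℚ) = lam i S * (lam i S).den := by
        rw [Rat.mul_den_eq_num]
        exact_mod_cast Int.toNat_of_nonneg (Rat.num_nonneg.mpr (hlam i S))
      rw [ht]
      push_cast
      rw [h1]
      ring
    choose cnt hcnt using hcount
    refine ⟨(n + 1) * D, D, hD, Nat.le_mul_of_pos_left D n.succ_pos, fun i => ?_⟩
    refine ⟨∑ S : Bs, Multiset.replicate (cnt i S) S.1, ?_, ?_, ?_⟩
    · intro h
      have h0 : ∀ S : Bs, cnt i S = 0 := fun S => by
        have := congrArg Multiset.card h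
        rw [Multiset.card_sum, Multiset.card_zero, Finset.sum_eq_zero_iff] at this
        simpa using this S (Finset.mem_univ S)
      have h1 : ∀ S, lam i S = 0 := fun S => by
        have := hcnt i S
        rw [h0 S] at this
        simpa [hD.ne', show (n : ℚ) + 1 ≠ 0 by positivity] using this.symm
      have h2 := htotal i
      rw [Finset.sum_congr rfl fun j _ => (hlam' i j).symm] at h2
      simp only [h1, ite_self, Finset.sum_const_zero] at h2
      have : 1 / ((n : ℚ) + 1) < 1 := by rw [div_lt_one (by positivity)]; linarith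
      linarith [(Nat.cast_nonneg m : (0 : ℚ) ≤ m)]
    · intro S hS
      rw [Multiset.mem_sum] at hS
      obtain ⟨S', -, hS'⟩ := hS
      rw [Multiset.eq_of_mem_replicate hS']
      exact (Finset.mem_filter.mp S'.2).2
    · intro j
      have h1 : ((Multiset.card ((∑ S : Bs, Multiset.replicate (cnt i S) S.1).filter (fun S => j ∈ S)) : ℕ) : ℚ) =
          (if j = i then 1 - 1 / ((n : ℚ) + 1) else 1) * (((n + 1) * D : ℕ) : ℚ) := by
        rw [← hlam' i j, Finset.sum_mul, ← Multiset.countP_eq_card_filter]
        have h2 : Multiset.countP (fun S => j ∈ S) (∑ S : Bs, Multiset.replicate (cnt i S) S.1) =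
            ∑ S : Bs, if j ∈ S.1 then cnt i S else 0 := by
          rw [← Multiset.coe_countPAddMonoidHom, map_sum]
          exact Finset.sum_congr rfl fun S _ => by
            simp only [Multiset.coe_countPAddMonoidHom, Multiset.countP_eq_card_filter]
            by_cases hjS : j ∈ S.1
            · rw [if_pos hjS, Multiset.filter_eq_self.mpr fun a ha => (Multiset.eq_of_mem_replicate ha) ▸ hjS,
                Multiset.card_replicate]
            · rw [if_neg hjS, Multiset.filter_eq_nil.mpr fun a ha => (Multiset.eq_of_mem_replicate ha) ▸ hjS,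
                Multiset.card_zero]
        rw [h2]
        push_cast
        exact Finset.sum_congr rfl fun S _ => by split_ifs <;> simp [hcnt]
      split_ifs with hji
      · rw [if_pos hji] at h1
        have : ((((n + 1) * D - D : ℕ)) : ℚ) = (1 - 1 / ((n : ℚ) + 1)) * (((n + 1) * D : ℕ) : ℚ) := by
          rw [Nat.cast_sub (Nat.le_mul_of_pos_left D n.succ_pos)]
          push_cast; field_simp
        exact_mod_cast h1.trans this.symm
      · rw [if_neg hji, one_mul] at h1
        exact_mod_cast h1
  · rintro ⟨N, N₀, hN₀, hN, hP⟩ L hbot htop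
    by_cases hall : ∀ i, x i ∈ L
    · obtain ⟨P, hP0, hPS, -⟩ := hP 0
      obtain ⟨S, hS⟩ := Multiset.exists_mem_of_ne_zero hP0
      obtain ⟨hcard, hli⟩ := hPS S hS
      exfalso
      refine htop (eq_top_iff.mpr ?_)
      rw [← hli.span_eq_top_of_card_eq_finrank' (by rw [Fintype.card_coe]; exact hcard), Submodule.span_le]
      rintro _ ⟨j, rfl⟩
      exact hall j
    push Not at hall
    obtain ⟨i, hi⟩ := hall
    obtain ⟨P, hP0, hPS, hdeg⟩ := hP i
    let d := Module.finrank K L
    let T : Finset (Fin (m + 1)) := Finset.univ.filter fun j => x j ∈ L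
    have hT : Set.ncard {j : Fin (m + 1) | x j ∈ L} = T.card := by
      rw [← Set.ncard_coe_finset T]; congr 1; ext j; simp [T]
    have hdouble : ∀ (U : Finset (Fin (m + 1))) (Q : Multiset (Finset (Fin (m + 1)))),
        ∑ j ∈ U, Multiset.card (Q.filter (fun S => j ∈ S)) = (Q.map fun S => (U ∩ S).card).sum := by
      intro U Q
      induction Q using Multiset.induction with
      | empty => simp
      | cons S Q ih =>
        rw [Multiset.map_cons, Multiset.sum_cons, ← ih, ← Finset.filter_mem_eq_inter, Finset.card_filter,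
          ← Finset.sum_add_distrib]
        refine Finset.sum_congr rfl fun j _ => ?_
        rw [Multiset.filter_cons]
        split_ifs <;> simp [add_comm]
    have h1 : T.card * N ≤ Multiset.card P * d := by
      have e : ∑ j ∈ T, Multiset.card (P.filter (fun S => j ∈ S)) = T.card * N := by
        rw [← smul_eq_mul, ← Finset.sum_const]
        refine Finset.sum_congr rfl fun j hj => ?_
        rw [hdeg, if_neg]
        rintro rfl
        exact hi (Finset.mem_filter.mp hj).2
      rw [← e, hdouble, ← smul_eq_mul]
      refine (Multiset.sum_le_card_nsmul _ d fun c hc => ?_).trans_eq (by rw [Multiset.card_map])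
      obtain ⟨S, hS, rfl⟩ := Multiset.mem_map.mp hc
      have hli : LinearIndepOn K x (S : Set (Fin (m + 1))) := (hPS S hS).2
      have hli' := hli.mono (show ((T ∩ S : Finset _) : Set (Fin (m + 1))) ⊆ S by simp)
      have := finrank_span_eq_card hli'
      simp only [Finset.coe_sort_coe, Fintype.card_coe] at this
      rw [← this]
      refine Submodule.finrank_mono (Submodule.span_le.mpr ?_)
      rintro _ ⟨⟨j, hj⟩, rfl⟩
      exact (Finset.mem_filter.mp (Finset.mem_inter.mp hj).1).2
    have h2 : (m + 1) * N = Multiset.card P * n + N₀ := by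
      have e := hdouble Finset.univ P
      rw [Multiset.map_congr rfl (fun S hS => by rw [Finset.univ_inter, (hPS S hS).1]), Multiset.map_const',
        Multiset.sum_replicate, smul_eq_mul] at e
      rw [← e, ← Finset.add_sum_erase _ _ (Finset.mem_univ i), hdeg, if_pos rfl,
        Finset.sum_congr rfl (fun j hj => (hdeg j).trans (if_neg (Finset.ne_of_mem_erase hj))), Finset.sum_const,
        Finset.card_erase_of_mem (Finset.mem_univ i), Finset.card_univ, Fintype.card_fin, smul_eq_mul]
      simp only [Nat.add_sub_cancel]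
      calc (m + 1) * N = m * N + N := by ring
        _ = N - N₀ + m * N + N₀ := by omega
    rw [hT]
    have hd : 0 < d := Nat.pos_of_ne_zero fun e => hbot (Submodule.finrank_eq_zero.mp e)
    have : T.card * n * N < d * (m + 1) * N := by
      calc T.card * n * N = T.card * N * n := by ring
        _ ≤ Multiset.card P * d * n := Nat.mul_le_mul_right n h1
        _ < Multiset.card P * d * n + d * N₀ := Nat.lt_add_of_pos_right (Nat.mul_pos hd hN₀)
        _ = d * (Multiset.card P * n + N₀) := by ring
        _ = d * (m + 1) * N := by rw [← h2]; ring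
    exact Nat.lt_of_mul_lt_mul_right this

end Groth.Agent.S12552
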