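import Groth.Statements.S1279
import Groth.Agent.BlowUp95.Separate
import Groth.Agent.BlowUpLib.Glue

set_option autoImplicit false
universe u
open FlatMor

namespace Groth.Agent.S1279

open AlgebraicGeometry CategoryTheory Limits Topology in
theorem isCompact_of_isConstructible {X : Scheme.{u}} [CompactSpace X] [QuasiSeparatedSpace X] {s : Set X}
    (hs : IsConstructible s) : IsCompact s := by
  have : Nonempty X.affineOpens := ⟨⟨⊥, isAffineOpen_bot X⟩⟩
  have hb : TopologicalSpace.IsTopologicalBasis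
      (Set.range fun A : X.affineOpens => ((A.1 : X.Opens) : Set X)) := by
    have h := X.isBasis_affineOpens
    rw [TopologicalSpace.Opens.IsBasis] at h
    convert h using 1
    ext t
    simp
  refine IsConstructible.induction_of_isTopologicalBasis (P := fun s _ => IsCompact s) _ hb
    (fun A => A.2.isCompact) (fun A t ht => ?_) (fun s _ t _ hs ht => hs.union ht) s hs
  exact A.2.isCompact.diff (isOpen_biUnion fun B _ => B.1.2)

open AlgebraicGeometry CategoryTheory Limits Topology in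
theorem exists_ideal {X : Scheme.{u}} [CompactSpace X] [QuasiSeparatedSpace X]
    (U : X.Opens) (hU : IsCompact (U : Set X)) (T : Set U) (h : IsClosed T) (c : IsConstructible T) :
    ∃ J : X.IdealSheafData, (∀ V : X.affineOpens, (J.ideal V).FG) ∧
      (J.support : Set X) = (Subtype.val '' Tᶜ)ᶜ := by
  haveI : CompactSpace U := isCompact_iff_compactSpace.mp hU
  haveI : QuasiSeparatedSpace U := U.2.isOpenEmbedding_subtypeVal.quasiSeparatedSpace
  refine BlowUp95.exists_fg_ideal_support _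
    (U.2.isOpenEmbedding_subtypeVal.isOpenMap _ h.isOpen_compl).isClosed_compl ?_
  rw [compl_compl]
  haveI : CompactSpace (U : Scheme.{u}) := ‹CompactSpace U›
  haveI : QuasiSeparatedSpace (U : Scheme.{u}) := ‹QuasiSeparatedSpace U›
  exact IsCompact.image (isCompact_of_isConstructible (X := (U : Scheme.{u})) (s := Tᶜ) c.compl)
    continuous_subtype_val

open AlgebraicGeometry CategoryTheory Limits Topology in
/-- Let X be a quasi-compact and quasi-separated scheme, U ⊆ X a quasi-compact open, and T₁, T₂ ⊆ U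
disjoint subsets which are closed and constructible in U. Then there is a U-admissible blow-up b :
X' → X such that the closures in X' of the preimages of T₁ and T₂ are disjoint. (Part (1), about
strict transforms of closed subschemes, is not stated.) -/
theorem result {X : Scheme.{u}} [CompactSpace X] [QuasiSeparatedSpace X]
    (U : X.Opens) (hU : IsCompact (U : Set X)) (T₁ T₂ : Set U)
    (h₁ : IsClosed T₁) (h₂ : IsClosed T₂) (c₁ : IsConstructible T₁) (c₂ : IsConstructible T₂) (hd : Disjoint T₁ T₂) :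
    ∃ (𝓘 : X.IdealSheafData) (X' : Scheme.{u}) (b : X' ⟶ X), BlowUp.IsBlowUp b 𝓘 ∧ BlowUp.IsAdmissibleFor U 𝓘 ∧
      Disjoint (closure (b.base ⁻¹' (Subtype.val '' T₁))) (closure (b.base ⁻¹' (Subtype.val '' T₂))) := by
  obtain ⟨J₁, hfg₁, hs₁⟩ := exists_ideal U hU T₁ h₁ c₁
  obtain ⟨J₂, hfg₂, hs₂⟩ := exists_ideal U hU T₂ h₂ c₂
  have hsupp : ((J₁ ⊔ J₂).support : Set X) = (J₁.support : Set X) ∩ (J₂.support : Set X) := by
    simp
  have hdU : ∀ x ∈ (U : Set X), x ∉ ((J₁ ⊔ J₂).support : Set X) := by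
    intro x hx hmem
    rw [hsupp, hs₁, hs₂] at hmem
    have e₁ : (⟨x, hx⟩ : U) ∈ T₁ := by_contra fun h => hmem.1 ⟨⟨x, hx⟩, h, rfl⟩
    have e₂ : (⟨x, hx⟩ : U) ∈ T₂ := by_contra fun h => hmem.2 ⟨⟨x, hx⟩, h, rfl⟩
    exact Set.disjoint_left.1 hd e₁ e₂
  have hft : BlowUp.IsFiniteTypeIdeal (J₁ ⊔ J₂) := fun V => by
    rw [Scheme.IdealSheafData.ideal_sup, Pi.sup_apply]
    exact Submodule.FG.sup (hfg₁ V) (hfg₂ V)
  have hsub : ∀ (J : X.IdealSheafData) (T : Set U),
      (J.support : Set X) = (Subtype.val '' Tᶜ)ᶜ → Subtype.val '' T ⊆ (J.support : Set X) := by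
    rintro J T hJ _ ⟨t, ht, rfl⟩
    rw [hJ]
    rintro ⟨t', ht', e⟩
    exact ht' (Subtype.ext e ▸ ht)
  obtain ⟨X', b, hb⟩ := Groth.Agent.BlowUpLib.exists_blowUp (C := J₁ ⊔ J₂)
  refine ⟨J₁ ⊔ J₂, X', b, hb, ⟨hft, Set.disjoint_right.2 hdU⟩, ?_⟩
  rw [Set.disjoint_left]
  intro y hy₁ hy₂
  have hle : (J₁ ⊔ J₂).comap (𝟙 X) ≤ J₁.comap (𝟙 X) ⊔ J₂ := by simp
  have hmem : ∀ (T : Set U), ∀ x ∈ Subtype.val '' T, x ∉ ((J₁ ⊔ J₂).support : Set X) := by
    rintro T _ ⟨t, _, rfl⟩
    exact hdU t.1 t.2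
  refine BlowUp95.separate (𝟙 X) (J := J₁) J₂ le_sup_left hle hb _ (hsub _ _ hs₁) (hmem T₁)
    (Subtype.val '' T₂) (hsub _ _ hs₂) (hmem T₂) ((inv (pullback.snd (𝟙 X) b)).base y) ?_ ?_
  · rwa [← Scheme.Hom.comp_apply, IsIso.inv_hom_id]
  · refine map_mem_closure (inv (pullback.snd (𝟙 X) b)).continuous hy₂ fun w hw => ?_
    have e : inv (pullback.snd (𝟙 X) b) ≫ pullback.fst (𝟙 X) b = b := by
      rw [IsIso.inv_comp_eq, ← pullback.condition, Category.comp_id]
    show (pullback.fst (𝟙 X) b).base ((inv (pullback.snd (𝟙 X) b)).base w) ∈ (Subtype.val '' T₂ : Set X)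
    rw [← Scheme.Hom.comp_apply, e]
    exact hw

end Groth.Agent.S1279
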