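import Groth.Statements.S12912
import Groth.Agent.S1564
import Groth.Agent.S0843
import Groth.Agent.CurveCohLib.Clifford
import Groth.Agent.CurveCohLib.Skyscraper
import Groth.Agent.Curves16.HomogDim
import Groth.Agent.PnCoh.Finite.TwistInv
import Groth.Agent.Lib.AmpleEmbed
import Groth.Agent.PicClLib.Basic
import Groth.Agent.InvX.GenLocus
-- import your own Groth.Agent.* helpers here

set_option autoImplicit false
universe u
open CategoryTheory CategoryTheory.Limits AlgebraicGeometry
open Curves

namespace Groth.Agent.S12912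

/-- Let k be an algebraically closed field and X a curve over k (integral, proper over k, of dimension
one) with a closed immersion i : X → P^r_k over k whose image lies in no hyperplane: every nonzero
global section of O(1) on P^r_k pulls back to a nonzero global section of i^* O(1). Then deg i^*
O(1) ≥ r. -/
theorem result (k : Type u) [Field k] [IsAlgClosed k] (r : ℕ)
    (X : Scheme.{u}) [X.Over (Spec (CommRingCat.of k))] [IsIntegral X] [IsProper (X ↘ (Spec (CommRingCat.of k)))]
    (hdim : topologicalKrullDim X = 1)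
    (i : X ⟶ CohB1.ProjSpace r k) [IsClosedImmersion i]
    (hi : i ≫ CohB1.ProjSpace.toSpec r k = (X ↘ (Spec (CommRingCat.of k))))
    (hplane : ∀ s : LinSer.Sect (CohB1.ProjSpace r k) (Twist.twistProjSpace r k 1), s ≠ 0 →
      OmegaSh.pullSect i (Twist.twistProjSpace r k 1) ⊤ s ≠ 0) :
    (r : ℤ) ≤ Curv2.deg k X ((Scheme.Modules.pullback i).obj (Twist.twistProjSpace r k 1)) 1 := by
  have h0 := Groth.Agent.CurveCohLib.Clifford.finrank_h0_structure k (X := X)
  haveI := Groth.Agent.CurveCohLib.isNoetherian_of_proper (k := k) (X := X)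
  let q := CohB1.ProjSpace.toSpec r k
  letI : (CohB1.ProjSpace r k).Over (Spec (CommRingCat.of k)) := ⟨q⟩
  let O1 := Twist.twistProjSpace r k 1
  let L := (Scheme.Modules.pullback i).obj O1
  have hL : PicF.IsInvertible L := Groth.Agent.PicClLib.isInvertible_pullback i
    (Groth.Agent.PnCoh.Finite.isInvertible_twist (fun j : ULift.{u} (Fin (r + 1)) => MvPolynomial.X j.down)
      (fun j => Groth.Agent.ProjPt.X_mem j.down) (by
        refine top_le_iff.1 ((Groth.Agent.AmpleEmbed.iSup_basicOpen_X r k).ge.trans (iSup_le fun j => ?_))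
        exact le_iSup_of_le (ULift.up j) le_rfl) (1 : ℤ))
  let eP := Sheaf.H.equiv₀ (Coh.toAb O1) isTerminalTop
  let eX := Sheaf.H.equiv₀ (Coh.toAb L) isTerminalTop
  let F : Coh.HH (CohB1.ProjSpace r k) O1 0 →ₗ[k] Coh.HH X L 0 :=
    { toFun := fun t => eX.symm (OmegaSh.pullSect i O1 ⊤ (eP t) : Γ(L, ⊤))
      map_add' := fun a b =>
        (congrArg eX.symm ((congrArg (OmegaSh.pullSect i O1 ⊤) (map_add eP a b)).trans
          ((OmegaSh.pullSect i O1 ⊤).hom.map_add (eP a) (eP b)))).trans (map_add eX.symm _ _)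
      map_smul' := fun c t => eX.injective (by
        refine (AddEquiv.apply_symm_apply eX _).trans ?_
        refine Eq.trans ?_ (Groth.Agent.CurveCohLib.h0Equiv_smul L c _).symm
        refine Eq.trans ?_ (congrArg (_ • ·) (AddEquiv.apply_symm_apply eX _).symm)
        refine (congrArg (OmegaSh.pullSect i O1 ⊤) (Groth.Agent.CurveCohLib.h0Equiv_smul O1 c t)).trans ?_
        refine (OmegaSh.pullSect_smul i O1 ⊤ _ _).trans ?_
        refine congrArg (· • (OmegaSh.pullSect i O1 ⊤ (eP t))) ?_
        show i.app ⊤ ((CohB1.ProjSpace r k).presheaf.map (𝟙 (Opposite.op ⊤)) (Coh.toGlobal q c)) =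
          X.presheaf.map (𝟙 (Opposite.op ⊤)) (Coh.toGlobal (X ↘ Spec (CommRingCat.of k)) c)
        rw [CategoryTheory.Functor.map_id, CategoryTheory.Functor.map_id, ← hi]
        rfl) }
  have hF : Function.Injective F := (injective_iff_map_eq_zero F).2 fun t ht => by
    by_contra hne
    refine hplane (eP t) (fun h => hne (eP.injective (h.trans (map_zero eP).symm))) ?_
    exact (AddEquiv.apply_symm_apply eX _).symm.trans ((congrArg eX ht).trans (map_zero eX))
  haveI : Module.Finite k (Coh.HH X L 0) := Groth.Agent.CurveCohLib.finite_HH (k := k)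
    (Groth.Agent.CurveDeg.isCoh_of_isInvertible hL) 0
  have h1 := LinearMap.finrank_le_finrank_of_injective hF
  obtain ⟨φ⟩ := Groth.Agent.S0843.result k r 1
  have h2 : Module.finrank k (Coh.HH (CohB1.ProjSpace r k) O1 0) = r + 1 := by
    rw [show Module.finrank k (Coh.HH (CohB1.ProjSpace r k) O1 0) = _ from φ.finrank_eq,
      Groth.Agent.Curves16.finrank_forms k (r + 1) 1]
    simp
  haveI : Nontrivial (Coh.HH X L 0) := Module.nontrivial_of_finrank_pos (R := k) (by omega)
  have h3 := (Groth.Agent.S1564.result k X hdim h0 L hL inferInstance).1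
  show (r : ℤ) ≤ Curv2.deg k X L 1
  omega

end Groth.Agent.S12912
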