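import Groth.Statements.S1293
import Groth.Agent.FlatB12.ProjUI
import Mathlib.LinearAlgebra.TensorProduct.Quotient

set_option autoImplicit false
universe u
open FlatMor

namespace Groth.Agent.S1293

open TensorProduct in
/-- Let B be a finitely presented A-algebra, T ⊆ B a multiplicative subset and N a finitely presented
T⁻¹B-module which admits a pure spreadout (FlatCA.HasPureSpreadout). Then (1) every x ∈ N has a
content ideal, i.e. a smallest ideal I of A with x ∈ IN; and (2) every A-linear map u from N to a
flat A-module M such that u ⊗ A/𝔪 is injective for every maximal ideal 𝔪 of A is universally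
injective over A. -/
theorem result {A B : Type u} [CommRing A] [CommRing B] [Algebra A B] [Algebra.FinitePresentation A B]
    (T : Submonoid B) (N : Type u) [AddCommGroup N] [Module (Localization T) N] [Module A N] [IsScalarTower A (Localization T) N]
    [Module.FinitePresentation (Localization T) N] (h : FlatCA.HasPureSpreadout A B T N) :
    (∀ x : N, ∃ I : Ideal A, x ∈ I • (⊤ : Submodule A N) ∧ ∀ J : Ideal A, x ∈ J • (⊤ : Submodule A N) → I ≤ J) ∧
    ∀ (M : Type u) [AddCommGroup M] [Module A M] [Module.Flat A M] (u : N →ₗ[A] M),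
      (∀ (m : Ideal A) [m.IsMaximal], Function.Injective (u.lTensor (A ⧸ m))) → FlatCA.UnivInj A u := by
  classical
  obtain ⟨C, _, _, _, _, _, _, _, _, _, _, N', _, _, _, _, g, -, -, hg, hproj, hui⟩ := h
  let σ : Localization T → (N →ₗ[A] N) := fun z => (LinearMap.lsmul (Localization T) N z).restrictScalars A
  let inv : T → Localization T := fun t => IsLocalization.mk' (Localization T) (1 : B) t
  have hσ : ∀ t : T, ∀ x, σ (inv t) (σ (algebraMap B _ (t : B)) x) = x := fun t x => by
    show inv t • (algebraMap B (Localization T) (t : B)) • x = x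
    rw [smul_smul, IsLocalization.mk'_spec, map_one, one_smul]
  have hσ' : ∀ t : T, ∀ x, σ (algebraMap B _ (t : B)) (σ (inv t) x) = x := fun t x => by
    show algebraMap B (Localization T) (t : B) • inv t • x = x
    rw [smul_smul, IsLocalization.mk'_spec', map_one, one_smul]
  have hgB : ∀ (b : B) (y : N'), algebraMap B (Localization T) b • g y = g (algebraMap B C b • y) := fun b y => by
    rw [map_smul, IsScalarTower.algebraMap_apply B C (Localization T), algebraMap_smul]
  have hsurj : ∀ x : N, ∃ (t : T) (y : N'), σ (algebraMap B _ (t : B)) x = g y := fun x => by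
    induction x using hg.inductionOn with
    | zero => exact ⟨1, 0, by simp⟩
    | tmul y => exact ⟨1, y, by show algebraMap B (Localization T) _ • g y = g y; rw [OneMemClass.coe_one, map_one, one_smul]⟩
    | smul z x hx =>
      obtain ⟨t, y, hy⟩ := hx
      obtain ⟨⟨b, s⟩, hb⟩ := IsLocalization.surj T z
      refine ⟨s * t, algebraMap B C b • y, ?_⟩
      rw [← hgB]
      show algebraMap B (Localization T) ((s : B) * (t : B)) • z • x = _ • g y
      rw [← hy, ← hb, map_mul]
      show _ = (z * algebraMap B (Localization T) (s : B)) • algebraMap B (Localization T) (t : B) • x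
      rw [smul_smul, smul_smul]
      congr 1
      ring
    | add x x' hx hx' =>
      obtain ⟨t, y, hy⟩ := hx
      obtain ⟨t', y', hy'⟩ := hx'
      refine ⟨t * t', algebraMap B C (t' : B) • y + algebraMap B C (t : B) • y', ?_⟩
      rw [map_add g, ← hgB, ← hgB, ← hy, ← hy']
      show algebraMap B (Localization T) ((t : B) * (t' : B)) • (x + x') =
        algebraMap B (Localization T) (t' : B) • algebraMap B (Localization T) (t : B) • x +
          algebraMap B (Localization T) (t : B) • algebraMap B (Localization T) (t' : B) • x'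
      rw [smul_smul, smul_smul, smul_add, map_mul, mul_comm (algebraMap B (Localization T) (t' : B))]
  refine ⟨fun x => ?_, fun M _ _ _ u hu => ?_⟩
  · obtain ⟨t, y, hy⟩ := hsurj x
    obtain ⟨i, hi⟩ := Module.projective_def'.1 hproj
    refine ⟨Ideal.span (Set.range (i y)), ?_, fun J hJ => ?_⟩
    · have h1 : y ∈ Ideal.span (Set.range (i y)) • (⊤ : Submodule A N') := by
        generalize hI : Ideal.span (Set.range (i y)) = I₀
        rw [← show Finsupp.linearCombination A id (i y) = y from LinearMap.congr_fun hi y,
          Finsupp.linearCombination_apply]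
        exact Submodule.sum_mem _ fun n _ =>
          Submodule.smul_mem_smul (hI ▸ Ideal.subset_span ⟨n, rfl⟩) Submodule.mem_top
      rw [← hσ t x, hy]
      exact Submodule.smul_top_le_comap_smul_top _ (σ (inv t) ∘ₗ g.restrictScalars A) h1
    · have h1 : g y ∈ J • (⊤ : Submodule A N) := hy ▸ Submodule.smul_top_le_comap_smul_top _ (σ _) hJ
      have h2 : y ∈ J • (⊤ : Submodule A N') := by
        have h3 : ((1 : A ⧸ J) ⊗ₜ[A] g y) = 0 := by
          refine (TensorProduct.quotTensorEquivQuotSMul N J).injective ?_
          rw [map_zero, show (1 : A ⧸ J) = Ideal.Quotient.mk J 1 from rfl,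
            TensorProduct.quotTensorEquivQuotSMul_mk_tmul, one_smul, Submodule.Quotient.mk_eq_zero]
          exact h1
        have h4 : ((1 : A ⧸ J) ⊗ₜ[A] y) = 0 := hui (A ⧸ J) (by rw [LinearMap.lTensor_tmul, map_zero]; exact h3)
        have h5 := congrArg (TensorProduct.quotTensorEquivQuotSMul N' J) h4
        rwa [map_zero, show (1 : A ⧸ J) = Ideal.Quotient.mk J 1 from rfl,
          TensorProduct.quotTensorEquivQuotSMul_mk_tmul, one_smul, Submodule.Quotient.mk_eq_zero] at h5
      rw [Ideal.span_le]
      rintro _ ⟨n, rfl⟩
      have h6 := Submodule.smul_top_le_comap_smul_top J (Finsupp.lapply n ∘ₗ i) h2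
      rw [Submodule.mem_comap, smul_eq_mul, Ideal.mul_top] at h6
      exact h6
  · intro Q _ _
    have hsT : ∀ z : Q ⊗[A] N, ∃ (t : T) (z' : Q ⊗[A] N'),
        (σ (algebraMap B _ (t : B))).lTensor Q z = (g.restrictScalars A).lTensor Q z' := by
      intro z
      induction z with
      | zero => exact ⟨1, 0, by simp⟩
      | tmul q x =>
        obtain ⟨t, y, hy⟩ := hsurj x
        exact ⟨t, q ⊗ₜ y, by rw [LinearMap.lTensor_tmul, LinearMap.lTensor_tmul, hy]; rfl⟩
      | add z z' hz hz' =>
        obtain ⟨t, w, hw⟩ := hz
        obtain ⟨t', w', hw'⟩ := hz'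
        let κ : B → (N' →ₗ[A] N') := fun b => (LinearMap.lsmul C N' (algebraMap B C b)).restrictScalars A
        have hκ : ∀ b, σ (algebraMap B _ b) ∘ₗ g.restrictScalars A = g.restrictScalars A ∘ₗ κ b :=
          fun b => LinearMap.ext fun y => hgB b y
        have hmul : ∀ a b : B, σ (algebraMap B _ (a * b)) = σ (algebraMap B _ a) ∘ₗ σ (algebraMap B _ b) := fun a b =>
          LinearMap.ext fun x => by
            show algebraMap B (Localization T) (a * b) • x = algebraMap B (Localization T) a • algebraMap B (Localization T) b • x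
            rw [map_mul, mul_smul]
        refine ⟨t * t', (κ t').lTensor Q w + (κ t).lTensor Q w', ?_⟩
        rw [map_add, map_add, Submonoid.coe_mul, ← LinearMap.lTensor_comp_apply, ← LinearMap.lTensor_comp_apply, ← hκ, ← hκ]
        congr 1
        · rw [mul_comm, hmul, LinearMap.lTensor_comp_apply, LinearMap.lTensor_comp_apply, hw]
        · rw [hmul, LinearMap.lTensor_comp_apply, LinearMap.lTensor_comp_apply, hw']
    rw [injective_iff_map_eq_zero]
    intro z hz
    obtain ⟨t, z', hz'⟩ := hsT z
    haveI := hproj
    have hu' : FlatCA.UnivInj A (u ∘ₗ σ (inv t) ∘ₗ g.restrictScalars A) := by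
      refine FlatB12.univInj_of_projective_of_flat _ fun P _ => ?_
      rw [LinearMap.lTensor_comp, LinearMap.lTensor_comp, LinearMap.coe_comp, LinearMap.coe_comp]
      refine (hu P).comp (Function.Injective.comp ?_ (hui _))
      refine Function.LeftInverse.injective (g := (σ (algebraMap B _ (t : B))).lTensor (A ⧸ P)) fun w => ?_
      rw [← LinearMap.lTensor_comp_apply, show σ (algebraMap B _ (t : B)) ∘ₗ σ (inv t) = LinearMap.id from
        LinearMap.ext (hσ' t), LinearMap.lTensor_id, LinearMap.id_apply]
    have h1 : (σ (inv t)).lTensor Q ((g.restrictScalars A).lTensor Q z') = z := by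
      rw [← hz', ← LinearMap.lTensor_comp_apply, show σ (inv t) ∘ₗ σ (algebraMap B _ (t : B)) = LinearMap.id from
        LinearMap.ext (hσ t), LinearMap.lTensor_id, LinearMap.id_apply]
    have h2 : z' = 0 := hu' Q (by
      rw [map_zero, LinearMap.lTensor_comp_apply, LinearMap.lTensor_comp_apply, h1, hz])
    rw [← h1, h2, map_zero, map_zero]

end Groth.Agent.S1293
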