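import Groth.Statements.S1294
import Groth.Agent.FlatB12.Spreadout.Main
import Groth.Agent.FlatB12.Spreadout.Descend
import Groth.Agent.FlatB12.Spreadout.Torsion
import Groth.Agent.RGCore.Reduce

set_option autoImplicit false
universe u
open FlatMor

namespace Groth.Agent.S1294

open IsLocalRing in
/-- Let B be a finitely presented A-algebra, T ⊆ B a multiplicative subset and N a finitely presented
T⁻¹B-module. Then for every prime p of A there is a finitely generated ideal I of A_p contained in
its maximal ideal such that, writing A₁ = A_p/I, B₁ = B ⊗_A A₁, T₁ for the image of T in B₁ and N₁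
for the base change of N (a T₁⁻¹B₁-module; any models), the base-changed data admits a pure
spreadout over A₁. -/
theorem result {A B : Type u} [CommRing A] [CommRing B] [Algebra A B] [Algebra.FinitePresentation A B]
    (T : Submonoid B) (N : Type u) [AddCommGroup N] [Module (Localization T) N] [Module B N] [Module A N]
    [IsScalarTower B (Localization T) N] [IsScalarTower A (Localization T) N] [IsScalarTower A B N]
    [Module.FinitePresentation (Localization T) N] (p : Ideal A) [p.IsPrime] :
    ∃ I : Ideal (Localization.AtPrime p), I.FG ∧ I ≤ maximalIdeal (Localization.AtPrime p) ∧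
      ∀ (B₁ N₁ : Type u) [CommRing B₁] [Algebra B B₁] [Algebra (Localization.AtPrime p ⧸ I) B₁] [Algebra A B₁]
        [IsScalarTower A B B₁] [IsScalarTower A (Localization.AtPrime p ⧸ I) B₁]
        [Algebra.IsPushout A B (Localization.AtPrime p ⧸ I) B₁]
        [AddCommGroup N₁] [Module (Localization (T.map (algebraMap B B₁))) N₁] [Module (Localization.AtPrime p ⧸ I) N₁]
        [IsScalarTower (Localization.AtPrime p ⧸ I) (Localization (T.map (algebraMap B B₁))) N₁]
        [Module B N₁] [IsScalarTower B (Localization (T.map (algebraMap B B₁))) N₁]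
        [Module A N₁] [IsScalarTower A (Localization.AtPrime p ⧸ I) N₁] [IsScalarTower A B N₁]
        (h : N →ₗ[B] N₁), IsBaseChange (Localization.AtPrime p ⧸ I) (h.restrictScalars A) →
        FlatCA.HasPureSpreadout (Localization.AtPrime p ⧸ I) B₁ (T.map (algebraMap B B₁)) N₁ := by
  classical
  obtain ⟨NB, _, _, l, hl, hfp⟩ := RGCore.exists_fp_model T (Bt := Localization T) N
  letI : Module A NB := Module.compHom NB (algebraMap A B)
  haveI : IsScalarTower A B NB := .of_algebraMap_smul fun _ _ => rfl
  obtain ⟨n, φ, _, hφ, hact, hfp'⟩ := RGCore.exists_presentation (A := A) (B := B) NB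
  haveI : IsScalarTower A (MvPolynomial (Fin n) A) NB := .of_algebraMap_smul fun a x => by
    rw [hact, AlgHom.commutes, algebraMap_smul]
  letI : Field (Localization.AtPrime p ⧸ maximalIdeal (Localization.AtPrime p)) := Ideal.Quotient.field _
  obtain ⟨t₀, ht₀, hbound⟩ := FlatB12.Spreadout.exists_torsion_bound (A := A) T NB
    (Localization.AtPrime p ⧸ maximalIdeal (Localization.AtPrime p))
  obtain ⟨f, hf⟩ := hφ t₀
  obtain ⟨A₀, hA₀, M₀, _, _, _, _, j, f₀, hfin, hj, hf₀, hjg⟩ := FlatB12.Spreadout.exists_descent NB f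
  haveI : IsNoetherianRing A₀ := isNoetherianRing_of_fg hA₀
  let p₀ : Ideal A₀ := p.comap (algebraMap A₀ A)
  let I : Ideal (Localization.AtPrime p) := p₀.map (algebraMap A₀ (Localization.AtPrime p))
  refine ⟨I, Ideal.FG.map (IsNoetherian.noetherian p₀) _, Ideal.map_le_iff_le_comap.2 fun a ha => ?_, ?_⟩
  · rw [Ideal.mem_comap, IsScalarTower.algebraMap_apply A₀ A (Localization.AtPrime p)]
    exact (IsLocalization.AtPrime.to_map_mem_maximal_iff (Localization.AtPrime p) p _).2 ha
  intro B₁ N₁ _ _ _ _ _ _ _ _ _ _ _ _ _ _ _ _ h hh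
  let A₁ := Localization.AtPrime p ⧸ I
  have hp₀ : ∀ a ∈ p₀, algebraMap A₀ A₁ a = 0 := fun a ha => by
    rw [IsScalarTower.algebraMap_apply A₀ (Localization.AtPrime p) A₁, Ideal.Quotient.algebraMap_eq]
    exact Ideal.Quotient.eq_zero_iff_mem.2 (Ideal.mem_map_of_mem _ ha)
  obtain ⟨k, _, _, _, _, hk⟩ := FlatB12.Spreadout.exists_field_factor p₀ hp₀ (fun a ha => by
    rw [IsScalarTower.algebraMap_apply A₀ A A₁, IsScalarTower.algebraMap_apply A (Localization.AtPrime p) A₁]
    exact (IsLocalization.map_units (Localization.AtPrime p) (⟨_, ha⟩ : p.primeCompl)).map _)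
  haveI := hl
  refine FlatB12.Spreadout.hasPureSpreadout T l j hj
    (fun g => φ (MvPolynomial.map (algebraMap A₀ A) g)) (fun g x => ?_) f₀ (by rw [hf₀, hf]; exact ht₀)
    (k := k) hk (fun P _ t ht z hz => ?_) h hh
  · rw [← hjg, hact]
  · letI : Field (A₁ ⧸ P) := Ideal.Quotient.field P
    let π : Localization.AtPrime p →ₐ[A] A₁ ⧸ P := (Ideal.Quotient.mkₐ A P).comp (Ideal.Quotient.mkₐ A I)
    have hπ : Function.Surjective π := (Ideal.Quotient.mkₐ_surjective A P).comp (Ideal.Quotient.mkₐ_surjective A I)
    haveI := RingHom.ker_isMaximal_of_surjective π.toRingHom hπ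
    let e := (Ideal.quotientEquivAlgOfEq A (IsLocalRing.eq_maximalIdeal
      (RingHom.ker_isMaximal_of_surjective π.toRingHom hπ)).symm).trans (Ideal.quotientKerAlgEquivOfSurjective hπ)
    rw [hf₀, hf]
    exact FlatB12.Spreadout.torsion_bound_congr e.toLinearEquiv (hbound t ht) z hz

end Groth.Agent.S1294
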