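import Groth.Statements.S13044
import Mathlib.AlgebraicGeometry.Morphisms.ClosedImmersion
import Mathlib.AlgebraicGeometry.Morphisms.Flat
import Mathlib.RingTheory.Flat.Basic
import Mathlib.RingTheory.DiscreteValuationRing.Basic
import Mathlib.RingTheory.Localization.FractionRing

set_option autoImplicit false
set_option backward.isDefEq.respectTransparency false
universe u
open MaxMod

namespace Groth.Agent.S13044

open CategoryTheory Limits AlgebraicGeometry TopologicalSpace Opposite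

lemma res_injective {X : Scheme.{u}} (s : Γ(X, ⊤))
    (hs : ∀ U : X.Opens, IsAffineOpen U → IsSMulRegular Γ(X, U) (X.presheaf.map (homOfLE (le_top : U ≤ ⊤)).op s))
    {W' W : X.Opens} (hW : W' = W ⊓ X.basicOpen s) (h : W' ≤ W) :
    Function.Injective (X.presheaf.map (homOfLE h).op) := by
  subst hW
  rw [injective_iff_map_eq_zero]
  intro a ha
  refine TopCat.Sheaf.eq_of_locally_eq' X.sheaf (fun U : {U : X.Opens // IsAffineOpen U ∧ U ≤ W} => U.1) W
    (fun U => homOfLE U.2.2) (fun x hx => ?_) a 0 (fun U => ?_)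
  · obtain ⟨U, hU, hxU, hUW⟩ := exists_isAffineOpen_mem_and_subset (U := W) hx
    exact Opens.mem_iSup.2 ⟨⟨U, hU, hUW⟩, hxU⟩
  · obtain ⟨U, hU, hUW⟩ := U
    rw [map_zero]
    set b : Γ(X, U) := X.presheaf.map (homOfLE hUW).op a with hb
    change b = 0
    set sU : Γ(X, U) := X.presheaf.map (homOfLE (le_top : U ≤ ⊤)).op s with hsU
    have hloc := hU.isLocalization_basicOpen sU
    have hle : X.basicOpen sU ≤ W ⊓ X.basicOpen s := by
      rw [hsU, Scheme.basicOpen_res]; exact inf_le_inf hUW le_rfl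
    have h0 : algebraMap Γ(X, U) Γ(X, X.basicOpen sU) b = 0 := by
      have : X.presheaf.map (homOfLE (hle.trans inf_le_left)).op a = 0 := by
        rw [show (homOfLE (hle.trans inf_le_left)).op = (homOfLE h).op ≫ (homOfLE hle).op from Subsingleton.elim _ _,
          Functor.map_comp, CommRingCat.comp_apply, ha, map_zero]
      rw [← this]
      change (X.presheaf.map (homOfLE (X.basicOpen_le sU)).op).hom b = _
      rw [hb, ← CommRingCat.comp_apply, ← Functor.map_comp]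
      rfl
    obtain ⟨⟨_, n, rfl⟩, hn⟩ := (IsLocalization.map_eq_zero_iff (Submonoid.powers sU) _ b).1 h0
    exact (hs U hU).pow n (show sU ^ n • b = sU ^ n • (0 : Γ(X, U)) by simpa using hn)

lemma ker_ι_comp {X Y : Scheme.{u}} (g : X ⟶ Y) (s : Γ(X, ⊤))
    (hs : ∀ U : X.Opens, IsAffineOpen U → IsSMulRegular Γ(X, U) (X.presheaf.map (homOfLE (le_top : U ≤ ⊤)).op s)) :
    ((X.basicOpen s).ι ≫ g).ker = g.ker := by
  unfold Scheme.Hom.ker
  congr 1
  funext U
  change RingHom.ker (((X.basicOpen s).ι.app (g ⁻¹ᵁ U)).hom.comp (g.app U).hom) = _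
  refine RingHom.ker_comp_of_injective _ ?_
  rw [Scheme.Opens.ι_app]
  refine res_injective s hs ?_ _
  rw [Scheme.Hom.image_preimage_eq_opensRange_inf, Scheme.Opens.opensRange_ι, inf_comm]

lemma factors_of_generic {R K : Type u} [CommRing R] [IsDomain R] [IsDiscreteValuationRing R]
    [Field K] [Algebra R K] [IsFractionRing R K] {X W Z : Scheme.{u}}
    (f : X ⟶ Spec (CommRingCat.of R)) [Flat f] (i : Z ⟶ W) [IsClosedImmersion i] (g : X ⟶ W)
    (h : ∀ (V : Scheme.{u}) (j : V ⟶ X) (s : V ⟶ Spec (CommRingCat.of K)),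
      j ≫ f = s ≫ Spec.map (CommRingCat.ofHom (algebraMap R K)) → ∃ c, c ≫ i = j ≫ g) :
    ∃ d, d ≫ i = g := by
  obtain ⟨ϖ, hϖ⟩ := IsDiscreteValuationRing.exists_irreducible R
  let φ : R →+* Γ(X, ⊤) := ((Scheme.ΓSpecIso (CommRingCat.of R)).inv ≫ f.appTop).hom
  set s := φ ϖ with hs
  have hreg : ∀ U : X.Opens, IsAffineOpen U → IsSMulRegular Γ(X, U) (X.presheaf.map (homOfLE (le_top : U ≤ ⊤)).op s) := by
    intro U hU
    have hfl := f.flat_appLE (isAffineOpen_top _) hU (le_top : U ≤ f ⁻¹ᵁ ⊤)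
    letI := (f.appLE ⊤ U le_top).hom.toAlgebra
    have : Module.Flat Γ(Spec (CommRingCat.of R), ⊤) Γ(X, U) := hfl
    have h0 : IsSMulRegular Γ(Spec (CommRingCat.of R), ⊤) ((Scheme.ΓSpecIso (CommRingCat.of R)).inv ϖ) := by
      intro a b hab
      have hinj := (Scheme.ΓSpecIso (CommRingCat.of R)).commRingCatIsoToRingEquiv.injective
      apply hinj
      have := congrArg (Scheme.ΓSpecIso (CommRingCat.of R)).hom hab
      simp only [smul_eq_mul, map_mul] at this
      rw [← CommRingCat.comp_apply, Iso.inv_hom_id] at this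
      exact mul_left_cancel₀ hϖ.ne_zero this
    exact h0.of_flat (S := Γ(X, U))
  set V := X.basicOpen s
  let ψ : R →+* Γ(V.toScheme, ⊤) := ((Scheme.ΓSpecIso (CommRingCat.of R)).inv ≫ (V.ι ≫ f).appTop).hom
  have hψϖ : IsUnit (ψ ϖ) := by
    have hbo : V.toScheme.basicOpen (V.ι.appTop s) = ⊤ := by
      rw [← Scheme.preimage_basicOpen_top]
      exact V.ι_preimage_self
    have := RingedSpace.isUnit_res_basicOpen V.toScheme.toRingedSpace (U := ⊤) (V.ι.appTop s)
    have e : ψ ϖ = V.ι.appTop s := rfl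
    rw [e]
    refine RingedSpace.isUnit_of_isUnit_germ _ _ _ fun x hx => ?_
    rw [← Scheme.mem_basicOpen V.toScheme (V.ι.appTop s) x hx, hbo]
    trivial
  have hψ : ∀ y : nonZeroDivisors R, IsUnit (ψ y) := by
    intro y
    obtain ⟨n, u, hu⟩ := IsDiscreteValuationRing.eq_unit_mul_pow_irreducible (nonZeroDivisors.coe_ne_zero y) hϖ
    rw [hu, map_mul, map_pow]
    exact (u.isUnit.map ψ).mul (hψϖ.pow n)
  obtain ⟨c, hc⟩ := h V.toScheme V.ι
    (V.toScheme.toSpecΓ ≫ Spec.map (CommRingCat.ofHom (IsLocalization.lift (S := K) hψ))) (by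
      rw [Category.assoc, ← Spec.map_comp,
        show CommRingCat.ofHom (algebraMap R K) ≫ CommRingCat.ofHom (IsLocalization.lift (S := K) hψ) =
          (Scheme.ΓSpecIso (CommRingCat.of R)).inv ≫ (V.ι ≫ f).appTop from
          CommRingCat.hom_ext (IsLocalization.lift_comp hψ),
        Spec.map_comp, ← Scheme.toSpecΓ_naturality_assoc, toSpecΓ_SpecMap_ΓSpecIso_inv, Category.comp_id])
  have hle : i.ker ≤ g.ker := by
    rw [← ker_ι_comp g s hreg, ← hc]
    exact Scheme.Hom.le_ker_comp c i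
  exact ⟨IsClosedImmersion.lift i g hle, IsClosedImmersion.lift_fac i g hle⟩


open CategoryTheory Limits AlgebraicGeometry in
/-- Let R be a discrete valuation ring with fraction field K, let Y be a flat separated R-scheme and let
Γ → Y ×_R Y be a closed subscheme, with projections p₁, p₂ : Γ → Y, such that Γ is flat over R
(equivalently, Γ is the schematic closure of its generic fibre) and p₁, p₂ are flat. If for every
scheme T over Spec K the relation on the T-valued points of Y defined by the T-valued points of Γ is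
an equivalence relation, then for every scheme T over Spec R that relation is an equivalence
relation: Γ is a flat equivalence relation on Y. -/
theorem result
    (R K : Type u) [CommRing R] [IsDomain R] [IsDiscreteValuationRing R]
    [Field K] [Algebra R K] [IsFractionRing R K]
    (Y Γ : Scheme.{u}) (f : Y ⟶ Spec (CommRingCat.of R)) [IsSeparated f] [Flat f]
    (p₁ p₂ : Γ ⟶ Y) (h : p₁ ≫ f = p₂ ≫ f)
    (hΓ : IsClosedImmersion (pullback.lift p₁ p₂ h))
    [Flat (p₁ ≫ f)] [Flat p₁] [Flat p₂]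
    (hK : ∀ (T : Scheme.{u}) (t : T ⟶ Spec (CommRingCat.of R)),
      (∃ s : T ⟶ Spec (CommRingCat.of K), t = s ≫ Spec.map (CommRingCat.ofHom (algebraMap R K))) →
      _root_.Equivalence fun a b : {a : T ⟶ Y // a ≫ f = t} =>
        ∃ c : T ⟶ Γ, c ≫ p₁ = a.1 ∧ c ≫ p₂ = b.1) :
    ∀ (T : Scheme.{u}) (t : T ⟶ Spec (CommRingCat.of R)),
      _root_.Equivalence fun a b : {a : T ⟶ Y // a ≫ f = t} =>
        ∃ c : T ⟶ Γ, c ≫ p₁ = a.1 ∧ c ≫ p₂ = b.1 := by
  have key : ∀ (X : Scheme.{u}) (q : X ⟶ Spec (CommRingCat.of R)) [Flat q] (u v : X ⟶ Y)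
      (hu : u ≫ f = q) (hv : v ≫ f = q),
      (∀ (V : Scheme.{u}) (j : V ⟶ X) (s : V ⟶ Spec (CommRingCat.of K)),
        j ≫ q = s ≫ Spec.map (CommRingCat.ofHom (algebraMap R K)) →
          ∃ c : V ⟶ Γ, c ≫ p₁ = j ≫ u ∧ c ≫ p₂ = j ≫ v) →
      ∃ c : X ⟶ Γ, c ≫ p₁ = u ∧ c ≫ p₂ = v := by
    intro X q _ u v hu hv hh
    obtain ⟨d, hd⟩ := factors_of_generic q (pullback.lift p₁ p₂ h) (pullback.lift u v (hu.trans hv.symm))
      fun V j s hjs => by
        obtain ⟨c, h1, h2⟩ := hh V j s hjs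
        refine ⟨c, pullback.hom_ext ?_ ?_⟩
        · rw [Category.assoc, pullback.lift_fst, Category.assoc, pullback.lift_fst, h1]
        · rw [Category.assoc, pullback.lift_snd, Category.assoc, pullback.lift_snd, h2]
    refine ⟨d, ?_, ?_⟩
    · have := hd =≫ pullback.fst _ _
      rwa [Category.assoc, pullback.lift_fst, pullback.lift_fst] at this
    · have := hd =≫ pullback.snd _ _
      rwa [Category.assoc, pullback.lift_snd, pullback.lift_snd] at this
  obtain ⟨δ, hδ₁, hδ₂⟩ := key Y f (𝟙 Y) (𝟙 Y) (by simp) (by simp) fun V j s hjs => by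
    obtain ⟨c, h1, h2⟩ := (hK V (j ≫ f) ⟨s, hjs⟩).refl ⟨j, rfl⟩
    exact ⟨c, by simpa using h1, by simpa using h2⟩
  obtain ⟨σ, hσ₁, hσ₂⟩ := key Γ (p₁ ≫ f) p₂ p₁ h.symm rfl fun V j s hjs => by
    obtain ⟨c, h1, h2⟩ := (hK V (j ≫ p₁ ≫ f) ⟨s, hjs⟩).symm
      (x := ⟨j ≫ p₁, by simp⟩) (y := ⟨j ≫ p₂, by simp [h]⟩) ⟨j, rfl, rfl⟩
    exact ⟨c, h1, h2⟩
  let W := pullback p₂ p₁
  obtain ⟨μ, hμ₁, hμ₂⟩ := key W (pullback.fst p₂ p₁ ≫ p₁ ≫ f) (pullback.fst p₂ p₁ ≫ p₁)
      (pullback.snd p₂ p₁ ≫ p₂) (by simp)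
      (by rw [Category.assoc, ← h, ← pullback.condition_assoc, ← h]) fun V j s hjs => by
    obtain ⟨c, h1, h2⟩ := (hK V (j ≫ pullback.fst p₂ p₁ ≫ p₁ ≫ f) ⟨s, hjs⟩).trans
      (x := ⟨j ≫ pullback.fst p₂ p₁ ≫ p₁, by simp⟩)
      (y := ⟨j ≫ pullback.fst p₂ p₁ ≫ p₂, by simp [h]⟩)
      (z := ⟨j ≫ pullback.snd p₂ p₁ ≫ p₂, by
        simp only [Category.assoc]
        rw [← h, ← pullback.condition_assoc, ← h]⟩)
      ⟨j ≫ pullback.fst p₂ p₁, by simp, by simp⟩
      ⟨j ≫ pullback.snd p₂ p₁, by simp [pullback.condition], by simp⟩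
    exact ⟨c, h1, h2⟩
  intro T t
  refine ⟨fun a => ⟨a.1 ≫ δ, by simp [hδ₁], by simp [hδ₂]⟩, ?_, ?_⟩
  · rintro a b ⟨c, h1, h2⟩
    exact ⟨c ≫ σ, by simp [hσ₁, h2], by simp [hσ₂, h1]⟩
  · rintro a b c ⟨x, h1, h2⟩ ⟨y, h3, h4⟩
    refine ⟨pullback.lift x y (h2.trans h3.symm) ≫ μ, ?_, ?_⟩
    · rw [Category.assoc, hμ₁, pullback.lift_fst_assoc, h1]
    · rw [Category.assoc, hμ₂, pullback.lift_snd_assoc, h4]

end Groth.Agent.S13044
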