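import Groth.Statements.S13063
import Groth.Agent.LangWeil75.Count
import Mathlib.Algebra.Field.ULift
import Mathlib.FieldTheory.Finite.Extension

set_option autoImplicit false
universe u
open CategoryTheory AlgebraicGeometry Limits
open Zeta

namespace Groth.Agent.S13063

open Groth.Agent

/-- Let X be a scheme of finite type over a finite field k with q elements, of dimension r. For each
irreducible component Z of X of dimension r let m_Z be the number of irreducible components of its
preimage in X ×_k k̄, k̄ an algebraic closure of k, and put a_e = ∑_{Z : m_Z ∣ e} m_Z. Then there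
are constants α, α' > 0 such that for every e ≥ 1: if a_e > 0 then |N_e − a_e q^{er}| ≤ α q^{e(r −
1/2)}, and if a_e = 0 then N_e ≤ α' q^{e(r − 1)}, where N_e = ∑_{d ∣ e} d · #{closed points of
residue degree d} is the number of points of X in the degree-e extension of k. (Stated for schemes
of finite type; reducedness plays no role.) -/
theorem result {k : Type u} [Field k] [Finite k] {X : Scheme.{u}}
    (f : X ⟶ Spec (CommRingCat.of k)) [LocallyOfFiniteType f] [QuasiCompact f] (r : ℕ)
    (hr : topologicalKrullDim X = r) :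
    ∃ α α' : ℝ, 0 < α ∧ 0 < α' ∧ ∀ e : ℕ, 1 ≤ e →
      (0 < (∑ᶠ (Z : Set X) (_ : Z ∈ irreducibleComponents X ∧ topologicalKrullDim Z = r ∧
            Nat.card (irreducibleComponents ((pullback.fst f (Spec.map (CommRingCat.ofHom
              (algebraMap k (AlgebraicClosure k))))).base ⁻¹' Z)) ∣ e),
          Nat.card (irreducibleComponents ((pullback.fst f (Spec.map (CommRingCat.ofHom
              (algebraMap k (AlgebraicClosure k))))).base ⁻¹' Z))) →
        |(Zeta.nPts f e : ℝ) -
            (∑ᶠ (Z : Set X) (_ : Z ∈ irreducibleComponents X ∧ topologicalKrullDim Z = r ∧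
              Nat.card (irreducibleComponents ((pullback.fst f (Spec.map (CommRingCat.ofHom
                (algebraMap k (AlgebraicClosure k))))).base ⁻¹' Z)) ∣ e),
            Nat.card (irreducibleComponents ((pullback.fst f (Spec.map (CommRingCat.ofHom
                (algebraMap k (AlgebraicClosure k))))).base ⁻¹' Z)) : ℕ) *
              (Nat.card k : ℝ) ^ (e * r)| ≤
          α * (Nat.card k : ℝ) ^ ((e : ℝ) * ((r : ℝ) - 1 / 2))) ∧
      ((∑ᶠ (Z : Set X) (_ : Z ∈ irreducibleComponents X ∧ topologicalKrullDim Z = r ∧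
            Nat.card (irreducibleComponents ((pullback.fst f (Spec.map (CommRingCat.ofHom
              (algebraMap k (AlgebraicClosure k))))).base ⁻¹' Z)) ∣ e),
          Nat.card (irreducibleComponents ((pullback.fst f (Spec.map (CommRingCat.ofHom
              (algebraMap k (AlgebraicClosure k))))).base ⁻¹' Z))) = 0 →
        (Zeta.nPts f e : ℝ) ≤ α' * (Nat.card k : ℝ) ^ ((e : ℝ) * ((r : ℝ) - 1))) := by
  classical
  obtain ⟨S, hS, hpos, C, hC⟩ := LangWeil75.exists_lang_weil f r hr
  refine ⟨(C : ℝ) + 1, (C : ℝ) + 1, by positivity, by positivity, fun e he => ?_⟩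
  obtain ⟨p, hp⟩ := CharP.exists k
  have : Fact p.Prime := ⟨CharP.char_is_prime k p⟩
  have : NeZero e := ⟨by omega⟩
  let F := ULift.{u} (FiniteField.Extension k p e)
  have hfr : Module.finrank k F = e :=
    ULift.moduleEquiv.finrank_eq.trans (FiniteField.finrank_extension k p e)
  have hcard : Nat.card F = Nat.card k ^ e := by rw [Module.natCard_eq_pow_finrank (K := k) (V := F), hfr]
  have hN : SgaExt.pointCount f F = Zeta.nPts f e := by rw [ZetaLib.pointCount_eq_nPts f F, hfr]
  obtain ⟨h1, h2⟩ := hC F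
  rw [hN, hfr] at h1 h2
  have hq : (0 : ℝ) < Nat.card k := Nat.cast_pos.2 Nat.card_pos
  have hsum : (∑ᶠ (Z : Set X) (_ : Z ∈ irreducibleComponents X ∧ topologicalKrullDim Z = r ∧
        LangWeil75.compNum f Z ∣ e), LangWeil75.compNum f Z) =
      ∑ Z ∈ S with LangWeil75.compNum f Z ∣ e, LangWeil75.compNum f Z :=
    finsum_cond_eq_sum_of_cond_iff _ fun {Z} _ => by rw [Finset.mem_filter, hS, and_assoc]
  simp only [LangWeil75.compNum] at hsum h1 h2
  rw [hsum]
  refine ⟨fun _ => h1.trans_eq' ?_ |>.trans ?_, fun h0 => ?_⟩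
  · rw [hcard, Nat.cast_pow, ← pow_mul]
  · have hpow : ((Nat.card F : ℝ) ^ r / Real.sqrt (Nat.card F)) =
        (Nat.card k : ℝ) ^ ((e : ℝ) * ((r : ℝ) - 1 / 2)) := by
      rw [hcard, Nat.cast_pow, Real.sqrt_eq_rpow, ← pow_mul, ← Real.rpow_natCast, ← Real.rpow_natCast,
        ← Real.rpow_mul hq.le, ← Real.rpow_sub hq]
      congr 1
      push_cast
      ring
    rw [hpow]
    exact mul_le_mul_of_nonneg_right (by linarith) (Real.rpow_nonneg hq.le _)
  · have hall : ∀ Z ∈ S, ¬ LangWeil75.compNum f Z ∣ e := fun Z hZ hd => by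
      have := (Finset.sum_eq_zero_iff.1 h0) Z (Finset.mem_filter.2 ⟨hZ, hd⟩)
      exact (hpos Z hZ).ne' this
    have h3 : (Zeta.nPts f e : ℝ) * (Nat.card F : ℝ) ≤ C * (Nat.card F : ℝ) ^ r := by
      exact_mod_cast h2 hall
    have hpow : (Nat.card k : ℝ) ^ ((e : ℝ) * ((r : ℝ) - 1)) = (Nat.card F : ℝ) ^ r / (Nat.card F : ℝ) := by
      rw [hcard, Nat.cast_pow, ← pow_mul, ← Real.rpow_natCast, ← Real.rpow_natCast, ← Real.rpow_sub hq]
      congr 1
      push_cast
      ring
    have hF : (0 : ℝ) < Nat.card F := Nat.cast_pos.2 Nat.card_pos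
    rw [hpow, ← mul_div_assoc, le_div_iff₀ hF]
    exact h3.trans (mul_le_mul_of_nonneg_right (by linarith) (by positivity))

end Groth.Agent.S13063
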