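import Groth.Statements.S13068
import Groth.Statements.S13068
import Groth.Agent.CurveFin75.Instances
import Groth.Agent.S11038

set_option autoImplicit false
universe u
open CategoryTheory AlgebraicGeometry
open Zeta

open Groth.Agent

namespace Groth.Agent.S13068

/-- Let X be a smooth, geometrically connected, projective curve of genus g over F_q (here: smooth
proper geometrically irreducible, of dimension one). Then Z(X, t) = f(t) / ((1 − t)(1 − qt)) with f
∈ ℤ[t] of degree ≤ 2g, f(0) = 1 and f(1) = h, where h is the number of isomorphism classes of line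
bundles of degree zero on X (the number of k-points of the Jacobian). -/
theorem result (k : Type u) [Field k] [Finite k]
    (X : Scheme.{u}) [X.Over (Spec (CommRingCat.of k))]
    (hX : Curve.IsSmoothProperCurve k X (X ↘ Spec (CommRingCat.of k)))
    [GeometricallyIrreducible (X ↘ Spec (CommRingCat.of k))] :
    ∃ P : Polynomial ℤ, P.natDegree ≤ 2 * Curv2.genus k X ∧ P.coeff 0 = 1 ∧
      P.eval 1 = Nat.card {c : PicF.Cl X // ∃ L : X.Modules, PicF.cl L = c ∧ PicF.IsInvertible L ∧
          Curv2.deg k X L 1 = 0} ∧
      Zeta.zetaFun (X ↘ Spec (CommRingCat.of k)) *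
          ((1 - PowerSeries.X) * (1 - PowerSeries.C (Nat.card k : ℚ) * PowerSeries.X)) =
        ((P.map (Int.castRingHom ℚ) : Polynomial ℚ) : PowerSeries ℚ) := by
  obtain ⟨hP, hS, hI, hdim⟩ := hX
  letI := CurveFF.ffAlg k X
  have h0 := CurveFin75.finrank_h0_of_geometricallyIrreducible k X
  have hK := CurveFin75.isFunctionField k hdim h0
  obtain ⟨P, hP, hdeg, hc0⟩ := CurveFin75.exists_numer_polynomial hK
  refine ⟨P, ?_, hc0, ?_, ?_⟩
  · rwa [← CurveFin75.genus_eq k hdim h0]
  · rw [S11038.result k X.functionField hK P hP, ← CurveFin75.card_picDeg k hdim h0 0]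
  · rw [CurveFin75.zetaFun_eq k hdim h0, Polynomial.polynomial_map_coe, hP, FunFld.numerZ, map_mul, map_mul,
      map_sub, map_sub, map_one, map_mul, PowerSeries.map_C, PowerSeries.map_X, eq_intCast, Int.cast_natCast]
    ring

end Groth.Agent.S13068
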