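import Groth.Statements.S13072
import Groth.Agent.GalFibre75.Basic
import Groth.Agent.WeilLib.ZetaIdentity

set_option autoImplicit false
universe u
open CategoryTheory AlgebraicGeometry Limits
open Zeta

namespace Groth.Agent.S13072

/-- Case r = 1, to which the general case reduces by passing to X ×_k F_{q^r}. Let X be a variety over k
= F_q, k̄ an algebraic closure and F = Frob_{X,q} × id the induced endomorphism of X_{k̄}. A closed
subset W ⊆ X_{k̄} is of the form Y_{k̄} for a closed Y ⊆ X (i.e. W = π⁻¹(Y), π the projection) if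
and only if F(W) ⊆ W. Stated for schemes of finite type over k; F_X is pinned as the endomorphism
that is the identity on points and the q-th power on sections, F by F ≫ pr_1 = pr_1 ≫ F_X and F ≫
pr_2 = pr_2. -/
theorem result {k : Type u} [Field k] [Finite k]
    {X : Scheme.{u}} (f : X ⟶ Spec (CommRingCat.of k)) [LocallyOfFiniteType f] [QuasiCompact f]
    (FX : X ⟶ X) (hFb : FX.base = 𝟙 _) (hle : ∀ U : X.Opens, U ≤ FX ⁻¹ᵁ U)
    (hFapp : ∀ (U : X.Opens) (s : Γ(X, U)), (FX.appLE U U (hle U)).hom s = s ^ Nat.card k)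
    (F : FinFr.ext (AlgebraicClosure k) f ⟶ FinFr.ext (AlgebraicClosure k) f)
    (hF1 : F ≫ FinFr.extπ (AlgebraicClosure k) f = FinFr.extπ (AlgebraicClosure k) f ≫ FX)
    (hF2 : F ≫ FinFr.extStr (AlgebraicClosure k) f = FinFr.extStr (AlgebraicClosure k) f)
    (W : Set ↑(FinFr.ext (AlgebraicClosure k) f)) (hW : IsClosed W) :
    (∃ Y : Set X, IsClosed Y ∧ (FinFr.extπ (AlgebraicClosure k) f).base ⁻¹' Y = W) ↔
      F.base '' W ⊆ W := by
  classical
  letI := Fintype.ofFinite k
  set K := AlgebraicClosure k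
  set π := FinFr.extπ K f with hπdef
  have hFX : WeilLib.IsPowMap FX (Nat.card k) := WeilLib.isPowMap_of_hyp FX _ hFb hle hFapp
  constructor
  · rintro ⟨Y, -, rfl⟩ _ ⟨w, hw, rfl⟩
    show π (F w) ∈ Y
    have h := congrArg (fun m : FinFr.ext K f ⟶ X => m.base w) hF1
    change π (F w) = FX (π w) at h
    rw [h, hFX.base]
    exact hw
  intro hsub
  obtain ⟨τ, hτ1, hτ2⟩ := GalFibre75.exists_galAct f (K := K)
  haveI : Normal k K := inferInstance
  haveI : JacobsonSpace ↑(FinFr.ext K f) :=
    LocallyOfFiniteType.jacobsonSpace (pullback.snd f _)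
  -- the action of `F` on the points over a closed point
  let fr : K ≃ₐ[k] K := FiniteField.frobeniusAlgEquivOfAlgebraic k K
  have hFemb : ∀ (x : X) (φ : GalFibre75.Emb f (K := K) x),
      F (GalFibre75.embPt f x φ) = GalFibre75.embPt f x (GalFibre75.twistEmb f x φ fr) := by
    intro x φ
    have hx : X.fromSpecResidueField x ≫ FX =
        Spec.map (CommRingCat.ofHom (WeilLib.fixEnd FX x (hFX.base x))) ≫ X.fromSpecResidueField x := by
      rw [← Scheme.Hom.SpecMap_residueFieldMap_fromSpecResidueField,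
        ← Scheme.residueFieldCongr_fromSpecResidueField (hFX.base x).symm, ← Spec.map_comp_assoc]
      rfl
    have e : GalFibre75.ofEmb f x φ ≫ F = GalFibre75.ofEmb f x (GalFibre75.twistEmb f x φ fr) := by
      apply pullback.hom_ext
      · rw [Category.assoc, GalFibre75.ofEmb_fst]
        erw [hF1]
        rw [← Category.assoc]
        erw [GalFibre75.ofEmb_fst]
        rw [Category.assoc, hx, ← Category.assoc, ← Spec.map_comp]
        congr 2
        ext a
        show φ.1 (WeilLib.fixEnd FX x (hFX.base x) a) = fr (φ.1 a)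
        rw [WeilLib.fixEnd_of_isPowMap hFX, map_pow, Nat.card_eq_fintype_card]
        rfl
      · rw [Category.assoc]
        erw [hF2]
        exact (GalFibre75.ofEmb_snd f x φ).trans (GalFibre75.ofEmb_snd f x _).symm
    exact congrArg (fun m : Spec (CommRingCat.of K) ⟶ FinFr.ext K f =>
      m.base (IsLocalRing.closedPoint K)) e
  -- the closed points of `W` are stable under the Galois group
  have hclosed : ∀ y ∈ W, IsClosed ({y} : Set ↑(FinFr.ext K f)) → ∀ σ, τ σ y ∈ W := by
    intro y hy hyc σ
    have hxc : IsClosed ({π y} : Set X) := by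
      have h := GalFibre75.isClosedMap_fst f (K := K) _ hyc
      rwa [Set.image_singleton] at h
    obtain ⟨φ, hφ⟩ := GalFibre75.embPt_surjective f (π y) hxc y rfl
    rw [← hφ] at hy ⊢
    rw [GalFibre75.tau_embPt f τ hτ1 hτ2]
    letI := (VarDim.resHom f (π y)).toAlgebra
    have := GalFibre75.finiteDimensional_residueField f (π y) hxc
    have : Finite (X.residueField (π y)) := Module.finite_of_finite k
    let ψ : X.residueField (π y) →ₐ[k] K :=
      { φ.1 with commutes' := fun c => RingHom.congr_fun φ.2 c }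
    obtain ⟨s, hs⟩ := SGA1Q.exists_algEquiv_of_normal ψ ((σ.symm : K →ₐ[k] K).comp ψ)
    obtain ⟨n, hn⟩ := (FiniteField.bijective_frobeniusAlgEquivOfAlgebraic_pow k
      (X.residueField (π y))).2 s
    have hiter : ∀ m : ℕ, GalFibre75.embPt f (π y) (GalFibre75.twistEmb f (π y) φ (fr ^ m)) ∈ W := by
      intro m
      induction m with
      | zero => exact hy
      | succ m ih =>
        have h := hsub ⟨_, ih, rfl⟩
        rw [hFemb] at h
        have e : GalFibre75.twistEmb f (π y) (GalFibre75.twistEmb f (π y) φ (fr ^ m)) fr =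
            GalFibre75.twistEmb f (π y) φ (fr ^ (m + 1)) := by
          refine Subtype.ext (RingHom.ext fun a => ?_)
          show fr ((fr ^ m) (φ.1 a)) = (fr ^ (m + 1)) (φ.1 a)
          rw [pow_succ']
          rfl
        rwa [e] at h
    have e : GalFibre75.twistEmb f (π y) φ σ.symm =
        GalFibre75.twistEmb f (π y) φ (fr ^ n.1) := by
      refine Subtype.ext (RingHom.ext fun a => ?_)
      show σ.symm (φ.1 a) = (fr ^ n.1) (φ.1 a)
      refine (hs a).symm.trans ?_
      rw [← hn, AlgEquiv.coe_pow, AlgEquiv.coe_pow,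
        FiniteField.coe_frobeniusAlgEquivOfAlgebraic_iterate,
        FiniteField.coe_frobeniusAlgEquivOfAlgebraic_iterate]
      exact map_pow ψ a _
    rw [e]
    exact hiter n.1
  have hstab : ∀ σ, ∀ y ∈ W, τ σ y ∈ W := by
    intro σ y hy
    have hy' : y ∈ closure (W ∩ closedPoints ↑(FinFr.ext K f)) := by
      rwa [closure_inter_closedPoints hW]
    have h := map_mem_closure (τ σ).continuous hy' (t := W) (fun z hz => hclosed z hz.1 hz.2 σ)
    rwa [hW.closure_eq] at h
  refine ⟨π.base '' W, GalFibre75.isClosedMap_fst f (K := K) W hW, ?_⟩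
  refine Set.Subset.antisymm ?_ (Set.subset_preimage_image _ _)
  rintro y ⟨w, hw, he⟩
  obtain ⟨σ, rfl⟩ := GalFibre75.exists_tau_eq f τ hτ1 hτ2 w y he
  exact hstab σ w hw

end Groth.Agent.S13072
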