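import Groth.Statements.S13083
import Groth.Agent.GalFibre75.Basic

set_option autoImplicit false
universe u
open CategoryTheory AlgebraicGeometry Limits
open Zeta

namespace Groth.Agent.S13083

/-- Let X be a variety over a perfect field k, k̄ an algebraic closure and π : X_{k̄} → X the
projection. Sending a closed point x to the sum of the points of π⁻¹(x) induces a bijection between
effective 0-cycles of degree n on X and effective 0-cycles of degree n on X_{k̄} fixed by G(k̄/k).
Stated for schemes of finite type over k, with 0-cycles as finitely supported ℕ-valued functions on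
closed points, the degree on X weighted by the residue degrees [κ(x) : k], the map being c ↦ c ∘ π,
and the Galois automorphisms τ_σ = id × Spec σ pinned by their projections. -/
theorem result {k : Type u} [Field k]
    [PerfectField k] {X : Scheme.{u}} (f : X ⟶ Spec (CommRingCat.of k)) [LocallyOfFiniteType f]
    [QuasiCompact f]
    (τ : (AlgebraicClosure k ≃ₐ[k] AlgebraicClosure k) →
      (pullback f (Spec.map (CommRingCat.ofHom (algebraMap k (AlgebraicClosure k)))) ⟶
        pullback f (Spec.map (CommRingCat.ofHom (algebraMap k (AlgebraicClosure k))))))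
    (hτ1 : ∀ σ, τ σ ≫ pullback.fst f _ = pullback.fst f _)
    (hτ2 : ∀ σ, τ σ ≫ pullback.snd f (Spec.map (CommRingCat.ofHom (algebraMap k (AlgebraicClosure k)))) =
        pullback.snd f _ ≫ Spec.map (CommRingCat.ofHom (σ : AlgebraicClosure k →+* AlgebraicClosure k)))
    (n : ℕ) :
    Set.BijOn
      (fun c : X → ℕ => c ∘ (pullback.fst f (Spec.map (CommRingCat.ofHom
        (algebraMap k (AlgebraicClosure k))))).base)
      {c : X → ℕ | (Function.support c).Finite ∧ (∀ x, c x ≠ 0 → IsClosed ({x} : Set X)) ∧
        ∑ᶠ x, c x * EGA4loc.residueDegree f x = n}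
      {d : ↑(pullback f (Spec.map (CommRingCat.ofHom (algebraMap k (AlgebraicClosure k))))) → ℕ |
        (Function.support d).Finite ∧ (∀ y, d y ≠ 0 → IsClosed ({y} : Set _)) ∧
        ∑ᶠ y, d y = n ∧ ∀ σ y, d ((τ σ).base y) = d y} := by
  classical
  set π := pullback.fst f (Spec.map (CommRingCat.ofHom (algebraMap k (AlgebraicClosure k)))) with hπdef
  haveI : Normal k (AlgebraicClosure k) := inferInstance
  have hfib := fun x hx => GalFibre75.finite_and_card_fibre f (K := AlgebraicClosure k) x hx
  have hsurj : Function.Surjective π.base := (GalFibre75.surjective_fst f).surj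
  have key : ∀ c : X → ℕ, (Function.support c).Finite → (∀ x, c x ≠ 0 → IsClosed ({x} : Set X)) →
      (Function.support (c ∘ π.base)).Finite ∧
      ∑ᶠ y, (c ∘ π.base) y = ∑ᶠ x, c x * EGA4loc.residueDegree f x := by
    intro c hc hcl
    have hpre : (π.base ⁻¹' Function.support c).Finite := by
      rw [← Set.biUnion_of_singleton (Function.support c), Set.preimage_iUnion₂]
      exact hc.biUnion fun x hx => (hfib x (hcl x hx)).1
    refine ⟨hpre, ?_⟩
    rw [finsum_eq_sum_of_support_subset (c ∘ π.base) (s := hpre.toFinset) (by simp [Function.support_comp_eq_preimage]),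
      finsum_eq_sum_of_support_subset (fun x => c x * EGA4loc.residueDegree f x) (s := hc.toFinset)
        (by intro x hx; simp only [Set.Finite.coe_toFinset, Function.mem_support] at hx ⊢; exact left_ne_zero_of_mul hx),
      ← Finset.sum_fiberwise_of_maps_to (g := π.base) (t := hc.toFinset)
        (fun y hy => by simpa using hy)]
    refine Finset.sum_congr rfl fun x hx => ?_
    have hx' : c x ≠ 0 := by simpa using hx
    rw [Finset.sum_congr rfl (g := fun _ => c x) (fun y hy => by
      show c (π.base y) = c x
      rw [(Finset.mem_filter.1 hy).2]), Finset.sum_const, smul_eq_mul, mul_comm]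
    congr 1
    rw [← (hfib x (hcl x hx')).2, ← Set.ncard_coe_finset]
    congr 1
    ext y
    simp only [Finset.coe_filter, Set.Finite.mem_toFinset, Set.mem_preimage, Function.mem_support,
      Set.mem_singleton_iff, Set.mem_setOf_eq]
    exact ⟨fun h => h.2, fun h => ⟨by rw [h]; exact hx', h⟩⟩
  refine ⟨?_, ?_, ?_⟩
  · rintro c ⟨hc, hcl, hn⟩
    obtain ⟨h1, h2⟩ := key c hc hcl
    refine ⟨h1, fun y hy => GalFibre75.isClosed_of_fst_isClosed f y (hcl _ hy), h2.trans hn,
      fun σ y => ?_⟩
    exact congrArg c (GalFibre75.fst_tau f τ hτ1 σ y)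
  · intro c _ c' _ h
    funext x
    obtain ⟨y, rfl⟩ := hsurj x
    exact congrFun h y
  · rintro d ⟨hd, hdcl, hn, hinv⟩
    choose sec hsec using hsurj
    have hd' : (d ∘ sec) ∘ π.base = d := by
      funext y
      obtain ⟨σ, hσ⟩ := GalFibre75.exists_tau_eq f τ hτ1 hτ2 y (sec (π.base y)) (hsec _).symm
      show d (sec (π.base y)) = d y
      rw [← hσ]
      exact hinv σ y
    have hsupp : Function.support (d ∘ sec) ⊆ π.base '' Function.support d :=
      fun x hx => ⟨sec x, hx, hsec x⟩
    have hcl : ∀ x, (d ∘ sec) x ≠ 0 → IsClosed ({x} : Set X) := fun x hx => by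
      have h := GalFibre75.isClosedMap_fst f (K := AlgebraicClosure k) _ (hdcl (sec x) hx)
      rw [Set.image_singleton] at h
      rwa [hsec x] at h
    refine ⟨d ∘ sec, ⟨(hd.image _).subset hsupp, hcl, ?_⟩, hd'⟩
    rw [← (key _ ((hd.image _).subset hsupp) hcl).2, hd', hn]

end Groth.Agent.S13083
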