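import Groth.Statements.S13155
-- import your own Groth.Agent.* helpers here

set_option autoImplicit false
universe u
open CAlg

namespace Groth.Agent.S13155

/-- Let R be a discrete valuation ring of characteristic zero with uniformizer π, and A a Noetherian
integrally closed domain which is an R-algebra with injective structure map and in which πA is a
prime ideal (X = Spec A is normal, flat over R, with integral special fibre). Let m ≥ 1 and let f ∈
A be invertible in A[1/π] (so Z^m = f defines a μ_m-torsor over the generic fibre), such that S =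
A[1/π][Z]/(Z^m − f) is an integral domain and, writing B for the integral closure of A in S (the
normalization of X in that cover), πB is a prime ideal of B (the normalization has integral special
fibre). Then f is, up to a unit of A, an m-th power of a power of π: f = π^{mq}·u with q ≥ 0 and u ∈
A^×, so that the cover extends to the μ_m-torsor Z^m = u over all of X. (The published statement is
the existence and uniqueness of the extending μ_m-torsor over a normal faithfully flat R-scheme with
integral fibres, R containing a primitive m-th root of unity; this row is the affine computation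
that carries the proof.) -/
theorem result (R : Type u) [CommRing R]
    [IsDomain R] [IsDiscreteValuationRing R] [CharZero R] (ϖ : R) (hϖ : Irreducible ϖ)
    (A : Type u) [CommRing A] [IsDomain A] [IsNoetherianRing A] [IsIntegrallyClosed A] [Algebra R A]
    (hinj : Function.Injective (algebraMap R A)) (hprime : (Ideal.span {algebraMap R A ϖ}).IsPrime)
    (m : ℕ) (hm : 0 < m) (f : A) (hf : IsUnit (algebraMap A (Localization.Away (algebraMap R A ϖ)) f))
    [IsDomain (AdjoinRoot (Polynomial.X ^ m - Polynomial.C (algebraMap A (Localization.Away (algebraMap R A ϖ)) f)))]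
    (hsp : (Ideal.span {algebraMap A (integralClosure A
        (AdjoinRoot (Polynomial.X ^ m - Polynomial.C (algebraMap A (Localization.Away (algebraMap R A ϖ)) f))))
          (algebraMap R A ϖ)}).IsPrime) :
    ∃ (q : ℕ) (u : Aˣ), f = algebraMap R A ϖ ^ (m * q) * (u : A) := by
  classical
  set π₀ := algebraMap R A ϖ with hπ₀
  have hπne : π₀ ≠ 0 := fun h => hϖ.ne_zero (hinj (by rw [map_zero]; exact h))
  have hπp : Prime π₀ := (Ideal.span_singleton_prime hπne).mp hprime
  obtain ⟨_, ⟨N, rfl⟩, hdvd⟩ := (IsLocalization.algebraMap_isUnit_iff (Submonoid.powers π₀)).mp hf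
  obtain ⟨k, -, u, hu⟩ := (dvd_prime_pow hπp N).mp hdvd
  have hfk : f = π₀ ^ k * ((u⁻¹ : Aˣ) : A) := by rw [← hu, mul_assoc, Units.mul_inv, mul_one]
  set L := Localization.Away π₀
  set S := AdjoinRoot (Polynomial.X ^ m - Polynomial.C (algebraMap A L f))
  set Bc := integralClosure A S
  let z : S := AdjoinRoot.root _
  have hzm : z ^ m = algebraMap A S f := by
    have := AdjoinRoot.eval₂_root (Polynomial.X ^ m - Polynomial.C (algebraMap A L f))
    rw [Polynomial.eval₂_sub, Polynomial.eval₂_X_pow, Polynomial.eval₂_C, sub_eq_zero] at this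
    exact this.trans rfl
  have hzint : IsIntegral A z := IsIntegral.of_pow hm (hzm ▸ isIntegral_algebraMap)
  let ζ : Bc := ⟨z, hzint⟩
  have hπS : IsUnit (algebraMap A S π₀) := by
    rw [IsScalarTower.algebraMap_apply A L S]
    exact (IsLocalization.Away.algebraMap_isUnit π₀).map _
  haveI : Nontrivial S := inferInstance
  have hreg : ∀ b c : Bc, algebraMap A Bc π₀ * b = algebraMap A Bc π₀ * c → b = c := fun b c h =>
    Subtype.ext (hπS.mul_left_cancel (congrArg Subtype.val h))
  set P : Ideal Bc := Ideal.span {algebraMap A Bc π₀} with hP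
  have key : ∀ (j : ℕ) (w : Bc), w ^ m = algebraMap A Bc (π₀ ^ j * ((u⁻¹ : Aˣ) : A)) → m ∣ j := by
    intro j
    induction j using Nat.strong_induction_on with
    | _ j ih =>
      intro w hw
      rcases Nat.eq_zero_or_pos j with rfl | hj
      · exact dvd_zero m
      have hmem : w ^ m ∈ P := by
        rw [hw, map_mul, map_pow]
        exact P.mul_mem_right _ (P.pow_mem_of_mem (Ideal.subset_span rfl) j hj)
      obtain ⟨w₁, rfl⟩ := Ideal.mem_span_singleton.mp (hsp.mem_of_pow_mem m hmem)
      rw [mul_pow, map_mul, map_pow] at hw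
      rcases Nat.lt_or_ge j m with hlt | hge
      · exfalso
        have h1 : algebraMap A Bc π₀ ^ (m - j) * w₁ ^ m = algebraMap A Bc ((u⁻¹ : Aˣ) : A) := by
          have h2 : algebraMap A Bc π₀ ^ j * (algebraMap A Bc π₀ ^ (m - j) * w₁ ^ m) =
              algebraMap A Bc π₀ ^ j * algebraMap A Bc ((u⁻¹ : Aˣ) : A) := by
            rw [← mul_assoc, ← pow_add, Nat.add_sub_cancel' hlt.le, hw]
          refine Subtype.ext ((hπS.pow j).mul_left_cancel ?_)
          simpa using congrArg Subtype.val h2
        refine hsp.ne_top (Ideal.eq_top_of_isUnit_mem _ ?_ ((Units.map (algebraMap A Bc).toMonoidHom u⁻¹).isUnit))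
        show algebraMap A Bc ((u⁻¹ : Aˣ) : A) ∈ P
        rw [← h1]
        exact P.mul_mem_right _ (P.pow_mem_of_mem (Ideal.subset_span rfl) _ (by omega))
      · have h1 : w₁ ^ m = algebraMap A Bc (π₀ ^ (j - m) * ((u⁻¹ : Aˣ) : A)) := by
          refine Subtype.ext ((hπS.pow m).mul_left_cancel ?_)
          have h2 : algebraMap A Bc π₀ ^ m * w₁ ^ m =
              algebraMap A Bc π₀ ^ m * algebraMap A Bc (π₀ ^ (j - m) * ((u⁻¹ : Aˣ) : A)) := by
            rw [hw, map_mul, map_pow, ← mul_assoc, ← pow_add, Nat.add_sub_cancel' hge]
          simpa using congrArg Subtype.val h2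
        have := ih (j - m) (by omega) w₁ h1
        rw [← Nat.sub_add_cancel hge]
        exact dvd_add this dvd_rfl
  obtain ⟨q, rfl⟩ := key k ζ (Subtype.ext (by
    show z ^ m = algebraMap A S (π₀ ^ k * ((u⁻¹ : Aˣ) : A))
    exact hzm.trans (congrArg _ hfk)))
  exact ⟨q, u⁻¹, hfk⟩

end Groth.Agent.S13155
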