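import Groth.Statements.S13158
import Mathlib
-- import your own Groth.Agent.* helpers here

set_option autoImplicit false
universe u
open CAlg

namespace Groth.Agent.S13158

theorem step {A : Type u} [CommRing A] [IsDomain A] [IsIntegrallyClosed A] (p : ℕ) (hp : p.Prime)
    (l : A) (hl : l ≠ 0) (k : ℕ) (hdvd : l ^ (k * (p - 1)) ∣ (p : A)) (y : A) :
    l ^ (k * p) ∣ y ^ p - 1 ↔ l ^ k ∣ y - 1 := by
  have h2 : ∀ t : A, (1 + t) ^ p - 1 = t ^ p + ∑ i ∈ Finset.Ico 1 p, (p.choose i : A) * t ^ i := by
    intro t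
    rw [add_comm 1 t, add_pow, Finset.sum_range_succ,
      Finset.range_eq_Ico, Finset.sum_eq_sum_Ico_succ_bot hp.pos]
    simp only [one_pow, mul_one, Nat.choose_self, Nat.cast_one, Nat.choose_zero_right, pow_zero, zero_add]
    have : ∀ i ∈ Finset.Ico 1 p, t ^ i * (p.choose i : A) = (p.choose i : A) * t ^ i := fun i _ => mul_comm _ _
    rw [Finset.sum_congr rfl this]
    ring
  have hc : ∀ i, ∃ a : A, i ∈ Finset.Ico 1 p → l ^ (k * (p - i)) * a = (p.choose i : A) := by
    intro i
    by_cases hi : i ∈ Finset.Ico 1 p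
    · obtain ⟨hi1, hi2⟩ := Finset.mem_Ico.1 hi
      obtain ⟨a, ha⟩ := (pow_dvd_pow l (Nat.mul_le_mul_left k (Nat.sub_le_sub_left hi1 p))).trans
        (hdvd.trans (Nat.cast_dvd_cast (hp.dvd_choose_self (by omega) hi2)))
      exact ⟨a, fun _ => ha.symm⟩
    · exact ⟨0, fun h => absurd h hi⟩
  choose a ha using hc
  have key : ∀ z : A, (1 + l ^ k * z) ^ p - 1 =
      l ^ (k * p) * (z ^ p + ∑ i ∈ Finset.Ico 1 p, a i * z ^ i) := by
    intro z
    rw [h2, mul_add, Finset.mul_sum, mul_pow, ← pow_mul]
    congr 1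
    refine Finset.sum_congr rfl fun i hi => ?_
    obtain ⟨hi1, hi2⟩ := Finset.mem_Ico.1 hi
    have e : l ^ (k * p) = l ^ (k * (p - i)) * l ^ (k * i) := by
      rw [← pow_add, ← mul_add, Nat.sub_add_cancel hi2.le]
    rw [← ha i hi, e, mul_pow, ← pow_mul]
    ring
  constructor
  · rintro ⟨w, hw⟩
    open Polynomial in
    let Q : A[X] := X ^ p + ∑ i ∈ Finset.Ico 1 p, C (a i) * X ^ i - C w
    have hQ : Q.Monic := by
      have hdeg : (∑ i ∈ Finset.Ico 1 p, Polynomial.C (a i) * Polynomial.X ^ i - Polynomial.C w).degree < (p : WithBot ℕ) := by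
        refine (Polynomial.degree_sub_le _ _).trans_lt (max_lt ?_ ?_)
        · refine (Polynomial.degree_sum_le _ _).trans_lt ((Finset.sup_lt_iff (WithBot.bot_lt_coe p)).2 fun i hi => ?_)
          exact (Polynomial.degree_C_mul_X_pow_le i _).trans_lt (WithBot.coe_lt_coe.2 (Finset.mem_Ico.1 hi).2)
        · exact Polynomial.degree_C_le.trans_lt (WithBot.coe_lt_coe.2 hp.pos)
      simp only [Q, add_sub_assoc]
      exact Polynomial.monic_X_pow_add hdeg
    let F := FractionRing A
    have hlF : algebraMap A F l ≠ 0 := by simpa using hl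
    let z : F := algebraMap A F (y - 1) / algebraMap A F l ^ k
    have hz : algebraMap A F l ^ k * z = algebraMap A F y - 1 := by
      simp only [z, map_sub, map_one]
      rw [mul_div_cancel₀ _ (pow_ne_zero k hlF)]
    have hroot : Polynomial.aeval z Q = 0 := by
      apply mul_left_cancel₀ (pow_ne_zero (k * p) hlF)
      have h4 : algebraMap A F y ^ p - 1 = algebraMap A F l ^ (k * p) * algebraMap A F w := by
        simpa using congrArg (algebraMap A F) hw
      have hterm : ∀ i ∈ Finset.Ico 1 p,
          algebraMap A F l ^ (k * p) * (algebraMap A F (a i) * z ^ i) =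
            (algebraMap A F (p.choose i : A)) * (algebraMap A F l ^ k * z) ^ i := by
        intro i hi
        obtain ⟨hi1, hi2⟩ := Finset.mem_Ico.1 hi
        have e : k * p = k * (p - i) + k * i := by rw [← mul_add, Nat.sub_add_cancel hi2.le]
        rw [← ha i hi, map_mul, map_pow, mul_pow, ← pow_mul, e, pow_add]
        ring
      simp only [Q, map_add, map_sub, map_sum, map_mul, map_pow, Polynomial.aeval_X, Polynomial.aeval_C,
        mul_zero, mul_sub, mul_add]
      rw [Finset.mul_sum, Finset.sum_congr rfl hterm, hz, ← h4, pow_mul, ← mul_pow, hz]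
      have h5 : ∀ s : F, (1 + s) ^ p - 1 = s ^ p + ∑ i ∈ Finset.Ico 1 p, (p.choose i : F) * s ^ i := by
        intro s
        rw [add_comm 1 s, add_pow, Finset.sum_range_succ,
          Finset.range_eq_Ico, Finset.sum_eq_sum_Ico_succ_bot hp.pos]
        simp only [one_pow, mul_one, Nat.choose_self, Nat.cast_one, Nat.choose_zero_right, pow_zero, zero_add]
        have : ∀ i ∈ Finset.Ico 1 p, s ^ i * (p.choose i : F) = (p.choose i : F) * s ^ i := fun i _ => mul_comm _ _
        rw [Finset.sum_congr rfl this]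
        ring
      have h6 := h5 (algebraMap A F y - 1)
      rw [add_sub_cancel] at h6
      simp only [map_natCast]
      rw [h6]; ring
    obtain ⟨z₀, hz₀⟩ := IsIntegrallyClosed.algebraMap_eq_of_integral
      (⟨Q, hQ, by rwa [← Polynomial.aeval_def]⟩ : IsIntegral A z)
    refine ⟨z₀, IsFractionRing.injective A F ?_⟩
    rw [map_mul, map_pow, hz₀, hz]
    simp [F]
  · rintro ⟨z, hz⟩
    rw [show y = 1 + l ^ k * z by rw [← hz]; ring, key]
    exact dvd_mul_right _ _

/-- Let R be a discrete valuation ring of characteristic zero whose maximal ideal contains the prime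
number p, let n ≥ 1, and let λ be a nonzero element of R such that λ^(p^(n−1)(p−1)) divides p (the
condition v(p) ≥ p^(n−1)(p−1)·v(λ) under which the polynomial ((1 + λT)^(p^n) − 1)/λ^(p^n) has
coefficients in R). Let A be an integrally closed integral domain which is a faithfully flat
R-algebra. Then for every unit x of A, λ^(p^n) divides x^(p^n) − 1 in A if and only if λ divides x −
1 in A. -/
theorem result (R : Type u) [CommRing R]
    [IsDomain R] [IsDiscreteValuationRing R] [CharZero R] (p n : ℕ) [Fact p.Prime] (hn : 1 ≤ n)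
    (hp : (p : R) ∈ IsLocalRing.maximalIdeal R) (lam : R) (hlam : lam ≠ 0)
    (hstar : lam ^ (p ^ (n - 1) * (p - 1)) ∣ (p : R))
    (A : Type u) [CommRing A] [IsDomain A] [IsIntegrallyClosed A] [Algebra R A] [Module.FaithfullyFlat R A]
    (x : Aˣ) :
    (algebraMap R A lam ^ p ^ n ∣ (x : A) ^ p ^ n - 1) ↔ (algebraMap R A lam ∣ (x : A) - 1) := by
  have hp' : p.Prime := Fact.out
  set l := algebraMap R A lam
  have hl : l ≠ 0 := by
    intro h
    exact hlam (FaithfulSMul.algebraMap_injective R A (h.trans (map_zero _).symm))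
  have key : ∀ j ≤ n, (l ^ p ^ j ∣ (x : A) ^ p ^ j - 1) ↔ (l ∣ (x : A) - 1) := by
    intro j hj
    induction j with
    | zero => simp
    | succ j ih =>
      have hdvd : l ^ (p ^ j * (p - 1)) ∣ (p : A) := by
        have h1 : l ^ (p ^ (n - 1) * (p - 1)) ∣ (p : A) := by
          simpa [l] using map_dvd (algebraMap R A) hstar
        exact (pow_dvd_pow _ (Nat.mul_le_mul_right _ (Nat.pow_le_pow_right hp'.pos (by omega)))).trans h1
      rw [← ih (by omega), ← step p hp' l hl (p ^ j) hdvd, ← pow_mul, ← pow_succ]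
  exact key n le_rfl

end Groth.Agent.S13158
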