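import Groth.Statements.S13161
import Mathlib
-- import your own Groth.Agent.* helpers here

set_option autoImplicit false
universe u
open scoped TensorProduct
open CAlg

namespace Groth.Agent.S13161

/-- Let R be a discrete valuation ring with fraction field K, A an R-algebra which is semireflexive as
an R-module (the map to its double dual is injective: every nonzero a ∈ A has an R-linear form f : A
→ R with f(a) ≠ 0), and B an A-algebra which is finitely generated as an A-module and flat over R.
Suppose B ⊗ K is semireflexive as a module over A ⊗ K, which for such B amounts to: every nonzero b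
∈ B has an A-linear map g : B → A ⊗_R K with g(b) ≠ 0. Then B is semireflexive as an R-module: every
nonzero b ∈ B has an R-linear form h : B → R with h(b) ≠ 0. (The published statement phrases the
hypothesis on B_K as an A_K-module; for B flat over R and finite over A this is the elementwise
condition used here.) -/
theorem result (R : Type u) [CommRing R] [IsDomain R]
    [IsDiscreteValuationRing R] (K : Type u) [Field K] [Algebra R K] [IsFractionRing R K]
    (A B : Type u) [CommRing A] [CommRing B] [Algebra R A] [Algebra R B] [Algebra A B] [IsScalarTower R A B]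
    [Module.Finite A B] [Module.Flat R B]
    (hA : ∀ a : A, a ≠ 0 → ∃ f : A →ₗ[R] R, f a ≠ 0)
    (hBK : ∀ b : B, b ≠ 0 → ∃ g : B →ₗ[A] A ⊗[R] K, g b ≠ 0) :
    ∀ b : B, b ≠ 0 → ∃ h : B →ₗ[R] R, h b ≠ 0 := by
  classical
  let ι : A →ₗ[A] A ⊗[R] K :=
    { toFun := fun a => a ⊗ₜ[R] (1 : K)
      map_add' := fun a b => TensorProduct.add_tmul a b 1
      map_smul' := fun c a => by rw [RingHom.id_apply, TensorProduct.smul_tmul'] }
  have hι : Function.Injective ι := by
    refine (injective_iff_map_eq_zero _).2 fun a ha => ?_
    by_contra hne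
    obtain ⟨f, hf⟩ := hA a hne
    have h1 := congrArg ((TensorProduct.lid R K).toLinearMap ∘ₗ f.rTensor K) ha
    exact hf (IsFractionRing.injective R K (by simpa [ι, Algebra.smul_def] using h1))
  have hden : ∀ t : A ⊗[R] K, ∃ r : R, r ≠ 0 ∧ algebraMap R A r • t ∈ LinearMap.range ι := by
    intro t
    induction t using TensorProduct.induction_on with
    | zero => exact ⟨1, one_ne_zero, by simp⟩
    | tmul a c =>
      obtain ⟨num, den, hden, rfl⟩ := IsFractionRing.div_surjective (A := R) c
      refine ⟨den, nonZeroDivisors.ne_zero hden, ⟨num • a, ?_⟩⟩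
      show (num • a) ⊗ₜ[R] (1 : K) = _
      rw [TensorProduct.smul_tmul, algebraMap_smul, ← TensorProduct.tmul_smul]
      congr 1
      rw [Algebra.smul_def, Algebra.smul_def, mul_one, mul_div_cancel₀]
      exact IsFractionRing.to_map_ne_zero_of_mem_nonZeroDivisors hden
    | add t t' h h' =>
      obtain ⟨r, hr, hrt⟩ := h
      obtain ⟨r', hr', hrt'⟩ := h'
      refine ⟨r * r', mul_ne_zero hr hr', ?_⟩
      rw [smul_add, map_mul]
      refine add_mem ?_ ?_
      · rw [mul_comm, mul_smul]; exact Submodule.smul_mem _ _ hrt
      · rw [mul_smul]; exact Submodule.smul_mem _ _ hrt'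
  intro b hb
  obtain ⟨g, hg⟩ := hBK b hb
  obtain ⟨G, hG⟩ := (Module.finite_def.1 ‹Module.Finite A B›)
  choose r hr hrG using fun z : B => hden (g z)
  let r₀ := ∏ z ∈ G, r z
  have hr₀ : r₀ ≠ 0 := Finset.prod_ne_zero_iff.2 fun z _ => hr z
  let g' : B →ₗ[A] A ⊗[R] K := algebraMap R A r₀ • g
  have hrange : ∀ z, g' z ∈ LinearMap.range ι := by
    have : (⊤ : Submodule A B) ≤ (LinearMap.range ι).comap g' := by
      rw [← hG, Submodule.span_le]
      intro z hz
      rw [SetLike.mem_coe, Submodule.mem_comap]
      show algebraMap R A r₀ • g z ∈ _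
      rw [show r₀ = (∏ w ∈ G.erase z, r w) * r z from (Finset.prod_erase_mul _ _ hz).symm, map_mul, mul_smul]
      exact Submodule.smul_mem _ _ (hrG z)
    exact fun z => this trivial
  let g'' : B →ₗ[A] A := (LinearEquiv.ofInjective ι hι).symm.toLinearMap ∘ₗ g'.codRestrict (LinearMap.range ι) hrange
  have hgb : g'' b ≠ 0 := by
    intro h0
    have h1 : g' b = 0 := by
      have := congrArg (fun a => ((LinearEquiv.ofInjective ι hι) a : A ⊗[R] K)) h0
      simpa [g''] using this
    apply hg
    have h2 : r₀ • g b = 0 := by rw [← algebraMap_smul A r₀ (g b)]; exact h1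
    have h3 : ∀ t : A ⊗[R] K, LinearMap.lTensor A ((algebraMap R K r₀ • (LinearMap.id : K →ₗ[K] K)).restrictScalars R) t = r₀ • t := by
      intro t
      induction t using TensorProduct.induction_on with
      | zero => simp
      | tmul a c =>
        rw [LinearMap.lTensor_tmul, ← TensorProduct.tmul_smul]
        simp [Algebra.smul_def]
      | add t t' h h' => rw [map_add, h, h', smul_add]
    have h4 := congrArg (LinearMap.lTensor A (((algebraMap R K r₀)⁻¹ • (LinearMap.id : K →ₗ[K] K)).restrictScalars R)) ((h3 (g b)).trans h2)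
    rw [map_zero, ← LinearMap.comp_apply, ← LinearMap.lTensor_comp] at h4
    have h5 : ((algebraMap R K r₀)⁻¹ • (LinearMap.id : K →ₗ[K] K)).restrictScalars R ∘ₗ
        (algebraMap R K r₀ • (LinearMap.id : K →ₗ[K] K)).restrictScalars R = LinearMap.id := by
      apply LinearMap.ext
      intro c
      have hne : algebraMap R K r₀ ≠ 0 := by simpa using hr₀
      simp only [LinearMap.comp_apply, LinearMap.coe_restrictScalars, LinearMap.smul_apply, LinearMap.id_apply, smul_eq_mul]
      rw [← mul_assoc, inv_mul_cancel₀ hne, one_mul]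
    rwa [h5, LinearMap.lTensor_id] at h4
  obtain ⟨f, hf⟩ := hA _ hgb
  exact ⟨f ∘ₗ g''.restrictScalars R, hf⟩

end Groth.Agent.S13161
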