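import Groth.Statements.S13176
import Groth.Agent.IntTh85.QuotUH

set_option autoImplicit false
set_option linter.style.haveILetI false
universe u
open CategoryTheory CategoryTheory.Limits AlgebraicGeometry
open ZeroCyc

namespace Groth.Agent.S13176

/-- Let a finite group G act on a scheme X over S through ρ, let q : X → Y be a quotient of X by G over
S (affine, G-invariant, O_Y = the G-invariant sections of O_X), let S' → S be any morphism and X' =
X ×_S S' with the induced action ρ', and let r : X' → Y' be a quotient of X' by G. Then the morphism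
Y' → Y ×_S S' through which the canonical map X' → Y ×_S S' factors via r is a universal
homeomorphism. (The published statement assumes every G-orbit lies in an affine open, which is what
makes the quotients exist; here the two quotients are hypotheses.) -/
theorem result {X Y S S' Y' : Scheme.{u}} {G : Type u} [Group G] [Finite G]
    (ρ : G →* Aut X) (f : X ⟶ S) (hρ : ∀ σ : G, (ρ σ).hom ≫ f = f)
    (q : X ⟶ Y) (h : Y ⟶ S) (hq : q ≫ h = f) (hquot : SGA1.IsQuot ρ q)
    (g : S' ⟶ S)
    (ρ' : G →* Aut (pullback f g))
    (hρ' : ∀ σ : G, (ρ' σ).hom ≫ pullback.fst f g = pullback.fst f g ≫ (ρ σ).hom ∧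
      (ρ' σ).hom ≫ pullback.snd f g = pullback.snd f g)
    (r : pullback f g ⟶ Y') (hr : SGA1.IsQuot ρ' r)
    (m : Y' ⟶ pullback h g)
    (hm : r ≫ m = pullback.map f g h g q (𝟙 S') (𝟙 S)
      ((Category.comp_id f).trans hq.symm) ((Category.comp_id g).trans (Category.id_comp g).symm)) :
    FlatMor.IsUnivHomeo m := by
  haveI : Surjective r := ⟨SGA1Q.surjective hr⟩
  haveI : IsIntegralHom q := SGA1Q.isIntegralHom hquot
  haveI : Surjective q := ⟨SGA1Q.surjective hquot⟩
  haveI : MorphismProperty.IsStableUnderComposition @Surjective :=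
    ⟨fun f g (hf : Surjective f) (hg : Surjective g) => inferInstanceAs (Surjective (f ≫ g))⟩
  haveI : Surjective (r ≫ m) := by
    rw [hm]
    exact MorphismProperty.pullbackMap (P := @Surjective) (f := f) (g := g) (f' := h) (g' := g)
      (i₁ := q) (i₂ := 𝟙 S') inferInstance inferInstance hq.symm (Category.id_comp g).symm
  haveI : UniversallyClosed (r ≫ m) := by
    rw [hm]
    exact MorphismProperty.pullbackMap (P := @UniversallyClosed) (f := f) (g := g) (f' := h) (g' := g)
      (i₁ := q) (i₂ := 𝟙 S') inferInstance inferInstance hq.symm (Category.id_comp g).symm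
  refine IntTh85.QuotUH.isUnivHomeo_of_comp r m fun Ω _ _ a b hab => ?_
  rw [hm] at hab
  have h1 : (a ≫ pullback.fst f g) ≫ q = (b ≫ pullback.fst f g) ≫ q := by
    have := hab =≫ pullback.fst h g
    simpa only [pullback.map, Category.assoc, pullback.lift_fst] using this
  have h2 : a ≫ pullback.snd f g = b ≫ pullback.snd f g := by
    have := hab =≫ pullback.snd h g
    simpa only [pullback.map, Category.assoc, pullback.lift_snd, Category.comp_id] using this
  obtain ⟨σ, hσ⟩ := QuotPerm75.geomTransitive_of_isQuot hquot Ω _ _ h1
  have hb : a ≫ (ρ' σ).hom = b := by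
    apply pullback.hom_ext
    · rw [Category.assoc, (hρ' σ).1, ← Category.assoc, hσ]
    · rw [Category.assoc, (hρ' σ).2, h2]
  rw [← hb, Category.assoc, hr.inv σ]

end Groth.Agent.S13176
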