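import Groth.Statements.S13177
import Groth.Agent.IntTh85.QuotUH

set_option autoImplicit false
set_option linter.style.haveILetI false
universe u
open CategoryTheory CategoryTheory.Limits AlgebraicGeometry
open ZeroCyc

namespace Groth.Agent.S13177

/-- Let a finite group G act on a scheme X with quotient q : X → Y (affine, G-invariant, O_Y = the
invariant sections), let i : Z → X be a G-stable closed subscheme with the induced action and r : Z
→ W a quotient of Z by G, and let q(Z) be the scheme-theoretic image of Z in Y. Then the morphism W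
→ q(Z) through which Z → q(Z) factors via r is a schematically dominant universal homeomorphism.
(The published statement assumes the quotient of X exists; here both quotients are hypotheses.) -/
theorem result {X Y Z W : Scheme.{u}} {G : Type u} [Group G] [Finite G]
    (ρ : G →* Aut X) (q : X ⟶ Y) (hquot : SGA1.IsQuot ρ q)
    (i : Z ⟶ X) [IsClosedImmersion i] (ρZ : G →* Aut Z) (hρZ : ∀ σ : G, (ρZ σ).hom ≫ i = i ≫ (ρ σ).hom)
    (r : Z ⟶ W) (hr : SGA1.IsQuot ρZ r)
    (m : W ⟶ (i ≫ q).ker.subscheme) (hm : r ≫ m ≫ (i ≫ q).ker.subschemeι = i ≫ q) :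
    FlatMor.IsUnivHomeo m ∧ IsSchemeTheoreticallyDominant m := by
  haveI : Surjective r := ⟨SGA1Q.surjective hr⟩
  haveI : IsIntegralHom q := SGA1Q.isIntegralHom hquot
  set ι := (i ≫ q).ker.subschemeι with hι
  have hm' : (r ≫ m) ≫ ι = i ≫ q := by rw [Category.assoc]; exact hm
  have hto : r ≫ m = (i ≫ q).toImage := by
    rw [← cancel_mono ι, hm']
    exact (i ≫ q).toImage_imageι.symm
  haveI : UniversallyClosed (i ≫ q) := inferInstance
  haveI : UniversallyClosed (r ≫ m) := by
    haveI : UniversallyClosed ((r ≫ m) ≫ ι) := by rw [hm']; infer_instance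
    exact UniversallyClosed.of_comp_of_isSeparated (r ≫ m) ι
  haveI : Surjective (r ≫ m) := by
    haveI : IsDominant (r ≫ m) := by rw [hto]; infer_instance
    exact Surjective.of_universallyClosed_of_isDominant (r ≫ m)
  have uh : FlatMor.IsUnivHomeo m := by
    refine IntTh85.QuotUH.isUnivHomeo_of_comp r m fun Ω _ _ a b hab => ?_
    have h1 : (a ≫ i) ≫ q = (b ≫ i) ≫ q := by
      simp only [Category.assoc, ← hm']
      simpa only [Category.assoc] using hab =≫ ι
    obtain ⟨σ, hσ⟩ := QuotPerm75.geomTransitive_of_isQuot hquot Ω _ _ h1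
    have hb : a ≫ (ρZ σ).hom = b := by
      rw [← cancel_mono i, Category.assoc, hρZ, ← Category.assoc, hσ]
    rw [← hb, Category.assoc, hr.inv σ]
  refine ⟨uh, ⟨?_⟩⟩
  haveI : UniversallyClosed m := MorLib.universallyClosed_of_isUnivHomeo uh
  haveI : IsAffineHom ι := inferInstance
  refine Scheme.IdealSheafData.ext_of_iSup_eq_top
    (fun U : Y.affineOpens => ⟨ι ⁻¹ᵁ U.1, U.2.preimage ι⟩) ?_ fun U => ?_
  · rw [← Scheme.Hom.preimage_iSup, iSup_affineOpens_eq_top]; rfl
  rw [Scheme.Hom.ker_apply, Scheme.IdealSheafData.ideal_bot, Pi.bot_apply,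
    ← RingHom.injective_iff_ker_eq_bot]
  have hinj := (i ≫ q).toImage_app_injective U
  rw [← hto, Scheme.Hom.comp_app] at hinj
  refine Function.Injective.of_comp (f := (r.app (m ⁻¹ᵁ ι ⁻¹ᵁ U.1)).hom) ?_
  intro x y hxy
  exact hinj hxy

end Groth.Agent.S13177
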