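import Groth.Statements.S1327
import Groth.Agent.Ega43Sect.SectInterior

set_option autoImplicit false
set_option linter.style.haveILetI false
set_option backward.isDefEq.respectTransparency false
set_option backward.isDefEq.respectTransparency.types false
universe u
open FlatMor

namespace Groth.Agent.S1327

open AlgebraicGeometry CategoryTheory Limits in
/-- Let f be flat and of finite presentation with a section s, and let y be a point of the target whose
fibre is geometrically reduced. Then the section components of (f, s) contain an open neighbourhood
of the connected component of s y in the fibre over y. -/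
theorem result {X Y : Scheme.{u}} (f : X ⟶ Y) (s : Y ⟶ X) (hs : s ≫ f = 𝟙 Y)
    [LocallyOfFinitePresentation f] [QuasiCompact f] [QuasiSeparated f] [Flat f] (y : Y)
    (hy : GeometricallyReduced (f.fiberToSpecResidueField y)) :
    connectedComponentIn (f ⁻¹' {y}) (s y) ⊆ interior (MoreMor.sectionComponents f s) := by
  refine Ega43Sect.subset_interior_of_flat f s hs y fun x hx => ?_
  obtain ⟨a, rfl⟩ : x ∈ Set.range (f.fiberι y) := (f.range_fiberι y).ge (connectedComponentIn_subset _ _ hx)
  refine (Ega43Sect.isGeomReducedAt_iff_E f y a).1 fun K _ _ z _ => ?_
  haveI : IsReduced (FBase.bc (f.fiberToSpecResidueField y) K) :=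
    pullback_of_geometrically hy.1 K (Spec.map (CommRingCat.ofHom (algebraMap (IsLocalRing.ResidueField (Y.presheaf.stalk y)) K)))
  infer_instance
end Groth.Agent.S1327
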