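import Groth.Statements.S13340
import Groth.Agent.FormalSch78.PullSys
import Groth.Agent.FComplLib.Sys

set_option autoImplicit false
open CategoryTheory CategoryTheory.Limits
universe u
open FCompl

namespace Groth.Agent.S13340

open AlgebraicGeometry in
/-- Let X be a locally Noetherian scheme, 𝓘 a quasi-coherent ideal sheaf and X̂ the completion of X
along 𝓘 (the system of the closed subschemes of the powers of 𝓘, as a ringed space with structure
sheaf lim O_{X_k}). Completion F ↦ F̂ = lim_k (u_k)_* i_k^* F of coherent O_X-modules is exact: for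
a short exact sequence 0 → F' → F → F'' → 0 of coherent modules the induced sequence of completed
O_X̂-modules has zero composite and is short exact. -/
theorem result (X : Scheme.{u}) [IsLocallyNoetherian X] (𝓘 : X.IdealSheafData)
    (h : (FSch.completionAlong X 𝓘).IsFormal) (S : ShortComplex X.Modules) (hS : S.ShortExact)
    (h1 : Coh.IsCoh S.X₁) (h2 : Coh.IsCoh S.X₂) (h3 : Coh.IsCoh S.X₃) :
    FSch.ModSys.realModMap h (FSch.complModMap 𝓘 S.f) ≫ FSch.ModSys.realModMap h (FSch.complModMap 𝓘 S.g) = 0 ∧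
      ∀ w : FSch.ModSys.realModMap h (FSch.complModMap 𝓘 S.f) ≫ FSch.ModSys.realModMap h (FSch.complModMap 𝓘 S.g) = 0,
        (ShortComplex.mk _ _ w).ShortExact := by
  have hp := FSch.completionToX_comm X 𝓘
  let p := FSch.completionToX X 𝓘
  have e : ∀ {F G : X.Modules} (φ : F ⟶ G),
      FSch.ModSys.realModMap h (show Groth.Agent.FormalSch78.pullSys (𝔛 := FSch.completionAlong X 𝓘) p hp F ⟶
        Groth.Agent.FormalSch78.pullSys (𝔛 := FSch.completionAlong X 𝓘) p hp G from FSch.complModMap 𝓘 φ) =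
      FSch.ModSys.realModMap h (Groth.Agent.FormalSch78.pullSysMap (𝔛 := FSch.completionAlong X 𝓘) p hp φ) :=
    fun φ => congrArg _ (FSch.ModSys.Hom.ext (funext fun n => rfl))
  have h0 : FSch.ModSys.realModMap h (show Groth.Agent.FormalSch78.pullSys (𝔛 := FSch.completionAlong X 𝓘) p hp S.X₁ ⟶
        Groth.Agent.FormalSch78.pullSys (𝔛 := FSch.completionAlong X 𝓘) p hp S.X₂ from FSch.complModMap 𝓘 S.f) ≫
      FSch.ModSys.realModMap h (show Groth.Agent.FormalSch78.pullSys (𝔛 := FSch.completionAlong X 𝓘) p hp S.X₂ ⟶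
        Groth.Agent.FormalSch78.pullSys (𝔛 := FSch.completionAlong X 𝓘) p hp S.X₃ from FSch.complModMap 𝓘 S.g) = 0 ∧
      ∀ w, (ShortComplex.mk (FSch.ModSys.realModMap h (show Groth.Agent.FormalSch78.pullSys (𝔛 := FSch.completionAlong X 𝓘) p hp S.X₁ ⟶
        Groth.Agent.FormalSch78.pullSys (𝔛 := FSch.completionAlong X 𝓘) p hp S.X₂ from FSch.complModMap 𝓘 S.f))
        (FSch.ModSys.realModMap h (show Groth.Agent.FormalSch78.pullSys (𝔛 := FSch.completionAlong X 𝓘) p hp S.X₂ ⟶
        Groth.Agent.FormalSch78.pullSys (𝔛 := FSch.completionAlong X 𝓘) p hp S.X₃ from FSch.complModMap 𝓘 S.g)) w).ShortExact := by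
    simp only [e]
    refine ⟨Groth.Agent.FormalSch78.realModMap_comp_zero h p hp, fun w => ?_⟩
    have : ∀ n, IsClosedImmersion (p n) := fun n => Groth.Agent.FComplLib.isClosedImmersion_completionToX 𝓘 n
    exact Groth.Agent.FormalSch78.shortExact_realModMap h p hp 𝓘
      (fun n => Scheme.IdealSheafData.ker_subschemeι _) S hS h1 h2 h3 w
  exact h0

end Groth.Agent.S13340
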