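import Groth.Statements.S13341
import Groth.Agent.FComplLib.Sys
import Groth.Prelude.Def_FSch4

set_option autoImplicit false
open CategoryTheory CategoryTheory.Limits
universe u
open FCompl

namespace Groth.Agent.S13341

open AlgebraicGeometry in
/-- Formal schemes are presented as locally Noetherian adic systems of thickenings and the fibre product
is taken levelwise (it presents the fibre product of formal schemes since one factor is adic over
the base). Let 𝔖 be a locally Noetherian formal system, 𝔛 and 𝔜 locally Noetherian formal systems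
over 𝔖 such that 𝔛 or 𝔜 is of finite type over 𝔖, and 𝔜 separated over 𝔖 at level 0. Then for every
𝔖-morphism f : 𝔛 → 𝔜 the graph morphism 𝔛 → 𝔛 ×_𝔖 𝔜 is a closed immersion: adic, with level 0 a
closed immersion. -/
theorem result {𝔛 𝔜 𝔖 : FSch.Sys.{u}} (h𝔖 : 𝔖.IsLocNoethFormal) (h𝔛 : 𝔛.IsLocNoethFormal)
    (h𝔜 : 𝔜.IsLocNoethFormal) (p : 𝔛 ⟶ 𝔖) (q : 𝔜 ⟶ 𝔖) (hpq : FSch.IsFiniteTypeHom p ∨ FSch.IsFiniteTypeHom q)
    (hq : IsSeparated ((q : FSch.Hom 𝔜 𝔖).app 0)) (f : 𝔛 ⟶ 𝔜) (w : f ≫ q = p) :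
    FSch.IsClosedImmHom (FSch.graph f p q w) := by
  refine ⟨fun n => ⟨⟨((FSch.graph f p q w : FSch.Hom _ _).comm n).symm⟩, ⟨?_⟩⟩, ?_⟩
  · have : Mono (𝔛.ι n) := by have := (h𝔛.1 n).1; infer_instance
    have : Mono (𝔜.ι n) := by have := (h𝔜.1 n).1; infer_instance
    let g : ∀ m, 𝔛.X m ⟶ (FSch.pullbackSys p q).X m := fun m => (FSch.graph f p q w : FSch.Hom _ _).app m
    let π₁ : ∀ m, (FSch.pullbackSys p q).X m ⟶ 𝔛.X m := fun m => (FSch.pullbackFst p q : FSch.Hom _ _).app m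
    let π₂ : ∀ m, (FSch.pullbackSys p q).X m ⟶ 𝔜.X m := fun m => (FSch.pullbackSnd p q : FSch.Hom _ _).app m
    have g₁ : ∀ m, g m ≫ π₁ m = 𝟙 _ := fun m => pullback.lift_fst _ _ _
    have g₂ : ∀ m, g m ≫ π₂ m = (f : FSch.Hom _ _).app m := fun m => pullback.lift_snd _ _ _
    have ι₁ : (FSch.pullbackSys p q).ι n ≫ π₁ (n + 1) = π₁ n ≫ 𝔛.ι n :=
      ((FSch.pullbackFst p q : FSch.Hom _ _).comm n).symm
    have ι₂ : (FSch.pullbackSys p q).ι n ≫ π₂ (n + 1) = π₂ n ≫ 𝔜.ι n :=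
      ((FSch.pullbackSnd p q : FSch.Hom _ _).comm n).symm
    refine PullbackCone.IsLimit.mk _ (fun s => s.snd ≫ π₁ n) (fun s => ?_) (fun s => ?_)
      (fun s m hm₁ hm₂ => ?_)
    all_goals have hc : s.fst ≫ g (n + 1) = s.snd ≫ (FSch.pullbackSys p q).ι n := s.condition
    · have h := congrArg (fun t => t ≫ π₁ (n + 1)) hc
      simp only [Category.assoc, g₁, ι₁, Category.comp_id] at h
      rw [Category.assoc]
      exact h.symm
    · have h := congrArg (fun t => t ≫ π₁ (n + 1)) hc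
      have h' := congrArg (fun t => t ≫ π₂ (n + 1)) hc
      simp only [Category.assoc, g₁, g₂, ι₁, ι₂, Category.comp_id] at h h'
      apply pullback.hom_ext
      · show ((s.snd ≫ π₁ n) ≫ g n) ≫ π₁ n = s.snd ≫ π₁ n
        rw [Category.assoc, g₁, Category.comp_id]
      · show ((s.snd ≫ π₁ n) ≫ g n) ≫ π₂ n = s.snd ≫ π₂ n
        rw [Category.assoc, g₂, ← cancel_mono (𝔜.ι n), Category.assoc, Category.assoc, Category.assoc,
          (f : FSch.Hom _ _).comm n, ← h', h]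
        simp only [Category.assoc]
    · have h := congrArg (fun t => t ≫ π₁ n) (show m ≫ g n = s.snd from hm₂)
      simp only [Category.assoc, g₁, Category.comp_id] at h
      exact h
  · have hw : (f : FSch.Hom 𝔛 𝔜).app 0 ≫ (q : FSch.Hom 𝔜 𝔖).app 0 = (p : FSch.Hom 𝔛 𝔖).app 0 := by
      rw [← FSch.comp_app, w]
    let k : 𝔛.X 0 ⟶ pullback ((p : FSch.Hom 𝔛 𝔖).app 0) ((q : FSch.Hom 𝔜 𝔖).app 0) :=
      pullback.lift (𝟙 _) ((f : FSch.Hom 𝔛 𝔜).app 0) (by rw [Category.id_comp, hw])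
    show IsClosedImmersion k
    have : IsClosedImmersion (k ≫ pullback.fst _ _) := by
      rw [pullback.lift_fst]; infer_instance
    have : IsSeparated (pullback.fst ((p : FSch.Hom 𝔛 𝔖).app 0) ((q : FSch.Hom 𝔜 𝔖).app 0)) :=
      MorphismProperty.pullback_fst _ _ hq
    exact IsClosedImmersion.of_comp k (pullback.fst _ _)

end Groth.Agent.S13341
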