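import Groth.Statements.S1337
import Groth.Agent.CStk17.GeomConn.Constr

set_option autoImplicit false
universe u
open FlatMor

namespace Groth.Agent.S1337

set_option backward.isDefEq.respectTransparency false
set_option backward.isDefEq.respectTransparency.types false

open AlgebraicGeometry CategoryTheory Limits in
/-- Let f be of finite type and let y be a point of the target. Then the function counting the connected
components of the geometric fibres of f is constant on some subset of the closure of y which is open
in that closure and contains y. -/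
theorem result {X Y : Scheme.{u}} (f : X ⟶ Y) [LocallyOfFiniteType f] [QuasiCompact f] (y : Y) :
    ∃ V : Set ↑Y, V ⊆ closure {y} ∧ y ∈ V ∧ IsOpen (Subtype.val ⁻¹' V : Set ↑(closure ({y} : Set ↑Y))) ∧
      ∀ y' ∈ V, MoreMor.nGeomConnComp f y' = MoreMor.nGeomConnComp f y := by
  obtain ⟨T, j, _, _, hr, hj⟩ := Groth.Agent.ConsPropLib.exists_integral_closure y
  obtain ⟨V, hη, hV⟩ := Groth.Agent.CStk17.GeomConn.exists_nGeom_const (pullback.snd f j)
  have hb := fun t => (Groth.Agent.Triage.GeomCount.nGeom_baseChange f (pullback.snd f j) _ j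
    (IsPullback.of_hasPullback f j) t).2
  refine ⟨j '' (V : Set ↥T), hr ▸ Set.image_subset_range _ _, ⟨_, hη, hj⟩, ?_, ?_⟩
  · obtain ⟨O, hO, hOV⟩ := j.isClosedEmbedding.isInducing.isOpen_iff.1 V.isOpen
    rw [← hOV, Set.image_preimage_eq_inter_range, hr]
    have : (Subtype.val ⁻¹' (O ∩ closure {y}) : Set ↥(closure ({y} : Set ↥Y))) = Subtype.val ⁻¹' O := by
      ext z
      exact ⟨fun h => h.1, fun h => ⟨h, z.2⟩⟩
    rw [this]
    exact hO.preimage continuous_subtype_val
  · rintro _ ⟨v, hv, rfl⟩
    rw [← hb, hV v hv, hb, hj]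

end Groth.Agent.S1337
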