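import Groth.Statements.S13393
import Groth.Agent.IntTh85.SymQuot
import Groth.Agent.IntTh85.PullSec
import Groth.Agent.IntTh85.AppCrit

set_option autoImplicit false
universe u
open CategoryTheory CategoryTheory.Limits AlgebraicGeometry
open ZeroCyc
open scoped TensorProduct
open Groth.Agent.SymProdLib (appLE_congr_hom)
open Groth.Agent.IntTh85 SymPair SymQuot

namespace Groth.Agent.S13393

set_option maxHeartbeats 1600000 in
/-- Scheme case. Let f : X → S be separated and let (Y, q, g) be a d-th symmetric product of X over S: q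
: (X/S)^d → Y is a quotient of the d-fold fibre product by the symmetric group permuting the factors
and g : Y → S its structure map. Let S' → S be a morphism, let the symmetric group act on (X/S)^d
×_S S' through the first factor (this is the d-fold fibre product of X' = X ×_S S' over S' with its
permutation action), let r : (X/S)^d ×_S S' → Y' be a quotient by that action, i.e. a symmetric
product Sym^d(X'/S'), and let m : Y' → Y ×_S S' be the morphism with r ≫ m = q × id. Then m induces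
an isomorphism on residue fields at every point of Y' (trivial residue field extensions); if every
positive integer is invertible in Γ(S', O_{S'}) then m is an isomorphism; and if X' → S' is flat
then m is a closed immersion. (The published statement is for X a separated algebraic space over S,
where the symmetric products always exist as algebraic spaces; this row is the case of schemes in
which both quotients exist as schemes, taken as hypotheses, and leaves the universal-homeomorphism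
clause to the general finite-group statement.) -/
theorem result {X S S' Y Y' : Scheme.{u}} (f : X ⟶ S) [IsSeparated f] (d : ℕ)
    (q : SymProd.fibPow f d ⟶ Y) (g : Y ⟶ S) (hq : SymProd.IsSymProd f d q g)
    (gS : S' ⟶ S)
    (ρ' : ULift.{u} (Equiv.Perm (Fin d)) →* Aut (pullback (WidePullback.base fun _ : Fin d => f) gS))
    (hρ' : ∀ σ, (ρ' σ).hom ≫ pullback.fst (WidePullback.base fun _ : Fin d => f) gS =
        pullback.fst (WidePullback.base fun _ : Fin d => f) gS ≫ SymProd.permHom f d σ.down ∧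
      (ρ' σ).hom ≫ pullback.snd (WidePullback.base fun _ : Fin d => f) gS =
        pullback.snd (WidePullback.base fun _ : Fin d => f) gS)
    (r : pullback (WidePullback.base fun _ : Fin d => f) gS ⟶ Y') (hr : SGA1.IsQuot ρ' r)
    (m : Y' ⟶ pullback g gS)
    (hm : r ≫ m = pullback.map (WidePullback.base fun _ : Fin d => f) gS g gS q (𝟙 S') (𝟙 S)
      ((Category.comp_id _).trans hq.over.symm) ((Category.comp_id gS).trans (Category.id_comp gS).symm)) :
    (∀ y : Y', IsIso (m.residueFieldMap y)) ∧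
    ((∀ n : ℕ, 0 < n → IsUnit ((n : ℕ) : Γ(S', ⊤))) → IsIso m) ∧
    (Flat (pullback.snd f gS) → IsClosedImmersion m) := by
  set M := pullback.map (WidePullback.base fun _ : Fin d => f) gS g gS q (𝟙 S') (𝟙 S)
    ((Category.comp_id _).trans hq.over.symm) ((Category.comp_id gS).trans (Category.id_comp gS).symm) with hM
  have hM₁ : M ≫ pullback.fst g gS = pullback.fst (WidePullback.base fun _ : Fin d => f) gS ≫ q :=
    pullback.lift_fst _ _ _
  have hM₂ : M ≫ pullback.snd g gS = pullback.snd (WidePullback.base fun _ : Fin d => f) gS ≫ 𝟙 S' :=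
    pullback.lift_snd _ _ _
  haveI := hq.isQuot.affine
  haveI : MorphismProperty.IsStableUnderComposition @IsAffineHom.{u} :=
    ⟨fun a b ha hb => by haveI := ha; haveI := hb; infer_instance⟩
  haveI hMaff : IsAffineHom M :=
    MorphismProperty.pullback_map (P := @IsAffineHom) hq.isQuot.affine
      (inferInstanceAs (IsAffineHom (𝟙 S'))) hq.over.symm (Category.id_comp gS).symm
  haveI : IsAffineHom m := (SGA1Q.isAffineHom_iff_of_isQuot hr hm).1 hMaff
  have heq : ∀ σ, SymProd.permHom f d σ ≫ 𝟙 _ = 𝟙 _ ≫ SymProd.permHom f d σ := fun σ => by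
    rw [Category.comp_id, Category.id_comp]
  -- on a chart
  have chart : ∀ p : ↥(pullback g gS), ∃ (V : S.Opens) (Y₀ : Y.Opens) (V' : S'.Opens) (O : (pullback g gS).Opens)
      (_ : Algebra Γ(S, V) Γ(Y, Y₀)) (_ : Algebra Γ(S, V) Γ(S', V'))
      (P : Pair (𝟙 (SymProd.fibPow f d)) V) (hPO : q ⁻¹ᵁ Y₀ = P.O)
      (ι : Γ(Y, Y₀) →ₐ[Γ(S, V)] Γ(SymProd.fibPow f d, 𝟙 (SymProd.fibPow f d) ⁻¹ᵁ P.O))
      (Φ₀ : Γ(Y, Y₀) ⊗[Γ(S, V)] Γ(S', V') →+* Γ(pullback g gS, O))
      (Φ : Γ(SymProd.fibPow f d, 𝟙 (SymProd.fibPow f d) ⁻¹ᵁ P.O) ⊗[Γ(S, V)] Γ(S', V') →+*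
        Γ(pullback (WidePullback.base fun _ : Fin d => f) gS, r ⁻¹ᵁ (m ⁻¹ᵁ O)))
      (hst : Stable (MonoidHom.id (Equiv.Perm (Fin d))) P.O),
      IsAffineOpen V ∧ IsAffineOpen O ∧ p ∈ O ∧ IsAffineOpen P.O ∧
      (Flat (pullback.snd f gS) → SymSpan.LocalSpan f f (𝟙 X) (Category.id_comp f) d V Γ(S', V')) ∧
      (∀ b, ι b = algebraMap Γ(SymProd.fibPow f d, P.O) _ ((q.appLE Y₀ P.O hPO.ge).hom b)) ∧
      Function.Bijective Φ₀ ∧ Function.Bijective Φ ∧
      (∀ z, (r.app (m ⁻¹ᵁ O)).hom ((m.app O).hom (Φ₀ z)) = Φ (ι.toLinearMap.rTensor _ z)) ∧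
      ∀ σ z, ((ρ' ⟨σ⁻¹⟩).hom.appLE (r ⁻¹ᵁ (m ⁻¹ᵁ O)) (r ⁻¹ᵁ (m ⁻¹ᵁ O))
          (SGA1.preimage_le_of_inv ρ' r hr.inv _ _)).hom (Φ z) =
        Φ ((act' heq P hst σ).toLinearMap.rTensor _ z) := by
    intro p
    obtain ⟨V, hV, hpV, -⟩ := exists_isAffineOpen_mem_and_subset
      (x := g.base ((pullback.fst g gS).base p)) (U := ⊤) trivial
    obtain ⟨Y₀, hY₀, hpY, hY₀V⟩ := exists_isAffineOpen_mem_and_subset
      (x := (pullback.fst g gS).base p) (U := g ⁻¹ᵁ V) hpV
    obtain ⟨V', hV', hpV', hV'V⟩ := exists_isAffineOpen_mem_and_subset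
      (x := (pullback.snd g gS).base p) (U := gS ⁻¹ᵁ V) (by
        show gS.base ((pullback.snd g gS).base p) ∈ V
        rw [← Scheme.Hom.comp_apply, ← pullback.condition]
        exact hpV)
    have le₁ : q ⁻¹ᵁ Y₀ ≤ (WidePullback.base fun _ : Fin d => f) ⁻¹ᵁ V := by
      rw [← hq.over, Scheme.Hom.comp_preimage]; exact q.preimage_mono hY₀V
    let P : Pair (𝟙 (SymProd.fibPow f d)) V := SymSpan.pairOf (q ⁻¹ᵁ Y₀) le₁ (Category.id_comp _)
    have hP : IsAffineOpen P.O := hY₀.preimage q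
    let O : (pullback g gS).Opens := pullback.fst g gS ⁻¹ᵁ Y₀ ⊓ pullback.snd g gS ⁻¹ᵁ V'
    have hO : IsAffineOpen O :=
      PullSec.isAffineOpen_pullback (IsPullback.of_hasPullback g gS) hV'V hY₀V rfl hV hV' hY₀
    letI algY := (g.appLE V Y₀ hY₀V).hom.toAlgebra
    letI algV := (gS.appLE V V' hV'V).hom.toAlgebra
    have hUY : r ⁻¹ᵁ (m ⁻¹ᵁ O) = pullback.fst (WidePullback.base fun _ : Fin d => f) gS ⁻¹ᵁ
        (𝟙 (SymProd.fibPow f d) ⁻¹ᵁ P.O) ⊓
          pullback.snd (WidePullback.base fun _ : Fin d => f) gS ⁻¹ᵁ V' := by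
      rw [← Scheme.Hom.comp_preimage, hm]
      show M ⁻¹ᵁ (pullback.fst g gS ⁻¹ᵁ Y₀) ⊓ M ⁻¹ᵁ (pullback.snd g gS ⁻¹ᵁ V') = _
      rw [← Scheme.Hom.comp_preimage, ← Scheme.Hom.comp_preimage, hM₁, hM₂, Scheme.Hom.comp_preimage,
        Scheme.Hom.comp_preimage]
      rfl
    obtain ⟨Φ₀, hΦ₀, hΦ₀t⟩ := PullSec.exists_tensor_bijective (IsPullback.of_hasPullback g gS)
      (UY := O) hV'V hY₀V rfl hV hV' hY₀ (fun _ => rfl) (fun _ => rfl) inf_le_left inf_le_right
    obtain ⟨Φ, hΦ, hΦt⟩ := PullSec.exists_tensor_bijective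
      (IsPullback.of_hasPullback (WidePullback.base fun _ : Fin d => f) gS)
      (UY := r ⁻¹ᵁ (m ⁻¹ᵁ O)) hV'V P.le' hUY hV hV' (hP.preimage (𝟙 _)) (fun _ => rfl) (fun _ => rfl)
      (hUY.le.trans inf_le_left) (hUY.le.trans inf_le_right)
    refine ⟨V, Y₀, V', O, algY, algV, P, rfl, chartHom hq.over P rfl hY₀V (fun _ => rfl), Φ₀, Φ,
      stable_of_preimage hq.isQuot rfl, hV, hO, ⟨hpY, hpV'⟩, hP, fun hflat => ?_,
      chartHom_eq hq.over P rfl hY₀V (fun _ => rfl), hΦ₀, hΦ, fun z => ?_, fun σ z => ?_⟩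
    · refine localSpan_of_flat_baseChange (Category.id_comp f) d Γ(S', V') fun U hU e => ?_
      letI algU := (f.appLE V (𝟙 X ⁻¹ᵁ U) (SymSpan.preimage_le f f (𝟙 X) (Category.id_comp f) e)).hom.toAlgebra
      let PU := pullback.fst f gS ⁻¹ᵁ (𝟙 X ⁻¹ᵁ U) ⊓ pullback.snd f gS ⁻¹ᵁ V'
      obtain ⟨Ψ, hΨ, hΨt⟩ := PullSec.exists_tensor_bijective (IsPullback.of_hasPullback f gS)
        (UY := PU) hV'V (SymSpan.preimage_le f f (𝟙 X) (Category.id_comp f) e) rfl hV hV' (hU.preimage (𝟙 X))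
        (fun _ => rfl) (fun _ => rfl) inf_le_left inf_le_right
      have hPU : IsAffineOpen PU := PullSec.isAffineOpen_pullback (IsPullback.of_hasPullback f gS) hV'V
        (SymSpan.preimage_le f f (𝟙 X) (Category.id_comp f) e) rfl hV hV' (hU.preimage (𝟙 X))
      letI algPU := ((pullback.snd f gS).appLE V' PU inf_le_right).hom.toAlgebra
      haveI : Module.Flat Γ(S', V') Γ(pullback f gS, PU) :=
        (RingHom.flat_algebraMap_iff (R := Γ(S', V')) (S := Γ(pullback f gS, PU))).1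
          ((pullback.snd f gS).flat_appLE hV' hPU inf_le_right)
      let L : Γ(S', V') ⊗[Γ(S, V)] Γ(X, 𝟙 X ⁻¹ᵁ U) →ₗ[Γ(S', V')] Γ(pullback f gS, PU) :=
        { toFun := fun z => Ψ (TensorProduct.comm Γ(S, V) _ _ z)
          map_add' := fun a b => by rw [map_add, map_add]
          map_smul' := fun s z => by
            induction z using TensorProduct.induction_on with
            | zero => simp only [smul_zero, map_zero, RingHom.id_apply]
            | add a b ha hb =>
              simp only [RingHom.id_apply] at ha hb ⊢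
              rw [smul_add, map_add, map_add, ha, hb, map_add, map_add, smul_add]
            | tmul a b =>
              rw [RingHom.id_apply, TensorProduct.smul_tmul', TensorProduct.comm_tmul, TensorProduct.comm_tmul,
                hΨt, hΨt, smul_eq_mul, map_mul, Algebra.smul_def, RingHom.algebraMap_toAlgebra]
              exact mul_left_comm _ _ _ }
      exact Module.Flat.of_linearEquiv
        (LinearEquiv.ofBijective L (hΨ.comp (TensorProduct.comm Γ(S, V) _ _).bijective))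
    · rw [← RingHom.comp_apply, ← CommRingCat.hom_comp, ← Scheme.Hom.comp_app]
      induction z using TensorProduct.induction_on with
      | zero => rw [map_zero, map_zero]; simp only [map_zero]
      | add a b ha hb => simp only [map_add, ha, hb]
      | tmul a b =>
        rw [hΦ₀t, LinearMap.rTensor_tmul, hΦt, map_mul, Scheme.Hom.app_eq_appLE]
        congr 1
        · exact SymSpan.appLE_square (r ≫ m) _ (pullback.fst (WidePullback.base fun _ : Fin d => f) gS)
            (𝟙 _ ≫ q) (by rw [Category.id_comp, hm]; exact hM₁) _ _ _ _ a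
        · exact ((SymSpan.appLE_square (r ≫ m) _ (pullback.snd (WidePullback.base fun _ : Fin d => f) gS)
            (𝟙 S') (by rw [hm]; exact hM₂) _ le_rfl _ (hUY.le.trans inf_le_right) b).trans
              (congrArg _ (appLE_id_apply (U := V') rfl _ b)))
    · induction z using TensorProduct.induction_on with
      | zero => rw [map_zero, map_zero]; simp only [map_zero]
      | add a b ha hb => simp only [map_add, ha, hb]
      | tmul a b =>
        rw [LinearMap.rTensor_tmul, hΦt, hΦt, map_mul, AlgHom.toLinearMap_apply, act', SymSpan.secPerm'_apply]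
        congr 1
        · exact SymSpan.appLE_square (ρ' ⟨σ⁻¹⟩).hom _
            (pullback.fst (WidePullback.base fun _ : Fin d => f) gS) _ (hρ' ⟨σ⁻¹⟩).1 _ _ _ _ a
        · rw [← RingHom.comp_apply, ← CommRingCat.hom_comp, Scheme.Hom.appLE_comp_appLE,
            appLE_congr_hom (hρ' ⟨σ⁻¹⟩).2 _ (hUY.le.trans inf_le_right)]
  refine ⟨fun y => ?_, fun h0 => ?_, fun hflat => ?_⟩
  · obtain ⟨x, rfl⟩ := SGA1Q.surjective hr y
    obtain ⟨V, Y₀, V', O, algY, algV, P, hPO, ι, Φ₀, Φ, hst, hV, hO, hxO, hP, -, hι, hΦ₀, hΦ, key, hact⟩ :=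
      chart (m.base (r.base x))
    have hx : x ∈ r ⁻¹ᵁ (m ⁻¹ᵁ O) := hxO
    have hxm : r.base x ∈ m ⁻¹ᵁ O := hxO
    refine AppCrit.isIso_residueFieldMap m (r.base x) hxm (hO.preimage m) fun u => ?_
    have nat : ∀ v : Γ(Y', m ⁻¹ᵁ O), (r.residueFieldMap x).hom ((Y'.evaluation (m ⁻¹ᵁ O) (r.base x) hxm).hom v) =
        ((pullback (WidePullback.base fun _ : Fin d => f) gS).evaluation (r ⁻¹ᵁ (m ⁻¹ᵁ O)) x hx).hom
          ((r.app (m ⁻¹ᵁ O)).hom v) := fun v => Scheme.evaluation_naturality_apply r x hxm v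
    let evx := (pullback (WidePullback.base fun _ : Fin d => f) gS).evaluation (r ⁻¹ᵁ (m ⁻¹ᵁ O)) x hx
    letI algP' := (Φ.comp (algebraMap Γ(S, V)
      (Γ(SymProd.fibPow f d, 𝟙 (SymProd.fibPow f d) ⁻¹ᵁ P.O) ⊗[Γ(S, V)] Γ(S', V')))).toAlgebra
    let Φa : Γ(SymProd.fibPow f d, 𝟙 (SymProd.fibPow f d) ⁻¹ᵁ P.O) ⊗[Γ(S, V)] Γ(S', V') →ₐ[Γ(S, V)]
        Γ(pullback (WidePullback.base fun _ : Fin d => f) gS, r ⁻¹ᵁ (m ⁻¹ᵁ O)) :=
      { Φ with commutes' := fun _ => rfl }
    have hlift : ∀ z, Algebra.TensorProduct.lift (Φa.comp Algebra.TensorProduct.includeLeft)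
        (Φa.comp Algebra.TensorProduct.includeRight) (fun _ _ => Commute.all _ _) z = Φ z := fun z => by
      induction z using TensorProduct.induction_on with
      | zero => simp only [map_zero]
      | add a b ha hb => simp only [map_add, ha, hb]
      | tmul a b =>
        rw [Algebra.TensorProduct.lift_tmul]
        show Φ (a ⊗ₜ[Γ(S, V)] 1) * Φ (1 ⊗ₜ[Γ(S, V)] b) = _
        rw [← map_mul, Algebra.TensorProduct.tmul_mul_tmul, mul_one, one_mul]
    haveI : (RingHom.ker evx.hom).IsPrime := RingHom.ker_isPrime _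
    obtain ⟨s, w, hs, hw⟩ := InvAlg.exists_residue_approx (ρ := act' heq P hst) (ι := ι)
      (Φa.comp Algebra.TensorProduct.includeLeft) (Φa.comp Algebra.TensorProduct.includeRight)
      (ρP := fun σ => ((ρ' ⟨σ⁻¹⟩).hom.appLE (r ⁻¹ᵁ (m ⁻¹ᵁ O)) (r ⁻¹ᵁ (m ⁻¹ᵁ O))
        (SGA1.preimage_le_of_inv ρ' r hr.inv _ _)).hom)
      (by rw [show ⇑(Algebra.TensorProduct.lift _ _ _) = ⇑Φ from funext hlift]; exact hΦ)
      (fun σ b => (hact σ _).trans (congrArg Φ (LinearMap.rTensor_tmul ..)))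
      (fun σ b => (hact σ _).trans (congrArg Φ ((LinearMap.rTensor_tmul ..).trans
        (congrArg (fun e => e ⊗ₜ[Γ(S, V)] b) (map_one (act' heq P hst σ))))))
      (RingHom.ker evx.hom)
      (fun z hz => mem_range_rTensor (i := 𝟙 X) (Category.id_comp f) (fun a => by simp) hV heq hq.isQuot
        P hP hPO hst ι hι _ (localSpan_of_field (Category.id_comp f) d _) z hz)
      ((r.app (m ⁻¹ᵁ O)).hom u) (fun σ => (hr.range_iff _ _).1 ⟨u, rfl⟩ ⟨σ⁻¹⟩)
    rw [hlift] at hw
    refine ⟨Φ₀ w, Φ₀ (1 ⊗ₜ s), ?_, ?_⟩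
    · intro h0'
      refine hs (RingHom.mem_ker.2 ?_)
      have := congrArg (r.residueFieldMap x).hom h0'
      erw [nat] at this
      rw [map_zero, key, LinearMap.rTensor_tmul, AlgHom.toLinearMap_apply, map_one] at this
      exact this
    · refine (r.residueFieldMap x).hom.injective ?_
      erw [nat]
      rw [map_zero, map_sub, map_mul, key, key, LinearMap.rTensor_tmul, AlgHom.toLinearMap_apply, map_one]
      exact hw
  · refine AppCrit.isIso_of_app_bijective m fun p => ?_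
    obtain ⟨V, Y₀, V', O, algY, algV, P, hPO, ι, Φ₀, Φ, hst, hV, hO, hpO, hP, -, hι, hΦ₀, hΦ, key, hact⟩ :=
      chart p
    have hu : IsUnit ((Nat.card (Equiv.Perm (Fin d)) : ℕ) : Γ(S', V')) := by
      have := (h0 _ (Nat.card_pos (α := Equiv.Perm (Fin d)))).map
        (S'.presheaf.map (homOfLE (le_top : V' ≤ ⊤)).op).hom
      rwa [map_natCast] at this
    obtain ⟨v, hv⟩ := hu.exists_left_inv
    have h1 : ∀ n : Γ(S', V'), Nat.card (Equiv.Perm (Fin d)) • n = 0 → n = 0 := fun n hn => by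
      rw [nsmul_eq_mul] at hn
      rw [← one_mul n, ← hv, mul_assoc, hn, mul_zero]
    have h2 : ∀ n : Γ(S', V'), ∃ n', n = Nat.card (Equiv.Perm (Fin d)) • n' := fun n => ⟨v * n, by
      rw [nsmul_eq_mul, ← mul_assoc, mul_comm _ v, hv, one_mul]⟩
    have hinv := isInv_id hq.isQuot rfl heq P hPO hst ι hι
    refine ⟨O, hO, hpO, fun a b hab => ?_, fun u => ?_⟩
    · obtain ⟨a, rfl⟩ := hΦ₀.2 a
      obtain ⟨b, rfl⟩ := hΦ₀.2 b
      have := congrArg (r.app (m ⁻¹ᵁ O)).hom hab
      rw [key, key] at this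
      rw [InvAlg.injective_of_average hinv _ h1 h2 (hΦ.1 this)]
    · obtain ⟨z, hz⟩ := hΦ.2 ((r.app (m ⁻¹ᵁ O)).hom u)
      obtain ⟨w, hw⟩ := InvAlg.range_of_average hinv _ h1 h2 z fun σ => hΦ.1 (by
        rw [← hact, hz]; exact (hr.range_iff _ _).1 ⟨u, rfl⟩ _)
      exact ⟨Φ₀ w, hr.injective _ (by rw [key, hw, hz])⟩
  · refine AppCrit.isClosedImmersion_of_app_surjective m fun p => ?_
    obtain ⟨V, Y₀, V', O, algY, algV, P, hPO, ι, Φ₀, Φ, hst, hV, hO, hpO, hP, hN, hι, hΦ₀, hΦ, key, hact⟩ :=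
      chart p
    refine ⟨O, hO, hpO, fun u => ?_⟩
    obtain ⟨z, hz⟩ := hΦ.2 ((r.app (m ⁻¹ᵁ O)).hom u)
    obtain ⟨w, hw⟩ := mem_range_rTensor (i := 𝟙 X) (Category.id_comp f) (fun a => by simp) hV heq hq.isQuot
      P hP hPO hst ι hι _ (hN hflat) z fun σ => hΦ.1 (by
        rw [← hact, hz]; exact (hr.range_iff _ _).1 ⟨u, rfl⟩ _)
    exact ⟨Φ₀ w, hr.injective _ (by rw [key, hw, hz])⟩

end Groth.Agent.S13393
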