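import Groth.Statements.S13394
import Groth.Agent.IntTh85.SymQuot
import Groth.Agent.IntTh85.AppCrit
import Groth.Agent.IntTh85.PowClosed

set_option autoImplicit false
universe u
open CategoryTheory CategoryTheory.Limits AlgebraicGeometry
open ZeroCyc
open scoped TensorProduct
open Groth.Agent.SymProdLib (appLE_congr_hom)
open Groth.Agent.IntTh85 SymPair SymQuot

namespace Groth.Agent.S13394

set_option maxHeartbeats 1600000 in
/-- Scheme case. Let f : X → S be separated, let (Y, q, g) be a d-th symmetric product of X over S (q :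
(X/S)^d → Y a quotient of the d-fold fibre product by the symmetric group, g : Y → S), let i : Z → X
be a closed immersion and (W, r, g_W) a d-th symmetric product of Z over S, let q((Z/S)^d) ⊆ Y be
the scheme-theoretic image of the composite (Z/S)^d → (X/S)^d → Y, and let m : W → q((Z/S)^d) be the
morphism through which that composite factors via r. Then m induces an isomorphism on residue fields
at every point of W (trivial residue field extensions); if every positive integer is invertible in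
Γ(S, O_S) then m is an isomorphism; and if Z → S is flat then m is a closed immersion. (The
published statement is for X a separated algebraic space over S; this row is the case of schemes in
which both symmetric products exist as schemes, taken as hypotheses, and leaves the
universal-homeomorphism clause to the general finite-group statement.) -/
theorem result {X Z S Y W : Scheme.{u}} (f : X ⟶ S) [IsSeparated f] (d : ℕ)
    (q : SymProd.fibPow f d ⟶ Y) (g : Y ⟶ S) (hq : SymProd.IsSymProd f d q g)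
    (i : Z ⟶ X) [IsClosedImmersion i]
    (r : SymProd.fibPow (i ≫ f) d ⟶ W) (gW : W ⟶ S) (hr : SymProd.IsSymProd (i ≫ f) d r gW)
    (m : W ⟶ (SymProd.fibPowMap (i ≫ f) d f i rfl ≫ q).ker.subscheme)
    (hm : r ≫ m ≫ (SymProd.fibPowMap (i ≫ f) d f i rfl ≫ q).ker.subschemeι =
      SymProd.fibPowMap (i ≫ f) d f i rfl ≫ q) :
    (∀ w : W, IsIso (m.residueFieldMap w)) ∧
    ((∀ n : ℕ, 0 < n → IsUnit ((n : ℕ) : Γ(S, ⊤))) → IsIso m) ∧
    (Flat (i ≫ f) → IsClosedImmersion m) := by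
  revert m hm
  set c := SymProd.fibPowMap (i ≫ f) d f i rfl with hc
  haveI : IsClosedImmersion c := PowClosed.isClosedImmersion_fibPowMap i rfl d
  haveI := hq.isQuot.affine
  haveI := hr.isQuot.affine
  have hcπ : ∀ a : Fin d, c ≫ WidePullback.π (fun _ => f) a = WidePullback.π (fun _ => i ≫ f) a ≫ i :=
    fun a => SymProd.fibPowMap_π (i ≫ f) d f i rfl a
  have hcb : c ≫ (WidePullback.base fun _ : Fin d => f) = WidePullback.base fun _ : Fin d => i ≫ f :=
    SymProd.fibPowMap_base (i ≫ f) d f i rfl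
  have heq := SymSpan.equivariant hcπ hcb
  set sι := (c ≫ q).ker.subschemeι with hsι
  intro m hm
  haveI : IsAffineHom (m ≫ sι) := (SGA1Q.isAffineHom_iff_of_isQuot hr.isQuot hm).1 inferInstance
  haveI : IsAffineHom m := IsAffineHom.of_comp m sι
  -- on a chart
  have chart : ∀ p : ↥((c ≫ q).ker.subscheme), ∃ (V : S.Opens) (Y₀ : Y.Opens)
      (_ : Algebra Γ(S, V) Γ(Y, Y₀)) (P : Pair c V) (hPO : q ⁻¹ᵁ Y₀ = P.O)
      (ι : Γ(Y, Y₀) →ₐ[Γ(S, V)] Γ(SymProd.fibPow (i ≫ f) d, c ⁻¹ᵁ P.O))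
      (β : Γ(W, m ⁻¹ᵁ (sι ⁻¹ᵁ Y₀)) →+* Γ(SymProd.fibPow (i ≫ f) d, c ⁻¹ᵁ P.O))
      (hst : Stable (MonoidHom.id (Equiv.Perm (Fin d))) P.O),
      IsAffineOpen V ∧ IsAffineOpen (sι ⁻¹ᵁ Y₀) ∧ p ∈ sι ⁻¹ᵁ Y₀ ∧ IsAffineOpen P.O ∧
      (∀ b, ι b = algebraMap Γ(SymProd.fibPow f d, P.O) _ ((q.appLE Y₀ P.O hPO.ge).hom b)) ∧
      Function.Injective β ∧ (∀ u σ, act' heq P hst σ (β u) = β u) ∧
      (∀ b, β ((m.app (sι ⁻¹ᵁ Y₀)).hom ((sι.app Y₀).hom b)) = ι b) ∧
      Function.Surjective (sι.app Y₀).hom ∧ (∀ b, ι b = 0 → (sι.app Y₀).hom b = 0) ∧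
      (∀ x : ↥(SymProd.fibPow (i ≫ f) d), ∀ (h₁ : r.base x ∈ m ⁻¹ᵁ (sι ⁻¹ᵁ Y₀)),
        ∃ h₂ : x ∈ c ⁻¹ᵁ P.O, ∀ u,
        (r.residueFieldMap x).hom ((W.evaluation (m ⁻¹ᵁ (sι ⁻¹ᵁ Y₀)) (r.base x) h₁).hom u) =
          ((SymProd.fibPow (i ≫ f) d).evaluation (c ⁻¹ᵁ P.O) x h₂).hom (β u)) := by
    intro p
    obtain ⟨V, hV, hpV, -⟩ := exists_isAffineOpen_mem_and_subset
      (x := g.base (sι.base p)) (U := ⊤) trivial
    obtain ⟨Y₀, hY₀, hpY, hY₀V⟩ := exists_isAffineOpen_mem_and_subset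
      (x := sι.base p) (U := g ⁻¹ᵁ V) hpV
    have le₁ : q ⁻¹ᵁ Y₀ ≤ (WidePullback.base fun _ : Fin d => f) ⁻¹ᵁ V := by
      rw [← hq.over, Scheme.Hom.comp_preimage]; exact q.preimage_mono hY₀V
    let P : Pair c V := SymSpan.pairOf (q ⁻¹ᵁ Y₀) le₁ hcb
    letI algY := (g.appLE V Y₀ hY₀V).hom.toAlgebra
    have hUY : c ⁻¹ᵁ P.O = r ⁻¹ᵁ (m ⁻¹ᵁ (sι ⁻¹ᵁ Y₀)) := by
      show c ⁻¹ᵁ (q ⁻¹ᵁ Y₀) = _
      rw [← Scheme.Hom.comp_preimage, ← Scheme.Hom.comp_preimage, ← Scheme.Hom.comp_preimage,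
        Category.assoc, hm]
    have hst := stable_of_preimage hq.isQuot (B := P.O) rfl
    refine ⟨V, Y₀, algY, P, rfl, chartHom hq.over P rfl hY₀V (fun _ => rfl),
      (r.appLE (m ⁻¹ᵁ (sι ⁻¹ᵁ Y₀)) (c ⁻¹ᵁ P.O) hUY.le).hom, hst, hV, hY₀.preimage sι, hpY, hY₀.preimage q,
      chartHom_eq hq.over P rfl hY₀V (fun _ => rfl), SymProdLib.appLE_injective hr.isQuot hUY.symm,
      fun u σ => ?_, fun b => ?_, Scheme.IdealSheafData.subschemeι_app_surjective _ ⟨Y₀, hY₀⟩,
      fun b hb => ?_, fun x h₁ => ⟨hUY.ge h₁, fun u => ?_⟩⟩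
    · rw [act', SymSpan.secPerm'_apply]
      exact appLE_perm hr.isQuot hUY.symm _ _ u
    · rw [chartHom_apply hq.over P rfl hY₀V (fun _ => rfl) (by rw [Scheme.Hom.comp_preimage]; rfl),
        Scheme.Hom.app_eq_appLE, Scheme.Hom.app_eq_appLE, ← RingHom.comp_apply, ← RingHom.comp_apply,
        ← CommRingCat.hom_comp, ← CommRingCat.hom_comp, Scheme.Hom.appLE_comp_appLE, Scheme.Hom.appLE_comp_appLE]
      rw [appLE_congr_hom ((Category.assoc _ _ _).trans hm) _ (by rw [Scheme.Hom.comp_preimage]; rfl)]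
    · haveI : QuasiCompact (c ≫ q) := inferInstance
      have hb' : b ∈ RingHom.ker ((c ≫ q).app Y₀).hom := by
        rw [RingHom.mem_ker, Scheme.Hom.app_eq_appLE]
        exact hb
      rw [← Scheme.Hom.ker_apply (c ≫ q) ⟨Y₀, hY₀⟩, ← Scheme.IdealSheafData.ker_subschemeι_app] at hb'
      exact hb'
    · exact (SGA1Q.evaluation_appLE r _ _ hUY.le x (hUY.ge h₁) u).symm
  refine ⟨fun w => ?_, fun h0 => ?_, fun hflat => ?_⟩
  · obtain ⟨x, rfl⟩ := SGA1Q.surjective hr.isQuot w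
    obtain ⟨V, Y₀, algY, P, hPO, ι, β, hst, hV, hO, hxO, hP, hι, hβi, hβf, hβ, hsurj, hker, hev⟩ :=
      chart (m.base (r.base x))
    have hxm : r.base x ∈ m ⁻¹ᵁ (sι ⁻¹ᵁ Y₀) := hxO
    obtain ⟨hx, hev⟩ := hev x hxm
    refine AppCrit.isIso_residueFieldMap m (r.base x) hxm (hO.preimage m) fun u => ?_
    haveI : (RingHom.ker ((SymProd.fibPow (i ≫ f) d).evaluation (c ⁻¹ᵁ P.O) x hx).hom).IsPrime :=
      RingHom.ker_isPrime _
    have hlift : ⇑(Algebra.TensorProduct.lift (AlgHom.id Γ(S, V) Γ(SymProd.fibPow (i ≫ f) d, c ⁻¹ᵁ P.O))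
        (Algebra.ofId Γ(S, V) Γ(SymProd.fibPow (i ≫ f) d, c ⁻¹ᵁ P.O)) fun _ _ => Commute.all _ _) =
        ⇑(TensorProduct.rid Γ(S, V) Γ(SymProd.fibPow (i ≫ f) d, c ⁻¹ᵁ P.O)) := funext fun z => by
      induction z using TensorProduct.induction_on with
      | zero => simp only [map_zero]
      | add a b ha hb => simp only [map_add, ha, hb]
      | tmul a b =>
        rw [Algebra.TensorProduct.lift_tmul, AlgHom.id_apply, Algebra.ofId_apply, TensorProduct.rid_tmul,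
          Algebra.smul_def, mul_comm]
    obtain ⟨s, v, hs, hv⟩ := InvAlg.exists_residue_approx (ρ := act' heq P hst) (ι := ι)
      (AlgHom.id Γ(S, V) Γ(SymProd.fibPow (i ≫ f) d, c ⁻¹ᵁ P.O))
      (Algebra.ofId Γ(S, V) Γ(SymProd.fibPow (i ≫ f) d, c ⁻¹ᵁ P.O))
      (ρP := fun σ => (act' heq P hst σ).toRingHom)
      (by rw [hlift]; exact (TensorProduct.rid _ _).bijective) (fun σ b => rfl)
      (fun σ b => (act' heq P hst σ).commutes b)
      (RingHom.ker ((SymProd.fibPow (i ≫ f) d).evaluation (c ⁻¹ᵁ P.O) x hx).hom)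
      (fun z hz => mem_range_rTensor (i := i) rfl hcπ hV heq hq.isQuot P hP hPO hst ι hι _
        (localSpan_of_field rfl d _) z hz)
      (β u) (hβf u)
    rw [hlift] at hv
    have hv' : TensorProduct.rid Γ(S, V) _ (ι.toLinearMap.rTensor Γ(S, V) v) =
        ι (TensorProduct.rid Γ(S, V) _ v) := by
      clear hv
      induction v using TensorProduct.induction_on with
      | zero => simp only [map_zero]
      | add a b ha hb => simp only [map_add, ha, hb]
      | tmul a b => rw [LinearMap.rTensor_tmul, TensorProduct.rid_tmul, TensorProduct.rid_tmul, map_smul]; rfl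
    refine ⟨(sι.app Y₀).hom (TensorProduct.rid Γ(S, V) _ v), (sι.app Y₀).hom (algebraMap _ _ s), ?_, ?_⟩
    · intro h0'
      refine hs (RingHom.mem_ker.2 ?_)
      have := congrArg (r.residueFieldMap x).hom h0'
      erw [hev] at this
      rw [map_zero, hβ, AlgHom.commutes] at this
      exact this
    · refine (r.residueFieldMap x).hom.injective ?_
      erw [hev]
      rw [map_zero, map_sub, map_mul, hβ, hβ, AlgHom.commutes, ← hv']
      exact hv
  · refine AppCrit.isIso_of_app_bijective m fun p => ?_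
    obtain ⟨V, Y₀, algY, P, hPO, ι, β, hst, hV, hO, hpO, hP, hι, hβi, hβf, hβ, hsurj, hker, hev⟩ := chart p
    refine ⟨sι ⁻¹ᵁ Y₀, hO, hpO, (injective_iff_map_eq_zero _).2 fun a ha => ?_, fun u => ?_⟩
    · obtain ⟨a, rfl⟩ := hsurj a
      exact hker a (by rw [← hβ, ha, map_zero])
    have hu : IsUnit ((Nat.card (Equiv.Perm (Fin d)) : ℕ) : Γ(S, V)) := by
      have := (h0 _ (Nat.card_pos (α := Equiv.Perm (Fin d)))).map
        (S.presheaf.map (homOfLE (le_top : V ≤ ⊤)).op).hom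
      rwa [map_natCast] at this
    obtain ⟨v, hv⟩ := hu.exists_left_inv
    have hcs : Function.Surjective
        (algebraMap Γ(SymProd.fibPow f d, P.O) Γ(SymProd.fibPow (i ≫ f) d, c ⁻¹ᵁ P.O)) := fun y => by
      obtain ⟨b, hb⟩ := c.app_surjective P.O hP y
      exact ⟨b, (algebraMap_eq_app P b).trans hb⟩
    have hfs : β u ⊗ₜ[Γ(S, V)] (1 : Γ(S, V)) ∈ (secAct heq P hst Γ(S, V)).fspan fun n : Γ(S, V) =>
        (1 : Γ(SymProd.fibPow (i ≫ f) d, c ⁻¹ᵁ P.O)) ⊗ₜ[Γ(S, V)] n := by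
      refine InvLocal.mem_fspan_of_average (fun σ => ?_) (fun n => TensorAct.mfix_one_tmul n) ?_
        (fun n => ⟨v * n, ?_⟩) (fun z hz => ?_)
      · show (act' heq P hst σ).toLinearMap.rTensor Γ(S, V) (β u ⊗ₜ[Γ(S, V)] (1 : Γ(S, V))) = _
        rw [LinearMap.rTensor_tmul, AlgHom.toLinearMap_apply, hβf]
      · obtain ⟨b, hb⟩ := hcs (β u)
        exact AddSubmonoid.subset_closure ⟨b, 1, by rw [TensorAct.smul_tmul_eq, mul_one, hb]⟩
      · rw [← TensorProduct.tmul_smul, nsmul_eq_mul, ← mul_assoc, mul_comm _ v, hv, one_mul]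
      · rw [← Nat.cast_smul_eq_nsmul Γ(S, V)] at hz
        rw [← one_smul Γ(S, V) z, ← hv, mul_smul, hz, smul_zero]
    obtain ⟨z, hz⟩ := range_of_fspan heq hq.isQuot P hPO hst ι hι _ hfs
    refine ⟨(sι.app Y₀).hom (TensorProduct.rid Γ(S, V) _ z), hβi ?_⟩
    rw [hβ]
    have h1 := congrArg (TensorProduct.rid Γ(S, V) Γ(SymProd.fibPow (i ≫ f) d, c ⁻¹ᵁ P.O)) hz
    rw [TensorProduct.rid_tmul, one_smul] at h1
    rw [← h1]
    clear hz h1
    induction z using TensorProduct.induction_on with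
    | zero => simp only [map_zero]
    | add a b ha hb => simp only [map_add, ha, hb]
    | tmul a b => rw [LinearMap.rTensor_tmul, TensorProduct.rid_tmul, TensorProduct.rid_tmul, map_smul]; rfl
  · refine AppCrit.isClosedImmersion_of_app_surjective m fun p => ?_
    obtain ⟨V, Y₀, algY, P, hPO, ι, β, hst, hV, hO, hpO, hP, hι, hβi, hβf, hβ, hsurj, hker, hev⟩ := chart p
    refine ⟨sι ⁻¹ᵁ Y₀, hO, hpO, fun u => ?_⟩
    obtain ⟨z, hz⟩ := mem_range_rTensor (i := i) rfl hcπ hV heq hq.isQuot P hP hPO hst ι hι Γ(S, V)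
      (localSpan_of_flat rfl hV d _) (β u ⊗ₜ[Γ(S, V)] (1 : Γ(S, V))) (fun σ => by
        rw [LinearMap.rTensor_tmul, AlgHom.toLinearMap_apply, hβf])
    refine ⟨(sι.app Y₀).hom (TensorProduct.rid Γ(S, V) _ z), hβi ?_⟩
    rw [hβ]
    have h1 := congrArg (TensorProduct.rid Γ(S, V) Γ(SymProd.fibPow (i ≫ f) d, c ⁻¹ᵁ P.O)) hz
    rw [TensorProduct.rid_tmul, one_smul] at h1
    rw [← h1]
    clear hz h1
    induction z using TensorProduct.induction_on with
    | zero => simp only [map_zero]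
    | add a b ha hb => simp only [map_add, ha, hb]
    | tmul a b => rw [LinearMap.rTensor_tmul, TensorProduct.rid_tmul, TensorProduct.rid_tmul, map_smul]; rfl

end Groth.Agent.S13394
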