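import Groth.Statements.S13395
import Groth.Agent.IntTh85.SymQuot
import Groth.Agent.IntTh85.PullSec

set_option autoImplicit false
universe u
open CategoryTheory CategoryTheory.Limits AlgebraicGeometry
open ZeroCyc
open scoped TensorProduct
open Groth.Agent.SymProdLib (appLE_congr_hom)
open Groth.Agent.IntTh85 SymPair SymQuot

namespace Groth.Agent.S13395

set_option maxHeartbeats 1600000 in
/-- Scheme case. Let f : X → S and g : Z → S be separated morphisms and suppose that either both are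
flat or every positive integer is invertible in Γ(S, O_S) (S is a scheme over the rationals). Let
(P, q_X) be a d-th symmetric product of X over S and (Q, q_Z) an e-th symmetric product of Z over S,
i.e. quotients of the fibre powers (X/S)^d and (Z/S)^e by the symmetric groups permuting the
factors, and let S_d × S_e act on (X/S)^d ×_S (Z/S)^e factorwise. Then q_X × q_Z : (X/S)^d ×_S
(Z/S)^e → P ×_S Q is a quotient by S_d × S_e (affine, invariant, with sections of P ×_S Q the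
invariant sections): the mixed symmetric product Sym^{d,e}(X, Z) is Sym^d(X/S) ×_S Sym^e(Z/S). (The
published statement is for separated algebraic spaces, where these quotients always exist, and adds
the identification with Γ^d(X/S) ×_S Γ^e(Z/S); this row is the scheme case with the two symmetric
products taken as hypotheses.) -/
theorem result {X Z S P Q : Scheme.{u}} (f : X ⟶ S) (g : Z ⟶ S)
    [IsSeparated f] [IsSeparated g] (d e : ℕ)
    (h : (Flat f ∧ Flat g) ∨ ∀ n : ℕ, 0 < n → IsUnit ((n : ℕ) : Γ(S, ⊤)))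
    (qX : SymProd.fibPow f d ⟶ P) (pP : P ⟶ S) (hqX : SymProd.IsSymProd f d qX pP)
    (qZ : SymProd.fibPow g e ⟶ Q) (pQ : Q ⟶ S) (hqZ : SymProd.IsSymProd g e qZ pQ)
    (ρ : ULift.{u} (Equiv.Perm (Fin d) × Equiv.Perm (Fin e)) →*
      Aut (pullback (WidePullback.base fun _ : Fin d => f) (WidePullback.base fun _ : Fin e => g)))
    (hρ : ∀ σ, (ρ σ).hom ≫ pullback.fst (WidePullback.base fun _ : Fin d => f) (WidePullback.base fun _ : Fin e => g) =
        pullback.fst (WidePullback.base fun _ : Fin d => f) (WidePullback.base fun _ : Fin e => g) ≫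
          SymProd.permHom f d σ.down.1 ∧
      (ρ σ).hom ≫ pullback.snd (WidePullback.base fun _ : Fin d => f) (WidePullback.base fun _ : Fin e => g) =
        pullback.snd (WidePullback.base fun _ : Fin d => f) (WidePullback.base fun _ : Fin e => g) ≫
          SymProd.permHom g e σ.down.2) :
    SGA1.IsQuot ρ (pullback.map (WidePullback.base fun _ : Fin d => f) (WidePullback.base fun _ : Fin e => g) pP pQ
      qX qZ (𝟙 S) ((Category.comp_id _).trans hqX.over.symm) ((Category.comp_id _).trans hqZ.over.symm)) := by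
  have hcard : Finite (ULift.{u} (Equiv.Perm (Fin d) × Equiv.Perm (Fin e))) := inferInstance
  set m := pullback.map (WidePullback.base fun _ : Fin d => f) (WidePullback.base fun _ : Fin e => g) pP pQ qX qZ (𝟙 S) ((Category.comp_id _).trans hqX.over.symm)
    ((Category.comp_id _).trans hqZ.over.symm) with hm
  have hm₁ : m ≫ pullback.fst pP pQ = pullback.fst (WidePullback.base fun _ : Fin d => f) (WidePullback.base fun _ : Fin e => g) ≫ qX := pullback.lift_fst _ _ _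
  have hm₂ : m ≫ pullback.snd pP pQ = pullback.snd (WidePullback.base fun _ : Fin d => f) (WidePullback.base fun _ : Fin e => g) ≫ qZ := pullback.lift_snd _ _ _
  haveI := hqX.isQuot.affine
  haveI := hqZ.isQuot.affine
  haveI : MorphismProperty.IsStableUnderComposition @IsAffineHom.{u} :=
    ⟨fun a b ha hb => by haveI := ha; haveI := hb; infer_instance⟩
  have haff : IsAffineHom m :=
    MorphismProperty.pullback_map (P := @IsAffineHom) hqX.isQuot.affine hqZ.isQuot.affine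
      hqX.over.symm hqZ.over.symm
  have hinv : ∀ σ, (ρ σ).hom ≫ m = m := fun σ => by
    refine pullback.hom_ext ?_ ?_
    · rw [Category.assoc, hm₁, ← Category.assoc, (hρ σ).1, Category.assoc]
      exact congrArg (fun k => pullback.fst (WidePullback.base fun _ : Fin d => f) (WidePullback.base fun _ : Fin e => g) ≫ k) (hqX.isQuot.inv ⟨σ.down.1⟩)
    · rw [Category.assoc, hm₂, ← Category.assoc, (hρ σ).2, Category.assoc]
      exact congrArg (fun k => pullback.snd (WidePullback.base fun _ : Fin d => f) (WidePullback.base fun _ : Fin e => g) ≫ k) (hqZ.isQuot.inv ⟨σ.down.2⟩)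
  refine SGA1Q.isQuot_of_affine_cover haff hinv fun y => ?_
  obtain ⟨V, hV, hyV, -⟩ := exists_isAffineOpen_mem_and_subset
    (x := pP.base ((pullback.fst pP pQ).base y)) (U := ⊤) trivial
  obtain ⟨P₀, hP₀, hyP, hP₀V⟩ := exists_isAffineOpen_mem_and_subset
    (x := (pullback.fst pP pQ).base y) (U := pP ⁻¹ᵁ V) hyV
  obtain ⟨Q₀, hQ₀, hyQ, hQ₀V⟩ := exists_isAffineOpen_mem_and_subset
    (x := (pullback.snd pP pQ).base y) (U := pQ ⁻¹ᵁ V) (by
      show pQ.base ((pullback.snd pP pQ).base y) ∈ V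
      rw [← Scheme.Hom.comp_apply, ← pullback.condition]
      exact hyV)
  have le₁ : qX ⁻¹ᵁ P₀ ≤ (WidePullback.base fun _ : Fin d => f) ⁻¹ᵁ V := by
    rw [← hqX.over, Scheme.Hom.comp_preimage]; exact qX.preimage_mono hP₀V
  have le₂ : qZ ⁻¹ᵁ Q₀ ≤ (WidePullback.base fun _ : Fin e => g) ⁻¹ᵁ V := by
    rw [← hqZ.over, Scheme.Hom.comp_preimage]; exact qZ.preimage_mono hQ₀V
  let W₁ : Pair (𝟙 (SymProd.fibPow f d)) V := SymSpan.pairOf (qX ⁻¹ᵁ P₀) le₁ (Category.id_comp _)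
  let W₂ : Pair (𝟙 (SymProd.fibPow g e)) V := SymSpan.pairOf (qZ ⁻¹ᵁ Q₀) le₂ (Category.id_comp _)
  have heq₁ : ∀ σ, SymProd.permHom f d σ ≫ 𝟙 _ = 𝟙 _ ≫ SymProd.permHom f d σ := fun σ => by
    rw [Category.comp_id, Category.id_comp]
  have heq₂ : ∀ σ, SymProd.permHom g e σ ≫ 𝟙 _ = 𝟙 _ ≫ SymProd.permHom g e σ := fun σ => by
    rw [Category.comp_id, Category.id_comp]
  have hst₁ := stable_of_preimage hqX.isQuot (B := W₁.O) rfl
  have hst₂ := stable_of_preimage hqZ.isQuot (B := W₂.O) rfl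
  have hW₁ : IsAffineOpen W₁.O := hP₀.preimage qX
  have hW₂ : IsAffineOpen W₂.O := hQ₀.preimage qZ
  letI algP := (pP.appLE V P₀ hP₀V).hom.toAlgebra
  letI algQ := (pQ.appLE V Q₀ hQ₀V).hom.toAlgebra
  let ι₁ := chartHom hqX.over W₁ rfl hP₀V (fun _ => rfl)
  let ι₂ := chartHom hqZ.over W₂ rfl hQ₀V (fun _ => rfl)
  have hu : (Flat f ∧ Flat g) ∨ ∀ n : ℕ, 0 < n → IsUnit ((n : ℕ) : Γ(S, V)) := h.imp id fun hn n hpos => by
    have := (hn n hpos).map (S.presheaf.map (homOfLE (le_top : V ≤ ⊤)).op).hom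
    rwa [map_natCast] at this
  have g₁ := chart_good hqX.isQuot rfl hV heq₁ W₁ hW₁ rfl hst₁ ι₁
    (chartHom_eq hqX.over W₁ rfl hP₀V (fun _ => rfl)) (hu.imp And.left fun hn => hn _ Nat.card_pos)
  have g₂ := chart_good hqZ.isQuot rfl hV heq₂ W₂ hW₂ rfl hst₂ ι₂
    (chartHom_eq hqZ.over W₂ rfl hQ₀V (fun _ => rfl)) (hu.imp And.right fun hn => hn _ Nat.card_pos)
  obtain ⟨hinj, hsurj⟩ := InvAlg.product (ι := ι₁) (ρ := act' heq₁ W₁ hst₁) (ι' := ι₂)
    (ρ' := act' heq₂ W₂ hst₂) (g₁ _).1 (g₁ _).2 (g₂ _).1 (g₂ _).2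
  let O : (pullback pP pQ).Opens := pullback.fst pP pQ ⁻¹ᵁ P₀ ⊓ pullback.snd pP pQ ⁻¹ᵁ Q₀
  have hO : IsAffineOpen O :=
    PullSec.isAffineOpen_pullback (IsPullback.of_hasPullback pP pQ) hQ₀V hP₀V rfl hV hQ₀ hP₀
  have hUY : m ⁻¹ᵁ O = pullback.fst (WidePullback.base fun _ : Fin d => f) (WidePullback.base fun _ : Fin e => g) ⁻¹ᵁ (𝟙 (SymProd.fibPow f d) ⁻¹ᵁ W₁.O) ⊓
      pullback.snd (WidePullback.base fun _ : Fin d => f) (WidePullback.base fun _ : Fin e => g) ⁻¹ᵁ (𝟙 (SymProd.fibPow g e) ⁻¹ᵁ W₂.O) := by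
    show m ⁻¹ᵁ (pullback.fst pP pQ ⁻¹ᵁ P₀) ⊓ m ⁻¹ᵁ (pullback.snd pP pQ ⁻¹ᵁ Q₀) = _
    rw [← Scheme.Hom.comp_preimage, ← Scheme.Hom.comp_preimage, hm₁, hm₂, Scheme.Hom.comp_preimage,
      Scheme.Hom.comp_preimage]
    rfl
  obtain ⟨Φ₀, hΦ₀, hΦ₀t⟩ := PullSec.exists_tensor_bijective (IsPullback.of_hasPullback pP pQ)
    (UY := O) hQ₀V hP₀V rfl hV hQ₀ hP₀ (fun _ => rfl) (fun _ => rfl) inf_le_left inf_le_right
  obtain ⟨Φ, hΦ, hΦt⟩ := PullSec.exists_tensor_bijective (IsPullback.of_hasPullback (WidePullback.base fun _ : Fin d => f) (WidePullback.base fun _ : Fin e => g))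
    (UY := m ⁻¹ᵁ O) W₂.le' W₁.le' hUY hV (hW₂.preimage (𝟙 _)) (hW₁.preimage (𝟙 _)) (fun _ => rfl)
    (fun _ => rfl) (hUY.le.trans inf_le_left) (hUY.le.trans inf_le_right)
  have key : ∀ z, (m.app O).hom (Φ₀ z) = Φ (TensorProduct.map ι₁.toLinearMap ι₂.toLinearMap z) := by
    intro z
    induction z using TensorProduct.induction_on with
    | zero => rw [map_zero, map_zero]; simp only [map_zero]
    | add a b ha hb => simp only [map_add, ha, hb]
    | tmul a b =>
      rw [hΦ₀t, TensorProduct.map_tmul, hΦt, map_mul, Scheme.Hom.app_eq_appLE]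
      congr 1
      · exact SymSpan.appLE_square m _ (pullback.fst (WidePullback.base fun _ : Fin d => f) (WidePullback.base fun _ : Fin e => g)) (𝟙 _ ≫ qX)
          (by rw [Category.id_comp]; exact hm₁) _ _ _ _ a
      · exact SymSpan.appLE_square m _ (pullback.snd (WidePullback.base fun _ : Fin d => f) (WidePullback.base fun _ : Fin e => g)) (𝟙 _ ≫ qZ)
          (by rw [Category.id_comp]; exact hm₂) _ _ _ _ b
  have hstO : ∀ σ, m ⁻¹ᵁ O ≤ (ρ σ).hom ⁻¹ᵁ (m ⁻¹ᵁ O) := fun σ => SGA1.preimage_le_of_inv ρ m hinv σ O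
  have hact₁ : ∀ σ z, Φ ((act' heq₁ W₁ hst₁ σ).toLinearMap.rTensor _ z) =
      ((ρ ⟨σ⁻¹, 1⟩).hom.appLE (m ⁻¹ᵁ O) (m ⁻¹ᵁ O) (hstO _)).hom (Φ z) := by
    intro σ z
    induction z using TensorProduct.induction_on with
    | zero => rw [map_zero, map_zero]; simp only [map_zero]
    | add a b ha hb => simp only [map_add, ha, hb]
    | tmul a b =>
      rw [LinearMap.rTensor_tmul, hΦt, hΦt, map_mul, AlgHom.toLinearMap_apply, act', SymSpan.secPerm'_apply]
      congr 1
      · exact (SymSpan.appLE_square (ρ ⟨σ⁻¹, 1⟩).hom _ (pullback.fst (WidePullback.base fun _ : Fin d => f) (WidePullback.base fun _ : Fin e => g)) _ (hρ ⟨σ⁻¹, 1⟩).1 _ _ _ _ a).symm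
      · refine Eq.symm ((SymSpan.appLE_square (ρ ⟨σ⁻¹, 1⟩).hom _ (pullback.snd (WidePullback.base fun _ : Fin d => f) (WidePullback.base fun _ : Fin e => g)) _ (hρ ⟨σ⁻¹, 1⟩).2
          _ (stable' heq₂ W₂ hst₂ 1) _ (hUY.le.trans inf_le_right) b).trans ?_)
        exact congrArg _ (appLE_id_apply (SymProd.permHom_one g e) _ b)
  have hact₂ : ∀ σ z, Φ ((act' heq₂ W₂ hst₂ σ).toLinearMap.lTensor _ z) =
      ((ρ ⟨1, σ⁻¹⟩).hom.appLE (m ⁻¹ᵁ O) (m ⁻¹ᵁ O) (hstO _)).hom (Φ z) := by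
    intro σ z
    induction z using TensorProduct.induction_on with
    | zero => rw [map_zero, map_zero]; simp only [map_zero]
    | add a b ha hb => simp only [map_add, ha, hb]
    | tmul a b =>
      rw [LinearMap.lTensor_tmul, hΦt, hΦt, map_mul, AlgHom.toLinearMap_apply, act', SymSpan.secPerm'_apply]
      congr 1
      · refine Eq.symm ((SymSpan.appLE_square (ρ ⟨1, σ⁻¹⟩).hom _ (pullback.fst (WidePullback.base fun _ : Fin d => f) (WidePullback.base fun _ : Fin e => g)) _ (hρ ⟨1, σ⁻¹⟩).1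
          _ (stable' heq₁ W₁ hst₁ 1) _ (hUY.le.trans inf_le_left) a).trans ?_)
        exact congrArg _ (appLE_id_apply (SymProd.permHom_one f d) _ a)
      · exact (SymSpan.appLE_square (ρ ⟨1, σ⁻¹⟩).hom _ (pullback.snd (WidePullback.base fun _ : Fin d => f) (WidePullback.base fun _ : Fin e => g)) _ (hρ ⟨1, σ⁻¹⟩).2 _ _ _ _ b).symm
  refine ⟨O, hO, ⟨hyP, hyQ⟩, fun a b hab => ?_, fun s hs => ?_⟩
  · obtain ⟨a, rfl⟩ := hΦ₀.2 a
    obtain ⟨b, rfl⟩ := hΦ₀.2 b
    rw [key, key] at hab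
    rw [hinj (hΦ.1 hab)]
  · obtain ⟨z, rfl⟩ := hΦ.2 s
    obtain ⟨w, hw⟩ := hsurj z (fun σ => hΦ.1 ((hact₁ σ z).trans (hs _)))
      (fun σ => hΦ.1 ((hact₂ σ z).trans (hs _)))
    exact ⟨Φ₀ w, by rw [key, hw]⟩

end Groth.Agent.S13395
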