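import Groth.Statements.S13422
import Groth.Agent.NeronMdl58.QuasiSec
import Groth.Agent.NeronMdl58.DenseIso

set_option autoImplicit false
universe u
open CategoryTheory AlgebraicGeometry
open NeronHD

namespace Groth.Agent.S13422

/-- Let S be a locally Noetherian scheme over a field of characteristic 0, S₀ ⊆ S a scheme-theoretically
dense open, and N a smooth S-scheme with the weak Néron mapping property for S₀ ⊆ S: for every étale
S-scheme U, restriction to S₀ is a bijection from S-morphisms U → N onto S₀-morphisms U|S₀ → N|S₀.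
Then N has the uniqueness half of the Néron mapping property: for every smooth S-scheme Z,
restriction of S-morphisms Z → N to S₀ is injective. (Case of schemes of a statement about algebraic
spaces.) -/
theorem result {k : Type u} [Field k] [CharZero k] {S : Scheme.{u}} (σ : S ⟶ Spec (CommRingCat.of k)) [IsLocallyNoetherian S] (S₀ : S.Opens) (hS₀ : CInt.IsSchematicallyDense S₀)
    (N : Over S) [Smooth N.hom]
    (hN : ∀ U : Over S, Etale U.hom → Function.Bijective (fun g : U ⟶ N => (Over.pullback S₀.ι).map g))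
    (Z : Over S) [Smooth Z.hom] :
    Function.Injective (fun g : Z ⟶ N => (Over.pullback S₀.ι).map g) := by
  intro g₁ g₂ heq
  apply Over.OverMorphism.ext
  let E := Limits.pullback (Limits.pullback.lift g₁.left g₂.left
    (show g₁.left ≫ N.hom = g₂.left ≫ N.hom by rw [Over.w, Over.w])) (Limits.pullback.diagonal N.hom)
  let e : E ⟶ Z.left := Limits.pullback.fst _ _
  haveI : IsImmersion e := inferInstanceAs (IsImmersion (Limits.pullback.fst _ _))
  have he : e ≫ g₁.left = e ≫ g₂.left := by
    have hc := Limits.pullback.condition (f := Limits.pullback.lift g₁.left g₂.left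
      (show g₁.left ≫ N.hom = g₂.left ≫ N.hom by rw [Over.w, Over.w])) (g := Limits.pullback.diagonal N.hom)
    have h1 := congrArg (· ≫ Limits.pullback.fst N.hom N.hom) hc
    have h2 := congrArg (· ≫ Limits.pullback.snd N.hom N.hom) hc
    simp only [Category.assoc, Limits.pullback.lift_fst, Limits.pullback.lift_snd,
      Limits.pullback.diagonal_fst, Limits.pullback.diagonal_snd, Category.comp_id] at h1 h2
    exact h1.trans h2.symm
  have hall : Set.range e = Set.univ := by
    refine NeronMdl58.QuasiSec.eq_univ_of_sections σ Z.hom e.isLocallyClosed_range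
      fun S' g s hg hs x => ?_
    let h : Over.mk g ⟶ Z := Over.homMk s hs
    have hh : h ≫ g₁ = h ≫ g₂ := by
      refine (hN (Over.mk g) hg).1 ?_
      show (Over.pullback S₀.ι).map (h ≫ g₁) = (Over.pullback S₀.ι).map (h ≫ g₂)
      rw [Functor.map_comp, Functor.map_comp]
      exact congrArg (_ ≫ ·) heq
    have hh' : s ≫ g₁.left = s ≫ g₂.left := congrArg CommaMorphism.left hh
    refine ⟨(Limits.pullback.lift s (s ≫ g₁.left) ?_ : S' ⟶ E) x, ?_⟩
    · apply Limits.pullback.hom_ext
      · simp only [Category.assoc, Limits.pullback.diagonal_fst, Category.comp_id]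
        exact congrArg (s ≫ ·) (Limits.pullback.lift_fst _ _ _)
      · simp only [Category.assoc, Limits.pullback.diagonal_snd, Category.comp_id]
        exact (congrArg (s ≫ ·) (Limits.pullback.lift_snd _ _ _)).trans hh'.symm
    · rw [← Scheme.Hom.comp_apply, Limits.pullback.lift_fst]
  have hset : ∀ z, g₁.left z = g₂.left z := by
    intro z
    obtain ⟨w, rfl⟩ : z ∈ Set.range e := hall ▸ Set.mem_univ z
    rw [← Scheme.Hom.comp_apply, he, Scheme.Hom.comp_apply]
  have hres : (Z.hom ⁻¹ᵁ S₀).ι ≫ g₁.left = (Z.hom ⁻¹ᵁ S₀).ι ≫ g₂.left := by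
    have hl : ∀ g : Z ⟶ N, ((Over.pullback S₀.ι).map g).left ≫ Limits.pullback.fst N.hom S₀.ι
        = Limits.pullback.fst Z.hom S₀.ι ≫ g.left := fun g => Limits.pullback.lift_fst _ _ _
    rw [← pullbackRestrictIsoRestrict_inv_fst Z.hom S₀, Category.assoc, Category.assoc, ← hl g₁, ← hl g₂]
    exact congrArg (fun m => _ ≫ CommaMorphism.left m ≫ Limits.pullback.fst N.hom S₀.ι) heq
  refine Scheme.hom_ext_of_forall _ _ fun z => ?_
  obtain ⟨W, hW, hzW, -⟩ := exists_isAffineOpen_mem_and_subset (x := g₁.left z) (U := ⊤) trivial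
  let V : Z.left.Opens := g₁.left ⁻¹ᵁ W ⊓ g₂.left ⁻¹ᵁ W
  refine ⟨V, ⟨hzW, show g₂.left z ∈ W from hset z ▸ hzW⟩, ?_⟩
  haveI : IsAffine W.toScheme := hW
  haveI : IsSeparated ((W.ι ≫ N.hom) ≫ Limits.terminal.from S) := by
    rw [show (W.ι ≫ N.hom) ≫ Limits.terminal.from S = Limits.terminal.from _ from
      Limits.terminal.hom_ext _ _]; infer_instance
  haveI : IsSeparated (W.ι ≫ N.hom) := IsSeparated.of_comp _ (Limits.terminal.from S)
  have r₁ : Set.range (V.ι ≫ g₁.left) ⊆ Set.range W.ι := by
    rw [Scheme.Opens.range_ι]; rintro _ ⟨a, rfl⟩; exact a.2.1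
  have r₂ : Set.range (V.ι ≫ g₂.left) ⊆ Set.range W.ι := by
    rw [Scheme.Opens.range_ι]; rintro _ ⟨a, rfl⟩; exact a.2.2
  have key : IsOpenImmersion.lift W.ι _ r₁ = IsOpenImmersion.lift W.ι _ r₂ := by
    haveI : IsLocallyNoetherian Z.left := LocallyOfFiniteType.isLocallyNoetherian Z.hom
    refine SchDenseLib.hom_ext (SchDenseLib.preimage_of_isLocallyNoetherian V.ι _
      (SchDenseLib.preimage_of_isLocallyNoetherian Z.hom S₀ hS₀)) (W.ι ≫ N.hom) _ _ ?_ ?_
    · rw [IsOpenImmersion.lift_fac_assoc, IsOpenImmersion.lift_fac_assoc]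
      simp [Over.w]
    · rw [← cancel_mono W.ι]
      simp only [Category.assoc, IsOpenImmersion.lift_fac]
      rw [← morphismRestrict_ι_assoc, ← morphismRestrict_ι_assoc, hres]
  rw [← IsOpenImmersion.lift_fac W.ι _ r₁, key, IsOpenImmersion.lift_fac]

end Groth.Agent.S13422
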