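import Groth.Statements.S13423
import Groth.Agent.UnibEtale.RatSect
import Groth.Agent.GrpSchLib.UnramifiedFibre
import Groth.Agent.FDescent.QuasiFlat
import Groth.Agent.UnramMisc.QFSmooth
import Groth.Agent.S4647

set_option autoImplicit false
universe u
open CategoryTheory AlgebraicGeometry
open NeronHD

namespace Groth.Agent.S13423

/-- Let S be a reduced, locally Noetherian scheme over a field of characteristic 0 whose local rings are
all geometrically unibranch, and let f : X → S be quasi-finite (locally of finite type,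
quasi-compact, with finite discrete fibres), separated and dominant, with X connected and nonempty,
such that every fibre X_s over the residue field k(s) is smooth. Then f is étale. (Case of schemes
of a statement about algebraic spaces.) -/
theorem result {k : Type u} [Field k] [CharZero k] {S : Scheme.{u}} (σ : S ⟶ Spec (CommRingCat.of k)) [IsLocallyNoetherian S] [IsReduced S]
    (hS : ∀ s : S, CAlg2.IsGeomUnibranch (S.presheaf.stalk s))
    {X : Scheme.{u}} (f : X ⟶ S) [LocallyOfFiniteType f] [QuasiCompact f] [LocallyQuasiFinite f] [IsSeparated f] [IsDominant f]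
    [ConnectedSpace X]
    (hfib : ∀ s : S, Smooth (Limits.pullback.snd f (S.fromSpecResidueField s))) :
    Etale f := by
  haveI : IsLocallyNoetherian X := LocallyOfFiniteType.isLocallyNoetherian f
  have hdom : ∀ s : S, IsDomain (S.presheaf.stalk s) := fun s => by
    have h := (Ideal.Quotient.isDomain_iff_prime _).1 (hS s).1.1
    rw [show nilradical (S.presheaf.stalk s) = ⊥ from nilradical_eq_zero _] at h
    exact IsDomain.of_bot_isPrime _
  haveI : FormallyUnramified f := by
    refine GrpSchLib.formallyUnramified_of_fibres f fun s => ?_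
    haveI : Smooth (f.fiberToSpecResidueField s) := hfib s
    haveI : LocallyQuasiFinite (f.fiberToSpecResidueField s) :=
      inferInstanceAs (LocallyQuasiFinite (Limits.pullback.snd f (S.fromSpecResidueField s)))
    haveI := Groth.Agent.UnramMisc.etale_of_smooth_of_locallyQuasiFinite (f.fiberToSpecResidueField s)
    infer_instance
  have hint : ∀ s : S, ∃ W : S.Opens, s ∈ W ∧ AlgebraicGeometry.IsIntegral W.toScheme := by
    refine fun s => Groth.Agent.S4647.result (𝟙 S) hdom (fun y => ?_) s
    obtain ⟨U, hU, hyU, -⟩ := exists_isAffineOpen_mem_and_subset (x := y) (U := ⊤) trivial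
    haveI : IsAffine U.toScheme := hU
    haveI : IsLocallyNoetherian U.toScheme := isLocallyNoetherian_of_isOpenImmersion U.ι
    haveI : AlgebraicGeometry.IsNoetherian U.toScheme := {}
    exact ⟨U, hyU, inferInstanceAs (TopologicalSpace.NoetherianSpace U.toScheme)⟩
  have hchart : ∀ x : X, Function.Injective (f.stalkMap x) → ∃ U : X.Opens, x ∈ U ∧ Etale (U.ι ≫ f) := by
    intro x hx
    obtain ⟨W₀, hxW₀, hW₀⟩ := hint (f x)
    obtain ⟨W, hW, hxW, hWW₀⟩ := exists_isAffineOpen_mem_and_subset (x := f x) (U := W₀) hxW₀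
    haveI : Nonempty W.toScheme := ⟨⟨f x, hxW⟩⟩
    haveI : AlgebraicGeometry.IsIntegral W.toScheme := isIntegral_of_isOpenImmersion (S.homOfLE (show W ≤ W₀ from hWW₀))
    haveI : IsDomain Γ(S, W) := W.topIso.commRingCatIsoToRingEquiv.symm.toMulEquiv.isDomain _
    exact UnibEtale.etale_nhd_of_chart f x hW hxW (hS _) hx
  have hnhd : ∀ (U : X.Opens), Etale (U.ι ≫ f) → ∀ z ∈ U, Function.Injective (f.stalkMap z) :=
    fun U _ z hz => UnibEtale.flat_injective_stalkMap f z
      ((StalkLoc7.stalkMap_flat_openImmersion_comp f U ⟨z, hz⟩).2 (Flat.stalkMap _ _))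
  let G : Set X := {x | Function.Injective (f.stalkMap x)}
  have hGo : IsOpen G := by
    refine isOpen_iff_forall_mem_open.2 fun x hx => ?_
    obtain ⟨U, hxU, hU⟩ := hchart x hx
    exact ⟨U, hnhd U hU, U.2, hxU⟩
  have hGc : IsClosed G := by
    refine isClosed_of_closure_subset fun x hx => ?_
    obtain ⟨N, hN, hxN, -⟩ := exists_isAffineOpen_mem_and_subset (x := x) (U := ⊤) trivial
    haveI : IsAffine N.toScheme := hN
    haveI : IsLocallyNoetherian N.toScheme := isLocallyNoetherian_of_isOpenImmersion N.ι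
    haveI : AlgebraicGeometry.IsNoetherian N.toScheme := {}
    let GN : Set N.toScheme := N.ι ⁻¹' G
    have hx' : (⟨x, hxN⟩ : N.toScheme) ∈ closure GN := by
      have : (⟨x, hxN⟩ : N.toScheme) ∈ N.ι ⁻¹' closure G := hx
      rwa [N.ι.isOpenEmbedding.isOpenMap.preimage_closure_eq_closure_preimage N.ι.continuous] at this
    have hcov : GN ⊆ ⋃ Z ∈ irreducibleComponents N.toScheme, Z ∩ GN := fun z hz =>
      Set.mem_biUnion (irreducibleComponent_mem_irreducibleComponents z) ⟨mem_irreducibleComponent, hz⟩
    have hx'' := closure_mono hcov hx'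
    rw [Set.Finite.closure_biUnion TopologicalSpace.NoetherianSpace.finite_irreducibleComponents] at hx''
    obtain ⟨Z, hZ, hxZ⟩ := Set.mem_iUnion₂.1 hx''
    obtain ⟨z, hzZ, hzG⟩ : (Z ∩ GN).Nonempty := by
      by_contra hne
      rw [Set.not_nonempty_iff_eq_empty] at hne
      rw [hne, closure_empty] at hxZ
      exact hxZ
    have hxZ' : (⟨x, hxN⟩ : N.toScheme) ∈ Z :=
      (isClosed_of_mem_irreducibleComponents Z hZ).closure_subset (closure_mono Set.inter_subset_left hxZ)
    have hg := hZ.1.isGenericPoint_genericPoint (isClosed_of_mem_irreducibleComponents Z hZ)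
    set ξ' := hZ.1.genericPoint
    let ξ : X := N.ι ξ'
    have hξmax : ∀ a : X, a ⤳ ξ → a = ξ := by
      intro a ha
      let a' : N.toScheme := ⟨a, ha.mem_open N.2 ξ'.2⟩
      have ha' : a' ⤳ ξ' := N.ι.isOpenEmbedding.isInducing.specializes_iff.1 ha
      have h3 : closure {a'} = Z :=
        (hZ.2 isIrreducible_singleton.closure (hg.def ▸ specializes_iff_closure_subset.1 ha')).antisymm
          (hg.def ▸ specializes_iff_closure_subset.1 ha')
      exact congrArg N.ι ((show IsGenericPoint a' Z from h3).eq hg)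
    have hξG : ξ ∈ G := ((hg.specializes hzZ).map N.ι.continuous).mem_open hGo hzG
    have hξx : ξ ⤳ x := (hg.specializes hxZ').map N.ι.continuous
    obtain ⟨U₁, hξU₁, hU₁⟩ := hchart ξ hξG
    obtain ⟨W₀, hxW₀, hW₀⟩ := hint (f x)
    have hfξW₀ : f ξ ∈ W₀ := (hξx.map f.continuous).mem_open W₀.2 hxW₀
    let η : S := W₀.ι (genericPoint W₀.toScheme)
    have hη : η ⤳ f ξ := (genericPoint_specializes (α := W₀.toScheme) ⟨f ξ, hfξW₀⟩).map W₀.ι.continuous
    have hfξ : f ξ = η := by
      obtain ⟨a, ha, hfa⟩ := Flat.generalizingMap (U₁.ι ≫ f) (a := (⟨ξ, hξU₁⟩ : U₁.toScheme)) hη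
      have : U₁.ι a = ξ := hξmax _ (ha.map U₁.ι.continuous)
      rw [← hfa, ← this]; rfl
    obtain ⟨W, hW, hxW, hWW₀⟩ := exists_isAffineOpen_mem_and_subset (x := f x) (U := W₀) hxW₀
    haveI : Nonempty W.toScheme := ⟨⟨f x, hxW⟩⟩
    haveI : AlgebraicGeometry.IsIntegral W.toScheme := isIntegral_of_isOpenImmersion (S.homOfLE (show W ≤ W₀ from hWW₀))
    haveI : IsDomain Γ(S, W) := W.topIso.commRingCatIsoToRingEquiv.symm.toMulEquiv.isDomain _
    have hτ := (UnibEtale.frac_chart hW ((hξx.map f.continuous).mem_open W.2 hxW) hxW (hξx.map f.continuous)).1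
    intro a b hab
    apply hτ
    apply hξG
    rw [Scheme.Hom.stalkSpecializes_stalkMap_apply f ξ x hξx, Scheme.Hom.stalkSpecializes_stalkMap_apply f ξ x hξx,
      hab]
  have hGne : G.Nonempty := by
    obtain ⟨W₀, hsW₀, hW₀⟩ := hint (f (Classical.arbitrary X))
    let η : S := W₀.ι (genericPoint W₀.toScheme)
    obtain ⟨x, hx⟩ := FDescent.exists_specializes_of_mem_closure_range (f := f) (y := η)
      (by rw [f.denseRange.closure_range]; trivial)
    have hxη : f x = η := by
      let a : W₀.toScheme := ⟨f x, hx.mem_open W₀.2 (genericPoint W₀.toScheme).2⟩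
      have ha : a ⤳ genericPoint W₀.toScheme := W₀.ι.isOpenEmbedding.isInducing.specializes_iff.1 hx
      exact congrArg W₀.ι ((genericPoint_specializes a).antisymm ha).eq.symm
    refine ⟨x, ?_⟩
    have hF : IsField (S.presheaf.stalk (f x)) := by
      rw [hxη]
      exact MulEquiv.isField (Field.toIsField W₀.toScheme.functionField)
        (asIso (W₀.ι.stalkMap (genericPoint W₀.toScheme))).commRingCatIsoToRingEquiv.toMulEquiv
    letI := hF.toField
    exact RingHom.injective (f.stalkMap x).hom
  have hG : G = Set.univ := IsClopen.eq_univ ⟨hGc, hGo⟩ hGne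
  choose U hxU hU using fun x => hchart x (hG.ge (Set.mem_univ x))
  haveI := HasRingHomProperty.instIsZariskiLocalAtSource (P := @Etale) (Q := fun {R S} [CommRing R] [CommRing S] f => RingHom.Etale f)
  exact IsZariskiLocalAtSource.of_iSup_eq_top (P := @Etale) U
    (eq_top_iff.2 fun x _ => TopologicalSpace.Opens.mem_iSup.2 ⟨x, hxU x⟩) hU

end Groth.Agent.S13423
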