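import Groth.Statements.S13425
import Groth.Agent.Triage.ZMTBir
import Mathlib.AlgebraicGeometry.AlgClosed.Basic
import Mathlib.AlgebraicGeometry.Morphisms.UniversallyInjective
import Mathlib.FieldTheory.PurelyInseparable.Basic

set_option autoImplicit false
universe u
open CategoryTheory AlgebraicGeometry
open NeronHD

namespace Groth.Agent.S13425

/-- Let k be a characteristic-zero algebraically closed field and X, Y integral schemes, separated and
of finite type over k, with Y normal, and let f : X → Y be a dominant k-morphism which is injective
on k-rational points. Then f is an open immersion. (Case of schemes of a statement about algebraic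
spaces.) -/
theorem result {k : Type u} [Field k] [IsAlgClosed k] [CharZero k]
    {X Y : Scheme.{u}} (sX : X ⟶ Spec (CommRingCat.of k)) (sY : Y ⟶ Spec (CommRingCat.of k))
    [IsIntegral X] [IsIntegral Y] [IsSeparated sX] [IsSeparated sY]
    [LocallyOfFiniteType sX] [QuasiCompact sX] [LocallyOfFiniteType sY] [QuasiCompact sY]
    (hY : Pi1.IsNormalScheme Y)
    (f : X ⟶ Y) (hf : f ≫ sY = sX) [IsDominant f]
    (hinj : ∀ a b : Spec (CommRingCat.of k) ⟶ X, a ≫ sX = 𝟙 _ → b ≫ sX = 𝟙 _ → a ≫ f = b ≫ f → a = b) :
    IsOpenImmersion f := by
  haveI : IsSeparated f := by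
    haveI : IsSeparated (f ≫ sY) := by rw [hf]; infer_instance
    exact IsSeparated.of_comp f sY
  haveI : QuasiCompact f := by
    haveI : QuasiCompact (f ≫ sY) := by rw [hf]; infer_instance
    exact QuasiCompact.of_comp f sY
  haveI : LocallyOfFiniteType f := by
    haveI : LocallyOfFiniteType (f ≫ sY) := by rw [hf]; infer_instance
    exact locallyOfFiniteType_of_comp f sY
  haveI : UniversallyInjective f := by
    rw [UniversallyInjective.iff_diagonal]
    refine ⟨fun z => ?_⟩
    let q := Limits.pullback.fst f f ≫ sX
    haveI : JacobsonSpace ↥(Limits.pullback f f) := LocallyOfFiniteType.jacobsonSpace q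
    have hsub : closedPoints ↥(Limits.pullback f f) ⊆ Set.range (Limits.pullback.diagonal f) := by
      intro w hw
      let φ := pointOfClosedPoint q w hw
      have h1 : (φ ≫ Limits.pullback.fst f f) ≫ sX = 𝟙 _ := by
        rw [Category.assoc]; exact pointOfClosedPoint_comp q w hw
      have h2 : (φ ≫ Limits.pullback.snd f f) ≫ sX = 𝟙 _ := by
        rw [Category.assoc, ← hf, ← Limits.pullback.condition_assoc, hf]
        exact pointOfClosedPoint_comp q w hw
      have h3 := hinj _ _ h1 h2 (by rw [Category.assoc, Category.assoc, Limits.pullback.condition])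
      have h4 : φ = (φ ≫ Limits.pullback.fst f f) ≫ Limits.pullback.diagonal f := by
        apply Limits.pullback.hom_ext
        · simp
        · simp [h3]
      refine ⟨(φ ≫ Limits.pullback.fst f f) (IsLocalRing.closedPoint k), ?_⟩
      refine (congrArg (fun m : Spec (CommRingCat.of k) ⟶ Limits.pullback f f =>
        m (IsLocalRing.closedPoint k)) h4.symm).trans ?_
      exact pointOfClosedPoint_apply q w hw _
    have hcl := (Limits.pullback.diagonal f).isClosedEmbedding.isClosed_range
    exact (hcl.closure_subset_iff.2 hsub) (closure_closedPoints (X := ↥(Limits.pullback f f)) ▸ Set.mem_univ z)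
  haveI : LocallyQuasiFinite f :=
    .of_finite_preimage_singleton f fun y =>
      ((Set.subsingleton_singleton (a := y)).preimage f.injective).finite
  have hgen : f (genericPoint X) = genericPoint Y := by
    refine ((genericPoint_spec X).image f.continuous).eq ?_
    rw [Set.image_univ, f.denseRange.closure_eq]
    exact genericPoint_spec Y
  refine Triage.ZMTBir.isOpenImmersion_of_birational (fun y => (hY y).2) f hgen ?_
  have hYres : ∀ y, y = genericPoint Y → Function.Bijective (Y.residue y).hom := by
    rintro y rfl
    exact ⟨RingHom.injective (Y.residue (genericPoint Y)).hom, Y.residue_surjective _⟩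
  have hXres : Function.Bijective (X.residue (genericPoint X)).hom :=
    ⟨RingHom.injective (X.residue (genericPoint X)).hom, X.residue_surjective _⟩
  have hp := ((tfae_universallyInjective f).out 0 2).1 ‹UniversallyInjective f›
  have hpi := hp.2 (genericPoint X)
  have hbij : Function.Bijective (f.residueFieldMap (genericPoint X)).hom := by
    let L := X.residueField (genericPoint X)
    let K := Y.residueField (f (genericPoint X))
    letI : Algebra K L := (f.residueFieldMap (genericPoint X)).hom.toAlgebra
    haveI : IsPurelyInseparable K L := hpi
    let g : k →+* K := (Spec.preimage (Y.fromSpecResidueField (f (genericPoint X)) ≫ sY)).hom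
    haveI : CharZero K := charZero_of_injective_ringHom g.injective
    exact ⟨RingHom.injective _, IsPurelyInseparable.surjective_algebraMap_of_isSeparable K L⟩
  rw [ConcreteCategory.isIso_iff_bijective]
  refine (Function.Bijective.of_comp_iff' hXres _).1 ?_
  have := hbij.comp (hYres _ hgen)
  rw [← RingHom.coe_comp, ← CommRingCat.hom_comp, Scheme.residue_residueFieldMap] at this
  exact this

end Groth.Agent.S13425
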