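import Groth.Statements.S13428
import Groth.Agent.NeronMdl58.NormalImm
import Groth.Agent.GrpSchLib.HomFibre
import Groth.Agent.GalEt.ConstPush
import Groth.Agent.SchDenseLib.FlatNoeth

set_option autoImplicit false
universe u
open CategoryTheory AlgebraicGeometry
open NeronHD

namespace Groth.Agent.S13428

/-- Let S be a normal Noetherian scheme over a field of characteristic 0 and S₀ ⊆ S a
scheme-theoretically dense open. Let N be a smooth, separated and quasi-compact S-scheme with the
Néron mapping property for S₀ ⊆ S (restriction to S₀ of S-morphisms from smooth S-schemes is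
bijective) such that N|S₀ → S₀ is étale, so that N is a quasi-projective Néron model of the
quasi-projective étale S₀-scheme N|S₀. If M is a separated, quasi-compact, étale S-scheme and φ : M
→ N is an S-morphism restricting to an isomorphism over S₀ (so M is another quasi-projective étale
extension of N|S₀, and φ is its canonical map to the Néron model), then φ is an open immersion.
(Case of schemes of the published statement.) -/
theorem result {k : Type u} [Field k] [CharZero k] {S : Scheme.{u}} (σ : S ⟶ Spec (CommRingCat.of k)) [IsNoetherian S] (hS : Pi1.IsNormalScheme S) (S₀ : S.Opens) (hS₀ : CInt.IsSchematicallyDense S₀)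
    (N : Over S) [Smooth N.hom] [IsSeparated N.hom] [QuasiCompact N.hom]
    (hN : ∀ Z : Over S, Smooth Z.hom → Function.Bijective (fun g : Z ⟶ N => (Over.pullback S₀.ι).map g))
    [Etale ((Over.pullback S₀.ι).obj N).hom]
    (M : Over S) [Etale M.hom] [IsSeparated M.hom] [QuasiCompact M.hom]
    (φ : M ⟶ N) [IsIso ((Over.pullback S₀.ι).map φ)] :
    IsOpenImmersion φ.left := by
  have hw : φ.left ≫ N.hom = M.hom := Over.w φ
  haveI : IsLocallyNoetherian N.left := LocallyOfFiniteType.isLocallyNoetherian N.hom
  haveI : IsSeparated φ.left := by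
    haveI : IsSeparated (φ.left ≫ N.hom) := by rw [hw]; infer_instance
    exact IsSeparated.of_comp φ.left N.hom
  haveI : QuasiCompact φ.left := by
    haveI : QuasiCompact (φ.left ≫ N.hom) := by rw [hw]; infer_instance
    exact QuasiCompact.of_comp φ.left N.hom
  haveI : LocallyOfFiniteType φ.left := by
    haveI : LocallyOfFiniteType (φ.left ≫ N.hom) := by rw [hw]; infer_instance
    exact locallyOfFiniteType_of_comp φ.left N.hom
  haveI : LocallyQuasiFinite φ.left := by
    haveI : LocallyQuasiFinite (φ.left ≫ N.hom) := by rw [hw]; exact GalEt.lqf_of_etale M.hom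
    exact LocallyQuasiFinite.of_comp φ.left N.hom
  haveI : IsIso (φ.left ∣_ N.hom ⁻¹ᵁ S₀) := by
    have h1 := GrpSchLib.HomFibre.map_isPullback φ S₀.ι
    let a := ((Over.pullback S₀.ι).map φ).left
    haveI : IsIso a := inferInstanceAs (IsIso ((Over.forget _).map ((Over.pullback S₀.ι).map φ)))
    have h3 : IsPullback (Limits.pullback.fst M.hom S₀.ι) (a ≫ (pullbackRestrictIsoRestrict N.hom S₀).hom)
        φ.left (N.hom ⁻¹ᵁ S₀).ι := by
      refine IsPullback.of_iso h1 (Iso.refl _) (Iso.refl _) (pullbackRestrictIsoRestrict N.hom S₀) (Iso.refl _)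
        (by simp) (by simp [a]) (by simp) ?_
      simp [pullbackRestrictIsoRestrict_hom_ι]
    have h4 := (isPullback_morphismRestrict φ.left (N.hom ⁻¹ᵁ S₀)).flip
    rw [← h4.isoIsPullback_hom_snd _ _ h3]
    infer_instance
  refine NeronMdl58.NormalImm.isOpenImmersion_of_dense_iso
    (NeronMdl58.NormalImm.isNormalScheme_of_smooth N.hom hS)
    (NeronMdl58.NormalImm.isNormalScheme_of_smooth M.hom hS) φ.left (N.hom ⁻¹ᵁ S₀) ?_
  have hd : CInt.IsSchematicallyDense (φ.left ⁻¹ᵁ (N.hom ⁻¹ᵁ S₀)) := by
    rw [← Scheme.Hom.comp_preimage, hw]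
    exact SchDenseLib.preimage_of_isLocallyNoetherian M.hom S₀ hS₀
  exact dense_iff_inter_open.2 fun V hV hne => S5435.dense_of_isSchematicallyDense hd ⟨V, hV⟩ hne

end Groth.Agent.S13428
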