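import Groth.Statements.S13429
import Groth.Agent.NeronMdl58.SmoothLocusNMP
import Groth.Agent.NeronMdl58.NormalizationNormal
import Groth.Agent.GalEt.ConstPush
import Groth.Agent.UnramMisc.QFSmooth

set_option autoImplicit false
universe u
open CategoryTheory AlgebraicGeometry
open NeronHD

namespace Groth.Agent.S13429

/-- A point in the closure of a locally closed subset of a noetherian sober space specializes from it. -/
theorem exists_specializes_of_mem_closure {X : Type u} [TopologicalSpace X] [TopologicalSpace.NoetherianSpace X]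
    [QuasiSober X] {O F : Set X} (hO : IsOpen O) (hF : IsClosed F) {x : X} (hx : x ∈ closure (O ∩ F)) :
    ∃ c ∈ O ∩ F, c ⤳ x := by
  obtain ⟨K, hKf, hKc, hKi, hK⟩ :=
    TopologicalSpace.NoetherianSpace.exists_finite_set_isClosed_irreducible (isClosed_closure (s := O ∩ F))
  have hcov : O ∩ F ⊆ ⋃ k ∈ K, k ∩ (O ∩ F) := fun y hy => by
    obtain ⟨k, hk, hyk⟩ := hK.le (subset_closure hy)
    exact Set.mem_biUnion hk ⟨hyk, hy⟩
  have h1 := closure_mono hcov hx
  rw [hKf.closure_biUnion] at h1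
  obtain ⟨k, hk, hxk⟩ := Set.mem_iUnion₂.1 h1
  obtain ⟨y, hyk, hy⟩ : (k ∩ (O ∩ F)).Nonempty := by
    by_contra hne
    rw [Set.not_nonempty_iff_eq_empty] at hne
    rw [hne, closure_empty] at hxk
    exact hxk
  obtain ⟨γ, hγ⟩ := QuasiSober.sober (hKi k hk) (hKc k hk)
  refine ⟨γ, ⟨(hγ.specializes hyk).mem_open hO hy.1, ?_⟩, hγ.specializes ?_⟩
  · exact (hF.closure_subset_iff.2 Set.inter_subset_right) (hK ▸ Set.mem_sUnion_of_mem hγ.mem hk)
  · exact (hKc k hk).closure_subset (closure_mono Set.inter_subset_left hxk)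

/-- Let S be a normal Noetherian scheme over a field of characteristic 0, S₀ ⊆ S a scheme-theoretically
dense open, and N₀ → S₀ separated, quasi-compact and étale (a quasi-projective étale S₀-scheme).
Then N₀ has a quasi-projective Néron model: there exist a separated, quasi-compact, étale S-scheme N
and an isomorphism of S₀-schemes N|S₀ ≅ N₀ such that N has the Néron mapping property for S₀ ⊆ S,
i.e. for every smooth S-scheme Z restriction to S₀ is a bijection from S-morphisms Z → N onto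
S₀-morphisms Z|S₀ → N|S₀ (this determines N up to unique isomorphism). (Case of schemes, with smooth
test schemes, of the published statement.) -/
theorem result {k : Type u} [Field k] [CharZero k] {S : Scheme.{u}} (σ : S ⟶ Spec (CommRingCat.of k)) [IsNoetherian S] (hS : Pi1.IsNormalScheme S) (S₀ : S.Opens) (hS₀ : CInt.IsSchematicallyDense S₀)
    (N₀ : Over (S₀ : Scheme.{u})) [Etale N₀.hom] [IsSeparated N₀.hom] [QuasiCompact N₀.hom] :
    ∃ (N : Over S) (e : (Over.pullback S₀.ι).obj N ≅ N₀), Etale N.hom ∧ IsSeparated N.hom ∧ QuasiCompact N.hom ∧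
      ∀ Z : Over S, Smooth Z.hom → Function.Bijective (fun g : Z ⟶ N => (Over.pullback S₀.ι).map g) := by
  let f : N₀.left ⟶ S := N₀.hom ≫ S₀.ι
  haveI : Etale f := inferInstanceAs (Etale (N₀.hom ≫ S₀.ι))
  haveI : QuasiCompact f := inferInstanceAs (QuasiCompact (N₀.hom ≫ S₀.ι))
  haveI : IsSeparated f := inferInstanceAs (IsSeparated (N₀.hom ≫ S₀.ι))
  haveI : LocallyQuasiFinite f := GalEt.lqf_of_etale f
  obtain ⟨hfin, hT⟩ := NeronMdl58.NormalizationNormal.isFinite_and_normal f hS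
  let T := f.normalization
  let π : T ⟶ S := f.fromNormalization
  let j : N₀.left ⟶ T := f.toNormalization
  have hjπ : j ≫ π = f := f.toNormalization_fromNormalization
  haveI : IsFinite π := hfin
  haveI : IsLocallyNoetherian T := LocallyOfFiniteType.isLocallyNoetherian π
  haveI : CompactSpace T := QuasiCompact.compactSpace_of_compactSpace π
  haveI : AlgebraicGeometry.IsNoetherian T := {}
  haveI : LocallyOfFinitePresentation π := inferInstance
  haveI : IsOpenImmersion j := inferInstanceAs (IsOpenImmersion f.toNormalization)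
  let Ω := π.smoothLocus
  have hjΩ : ∀ a, j a ∈ Ω := fun a => by
    have : a ∈ j ⁻¹ᵁ π.smoothLocus := by
      haveI : Smooth (j ≫ π) := by rw [hjπ]; infer_instance
      rw [Scheme.Hom.preimage_smoothLocus_eq, Scheme.Hom.smoothLocus_eq_top]; trivial
    exact this
  let O : Set T := (Ω : Set T) ∩ π ⁻¹' (S₀ : Set S)
  let F : Set T := (Set.range j)ᶜ
  have hOo : IsOpen O := Ω.2.inter (S₀.2.preimage π.continuous)
  have hFc : IsClosed F := j.isOpenEmbedding.isOpen_range.isClosed_compl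
  let W : T.Opens := ⟨(Ω : Set T) ∩ (closure (O ∩ F))ᶜ, Ω.2.inter isClosed_closure.isOpen_compl⟩
  have hjS : ∀ a, π (j a) ∈ S₀ := fun a => by
    rw [← Scheme.Hom.comp_apply, hjπ]; exact (N₀.hom a).2
  have hjW : Set.range j ⊆ (W : Set T) := by
    rintro _ ⟨a, rfl⟩
    exact ⟨hjΩ a, fun h => (hFc.closure_subset_iff.2 Set.inter_subset_right h) ⟨a, rfl⟩⟩
  have hWS : ∀ t ∈ W, π t ∈ S₀ → t ∈ Set.range j := fun t ht hts => by
    by_contra hF
    exact ht.2 (subset_closure ⟨⟨ht.1, hts⟩, hF⟩)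
  let N : Over S := Over.mk (W.ι ≫ π)
  haveI : QuasiCompact N.hom := inferInstanceAs (QuasiCompact (W.ι ≫ π))
  haveI : IsSeparated N.hom := inferInstanceAs (IsSeparated (W.ι ≫ π))
  have hNet : Etale N.hom := by
    haveI : Smooth (W.ι ≫ π) := by
      rw [← Scheme.Hom.smoothLocus_eq_top_iff, ← Scheme.Hom.preimage_smoothLocus_eq]
      exact eq_top_iff.2 fun w _ => w.2.1
    haveI : LocallyQuasiFinite (W.ι ≫ π) := inferInstance
    exact Groth.Agent.UnramMisc.etale_of_smooth_of_locallyQuasiFinite (W.ι ≫ π)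
  let jW : N₀.left ⟶ W.toScheme := IsOpenImmersion.lift W.ι j (by rw [Scheme.Opens.range_ι]; exact hjW)
  have hjW' : jW ≫ W.ι = j := IsOpenImmersion.lift_fac _ _ _
  haveI : IsOpenImmersion (jW ≫ W.ι) := by rw [hjW']; infer_instance
  haveI : IsOpenImmersion jW := IsOpenImmersion.of_comp jW W.ι
  have hpb : IsPullback jW N₀.hom N.hom S₀.ι := by
    refine (IsOpenImmersion.isPullback N₀.hom jW S₀.ι N.hom ?_ ?_).flip
    · show jW ≫ W.ι ≫ π = f
      rw [reassoc_of% hjW', hjπ]
    · rw [Scheme.Opens.opensRange_ι]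
      refine TopologicalSpace.Opens.ext (Set.ext fun w => ⟨fun hw => ?_, ?_⟩)
      · obtain ⟨a, ha⟩ := hWS (W.ι w) w.2 hw
        refine ⟨a, W.ι.isOpenEmbedding.injective ?_⟩
        rw [← Scheme.Hom.comp_apply, hjW', ha]
      · rintro ⟨a, rfl⟩
        show π (W.ι (jW a)) ∈ S₀
        rw [← Scheme.Hom.comp_apply jW W.ι, hjW']
        exact hjS a
  let e : (Over.pullback S₀.ι).obj N ≅ N₀ :=
    Over.isoMk hpb.isoPullback.symm (by exact hpb.isoPullback_inv_snd)
  refine ⟨N, e, hNet, inferInstance, inferInstance, fun Z hZs => ?_⟩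
  let O₀ := Z.hom ⁻¹ᵁ S₀
  have hl : ∀ g : Z ⟶ N, ((Over.pullback S₀.ι).map g).left ≫ Limits.pullback.fst N.hom S₀.ι
      = Limits.pullback.fst Z.hom S₀.ι ≫ g.left := fun g => Limits.pullback.lift_fst _ _ _
  have hOι : O₀.ι = (pullbackRestrictIsoRestrict Z.hom S₀).inv ≫ Limits.pullback.fst Z.hom S₀.ι :=
    (pullbackRestrictIsoRestrict_inv_fst Z.hom S₀).symm
  haveI : IsLocallyNoetherian Z.left := LocallyOfFiniteType.isLocallyNoetherian Z.hom
  refine ⟨fun g₁ g₂ heq => ?_, fun ψ => ?_⟩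
  · apply Over.OverMorphism.ext
    refine SchDenseLib.hom_ext (SchDenseLib.preimage_of_isLocallyNoetherian Z.hom S₀ hS₀) N.hom _ _
      (by rw [Over.w, Over.w]) ?_
    show O₀.ι ≫ g₁.left = O₀.ι ≫ g₂.left
    rw [hOι, Category.assoc, Category.assoc, ← hl g₁, ← hl g₂]
    exact congrArg (fun m => _ ≫ CommaMorphism.left m ≫ Limits.pullback.fst N.hom S₀.ι) heq
  · let a₀ : O₀.toScheme ⟶ W.toScheme :=
      (pullbackRestrictIsoRestrict Z.hom S₀).inv ≫ ψ.left ≫ Limits.pullback.fst N.hom S₀.ι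
    let a : O₀.toScheme ⟶ T := a₀ ≫ W.ι
    have hψ : ψ.left ≫ Limits.pullback.fst N.hom S₀.ι ≫ N.hom = Limits.pullback.fst Z.hom S₀.ι ≫ Z.hom := by
      rw [Limits.pullback.condition, Limits.pullback.condition]
      exact (Category.assoc _ _ _).symm.trans (congrArg (· ≫ S₀.ι) (Over.w ψ))
    have ha : a ≫ π = O₀.ι ≫ Z.hom := by
      rw [hOι]
      simp only [a, a₀, Category.assoc]
      rw [← hψ]
      rfl
    have hZn := NeronMdl58.NormalImm.isNormalScheme_of_smooth Z.hom hS
    obtain ⟨g, hg, hga⟩ := NeronMdl58.SmoothLocusNMP.exists_extension π Z.hom hZn hS₀ a ha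
    have hgΩ : ∀ z, g z ∈ Ω := fun z =>
      NeronMdl58.SmoothLocusNMP.mem_smoothLocus_of_hom π Z.hom hT hZn g hg z
    let g' : Z.left ⟶ Ω.toScheme :=
      IsOpenImmersion.lift Ω.ι g (by rw [Scheme.Opens.range_ι]; rintro _ ⟨z, rfl⟩; exact hgΩ z)
    have hg' : g' ≫ Ω.ι = g := IsOpenImmersion.lift_fac _ _ _
    haveI : Smooth (Ω.ι ≫ π) := by
      rw [← Scheme.Hom.smoothLocus_eq_top_iff, ← Scheme.Hom.preimage_smoothLocus_eq]
      exact eq_top_iff.2 fun w _ => w.2
    haveI : Etale (Ω.ι ≫ π) := Groth.Agent.UnramMisc.etale_of_smooth_of_locallyQuasiFinite (Ω.ι ≫ π)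
    haveI : Flat g' := by
      let γ : Z.left ⟶ Limits.pullback Z.hom (Ω.ι ≫ π) :=
        Limits.pullback.lift (𝟙 _) g' (by rw [Category.id_comp, reassoc_of% hg', hg])
      haveI : Etale (Limits.pullback.fst Z.hom (Ω.ι ≫ π)) := inferInstance
      haveI : Etale (γ ≫ Limits.pullback.fst Z.hom (Ω.ι ≫ π)) := by
        rw [Limits.pullback.lift_fst]; infer_instance
      haveI : Etale γ := Etale.of_comp γ (Limits.pullback.fst Z.hom (Ω.ι ≫ π))
      rw [show g' = γ ≫ Limits.pullback.snd Z.hom (Ω.ι ≫ π) from (Limits.pullback.lift_snd _ _ _).symm]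
      infer_instance
    have hr : Set.range g ⊆ Set.range W.ι := by
      rw [Scheme.Opens.range_ι]
      rintro _ ⟨z, rfl⟩
      refine ⟨hgΩ z, fun hcl => ?_⟩
      obtain ⟨c, hc, hcz⟩ := exists_specializes_of_mem_closure hOo hFc hcl
      obtain ⟨z', hz', hgz'⟩ := Flat.generalizingMap g' (a := z)
        (show (⟨c, hc.1.1⟩ : Ω.toScheme) ⤳ g' z from Ω.ι.isOpenEmbedding.isInducing.specializes_iff.1 (by
          rw [← Scheme.Hom.comp_apply g' Ω.ι, hg']; exact hcz))
      have hgc : g z' = c := by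
        rw [← hg', Scheme.Hom.comp_apply, hgz']; rfl
      have hz'O : z' ∈ O₀ := by
        show Z.hom z' ∈ S₀
        rw [← hg, Scheme.Hom.comp_apply, hgc]; exact hc.1.2
      have hcW : c ∈ W := by
        rw [← hgc, show g z' = (O₀.ι ≫ g) ⟨z', hz'O⟩ from rfl, hga]
        exact (a₀ ⟨z', hz'O⟩).2
      exact hcW.2 (subset_closure hc)
    let G : Z ⟶ N := Over.homMk (IsOpenImmersion.lift W.ι g hr) (by
      show _ ≫ W.ι ≫ π = Z.hom
      rw [IsOpenImmersion.lift_fac_assoc, hg])
    refine ⟨G, Over.OverMorphism.ext ?_⟩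
    apply Limits.pullback.hom_ext
    · refine (hl G).trans ?_
      rw [← cancel_mono W.ι, ← cancel_epi (pullbackRestrictIsoRestrict Z.hom S₀).inv]
      simp only [Category.assoc]
      rw [← Category.assoc, ← hOι]
      show O₀.ι ≫ IsOpenImmersion.lift W.ι g hr ≫ W.ι = a
      rw [IsOpenImmersion.lift_fac, hga]
    · exact (Over.w ((Over.pullback S₀.ι).map G)).trans (Over.w ψ).symm

end Groth.Agent.S13429
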