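import Groth.Statements.S13432
import Groth.Agent.NeronMdl58.SmoothLocusNMP

set_option autoImplicit false
universe u
open CategoryTheory AlgebraicGeometry
open NeronHD

namespace Groth.Agent.S13432

/-- Let S be a normal Noetherian scheme over a field of characteristic 0 and S₀ ⊆ S a
scheme-theoretically dense open. Let π : T → S be finite with T normal, and let N ⊆ T be the open
subscheme where π is smooth (equivalently étale, π being finite). Then N → S has the Néron mapping
property for S₀ ⊆ S: for every smooth S-scheme Z, restriction to S₀ is a bijection from S-morphisms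
Z → N onto S₀-morphisms Z|S₀ → N|S₀. (In the published statement T is the normal finite S-scheme
compactifying a given quasi-projective étale S-scheme and N is the maximal quasi-projective étale
scheme containing it; that origin of T plays no role in this part of the proof, so any finite T → S
with T normal is allowed here. Case of schemes, with smooth test schemes, of a statement about
algebraic spaces.) -/
theorem result {k : Type u} [Field k] [CharZero k] {S : Scheme.{u}} (σ : S ⟶ Spec (CommRingCat.of k)) [IsNoetherian S] (hS : Pi1.IsNormalScheme S) (S₀ : S.Opens) (hS₀ : CInt.IsSchematicallyDense S₀)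
    {T : Scheme.{u}} (π : T ⟶ S) [IsFinite π] [LocallyOfFinitePresentation π] (hT : Pi1.IsNormalScheme T) :
    ∀ Z : Over S, Smooth Z.hom → Function.Bijective (fun g : Z ⟶ Over.mk (π.smoothLocus.ι ≫ π) => (Over.pullback S₀.ι).map g) := by
  intro Z hZs
  let N : Over S := Over.mk (π.smoothLocus.ι ≫ π)
  let O := Z.hom ⁻¹ᵁ S₀
  have hl : ∀ g : Z ⟶ N, ((Over.pullback S₀.ι).map g).left ≫ Limits.pullback.fst N.hom S₀.ι
      = Limits.pullback.fst Z.hom S₀.ι ≫ g.left := fun g => Limits.pullback.lift_fst _ _ _
  have hOι : O.ι = (pullbackRestrictIsoRestrict Z.hom S₀).inv ≫ Limits.pullback.fst Z.hom S₀.ι :=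
    (pullbackRestrictIsoRestrict_inv_fst Z.hom S₀).symm
  haveI : IsSeparated N.hom := inferInstanceAs (IsSeparated (π.smoothLocus.ι ≫ π))
  haveI : IsLocallyNoetherian Z.left := LocallyOfFiniteType.isLocallyNoetherian Z.hom
  refine ⟨fun g₁ g₂ heq => ?_, fun ψ => ?_⟩
  · apply Over.OverMorphism.ext
    refine SchDenseLib.hom_ext (SchDenseLib.preimage_of_isLocallyNoetherian Z.hom S₀ hS₀) N.hom _ _
      (by rw [Over.w, Over.w]) ?_
    show O.ι ≫ g₁.left = O.ι ≫ g₂.left
    rw [hOι, Category.assoc, Category.assoc, ← hl g₁, ← hl g₂]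
    exact congrArg (fun m => _ ≫ CommaMorphism.left m ≫ Limits.pullback.fst N.hom S₀.ι) heq
  · let a : O.toScheme ⟶ T := (pullbackRestrictIsoRestrict Z.hom S₀).inv ≫ ψ.left ≫
      Limits.pullback.fst N.hom S₀.ι ≫ π.smoothLocus.ι
    have hψ : ψ.left ≫ Limits.pullback.fst N.hom S₀.ι ≫ N.hom = Limits.pullback.fst Z.hom S₀.ι ≫ Z.hom := by
      rw [Limits.pullback.condition, Limits.pullback.condition]
      exact (Category.assoc _ _ _).symm.trans (congrArg (· ≫ S₀.ι) (Over.w ψ))
    have ha : a ≫ π = O.ι ≫ Z.hom := by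
      rw [hOι]
      simp only [a, Category.assoc]
      rw [← hψ]
      rfl
    have hZn := NeronMdl58.NormalImm.isNormalScheme_of_smooth Z.hom hS
    obtain ⟨g, hg, hga⟩ := NeronMdl58.SmoothLocusNMP.exists_extension π Z.hom hZn hS₀ a ha
    have hr : Set.range g ⊆ Set.range π.smoothLocus.ι := by
      rw [Scheme.Opens.range_ι]; rintro _ ⟨z, rfl⟩
      exact NeronMdl58.SmoothLocusNMP.mem_smoothLocus_of_hom π Z.hom hT hZn g hg z
    let G : Z ⟶ N := Over.homMk (IsOpenImmersion.lift π.smoothLocus.ι g hr) (by
      show _ ≫ π.smoothLocus.ι ≫ π = Z.hom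
      rw [IsOpenImmersion.lift_fac_assoc, hg])
    refine ⟨G, Over.OverMorphism.ext ?_⟩
    apply Limits.pullback.hom_ext
    · refine (hl G).trans ?_
      rw [← cancel_mono π.smoothLocus.ι, ← cancel_epi (pullbackRestrictIsoRestrict Z.hom S₀).inv]
      simp only [Category.assoc]
      rw [← Category.assoc, ← hOι]
      show O.ι ≫ IsOpenImmersion.lift π.smoothLocus.ι g hr ≫ π.smoothLocus.ι = a
      rw [IsOpenImmersion.lift_fac, hga]
    · exact (Over.w ((Over.pullback S₀.ι).map G)).trans (Over.w ψ).symm

end Groth.Agent.S13432
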