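import Groth.Statements.S1344
import Groth.Agent.CMOpen5.Affine
import Groth.Agent.FlatB12.QfDim
import Groth.Agent.DescLib.LocalDim
import Groth.Agent.CycLib.Flat
import Groth.Agent.AlgSpPts.Sep

set_option autoImplicit false
universe u
open FlatMor

namespace Groth.Agent.S1344

open AlgebraicGeometry CategoryTheory Limits in
/-- Let f be locally of finite type between locally Noetherian schemes and Cohen–Macaulay at every
point. Then for every point x of the source with image y, the local dimension of the source at x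
equals the local dimension of the target at y plus the local dimension at x of the fibre over y. -/
theorem result {X Y : Scheme.{u}} (f : X ⟶ Y) [IsLocallyNoetherian X] [IsLocallyNoetherian Y] [LocallyOfFiniteType f]
    (hf : ∀ x : X, MoreMor.IsCMAt f x) (x : X) :
    FlatMor.localDim ↑X x = FlatMor.localDim ↑Y (f x) + FlatMor.fibreDimAt f x := by
  haveI : Flat f := (Flat.iff_flat_stalkMap f).2 fun z => (hf z).1
  haveI : LocallyOfFinitePresentation f := LocallyOfFinitePresentation.iff_locallyOfFiniteType.2 ‹_›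
  obtain ⟨n, U₀, hx₀, g, hg, hqf, hflat⟩ := (CMOpen5.isCMAt_iff f x).1 (hf x)
  let π := 𝔸(ULift.{u} (Fin n); Y) ↘ Y
  haveI : LocallyOfFinitePresentation (g ≫ π) := by rw [hg]; infer_instance
  haveI : LocallyOfFiniteType g := locallyOfFiniteType_of_comp g π
  haveI := AlgSpPts.locallyOfFinitePresentation_of_comp g π
  let W : (U₀ : Scheme.{u}).Opens := ⟨_, FlatLocus.isOpen_flat_locus g⟩
  let U : X.Opens := U₀.ι ''ᵁ W
  have hx : x ∈ U := ⟨⟨x, hx₀⟩, hflat, rfl⟩
  have key : ∀ z ∈ U, FlatMor.fibreDimAt f z = ((n : ℕ∞) : WithBot ℕ∞) := by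
    rintro _ ⟨w, hw, rfl⟩
    show FlatMor.fibreDimAt f (U₀.ι w) = _
    rw [← FibDim.fibreDimAt_openImmersion_comp U₀.ι f w, ← hg]
    exact FlatB12.fibreDimAt_comp_affineSpace n g w hw
  have hrd : Cyc.HasRelDim (U.ι ≫ f) n := (CycLib.hasRelDim_iff _).2 fun z hz => by
    have h1 := FibDim.fibreDimAt_eq_rd (U.ι ≫ f) hz
    rw [FibDim.fibreDimAt_openImmersion_comp U.ι f z, key (U.ι z) z.2] at h1
    exact_mod_cast h1.symm
  have h := FibDim.localDim_eq_add (U.ι ≫ f) hrd ⟨x, hx⟩
  have hloc : FlatMor.localDim ↥(U : Scheme.{u}) ⟨x, hx⟩ = FlatMor.localDim ↥X x := DescLib.localDim_eq_of_etale U.ι ⟨x, hx⟩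
  rw [key x hx, ← hloc]
  exact h

end Groth.Agent.S1344
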