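import Groth.Statements.S13459
import Groth.Agent.SurfInt.Positive

set_option autoImplicit false
set_option linter.style.haveILetI false
set_option linter.unusedSectionVars false
set_option backward.isDefEq.respectTransparency false
set_option backward.isDefEq.respectTransparency.types false
universe u
open CategoryTheory CategoryTheory.Limits AlgebraicGeometry
open Surf

namespace Groth.Agent.S13459

/-- Let k be a field and S an integral surface (dimension two) which is smooth over k and projective (a
closed immersion into some P^n_k over k). Let i : C → S be the closed immersion of an integral curve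
(dimension one) all of whose local rings are regular, with ideal sheaf I ⊆ O_S, and let L be an
invertible O_S-module with an inverse L' (L ⊗ L' ≅ O_S). Then the intersection number of O_S(C) with
L, namely the alternating sum χ(O_S) − χ(I) − χ(L') + χ(I ⊗ L') formed with the inverses I = O_S(−C)
and L' (packaged as FGA.intNum), equals the degree of the restriction of L to C, the degree of a
module M on C being χ(M) − χ(O_C). -/
theorem result (k : Type u) [Field k] (S : Scheme.{u}) [S.Over (Spec (CommRingCat.of k))]
    [IsIntegral S] (hdim : topologicalKrullDim S = 2) [Smooth (S ↘ (Spec (CommRingCat.of k)))]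
    (hproj : ∃ (n : ℕ) (ι : S ⟶ CohB1.ProjSpace n k), IsClosedImmersion ι ∧ ι ≫ CohB1.ProjSpace.toSpec n k = (S ↘ (Spec (CommRingCat.of k))))
    (C : Scheme.{u}) (i : C ⟶ S) [IsClosedImmersion i] [IsIntegral C] (hC : topologicalKrullDim C = 1)
    (hCreg : ∀ c : C, IsRegularLocalRing (C.presheaf.stalk c))
    (L L' : S.Modules) (hL : PicF.IsInvertible L) (hLL' : Nonempty (CohB1.tensorMod L L' ≅ Coh.structureModule S)) :
    letI : C.Over (Spec (CommRingCat.of k)) := ⟨i ≫ (S ↘ (Spec (CommRingCat.of k)))⟩
    FGA.intNum k S 2 ![ClSub.idealMod i.ker, L'] (Coh.structureModule S) =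
      Curv2.deg k C ((Scheme.Modules.pullback i).obj L) 1 := by
  letI := Groth.Agent.SurfInt.overComp k i
  haveI := Groth.Agent.SurfInt.isProper_of_proj k hproj
  haveI := Groth.Agent.SurfInt.noeth k (X := S)
  have hreg : ∀ x : S, IsRegularLocalRing (S.presheaf.stalk x) := Groth.Agent.SurfInt.isRegular_of_smooth k
  obtain ⟨e, he⟩ := Groth.Agent.SurfInt.exists_iso_subscheme i
  haveI : IsIntegral i.ker.subscheme := IsIntegral.of_isIso e.hom
  have hdimC : topologicalKrullDim (i.ker.support : Set S) = 1 := by
    rw [← Groth.Agent.SurfInt.dim_subscheme i.ker, ← hC]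
    exact (IsHomeomorph.topologicalKrullDim_eq _ (Scheme.homeoOfIso e).isHomeomorph).symm
  have hI := Groth.Agent.SurfInt.isInvertible_curve k hdim hreg i.ker hdimC
  obtain ⟨D, hD, hLD⟩ := Groth.Agent.H23.PicInv.exists_inverse hL
  have hL' : PicF.IsInvertible L' := by
    open scoped Groth.Agent.H23.PicMul in
    refine Groth.Agent.H23.PicMul.isInvertible_of_iso ((PicGrp.cl_eq_cl_iff D L').1 ?_).some hD
    refine (Groth.Agent.H23.PicMul.isUnit_cl hL).mul_left_cancel ?_
    exact ((PicGrp.cl_eq_cl_iff _ _).2 hLD).trans ((PicGrp.cl_eq_cl_iff _ _).2 hLL').symm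
  show Groth.Agent.SurfInt.dot k (ClSub.idealMod i.ker) L' = _
  have hinv := Groth.Agent.SurfInt.degOn_inv k (Groth.Agent.SurfInt.isCoh_quotMod k i.ker)
    (Groth.Agent.SurfInt.dim_support_quot_curve hdimC) hL hL' hLL'
  rw [Groth.Agent.SurfInt.dot_ideal_left k hdim.le i.ker hI hL', hinv, neg_neg,
    Groth.Agent.SurfInt.degOn_quot_ker k i rfl hL]

end Groth.Agent.S13459
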