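import Groth.Statements.S13465
import Groth.Agent.GmDual77.GaDual

set_option autoImplicit false
universe u
open GaDual

namespace Groth.Agent.S13465

open CategoryTheory AlgebraicGeometry in
/-- For a scheme X over the prime field with p elements (p = 0 in the global sections of X), the
canonical map from the additive group to its double dual, as abelian sheaves on the big fppf site of
X with the dual taken as internal Hom into the multiplicative group, is an isomorphism. (The
published statement also covers schemes over the rationals; that case is a separate row.) -/
theorem result (X : Scheme.{u}) (p : ℕ) [Fact p.Prime]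
    (hp : (p : Γ(X, ⊤)) = 0) :
    IsIso (CGrpSh2.toDoubleDual Scheme.fppfPrecoverage (CGrpSh2.Ga Scheme.fppfPrecoverage X)) := by
  refine Groth.Agent.GmDual77.GaDual.isIso_toDoubleDual fun T hT => ?_
  have hT' : (p : Γ(T.left, ⊤)) = 0 := by
    rw [← map_natCast T.hom.appTop.hom, hp, map_zero]
  exact ⟨Groth.Agent.GmDual77.GaAlg.hasBidual_prime p hT', Groth.Agent.GmDual77.GaAlg.separating_prime p hT'⟩

end Groth.Agent.S13465
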