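import Groth.Statements.S13466
import Groth.Agent.GmDual77.GaDual

set_option autoImplicit false
universe u
open GaDual

namespace Groth.Agent.S13466

open CategoryTheory AlgebraicGeometry in
/-- For a scheme X over the rationals (every positive integer invertible in the global sections of X),
the canonical map from the additive group to its double dual, as abelian sheaves on the big fppf
site of X with the dual taken as internal Hom into the multiplicative group, is an isomorphism. (The
published statement also covers schemes over a prime field; that case is a separate row.) -/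
theorem result (X : Scheme.{u})
    (hQ : ∀ n : ℕ, 0 < n → IsUnit ((n : Γ(X, ⊤)))) :
    IsIso (CGrpSh2.toDoubleDual Scheme.fppfPrecoverage (CGrpSh2.Ga Scheme.fppfPrecoverage X)) := by
  refine Groth.Agent.GmDual77.GaDual.isIso_toDoubleDual fun T hT => ?_
  have hu : ∀ n : ℕ, 0 < n → IsUnit (n : Γ(T.left, ⊤)) := fun n hn => by
    rw [← map_natCast T.hom.appTop.hom]
    exact (hQ n hn).map _
  let A := Γ(T.left, ⊤)
  have hinj : ∀ q : nonZeroDivisors ℤ, IsUnit (algebraMap ℤ A q) := fun q => by
    have h0 := hu _ (Int.natAbs_pos.2 (nonZeroDivisors.coe_ne_zero q))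
    rcases Int.natAbs_eq (q : ℤ) with h | h <;> rw [h]
    · rw [map_natCast]; exact h0
    · rw [map_neg, map_natCast]; exact h0.neg
  let i : ℚ →+* A := IsLocalization.lift (M := nonZeroDivisors ℤ) (S := ℚ) hinj
  letI : Algebra ℚ A := i.toAlgebra
  exact ⟨Groth.Agent.GmDual77.GaAlg.hasBidual_rat, Groth.Agent.GmDual77.GaAlg.separating_rat⟩

end Groth.Agent.S13466
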