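import Groth.Statements.S13499
import Groth.Agent.GalEt.ConstSeq
import Groth.Agent.GalEt.Killed
import Groth.Agent.GalEt.Multiplication
import Groth.Agent.Adeq2Lib.ZarCompare

set_option autoImplicit false
universe u
open CategoryTheory CategoryTheory.Limits AlgebraicGeometry Opposite
open GalCoh

namespace Groth.Agent.S13499

/-- For a field k and i ≥ 2 there is an isomorphism between H^i(Spec k, Z) and H^{i-1}(Spec k, Q/Z),
étale cohomology of Spec k with coefficients in the constant sheaves Z and Q/Z (existence of an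
additive isomorphism only; the published statement is for an arbitrary profinite group with trivial
action and identifies the two groups through the boundary map of 0 → Z → Q → Q/Z → 0). -/
theorem result (k : Type u) [Field k] (i : ℕ) (hi : 2 ≤ i) :
    Nonempty (EtCoh.H (Spec (CommRingCat.of k)) (EtCoh.const (Spec (CommRingCat.of k)) ℤ) i ≃+
      EtCoh.H (Spec (CommRingCat.of k))
        (EtCoh.const (Spec (CommRingCat.of k)) (ℚ ⧸ AddSubgroup.zmultiples (1 : ℚ))) (i - 1)) := by
  obtain ⟨n, rfl⟩ : ∃ n, i = n + 1 + 1 := ⟨i - 2, by omega⟩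
  have hS := GalEt.shortExact_constF (Spec (CommRingCat.of k)) GalEt.intRatSeq_shortExact
  have hQ : ∀ j : ℕ, Subsingleton (EtCoh.H (Spec (CommRingCat.of k))
      (EtCoh.const (Spec (CommRingCat.of k)) ℚ) (j + 1)) := fun j =>
    subsingleton_of_forall_eq 0 fun x => by
      obtain ⟨m, hm, hx⟩ := isOfFinAddOrder_iff_nsmul_eq_zero.1 (GalEt.isOfFinAddOrder_H k _ j x)
      exact GalEt.eq_zero_of_isIso_nsmul (GalEt.isIso_nsmul_const_rat _ hm) hx
  haveI : Subsingleton (Sheaf.H (GalEt.intRatSeq.map (GalEt.constF (Spec (CommRingCat.of k)))).X₂ (n + 1)) := hQ n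
  haveI : Subsingleton (Sheaf.H (GalEt.intRatSeq.map (GalEt.constF (Spec (CommRingCat.of k)))).X₂ (n + 1 + 1)) :=
    hQ (n + 1)
  obtain ⟨e⟩ := Adeq2Lib.ZarCmp.shift _ hS n
  exact ⟨e.symm⟩

end Groth.Agent.S13499
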