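import Groth.Statements.S13501
import Groth.Agent.EtPBC63.ConstrColim
-- import your own Groth.Agent.* helpers here

set_option autoImplicit false
universe u
open CategoryTheory CategoryTheory.Limits AlgebraicGeometry Opposite
open EtPBC

namespace Groth.Agent.S13501

/-- Let X be a quasi-compact and quasi-separated scheme and F a torsion abelian sheaf on X_et. If Hom(F,
-) commutes with filtered colimits (of shape any small filtered category in the universe of the
sheaf category's morphisms), then F is constructible. This is the converse of the compactness of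
constructible sheaves. -/
theorem result (X : Scheme.{u}) [CompactSpace X]
    [QuasiSeparatedSpace X] (F : EtCoh.Ab X) (hF : EtCoh.IsTorsion F)
    (hc : ∀ (J : Type (u + 1)) [SmallCategory J] [IsFiltered J],
      PreservesColimitsOfShape J (coyoneda.obj (op F))) :
    EtPBC.IsConstructible F := by
  obtain ⟨J, _, _, D, c, hc', ⟨e⟩, hD⟩ := EtPBC63.exists_colimit_constructible F hF
  haveI := hc J
  obtain ⟨j, b, hb⟩ := Types.jointly_surjective _ (isColimitOfPreserves (coyoneda.obj (op F)) hc') e.inv
  change b ≫ c.ι.app j = e.inv at hb
  let p := c.ι.app j ≫ e.hom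
  have hbp : b ≫ p = 𝟙 F := by rw [reassoc_of% hb, Iso.inv_hom_id]
  refine EtFound.isConstructible_of_iso ?_ (EtFound.isConstructible_cokernel (𝟙 (D.obj j) - p ≫ b) (hD j) (hD j))
  have h0 : (𝟙 (D.obj j) - p ≫ b) ≫ p = 0 := by
    rw [Preadditive.sub_comp, Category.id_comp, Category.assoc, hbp, Category.comp_id, sub_self]
  exact
    { hom := cokernel.desc _ p h0
      inv := b ≫ cokernel.π _
      hom_inv_id := by
        rw [← cancel_epi (cokernel.π _), cokernel.π_desc_assoc, Category.comp_id]
        have := cokernel.condition (𝟙 (D.obj j) - p ≫ b)
        rw [Preadditive.sub_comp, Category.id_comp, sub_eq_zero, Category.assoc] at this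
        exact this.symm
      inv_hom_id := by rw [Category.assoc, cokernel.π_desc, hbp] }

end Groth.Agent.S13501
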