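import Groth.Statements.S13602
import Groth.Agent.SymProdLib.Quot

set_option autoImplicit false
universe u
open CategoryTheory CategoryTheory.Limits AlgebraicGeometry
open SymProd

namespace Groth.Agent.S13602

/-- Let f : X ⟶ S be a morphism of schemes satisfying (AF): every finite set of points of X over a
single point of S lies in an affine open of X. Then for every d ≥ 0 and every point x of the d-fold
fibre power X ×_S ⋯ ×_S X, some affine open of the fibre power contains the whole orbit of x under
the symmetric group on d letters permuting the factors. (With the existence of a quotient by a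
finite group whose orbits lie in affine opens, this is the existence of the symmetric power
Sym^d(X/S) for X/S satisfying (AF).) -/
theorem result {X S : Scheme.{u}} (f : X ⟶ S) (hAF : SymProd.IsAF f)
    (d : ℕ) (x : ↥(SymProd.fibPow f d)) :
    ∃ U : (SymProd.fibPow f d).Opens, IsAffineOpen U ∧
      ∀ σ : Equiv.Perm (Fin d), (SymProd.permHom f d σ).base x ∈ U := by
  obtain ⟨V, hV, hs, -⟩ := exists_isAffineOpen_mem_and_subset
    (x := (WidePullback.base fun _ : Fin d => f).base x) (U := ⊤) trivial
  obtain ⟨U, hU, hUV, hxU⟩ := SymProdLib.exists_affine_containing hAF hs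
    (fun i => (WidePullback.π (fun _ : Fin d => f) i).base x) (fun i => SymProdLib.f_π_apply i x)
  refine ⟨SymProdLib.box f d V U, SymProdLib.isAffineOpen_box hUV hV hU, fun σ => ?_⟩
  have hx : x ∈ SymProdLib.box f d V U := SymProdLib.mem_box.2 ⟨hs, hxU⟩
  rw [← SymProdLib.permHom_preimage_box σ] at hx
  exact hx

end Groth.Agent.S13602
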