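import Groth.Statements.S13610
import Groth.Agent.EtModLC71.Special

set_option autoImplicit false
open CategoryTheory CategoryTheory.Limits AlgebraicGeometry Opposite
universe u
open EtModW

namespace Groth.Agent.S13610

/-- On a connected Noetherian scheme X, with Λ a Noetherian coefficient ring, consider an inverse system
(F_n) of sheaves of Λ-modules on the small etale site of X all of whose members are finite-type
locally constant (etale-locally constant with finitely generated value). Then, for every pair of
geometric points s, s' of X, the two inverse systems of stalks (F_n,s)_n and (F_n,s')_n are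
isomorphic as ℕ-indexed systems of Λ-modules. (Existence of an isomorphism of systems only; in the
published statement the isomorphisms are composites of specialization maps and their inverses.) -/
theorem result
    (Λ : Type (u + 1)) [CommRing Λ] [IsNoetherianRing Λ]
    (X : Scheme.{u}) [IsNoetherian X] [ConnectedSpace X]
    (F : ℕᵒᵖ ⥤ EtModW.Mod Λ X) (hF : ∀ n : ℕ, EtModW.IsFTLocConst Λ (F.obj (op n)))
    {Ω : Type u} [Field Ω] [IsSepClosed Ω] (s : Spec (CommRingCat.of Ω) ⟶ X)
    {Ω' : Type u} [Field Ω'] [IsSepClosed Ω'] (s' : Spec (CommRingCat.of Ω') ⟶ X) :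
    Nonempty ((F ⋙ EtModW.stalk Λ s) ≅ (F ⋙ EtModW.stalk Λ s')) := by
  have hF' : ∀ c, EtModW.IsFTLocConst Λ (F.obj c) := fun c => hF c.unop
  choose K iK iK' pt hpt using fun x : X => EtModLC71.exists_point x
  let S : Set X := {x | Nonempty ((F ⋙ EtModW.stalk Λ s) ≅ (F ⋙ EtModW.stalk Λ (pt x)))}
  have hS : S = Set.univ := by
    refine EtModLC71.eq_univ_of_stable S ⟨s.base (default : Spec (CommRingCat.of Ω)),
      EtModLC71.nonempty_iso_of_specializes F hF' s (pt _) (specializes_of_eq (hpt _))⟩ fun x y hxy => ?_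
    obtain ⟨e⟩ := EtModLC71.nonempty_iso_of_specializes F hF' (pt y) (pt x)
      ((specializes_of_eq (hpt x)).trans (hxy.trans (specializes_of_eq (hpt y).symm)))
    exact ⟨fun ⟨a⟩ => ⟨a ≪≫ e.symm⟩, fun ⟨a⟩ => ⟨a ≪≫ e⟩⟩
  obtain ⟨a⟩ : s'.base (default : Spec (CommRingCat.of Ω')) ∈ S := hS ▸ Set.mem_univ _
  obtain ⟨b⟩ := EtModLC71.nonempty_iso_of_specializes F hF' s' (pt _) (specializes_of_eq (hpt _))
  exact ⟨a ≪≫ b.symm⟩

end Groth.Agent.S13610
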