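import Groth.Statements.S13620
import Groth.Agent.EtModLC71.AR

set_option autoImplicit false
open CategoryTheory CategoryTheory.Limits AlgebraicGeometry Opposite
universe u
open EtModW

namespace Groth.Agent.S13620

/-- For a Noetherian scheme X, a Noetherian coefficient ring Λ and an ideal I of Λ, let F = (F_n) be an
inverse system of sheaves of Λ-modules on the small etale site of X which is AR I-adic (I^(n+1) F_n
= 0 for all n, and F receives a morphism with kernel and cokernel null up to translation from an
I-adic system of constructible sheaves). Then F is null up to translation if and only if for every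
geometric point x of X the limit of the stalk system, lim_n F_n,x, is the zero module. (The
published lemma assumes Λ I-adically complete, which only its first assertion uses; this row states
the second assertion without it.) -/
theorem result
    (Λ : Type (u + 1)) [CommRing Λ] [IsNoetherianRing Λ] (I : Ideal Λ)
    {X : Scheme.{u}} [IsNoetherian X]
    (F : ARSys.PS (EtModW.Mod Λ X))
    (hF : (ARSys.TermKilled I F ∧ ∃ (Y : ARSys.PS (EtModW.Mod Λ X)) (v : Y ⟶ F), ARSys.IsAdic I Y ∧ (∀ n : ℕ, EtModW.IsConstructible Λ (Y.obj (op n))) ∧ ARSys.IsARIso v)) :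
    ARSys.IsARNull F ↔
      ∀ (Ω : Type u) [Field Ω] [IsSepClosed Ω] (x : Spec (CommRingCat.of Ω) ⟶ X),
        IsZero (limit (F ⋙ EtModW.stalk Λ x)) := by
  refine ⟨fun h Ω _ _ x => EtModLC71.isZero_limit_of_isARNull ?_, fun h => ?_⟩
  · obtain ⟨r, hr⟩ := h
    exact ⟨r, fun n => (congrArg (EtModW.stalk Λ x).map (hr n)).trans (Functor.map_zero _ _ _)⟩
  · obtain ⟨hk, Y, v, hY, -, hv⟩ := hF
    refine EtModLC71.isARNull_of_isARIso hv fun n => (EtModLC71.isZero_iff_stalks _).2 fun Ω _ _ x => ?_
    have : IsIso (limMap (Functor.whiskerRight v (EtModW.stalk Λ x))) :=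
      ARLib.isIso_limMap _ _ (EtModLC71.isARIso_map _ hv)
    have hl : IsZero (limit (Y ⋙ EtModW.stalk Λ x)) :=
      (h Ω x).of_iso (asIso (limMap (Functor.whiskerRight v (EtModW.stalk Λ x))))
    refine EtModLC71.isZero_of_isZero_limit (fun a b hab => ?_) hl n
    have := ARLib.IsQuot.epi (hY.2 a b hab)
    exact (ModuleCat.epi_iff_surjective _).1 (inferInstanceAs (Epi ((EtModW.stalk Λ x).map (ARSys.tr Y hab))))

end Groth.Agent.S13620
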