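import Groth.Statements.S13623
import Mathlib
-- import your own Groth.Agent.* helpers here

set_option autoImplicit false
universe u
open TensorProduct
open CAlg

namespace Groth.Agent.S13623

set_option synthInstance.maxHeartbeats 200000 in
set_option maxHeartbeats 1000000 in
/-- Let A be a commutative ring and B a commutative A-algebra, graded by A-submodules B_m (m ≥ 0)
forming a graded-algebra structure, such that every B_m is a finitely generated A-module. If for
every algebraically closed field k and every A-algebra structure on k the k-algebra k ⊗_A B is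
generated by the image of B_1 under b ↦ 1 ⊗ b, then its degree-one part B_1 generates the A-algebra
B. (Algebraically closed fields are taken in the universe of A.) -/
theorem result
    (A : Type u) [CommRing A] (B : Type u) [CommRing B] [Algebra A B]
    (𝒜 : ℕ → Submodule A B) [GradedAlgebra 𝒜]
    (hfin : ∀ m : ℕ, Module.Finite A (𝒜 m))
    (hgen : ∀ (k : Type u) [Field k] [IsAlgClosed k] [Algebra A k],
      Algebra.adjoin k ((Algebra.TensorProduct.includeRight : B →ₐ[A] k ⊗[A] B) '' (𝒜 1 : Set B)) = ⊤) :
    Algebra.adjoin A (𝒜 1 : Set B) = ⊤ := by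
  classical
  set C := Algebra.adjoin A (𝒜 1 : Set B) with hC
  have hproj : ∀ c ∈ C, ∀ m, (DirectSum.decompose 𝒜 c m : B) ∈ C := by
    intro c hc
    induction hc using Algebra.adjoin_induction with
    | mem x hx =>
      intro m
      rcases eq_or_ne 1 m with rfl | h
      · rw [DirectSum.decompose_of_mem_same 𝒜 hx]; exact Algebra.subset_adjoin hx
      · rw [DirectSum.decompose_of_mem_ne 𝒜 hx h]; exact zero_mem _
    | algebraMap r =>
      intro m
      have hr : algebraMap A B r ∈ 𝒜 0 := SetLike.algebraMap_mem_graded 𝒜 r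
      rcases eq_or_ne 0 m with rfl | h
      · rw [DirectSum.decompose_of_mem_same 𝒜 hr]; exact C.algebraMap_mem r
      · rw [DirectSum.decompose_of_mem_ne 𝒜 hr h]; exact zero_mem _
    | add x y _ _ hx hy =>
      intro m
      rw [DirectSum.decompose_add, DirectSum.add_apply, AddMemClass.coe_add]
      exact add_mem (hx m) (hy m)
    | mul x y _ _ hx hy =>
      intro m
      rw [DirectSum.decompose_mul, DirectSum.coe_mul_apply]
      exact sum_mem fun ij _ => mul_mem (hx _) (hy _)
  have key : ∀ m, ∀ b ∈ 𝒜 m, b ∈ C := by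
    intro m
    let N : Submodule A (𝒜 m) := (Subalgebra.toSubmodule C).comap (𝒜 m).subtype
    let π : B →ₗ[A] (𝒜 m ⧸ N) :=
      N.mkQ.comp ((DirectSum.component A ℕ (fun i => 𝒜 i) m).comp (DirectSum.decomposeLinearEquiv 𝒜).toLinearMap)
    have hπ : Function.Surjective π := fun z => by
      obtain ⟨⟨b, hb⟩, rfl⟩ := N.mkQ_surjective z
      exact ⟨b, congrArg N.mkQ (Subtype.ext (DirectSum.decompose_of_mem_same 𝒜 hb))⟩
    haveI := hfin m
    have hQ : Subsingleton (𝒜 m ⧸ N) := by
      refine subsingleton_of_forall_eq 0 fun c => ?_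
      by_contra hc
      obtain ⟨M, hM, hcM⟩ := Ideal.exists_le_maximal (Ideal.torsionOf A (𝒜 m ⧸ N) c)
        (fun h => hc ((Ideal.torsionOf_eq_top_iff A c).mp h))
      haveI hk : Subsingleton ((AlgebraicClosure M.ResidueField) ⊗[A] (𝒜 m ⧸ N)) := by
        let θ : (AlgebraicClosure M.ResidueField) ⊗[A] C →ₐ[(AlgebraicClosure M.ResidueField)] (AlgebraicClosure M.ResidueField) ⊗[A] B := Algebra.TensorProduct.map (AlgHom.id (AlgebraicClosure M.ResidueField) (AlgebraicClosure M.ResidueField)) C.val
        have hθ : ∀ y, y ∈ θ.range := fun y => by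
          have hle : Algebra.adjoin (AlgebraicClosure M.ResidueField) ((Algebra.TensorProduct.includeRight : B →ₐ[A] (AlgebraicClosure M.ResidueField) ⊗[A] B) '' (𝒜 1 : Set B)) ≤ θ.range := by
            rw [Algebra.adjoin_le_iff]
            rintro _ ⟨b, hb, rfl⟩
            exact ⟨1 ⊗ₜ[A] ⟨b, Algebra.subset_adjoin hb⟩, rfl⟩
          exact hle (by rw [hgen (AlgebraicClosure M.ResidueField)]; trivial)
        refine subsingleton_of_forall_eq 0 fun z => ?_
        obtain ⟨y, rfl⟩ := LinearMap.lTensor_surjective (AlgebraicClosure M.ResidueField) hπ z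
        obtain ⟨w, rfl⟩ := hθ y
        induction w using TensorProduct.induction_on with
        | zero => simp
        | add a b ha hb =>
          show LinearMap.lTensor (AlgebraicClosure M.ResidueField) π (θ (a + b)) = 0
          rw [map_add, map_add]; exact (congrArg₂ (· + ·) ha hb).trans (add_zero 0)
        | tmul r c =>
          show r ⊗ₜ[A] π (c : B) = 0
          rw [show π (c : B) = 0 from (Submodule.Quotient.mk_eq_zero N).mpr (hproj c c.2 m), TensorProduct.tmul_zero]
      haveI h1 : Subsingleton (M.ResidueField ⊗[A] (𝒜 m ⧸ N)) := by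
        haveI : Subsingleton ((AlgebraicClosure M.ResidueField) ⊗[M.ResidueField] (M.ResidueField ⊗[A] (𝒜 m ⧸ N))) :=
          (TensorProduct.AlgebraTensorModule.cancelBaseChange A M.ResidueField (AlgebraicClosure M.ResidueField) (AlgebraicClosure M.ResidueField) (𝒜 m ⧸ N)).toEquiv.subsingleton
        haveI : Module.Free M.ResidueField (AlgebraicClosure M.ResidueField) := Module.Free.of_divisionRing _ _
        exact (Module.FaithfullyFlat.subsingleton_tensorProduct_iff_right M.ResidueField (AlgebraicClosure M.ResidueField)).mp inferInstance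
      haveI h2 : Subsingleton (IsLocalRing.ResidueField (Localization.AtPrime M) ⊗[Localization.AtPrime M]
          (Localization.AtPrime M ⊗[A] (𝒜 m ⧸ N))) :=
        (TensorProduct.AlgebraTensorModule.cancelBaseChange A (Localization.AtPrime M) (Localization.AtPrime M)
          (IsLocalRing.ResidueField (Localization.AtPrime M)) (𝒜 m ⧸ N)).toEquiv.subsingleton
      haveI : Subsingleton (Localization.AtPrime M ⊗[A] (𝒜 m ⧸ N)) := IsLocalRing.subsingleton_tensorProduct.mp h2
      obtain ⟨⟨s, hs⟩, hs'⟩ :=
        (IsLocalizedModule.eq_zero_iff M.primeCompl (TensorProduct.mk A (Localization.AtPrime M) (𝒜 m ⧸ N) 1)).mp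
          (Subsingleton.elim _ 0)
      exact hs (hcM ((Ideal.mem_torsionOf_iff _ _).mpr hs'))
    intro b hb
    exact (Submodule.Quotient.mk_eq_zero N).mp (Subsingleton.elim (Submodule.Quotient.mk ⟨b, hb⟩) 0)
  refine eq_top_iff.mpr fun b _ => ?_
  rw [← DirectSum.sum_support_decompose 𝒜 b]
  exact sum_mem fun i _ => key i _ (SetLike.coe_mem _)

end Groth.Agent.S13623
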