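import Groth.Statements.S1363
import Groth.Agent.CStk17.GeomConn.Constr
import Groth.Agent.CStk17.GeomConn.Lsc
import Groth.Agent.CStk17.GeomConn.Main
import Groth.Agent.FibDim.Comp

set_option autoImplicit false
universe u
open FlatMor

namespace Groth.Agent.S1363

set_option backward.isDefEq.respectTransparency false
set_option backward.isDefEq.respectTransparency.types false

open AlgebraicGeometry CategoryTheory Limits in
/-- For a flat proper morphism of finite presentation, the function on the target counting the connected
components of the geometric fibres is lower semicontinuous. -/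
theorem result {X S : Scheme.{u}} (f : X ⟶ S) [IsProper f] [Flat f] [LocallyOfFinitePresentation f] :
    LowerSemicontinuous (fun s : ↑S => MoreMor.nGeomConnComp f s) := by
  intro s c hc
  obtain ⟨A, _, j, _, a, rfl, A₀, _, X₀, f₀, g, hp, hfl, h6⟩ := Groth.Agent.CStk17.GeomConn.exists_chart_model f s
  haveI := hp
  haveI := hfl
  let b := Spec.map (CommRingCat.ofHom (algebraMap A₀ A))
  have e : ∀ x, MoreMor.nGeomConnComp f (j x) = MoreMor.nGeomConnComp f₀ (b x) := fun x =>
    ((Groth.Agent.Triage.GeomCount.nGeom_baseChange f (pullback.snd f j) _ j (IsPullback.of_hasPullback f j) x).2).symm.trans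
      (Groth.Agent.Triage.GeomCount.nGeom_baseChange f₀ (pullback.snd f j) g b h6 x).2
  have hmem : {z | c < MoreMor.nGeomConnComp f₀ z} ∈ nhds (b a) := by
    refine Groth.Agent.FibDim.mem_nhds_of_generizations
      (Groth.Agent.CStk17.GeomConn.isLocallyConstructible_nGeom f₀ (fun m => c < m)) fun z hz => ?_
    show c < MoreMor.nGeomConnComp f₀ z
    have h0 : c < MoreMor.nGeomConnComp f₀ (b a) := e a ▸ hc
    exact lt_of_lt_of_le h0 (Groth.Agent.CStk17.GeomConn.nGeom_le_of_specializes f₀ hz)
  refine Filter.mem_of_superset
    (j.isOpenEmbedding.isOpenMap.image_mem_nhds (b.continuous.continuousAt.preimage_mem_nhds hmem)) ?_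
  rintro _ ⟨x, hx, rfl⟩
  show c < MoreMor.nGeomConnComp f (j x)
  rw [e]
  exact hx

end Groth.Agent.S1363
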