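import Groth.Statements.S13632
import Mathlib
-- import your own Groth.Agent.* helpers here

set_option autoImplicit false
universe u
open TensorProduct
open CAlg

namespace Groth.Agent.S13632

section
open TensorProduct
variable {R A B : Type u} [CommRing R] [CommRing A] [CommRing B] [Algebra R A] [Algebra R B]

lemma kills_of_bij [Module.Flat R A] (f : B →ₐ[R] A) (hf : Function.Surjective f) (κ : Type u) [CommRing κ] [Algebra R κ]
    (hκ : Function.Injective (f.toLinearMap.lTensor κ)) :
    Subsingleton (κ ⊗[R] LinearMap.ker f.toLinearMap) := by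
  refine subsingleton_of_forall_eq 0 fun x => ?_
  refine LinearMap.lTensor_injective_of_exact_of_flat f.toLinearMap hf _ (Submodule.injective_subtype _)
    (LinearMap.exact_subtype_ker_map _) κ ?_
  rw [map_zero]
  apply hκ
  rw [map_zero, ← LinearMap.lTensor_comp_apply,
    show f.toLinearMap.comp (LinearMap.ker f.toLinearMap).subtype = 0 from LinearMap.ext fun k => k.2, LinearMap.lTensor_zero]
  rfl

set_option maxHeartbeats 1000000 in
lemma one_tmul_eq_zero [Module.Finite R A] [Module.Flat R A] [Algebra.FiniteType R B] (f : B →ₐ[R] A)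
    (hf : Function.Surjective f)
    (hfib : ∀ p : PrimeSpectrum R, Function.Injective (f.toLinearMap.lTensor p.asIdeal.ResidueField))
    (Rm : Type u) [CommRing Rm] [Algebra R Rm] [IsLocalRing Rm] (x : B) (hx : f x = 0) :
    (1 : Rm) ⊗ₜ[R] x = 0 := by
  classical
  let fm : (Rm ⊗[R] B) →ₐ[Rm] Rm ⊗[R] A := Algebra.TensorProduct.map (AlgHom.id Rm Rm) f
  have hfm : Function.Surjective fm := LinearMap.lTensor_surjective Rm hf
  haveI : Module.Free Rm (Rm ⊗[R] A) := Module.free_of_flat_of_isLocalRing
  haveI : Module.FinitePresentation Rm (Rm ⊗[R] A) := Module.finitePresentation_of_projective Rm (Rm ⊗[R] A)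
  haveI : Algebra.FinitePresentation Rm (Rm ⊗[R] A) := inferInstance
  have hfg : (RingHom.ker fm.toRingHom).FG := by
    obtain ⟨k, g, hg⟩ := Algebra.FiniteType.iff_quotient_mvPolynomial''.mp (inferInstance : Algebra.FiniteType Rm (Rm ⊗[R] B))
    haveI : Algebra.FinitePresentation Rm (MvPolynomial (Fin k) Rm) := inferInstance
    have h := (Algebra.FinitePresentation.ker_fG_of_surjective (fm.comp g) (hfm.comp hg)).map g.toRingHom
    rwa [show RingHom.ker (fm.comp g).toRingHom = (RingHom.ker fm.toRingHom).comap g.toRingHom from rfl,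
      Ideal.map_comap_of_surjective g.toRingHom hg] at h
  set Km := RingHom.ker fm.toRingHom
  have hKm : ∀ y ∈ Km, y ∈ Submodule.span (Rm ⊗[R] B) (Set.range fun k : LinearMap.ker f.toLinearMap => (1 : Rm) ⊗ₜ[R] (k : B)) := by
    intro y hy
    obtain ⟨z, rfl⟩ := ((lTensor_exact Rm (LinearMap.exact_subtype_ker_map f.toLinearMap) hf) y).mp hy
    clear hy
    induction z using TensorProduct.induction_on with
    | zero => simp
    | tmul r k =>
      rw [LinearMap.lTensor_tmul, Submodule.subtype_apply, show r ⊗ₜ[R] (k : B) = (r ⊗ₜ[R] (1 : B)) • ((1 : Rm) ⊗ₜ[R] (k : B)) by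
        rw [smul_eq_mul, Algebra.TensorProduct.tmul_mul_tmul, mul_one, one_mul]]
      exact Submodule.smul_mem _ _ (Submodule.subset_span ⟨k, rfl⟩)
    | add a b ha hb => rw [map_add]; exact add_mem ha hb
  have hloc : ∀ (q : Ideal (Rm ⊗[R] B)) [q.IsPrime], Km.map (algebraMap (Rm ⊗[R] B) (Localization.AtPrime q)) = ⊥ := by
    intro q _
    let p : PrimeSpectrum R := PrimeSpectrum.comap (algebraMap R (Rm ⊗[R] B)) ⟨q, inferInstance⟩
    let I := Km.map (algebraMap (Rm ⊗[R] B) (Localization.AtPrime q))
    haveI : Module.Finite (Localization.AtPrime q) I := Module.Finite.iff_fg.mpr (hfg.map _)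
    haveI hsub : Subsingleton (p.asIdeal.ResidueField ⊗[R] LinearMap.ker f.toLinearMap) := kills_of_bij f hf _ (hfib p)
    letI : Algebra p.asIdeal.ResidueField (IsLocalRing.ResidueField (Localization.AtPrime q)) :=
      (Ideal.ResidueField.map p.asIdeal q (algebraMap R (Rm ⊗[R] B)) rfl).toAlgebra
    haveI : IsScalarTower R p.asIdeal.ResidueField (IsLocalRing.ResidueField (Localization.AtPrime q)) := IsScalarTower.of_algebraMap_eq fun r => by
      rw [RingHom.algebraMap_toAlgebra]
      exact (Ideal.ResidueField.map_algebraMap p.asIdeal q (algebraMap R (Rm ⊗[R] B)) rfl r).symm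
    haveI : IsScalarTower R (Localization.AtPrime q) (IsLocalRing.ResidueField (Localization.AtPrime q)) :=
      IsScalarTower.of_algebraMap_eq fun r => rfl
    haveI hV : Subsingleton ((IsLocalRing.ResidueField (Localization.AtPrime q)) ⊗[R] LinearMap.ker f.toLinearMap) :=
      (TensorProduct.AlgebraTensorModule.cancelBaseChange R p.asIdeal.ResidueField p.asIdeal.ResidueField (IsLocalRing.ResidueField (Localization.AtPrime q))
        (LinearMap.ker f.toLinearMap)).symm.toEquiv.subsingleton
    have hsubI : Subsingleton ((IsLocalRing.ResidueField (Localization.AtPrime q)) ⊗[(Localization.AtPrime q)] I) := by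
      refine subsingleton_of_forall_eq 0 fun z => ?_
      induction z using TensorProduct.induction_on with
      | zero => rfl
      | add a b ha hb => rw [ha, hb, add_zero]
      | tmul c i =>
        let ι₀ : LinearMap.ker f.toLinearMap →ₗ[R] I :=
          { toFun := fun k => ⟨algebraMap (Rm ⊗[R] B) (Localization.AtPrime q) ((1 : Rm) ⊗ₜ[R] (k : B)), Ideal.mem_map_of_mem _ (by
              rw [RingHom.mem_ker]
              show (1 : Rm) ⊗ₜ[R] f (k : B) = 0
              rw [show f (k : B) = 0 from k.2, TensorProduct.tmul_zero])⟩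
            map_add' := fun a b => Subtype.ext (by simp [TensorProduct.tmul_add])
            map_smul' := fun r a => Subtype.ext (by
              simp only [RingHom.id_apply, SetLike.val_smul, TensorProduct.tmul_smul]
              exact ((IsScalarTower.toAlgHom R (Rm ⊗[R] B) (Localization.AtPrime q)).toLinearMap.map_smul r _)) }
        have h0 : ∀ (c : (IsLocalRing.ResidueField (Localization.AtPrime q))) k, c ⊗ₜ[(Localization.AtPrime q)] ι₀ k = 0 := fun c k => by
          have h1 : (LinearMap.lTensor (IsLocalRing.ResidueField (Localization.AtPrime q)) ι₀) (c ⊗ₜ[R] k) = 0 := by rw [Subsingleton.elim (c ⊗ₜ[R] k) 0, map_zero]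
          rw [LinearMap.lTensor_tmul] at h1
          have h2 := congrArg (TensorProduct.mapOfCompatibleSMul (Localization.AtPrime q) R (Localization.AtPrime q) (IsLocalRing.ResidueField (Localization.AtPrime q)) I) h1
          simpa using h2
        have hI : i ∈ Submodule.span (Localization.AtPrime q) (Set.range ι₀) := by
          have hle : I ≤ (Submodule.span (Localization.AtPrime q) (Set.range ι₀)).map (Submodule.subtype I) := by
            rw [Ideal.map_le_iff_le_comap]
            intro y hy
            have hy' := hKm y hy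
            induction hy' using Submodule.span_induction with
            | mem y hy' => obtain ⟨k, rfl⟩ := hy'; exact ⟨_, Submodule.subset_span ⟨k, rfl⟩, rfl⟩
            | zero => simp
            | add a b ha' hb' ha hb =>
              have hmem : ∀ z ∈ Submodule.span (Rm ⊗[R] B) (Set.range fun k : LinearMap.ker f.toLinearMap => (1 : Rm) ⊗ₜ[R] (k : B)), z ∈ Km := fun z hz =>
                (Submodule.span_le.mpr (by rintro _ ⟨k, rfl⟩; exact RingHom.mem_ker.mpr (show (1 : Rm) ⊗ₜ[R] f (k : B) = 0 by rw [show f (k : B) = 0 from k.2, TensorProduct.tmul_zero]))) hz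
              exact add_mem (ha (hmem a ha')) (hb (hmem b hb'))
            | smul c a ha' ha =>
              have hmem : ∀ z ∈ Submodule.span (Rm ⊗[R] B) (Set.range fun k : LinearMap.ker f.toLinearMap => (1 : Rm) ⊗ₜ[R] (k : B)), z ∈ Km := fun z hz =>
                (Submodule.span_le.mpr (by rintro _ ⟨k, rfl⟩; exact RingHom.mem_ker.mpr (show (1 : Rm) ⊗ₜ[R] f (k : B) = 0 by rw [show f (k : B) = 0 from k.2, TensorProduct.tmul_zero]))) hz
              rw [Ideal.mem_comap, smul_eq_mul, map_mul]
              exact Submodule.smul_mem _ _ (ha (hmem a ha'))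
          obtain ⟨j, hj, hji⟩ := hle i.2
          rwa [show j = i from Subtype.ext hji] at hj
        revert c
        induction hI using Submodule.span_induction with
        | mem y hy => obtain ⟨k, rfl⟩ := hy; exact fun c => h0 c k
        | zero => exact fun c => TensorProduct.tmul_zero _ _
        | add a b _ _ ha hb => exact fun c => by rw [TensorProduct.tmul_add, ha, hb, add_zero]
        | smul l a _ ha => exact fun c => by rw [TensorProduct.tmul_smul, ha, smul_zero]
    haveI : Subsingleton I := IsLocalRing.subsingleton_tensorProduct.mp hsubI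
    exact Submodule.eq_bot_of_subsingleton (p := I)
  by_contra hy
  obtain ⟨q, hq, hyq⟩ := Ideal.exists_le_maximal (Ideal.torsionOf (Rm ⊗[R] B) (Rm ⊗[R] B) ((1 : Rm) ⊗ₜ[R] x))
    (fun h => hy ((Ideal.torsionOf_eq_top_iff (Rm ⊗[R] B) _).mp h))
  have h1 : algebraMap (Rm ⊗[R] B) (Localization.AtPrime q) ((1 : Rm) ⊗ₜ[R] x) = 0 := by
    rw [← Ideal.mem_bot, ← hloc q]
    refine Ideal.mem_map_of_mem _ ?_
    rw [RingHom.mem_ker]
    show (1 : Rm) ⊗ₜ[R] f x = 0
    rw [hx, TensorProduct.tmul_zero]
  obtain ⟨⟨s, hs⟩, hs'⟩ := (IsLocalization.map_eq_zero_iff q.primeCompl _ _).mp h1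
  exact hs (hyq ((Ideal.mem_torsionOf_iff _ _).mpr hs'))

lemma injective_of_fibres [Module.Finite R A] [Module.Flat R A] [Algebra.FiniteType R B] (f : B →ₐ[R] A)
    (hf : Function.Surjective f)
    (hfib : ∀ p : PrimeSpectrum R, Function.Injective (f.toLinearMap.lTensor p.asIdeal.ResidueField)) :
    Function.Injective f := by
  rw [injective_iff_map_eq_zero]
  intro x hx
  by_contra hx0
  obtain ⟨m, hm, hxm⟩ := Ideal.exists_le_maximal (Ideal.torsionOf R B x)
    (fun h => hx0 ((Ideal.torsionOf_eq_top_iff R x).mp h))
  obtain ⟨⟨s, hs⟩, hs'⟩ :=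
    (IsLocalizedModule.eq_zero_iff m.primeCompl (TensorProduct.mk R (Localization.AtPrime m) B 1)).mp
      (one_tmul_eq_zero f hf hfib (Localization.AtPrime m) x hx)
  exact hs (hxm ((Ideal.mem_torsionOf_iff _ _).mpr hs'))

end

/-- Let S = Spec R, X = Spec A finite and flat over S, Y = Spec B of finite type over S, and φ : X → Y
an S-morphism given by f : B → A. If for every point s of S the fibres X_s and Y_s have the same
order (the κ(s)-dimension of their rings of global sections κ(s) ⊗ A and κ(s) ⊗ B; equivalently at
every geometric point) and φ is an isomorphism over every closed point of S (κ(m) ⊗ f bijective for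
every maximal ideal m), then φ is an isomorphism, i.e. f is bijective. (The published statement
allows an arbitrary base scheme S and Y separated of finite type over S; this row is the case of an
affine base with X and Y affine, the case its proof treats directly. Over a base with no closed
points the general statement fails: the hypothesis at closed points is then empty.) -/
theorem result
    {R A B : Type u} [CommRing R] [CommRing A] [CommRing B] [Algebra R A] [Algebra R B]
    [Module.Finite R A] [Module.Flat R A] [Algebra.FiniteType R B]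
    (f : B →ₐ[R] A)
    (hrank : ∀ p : PrimeSpectrum R,
      Module.rank p.asIdeal.ResidueField (p.asIdeal.ResidueField ⊗[R] B) =
        Module.rank p.asIdeal.ResidueField (p.asIdeal.ResidueField ⊗[R] A))
    (hmax : ∀ (m : Ideal R) [m.IsMaximal],
      Function.Bijective (LinearMap.lTensor m.ResidueField f.toLinearMap)) :
    Function.Bijective f := by
  classical
  have hsurj : Function.Surjective f := by
    set C := A ⧸ LinearMap.range f.toLinearMap
    have hC : Subsingleton C := by
      refine subsingleton_of_forall_eq 0 fun c => ?_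
      by_contra hc
      obtain ⟨m, hm, hcm⟩ := Ideal.exists_le_maximal (Ideal.torsionOf R C c)
        (fun h => hc ((Ideal.torsionOf_eq_top_iff R c).mp h))
      have h1 : Subsingleton (m.ResidueField ⊗[R] C) := by
        refine subsingleton_of_forall_eq 0 fun z => ?_
        obtain ⟨w, rfl⟩ := LinearMap.lTensor_surjective m.ResidueField (LinearMap.range f.toLinearMap).mkQ_surjective z
        obtain ⟨v, rfl⟩ := (hmax m).2 w
        rw [← LinearMap.lTensor_comp_apply, show (LinearMap.range f.toLinearMap).mkQ.comp f.toLinearMap = 0 from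
          LinearMap.range_mkQ_comp _, LinearMap.lTensor_zero]
        rfl
      let Rm := Localization.AtPrime m
      haveI h2 : Subsingleton (IsLocalRing.ResidueField Rm ⊗[Rm] (Rm ⊗[R] C)) :=
        (TensorProduct.AlgebraTensorModule.cancelBaseChange R Rm Rm (IsLocalRing.ResidueField Rm) C).toEquiv.subsingleton
      haveI : Subsingleton (Rm ⊗[R] C) := IsLocalRing.subsingleton_tensorProduct.mp h2
      obtain ⟨⟨s, hs⟩, hs'⟩ := (IsLocalizedModule.eq_zero_iff m.primeCompl (TensorProduct.mk R Rm C 1)).mp
        (Subsingleton.elim _ 0)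
      exact hs (hcm ((Ideal.mem_torsionOf_iff _ _).mpr hs'))
    intro a
    exact (Submodule.Quotient.mk_eq_zero (LinearMap.range f.toLinearMap)).mp (Subsingleton.elim _ _)
  refine ⟨injective_of_fibres f hsurj fun p => ?_, hsurj⟩
  let κ := p.asIdeal.ResidueField
  let g : κ ⊗[R] B →ₗ[κ] κ ⊗[R] A := f.toLinearMap.baseChange κ
  haveI : Module.Finite κ (κ ⊗[R] B) := Module.rank_lt_aleph0_iff.mp (by rw [hrank p]; exact Module.rank_lt_aleph0 _ _)
  have hfr : Module.finrank κ (κ ⊗[R] B) = Module.finrank κ (κ ⊗[R] A) :=
    congrArg Cardinal.toNat (hrank p)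
  exact (LinearMap.injective_iff_surjective_of_finrank_eq_finrank (f := g) hfr).mpr (LinearMap.lTensor_surjective κ hsurj)

end Groth.Agent.S13632
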