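import Groth.Statements.S1366
import Groth.Agent.FlatB12.HenselClopen

set_option autoImplicit false
universe u
open FlatMor

namespace Groth.Agent.S1366

open AlgebraicGeometry CategoryTheory Limits in
/-- Let (A, I) be a henselian pair and X a separated scheme of finite type over Spec A, with X_0 its
base change to Spec (A/I). If Y is an open and closed subset of X_0 which (as an open subscheme) is
proper over Spec (A/I), then there is an open and closed subset W of X, proper over Spec A as an
open subscheme, whose preimage in X_0 is exactly Y. -/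
theorem result {A : Type u} [CommRing A] (I : Ideal A) [HenselianRing A I]
    {X : Scheme.{u}} (f : X ⟶ Spec (CommRingCat.of A)) [IsSeparated f] [LocallyOfFiniteType f] [QuasiCompact f]
    (Y : (pullback f (Spec.map (CommRingCat.ofHom (Ideal.Quotient.mk I)))).Opens) (hYc : IsClosed (Y : Set ↑(pullback f (Spec.map (CommRingCat.ofHom (Ideal.Quotient.mk I))))))
    (hYp : IsProper (Y.ι ≫ pullback.snd f (Spec.map (CommRingCat.ofHom (Ideal.Quotient.mk I))))) :
    ∃ W : X.Opens, IsClosed (W : Set ↑X) ∧ IsProper (W.ι ≫ f) ∧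
      pullback.fst f (Spec.map (CommRingCat.ofHom (Ideal.Quotient.mk I))) ⁻¹ᵁ W = Y := by
  let b := Spec.map (CommRingCat.ofHom (Ideal.Quotient.mk I))
  haveI : IsClosedImmersion b := IsClosedImmersion.spec_of_surjective _ Ideal.Quotient.mk_surjective
  haveI := hYp
  haveI : IsProper ((Y.ι ≫ pullback.fst f b) ≫ f) := by
    rw [Category.assoc, pullback.condition, ← Category.assoc]
    infer_instance
  obtain ⟨O, hO, hOY⟩ := (pullback.fst f b).isEmbedding.isInducing.isOpen_iff.1 Y.2
  have hZ : Set.range (pullback.fst f b) = f ⁻¹' PrimeSpectrum.zeroLocus (I : Set A) := by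
    rw [Scheme.Pullback.range_fst]
    exact congrArg (Set.preimage f) ((range_comap_of_surjective _ _ Ideal.Quotient.mk_surjective).trans
      (by rw [Ideal.mk_ker]))
  have hr : Set.range (Y.ι ≫ pullback.fst f b) = f ⁻¹' PrimeSpectrum.zeroLocus (I : Set A) ∩ O := by
    show Set.range (pullback.fst f b ∘ Y.ι) = _
    rw [Set.range_comp, Scheme.Opens.range_ι, show (Y : Set ↑(pullback f b)) = pullback.fst f b ⁻¹' O from hOY.symm,
      Set.image_preimage_eq_inter_range, hZ, Set.inter_comm]
  obtain ⟨W, hW, hWp, hWr⟩ := FlatB12.exists_clopen_proper_lift I f (Y.ι ≫ pullback.fst f b) ⟨O, hO⟩ hr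
  refine ⟨W, hW, hWp, TopologicalSpace.Opens.ext (Set.ext fun z => ?_)⟩
  show pullback.fst f b z ∈ W ↔ z ∈ Y
  have hzZ : pullback.fst f b z ∈ f ⁻¹' PrimeSpectrum.zeroLocus (I : Set A) := hZ.le ⟨z, rfl⟩
  constructor
  · intro h
    obtain ⟨w, hw⟩ := hWr.ge ⟨hzZ, h⟩
    exact (pullback.fst f b).isEmbedding.injective hw ▸ w.2
  · exact fun h => (hWr.le (⟨⟨z, h⟩, rfl⟩ : pullback.fst f b z ∈ Set.range (Y.ι ≫ pullback.fst f b))).2

end Groth.Agent.S1366
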