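import Groth.Statements.S13691
import Groth.Agent.BCHom92.Galois
import Groth.Agent.BCHom92.InvIndec
import Groth.Agent.BCHom92.FormApps

set_option autoImplicit false
universe u
open CategoryTheory CategoryTheory.Limits AlgebraicGeometry
open ASBun

namespace Groth.Agent.S13691

open W4c1astiltbs12 in
/-- Let X be proper over a field k and K a separable closure of k such that X_K is connected, with
projection π : X_K → X, and write σ_X for the automorphism of X_K induced by a k-automorphism σ of
K. Let M be an indecomposable finite locally free O_X-module (nonzero, and in any decomposition as a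
direct sum one summand is zero) which splits over K into invertible modules with Galois-invariant
classes: π^*M ≅ L_1 ⊕ ⋯ ⊕ L_n with each L_i invertible and σ_X^*L_i ≅ L_i for all σ and i. Then M is
isotypical of invertible type: π^*M ≅ L^{⊕r} for some invertible O_{X_K}-module L and some r ≥ 1,
and L is unique up to isomorphism with this property. (The published statement omits the invariance
of the summands L_i, and is then contradicted by the direct image on an elliptic curve of the
invertible module of a point defined over a quadratic extension but not over k; its argument also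
treats invertible modules on X_K as indecomposable, whence the connectedness hypothesis.) -/
theorem result (k : Type u) [Field k]
    {X : Scheme.{u}} (p : X ⟶ Spec (CommRingCat.of k)) [IsProper p] (K : Type u) [Field K]
    [Algebra k K] [IsSepClosure k K] [ConnectedSpace ↥(W4bk4gw11416.baseChange p K)]
    (M : X.Modules) (hM : FlatMod.IsFinLocFree M)
    (hMi : (¬ IsZero M ∧ ∀ A B : X.Modules, Nonempty (M ≅ A ⊞ B) → IsZero A ∨ IsZero B))
    (n : ℕ) (Ls : Fin n → (W4bk4gw11416.baseChange p K).Modules) (hLs : ∀ i, PicF.IsInvertible (Ls i))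
    (hinv : ∀ (σ : K ≃ₐ[k] K) (i : Fin n),
      Nonempty ((Scheme.Modules.pullback (galAct p K σ)).obj (Ls i) ≅ Ls i))
    (e : Nonempty (bcMod p K M ≅ ∐ Ls)) :
    ∃ (L : (W4bk4gw11416.baseChange p K).Modules) (r : ℕ), PicF.IsInvertible L ∧ 0 < r ∧
      Nonempty (bcMod p K M ≅ pow L r) ∧
      ∀ (L' : (W4bk4gw11416.baseChange p K).Modules) (r' : ℕ), PicF.IsInvertible L' →
        Nonempty (bcMod p K M ≅ pow L' r') → Nonempty (L' ≅ L) := by
  classical
  letI : X.Over (Spec (CommRingCat.of k)) := ⟨p⟩
  haveI : IsProper (X ↘ Spec (CommRingCat.of k)) := ‹IsProper p›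
  letI : (W4bk4gw11416.baseChange p K).Over (Spec (CommRingCat.of K)) := ⟨pullback.snd _ _⟩
  haveI : IsProper (W4bk4gw11416.baseChange p K ↘ Spec (CommRingCat.of K)) :=
    inferInstanceAs (IsProper (pullback.snd p (Spec.map (CommRingCat.ofHom (algebraMap k K)))))
  haveI := Groth.Agent.CurveCohLib.isNoetherian_of_proper (k := K) (X := W4bk4gw11416.baseChange p K)
  haveI := Groth.Agent.CurveCohLib.isNoetherian_of_proper (k := k) (X := X)
  obtain ⟨e⟩ := e
  have hC := Groth.Agent.CurveDeg.isCoh_of_isFinLocFree hM
  have hP : IsPullback (proj p K) (pullback.snd _ _) (X ↘ Spec (CommRingCat.of k))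
      (Spec.map (CommRingCat.ofHom (algebraMap k K))) := IsPullback.of_hasPullback _ _
  cases n with
  | zero =>
    exact absurd (Groth.Agent.BCHom92.isZero_of_isZero_pullback hP hC.1
      (IsZero.of_iso ((IsZero.iff_id_eq_zero _).2 (Sigma.hom_ext _ _ fun i => i.elim0)) e)) hMi.1
  | succ n =>
    have hind := fun i => Groth.Agent.BCHom92.indec_of_isInvertible (hLs i)
    have key := Groth.Agent.BCHom92.iso_of_invariant_summand hP (galAct p K)
      (fun σ => (pullback.lift_fst _ _ _).trans (Category.comp_id _)) (fun σ => pullback.lift_snd _ _ _)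
      hC hMi Ls hind e 0 (fun σ => hinv σ 0)
    let φ : bcMod p K M ≅ pow (Ls 0) (n + 1) := e ≪≫ Sigma.mapIso fun j => (key j).some
    refine ⟨Ls 0, n + 1, hLs 0, n.succ_pos, ⟨φ⟩, fun L' r' hL' ⟨φ'⟩ => ?_⟩
    have hc := Groth.Agent.ZClosLib.isCoh_pullback (proj p K) hC
    haveI := Groth.Agent.BCHom92.finite_hom (k := K) hc hc
    obtain ⟨eq, heq⟩ := Groth.Agent.KS92.exists_equiv K (fun _ : Fin (n + 1) => hind 0)
      (fun _ : Fin r' => Groth.Agent.BCHom92.indec_of_isInvertible hL') φ φ'
    exact (heq 0).map Iso.symm

end Groth.Agent.S13691
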