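import Groth.Statements.S13712
import Groth.Agent.IntTh85.ChevFin

set_option autoImplicit false
universe u
open CategoryTheory CategoryTheory.Limits AlgebraicGeometry
open ZeroCyc

namespace Groth.Agent.S13712

/-- Let f : X → Y and g : Y → S be morphisms of schemes with g separated, such that the composite X → S
is integral with topologically finite fibres (every fibre is a finite set). Then the
scheme-theoretic image Y' of f, with its closed immersion Y' → Y, is integral over S, and Y' → S
again has topologically finite fibres. (The published statement is for algebraic spaces; this row is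
the case of schemes.) -/
theorem result {X Y S : Scheme.{u}} (f : X ⟶ Y) (g : Y ⟶ S)
    [IsSeparated g] [IsIntegralHom (f ≫ g)] (hfin : ∀ s : S, Set.Finite ((f ≫ g).base ⁻¹' {s})) :
    IsIntegralHom (f.imageι ≫ g) ∧ ∀ s : S, Set.Finite ((f.imageι ≫ g).base ⁻¹' {s}) := by
  haveI : UniversallyClosed f := MorphismProperty.of_postcomp (W := @UniversallyClosed) (W' := @IsSeparated)
    f g ‹_› inferInstance
  haveI : QuasiCompact f := inferInstance
  haveI : Surjective f.toImage := ⟨fun y => by
    have hy : f.imageι y ∈ closure (Set.range f) := by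
      rw [← f.support_ker, ← Scheme.IdealSheafData.range_subschemeι]
      exact ⟨y, rfl⟩
    rw [f.isClosedMap.isClosed_range.closure_eq] at hy
    obtain ⟨x, hx⟩ := hy
    exact ⟨x, f.imageι.isEmbedding.injective (by rw [← Scheme.Hom.comp_apply, Scheme.Hom.toImage_imageι, hx])⟩⟩
  haveI : IsSeparated (f.imageι ≫ g) := inferInstance
  haveI h : IsIntegralHom (f.toImage ≫ f.imageι ≫ g) := by
    rw [Scheme.Hom.toImage_imageι_assoc]; infer_instance
  refine ⟨IntTh85.ChevFin.isIntegralHom_of_surjective_comp f.toImage (f.imageι ≫ g) ?_, fun s => ?_⟩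
  · rw [Scheme.Hom.toImage_imageι_assoc]; exact hfin
  · refine ((hfin s).image f.toImage).subset fun y hy => ?_
    obtain ⟨x, rfl⟩ := f.toImage.surjective y
    refine ⟨x, ?_, rfl⟩
    show (f ≫ g) x = s
    rw [← Scheme.Hom.toImage_imageι_assoc f g, Scheme.Hom.comp_apply]
    exact hy

end Groth.Agent.S13712
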