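import Groth.Statements.S13728
import Mathlib.Algebra.Colimit.Module
import Mathlib.Data.Fintype.Perm
-- import your own Groth.Agent.* helpers here

set_option autoImplicit false
universe u
open scoped TensorProduct
open ZeroCyc

namespace Groth.Agent.S13728

/-- The functor B ↦ TS^d_A(B) (symmetric tensors of degree d, the invariants of the symmetric group in
the d-fold tensor power) commutes with filtered direct limits. Concretely, let B be the direct limit
of a directed system (B_i, t_ij : B_i → B_j) of commutative algebras over the commutative ring A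
(t_ii the identity, t_jk ∘ t_ij = t_ik) with structure maps φ_i : B_i → B (compatible with the t_ij,
jointly surjective, and an element of B_i vanishing in B vanishes in some B_j). Then every element
of TS^d_A(B) is the image of an element of some TS^d_A(B_i), and an element of TS^d_A(B_i) whose
image in TS^d_A(B) is zero has image zero in TS^d_A(B_j) for some j ≥ i. -/
theorem result {A : Type u} [CommRing A] {B : Type u} [CommRing B] [Algebra A B]
    {ι : Type u} [Preorder ι] [IsDirected ι (fun i j => i ≤ j)] [Nonempty ι]
    (Bi : ι → Type u) [∀ i, CommRing (Bi i)] [∀ i, Algebra A (Bi i)]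
    (t : ∀ i j : ι, i ≤ j → (Bi i →ₐ[A] Bi j)) (φ : ∀ i : ι, Bi i →ₐ[A] B)
    (hcomp : ∀ (i j : ι) (h : i ≤ j), (φ j).comp (t i j h) = φ i)
    (hsurj : ∀ b : B, ∃ (i : ι) (x : Bi i), φ i x = b)
    (hzero : ∀ (i : ι) (x : Bi i), φ i x = 0 → ∃ (j : ι) (h : i ≤ j), t i j h x = 0)
    (hid : ∀ (i : ι) (h : i ≤ i), t i i h = AlgHom.id A (Bi i))
    (htrans : ∀ (i j k : ι) (hij : i ≤ j) (hjk : j ≤ k), (t j k hjk).comp (t i j hij) = t i k (hij.trans hjk)) (d : ℕ) :
    (∀ z : SymTen.TS A B d, ∃ (i : ι) (y : SymTen.TS A (Bi i) d), SymTen.TSmap A d (φ i) y = z) ∧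
      ∀ (i : ι) (y : SymTen.TS A (Bi i) d), SymTen.TSmap A d (φ i) y = 0 →
        ∃ (j : ι) (h : i ≤ j), SymTen.TSmap A d (t i j h) y = 0 := by
  classical
  let G : ι → Type u := fun i => ⨂[A] _ : Fin d, Bi i
  let F : ∀ i j, i ≤ j → G i →ₗ[A] G j := fun i j h => (SymTen.tmap A d (t i j h)).toLinearMap
  have : DirectedSystem G (fun i j h => F i j h) :=
    { map_self := fun i x => by
        show SymTen.tmap A d (t i i le_rfl) x = x
        induction x using PiTensorProduct.induction_on with
        | smul_tprod r g => simp [hid]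
        | add a b ha hb => simp only [map_add, ha, hb]
      map_map := fun k j i hij hjk x => by
        show SymTen.tmap A d (t j k hjk) (SymTen.tmap A d (t i j hij) x) =
          SymTen.tmap A d (t i k (hij.trans hjk)) x
        induction x using PiTensorProduct.induction_on with
        | smul_tprod r g => simp [← htrans i j k hij hjk]
        | add a b ha hb => simp only [map_add, ha, hb] }
  have up : ∀ {i j : ι} (h : i ≤ j) (x : Bi i), φ j (t i j h x) = φ i x := fun h x =>
    AlgHom.congr_fun (hcomp _ _ h) x
  have tt : ∀ {i j k : ι} (hij : i ≤ j) (hjk : j ≤ k) (x : Bi i),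
      t j k hjk (t i j hij x) = t i k (hij.trans hjk) x := fun hij hjk x =>
    AlgHom.congr_fun (htrans _ _ _ hij hjk) x
  have common : ∀ (S : Finset ι), ∃ j, ∀ i ∈ S, i ≤ j := fun S => Finset.exists_le S
  have lifts : ∀ {n : ℕ} (m : Fin n → B), ∃ (j : ι) (x : Fin n → Bi j), ∀ k, φ j (x k) = m k := by
    intro n m
    choose i x hx using fun k => hsurj (m k)
    obtain ⟨j, hj⟩ := common (Finset.univ.image i)
    exact ⟨j, fun k => t (i k) j (hj _ (Finset.mem_image_of_mem _ (Finset.mem_univ k))) (x k),
      fun k => (up _ _).trans (hx k)⟩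
  have agree : ∀ {j j' : ι} (x : Fin d → Bi j) (x' : Fin d → Bi j'),
      (∀ k, φ j (x k) = φ j' (x' k)) →
      Module.DirectLimit.of A ι G F j (PiTensorProduct.tprod A x) =
        Module.DirectLimit.of A ι G F j' (PiTensorProduct.tprod A x') := by
    intro j j' x x' hxx
    obtain ⟨l, hjl, hj'l⟩ := directed_of (fun a b : ι => a ≤ b) j j'
    have : ∀ k, φ l (t j l hjl (x k) - t j' l hj'l (x' k)) = 0 := fun k => by
      rw [map_sub, up, up, hxx k, sub_self]
    choose q hq hq0 using fun k => hzero l _ (this k)
    obtain ⟨N, hN⟩ := common (insert l (Finset.univ.image q))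
    have hlN : l ≤ N := hN l (Finset.mem_insert_self _ _)
    refine (Module.DirectLimit.of_f (G := G) (f := F) (hij := hjl.trans hlN)).symm.trans
      (Eq.trans ?_ (Module.DirectLimit.of_f (G := G) (f := F) (hij := hj'l.trans hlN)))
    refine congrArg (Module.DirectLimit.of A ι G F N) ?_
    simp only [F, AlgHom.toLinearMap_apply]
    erw [SymTen.tmap_tprod, SymTen.tmap_tprod]
    refine congrArg (PiTensorProduct.tprod A) (funext fun k => ?_)
    have hqN : q k ≤ N :=
      hN _ (Finset.mem_insert_of_mem (Finset.mem_image_of_mem _ (Finset.mem_univ k)))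
    have h0 := congrArg (t (q k) N hqN) (hq0 k)
    rw [tt, map_zero, map_sub, tt, tt, sub_eq_zero] at h0
    exact h0
  choose jm xm hxm using fun m : Fin d → B => lifts m
  let c : (Fin d → B) → Module.DirectLimit G F := fun m =>
    Module.DirectLimit.of A ι G F (jm m) (PiTensorProduct.tprod A (xm m))
  have hc : ∀ {j : ι} (m : Fin d → B) (x : Fin d → Bi j), (∀ k, φ j (x k) = m k) →
      c m = Module.DirectLimit.of A ι G F j (PiTensorProduct.tprod A x) := fun m x hx =>
    agree _ _ fun k => (hxm m k).trans (hx k).symm
  have hupd : ∀ {j : ι} (x : Fin d → Bi j) (k : Fin d) (y : Bi j) (m : Fin d → B),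
      (∀ l, φ j (x l) = m l) → ∀ l, φ j (Function.update x k y l) = Function.update m k (φ j y) l := by
    intro j x k y m hx l
    rcases eq_or_ne l k with rfl | hl
    · simp
    · simp [Function.update_of_ne hl, hx l]
  have two : ∀ (m : Fin d → B) (p p' : B), ∃ (j : ι) (x : Fin d → Bi j) (y y' : Bi j),
      (∀ l, φ j (x l) = m l) ∧ φ j y = p ∧ φ j y' = p' := by
    intro m p p'
    obtain ⟨j, x, hx⟩ := lifts m
    obtain ⟨i, y, hy⟩ := hsurj p
    obtain ⟨i', y', hy'⟩ := hsurj p'
    obtain ⟨l, hl⟩ := common {j, i, i'}
    have h1 : j ≤ l := hl _ (by simp)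
    have h2 : i ≤ l := hl _ (by simp)
    have h3 : i' ≤ l := hl _ (by simp)
    exact ⟨l, fun k => t j l h1 (x k), t i l h2 y, t i' l h3 y', fun k => (up _ _).trans (hx k),
      (up _ _).trans hy, (up _ _).trans hy'⟩
  let M : MultilinearMap A (fun _ : Fin d => B) (Module.DirectLimit G F) :=
    { toFun := c
      map_update_add' := by
        intro inst m k p p'
        obtain rfl : inst = instDecidableEqFin d := Subsingleton.elim _ _
        obtain ⟨j, x, y, y', hx, rfl, rfl⟩ := two m p p'
        rw [hc _ (Function.update x k y) (hupd x k y m hx), hc _ (Function.update x k y') (hupd x k y' m hx),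
          ← map_add, hc _ (Function.update x k (y + y')) (by simpa using hupd x k (y + y') m hx),
          MultilinearMap.map_update_add]
        exact map_add _ _ _
      map_update_smul' := by
        intro inst m k a p
        obtain rfl : inst = instDecidableEqFin d := Subsingleton.elim _ _
        obtain ⟨j, x, y, y', hx, rfl, -⟩ := two m p p
        rw [hc _ (Function.update x k y) (hupd x k y m hx), ← map_smul,
          hc _ (Function.update x k (a • y)) (by simpa using hupd x k (a • y) m hx),
          MultilinearMap.map_update_smul]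
        exact map_smul _ _ _ }
  have hlift : ∀ (i : ι) (y : G i), PiTensorProduct.lift M (SymTen.tmap A d (φ i) y) =
      Module.DirectLimit.of A ι G F i y := by
    intro i y
    induction y using PiTensorProduct.induction_on with
    | smul_tprod r g =>
      rw [map_smul, map_smul, map_smul, SymTen.tmap_tprod, PiTensorProduct.lift.tprod]
      exact congrArg (r • ·) (hc _ g fun _ => rfl)
    | add a b ha hb => rw [map_add, map_add, map_add, ha, hb]
  have zero : ∀ (i : ι) (y : G i), SymTen.tmap A d (φ i) y = 0 →
      ∃ (j : ι) (h : i ≤ j), SymTen.tmap A d (t i j h) y = 0 := by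
    intro i y hy
    have h0 := hlift i y
    rw [hy, map_zero] at h0
    exact Module.DirectLimit.of.zero_exact h0.symm
  have surj : ∀ z : ⨂[A] _ : Fin d, B, ∃ (i : ι) (y : G i), SymTen.tmap A d (φ i) y = z := by
    intro z
    induction z using PiTensorProduct.induction_on with
    | smul_tprod r g =>
      obtain ⟨j, x, hx⟩ := lifts g
      exact ⟨j, r • PiTensorProduct.tprod A x, by simp [hx]⟩
    | add a b ha hb =>
      obtain ⟨i, y, hy⟩ := ha
      obtain ⟨i', y', hy'⟩ := hb
      obtain ⟨l, h, h'⟩ := directed_of (fun a b : ι => a ≤ b) i i'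
      refine ⟨l, SymTen.tmap A d (t i l h) y + SymTen.tmap A d (t i' l h') y', ?_⟩
      have e : ∀ {i l : ι} (h : i ≤ l) (y : G i),
          SymTen.tmap A d (φ l) (SymTen.tmap A d (t i l h) y) = SymTen.tmap A d (φ i) y := by
        intro i l h y
        induction y using PiTensorProduct.induction_on with
        | smul_tprod r g => simp [up]
        | add a b ha hb => simp only [map_add, ha, hb]
      rw [map_add, e, e, hy, hy']
  refine ⟨fun z => ?_, fun i y hy => ?_⟩
  · obtain ⟨i, y, hy⟩ := surj z.1
    have : ∀ σ : Equiv.Perm (Fin d),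
        SymTen.tmap A d (φ i) (PiTensorProduct.reindex A (fun _ : Fin d => Bi i) σ y - y) = 0 := fun σ => by
      rw [map_sub, SymTen.tmap_reindex, hy, z.2 σ, sub_self]
    choose q hq hq0 using fun σ => zero i _ (this σ)
    obtain ⟨N, hN⟩ := common (insert i (Finset.univ.image q))
    have hiN : i ≤ N := hN i (Finset.mem_insert_self _ _)
    refine ⟨N, ⟨SymTen.tmap A d (t i N hiN) y, fun σ => ?_⟩, Subtype.ext ?_⟩
    · have hqN : q σ ≤ N :=
        hN _ (Finset.mem_insert_of_mem (Finset.mem_image_of_mem _ (Finset.mem_univ σ)))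
      have h0 := congrArg (F (q σ) N hqN) (hq0 σ)
      rw [map_zero] at h0
      have ee : ∀ y : G i, SymTen.tmap A d (t (q σ) N hqN) (SymTen.tmap A d (t i (q σ) (hq σ)) y) =
          SymTen.tmap A d (t i N hiN) y := fun y => by
        clear * - tt
        induction y using PiTensorProduct.induction_on with
        | smul_tprod r g => simp [tt]
        | add a b ha hb => simp only [map_add, ha, hb]
      have h1 := (ee _).symm.trans h0
      change SymTen.tmap A d (t i N _) (_ - y) = 0 at h1
      rw [map_sub, SymTen.tmap_reindex, sub_eq_zero] at h1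
      exact h1
    · show SymTen.tmap A d (φ N) (SymTen.tmap A d (t i N hiN) y) = z.1
      rw [← hy]
      clear * - up
      induction y using PiTensorProduct.induction_on with
      | smul_tprod r g => simp [up]
      | add a b ha hb => simp only [map_add, ha, hb]
  · obtain ⟨j, h, hj⟩ := zero i y.1 (congrArg Subtype.val hy)
    exact ⟨j, h, Subtype.ext hj⟩

end Groth.Agent.S13728
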