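import Groth.Statements.S1373
import Groth.Agent.UnivOpen.Criterion

set_option autoImplicit false
universe u
open FlatMor

namespace Groth.Agent.S1373

open AlgebraicGeometry CategoryTheory Limits in
/-- (1) ⇔ (3): a morphism f : X → S is universally open if and only if for every n the induced morphism
from affine n-space over X to affine n-space over S is open. -/
theorem result {X S : Scheme.{u}} (f : X ⟶ S) :
    UniversallyOpen f ↔ ∀ n : ℕ, IsOpenMap ⇑(AffineSpace.map (ULift.{u} (Fin n)) f) := by
  refine ⟨fun h n => ?_, fun h => (UnivOpen.universallyOpen_iff_forall f).2 fun x =>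
    UnivOpen.isUnivOpenAt_of_affineSpace f x fun m x'' _ => ?_⟩
  · exact h.universally_isOpenMap _ _ _ (AffineSpace.isPullback_map (n := ULift.{u} (Fin n)) f)
  · have hc := (AffineSpace.isPullback_map (n := ULift.{u} (Fin m)) f).flip
    have heq : hc.isoPullback.inv ≫ AffineSpace.map (ULift.{u} (Fin m)) f = pullback.snd f _ :=
      hc.isoPullback_inv_snd
    intro N hN
    rw [← heq]
    exact ((h m).comp hc.isoPullback.inv.homeomorph.isOpenMap).image_mem_nhds hN

end Groth.Agent.S1373
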