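import Groth.Statements.S13734
import Groth.Agent.HTop74.NoethV

set_option autoImplicit false
universe u
open HTop

namespace Groth.Agent.S13734
open Groth.Agent.HTop74

open CategoryTheory CategoryTheory.Limits AlgebraicGeometry in
/-- Let S be a separated Noetherian scheme and f : X → S a separated morphism of finite type. Then f is
universally submersive (an h-covering) if and only if, for every discrete valuation ring R and every
morphism g : Spec R → S, there are a discrete valuation ring R', a morphism φ : Spec R' → Spec R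
surjective on points and a morphism h : Spec R' → X with h ≫ f = φ ≫ g. -/
theorem result {X S : Scheme.{u}} [IsNoetherian S] [S.IsSeparated] (f : X ⟶ S) [LocallyOfFiniteType f] [QuasiCompact f] [IsSeparated f] : SGA1.UnivSubmersive f ↔ ∀ (R : Type u) [CommRing R] [IsDomain R] [IsDiscreteValuationRing R] (g : Spec (CommRingCat.of R) ⟶ S), ∃ (R' : Type u) (_ : CommRing R') (_ : IsDomain R') (_ : IsDiscreteValuationRing R') (φ : Spec (CommRingCat.of R') ⟶ Spec (CommRingCat.of R)) (h : Spec (CommRingCat.of R') ⟶ X), Surjective φ ∧ h ≫ f = φ ≫ g := by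
  let E : PreZeroHypercover.{u} S := ⟨PUnit.{u + 1}, fun _ => X, fun _ => f⟩
  haveI : Finite E.I₀ := inferInstanceAs (Finite PUnit.{u + 1})
  haveI : ∀ i, LocallyOfFiniteType (E.f i) := fun _ => ‹LocallyOfFiniteType f›
  haveI : ∀ i, QuasiCompact (E.f i) := fun _ => ‹QuasiCompact f›
  constructor
  · intro hf R _ _ _ g
    haveI : IsDiscreteValuationRing (CommRingCat.of R) := ‹_›
    obtain ⟨q, p, hqp, hq, hp⟩ := Groth.Agent.HTopCov.exists_specializes_of_isQuotientMap (pullback.fst g f)
      (hf _ _ _ (IsPullback.of_hasPullback g f))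
    haveI : IsLocallyNoetherian (pullback g f) := LocallyOfFiniteType.isLocallyNoetherian (pullback.fst g f)
    have hne : p ≠ q := fun h => by
      rw [h, hq] at hp
      exact IsDiscreteValuationRing.not_a_field R (congrArg PrimeSpectrum.asIdeal hp).symm
    obtain ⟨R', h, hR', hcl, hgen⟩ := Groth.Agent.S4450.result (𝟙 (pullback g f)) q p hqp hne
    haveI := hR'
    refine ⟨R', inferInstance, inferInstance, hR', h ≫ pullback.fst g f, h ≫ pullback.snd g f, ⟨fun z => ?_⟩,
      by rw [Category.assoc, Category.assoc, pullback.condition]⟩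
    rcases eq_or_ne (z : PrimeSpectrum R).asIdeal ⊥ with hz | hz
    · refine ⟨(⊥ : PrimeSpectrum R'), ?_⟩
      let w : PrimeSpectrum ((pullback g f).residueField q) := ⊥
      have e' : (Spec.map (CommRingCat.ofHom R'.subtype)) w = (⊥ : PrimeSpectrum R') :=
        PrimeSpectrum.ext ((RingHom.injective_iff_ker_eq_bot R'.subtype).mp Subtype.val_injective)
      have h0 : h (⊥ : PrimeSpectrum R') = q := by
        rw [← e', ← Scheme.Hom.comp_apply, hgen, Category.comp_id]
        exact Scheme.fromSpecResidueField_apply _ _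
      rw [Scheme.Hom.comp_apply, h0, hq]
      exact PrimeSpectrum.ext hz.symm
    · refine ⟨IsLocalRing.closedPoint R', ?_⟩
      rw [Scheme.Hom.comp_apply, hcl, hp]
      exact PrimeSpectrum.ext (IsLocalRing.eq_maximalIdeal (z.isPrime.isMaximal hz)).symm
  · intro hdvr
    have hv : HTop.HasValLift E := hasValLift_of_dvr E fun R _ _ g => by
      obtain ⟨R', _, _, _, φ, l, hφ, hl⟩ := hdvr R g
      refine ⟨CommRingCat.of R', inferInstance, inferInstanceAs (ValuationRing R'), Spec.preimage φ, ?_, PUnit.unit,
        l, by rw [Spec.map_preimage]; exact hl⟩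
      obtain ⟨b, hb⟩ := hφ.surj (⊥ : PrimeSpectrum R)
      have hbot : φ (⊥ : PrimeSpectrum R') = (⊥ : PrimeSpectrum R) := by
        have hsp : φ (⊥ : PrimeSpectrum R') ⤳ φ b :=
          ((PrimeSpectrum.le_iff_specializes (⊥ : PrimeSpectrum R') (b : PrimeSpectrum R')).1 bot_le).map φ.continuous
        rw [hb] at hsp
        exact PrimeSpectrum.ext (le_bot_iff.1 (show (show PrimeSpectrum R from φ (⊥ : PrimeSpectrum R')).asIdeal ≤ ⊥ from
          (PrimeSpectrum.le_iff_specializes (show PrimeSpectrum R from φ (⊥ : PrimeSpectrum R')) ⊥).2 hsp))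
      obtain ⟨d, hd⟩ := hφ.surj (IsLocalRing.closedPoint R)
      refine Groth.Agent.HTopCov.isExtVal_of_points _ (by rw [Spec.map_preimage]; exact hbot) ?_
      rw [Spec.map_preimage]
      have hsp : φ d ⤳ φ (IsLocalRing.closedPoint R') :=
        ((IsLocalRing.specializes_closedPoint (d : PrimeSpectrum R'))).map φ.continuous
      rw [hd] at hsp
      refine PrimeSpectrum.ext (le_antisymm (IsLocalRing.le_maximalIdeal ?_) ((PrimeSpectrum.le_iff_specializes _ _).2 hsp))
      exact (show PrimeSpectrum R from φ (IsLocalRing.closedPoint R')).isPrime.ne_top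
    refine (univSubmersive_desc_punit_iff f).1 (Groth.Agent.HTopCov.univSubmersive_sigmaDesc E ?_)
    have hs : HTop.HasValLift (PreZeroHypercover.singleton.{0} f) := fun V _ _ g => by
      obtain ⟨W, hW, hW', φ, hφ, j, l, hl⟩ := hv V g
      cases j
      exact ⟨W, hW, hW', φ, hφ, PUnit.unit, l, hl⟩
    intro U
    obtain ⟨F, hF, hr⟩ := Groth.Agent.HTopCov.isVCover_of_hasValLift f hs U
    exact ⟨F, hF, fun j => by obtain ⟨s, k, hk⟩ := hr j; cases s; exact ⟨PUnit.unit, k, hk⟩⟩

end Groth.Agent.S13734
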