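import Groth.Statements.S1374
import Groth.Agent.FlatB12.ClosedBetween
import Groth.Agent.FlatB12.FdZero
-- import your own Groth.Agent.* helpers here

set_option autoImplicit false
universe u
open FlatMor

namespace Groth.Agent.S1374

set_option linter.style.haveILetI false

open IsLocalRing in
/-- In a domain of finite type over `A`, for a prime `Q` of relative degree zero not over the kernel of
`A`, some prime of relative degree zero over the kernel lies below `Q` outside a given hypersurface. -/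
theorem exists_between {A C : Type u} [CommRing A] [CommRing C] [IsDomain C] [Algebra A C]
    [Algebra.FiniteType A C] (Q : Ideal C) [Q.IsPrime] (hQ0 : DimFormula.fd A Q = 0)
    (hne : Q.under A ≠ (⊥ : Ideal C).under A) (h : C) (h0 : h ≠ 0) :
    ∃ R : Ideal C, ∃ _ : R.IsPrime, R ≤ Q ∧ R.under A = (⊥ : Ideal C).under A ∧ h ∉ R ∧
      DimFormula.fd A R = 0 := by
  classical
  let L := FractionRing C
  let ι : A →+* L := algebraMap A L
  have hι : ∀ a, ι a = algebraMap C L (algebraMap A C a) := IsScalarTower.algebraMap_apply A C L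
  -- a valuation ring dominating `C_Q`
  have hu : ∀ y : Q.primeCompl, IsUnit (algebraMap C L y) := fun y =>
    (Ne.isUnit fun e => y.2 (by
      rw [show (y : C) = 0 from IsFractionRing.injective C L (e.trans (map_zero _).symm)]; exact Q.zero_mem))
  let lq : Localization.AtPrime Q →+* L := IsLocalization.lift hu
  obtain ⟨W, hW, hWloc⟩ := IsLocalRing.exists_factor_valuationRing lq
  have hlq : ∀ c, lq (algebraMap C (Localization.AtPrime Q) c) = algebraMap C L c := IsLocalization.lift_eq hu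
  have hCW : ∀ c, algebraMap C L c ∈ W := fun c => hlq c ▸ hW _
  have hQW : ∀ c, c ∈ Q ↔ (⟨algebraMap C L c, hCW c⟩ : W) ∈ maximalIdeal W := fun c => by
    rw [← IsLocalization.AtPrime.to_map_mem_maximal_iff (Localization.AtPrime Q) Q c, IsLocalRing.mem_maximalIdeal,
      IsLocalRing.mem_maximalIdeal, mem_nonunits_iff, mem_nonunits_iff, not_iff_not,
      show (⟨algebraMap C L c, hCW c⟩ : W) = lq.codRestrict W.toSubring hW (algebraMap C (Localization.AtPrime Q) c)
        from Subtype.ext (hlq c).symm]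
    exact ⟨fun h => h.map _, fun h => hWloc.map_nonunit _ h⟩
  -- its trace on the field generated by `A`
  let K : Subfield L := Subfield.closure (ι.range : Set L)
  let V := W.comap K.subtype
  have hAK : ∀ a, ι a ∈ K := fun a => Subfield.subset_closure ⟨a, rfl⟩
  have hAV : ∀ a, (⟨ι a, hAK a⟩ : K) ∈ V := fun a => by
    show ι a ∈ W
    rw [hι]
    exact hCW _
  have hfrac : ∀ v : V, ∃ a s : A, ι s ≠ 0 ∧ v.1.1 * ι s = ι a := fun v => by
    obtain ⟨y, hy, z, hz, e⟩ := Subfield.mem_closure_iff.1 v.1.2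
    rw [Subring.closure_eq] at hy hz
    obtain ⟨a, rfl⟩ := hy
    obtain ⟨b, rfl⟩ := hz
    by_cases hb : ι b = 0
    · exact ⟨0, 1, by rw [map_one]; exact one_ne_zero, by rw [← e, hb, div_zero, zero_mul, map_zero]⟩
    · exact ⟨a, b, hb, by rw [← e, div_mul_cancel₀ _ hb]⟩
  letI : Algebra V L := (K.subtype.comp V.subtype).toAlgebra
  have hVL : Function.Injective (algebraMap V L) := fun a b e => Subtype.ext (Subtype.ext e)
  have hVW : ∀ v : V, algebraMap V L v ∈ W := fun v => v.2
  have hmV : ∀ v : V, v ∈ maximalIdeal V ↔ (⟨algebraMap V L v, hVW v⟩ : W) ∈ maximalIdeal W := fun v => by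
    rw [IsLocalRing.mem_maximalIdeal, IsLocalRing.mem_maximalIdeal, mem_nonunits_iff, mem_nonunits_iff, not_iff_not]
    constructor
    · exact fun h => h.map ((algebraMap V L).codRestrict W.toSubring hVW)
    · intro h
      obtain ⟨w, hw⟩ := h.exists_right_inv
      have hw' : v.1.1 * w.1 = 1 := congrArg Subtype.val hw
      have hv0 : v.1 ≠ 0 := fun e => by
        rw [e, ZeroMemClass.coe_zero, zero_mul] at hw'
        exact zero_ne_one hw'
      have hv1 : v.1⁻¹ ∈ V := by
        show ((v.1⁻¹ : K) : L) ∈ W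
        rw [Subfield.coe_inv, ← eq_inv_of_mul_eq_one_right hw']
        exact w.2
      exact IsUnit.of_mul_eq_one ⟨v.1⁻¹, hv1⟩ (Subtype.ext (mul_inv_cancel₀ hv0))
  let jA : A →+* V := (ι.codRestrict K.toSubring hAK).codRestrict V.toSubring hAV
  have hjA : ∀ a, algebraMap V L (jA a) = algebraMap C L (algebraMap A C a) := hι
  -- the model over `V`
  obtain ⟨gens, hgens⟩ := (‹Algebra.FiniteType A C›).out
  let D : Subalgebra V L := Algebra.adjoin V ((gens.image (algebraMap C L) : Finset L) : Set L)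
  haveI : Algebra.FiniteType V D := ⟨(Subalgebra.fg_top _).2 (Subalgebra.fg_adjoin_finset _)⟩
  have hCD : ∀ c, algebraMap C L c ∈ D := fun c => by
    have hc : c ∈ Algebra.adjoin A (gens : Set C) := hgens ▸ Algebra.mem_top
    induction hc using Algebra.adjoin_induction with
    | mem x hx => exact Algebra.subset_adjoin (Finset.mem_image_of_mem _ hx)
    | algebraMap a => rw [← hjA]; exact D.algebraMap_mem _
    | add x y _ _ hx hy => rw [map_add]; exact D.add_mem hx hy
    | mul x y _ _ hx hy => rw [map_mul]; exact D.mul_mem hx hy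
  have hDW : ∀ d : D, d.1 ∈ W := fun d => by
    obtain ⟨d, hd⟩ := d
    show d ∈ W
    induction hd using Algebra.adjoin_induction with
    | mem x hx =>
      obtain ⟨c, -, rfl⟩ := Finset.mem_image.1 hx
      exact hCW c
    | algebraMap v => exact hVW v
    | add x y _ _ hx hy => exact W.add_mem _ _ hx hy
    | mul x y _ _ hx hy => exact W.mul_mem _ _ hx hy
  let ψ : C →+* D := (algebraMap C L).codRestrict D.toSubring hCD
  have hψV : ∀ a, ψ (algebraMap A C a) = algebraMap V D (jA a) := fun a => Subtype.ext (hjA a).symm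
  let QD : Ideal D := (maximalIdeal W).comap ((D.val.toRingHom).codRestrict W.toSubring hDW)
  haveI : QD.IsPrime := Ideal.IsPrime.comap _
  have hQDV : QD.under V = maximalIdeal V := Ideal.ext fun v => (hmV v).symm
  have hQDC : ∀ c, ψ c ∈ QD ↔ c ∈ Q := fun c => (hQW c).symm
  have hjAQ : ∀ a, jA a ∈ maximalIdeal V ↔ a ∈ Q.under A := fun a => by
    rw [← hQDV, Ideal.mem_comap, ← hψV, hQDC]
    rfl
  have hV0 : maximalIdeal V ≠ ⊥ := fun e => hne (by
    ext a
    rw [← hjAQ, e, Ideal.mem_bot, Ideal.mem_comap, Ideal.mem_bot]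
    constructor
    · intro ha
      refine IsFractionRing.injective C L ?_
      rw [← hjA, ha, map_zero, map_zero]
    · intro ha
      refine hVL ?_
      rw [hjA, ha, map_zero, map_zero])
  haveI : QD.LiesOver (maximalIdeal V) := ⟨hQDV.symm⟩
  letI : Field (V ⧸ maximalIdeal V) := Ideal.Quotient.field _
  have hint : ∀ d : D, ∃ φ : Polynomial V, φ.Monic ∧ Polynomial.aeval d φ ∈ QD := by
    intro d
    suffices hd : IsIntegral V (Ideal.Quotient.mk QD d) by
      obtain ⟨φ, hφ, he⟩ := hd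
      refine ⟨φ, hφ, Ideal.Quotient.eq_zero_iff_mem.1 ?_⟩
      rw [← Ideal.Quotient.mkₐ_eq_mk V, ← Polynomial.aeval_algHom_apply]
      exact he
    obtain ⟨d, hd⟩ := d
    induction hd using Algebra.adjoin_induction with
    | mem x hx =>
      obtain ⟨c, -, rfl⟩ := Finset.mem_image.1 hx
      obtain ⟨p, hpQ, hp0⟩ := FlatB12.exists_poly_of_fd_eq_zero (A := A) Q hQ0 c
      let q := (p.map jA).map (Ideal.Quotient.mk (maximalIdeal V))
      have hq0 : q ≠ 0 := fun e => hp0 (Polynomial.ext fun n => by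
        have h1 := congrArg (fun r => Polynomial.coeff r n) e
        simp only [q, Polynomial.coeff_map, Polynomial.coeff_zero, Ideal.Quotient.eq_zero_iff_mem] at h1
        rw [Polynomial.coeff_map, Polynomial.coeff_zero, Ideal.Quotient.eq_zero_iff_mem]
        exact (hjAQ _).1 h1)
      have halg : IsAlgebraic (V ⧸ maximalIdeal V) (Ideal.Quotient.mk QD (ψ c)) := by
        refine ⟨q, hq0, ?_⟩
        have h1 : Ideal.Quotient.mk QD (ψ (Polynomial.aeval c p)) = 0 :=
          Ideal.Quotient.eq_zero_iff_mem.2 ((hQDC _).2 hpQ)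
        rw [← h1]
        simp only [q, Polynomial.aeval_def, Polynomial.hom_eval₂, Polynomial.eval₂_map]
        congr 1
      haveI : Algebra.IsIntegral V (V ⧸ maximalIdeal V) :=
        ⟨fun z => Quotient.inductionOn' z fun v => isIntegral_algebraMap (x := v)⟩
      exact isIntegral_trans (R := V) _ halg.isIntegral
    | algebraMap v => exact isIntegral_algebraMap (x := v)
    | add x y hxm hym hx hy =>
      rw [show (⟨x + y, _⟩ : D) = ⟨x, hxm⟩ + ⟨y, hym⟩ from rfl, map_add]
      exact IsIntegral.add (R := V) (A := ↥D ⧸ QD) hx hy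
    | mul x y hxm hym hx hy =>
      rw [show (⟨x * y, _⟩ : D) = ⟨x, hxm⟩ * ⟨y, hym⟩ from rfl, map_mul]
      exact IsIntegral.mul (R := V) (A := ↥D ⧸ QD) hx hy
  have hψ0 : ψ h ≠ 0 := fun e => h0 (IsFractionRing.injective C L ((congrArg Subtype.val e).trans (map_zero _).symm))
  have hVD : Function.Injective (algebraMap V D) := fun a b e => by
    have e' := congrArg Subtype.val e
    exact hVL e'
  obtain ⟨R, hRp, hRQ, hRV, hhR, hR0⟩ := FlatB12.exists_closed_generic_le hV0 hVD QD hQDV hint (ψ h) hψ0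
  have hRV' : ∀ v : V, algebraMap V D v ∈ R ↔ v = 0 := fun v => by
    rw [← Ideal.mem_bot (x := v), ← hRV]
    rfl
  have hRC : (R.comap ψ).under A = (⊥ : Ideal C).under A := by
    ext a
    rw [Ideal.mem_comap, Ideal.mem_comap, Ideal.mem_comap, hψV, hRV', Ideal.mem_bot]
    constructor
    · intro ha
      exact IsFractionRing.injective C L (by rw [← hjA, ha, map_zero, map_zero])
    · intro ha
      exact hVL (by rw [hjA, ha, map_zero, map_zero])
  refine ⟨R.comap ψ, inferInstance, fun c hc => (hQDC c).1 (hRQ hc), hRC, hhR, ?_⟩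
  refine FlatB12.fd_eq_zero_of_forall_poly _ fun t => ?_
  obtain ⟨P, hPR, hP0⟩ := FlatB12.exists_poly_of_fd_eq_zero (A := V) R hR0 (ψ t)
  -- clear denominators
  obtain ⟨s, p, hs, hp⟩ : ∃ (s : A) (p : Polynomial A), ι s ≠ 0 ∧ p.map jA = Polynomial.C (jA s) * P := by
    clear hPR hP0
    induction P using Polynomial.induction_on' with
    | add P P' h1 h2 =>
      obtain ⟨s, p, hs, hp⟩ := h1
      obtain ⟨s', p', hs', hp'⟩ := h2
      refine ⟨s * s', Polynomial.C s' * p + Polynomial.C s * p', by rw [map_mul]; exact mul_ne_zero hs hs', ?_⟩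
      rw [Polynomial.map_add, Polynomial.map_mul, Polynomial.map_mul, Polynomial.map_C, Polynomial.map_C, hp, hp',
        map_mul, map_mul]
      ring
    | monomial n v =>
      obtain ⟨a, s, hs, he⟩ := hfrac v
      refine ⟨s, Polynomial.monomial n a, hs, ?_⟩
      rw [Polynomial.map_monomial, Polynomial.C_mul_monomial]
      congr 1
      exact hVL (by rw [map_mul, mul_comm]; exact he.symm)
  refine ⟨p, ?_, fun e => hP0 ?_⟩
  · show ψ (Polynomial.aeval t p) ∈ R
    have h1 : ψ (Polynomial.aeval t p) = Polynomial.aeval (ψ t) (p.map jA) := by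
      rw [Polynomial.aeval_def, Polynomial.aeval_def, Polynomial.hom_eval₂, Polynomial.eval₂_map]
      congr 1
    rw [h1, hp, map_mul]
    exact R.mul_mem_left _ hPR
  · have hjs : jA s ≠ 0 := fun e => hs (by
      rw [hι, ← hjA, e, map_zero])
    refine Polynomial.ext fun n => ?_
    rw [Polynomial.coeff_map, Polynomial.coeff_zero, Ideal.Quotient.eq_zero_iff_mem, hRV, Ideal.mem_bot]
    have h1 := congrArg (fun r => Polynomial.coeff r n) e
    simp only [Polynomial.coeff_map, Polynomial.coeff_zero, Ideal.Quotient.eq_zero_iff_mem] at h1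
    rw [Ideal.mem_comap, Ideal.mem_comap, hψV, hRV'] at h1
    have h2 := congrArg (fun r => Polynomial.coeff r n) hp
    simp only [Polynomial.coeff_map, Polynomial.coeff_C_mul, h1] at h2
    exact (mul_eq_zero.1 h2.symm).resolve_left hjs

open AlgebraicGeometry CategoryTheory Limits in
/-- Let f : X ⟶ S be locally of finite type and x ⤳ x' a specialization of points of X, with x' a closed
point of its fibre f⁻¹(f(x')) and f(x) ≠ f(x'). Then the points x₁ with f(x₁) = f(x) which are
closed in the fibre f⁻¹(f(x)) and satisfy x ⤳ x₁ ⤳ x' are dense in the closure of {x} intersected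
with the fibre f⁻¹(f(x)) (fibres taken as subspaces of X). (The published statement omits the
condition f(x) ≠ f(x'), but the claim fails without it; it is stated here with that condition.) -/
theorem result {X S : Scheme.{u}} (f : X ⟶ S) [LocallyOfFiniteType f] (x x' : X) (hsp : x ⤳ x') (hne : f x ≠ f x')
    (hcl : IsClosed (Subtype.val ⁻¹' {x'} : Set ↑(f ⁻¹' {f x'}))) :
    Dense (Subtype.val ⁻¹' {x₁ : ↑X | f x₁ = f x ∧ IsClosed (Subtype.val ⁻¹' {x₁} : Set ↑(f ⁻¹' {f x})) ∧ x ⤳ x₁ ∧ x₁ ⤳ x'} :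
      Set ↑(closure {x} ∩ f ⁻¹' {f x})) := by
  refine dense_iff_inter_open.2 fun O' hO' hne' => ?_
  obtain ⟨O, hO, rfl⟩ := isOpen_induced_iff.1 hO'
  obtain ⟨⟨z, hzx, _⟩, hzO⟩ := hne'
  have hxO : x ∈ O := (specializes_iff_mem_closure.2 hzx).mem_open hO hzO
  obtain ⟨U, hU, hxU, -⟩ := exists_isAffineOpen_mem_and_subset (U := (⊤ : S.Opens)) (x := f x') trivial
  obtain ⟨W, hW, hx'W, hWU⟩ := exists_isAffineOpen_mem_and_subset (U := f ⁻¹ᵁ U) (x := x') hxU
  have hxW : x ∈ W := hsp.mem_open W.isOpen hx'W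
  have e : W ≤ f ⁻¹ᵁ U := hWU
  letI : Algebra Γ(S, U) Γ(X, W) := (f.appLE U W e).hom.toAlgebra
  haveI : Algebra.FiniteType Γ(S, U) Γ(X, W) := f.finiteType_appLE hU hW e
  let i := hU.fromSpec
  let j := hW.fromSpec
  have hsq : j ≫ f = Spec.map (CommRingCat.ofHom (algebraMap Γ(S, U) Γ(X, W))) ≫ i :=
    (IsAffineOpen.SpecMap_appLE_fromSpec f hU hW e).symm
  have hjf : ∀ q : PrimeSpectrum Γ(X, W), f (j q) = i (PrimeSpectrum.comap (algebraMap Γ(S, U) Γ(X, W)) q) :=
    fun q => by
      rw [← Scheme.Hom.comp_apply, hsq]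
      rfl
  obtain ⟨P, hP⟩ : x ∈ Set.range j := by rw [hW.range_fromSpec]; exact hxW
  obtain ⟨P', hP'⟩ : x' ∈ Set.range j := by rw [hW.range_fromSpec]; exact hx'W
  have hPP' : P.asIdeal ≤ P'.asIdeal := (PrimeSpectrum.le_iff_specializes P P').2
    (j.isOpenEmbedding.isInducing.specializes_iff.1 (by rw [hP, hP']; exact hsp))
  obtain ⟨_, ⟨_, ⟨r, rfl⟩, rfl⟩, hrP, hrO⟩ := PrimeSpectrum.isBasis_basic_opens.exists_subset_of_mem_open
    (show P ∈ j ⁻¹' O by show j P ∈ O; rw [hP]; exact hxO) (hO.preimage j.continuous)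
  let mk := Ideal.Quotient.mk P.asIdeal
  have hmk : RingHom.ker mk ≤ P'.asIdeal := by rw [Ideal.mk_ker]; exact hPP'
  let Q := P'.asIdeal.map mk
  haveI : Q.IsPrime := Ideal.map_isPrime_of_surjective Ideal.Quotient.mk_surjective hmk
  have hQ : Q.comap mk = P'.asIdeal := by
    rw [Ideal.comap_map_of_surjective mk Ideal.Quotient.mk_surjective, sup_eq_left, ← RingHom.ker_eq_comap_bot]
    exact hmk
  have hfd : ∀ R : Ideal (Γ(X, W) ⧸ P.asIdeal), ∀ _ : R.IsPrime,
      DimFormula.fd Γ(S, U) R = DimFormula.fd Γ(S, U) (R.comap mk) := fun R _ =>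
    (DimFormula.fd_comap_of_surjective Γ(S, U) (Ideal.Quotient.mkₐ Γ(S, U) P.asIdeal) Ideal.Quotient.mk_surjective R).symm
  have hQ0 : DimFormula.fd Γ(S, U) Q = 0 := by
    rw [hfd Q inferInstance]
    simp only [hQ]
    rw [← FlatB12.rd_chart_eq_fd f i j hsq P', hP']
    exact FlatB12.rd_eq_zero_of_isClosed_in_fibre f hcl
  have hunder : ∀ R : Ideal (Γ(X, W) ⧸ P.asIdeal), R.under Γ(S, U) = (R.comap mk).under Γ(S, U) := fun R => rfl
  have hbot : (⊥ : Ideal (Γ(X, W) ⧸ P.asIdeal)).comap mk = P.asIdeal := by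
    rw [← RingHom.ker_eq_comap_bot, Ideal.mk_ker]
  have hne2 : Q.under Γ(S, U) ≠ (⊥ : Ideal (Γ(X, W) ⧸ P.asIdeal)).under Γ(S, U) := fun he => hne (by
    rw [hunder, hunder, hQ, hbot] at he
    rw [← hP, ← hP', hjf, hjf, show PrimeSpectrum.comap (algebraMap Γ(S, U) Γ(X, W)) P' =
      PrimeSpectrum.comap (algebraMap Γ(S, U) Γ(X, W)) P from PrimeSpectrum.ext he])
  have hr0 : mk r ≠ 0 := fun h0 => hrP (Ideal.Quotient.eq_zero_iff_mem.1 h0)
  obtain ⟨R, hRp, hRQ, hRA, hrR, hR0⟩ := exists_between Q hQ0 hne2 (mk r) hr0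
  let R₁ : PrimeSpectrum Γ(X, W) := ⟨R.comap mk, inferInstance⟩
  have h1 : P.asIdeal ≤ R₁.asIdeal := hbot ▸ Ideal.comap_mono bot_le
  have h2 : R₁.asIdeal ≤ P'.asIdeal := hQ ▸ Ideal.comap_mono hRQ
  have hfR : f (j R₁) = f x := by
    rw [← hP, hjf, hjf]
    congr 1
    refine PrimeSpectrum.ext ?_
    show (R.comap mk).under Γ(S, U) = P.asIdeal.under Γ(S, U)
    rw [← hunder, hRA, hunder, hbot]
  have hxR : x ⤳ j R₁ := hP ▸ ((PrimeSpectrum.le_iff_specializes P R₁).1 h1).map j.continuous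
  have hRx : j R₁ ⤳ x' := hP' ▸ ((PrimeSpectrum.le_iff_specializes R₁ P').1 h2).map j.continuous
  have hrd : FibDim.rd f (j R₁) = 0 := by
    rw [FlatB12.rd_chart_eq_fd f i j hsq R₁, ← hR0, hfd R hRp]
  exact ⟨⟨j R₁, specializes_iff_mem_closure.1 hxR, hfR⟩, hrO hrR, hfR,
    FlatB12.isClosed_in_fibre_of_rd_eq_zero f (f x) hfR hrd, hxR, hRx⟩

end Groth.Agent.S1374
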