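import Groth.Statements.S13740
import Groth.Agent.SGA1Q.SigmaFinite
import Mathlib

set_option backward.isDefEq.respectTransparency false
set_option backward.isDefEq.respectTransparency.types false

set_option autoImplicit false
universe w u
open SGA1

namespace Groth.Agent.S13740

open CategoryTheory CategoryTheory.Limits AlgebraicGeometry in
/-- Let S be a separated Noetherian scheme, π : X → S finite and surjective with X separated, G a finite
group acting on X by S-automorphisms and transitively on the geometric points of X over every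
geometric point of S, and F a presheaf of sets on schemes satisfying the sheaf condition for every
finite family of quasi-finite morphisms of finite type whose induced morphism from the disjoint
union is universally submersive (a qfh-sheaf). Then pulling back along π identifies F(S) with the
G-invariant elements of F(X): F(π) is injective with image the invariants. (The published statement
takes F a qfh-sheaf on Noetherian schemes over S; this row takes a presheaf on all schemes with the
sheaf property for every such family, a stronger hypothesis.) -/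
theorem result {X S : Scheme.{u}} [IsNoetherian S] [S.IsSeparated] [X.IsSeparated] (q : X ⟶ S) [IsFinite q] [Surjective q] {G : Type u} [Group G] [Finite G] (ρ : G →* Aut X) (hρ : ∀ g : G, (ρ g).hom ≫ q = q) (htrans : ∀ (Ω : Type u) [Field Ω] [IsAlgClosed Ω] (τ₁ τ₂ : Spec (CommRingCat.of Ω) ⟶ X), τ₁ ≫ q = τ₂ ≫ q → ∃ g : G, τ₁ ≫ (ρ g).hom = τ₂) (F : Scheme.{u}ᵒᵖ ⥤ Type w) (hF : ∀ ⦃T : Scheme.{u}⦄ (E : PreZeroHypercover.{u} T), Finite E.I₀ → (∀ i, LocallyOfFiniteType (E.f i)) → (∀ i, QuasiCompact (E.f i)) → (∀ i, LocallyQuasiFinite (E.f i)) → SGA1.UnivSubmersive (Sigma.desc E.f) → Presieve.IsSheafFor F E.presieve₀) : Function.Injective (F.map q.op) ∧ Set.range (F.map q.op) = {f : F.obj (Opposite.op X) | ∀ g : G, F.map (ρ g).hom.op f = f} := by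
  classical
  -- universally closed surjective morphisms are universally submersive
  have hsub : ∀ {A B : Scheme.{u}} (f : A ⟶ B) [IsFinite f] [Surjective f], SGA1.UnivSubmersive f := by
    intro A B f _ _ A' B' a b f' sq
    haveI : IsFinite f' := MorphismProperty.of_isPullback sq.flip ‹_›
    haveI : Surjective f' := MorphismProperty.of_isPullback sq.flip ‹_›
    exact f'.isClosedMap.isQuotientMap f'.continuous f'.surjective
  -- the cover `{q}`
  haveI : IsFinite (Sigma.desc (PreZeroHypercover.singleton.{u} q).f) :=
    _root_.SGA1Q.isFinite_sigmaDesc _ fun _ => ‹IsFinite q›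
  haveI : Surjective (Sigma.desc (PreZeroHypercover.singleton.{u} q).f) := by
    refine ⟨fun s => ?_⟩
    obtain ⟨x, rfl⟩ := q.surjective s
    exact ⟨Sigma.ι (PreZeroHypercover.singleton.{u} q).X PUnit.unit x, by
      rw [← Scheme.Hom.comp_apply, Sigma.ι_desc]; rfl⟩
  have hq : Presieve.IsSheafFor F (Presieve.singleton q) := by
    have := hF (PreZeroHypercover.singleton.{u} q) (inferInstanceAs (Finite PUnit))
      (fun _ => inferInstanceAs (LocallyOfFiniteType q)) (fun _ => inferInstanceAs (QuasiCompact q))
      (fun _ => inferInstanceAs (LocallyQuasiFinite q)) (hsub _)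
    rwa [PreZeroHypercover.presieve₀_singleton] at this
  rw [Presieve.isSheafFor_singleton] at hq
  have hcomp : ∀ (y : F.obj (Opposite.op S)) {Z : Scheme.{u}} (p₁ p₂ : Z ⟶ X), p₁ ≫ q = p₂ ≫ q →
      F.map p₁.op (F.map q.op y) = F.map p₂.op (F.map q.op y) := fun y Z p₁ p₂ h => by
    rw [← Functor.map_comp_apply, ← op_comp, h, op_comp, Functor.map_comp_apply]
  refine ⟨fun a b hab => (hq (F.map q.op b) (hcomp b)).unique hab rfl, Set.ext fun x => ⟨?_, fun hx => ?_⟩⟩
  · rintro ⟨y, rfl⟩ g
    rw [← Functor.map_comp_apply, ← op_comp, hρ g]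
  -- the graphs of the group elements
  let Δ : G → (X ⟶ pullback q q) := fun g => pullback.lift (𝟙 X) (ρ g).hom (by rw [Category.id_comp, hρ g])
  have hΔ : ∀ g, IsFinite (Δ g) := fun g => by
    haveI : IsClosedImmersion (Δ g ≫ pullback.fst q q) := by
      rw [pullback.lift_fst]; infer_instance
    haveI : IsClosedImmersion (Δ g) := IsClosedImmersion.of_comp (Δ g) (pullback.fst q q)
    infer_instance
  let E : PreZeroHypercover.{u} (pullback q q) := { I₀ := G, X := fun _ => X, f := Δ }
  haveI : IsFinite (Sigma.desc E.f) := by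
    haveI : Finite E.I₀ := ‹Finite G›
    exact _root_.SGA1Q.isFinite_sigmaDesc _ hΔ
  haveI : Surjective (Sigma.desc E.f) := by
    refine ⟨fun z => ?_⟩
    let Ω := AlgebraicClosure ((pullback q q).residueField z)
    let τ : Spec (CommRingCat.of Ω) ⟶ pullback q q :=
      Spec.map (CommRingCat.ofHom (algebraMap ((pullback q q).residueField z) Ω)) ≫
        (pullback q q).fromSpecResidueField z
    obtain ⟨g, hg⟩ := htrans Ω (τ ≫ pullback.fst q q) (τ ≫ pullback.snd q q)
      (by simp only [Category.assoc, pullback.condition])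
    have hτ : (τ ≫ pullback.fst q q) ≫ Δ g = τ := by
      apply pullback.hom_ext
      · rw [Category.assoc, pullback.lift_fst, Category.comp_id]
      · rw [Category.assoc, pullback.lift_snd, hg]
    obtain ⟨pt⟩ : Nonempty (Spec (CommRingCat.of Ω)) := inferInstance
    refine ⟨Sigma.ι E.X g ((τ ≫ pullback.fst q q) pt), ?_⟩
    rw [← Scheme.Hom.comp_apply, Sigma.ι_desc]
    show Δ g ((τ ≫ pullback.fst q q) pt) = z
    rw [← Scheme.Hom.comp_apply, hτ, Scheme.Hom.comp_apply]
    exact Scheme.fromSpecResidueField_apply _ _
  have hsep := (hF E ‹Finite G› (fun g => haveI := hΔ g; inferInstanceAs (LocallyOfFiniteType (Δ g)))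
    (fun g => haveI := hΔ g; inferInstanceAs (QuasiCompact (Δ g)))
    (fun g => haveI := hΔ g; inferInstanceAs (LocallyQuasiFinite (Δ g))) (hsub _)).isSeparatedFor
  have key : F.map (pullback.fst q q).op x = F.map (pullback.snd q q).op x := by
    refine hsep.ext fun Y f hf => ?_
    obtain ⟨g⟩ := hf
    rw [← Functor.map_comp_apply, ← Functor.map_comp_apply, ← op_comp, ← op_comp]
    show F.map (Δ g ≫ pullback.fst q q).op x = F.map (Δ g ≫ pullback.snd q q).op x
    rw [pullback.lift_fst, pullback.lift_snd, hx g, op_id, Functor.map_id_apply]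
  obtain ⟨y, hy, -⟩ := hq x fun {Z} p₁ p₂ h => by
    rw [← pullback.lift_fst p₁ p₂ h, op_comp, Functor.map_comp_apply, key,
      ← Functor.map_comp_apply, ← op_comp, pullback.lift_snd]
  exact ⟨y, hy⟩

end Groth.Agent.S13740
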