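import Groth.Statements.S13770
import Groth.Agent.CanParLib.Uniform
-- import your own Groth.Agent.* helpers here

set_option autoImplicit false
set_option linter.style.haveILetI false
set_option linter.unusedVariables false
set_option backward.isDefEq.respectTransparency false
set_option backward.isDefEq.respectTransparency.types false
universe u
open CategoryTheory CategoryTheory.Limits MonoidalCategory CartesianMonoidalCategory MonObj GrpObj AlgebraicGeometry
open CanPar

namespace Groth.Agent.S13770

open Groth.Agent Groth.Agent.CurveBundle Groth.Agent.CurveSlope Groth.Agent.CurveStable Groth.Agent.CanParLib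

/-- Let S be a Noetherian scheme, p : X → S a curve over S (smooth, proper, with geometrically connected
fibres of dimension one) and G a reductive group scheme over X. Then the degrees of instability of
the fibres of G are uniformly bounded: there is an integer M such that for every field K and every
morphism x : Spec K → S, every parabolic subgroup P of the restriction G_K of G to the curve X_K = X
×_S Spec K over K has degree at most M. The degree of a parabolic subgroup is that of its Lie
algebra bundle, written as minus the degree over K of the locally free module e^*Ω of invariant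
differentials (dual to the Lie algebra, of the rank quantified in the statement). (The published
statement takes X projective over S; this row takes X proper over S, which is all that its proof
uses: the bound for a single curve over a field applied fibre by fibre, local constancy of the rank
and of the genus, upper semicontinuity of the dimension of the space of global sections in a proper
flat family, and Noetherian induction on S.) -/
theorem result
    (S X : Scheme.{u}) [IsNoetherian S] (p : X ⟶ S) [Smooth p] [IsProper p] [GeometricallyConnected p]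
    (hdim : ∀ s : S, topologicalKrullDim (p.fiber s) = 1)
    (G : Over X) [GrpObj G] (hG : Red.IsReductive G) :
    ∃ M : ℤ, ∀ (K : Type u) [Field K] (x : Spec (CommRingCat.of K) ⟶ S)
      (P : Over (pullback p x)) [GrpObj P] (i : P ⟶ Red.bc (pullback.fst p x) G), Red.IsParabolic i →
      ∀ n : ℕ, FlatMod.IsFinLocFreeOfRank n (LieS.omega P) →
        -@Curv2.deg K _ (pullback p x) ⟨pullback.snd p x⟩ (LieS.omega P) n ≤ M := by
  haveI : IsAffineHom G.hom := hG.1
  haveI : Smooth G.hom := hG.2.1
  haveI : IsLocallyNoetherian X := LocallyOfFiniteType.isLocallyNoetherian p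
  haveI : CompactSpace X := QuasiCompact.compactSpace_of_compactSpace p
  have hE := isFinLocFree_lieOmega G
  have hEc : Coh.IsCoh (LieS.omega G) :=
    ⟨QCoh.isQCoh_of_isFinLocFree hE, QCoh.isFT_of_isFP (QCoh.isFP_of_isFinLocFree hE)⟩
  have hO : FlatMod.IsFinLocFree (Coh.structureModule X) :=
    isFinLocFree_of_rank (InvEnd.isFinLocFreeOfRank_one CurveDeg.isInvertible_structureModule)
  obtain ⟨R, hR⟩ := exists_rank_bound hE
  obtain ⟨N, hN⟩ := exists_bound p (LieS.omega G) hEc (isFlatOver_of_free p hE) 1
  obtain ⟨N₀, hN₀⟩ := exists_bound p (Coh.structureModule X)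
    ⟨QCoh.isQCoh_structureModule, QCoh.isFT_of_isFP (QCoh.isFP_of_isFinLocFree hO)⟩ (isFlatOver_of_free p hO) 0
  obtain ⟨N₁, hN₁⟩ := exists_bound p (Coh.structureModule X)
    ⟨QCoh.isQCoh_structureModule, QCoh.isFT_of_isFP (QCoh.isFP_of_isFinLocFree hO)⟩ (isFlatOver_of_free p hO) 1
  refine ⟨(N : ℤ) + 2 * (R : ℤ) * ((N₀ : ℤ) + N₁), fun K _ x P _ i hi n hn => ?_⟩
  letI : (pullback p x).Over (Spec (CommRingCat.of K)) := ⟨pullback.snd p x⟩
  haveI : IsProper ((pullback p x) ↘ Spec (CommRingCat.of K)) := inferInstanceAs (IsProper (pullback.snd p x))
  haveI : Smooth ((pullback p x) ↘ Spec (CommRingCat.of K)) := inferInstanceAs (Smooth (pullback.snd p x))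
  haveI : GeometricallyConnected ((pullback p x) ↘ Spec (CommRingCat.of K)) :=
    inferInstanceAs (GeometricallyConnected (pullback.snd p x))
  haveI := isIntegral_of_geometricallyConnected K (X := pullback p x)
  have hd : topologicalKrullDim (↥(pullback p x)) = 1 := dim_fibre p hdim x
  haveI := isLocallyNoetherian' K (X := pullback p x)
  let G' : Over (pullback p x) := Red.bc (pullback.fst p x) G
  haveI : IsAffineHom G'.hom := MorphismProperty.pullback_snd G.hom (pullback.fst p x) inferInstance
  haveI : Smooth G'.hom := inferInstanceAs (Smooth (pullback.snd G.hom (pullback.fst p x)))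
  haveI : IsMonHom i := hi.1
  haveI : IsClosedImmersion i.left := hi.2.1
  obtain ⟨q, hq⟩ := exists_epi_lieOmega i
  obtain ⟨e⟩ := nonempty_lieOmega_bc (pullback.fst p x) G
  let E := (Scheme.Modules.pullback (pullback.fst p x)).obj (LieS.omega G)
  have hEf : FlatMod.IsFinLocFree E := KFlatLib.isFinLocFree_pullback _ hE
  haveI : Epi (e.hom ≫ q) := epi_comp _ _
  have h := dg_quot_ge K hd.le hEf (isFinLocFree_of_rank hn) (e.hom ≫ q)
  rw [deg_eq_dg K hn]
  have h1 : (Module.finrank K (Coh.HH (pullback p x) E 1) : ℤ) ≤ N := by exact_mod_cast hN K x
  have h2 : (rk E : ℤ) ≤ R := by exact_mod_cast hR (pullback p x) (pullback.fst p x)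
  let eO : (Scheme.Modules.pullback (pullback.fst p x)).obj (Coh.structureModule X) ≅
      Coh.structureModule (pullback p x) := CurveBC.unitIso _
  have h3 : (Module.finrank K (Coh.HH (pullback p x) (Coh.structureModule (pullback p x)) 0) : ℤ) ≤ N₀ := by
    rw [← (CurveCohLib.hhEquiv (k := K) eO 0).finrank_eq]
    exact_mod_cast hN₀ K x
  have h4 : (Module.finrank K (Coh.HH (pullback p x) (Coh.structureModule (pullback p x)) 1) : ℤ) ≤ N₁ := by
    rw [← (CurveCohLib.hhEquiv (k := K) eO 1).finrank_eq]
    exact_mod_cast hN₁ K x
  have h5 := mul_le_mul h2 (add_le_add h3 h4) (by positivity) (Int.natCast_nonneg R)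
  linarith

end Groth.Agent.S13770
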