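import Groth.Statements.S13846
import Mathlib.Algebra.DirectSum.Decomposition
import Mathlib.LinearAlgebra.GeneralLinearGroup.AlgEquiv
import Mathlib.Algebra.Central.End
import Mathlib.LinearAlgebra.Dual.Lemmas

set_option autoImplicit false
universe u v
open TwSh

namespace Groth.Agent.S13846

open DirectSum hiding Decomposition in
lemma proj_comm {k : Type u} [Field k] {V W : Type v} [AddCommGroup V] [Module k V] [AddCommGroup W] [Module k W]
    (A : ℤ → Submodule k V) [DirectSum.Decomposition A] (B : ℤ → Submodule k W) [DirectSum.Decomposition B]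
    (T : V →ₗ[k] W) (n : ℤ) (hT : ∀ l x, x ∈ A l → T x ∈ B (l + n)) (l : ℤ) (x : V) :
    (decompose B (T x) (l + n) : W) = T (decompose A x l : V) := by
  induction x using DirectSum.Decomposition.inductionOn A with
  | zero => simp
  | add a b ha hb => simp [ha, hb]
  | @homogeneous i m =>
    rcases eq_or_ne i l with rfl | h
    · rw [decompose_of_mem_same B (hT i m m.2), decompose_of_mem_same A m.2]
    · rw [decompose_of_mem_ne B (hT i m m.2) (by simpa using h), decompose_of_mem_ne A m.2 h, map_zero]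

/-- Let k be a field and V, W finite-dimensional ℤ-graded k-vector spaces, V = ⊕ V_i with V ≠ 0 and W =
⊕ W_i. Let φ : End_k(V) ≃ End_k(W) be a k-algebra isomorphism which sends every endomorphism
homogeneous of degree d (one mapping V_i into V_{i+d} for all i) to an endomorphism homogeneous of
degree d. Then there are an integer n and a k-linear isomorphism g : V ≅ W with g(V_i) = W_{i+n} for
every i such that φ(f) = g ∘ f ∘ g⁻¹ for all f; moreover n is unique and g is unique up to a nonzero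
scalar: if g' : V ≅ W satisfies g'(V_i) = W_{i+n'} for all i and φ(f) = g' ∘ f ∘ g'⁻¹ for all f,
then n' = n and g' = c·g for some c ∈ kˣ. (The published statement is about non-zero perfect
complexes over k: an isomorphism of their derived endomorphism algebras, as algebra objects of the
derived category, is induced by an isomorphism from the first complex to a shift of the second, for
a unique shift and up to a unit; this row is its form for finite-dimensional ℤ-graded vector spaces,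
to which the bounded derived category of a field is equivalent by taking cohomology.) -/
theorem result (k : Type u) [Field k] (V W : Type v) [AddCommGroup V] [Module k V] [FiniteDimensional k V] [Nontrivial V] [AddCommGroup W] [Module k W] [FiniteDimensional k W] (𝒱 : ℤ → Submodule k V) (h𝒱 : DirectSum.IsInternal 𝒱) (𝒲 : ℤ → Submodule k W) (h𝒲 : DirectSum.IsInternal 𝒲) (φ : Module.End k V ≃ₐ[k] Module.End k W) (hφ : ∀ (d : ℤ) (f : Module.End k V), (∀ (i : ℤ) (x : V), x ∈ 𝒱 i → f x ∈ 𝒱 (i + d)) → ∀ (i : ℤ) (y : W), y ∈ 𝒲 i → φ f y ∈ 𝒲 (i + d)) : ∃ (n : ℤ) (g : V ≃ₗ[k] W), (∀ i : ℤ, Submodule.map (g : V →ₗ[k] W) (𝒱 i) = 𝒲 (i + n)) ∧ (∀ f : Module.End k V, φ f = (g : V →ₗ[k] W) ∘ₗ f ∘ₗ (g.symm : W →ₗ[k] V)) ∧ ∀ (n' : ℤ) (g' : V ≃ₗ[k] W), (∀ i : ℤ, Submodule.map (g' : V →ₗ[k] W) (𝒱 i) = 𝒲 (i + n')) → (∀ f : Module.End k V, φ f = (g' : V →ₗ[k] W) ∘ₗ f ∘ₗ (g'.symm : W →ₗ[k] V)) → n' = n ∧ ∃ c : kˣ, ∀ x : V, g' x = c • g x := by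
  classical
  letI := DirectSum.IsInternal.chooseDecomposition _ h𝒱
  letI := DirectSum.IsInternal.chooseDecomposition _ h𝒲
  obtain ⟨g, hg⟩ := φ.eq_linearEquivConjAlgEquiv
  have hconj : ∀ f : Module.End k V, φ f = (g : V →ₗ[k] W) ∘ₗ f ∘ₗ (g.symm : W →ₗ[k] V) := by
    intro f; rw [hg]; ext x; simp [LinearEquiv.conjAlgEquiv_apply]
  have hca : ∀ (f : Module.End k V) (x : V), φ f (g x) = g (f x) := by
    intro f x; simp [hconj f]
  have hex : ∃ i, ∃ v ∈ 𝒱 i, v ≠ 0 := by
    by_contra hh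
    push Not at hh
    have htop : (⊤ : Submodule k V) = ⊥ := by
      rw [← DirectSum.IsInternal.submodule_iSup_eq_top h𝒱]
      simp only [iSup_eq_bot]
      exact fun i => (Submodule.eq_bot_iff _).2 (hh i)
    exact top_ne_bot htop
  obtain ⟨i₀, v₀, hv₀, hv₀0⟩ := hex
  let p : V →ₗ[k] V := (𝒱 i₀).subtype ∘ₗ DirectSum.component k ℤ (fun i => 𝒱 i) i₀ ∘ₗ
    (DirectSum.decomposeLinearEquiv 𝒱).toLinearMap
  have hp : ∀ x, p x = (DirectSum.decompose 𝒱 x i₀ : V) := fun x => rfl
  obtain ⟨a, ha⟩ : ∃ a, (DirectSum.decompose 𝒲 (g v₀) a : W) ≠ 0 := by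
    by_contra hh
    push Not at hh
    apply hv₀0
    apply g.injective
    rw [map_zero, ← DirectSum.sum_support_decompose 𝒲 (g v₀)]
    exact Finset.sum_eq_zero fun i _ => hh i
  have hφp := hφ 0 p (fun i x hx => by
    rw [hp, add_zero]
    rcases eq_or_ne i i₀ with rfl | h
    · exact SetLike.coe_mem _
    · rw [DirectSum.decompose_of_mem_ne 𝒱 hx h]; exact zero_mem _)
  set u₀ := g.symm (DirectSum.decompose 𝒲 (g v₀) a : W) with hu₀def
  have hgu : g u₀ = (DirectSum.decompose 𝒲 (g v₀) a : W) := g.apply_symm_apply _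
  have hu₀ : p u₀ = u₀ := by
    apply g.injective
    rw [← hca, hgu]
    have := proj_comm 𝒲 𝒲 (φ p) 0 hφp a (g v₀)
    rw [add_zero] at this
    rw [← this, hca, hp, DirectSum.decompose_of_mem_same 𝒱 hv₀]
  have hu₀0 : u₀ ≠ 0 := fun h => ha (by rw [← hgu, h, map_zero])
  obtain ⟨lam, hlam⟩ := Module.Projective.exists_dual_eq_one k hu₀0
  set n := a - i₀ with hn
  have hmap : ∀ j w, w ∈ 𝒱 j → g w ∈ 𝒲 (j + n) := by
    intro j w hw
    have h2 := hφ (j - i₀) (((lam : Module.Dual k V) ∘ₗ p).smulRight w) (fun i x hx => by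
      simp only [LinearMap.smulRight_apply, LinearMap.comp_apply]
      rcases eq_or_ne i i₀ with rfl | h
      · rw [add_sub_cancel]; exact Submodule.smul_mem _ _ hw
      · rw [hp, DirectSum.decompose_of_mem_ne 𝒱 hx h, map_zero, zero_smul]; exact zero_mem _)
      a (g u₀) (hgu ▸ SetLike.coe_mem _)
    rw [hca, LinearMap.smulRight_apply, LinearMap.comp_apply, hu₀, hlam, one_smul] at h2
    rwa [hn, show j + (a - i₀) = a + (j - i₀) by ring]
  have heq : ∀ j, Submodule.map (g : V →ₗ[k] W) (𝒱 j) = 𝒲 (j + n) := by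
    intro j
    refine le_antisymm ?_ (fun y hy => ?_)
    · rintro _ ⟨w, hw, rfl⟩
      exact hmap j w hw
    · refine ⟨(DirectSum.decompose 𝒱 (g.symm y) j : V), SetLike.coe_mem _, ?_⟩
      rw [← proj_comm 𝒱 𝒲 (g : V →ₗ[k] W) n hmap j (g.symm y)]
      simp only [LinearEquiv.coe_coe, LinearEquiv.apply_symm_apply]
      exact DirectSum.decompose_of_mem_same 𝒲 hy
  refine ⟨n, g, heq, hconj, fun n' g' hn' hc' => ?_⟩
  have hc : g'.conjAlgEquiv k = g.conjAlgEquiv k := by
    rw [← hg]; ext f x; rw [hc']; simp [LinearEquiv.conjAlgEquiv_apply]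
  obtain ⟨c, hcc⟩ := (LinearEquiv.conjAlgEquiv_ext_iff' g' g).1 hc
  have hcx : ∀ x, g' x = c • g x := fun x => by rw [hcc]; rfl
  refine ⟨?_, c, hcx⟩
  by_contra hne
  have h1 : g v₀ ∈ 𝒲 (i₀ + n) := hmap i₀ v₀ hv₀
  have h2 : g v₀ ∈ 𝒲 (i₀ + n') := by
    have : g' v₀ ∈ 𝒲 (i₀ + n') := hn' i₀ ▸ Submodule.mem_map_of_mem hv₀
    rw [hcx] at this
    exact (Submodule.smul_mem_iff' _ c).1 this
  apply hv₀0
  apply g.injective
  rw [map_zero, ← DirectSum.decompose_of_mem_same 𝒲 h1]
  exact DirectSum.decompose_of_mem_ne 𝒲 h2 (by simpa using hne)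

end Groth.Agent.S13846
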