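import Groth.Statements.S13847
import Mathlib.RingTheory.SimpleModule.WedderburnArtin
import Mathlib.RingTheory.Jacobson.Radical
import Mathlib.LinearAlgebra.Quotient.Basic
import Mathlib.Algebra.Module.Projective
import Mathlib.RingTheory.Jacobson.Semiprimary
import Mathlib.RingTheory.Jacobson.Ideal
import Mathlib.Algebra.Module.Torsion.Basic
import Mathlib.RingTheory.Length
import Mathlib.LinearAlgebra.DFinsupp

set_option autoImplicit false
universe u v
open TwSh

namespace Groth.Agent.S13847

variable {A : Type u} [Ring A]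

abbrev jTop (A : Type u) [Ring A] (P : Type v) [AddCommGroup P] [Module A P] : Submodule A P :=
  Ring.jacobson A • (⊤ : Submodule A P)

section
variable (P : Type v) [AddCommGroup P] [Module A P]

lemma jTop_torsion : Module.IsTorsionBySet A (P ⧸ jTop A P) (Ring.jacobson A : Set A) := by
  rintro x ⟨r, hr⟩
  obtain ⟨x, rfl⟩ := Submodule.Quotient.mk_surjective _ x
  rw [← Submodule.Quotient.mk_smul, Submodule.Quotient.mk_eq_zero]
  exact Submodule.smul_mem_smul hr (Submodule.mem_top)

lemma jTop_le_comap (f : Module.End A P) : jTop A P ≤ (jTop A P).comap f := by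
  rw [← Submodule.map_le_iff_le_comap, jTop, Submodule.map_smul'']
  exact Submodule.smul_mono le_rfl le_top

noncomputable def bar : Module.End A P →+* Module.End A (P ⧸ jTop A P) where
  toFun f := (jTop A P).mapQ _ f (jTop_le_comap P f)
  map_one' := by ext x; rfl
  map_mul' f g := by ext x; rfl
  map_zero' := by ext x; rfl
  map_add' f g := by ext x; rfl

lemma surjective_of_bar [Module.Finite A P] (Q : Type v) [AddCommGroup Q] [Module A Q] [Module.Finite A Q]
    (h : P →ₗ[A] Q) (hs : Function.Surjective ((jTop A Q).mkQ ∘ₗ h)) : Function.Surjective h := by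
  rw [← LinearMap.range_eq_top]
  by_contra hne
  have hbot : (⊤ : Submodule A (Q ⧸ LinearMap.range h)) = ⊥ := by
    refine Submodule.FG.eq_bot_of_le_jacobson_smul Module.Finite.fg_top fun x _ => ?_
    obtain ⟨x, rfl⟩ := Submodule.mkQ_surjective _ x
    obtain ⟨p, hp⟩ := hs (Submodule.Quotient.mk x)
    have hx : x - h p ∈ jTop A Q := (Submodule.Quotient.eq _).1 hp.symm
    have := Submodule.mem_map_of_mem (f := (LinearMap.range h).mkQ) hx
    rw [jTop, Submodule.map_smul'', map_sub] at this
    rw [show (LinearMap.range h).mkQ (h p) = 0 from (Submodule.Quotient.mk_eq_zero _).2 ⟨p, rfl⟩, sub_zero] at this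
    exact Submodule.smul_mono le_rfl le_top this
  apply hne
  rw [← Submodule.ker_mkQ (LinearMap.range h), LinearMap.ker_eq_top]
  ext x
  simpa using (Submodule.eq_bot_iff _).1 hbot ((LinearMap.range h).mkQ x) Submodule.mem_top

variable [Module.Finite A P] [Module.Projective A P]

lemma bar_surjective : Function.Surjective (bar (A := A) P) := by
  intro g
  obtain ⟨f, hf⟩ := Module.projective_lifting_property (jTop A P).mkQ (g ∘ₗ (jTop A P).mkQ) (Submodule.mkQ_surjective _)
  refine ⟨f, ?_⟩
  ext x
  exact LinearMap.congr_fun hf x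

/-- A lift of an isomorphism modulo the Jacobson radical is an isomorphism. -/
lemma bijective_of_bar (Q : Type v) [AddCommGroup Q] [Module A Q] [Module.Finite A Q] [Module.Projective A Q]
    (h : P →ₗ[A] Q) (e : (P ⧸ jTop A P) ≃ₗ[A] (Q ⧸ jTop A Q))
    (he : (jTop A Q).mkQ ∘ₗ h = e.toLinearMap ∘ₗ (jTop A P).mkQ) : Function.Bijective h := by
  have hsurj : Function.Surjective h := surjective_of_bar P Q h (by
    rw [he]; exact e.surjective.comp (Submodule.mkQ_surjective _))
  obtain ⟨s, hs⟩ := Module.projective_lifting_property h LinearMap.id hsurj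
  have hsh : ∀ q, h (s q) = q := fun q => LinearMap.congr_fun hs q
  have hss : Function.Surjective s := by
    refine surjective_of_bar Q P s fun y => ?_
    obtain ⟨x, rfl⟩ := Submodule.mkQ_surjective _ y
    refine ⟨h x, e.injective ?_⟩
    have h1 := LinearMap.congr_fun he (s (h x))
    have h2 := LinearMap.congr_fun he x
    simp only [LinearMap.comp_apply, LinearEquiv.coe_coe, hsh] at h1 h2
    simp only [LinearMap.comp_apply]
    rw [← h1, ← h2]
  refine ⟨fun x y hxy => ?_, hsurj⟩
  obtain ⟨a, rfl⟩ := hss x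
  obtain ⟨b, rfl⟩ := hss y
  rw [hsh, hsh] at hxy
  rw [hxy]

lemma bar_ker [IsSemisimpleModule A (P ⧸ jTop A P)] : RingHom.ker (bar (A := A) P) = Ring.jacobson (Module.End A P) := by
  refine le_antisymm ?_ ?_
  · rw [← Ideal.jacobson_bot]
    intro f hf
    rw [Ideal.mem_jacobson_iff]
    intro g
    have hb : bar (A := A) P (1 + g * f) = 1 := by rw [map_add, map_mul, (RingHom.mem_ker).1 hf, mul_zero, map_one, add_zero]
    obtain ⟨u, hu⟩ := (Module.End.isUnit_iff (1 + g * f)).2 (bijective_of_bar P P (1 + g * f) (LinearEquiv.refl A _) (by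
      ext x; exact LinearMap.congr_fun hb ((jTop A P).mkQ x)))
    refine ⟨(u⁻¹ : (Module.End A P)ˣ), ?_⟩
    have h1 := u.inv_mul
    rw [hu, mul_add, mul_one, ← mul_assoc] at h1
    rw [Ideal.mem_bot, sub_eq_zero, add_comm]
    exact h1
  · have := IsSemisimpleRing.moduleEnd A (P ⧸ jTop A P)
    intro f hf
    have : RingHomSurjective (bar (A := A) P) := ⟨bar_surjective P⟩
    have h := Ring.map_jacobson_le (bar (A := A) P) (Submodule.mem_map_of_mem hf)
    rw [IsSemisimpleRing.jacobson_eq_bot] at h
    exact h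

end

open DirectSum in
/-- An isotypic semisimple module admitting `m` nonzero orthogonal idempotent endomorphisms has length at least `m`. -/
lemma card_le_length (M : Type v) [AddCommGroup M] [Module A M] {m : ℕ} (E : Fin m → Module.End A M)
    (hne : ∀ i, E i ≠ 0) (hsq : ∀ i, E i * E i = E i) (horth : ∀ i j, i ≠ j → E i * E j = 0) :
    (m : ℕ∞) ≤ Module.length A M := by
  let F : (Π i, LinearMap.range (E i)) →ₗ[A] M :=
    ∑ i, (LinearMap.range (E i)).subtype ∘ₗ LinearMap.proj i
  have hF : Function.Injective F := by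
    rw [injective_iff_map_eq_zero]
    intro x hx
    funext j
    apply Subtype.ext
    obtain ⟨y, hy⟩ := (x j).2
    have := congrArg (E j) hx
    rw [map_zero] at this
    simp only [F, LinearMap.sum_apply, map_sum, LinearMap.comp_apply, LinearMap.proj_apply, Submodule.subtype_apply] at this
    rw [Finset.sum_eq_single j (fun i _ hij => ?_) (by simp)] at this
    · rw [← hy, ← Module.End.mul_apply, hsq, hy] at this
      exact this
    · obtain ⟨z, hz⟩ := (x i).2
      rw [← hz, ← Module.End.mul_apply, horth j i (Ne.symm hij)]; rfl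
  refine le_trans ?_ (Module.length_le_of_injective F hF)
  rw [Module.length_pi_of_fintype]
  calc (m : ℕ∞) = ∑ _i : Fin m, 1 := by simp
    _ ≤ _ := Finset.sum_le_sum fun i _ => by
      rw [Order.one_le_iff_pos, Module.length_pos_iff, Submodule.nontrivial_iff_ne_bot, Ne, LinearMap.range_eq_bot]
      exact hne i

lemma exists_orth_idem (S : Type*) [AddCommGroup S] [Module A S] [IsSimpleModule A S] {M : Type*}
    [AddCommGroup M] [Module A M] {m : ℕ} (e : M ≃ₗ[A] (Fin m → S)) :
    ∃ E : Fin m → Module.End A M, (∀ i, E i ≠ 0) ∧ (∀ i, E i * E i = E i) ∧ (∀ i j, i ≠ j → E i * E j = 0) := by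
  refine ⟨fun i => e.symm.toLinearMap ∘ₗ (LinearMap.single A (fun _ => S) i ∘ₗ LinearMap.proj i) ∘ₗ e.toLinearMap,
    fun i h => ?_, fun i => ?_, fun i j hij => ?_⟩
  · obtain ⟨s, hs⟩ := @exists_ne S (IsSimpleModule.nontrivial A S) 0
    have := LinearMap.congr_fun h (e.symm (Pi.single i s))
    simp [hs] at this
  · ext x; simp
  · ext x; simp [hij]


/-- Let A be a ring which is strongly local, that is, the quotient of A by its Jacobson radical J is a
simple left-Artinian ring, and let P and Q be finitely generated projective left A-modules. If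
End_A(P) and End_A(Q) are isomorphic as rings, then P ≅ Q as A-modules. (The published assertion
says more, that every ring isomorphism End_A(P) ≅ End_A(Q) is induced by an isomorphism P ≅ Q; that
is not correct for isomorphisms which are not linear over the centre — complex conjugation is a ring
automorphism of End_ℂ(ℂ) = ℂ induced by no ℂ-linear map — and this row keeps the existence of an
isomorphism P ≅ Q, which is what the first part of the printed proof establishes.) -/
theorem result (A : Type u) [Ring A] [IsSimpleRing (A ⧸ Ring.jacobson A)] [IsArtinianRing (A ⧸ Ring.jacobson A)] (P Q : Type v) [AddCommGroup P] [Module A P] [Module.Finite A P] [Module.Projective A P] [AddCommGroup Q] [Module A Q] [Module.Finite A Q] [Module.Projective A Q] (e : Module.End A P ≃+* Module.End A Q) : Nonempty (P ≃ₗ[A] Q) := by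
  classical
  have mk : ∀ (P : Type v) [AddCommGroup P] [Module A P] [Module.Finite A P],
      IsSemisimpleModule A (P ⧸ jTop A P) ∧ ∀ (S : Ideal (A ⧸ Ring.jacobson A)), IsSimpleModule (A ⧸ Ring.jacobson A) S →
        ∃ m : ℕ, Nonempty ((P ⧸ jTop A P) ≃ₗ[A] (Fin m → S)) := by
    intro P _ _ _
    letI := (jTop_torsion (A := A) P).module
    haveI : IsScalarTower A (A ⧸ Ring.jacobson A) (P ⧸ jTop A P) := (jTop_torsion (A := A) P).isScalarTower
    haveI : Module.Finite (A ⧸ Ring.jacobson A) (P ⧸ jTop A P) := Module.Finite.of_restrictScalars_finite A _ _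
    refine ⟨(jTop_torsion (A := A) P).isSemisimpleModule_iff.1 inferInstance, fun S hS => ?_⟩
    obtain ⟨n, T, e, hT⟩ := IsSemisimpleModule.exists_linearEquiv_fin_dfinsupp (A ⧸ Ring.jacobson A) (P ⧸ jTop A P)
    choose I eI using fun i => (haveI := hT i; IsSemisimpleRing.exists_linearEquiv_ideal_of_isSimpleModule (A ⧸ Ring.jacobson A) (T i))
    have hi : ∀ i, Nonempty (T i ≃ₗ[A ⧸ Ring.jacobson A] S) := fun i => by
      haveI := hT i
      haveI := IsSimpleModule.congr (eI i).some.symm
      exact ⟨(eI i).some.trans ((IsSimpleRing.isIsotypic (A ⧸ Ring.jacobson A) (A ⧸ Ring.jacobson A)) S (I i)).some⟩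
    refine ⟨n, ⟨((e.trans DFinsupp.linearEquivFunOnFintype).trans
      (LinearEquiv.piCongrRight fun i => (hi i).some)).restrictScalars A⟩⟩
  obtain ⟨hP, hP'⟩ := mk P
  obtain ⟨hQ, hQ'⟩ := mk Q
  obtain ⟨n₀, hn₀, S, hS, -⟩ := (IsSimpleRing.isIsotypic (A ⧸ Ring.jacobson A) (A ⧸ Ring.jacobson A)).linearEquiv_fun
  haveI : RingHomSurjective (Ideal.Quotient.mk (Ring.jacobson A)) := ⟨Ideal.Quotient.mk_surjective⟩
  haveI : IsSimpleModule A S :=
    (LinearMap.isSimpleModule_iff_of_bijective
      ({ toFun := id, map_add' := fun _ _ => rfl, map_smul' := fun _ _ => rfl } :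
        S →ₛₗ[Ideal.Quotient.mk (Ring.jacobson A)] S) Function.bijective_id).2 hS
  obtain ⟨m, ⟨eP⟩⟩ := hP' S hS
  obtain ⟨m', ⟨eQ⟩⟩ := hQ' S hS
  have hle : ∀ (P Q : Type v) [AddCommGroup P] [Module A P] [Module.Finite A P] [Module.Projective A P]
      [AddCommGroup Q] [Module A Q] [Module.Finite A Q] [Module.Projective A Q]
      [IsSemisimpleModule A (P ⧸ jTop A P)] [IsSemisimpleModule A (Q ⧸ jTop A Q)]
      (e : Module.End A P ≃+* Module.End A Q) (m m' : ℕ)
      (eP : (P ⧸ jTop A P) ≃ₗ[A] (Fin m → S)) (eQ : (Q ⧸ jTop A Q) ≃ₗ[A] (Fin m' → S)), m ≤ m' := by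
    intro P Q _ _ _ _ _ _ _ _ _ _ e m m' eP eQ
    obtain ⟨E, hne, hsq, horth⟩ := exists_orth_idem (A := A) S eP
    choose l hl using fun i => bar_surjective (A := A) P (E i)
    have key : ∀ x, bar (A := A) Q (e x) = 0 ↔ bar (A := A) P x = 0 := by
      intro x
      rw [← RingHom.mem_ker, ← RingHom.mem_ker, bar_ker, bar_ker]
      constructor
      · intro h
        have := Ring.map_jacobson_le (e.symm : Module.End A Q →+* Module.End A P) (Submodule.mem_map_of_mem h)
        simpa using this
      · intro h
        exact Ring.map_jacobson_le (e : Module.End A P →+* Module.End A Q) (Submodule.mem_map_of_mem h)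
    have h := card_le_length (A := A) (Q ⧸ jTop A Q) (fun i => bar (A := A) Q (e (l i)))
      (fun i h => hne i (by rw [← hl]; exact (key _).1 h))
      (fun i => by
        rw [← map_mul, ← map_mul, ← sub_eq_zero, ← map_sub, ← map_sub, key, map_sub, map_mul, hl, hsq, sub_self])
      (fun i j hij => by rw [← map_mul, ← map_mul, key, map_mul, hl, hl, horth i j hij])
    rw [eQ.length_eq, Module.length_pi] at h
    simp only [Module.length_eq_one, ENat.card_eq_coe_fintype_card, Fintype.card_fin, mul_one] at h
    exact_mod_cast h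
  obtain rfl : m = m' := le_antisymm (hle P Q e m m' eP eQ) (hle Q P e.symm m' m eQ eP)
  obtain ⟨f, hf⟩ := Module.projective_lifting_property (jTop A Q).mkQ
    ((eP.trans eQ.symm).toLinearMap ∘ₗ (jTop A P).mkQ) (Submodule.mkQ_surjective _)
  exact ⟨LinearEquiv.ofBijective f (bijective_of_bar P Q f (eP.trans eQ.symm) hf)⟩

end Groth.Agent.S13847
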