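import Groth.Statements.S13863
import Groth.Agent.ASCoverLib.Basic

set_option autoImplicit false
universe u
open ASCover PowerSeries

namespace Groth.Agent.S13863

/-- For k an algebraically closed field of characteristic p > 0, n ≥ 1 an integer prime to p, and u ∈
k[[t]] the power series with constant term 1 and u^n · (1 + t^n) = 1, the substitution σ(t) = t·u is
a k-automorphism of k((t)) of order p and, for an integer a, σ acts on the fractional ideal I =
t^a·k[[t]]; transported to B = k[[t]] along h ↦ t^a·h this action is h ↦ u^a · h(t·u). For an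
integer i with a − n ≤ i ≤ a − 1 the element σ(t^i) − t^i lies in I, so t^i defines a class in
H^1(⟨σ⟩, I); the classes with p ∤ i form a basis of this H^1, and when p divides i the class
vanishes, i.e. σ(t^i) − t^i = σ(w) − w for some w ∈ I. (The published statement of this vanishing is
printed with the condition p ∤ i, which contradicts the basis assertion of the same lemma; its proof
treats p | i, and this row states that case.) In transported form, with m = a − i ∈ [1, n] and c ∈
k[[t]] defined by t^m · c = u^i − 1: there is h ∈ k[[t]] with u^a · h(t·u) − h = c. -/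
theorem result {k : Type u} [Field k] [IsAlgClosed k] (p : ℕ)
    [Fact p.Prime] [CharP k p] (n : ℕ) (hn : 0 < n) (hpn : ¬ p ∣ n)
    (u : PowerSeries k) (hu1 : PowerSeries.constantCoeff u = 1)
    (hun : u ^ n * (1 + PowerSeries.X ^ n) = 1) (hu : IsUnit u) (a : ℤ) (m : ℕ)
    (hm1 : 1 ≤ m) (hmn : m ≤ n) (hdvd : (p : ℤ) ∣ a - m) (c : PowerSeries k)
    (hc : PowerSeries.X ^ m * c = ((hu.unit ^ (a - m) : (PowerSeries k)ˣ) : PowerSeries k) - 1) :
    ∃ h : PowerSeries k,
      ((hu.unit ^ a : (PowerSeries k)ˣ) : PowerSeries k) * PowerSeries.subst (PowerSeries.X * u) h - h = c := by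
  let P : Groth.Agent.ASCoverLib.Twist k := ⟨p, n, Fact.out, inferInstance, hn, hpn, hu.unit, hu1, hun⟩
  obtain ⟨V, hV, hinv⟩ := P.exists_invariant
  obtain ⟨q, hq⟩ := hdvd
  have hn' : X ^ n ∣ (V : PowerSeries k) - 1 :=
    (pow_dvd_pow X (Nat.le_mul_of_pos_left n (Nat.sub_pos_of_lt (Fact.out : p.Prime).one_lt))).trans hV
  obtain ⟨g, hg⟩ := (pow_dvd_pow X hmn).trans (Groth.Agent.ASCoverLib.dvd_zpow_sub_one V hn' q)
  -- `V ^ q` is fixed by the action with exponent `a - m`
  have hf : ((hu.unit ^ (a - m) : (PowerSeries k)ˣ) : PowerSeries k) *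
      P.σ ((V ^ q : (PowerSeries k)ˣ) : PowerSeries k) = ((V ^ q : (PowerSeries k)ˣ) : PowerSeries k) := by
    have h1 := congrArg (fun W => W ^ q) hinv
    simp only [mul_zpow, ← map_zpow, ← zpow_natCast, ← zpow_mul] at h1
    have h2 := congrArg Units.val h1
    rw [Units.val_mul] at h2
    rw [hq]
    exact h2
  rw [sub_eq_iff_eq_add.1 hg, map_add, map_mul, map_pow, map_one, P.σ_X] at hf
  refine ⟨-g, mul_left_cancel₀ (pow_ne_zero m (PowerSeries.X_ne_zero : (X : PowerSeries k) ≠ 0)) ?_⟩
  rw [hc]
  have ha : ((hu.unit ^ a : (PowerSeries k)ˣ) : PowerSeries k) =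
      ((hu.unit ^ (a - m) : (PowerSeries k)ˣ) : PowerSeries k) * u ^ m := by
    rw [show (u : PowerSeries k) ^ m = ((hu.unit ^ (m : ℤ) : (PowerSeries k)ˣ) : PowerSeries k) by simp,
      ← Units.val_mul, ← zpow_add, sub_add_cancel]
  change X ^ m * (((hu.unit ^ a : (PowerSeries k)ˣ) : PowerSeries k) * PowerSeries.subst (PowerSeries.X * (P.U : PowerSeries k)) (-g) - -g) = _
  rw [← P.σ_apply, ha, map_neg]
  have hU : (P.U : PowerSeries k) = u := rfl
  rw [hU] at hf
  linear_combination (-1 : PowerSeries k) * hf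

end Groth.Agent.S13863
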