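import Groth.Statements.S13864
import Groth.Agent.ASCoverLib.Basic

set_option autoImplicit false
universe u
open ASCover PowerSeries

namespace Groth.Agent.S13864

/-- Let k be an algebraically closed field of characteristic p > 0, n ≥ 1 an integer prime to p, u ∈
k[[t]] the power series with constant term 1 and u^n · (1 + t^n) = 1 (so σ(t) = t·u is a
k-automorphism of k((t)) of order p), and a an integer; σ acts on I = t^a·k[[t]], and transported to
B = k[[t]] along h ↦ t^a·h the action is h ↦ u^a · h(t·u). For 1 ≤ m ≤ n let c_m ∈ B be determined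
by t^m · c_m = u^(a−m) − 1; this is the cocycle value σ(t^i) − t^i ∈ I of the element t^i, i = a −
m, divided by t^a. The published lemma says that the classes of the t^i with a − n ≤ i ≤ a − 1 and p
∤ i form a basis of H^1(⟨σ⟩, I); this row states their linear independence: if Σ λ_m c_m, summed
over 1 ≤ m ≤ n with p ∤ a − m, equals u^a · h(t·u) − h for some h ∈ B, then every such λ_m is 0.
(Together with the dimension of this H^1, namely n − ⌊(a−1)/p⌋ + ⌊(a−1−n)/p⌋, this gives the basis
statement.) -/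
theorem result {k : Type u} [Field k] [IsAlgClosed k] (p : ℕ)
    [Fact p.Prime] [CharP k p] (n : ℕ) (hn : 0 < n) (hpn : ¬ p ∣ n)
    (u : PowerSeries k) (hu1 : PowerSeries.constantCoeff u = 1)
    (hun : u ^ n * (1 + PowerSeries.X ^ n) = 1) (hu : IsUnit u) (a : ℤ)
    (c : ℕ → PowerSeries k)
    (hc : ∀ m : ℕ, 1 ≤ m → m ≤ n →
      PowerSeries.X ^ m * c m = ((hu.unit ^ (a - m) : (PowerSeries k)ˣ) : PowerSeries k) - 1)
    (coef : ℕ → k) (h : PowerSeries k)
    (hh : ((hu.unit ^ a : (PowerSeries k)ˣ) : PowerSeries k) * PowerSeries.subst (PowerSeries.X * u) h - h =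
      ∑ m ∈ (Finset.Icc 1 n).filter (fun m : ℕ => ¬ (p : ℤ) ∣ a - (m : ℤ)), coef m • c m) :
    ∀ m ∈ (Finset.Icc 1 n).filter (fun m : ℕ => ¬ (p : ℤ) ∣ a - (m : ℤ)), coef m = 0 := by
  classical
  let P : Groth.Agent.ASCoverLib.Twist k := ⟨p, n, Fact.out, inferInstance, hn, hpn, hu.unit, hu1, hun⟩
  set S := (Finset.Icc 1 n).filter (fun m : ℕ => ¬ (p : ℤ) ∣ a - (m : ℤ))
  have hlead : ∀ m ∈ S, X ^ (n - m) ∣ c m ∧ PowerSeries.coeff (n - m) (c m) ≠ 0 := by
    intro m hm
    obtain ⟨hm1, hm2⟩ := Finset.mem_Icc.1 (Finset.mem_filter.1 hm).1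
    obtain ⟨g, hg, hg0⟩ := P.u_zpow_sub_one (a - m)
    have e : c m = X ^ (n - m) * g := by
      refine mul_left_cancel₀ (pow_ne_zero m (PowerSeries.X_ne_zero : (X : PowerSeries k) ≠ 0)) ?_
      rw [hc m hm1 hm2, ← mul_assoc, ← pow_add, show m + (n - m) = n by omega]
      exact hg
    refine ⟨⟨g, e⟩, ?_⟩
    rw [e, PowerSeries.coeff_X_pow_mul', if_pos le_rfl, Nat.sub_self,
      PowerSeries.coeff_zero_eq_constantCoeff, hg0]
    exact neg_ne_zero.2 (div_ne_zero ((P.cast_ne_zero_iff _).2 (Finset.mem_filter.1 hm).2) P.n_ne_zero)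
  suffices ∀ j m, m ∈ S → n - m = j → coef m = 0 from fun m hm => this _ m hm rfl
  intro j
  induction j using Nat.strong_induction_on with
  | _ j ih =>
    intro m hm hj
    obtain ⟨hm1, hm2⟩ := Finset.mem_Icc.1 (Finset.mem_filter.1 hm).1
    have h1 : PowerSeries.coeff (n - m) (∑ i ∈ S, coef i • c i) = 0 := by
      rw [← hh]
      exact (congrArg _ (congrArg (fun z => ((hu.unit ^ a : (PowerSeries k)ˣ) : PowerSeries k) * z - h) (P.σ_apply h).symm)).trans
        (P.coeff_D_of_lt a h (show n - m < n by omega))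
    rw [map_sum, Finset.sum_eq_single m ?_ (fun h0 => absurd hm h0), map_smul, smul_eq_mul] at h1
    · exact (mul_eq_zero.1 h1).resolve_right (hlead m hm).2
    · intro i hi hne
      obtain ⟨hi1, hi2⟩ := Finset.mem_Icc.1 (Finset.mem_filter.1 hi).1
      rcases lt_or_gt_of_ne hne with hlt | hlt
      · rw [map_smul, PowerSeries.X_pow_dvd_iff.1 (hlead i hi).1 (n - m) (by omega), smul_zero]
      · rw [ih (n - i) (by omega) i hi rfl, zero_smul, map_zero]

end Groth.Agent.S13864
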