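import Groth.Statements.S13867
import Groth.Agent.DynX.QuotFibre
import Groth.Agent.DynX.PushDescent
import Groth.Agent.AlgGrp25.Blanchard
import Groth.Agent.EtFound.Descent

set_option autoImplicit false
universe u
open CategoryTheory MonoidalCategory CartesianMonoidalCategory MonObj GrpObj AlgebraicGeometry
open ParSch
open Limits

set_option backward.isDefEq.respectTransparency false
set_option backward.isDefEq.respectTransparency.types false

namespace Groth.Agent.S13867

theorem bijective_app_spec {k : Type u} [Field k] {Y : Scheme.{u}} (v : Y ⟶ Spec (CommRingCat.of k))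
    (h : Function.Bijective v.appTop) (U : (Spec (CommRingCat.of k)).Opens) : Function.Bijective (v.app U) := by
  by_cases hU : U = ⊥
  · subst hU
    have : Subsingleton Γ(Spec (CommRingCat.of k), ⊥) := inferInstance
    have : Subsingleton Γ(Y, v ⁻¹ᵁ ⊥) := by
      rw [show v ⁻¹ᵁ ⊥ = ⊥ from TopologicalSpace.Opens.ext (by simp)]; infer_instance
    exact ⟨fun a b _ => Subsingleton.elim a b, fun b => ⟨0, Subsingleton.elim _ _⟩⟩
  · obtain rfl : U = ⊤ := by
      ext x
      simp only [TopologicalSpace.Opens.coe_top, Set.mem_univ, iff_true]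
      obtain ⟨y, hy⟩ : ∃ y, y ∈ U := by
        by_contra hne
        push_neg at hne
        exact hU (TopologicalSpace.Opens.ext (Set.eq_empty_iff_forall_notMem.2 fun y => hne y))
      rwa [Subsingleton.elim x y]
    exact h

/-- Let k be an algebraically closed field, G a group scheme of finite type over k and H ⊆ H' closed
subgroup schemes of G. Let q : G → X and q' : G → X' be the quotients of G by H and by H' (fppf
quotients represented by schemes), f : X → X' the morphism with q ≫ f = q', and r : H' → Y the
quotient of H' by H. Then f is a contraction (proper, and O_{X'}(U) → O_X(f⁻¹ U) is an isomorphism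
for every open U of X') if and only if Y is proper over k and the global functions of Y reduce to k
(the map k → Γ(Y, O_Y) is an isomorphism). -/
theorem result
    (k : Type u) [Field k] [IsAlgClosed k]
    (G : Over (Spec (CommRingCat.of k))) [GrpObj G] [LocallyOfFiniteType G.hom] [QuasiCompact G.hom]
    (H H' : Over (Spec (CommRingCat.of k))) [GrpObj H] [GrpObj H']
    (iH : H ⟶ G) [IsMonHom iH] (hH : IsClosedImmersion iH.left)
    (iH' : H' ⟶ G) [IsMonHom iH'] (hH' : IsClosedImmersion iH'.left)
    (e : H ⟶ H') [IsMonHom e] (he : e ≫ iH' = iH)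
    (X X' Y : Over (Spec (CommRingCat.of k))) (q : G ⟶ X) (hq : RedSub.IsQuotient iH q) (q' : G ⟶ X') (hq' : RedSub.IsQuotient iH' q')
    (f : X ⟶ X') (hf : q ≫ f = q') (r : H' ⟶ Y) (hr : RedSub.IsQuotient e r) :
    (IsProper f.left ∧ ∀ U : X'.left.Opens, IsIso (f.left.app U)) ↔
      (IsProper Y.hom ∧ IsIso Y.hom.appTop) := by
  haveI := hH'
  haveI : Mono iH'.left := inferInstance
  haveI : Mono iH' := Over.mono_of_mono_left _
  obtain ⟨m, sq⟩ := DynX.exists_isPullback_quot he hq hq' hf hr
  have sqL : IsPullback (fst G Y).left m.left q'.left f.left := sq.map (Over.forget _)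
  have sqY : IsPullback (fst G Y).left (snd G Y).left G.hom Y.hom := IsPullback.of_hasPullback G.hom Y.hom
  obtain ⟨_, _, _, -⟩ := hq'
  haveI : Surjective G.hom := ⟨fun x => ⟨η[G].left x, Subsingleton.elim _ _⟩⟩
  haveI : Flat G.hom := inferInstance
  haveI : LocallyOfFinitePresentation G.hom := inferInstance
  haveI := EtFound.fpqc_isProper.{u}
  have hQ : (@Surjective ⊓ @Flat ⊓ @LocallyOfFinitePresentation : MorphismProperty Scheme.{u}) q'.left :=
    ⟨⟨inferInstance, inferInstance⟩, inferInstance⟩
  have hQG : (@Surjective ⊓ @Flat ⊓ @LocallyOfFinitePresentation : MorphismProperty Scheme.{u}) G.hom :=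
    ⟨⟨inferInstance, inferInstance⟩, inferInstance⟩
  constructor
  · rintro ⟨hp, hiso⟩
    haveI := hp
    have hb : ∀ U, Function.Bijective ((fst G Y).left.app U) :=
      AlgGrp25.Blanchard.bijective_app_of_isPullback sqL.flip
        fun U => (ConcreteCategory.isIso_iff_bijective _).1 (hiso U)
    haveI : IsProper (fst G Y).left := MorphismProperty.of_isPullback sqL.flip hp
    have hY : IsProper Y.hom := MorphismProperty.of_isPullback_of_descendsAlong (P := @IsProper) sqY hQG inferInstance
    haveI := hY
    exact ⟨hY, (ConcreteCategory.isIso_iff_bijective _).2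
      (DynX.bijective_app_of_flat_surjective_baseChange sqY.flip (fun W _ => hb W) ⊤)⟩
  · rintro ⟨hY, hiso⟩
    haveI := hY
    have hb : ∀ U, Function.Bijective ((fst G Y).left.app U) :=
      AlgGrp25.Blanchard.bijective_app_of_isPullback sqY.flip
        (bijective_app_spec Y.hom ((ConcreteCategory.isIso_iff_bijective _).1 hiso))
    haveI : IsProper (fst G Y).left := MorphismProperty.of_isPullback sqY.flip hY
    have hp : IsProper f.left := MorphismProperty.of_isPullback_of_descendsAlong (P := @IsProper) sqL hQ inferInstance
    haveI := hp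
    exact ⟨hp, fun U => (ConcreteCategory.isIso_iff_bijective _).2
      (DynX.bijective_app_of_flat_surjective_baseChange sqL.flip (fun W _ => hb W) U)⟩

end Groth.Agent.S13867
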