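import Groth.Statements.S13911
import Groth.Agent.PlaneConic98.Basic
-- import your own Groth.Agent.* helpers here

set_option autoImplicit false
universe u
open PlaneConic

open Groth.Agent.PlaneConic98
namespace Groth.Agent.S13911

/-- For an algebraically closed field k of characteristic zero, a nonzero symmetric 3 × 3 matrix Q over
k and the ternary quadratic form f = Σ Q_ij X_i X_j in k[X_0, X_1, X_2] (the equation of a plane
conic): (1) f is irreducible iff det Q ≠ 0; (2) the conic has a singular point, that is a nonzero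
vector at which all partial derivatives of f vanish, iff det Q = 0 (so smooth conics are exactly the
irreducible ones); (3) f is the product of two linearly independent linear forms (two distinct
lines) iff rank Q = 2; (4) f is the square of a linear form (a double line) iff rank Q = 1. -/
theorem result (k : Type u) [Field k] [IsAlgClosed k] [CharZero k]
    (Q : Matrix (Fin 3) (Fin 3) k) (hQ : Q.IsSymm) (hQ0 : Q ≠ 0) (f : MvPolynomial (Fin 3) k)
    (hf : f = ∑ i : Fin 3, ∑ j : Fin 3, Q i j • (MvPolynomial.X i * MvPolynomial.X j)) :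
    (Irreducible f ↔ Q.det ≠ 0) ∧
    ((∃ u : Fin 3 → k, u ≠ 0 ∧ ∀ i : Fin 3, MvPolynomial.eval u (MvPolynomial.pderiv i f) = 0) ↔ Q.det = 0) ∧
    ((∃ a b : Fin 3 → k, LinearIndependent k ![a, b] ∧
        f = (∑ i : Fin 3, a i • MvPolynomial.X i) * (∑ i : Fin 3, b i • MvPolynomial.X i)) ↔ Q.rank = 2) ∧
    ((∃ a : Fin 3 → k, f = (∑ i : Fin 3, a i • MvPolynomial.X i) ^ 2) ↔ Q.rank = 1) := by

  classical
  change f = quad Q at hf
  subst hf
  change (Irreducible (quad Q) ↔ Q.det ≠ 0) ∧ _ ∧
    ((∃ a b, LinearIndependent k ![a, b] ∧ quad Q = lin a * lin b) ↔ Q.rank = 2) ∧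
    ((∃ a, quad Q = lin a ^ 2) ↔ Q.rank = 1)
  have h2 : (2 : k) ≠ 0 := two_ne_zero
  have hrank : Q.rank ≤ 2 → Q.det = 0 := fun h => by
    by_contra hd
    rw [Matrix.rank_of_isUnit _ ((Matrix.isUnit_iff_isUnit_det Q).2 (isUnit_iff_ne_zero.2 hd)),
      Fintype.card_fin] at h
    omega
  have hlin : ∀ a : Fin 3 → k, ¬ IsUnit (lin a) := fun a hu => by
    have h0 : (lin a).totalDegree = 0 := (MvPolynomial.isUnit_iff_totalDegree_of_isReduced.1 hu).2
    exact absurd ((isHomogeneous_lin a).totalDegree hu.ne_zero) (by omega)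
  refine ⟨⟨fun hirr hd => ?_, fun hd => ⟨fun hu => ?_, fun g h e => ?_⟩⟩, ?_, ⟨?_, fun h => ?_⟩,
    ⟨?_, fun h => ?_⟩⟩
  · obtain ⟨a, b, hab⟩ := exists_lin_mul_of_det_eq_zero hQ hd
    rcases hirr.isUnit_or_isUnit hab with h | h <;> exact hlin _ h
  · have h0 : (quad Q).totalDegree = 0 := (MvPolynomial.isUnit_iff_totalDegree_of_isReduced.1 hu).2
    exact absurd ((isHomogeneous_quad Q).totalDegree hu.ne_zero) (by omega)
  · have hne : quad Q ≠ 0 := fun h0 => hd (det_eq_zero_of_eq_mul h2 hQ (a := 0) (b := 0)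
      (by rw [h0]; simp [lin]))
    have hg : g ≠ 0 := fun h0 => hne (by rw [e, h0, zero_mul])
    have hh : h ≠ 0 := fun h0 => hne (by rw [e, h0, mul_zero])
    have hdeg : g.totalDegree + h.totalDegree = 2 := by
      rw [← MvPolynomial.totalDegree_mul_of_isDomain hg hh, ← e, (isHomogeneous_quad Q).totalDegree hne]
    have hC : ∀ p : MvPolynomial (Fin 3) k, p ≠ 0 → p.totalDegree = 0 → IsUnit p := fun p hp h0 => by
      rw [MvPolynomial.totalDegree_eq_zero_iff_eq_C.1 h0] at hp ⊢
      exact (isUnit_iff_ne_zero.2 fun hz => hp (by rw [hz, map_zero])).map MvPolynomial.C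
    by_contra hn
    push Not at hn
    have g0 : g.totalDegree ≠ 0 := fun h0 => hn.1 (hC g hg h0)
    have h0' : h.totalDegree ≠ 0 := fun h0 => hn.2 (hC h hh h0)
    obtain ⟨a, b, hab⟩ := exists_eq_lin_mul_of_mul e (by omega) (by omega)
    exact hd (det_eq_zero_of_eq_mul h2 hQ hab)
  · rw [← Matrix.exists_mulVec_eq_zero_iff]
    refine exists_congr fun u => and_congr_right fun _ => ?_
    simp [eval_pderiv_quad hQ, funext_iff]
  · rintro ⟨a, b, hab, e⟩
    exact rank_eq_two_of_eq_mul h2 hQ hab e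
  · obtain ⟨a, b, e⟩ := exists_lin_mul_of_det_eq_zero hQ (hrank h.le)
    refine ⟨a, b, by_contra fun hab => ?_, e⟩
    have h1 := Submodule.finrank_mono (rank_le_two_of_eq_mul h2 hQ e)
    change Q.rank ≤ _ at h1
    rw [linearIndependent_iff_card_le_finrank_span, Fintype.card_fin] at hab
    change ¬ 2 ≤ Module.finrank k (Submodule.span k (Set.range ![a, b])) at hab
    omega
  · rintro ⟨a, e⟩
    exact rank_eq_one_of_eq_sq h2 hQ hQ0 (e.trans (pow_two _))
  · obtain ⟨a, b, e⟩ := exists_lin_mul_of_det_eq_zero hQ (hrank (h.le.trans (by omega)))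
    by_cases ha : a = 0
    · exact ⟨0, by rw [e, ha]; simp [lin]⟩
    have hdep : ¬ LinearIndependent k ![a, b] := fun hi => by
      have := rank_eq_two_of_eq_mul h2 hQ hi e
      omega
    rw [LinearIndependent.pair_iff' ha] at hdep
    push Not at hdep
    obtain ⟨c, rfl⟩ := hdep
    obtain ⟨r, rfl⟩ := IsAlgClosed.exists_pow_nat_eq c two_pos
    refine ⟨r • a, MvPolynomial.funext fun u => ?_⟩
    rw [e, map_mul, map_pow, eval_lin, eval_lin, eval_lin, smul_dotProduct, smul_dotProduct,
      smul_eq_mul, smul_eq_mul]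
    ring
end Groth.Agent.S13911
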