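import Groth.Statements.S13912
import Groth.Agent.PlaneConic98.Two
-- import your own Groth.Agent.* helpers here

set_option autoImplicit false
universe u
open PlaneConic

open Groth.Agent.PlaneConic98 MvPolynomial
namespace Groth.Agent.S13912

/-- Over an algebraically closed field k of characteristic zero, for a 2 × 2 matrix M of linear forms in
k[X_0, X_1, X_2] (entries homogeneous of degree 1, zero allowed), det M is a product of two linear
forms if and only if M can be brought by invertible scalar row and column operations g M h, with g,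
h in GL_2(k), to a matrix with zero upper-right entry. (The published statement concerns matrices
with nonzero determinant; this row also allows determinant zero, where both sides hold.) -/
theorem result (k : Type u) [Field k] [IsAlgClosed k] [CharZero k]
    (M : Matrix (Fin 2) (Fin 2) (MvPolynomial (Fin 3) k)) (hM : ∀ a b : Fin 2, (M a b).IsHomogeneous 1) :
    (∃ l₁ l₂ : MvPolynomial (Fin 3) k, l₁.IsHomogeneous 1 ∧ l₂.IsHomogeneous 1 ∧ M.det = l₁ * l₂) ↔
    ∃ g h : GL (Fin 2) k,
      ((MvPolynomial.C : k →+* MvPolynomial (Fin 3) k).mapMatrix g.val * M *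
        (MvPolynomial.C : k →+* MvPolynomial (Fin 3) k).mapMatrix h.val) 0 1 = 0 := by
  classical
  constructor
  · rintro ⟨l₁, l₂, hl₁, hl₂, e⟩
    choose m hm using fun a b => exists_lin (hM a b)
    obtain ⟨a₁, rfl⟩ := exists_lin hl₁
    obtain ⟨a₂, rfl⟩ := exists_lin hl₂
    obtain ⟨g, h, hgh⟩ := exists_equiv_zero m a₁ a₂ fun u => by
      have := congrArg (MvPolynomial.eval u) e
      simpa [Matrix.det_fin_two, hm, eval_lin] using this
    refine ⟨g, h, MvPolynomial.funext fun u => ?_⟩
    rw [map_zero, ← hgh u]
    simp [Matrix.mul_apply, Fin.sum_univ_two, hm, eval_lin]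
    ring
  · rintro ⟨g, h, hN⟩
    let C' : k →+* MvPolynomial (Fin 3) k := MvPolynomial.C
    set N := C'.mapMatrix g.val * M * C'.mapMatrix h.val with hNdef
    have hhom : ∀ a b, (N a b).IsHomogeneous 1 := fun a b => by
      simp only [hNdef, Matrix.mul_apply, RingHom.mapMatrix_apply, Matrix.map_apply, Finset.sum_mul]
      exact IsHomogeneous.sum _ _ _ fun i _ => IsHomogeneous.sum _ _ _ fun j _ =>
        ((isHomogeneous_C _ _).mul (hM j i)).mul (isHomogeneous_C _ _)
    have hgd : g.val.det * h.val.det ≠ 0 := mul_ne_zero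
      ((Matrix.isUnit_iff_isUnit_det _).1 g.isUnit).ne_zero
      ((Matrix.isUnit_iff_isUnit_det _).1 h.isUnit).ne_zero
    refine ⟨MvPolynomial.C (g.val.det * h.val.det)⁻¹ * N 0 0, N 1 1, ?_, hhom 1 1, ?_⟩
    · simpa using (isHomogeneous_C (Fin 3) ((g.val.det * h.val.det)⁻¹)).mul (hhom 0 0)
    · have hd : N.det = MvPolynomial.C (g.val.det * h.val.det) * M.det := by
        rw [hNdef, Matrix.det_mul, Matrix.det_mul, ← RingHom.map_det, ← RingHom.map_det, map_mul]
        ring
      have hd2 : N.det = N 0 0 * N 1 1 := by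
        rw [Matrix.det_fin_two, show N 0 1 = 0 from hN, zero_mul, sub_zero]
      rw [mul_assoc, ← hd2, hd, ← mul_assoc, ← map_mul, inv_mul_cancel₀ hgd, map_one, one_mul]

end Groth.Agent.S13912
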