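import Groth.Statements.S13951
import Groth.Agent.Hensel.EtaleReduced
import Mathlib.AlgebraicGeometry.Morphisms.QuasiFinite
import Mathlib.AlgebraicGeometry.Morphisms.ClosedImmersion

set_option autoImplicit false
set_option backward.isDefEq.respectTransparency false
set_option backward.isDefEq.respectTransparency.types false
universe u
open TateLoc

namespace Groth.Agent.S13951

open CategoryTheory AlgebraicGeometry CategoryTheory.Limits MonoidalCategory CartesianMonoidalCategory

theorem isReduced_of_etaleMor {X Y : Scheme.{u}} (f : X ⟶ Y) [Etale f] [IsReduced Y] : IsReduced X := by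
  have key : ∀ x : ↥X, ∃ W : X.Opens, x ∈ W ∧ IsReduced W.toScheme := by
    intro x
    obtain ⟨U, hU, hxU, -⟩ := exists_isAffineOpen_mem_and_subset (U := (⊤ : Y.Opens)) (x := f x) trivial
    obtain ⟨V, hV, hxV, hVU⟩ := exists_isAffineOpen_mem_and_subset (U := f ⁻¹ᵁ U) (x := x) hxU
    have : IsAffine U.toScheme := hU
    have : IsAffine V.toScheme := hV
    let g : V.toScheme ⟶ U.toScheme := f.resLE U V hVU
    have : Etale g := by
      have h4 : Etale (g ≫ U.ι) := by rw [Scheme.Hom.resLE_comp_ι]; infer_instance
      exact MorphismProperty.of_postcomp (W := @Etale) (W' := @Etale) g U.ι inferInstance h4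
    have : IsReduced U.toScheme := isReduced_of_isOpenImmersion U.ι
    let _ := g.appTop.hom.toAlgebra
    have h : g.appTop.hom.Etale := (HasRingHomProperty.iff_of_isAffine (P := @Etale)).1 ‹Etale g›
    have : Algebra.Etale Γ(U.toScheme, ⊤) Γ(V.toScheme, ⊤) := h
    have : _root_.IsReduced Γ(V.toScheme, ⊤) := Hensel.isReduced_of_etale Γ(U.toScheme, ⊤) _
    exact ⟨V, hxV, isReduced_of_isOpenImmersion V.toScheme.isoSpec.hom⟩
  choose W hxW hW using key
  exact @IsReduced.of_openCover _ (X.openCoverOfIsOpenCover W
    (.mk (top_unique fun x _ => TopologicalSpace.Opens.mem_iSup.mpr ⟨x, hxW x⟩))) hW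

/-- a point of a reduced scheme with values in `X` factors through a section of `f : X ⟶ S` whose fibres are points -/
theorem factor_section {S X U : Scheme.{u}} (f : X ⟶ S) [IsSeparated f] (e : S ⟶ X) (he : e ≫ f = 𝟙 S)
    (hf : Function.Injective f) [IsReduced U] (a : U ⟶ X) : a = (a ≫ f) ≫ e := by
  haveI : IsClosedImmersion e := by
    haveI : IsClosedImmersion (e ≫ f) := by rw [he]; infer_instance
    exact IsClosedImmersion.of_comp e f
  haveI : Surjective e := ⟨fun x => ⟨f x, hf (by
    have h := congrArg (fun g : S ⟶ S => g (f x)) he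
    exact h)⟩⟩
  haveI : Surjective (pullback.fst a e) := inferInstance
  haveI := isIso_of_isClosedImmersion_of_surjective (pullback.fst a e)
  rw [← cancel_epi (pullback.fst a e), Category.assoc, pullback.condition_assoc]
  rw [reassoc_of% he, pullback.condition]

open CategoryTheory AlgebraicGeometry CategoryTheory.Limits in
/-- Let S be a reduced scheme and I a finite locally free commutative S-group scheme (finite, flat, of
finite presentation) whose fibres over all points of S are connected. Then the restriction of the
sheaf of points of I from the big fppf site of S to the small etale site of S is the zero sheaf. -/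
theorem result (S : Scheme.{u}) [IsReduced S]
    (I : Over S) [GrpObj I] [IsCommMonObj I] [IsFinite I.hom] [Flat I.hom] [LocallyOfFinitePresentation I.hom]
    (hconn : ∀ s : S, ConnectedSpace ↥(I.hom.fiber s)) :
    IsZero ((BigSite.resEt Scheme.fppfPrecoverage S).obj (CGrpSh.pts Scheme.fppfPrecoverage I)) := by
  have hinj : Function.Injective (I.hom : I.left ⟶ S) := by
    intro x y h
    haveI := hconn ((I.hom : I.left ⟶ S) x)
    haveI : DiscreteTopology ↥(I.hom.fiber ((I.hom : I.left ⟶ S) x)) := inferInstance
    haveI : Subsingleton ↥(I.hom.fiber ((I.hom : I.left ⟶ S) x)) := subsingleton_of_preconnected_totallyDisconnected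
    have h' := congrArg (I.hom.fiberι _)
      (Subsingleton.elim (I.hom.asFiber x) ((I.hom.fiberHomeo _).symm ⟨y, h.symm⟩))
    simpa using h'
  let e : S ⟶ I.left := (MonObj.one : 𝟙_ (Over S) ⟶ I).left
  have he : e ≫ I.hom = 𝟙 S := CategoryTheory.Over.w (MonObj.one : 𝟙_ (Over S) ⟶ I)
  have hU : ∀ (U : S.Etale) (a b : (EtFppf.a S).obj U ⟶ I), a = b := fun U a b => by
    haveI : Etale ((EtFppf.a S).obj U).hom := U.prop
    haveI : IsReduced ((EtFppf.a S).obj U).left := isReduced_of_etaleMor ((EtFppf.a S).obj U).hom
    apply CategoryTheory.Over.OverMorphism.ext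
    rw [factor_section I.hom e he hinj a.left, factor_section I.hom e he hinj b.left, CategoryTheory.Over.w,
      CategoryTheory.Over.w]
  rw [IsZero.iff_id_eq_zero]
  ext U x
  haveI : Subsingleton ((EtFppf.a S).obj U.unop ⟶ I) := ⟨hU U.unop⟩
  haveI : Subsingleton (((BigSite.resEt Scheme.fppfPrecoverage S).obj (CGrpSh.pts Scheme.fppfPrecoverage I)).obj.obj U) :=
    inferInstanceAs (Subsingleton (ULift.{u + 1} (Additive ((EtFppf.a S).obj U.unop ⟶ I))))
  exact Subsingleton.elim _ _

end Groth.Agent.S13951
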