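import Groth.Statements.S13962
import Groth.Agent.GalEt.CountPts

set_option autoImplicit false
set_option maxHeartbeats 1000000
set_option backward.isDefEq.respectTransparency.types false
universe u
open TateLoc

namespace Groth.Agent.S13962

open CategoryTheory AlgebraicGeometry in
/-- For a global function field k (a finite extension of the field of rational functions in one variable
over a finite field) and an affine commutative k-group scheme G of finite type, the groups H^i(k,
Ĝ), i ≤ 2, are countable, Ĝ being the dual sheaf of G (internal Hom from the sheaf of points of G
into the multiplicative group on the big fppf site of Spec k). (The published statement is for all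
global fields; this row is the function-field case.) -/
theorem result (Fq : Type u) [Field Fq] [Finite Fq] (k : Type u) [Field k] [Algebra (RatFunc Fq) k] [FunctionField Fq k]
    (G : Over (Spec (CommRingCat.of k))) [GrpObj G] [IsCommMonObj G] [IsAffine G.left] [LocallyOfFiniteType G.hom]
    (i : ℕ) (hi : i ≤ 2) :
    Countable (BigSite.H Scheme.fppfPrecoverage (Spec (CommRingCat.of k)) (CGrpSh2.dualSh Scheme.fppfPrecoverage (CGrpSh.pts Scheme.fppfPrecoverage G)) i) := by
  haveI : Countable k := Groth.Agent.GalEt.CountPts.countable_functionField Fq k
  exact Groth.Agent.GalEt.CountH.countable_H _ (Groth.Agent.GalEt.CountPts.csec_dual G) i hi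

end Groth.Agent.S13962
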