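import Groth.Statements.S13965
import Groth.Agent.GalEt.DualH1Base

set_option autoImplicit false
set_option maxHeartbeats 1000000
set_option backward.isDefEq.respectTransparency.types false
universe u
open TateLoc

namespace Groth.Agent.S13965

open CategoryTheory AlgebraicGeometry in
/-- Take a finite separable field extension k'/k, and let R be the Weil restriction of the
multiplicative group from k' to k, i.e. the direct image of the multiplicative group along Spec k' →
Spec k as an abelian sheaf on the big fppf site of Spec k. Then the first cohomology H^1(k, R̂) of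
the dual sheaf R̂ (internal Hom from R into the multiplicative group) vanishes. (The published
statement is for the Weil restriction of any split k'-torus, a finite product of copies of this
case.) -/
theorem result (k k' : Type u) [Field k] [Field k'] [Algebra k k']
    [FiniteDimensional k k'] [Algebra.IsSeparable k k'] :
    Subsingleton (BigSite.H Scheme.fppfPrecoverage (Spec (CommRingCat.of k)) (CGrpSh2.dualSh Scheme.fppfPrecoverage ((BigSite.pushBig Scheme.fppfPrecoverage (Spec.map (CommRingCat.ofHom (algebraMap k k'))) AddCommGrpCat.{u+1}).obj (CGrpSh2.Gm Scheme.fppfPrecoverage (Spec (CommRingCat.of k'))))) 1) := by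
  obtain ⟨n, hn⟩ : ∃ n : ℕ, Module.rankAtStalk (R := k) k' = n := ⟨_, Module.rankAtStalk_eq_finrank_of_free⟩
  haveI : Algebra.FinitePresentation k k' := Algebra.FinitePresentation.of_finiteType.1 inferInstance
  haveI : Algebra.FormallyEtale k k' := Algebra.FormallyEtale.of_isSeparable k k'
  haveI : Algebra.Etale k k' := {}
  obtain ⟨T, _, _, _, _, ⟨S⟩⟩ := Groth.Agent.GalEt.DualH1.exists_splitting (R := k) (O := k') ⟨n, hn⟩
  exact Groth.Agent.GalEt.DualH1.subsingleton_H_dual (R := k) (O := k') (Groth.Agent.GalEt.CocycleHyp.good_of_field k) T S

end Groth.Agent.S13965
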