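import Groth.Statements.S13990
import Groth.Agent.CohGab92.More

set_option autoImplicit false
universe u
open CategoryTheory AlgebraicGeometry
open CohGab

namespace Groth.Agent.S13990

/-- Let X be a Noetherian scheme. Then Z ↦ Coh_Z(X), the coherent O_X-modules with support contained in
Z, is a bijection from the closed subsets of X onto the Serre subcategories of finite type of Coh(X)
(those generated, as Serre subcategories, by one object). Spelled out with Serre subcategories of
Coh(X) as properties P of O_X-modules such that in a short exact sequence of coherent modules the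
middle term has P iff both outer terms do: (a) for every closed Z, 'support ⊆ Z' is such a property
and there is a coherent F supported in Z such that every such property containing F contains all
coherent modules supported in Z; (b) for every such property P generated on coherent modules by one
coherent module F, there is exactly one closed Z with P(M) ⟺ Supp(M) ⊆ Z for all coherent M. (The
published statement is about coherent sheaves twisted by a class in the second etale cohomology
group of the units of the structure sheaf; this row is its case of the trivial class.) -/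
theorem result (X : Scheme.{u}) [IsNoetherian X] :
    (∀ Z : TopologicalSpace.Closeds X,
      (∀ S : ShortComplex X.Modules, S.ShortExact → Coh.IsCoh S.X₁ → Coh.IsCoh S.X₂ →
          Coh.IsCoh S.X₃ → (CohB1.support S.X₂ ⊆ (↑Z : Set X) ↔
            CohB1.support S.X₁ ⊆ (↑Z : Set X) ∧ CohB1.support S.X₃ ⊆ (↑Z : Set X))) ∧
      ∃ F : X.Modules, Coh.IsCoh F ∧ CohB1.support F ⊆ (↑Z : Set X) ∧
        ∀ Q : ObjectProperty X.Modules, (∀ S : ShortComplex X.Modules, S.ShortExact → Coh.IsCoh S.X₁ → Coh.IsCoh S.X₂ →
          Coh.IsCoh S.X₃ → (Q S.X₂ ↔ Q S.X₁ ∧ Q S.X₃)) → Q F →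
          ∀ M : X.Modules, Coh.IsCoh M → CohB1.support M ⊆ (↑Z : Set X) → Q M) ∧
    (∀ P : ObjectProperty X.Modules, (∀ S : ShortComplex X.Modules, S.ShortExact → Coh.IsCoh S.X₁ → Coh.IsCoh S.X₂ →
          Coh.IsCoh S.X₃ → (P S.X₂ ↔ P S.X₁ ∧ P S.X₃)) →
      (∃ F : X.Modules, Coh.IsCoh F ∧ P F ∧
        ∀ Q : ObjectProperty X.Modules, (∀ S : ShortComplex X.Modules, S.ShortExact → Coh.IsCoh S.X₁ → Coh.IsCoh S.X₂ →
          Coh.IsCoh S.X₃ → (Q S.X₂ ↔ Q S.X₁ ∧ Q S.X₃)) → Q F →
          ∀ M : X.Modules, Coh.IsCoh M → P M → Q M) →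
      ∃! Z : TopologicalSpace.Closeds X, ∀ M : X.Modules, Coh.IsCoh M →
        (P M ↔ CohB1.support M ⊆ (↑Z : Set X))) := by
  refine ⟨fun Z => ⟨Groth.Agent.CohGab92.isSerreCoh_support _, ?_⟩, fun P hP ⟨F, hF, hPF, hgen⟩ => ?_⟩
  · obtain ⟨F, hF, hs⟩ := Groth.Agent.CohGab92.exists_coh_support Z
    exact ⟨F, hF, hs.le, fun Q hQ hQF M hM hMs =>
      Groth.Agent.CohGab92.mem_of_support_subset hQ hF hQF hM (hMs.trans hs.ge)⟩
  · refine ⟨⟨CohB1.support F, Groth.Agent.QCoh.isClosed_support_of_isFT hF.1 hF.2⟩, fun M hM => ?_, ?_⟩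
    · exact ⟨fun h => hgen (fun M => CohB1.support M ⊆ CohB1.support F) (Groth.Agent.CohGab92.isSerreCoh_support _) (subset_refl (CohB1.support F)) M hM h,
        fun h => Groth.Agent.CohGab92.mem_of_support_subset hP hF hPF hM h⟩
    · intro Z hZ
      refine TopologicalSpace.Closeds.ext (le_antisymm ?_ ((hZ F hF).1 hPF))
      obtain ⟨G, hG, hs⟩ := Groth.Agent.CohGab92.exists_coh_support Z
      have hPG : P G := (hZ G hG).2 hs.le
      exact hs.ge.trans (hgen (fun M => CohB1.support M ⊆ CohB1.support F) (Groth.Agent.CohGab92.isSerreCoh_support _) (subset_refl (CohB1.support F)) G hG hPG)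

end Groth.Agent.S13990
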