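import Groth.Statements.S13995
import Mathlib
-- import your own Groth.Agent.* helpers here

set_option autoImplicit false
universe u
open CAlg

namespace Groth.Agent.S13995

/-- Let R be a reduced Noetherian ring, M a finitely generated R-module all of whose associated primes
are minimal primes of R and whose localization at each minimal prime p is one-dimensional over the
field R_p, and let g : M → Q be a surjection onto a finitely generated R-module Q all of whose
associated primes are minimal primes of R. Then the kernel of g is the intersection, over the
minimal primes p of R lying in the support of Q, of the kernels of the localization maps M → M_p.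
(The published statement is for a torsion-free coherent sheaf F of uniform rank one on a reduced
connected projective curve over a characteristic-zero algebraically closed field: its non-zero
torsion-free quotients are exactly the maximal torsion-free quotients F_D of the restrictions of F
to subcurves D; this row is the corresponding statement for modules over a reduced Noetherian ring,
a subcurve being a set of minimal primes, and identifies each torsion-free quotient with F_D for D
the set of generic points of its support.) -/
theorem result (R : Type u) [CommRing R] [IsNoetherianRing R] [IsReduced R] (M : Type u) [AddCommGroup M] [Module R M] [Module.Finite R M] (hM : associatedPrimes R M ⊆ minimalPrimes R) (hrk : ∀ p : PrimeSpectrum R, p.asIdeal ∈ minimalPrimes R → Module.finrank (Localization.AtPrime p.asIdeal) (LocalizedModule p.asIdeal.primeCompl M) = 1) (Q : Type u) [AddCommGroup Q] [Module R Q] [Module.Finite R Q] (hQ : associatedPrimes R Q ⊆ minimalPrimes R) (g : M →ₗ[R] Q) (hg : Function.Surjective g) : LinearMap.ker g = ⨅ p ∈ {p : PrimeSpectrum R | p.asIdeal ∈ minimalPrimes R ∧ p ∈ Module.support R Q}, LinearMap.ker (LocalizedModule.mkLinearMap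 p.asIdeal.primeCompl M) := by
  refine le_antisymm ?_ ?_
  · intro x hx
    simp only [Submodule.mem_iInf, Set.mem_setOf_eq]
    rintro p ⟨hmin, hsupp⟩
    by_contra hx0
    let Rp := Localization.AtPrime p.asIdeal
    let f := LocalizedModule.mkLinearMap p.asIdeal.primeCompl M
    haveI : Ring.KrullDimLE 0 Rp := .of_isLocalization _ hmin _
    letI : Field Rp := (Ring.KrullDimLE.isField_of_isReduced (R := Rp)).toField
    let gp := LocalizedModule.map p.asIdeal.primeCompl g
    obtain ⟨q, hq⟩ := Module.mem_support_iff'.1 hsupp
    obtain ⟨y, rfl⟩ := hg q
    obtain ⟨c, hc⟩ := exists_smul_eq_of_finrank_eq_one (hrk p hmin) (show f x ≠ 0 from hx0) (f y)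
    have hm : ∀ z : M, gp (f z) = LocalizedModule.mk (g z) 1 := fun z => by
      simp [gp, f, LocalizedModule.mkLinearMap_apply]
    have h1 : LocalizedModule.mk (g y) (1 : p.asIdeal.primeCompl) = 0 := by
      rw [← hm, ← hc, map_smul, hm, LinearMap.mem_ker.1 hx, LocalizedModule.zero_mk, smul_zero]
    rw [← LocalizedModule.zero_mk (1 : p.asIdeal.primeCompl), LocalizedModule.mk_eq] at h1
    obtain ⟨u, hu⟩ := h1
    exact hq u u.2 (by simpa [Submonoid.smul_def] using hu)
  · intro x hx
    by_contra hgx
    obtain ⟨P, hP, hle⟩ := exists_le_isAssociatedPrime_of_isNoetherianRing R (g x) (by simpa using hgx)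
    haveI := hP.isPrime
    have hmin : P ∈ minimalPrimes R := hQ hP
    let pP : PrimeSpectrum R := ⟨P, hP.isPrime⟩
    have hsupp : pP ∈ Module.support R Q := by
      rw [Module.mem_support_iff']
      refine ⟨g x, fun r hr h => hr (hle (by simpa [Submodule.mem_colon_singleton] using h))⟩
    simp only [Submodule.mem_iInf, Set.mem_setOf_eq] at hx
    have h0 := hx pP ⟨hmin, hsupp⟩
    rw [LinearMap.mem_ker, LocalizedModule.mkLinearMap_apply,
      ← LocalizedModule.zero_mk (1 : pP.asIdeal.primeCompl), LocalizedModule.mk_eq] at h0
    obtain ⟨⟨r, hr⟩, hrx⟩ := h0
    replace hrx : r • x = 0 := by simpa [Submonoid.smul_def] using hrx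
    exact hr (hle (by simp [Submodule.mem_colon_singleton, ← map_smul, hrx]))

end Groth.Agent.S13995
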