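import Groth.Statements.S14012
import Groth.Agent.EtModLC71.AdicP

set_option autoImplicit false
open CategoryTheory CategoryTheory.Limits AlgebraicGeometry Opposite
universe u
open EtModW

namespace Groth.Agent.S14012

/-- Let X be a Noetherian scheme, Λ a Noetherian commutative ring and I an ideal of Λ. Let 0 ⟶ A ⟶ B ⟶ C
⟶ 0 be a short exact sequence of inverse systems (indexed by ℕ) of sheaves of Λ-modules on the small
étale site of X, and assume A is I-adic up to translation: it receives a morphism, with kernel and
cokernel null up to translation, from an I-adic system. Then the induced morphism lim_n ε⁻¹B_n ⟶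
lim_n ε⁻¹C_n of sheaves on the small pro-étale site is an epimorphism; since the limit functor is
left exact this says that lim_n ε⁻¹(−) carries the given sequence to a short exact sequence. (The
published statement takes all three systems I-adic up to translation; only the hypothesis on A
enters, so B and C are arbitrary here. Continuity of the inclusion of the étale site into the
pro-étale site is carried as a binder.) -/
theorem result
    (Λ : Type (u + 1)) [CommRing Λ] [IsNoetherianRing Λ] (I : Ideal Λ)
    (X : Scheme.{u}) [IsNoetherian X] [ProEtS.EpsCont X]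
    (S : ShortComplex (ARSys.PS (EtModW.Mod Λ X))) (hS : S.ShortExact)
    (hA : ∃ (Y : ARSys.PS (EtModW.Mod Λ X)) (v : Y ⟶ S.X₁), ARSys.IsAdic I Y ∧ ARSys.IsARIso v) :
    Epi (limMap (Functor.whiskerRight S.g (EtModW.epsPullMod Λ X))) := by
  obtain ⟨Y, v, hY, hv⟩ := hA
  have hS' := fun n : ℕ => (Groth.Agent.ARLib.shortExact_app hS n).map_of_exact (EtModW.epsPullMod Λ X)
  refine Groth.Agent.EtModLC71.epi_limMap (Functor.whiskerRight S.f (EtModW.epsPullMod Λ X))
    (Functor.whiskerRight S.g (EtModW.epsPullMod Λ X)) (fun n => ((S.map ((evaluation ℕᵒᵖ (EtModW.Mod Λ X)).obj (op n))).map (EtModW.epsPullMod Λ X)).zero) (fun n => (hS' n).epi_g)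
    (fun n => (hS' n).exact) (Functor.whiskerRight v (EtModW.epsPullMod Λ X)) (fun n m h => ?_)
    (Groth.Agent.EtModLC71.isARIso_map _ hv)
  have : Epi (ARSys.tr Y h) := Groth.Agent.ARLib.isStrict_of_isAdic hY n m h
  exact inferInstanceAs (Epi ((EtModW.epsPullMod Λ X).map (ARSys.tr Y h)))

end Groth.Agent.S14012
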