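import Groth.Statements.S14016
import Groth.Agent.EtModLC71.EssImage
import Groth.Agent.ProEtLib.EpsExt
import Groth.Agent.TriCat.AcyclicObj

set_option autoImplicit false
open CategoryTheory CategoryTheory.Limits AlgebraicGeometry Opposite
universe u
open ProEtS

namespace Groth.Agent.S14016

/-- Let X be a scheme and S a weak Serre subcategory of the abelian sheaves on the small étale site of
X, i.e. a property of objects holding for a zero object and closed under kernels, cokernels and
extensions. Then the essential image of S under the pullback ε⁻¹ to the small pro-étale site (the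
abelian pro-étale sheaves isomorphic to ε⁻¹G for some G satisfying S) is again a weak Serre
subcategory, now of the abelian sheaves on the small pro-étale site of X. (Continuity of the
inclusion of the étale site into the pro-étale site is carried as a binder.) -/
theorem result
    (X : Scheme.{u}) [ProEtS.EpsCont X]
    (S : ObjectProperty (EtCoh.Ab X)) [WSerre.IsWeakSerre S] :
    WSerre.IsWeakSerre (fun F : ProEtS.AbP X => ∃ G : EtCoh.Ab X, S G ∧ Nonempty ((ProEtS.epsPull X).obj G ≅ F)) := by
  have := fun F => ProEtLib.isIso_unit_eps (X := X) F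
  have := ProEtLib.preservesFiniteLimits_epsPull (X := X)
  refine EtModLC71.isWeakSerre_image (ProEtS.epsAdj X) (fun T hT a ⟨i⟩ => ?_) S
  let := HasDerivedCategory.standard (ProEtS.AbP X)
  let := HasDerivedCategory.standard (EtCoh.Ab X)
  have : PreservesFiniteLimits (ProEtS.epsPush X) :=
    have := (ProEtS.epsAdj X).rightAdjoint_preservesLimits
    inferInstance
  obtain ⟨δ, w₁, w₂, w₃, -, h₂, -⟩ := TriCat.exists_rightDerived_ses (ProEtS.epsPush X) hT 0
  have hz : IsZero ((ProEtS.RepsPush X (0 + 1)).obj T.X₁) :=
    (ProEtLib.isZero_repsPush_epsPull 0 a).of_iso (((ProEtS.RepsPush X (0 + 1)).mapIso i).symm)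
  exact ((MorphismProperty.epimorphisms _).arrow_mk_iso_iff
    (Arrow.isoOfNatIso (ProEtS.epsPush X).rightDerivedZeroIsoSelf (Arrow.mk T.g))).1 (h₂.epi_f (hz.eq_of_tgt _ _))

end Groth.Agent.S14016
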