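import Groth.Statements.S14025
import Groth.Agent.EtModLC71.ClassicalLocal

set_option autoImplicit false
open CategoryTheory CategoryTheory.Limits AlgebraicGeometry Opposite
universe u
open EtModW

namespace Groth.Agent.S14025

/-- Let X be a scheme, Λ a Noetherian commutative ring and F a sheaf of Λ-modules on the small pro-étale
site of X. Then F is constructible — isomorphic to the pro-étale pullback ε⁻¹E of a constructible
sheaf E of Λ-modules on the small étale site — exactly when each affine open U ⊆ X can be split into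
finitely many constructible locally closed strata, the images of immersions g_i : T_i ⟶ X, such that
for each i the pullback of F to the small pro-étale site of T_i is isomorphic to the pro-étale
pullback of a finite-type locally constant sheaf of Λ-modules on the small étale site of T_i.
(Continuity of the inclusions of étale into pro-étale sites and of the base-change functors between
pro-étale sites is carried as binders.) -/
theorem result
    (Λ : Type (u + 1)) [CommRing Λ] [IsNoetherianRing Λ]
    (X : Scheme.{u}) [∀ T : Scheme.{u}, ProEtS.EpsCont T]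
    [∀ (T : Scheme.{u}) (g : T ⟶ X), ProEtS.PCont g]
    (F : EtModW.ModP Λ X) :
    (∃ E : EtModW.Mod Λ X, EtModW.IsConstructible Λ E ∧ Nonempty ((EtModW.epsPullMod Λ X).obj E ≅ F)) ↔
      ∀ U : X.Opens, IsAffineOpen U →
        ∃ (m : ℕ) (T : Fin m → Scheme.{u}) (g : ∀ i, T i ⟶ X),
          (∀ i, IsImmersion (g i)) ∧
          (∀ i, Topology.IsConstructible ((Subtype.val : ↥(U : Set X) → X) ⁻¹' Set.range (fun t => (g i).base t))) ∧
          Pairwise (fun i j => Disjoint (Set.range (fun t => (g i).base t)) (Set.range (fun t => (g j).base t))) ∧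
          (⋃ i, Set.range (fun t => (g i).base t)) = (U : Set X) ∧
          ∀ i, ∃ E : EtModW.Mod Λ (T i), EtModW.IsFTLocConst Λ E ∧
            Nonempty ((EtModW.epsPullMod Λ (T i)).obj E ≅ (((ProEtS.bcP (g i)).sheafPullback (ModuleCat.{u + 1} Λ) (Scheme.ProEt.topology X) (Scheme.ProEt.topology (T i)))).obj F) := by
  have hP : ∀ (A B : Scheme.{u}) (f : A ⟶ B), ProEtS.PCont f := fun A B f => ProEtLib.pCont f
  constructor
  · rintro ⟨E, hE, ⟨e⟩⟩ U hU
    obtain ⟨m, T, g, hg, hc, hd, hu, hT⟩ := hE U hU
    exact ⟨m, T, g, hg, hc, hd, hu, fun i => ⟨_, hT i,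
      ⟨(EtModLC71.epsPullBC (Λ := Λ) (g i)).app E ≪≫ (EtModLC71.pullModP (Λ := Λ) (g i)).mapIso e⟩⟩⟩
  · intro h
    have hcl : ∀ W : X.Opens, IsAffineOpen W → EtModLC71.Classical.IsCl ((EtModLC71.pullModP (Λ := Λ) W.ι).obj F) := by
      intro W hW
      obtain ⟨m, T, g, hg, hc, -, hu, hT⟩ := h W hW
      have hr : ∀ i, Set.range (g i).base ⊆ Set.range W.ι.base := fun i =>
        ((Set.subset_iUnion (fun i => Set.range fun t => (g i).base t) i).trans hu.le).trans W.range_ι.ge
      let g' := fun i => IsOpenImmersion.lift W.ι (g i) (hr i)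
      have hfac : ∀ i, g' i ≫ W.ι = g i := fun i => IsOpenImmersion.lift_fac _ _ _
      have hg' : ∀ i, IsImmersion (g' i) := fun i => by
        have : IsImmersion (g' i ≫ W.ι) := by rw [hfac]; exact hg i
        exact IsImmersion.of_comp (g' i) W.ι
      have : IsAffine W.toScheme := hW
      refine EtModLC71.Classical.isCl_of_strata _ T g' (fun i => ?_) (fun x => ?_) fun i => ?_
      · obtain ⟨E, -, e⟩ := hT i
        exact (EtModLC71.Classical.pullCongrP (hfac i).symm F ⟨E, e⟩).of_iso
          ((EtModLC71.Classical.pullCompP (Λ := Λ) (g' i) W.ι).app F)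
      · obtain ⟨i, t, ht⟩ := Set.mem_iUnion.1 (hu.ge (W.range_ι.le ⟨x, rfl⟩))
        exact ⟨i, t, W.ι.isOpenEmbedding.injective
          ((congrArg (fun k : T i ⟶ X => k.base t) (hfac i)).trans ht)⟩
      · have hs : Set.range (g' i).base = W.ι.base ⁻¹' Set.range (fun t => (g i).base t) := by
          ext x
          constructor
          · rintro ⟨t, rfl⟩
            exact ⟨t, (congrArg (fun k : T i ⟶ X => k.base t) (hfac i)).symm⟩
          · rintro ⟨t, ht⟩
            exact ⟨t, W.ι.isOpenEmbedding.injective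
              ((congrArg (fun k : T i ⟶ X => k.base t) (hfac i)).trans ht)⟩
        rw [hs]
        exact hc i
    have hiso := EtModLC71.Classical.isIso_counit_of_affine F hcl
    let e := @asIso _ _ _ _ _ hiso
    refine ⟨_, fun U hU => ?_, ⟨e⟩⟩
    obtain ⟨m, T, g, hg, hc, hd, hu, hT⟩ := h U hU
    refine ⟨m, T, g, hg, hc, hd, hu, fun i => ?_⟩
    obtain ⟨Ei, hEi, ⟨ei⟩⟩ := hT i
    exact EtModLC71.isFTLocConst_of_iso (EtModLC71.epsFF.preimageIso
      (ei ≪≫ (EtModLC71.pullModP (Λ := Λ) (g i)).mapIso e.symm ≪≫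
        ((EtModLC71.epsPullBC (Λ := Λ) (g i)).app _).symm)) hEi

end Groth.Agent.S14025
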