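import Groth.Statements.S14028
import Groth.Agent.EtModLC71.EpsClosed
import Groth.Agent.EtModLC71.QuotSect

set_option autoImplicit false
open CategoryTheory CategoryTheory.Limits AlgebraicGeometry Opposite
universe u
open EtModW

namespace Groth.Agent.S14028

/-- Let X be a scheme, Λ a commutative ring, I an ideal of Λ and i : Z ⟶ X a closed immersion whose open
complement is retrocompact in X (its inclusion is quasi-compact). Assume that the étale direct image
along i sends constructible sheaves of Λ-modules on Z to constructible sheaves on X (a standard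
fact, carried here as a hypothesis). Let F be an I-adic pro-étale sheaf of Λ-modules on Z: F has a
compatible tower of quotient maps F ⟶ Q_n modulo I^(n+1), each Q_n isomorphic to the pro-étale
pullback of a constructible étale sheaf, and the canonical map F ⟶ lim_n Q_n is an isomorphism. Then
the direct image i_*F on the small pro-étale site of X is again an I-adic pro-étale sheaf.
(Continuity of the inclusions of étale into pro-étale sites and of the base-change functor along i
is carried as binders.) -/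
theorem result
    (Λ : Type (u + 1)) [CommRing Λ] (I : Ideal Λ)
    {Z X : Scheme.{u}} (i : Z ⟶ X) [IsClosedImmersion i]
    (hret : IsRetrocompact (Set.range (fun z => i.base z))ᶜ)
    [ProEtS.EpsCont Z] [ProEtS.EpsCont X] [ProEtS.PCont i]
    (hpush : ∀ E : EtModW.Mod Λ Z, EtModW.IsConstructible Λ E →
      EtModW.IsConstructible Λ ((EtModW.push Λ i).obj E))
    (F : EtModW.ModP Λ Z)
    (hF : (∃ (Q : ℕᵒᵖ ⥤ EtModW.ModP Λ Z) (p : (Functor.const ℕᵒᵖ).obj F ⟶ Q),
        (∀ n : ℕ, ARSys.IsQuot (I ^ (n + 1)) (p.app (op n))) ∧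
        (∀ n : ℕ, ∃ E : EtModW.Mod Λ Z, EtModW.IsConstructible Λ E ∧
          Nonempty ((EtModW.epsPullMod Λ Z).obj E ≅ Q.obj (op n))) ∧
        IsIso (limit.lift Q (Cone.mk F p)))) :
    (∃ (Q : ℕᵒᵖ ⥤ EtModW.ModP Λ X) (p : (Functor.const ℕᵒᵖ).obj (((ProEtS.bcP i).sheafPushforwardContinuous (ModuleCat.{u + 1} Λ) (Scheme.ProEt.topology X) (Scheme.ProEt.topology Z)).obj F) ⟶ Q),
      (∀ n : ℕ, ARSys.IsQuot (I ^ (n + 1)) (p.app (op n))) ∧
      (∀ n : ℕ, ∃ E : EtModW.Mod Λ X, EtModW.IsConstructible Λ E ∧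
        Nonempty ((EtModW.epsPullMod Λ X).obj E ≅ Q.obj (op n))) ∧
      IsIso (limit.lift Q (Cone.mk (((ProEtS.bcP i).sheafPushforwardContinuous (ModuleCat.{u + 1} Λ) (Scheme.ProEt.topology X) (Scheme.ProEt.topology Z)).obj F) p))) := by
  obtain ⟨Q, p, hQ, hc, hl⟩ := hF
  have hwc := EtModLC71.preservesWC_of_isClosedImmersion i hret
  let P := EtModLC71.pushModP (Λ := Λ) i
  let p' : (Functor.const ℕᵒᵖ).obj (P.obj F) ⟶ Q ⋙ P :=
    { app := fun n => P.map (p.app n)
      naturality := fun a b g => by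
        refine (Category.id_comp _).trans ?_
        exact ((congrArg P.map ((Category.id_comp _).symm.trans (p.naturality g))).trans (P.map_comp _ _)) }
  refine ⟨Q ⋙ P, p', fun n => EtModLC71.isQuot_pushModP hwc (hQ n), fun n => ?_, ?_⟩
  · obtain ⟨E, hE, ⟨e⟩⟩ := hc n
    obtain ⟨c⟩ := EtModLC71.nonempty_epsPush_closed i hret E
    exact ⟨_, hpush E hE, ⟨c ≪≫ P.mapIso e⟩⟩
  · have : P.IsRightAdjoint := (EtModLC71.RecollMod.pullPushAdjModP (Λ := Λ) i).isRightAdjoint
    have hlim : IsLimit (Cone.mk F p) := @IsLimit.ofPointIso _ _ _ _ _ (limit.cone Q) (Cone.mk F p) (limit.isLimit Q) hl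
    exact (inferInstance : IsIso (((isLimitOfPreserves P hlim).conePointUniqueUpToIso (limit.isLimit (Q ⋙ P))).hom))

end Groth.Agent.S14028
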