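import Groth.Statements.S1403
import Groth.Agent.FlatB12.EssLocal

set_option autoImplicit false
universe u
open FlatMor

namespace Groth.Agent.S1403

open AlgebraicGeometry CategoryTheory in
/-- Let A → B be an injective local homomorphism of local domains with B essentially of finite type and
flat over A. Then dim(B / m_A B) + trdeg_{κ(A)} κ(B) = trdeg_A B; all three quantities are finite
here, and the statement gives them as natural numbers d, e with d + e the transcendence degree of B
over A. -/
theorem result {A B : Type u} [CommRing A] [CommRing B] [IsDomain A] [IsDomain B] [IsLocalRing A] [IsLocalRing B]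
    [Algebra A B] [IsLocalHom (algebraMap A B)] [FaithfulSMul A B] [Algebra.EssFiniteType A B] [Module.Flat A B] :
    ∃ d e : ℕ, ringKrullDim (B ⧸ Ideal.map (algebraMap A B) (IsLocalRing.maximalIdeal A)) = d ∧
      Algebra.trdeg (IsLocalRing.ResidueField A) (IsLocalRing.ResidueField B) = e ∧ Algebra.trdeg A B = (d + e : ℕ) := by
  let Q := FlatB12.chartPt A B
  let d := DimFormula.fb (Spec.map (CommRingCat.ofHom (algebraMap A (FlatB12.chart A B)))) Q
  refine ⟨d, DimFormula.fd A Q.asIdeal, FlatB12.dim_closedFibre_eq A B, FlatB12.trdeg_residueField_eq A B, ?_⟩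
  have h1 : DimFormula.fd A (⊥ : Ideal (FlatB12.chart A B)) ≤ DimFormula.fd A Q.asIdeal + d :=
    FlatB12.fd_le_fd_add_fb (η := ⟨⊥, Ideal.isPrime_bot⟩) (Q := Q) bot_le
  obtain ⟨q, hqQ, hqA, hq⟩ := FlatB12.exists_fd_eq_fd_add_fb (A := A) Q
  have h2 := FlatB12.fd_le_of_flat Q.asIdeal B q.asIdeal hqQ (hqA.trans (FlatB12.under_chartPt A B))
  rw [FlatB12.trdeg_eq A B, Nat.cast_inj]
  omega

end Groth.Agent.S1403
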