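import Groth.Statements.S1404
import Groth.Agent.FlatB12.ValPoint

set_option autoImplicit false
universe u
open FlatMor

namespace Groth.Agent.S1404

open AlgebraicGeometry CategoryTheory TensorProduct in
theorem fd_includeRight_le {A V C : Type u} [CommRing A] [CommRing V] [CommRing C] [Algebra A V] [Algebra A C]
    [Algebra.FiniteType A C] (P : PrimeSpectrum (V ⊗[A] C)) :
    DimFormula.fd V P.asIdeal ≤ DimFormula.fd A
      (PrimeSpectrum.comap (Algebra.TensorProduct.includeRight (R := A) (A := V) (B := C)).toRingHom P).asIdeal := by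
  letI : Algebra C (V ⊗[A] C) := Algebra.TensorProduct.rightAlgebra
  rw [← FlatB12.rd_spec_eq_fd (A := V) P, ← FlatB12.rd_spec_eq_fd (A := A)]
  exact FibDim.rd_baseChange_le
    ((isPullback_SpecMap_of_isPushout _ _ _ _ (CommRingCat.isPushout_of_isPushout A V C (V ⊗[A] C))).flip) P

open AlgebraicGeometry CategoryTheory TensorProduct in
/-- Let A → B be an injective local homomorphism of local domains with B essentially of finite type over
A, and g an element of the maximal ideal of B lying in no minimal prime over m_A B. Assume dim(B /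
m_A B) + trdeg_{κ(A)} κ(B) = trdeg_A B (with all three finite). Then A → B/gB is injective. -/
theorem result {A B : Type u} [CommRing A] [CommRing B] [IsDomain A] [IsDomain B] [IsLocalRing A] [IsLocalRing B]
    [Algebra A B] [IsLocalHom (algebraMap A B)] [FaithfulSMul A B] [Algebra.EssFiniteType A B]
    (g : B) (hg : g ∈ IsLocalRing.maximalIdeal B)
    (hmin : ∀ q ∈ (Ideal.map (algebraMap A B) (IsLocalRing.maximalIdeal A)).minimalPrimes, g ∉ q)
    (d e : ℕ) (hd : ringKrullDim (B ⧸ Ideal.map (algebraMap A B) (IsLocalRing.maximalIdeal A)) = d)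
    (he : Algebra.trdeg (IsLocalRing.ResidueField A) (IsLocalRing.ResidueField B) = e) (hsum : Algebra.trdeg A B = (d + e : ℕ)) :
    Function.Injective (algebraMap A (B ⧸ Ideal.span {g})) := by
  classical
  let C := FlatB12.chart A B
  let Q := FlatB12.chartPt A B
  let L := FractionRing B
  have hQA : Q.asIdeal.under A = IsLocalRing.maximalIdeal A := FlatB12.under_chartPt A B
  let n := DimFormula.fd A (⊥ : Ideal C)
  have hle : ∀ q : PrimeSpectrum C, q.asIdeal ≤ Q.asIdeal → DimFormula.fd A q.asIdeal ≤ n := fun q hq => by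
    have h1 := FlatB12.fd_le_fd_add_fb (A := A) hq
    rw [FlatB12.dim_closedFibre_eq A B] at hd
    rw [FlatB12.trdeg_residueField_eq A B, Nat.cast_inj] at he
    rw [FlatB12.trdeg_eq A B, Nat.cast_inj] at hsum
    have hd' : DimFormula.fb (Spec.map (CommRingCat.ofHom (algebraMap A C))) Q = d := by exact_mod_cast hd
    rw [hd', he, add_comm e d] at h1
    exact h1.trans hsum.ge
  obtain ⟨⟨c, s⟩, hcs⟩ := IsLocalization.surj Q.asIdeal.primeCompl g
  suffices h : ∃ R : Ideal C, R.IsPrime ∧ R ≤ Q.asIdeal ∧ c ∈ R ∧ R.under A = ⊥ by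
    obtain ⟨R, hR, hRQ, hcR, hRA⟩ := h
    haveI := hR
    have hdisj : Disjoint (Q.asIdeal.primeCompl : Set C) (R : Set C) :=
      Set.disjoint_left.2 fun x hx hxR => hx (hRQ hxR)
    haveI := IsLocalization.isPrime_of_isPrime_disjoint Q.asIdeal.primeCompl B R inferInstance hdisj
    have hcm : (R.map (algebraMap C B)).comap (algebraMap C B) = R :=
      IsLocalization.under_map_of_isPrime_disjoint Q.asIdeal.primeCompl B inferInstance hdisj
    have hgR : g ∈ R.map (algebraMap C B) := by
      have h1 : g * algebraMap C B s ∈ R.map (algebraMap C B) := hcs ▸ Ideal.mem_map_of_mem _ hcR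
      refine (Ideal.IsPrime.mem_or_mem inferInstance h1).resolve_right fun h2 => ?_
      exact Set.disjoint_left.1 hdisj s.2 (hcm ▸ Ideal.mem_comap.2 h2)
    rw [injective_iff_map_eq_zero]
    intro a ha
    rw [IsScalarTower.algebraMap_apply A B, Ideal.Quotient.algebraMap_eq, Ideal.Quotient.eq_zero_iff_mem,
      Ideal.mem_span_singleton] at ha
    obtain ⟨b, hb⟩ := ha
    have h3 : algebraMap A C a ∈ R := by
      rw [← hcm, Ideal.mem_comap, ← IsScalarTower.algebraMap_apply, hb]
      exact Ideal.mul_mem_right _ _ hgR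
    exact (Ideal.mem_bot).1 (hRA.le h3)
  -- a valuation ring of `Frac B` dominating `B`
  obtain ⟨W, hBW, hWloc⟩ := IsLocalRing.exists_factor_valuationRing (algebraMap B L)
  have hWmem : ∀ b : B, b ∈ IsLocalRing.maximalIdeal B ↔
      (⟨algebraMap B L b, hBW b⟩ : W) ∈ IsLocalRing.maximalIdeal W := fun b => by
    rw [IsLocalRing.mem_maximalIdeal, IsLocalRing.mem_maximalIdeal, mem_nonunits_iff, mem_nonunits_iff, not_iff_not]
    exact ⟨fun h => h.map ((algebraMap B L).codRestrict W.toSubring hBW),
      fun h => hWloc.map_nonunit b h⟩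
  let K := FractionRing A
  have hAL : Function.Injective (algebraMap A L) := by
    rw [IsScalarTower.algebraMap_eq A B L]
    exact (IsFractionRing.injective B L).comp (FaithfulSMul.algebraMap_injective A B)
  let jK : K →+* L := IsFractionRing.lift hAL
  have hjK : ∀ a, jK (algebraMap A K a) = algebraMap A L a := fun a => IsFractionRing.lift_algebraMap hAL a
  let V := W.comap jK
  have hAV : ∀ a, algebraMap A K a ∈ V := fun a => by
    show jK (algebraMap A K a) ∈ W
    rw [hjK, IsScalarTower.algebraMap_apply A B L]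
    exact hBW _
  letI : Algebra A V := ((algebraMap A K).codRestrict V.toSubring hAV).toAlgebra
  letI : Algebra V L := (jK.comp V.subtype).toAlgebra
  haveI : IsScalarTower A V L := IsScalarTower.of_algebraMap_eq fun a => (hjK a).symm
  have hVL : Function.Injective (algebraMap V L) := jK.injective.comp Subtype.val_injective
  have hVA : Function.Injective (algebraMap A V) := fun a b h => hAL (by
    rw [IsScalarTower.algebraMap_apply A V L, IsScalarTower.algebraMap_apply A V L, h])
  have hmV : ∀ v : V, v ∈ IsLocalRing.maximalIdeal V ↔ (⟨jK v.1, v.2⟩ : W) ∈ IsLocalRing.maximalIdeal W := by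
    intro v
    rw [IsLocalRing.mem_maximalIdeal, IsLocalRing.mem_maximalIdeal, mem_nonunits_iff, mem_nonunits_iff, not_iff_not]
    constructor
    · exact fun h => h.map (((jK.comp V.subtype)).codRestrict W.toSubring fun x => x.2)
    · intro h
      obtain ⟨w, hw⟩ := h.exists_right_inv
      have hw' : jK v.1 * w.1 = 1 := congrArg Subtype.val hw
      have hv0 : v.1 ≠ 0 := fun h0 => by rw [h0, map_zero, zero_mul] at hw'; exact zero_ne_one hw'
      have hv1 : v.1⁻¹ ∈ V := by
        show jK v.1⁻¹ ∈ W
        rw [map_inv₀, ← eq_inv_of_mul_eq_one_right hw']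
        exact w.2
      exact IsUnit.of_mul_eq_one ⟨v.1⁻¹, hv1⟩ (Subtype.ext (mul_inv_cancel₀ hv0))
  -- the model over `V`
  let ι : C →ₐ[A] L := IsScalarTower.toAlgHom A C L
  let Φ : V ⊗[A] C →ₐ[V] L := Algebra.TensorProduct.lift (Algebra.ofId V L) ι fun _ _ => .all _ _
  let C' := Φ.range
  let π : V ⊗[A] C →ₐ[V] C' := Φ.rangeRestrict
  have hπ : Function.Surjective π := Φ.rangeRestrict_surjective
  haveI : Algebra.FiniteType V C' := Algebra.FiniteType.of_surjective π hπ
  let ψ : C →+* C' := π.toRingHom.comp (Algebra.TensorProduct.includeRight (R := A) (A := V) (B := C)).toRingHom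
  have hψ : ∀ x, (ψ x).1 = ι x := fun x => by
    show Φ ((1 : V) ⊗ₜ x) = _
    rw [Algebra.TensorProduct.lift_tmul, map_one, one_mul]
  have hC'W : ∀ z : C', z.1 ∈ W := by
    rintro ⟨_, z, rfl⟩
    show Φ z ∈ W
    induction z using TensorProduct.induction_on with
    | zero => rw [map_zero]; exact W.zero_mem
    | add x y hx hy => rw [map_add]; exact W.add_mem _ _ hx hy
    | tmul v x =>
      rw [Algebra.TensorProduct.lift_tmul]
      refine W.mul_mem _ _ v.2 ?_
      show algebraMap C L x ∈ W
      rw [IsScalarTower.algebraMap_apply C B L]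
      exact hBW _
  let ρ : C' →+* W := (C'.val.toRingHom).codRestrict W.toSubring hC'W
  let Q' := (IsLocalRing.maximalIdeal W).comap ρ
  have hQ'V : Q'.under V = IsLocalRing.maximalIdeal V := by
    ext v
    exact (hmV v).symm
  have hQ'C : Q'.comap ψ = Q.asIdeal := by
    ext x
    show ρ (ψ x) ∈ IsLocalRing.maximalIdeal W ↔ algebraMap C B x ∈ IsLocalRing.maximalIdeal B
    rw [hWmem, show ρ (ψ x) = (⟨algebraMap B L (algebraMap C B x), hBW _⟩ : W) from Subtype.ext ((hψ x).trans
      (IsScalarTower.algebraMap_apply C B L x))]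
  have hcQ : c ∈ Q.asIdeal := by
    show algebraMap C B c ∈ IsLocalRing.maximalIdeal B
    rw [← hcs]
    exact Ideal.mul_mem_right _ _ hg
  have hψinj : Function.Injective ψ := fun x y h => by
    have h1 := congrArg Subtype.val h
    rw [hψ, hψ] at h1
    exact ((IsFractionRing.injective B L).comp Subtype.val_injective) h1
  -- transcendence degrees
  haveI hVC' : FaithfulSMul V C' :=
    (faithfulSMul_iff_algebraMap_injective _ _).2 fun x y h => hVL (congrArg Subtype.val h)
  have hn : DimFormula.fd V (⊥ : Ideal C') = n := by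
    haveI : FaithfulSMul A V := (faithfulSMul_iff_algebraMap_injective _ _).2 hVA
    haveI : FaithfulSMul V L := (faithfulSMul_iff_algebraMap_injective _ _).2 hVL
    haveI : FaithfulSMul C' L := (faithfulSMul_iff_algebraMap_injective _ _).2 Subtype.val_injective
    haveI : FaithfulSMul C L := (faithfulSMul_iff_algebraMap_injective _ _).2
      ((IsFractionRing.injective B L).comp Subtype.val_injective)
    have hquot : ∀ z : L, ∃ a t : C, t ≠ 0 ∧ z * algebraMap C L t = algebraMap C L a := fun z => by
      obtain ⟨⟨b₁, ⟨b₂, hb₂⟩⟩, hb⟩ := IsLocalization.surj (nonZeroDivisors B) z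
      obtain ⟨⟨c₁, s₁⟩, h₁⟩ := IsLocalization.surj Q.asIdeal.primeCompl b₁
      obtain ⟨⟨c₂, s₂⟩, h₂⟩ := IsLocalization.surj Q.asIdeal.primeCompl b₂
      have h1 := congrArg (algebraMap B L) h₁
      have h2 := congrArg (algebraMap B L) h₂
      rw [map_mul, ← IsScalarTower.algebraMap_apply, ← IsScalarTower.algebraMap_apply] at h1 h2
      refine ⟨c₁ * s₂.1, c₂ * s₁.1, ?_, ?_⟩
      · intro h0
        rcases mul_eq_zero.1 h0 with h | h
        · simp only [h, map_zero] at h₂
          rcases mul_eq_zero.1 h₂ with h' | h'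
          · exact nonZeroDivisors.ne_zero hb₂ h'
          · exact s₂.2 (by rw [show s₂.1 = 0 from Subtype.val_injective h']; exact Ideal.zero_mem _)
        · exact s₁.2 (by rw [h]; exact Ideal.zero_mem _)
      · rw [map_mul, map_mul, ← h1, ← h2]
        dsimp only at hb ⊢
        rw [← hb]
        ring
    haveI : Algebra.IsAlgebraic C L := FlatB12.isAlgebraic_of_quotients hquot
    haveI : Algebra.IsAlgebraic C' L := FlatB12.isAlgebraic_of_quotients fun z => by
      obtain ⟨a, t, ht, he'⟩ := hquot z
      refine ⟨ψ a, ψ t, fun h => ht (hψinj (h.trans (map_zero _).symm)), ?_⟩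
      show z * (ψ t).1 = (ψ a).1
      rw [hψ, hψ]
      exact he'
    haveI : Algebra.IsAlgebraic A V := FlatB12.isAlgebraic_of_quotients fun z => by
      obtain ⟨⟨a, ⟨t, ht⟩⟩, h⟩ := IsLocalization.surj (nonZeroDivisors A) z.1
      exact ⟨a, t, nonZeroDivisors.ne_zero ht, Subtype.ext h⟩
    have key : (DimFormula.fd V (⊥ : Ideal C') : Cardinal.{u}) = (n : Cardinal.{u}) := by
      rw [DimFormula.fd_bot_eq_trdeg, show (n : Cardinal.{u}) = Algebra.trdeg A C from DimFormula.fd_bot_eq_trdeg A]
      have e1 : Algebra.trdeg A L = Algebra.trdeg A C := by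
        rw [← trdeg_add_eq A C (A := L), trdeg_eq_zero (R := C), add_zero]
      have e2 : Algebra.trdeg A L = Algebra.trdeg V C' := by
        rw [← trdeg_add_eq A V (A := L), trdeg_eq_zero (R := A), zero_add, ← trdeg_add_eq V C' (A := L),
          trdeg_eq_zero (R := C'), add_zero]
      rw [← e1, e2]
    exact_mod_cast key
  obtain ⟨R', hR'p, hR'Q, hcR', hR'V⟩ := FlatB12.exists_over_bot_mem (V := V) (C := C')
    (FaithfulSMul.algebraMap_injective V C') Q' hQ'V (ψ c) (by
      rw [← Ideal.mem_comap, hQ'C]; exact hcQ) (fun q' hq' hq'Q hcq' => by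
    haveI := hq'.1.1
    have hq'V : q'.under V = IsLocalRing.maximalIdeal V :=
      le_antisymm (le_trans (Ideal.comap_mono hq'Q) hQ'V.le) (Ideal.map_le_iff_le_comap.1 hq'.1.2)
    have hf1 : DimFormula.fd V q' = n := by
      rw [← hn]
      exact FlatB12.fd_eq_of_minimal (FaithfulSMul.algebraMap_injective V C') (⟨q', hq'.1.1⟩ : PrimeSpectrum C')
        fun r h1 h2 => PrimeSpectrum.ext (le_antisymm h1
          (hq'.2 ⟨r.2, Ideal.map_le_iff_le_comap.2 (h2.trans hq'V).ge⟩ h1))
    let q'' : PrimeSpectrum (V ⊗[A] C) := ⟨q'.comap π.toRingHom, inferInstance⟩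
    let q : PrimeSpectrum C := ⟨q'.comap ψ, inferInstance⟩
    have hqQ : q.asIdeal ≤ Q.asIdeal := hQ'C ▸ Ideal.comap_mono hq'Q
    have hqA : q.asIdeal.under A = IsLocalRing.maximalIdeal A := by
      refine le_antisymm (hQA ▸ Ideal.comap_mono hqQ) fun a ha => ?_
      show ψ (algebraMap A C a) ∈ q'
      have h1 : algebraMap A V a ∈ q'.under V := by
        rw [hq'V, hmV]
        have h2 : algebraMap A B a ∈ IsLocalRing.maximalIdeal B :=
          map_nonunit (algebraMap A B) a ha
        rw [hWmem] at h2
        convert h2 using 2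
        exact (hjK a).trans (IsScalarTower.algebraMap_apply A B L a)
      have h3 : ψ (algebraMap A C a) = algebraMap V C' (algebraMap A V a) := Subtype.ext (by
        rw [hψ, AlgHom.commutes]
        exact IsScalarTower.algebraMap_apply A V L a)
      rw [h3]; exact h1
    have hbc : DimFormula.fd V q''.asIdeal ≤ DimFormula.fd A q.asIdeal := by
      exact fd_includeRight_le q''
    rw [DimFormula.fd_comap_of_surjective V π hπ q', hf1] at hbc
    have hqn : DimFormula.fd A q.asIdeal = n := le_antisymm (hle q hqQ) hbc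
    have hdisj : Disjoint (Q.asIdeal.primeCompl : Set C) (q.asIdeal : Set C) :=
      Set.disjoint_left.2 fun x hx hxR => hx (hqQ hxR)
    haveI := IsLocalization.isPrime_of_isPrime_disjoint Q.asIdeal.primeCompl B q.asIdeal inferInstance hdisj
    have hcm : (q.asIdeal.map (algebraMap C B)).comap (algebraMap C B) = q.asIdeal :=
      IsLocalization.under_map_of_isPrime_disjoint Q.asIdeal.primeCompl B inferInstance hdisj
    refine hmin (q.asIdeal.map (algebraMap C B)) ⟨⟨inferInstance, ?_⟩, fun J hJ hJq => ?_⟩ ?_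
    · rw [IsScalarTower.algebraMap_eq A C B, ← Ideal.map_map]
      exact Ideal.map_mono (Ideal.map_le_iff_le_comap.2 hqA.ge)
    · haveI := hJ.1
      let r : PrimeSpectrum C := ⟨J.comap (algebraMap C B), inferInstance⟩
      have hrq : r.asIdeal ≤ q.asIdeal := le_trans (Ideal.comap_mono hJq) hcm.le
      have hrA : r.asIdeal.under A = q.asIdeal.under A := by
        refine le_antisymm (Ideal.comap_mono hrq) (hqA ▸ fun a ha => ?_)
        show algebraMap C B (algebraMap A C a) ∈ J
        rw [← IsScalarTower.algebraMap_apply]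
        exact hJ.2 (Ideal.mem_map_of_mem _ ha)
      by_cases hrq' : r = q
      · rw [← hrq']
        exact Ideal.map_comap_le
      · have h1 := FlatB12.fd_lt_of_lt hrq hrq' hrA
        have h2 := hle r (hrq.trans hqQ)
        omega
    · have h1 : g * algebraMap C B s ∈ q.asIdeal.map (algebraMap C B) := hcs ▸ Ideal.mem_map_of_mem _ hcq'
      refine (Ideal.IsPrime.mem_or_mem inferInstance h1).resolve_right fun h2 => ?_
      exact Set.disjoint_left.1 hdisj s.2 (hcm ▸ Ideal.mem_comap.2 h2))
  haveI := hR'p
  refine ⟨R'.comap ψ, inferInstance, hQ'C ▸ Ideal.comap_mono hR'Q, hcR', ?_⟩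
  rw [eq_bot_iff]
  intro a ha
  have h3 : ψ (algebraMap A C a) = algebraMap V C' (algebraMap A V a) := Subtype.ext (by
    rw [hψ, AlgHom.commutes]
    exact IsScalarTower.algebraMap_apply A V L a)
  have h1 : algebraMap A V a ∈ R'.under V := by
    show algebraMap V C' (algebraMap A V a) ∈ R'
    rw [← h3]; exact ha
  rw [hR'V, Ideal.mem_bot] at h1
  exact hVA (h1.trans (map_zero _).symm)

end Groth.Agent.S1404
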