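import Groth.Statements.S14056
import Groth.Agent.SurfInt.NumConnApps

set_option autoImplicit false
set_option linter.style.haveILetI false
set_option linter.unusedSectionVars false
set_option backward.isDefEq.respectTransparency false
set_option backward.isDefEq.respectTransparency.types false
universe u
open CategoryTheory CategoryTheory.Limits AlgebraicGeometry TopologicalSpace
open Surf

namespace Groth.Agent.S14056

/-- Let k be an algebraically closed field and X a smooth surface over k: an integral scheme, proper and
smooth over k, of dimension 2; let W be its canonical module, a second exterior power of Ω_{X/k}.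
For an invertible module L and an integral closed one-dimensional subscheme C ⊆ X write (L·C) =
χ(O_C ⊗ L) − χ(O_C). Suppose that X has non-negative Kodaira dimension, that is some tensor power
W^{⊗m} with m > 0 has a nonzero global section, and that X is minimal: it contains no (−1)-curve,
where a (−1)-curve is taken, through its numerical characterization, to be an integral closed
one-dimensional subscheme E with H¹(E, O_E) = 0 and (O_X(E)·E) = −1, O_X(E) being a tensor inverse
of the ideal sheaf of E. Then W is nef: (W·C) ≥ 0 for every integral closed one-dimensional C ⊆ X.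
(Together with the first assertion: under non-negative Kodaira dimension, X is minimal if and only
if W is nef.) -/
theorem result (k : Type u) [Field k] [IsAlgClosed k] (X : Scheme.{u})
    [X.Over (Spec (CommRingCat.of k))] [IsProper (X ↘ (Spec (CommRingCat.of k)))] [Smooth (X ↘ (Spec (CommRingCat.of k)))]
    [IsIntegral X] (hdim : topologicalKrullDim X = 2)
    (W : X.Modules) (hW : ExtPow.IsExtPow 2 (Omega.sheaf (X ↘ (Spec (CommRingCat.of k)))) W)
    (m : ℕ) (hm : 0 < m) (hsec : Nontrivial (Coh.HH X (CohB1.tensorPow W m) 0))
    (hmin : (∀ (E : X.IdealSheafData) (N : X.Modules), IsIntegral E.subscheme →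
      topologicalKrullDim (E.support : Set X) = 1 → ClSub.IsInverseOf N (ClSub.idealMod E) →
      Subsingleton (Coh.HH E.subscheme (Coh.structureModule E.subscheme) 1) →
      Curv2.euler k X (CohB1.tensorMod (ClSub.quotMod E) N) - Curv2.euler k X (ClSub.quotMod E) ≠ -1)) :
    (∀ C : X.IdealSheafData, IsIntegral C.subscheme → topologicalKrullDim (C.support : Set X) = 1 →
      0 ≤ Curv2.euler k X (CohB1.tensorMod (ClSub.quotMod C) W) - Curv2.euler k X (ClSub.quotMod C)) := by
  open Groth.Agent in
  open Groth.Agent.SurfInt in
  intro C hCi hC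
  haveI := hCi
  by_contra hneg
  push Not at hneg
  change degOn k (ClSub.quotMod C) W < 0 at hneg
  have hd := hdim.le
  haveI := noeth k (X := X)
  have hreg : ∀ x : X, IsRegularLocalRing (X.presheaf.stalk x) := isRegular_of_smooth k
  have hWi := Adj.isInvertible_canonical k hdim hreg hW
  have hWm := H23.PicMul.isInvertible_tensorPow hWi m
  have hCe := isEffCartier_curve k hdim hreg C hC
  have iC := ArSurfX.isInvertible_idealMod hCe
  obtain ⟨s, hs⟩ := exists_section_ne_zero hsec
  obtain ⟨hDe, hDi⟩ := isInverseOf_zeroScheme hWm s hs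
  set Z := PicF2.zeroScheme (CohB1.tensorPow W m) s
  have iZ := ArSurfX.isInvertible_idealMod hDe
  have hCne : C ≠ ⊤ := fun h => by
    rw [h, dim_support_top] at hC
    exact absurd hC (by simp)
  obtain ⟨e, E, hE, hFE, hEC⟩ := exists_decomp (ι := Fin 1) (fun _ => C) (fun _ => hCe) (fun _ => hCne) Z hDe
  rw [Fin.prod_univ_one] at hFE
  have hgen : genC C ∉ (E.support : Set X) := fun h => hEC 0 (by
    rw [AlgSpLib.CartierRegular.eq_vanishingIdeal_support C]
    exact Scheme.IdealSheafData.le_support_iff_le_vanishingIdeal.1 ((support_subset_iff (C := C)).2 h))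
  have iE := ArSurfX.isInvertible_idealMod hE
  have hEC' := dot_ideal_nonneg k hd C hC iC iE hgen
  have hZC : dot k (ClSub.idealMod C) (ClSub.idealMod Z) =
      (e 0 : ℤ) * dot k (ClSub.idealMod C) (ClSub.idealMod C) + dot k (ClSub.idealMod C) (ClSub.idealMod E) := by
    rw [hFE, dot_idealMod_mul k hd iC (SurfInt.isEffCartier_pow hCe _) hE, dot_idealMod_pow k hd iC hCe]
  rw [dot_ideal_left k hd C iC iZ, dot_ideal_left k hd C iC iC, degOn_inv k (isCoh_quotMod k C)
    (dim_support_quot_curve hC) hWm iZ hDi,
    degOn_tensorPow k (isCoh_quotMod k C) (dim_support_quot_curve hC) hWi] at hZC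
  letI := overComp k C.subschemeι
  have hadj := Adj.degOn_curve k hdim hreg hW C hC
  have hmneg : (m : ℤ) * degOn k (ClSub.quotMod C) W < 0 := mul_neg_of_pos_of_neg (by exact_mod_cast hm) hneg
  have he0 : 0 < (e 0 : ℤ) ∧ 0 < degOn k (ClSub.quotMod C) (ClSub.idealMod C) := by
    rcases le_or_gt (degOn k (ClSub.quotMod C) (ClSub.idealMod C)) 0 with h | h
    · have := mul_nonpos_of_nonneg_of_nonpos (Int.natCast_nonneg (e 0)) h
      linarith
    · refine ⟨?_, h⟩
      rcases Nat.eq_zero_or_pos (e 0) with h0 | h0
      · rw [h0] at hZC; simp at hZC; linarith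
      · exact_mod_cast h0
  have hg : (Curv2.genus k C.subscheme : ℤ) = 0 := by
    have := Int.natCast_nonneg (Curv2.genus k C.subscheme)
    omega
  obtain ⟨N, hN, hNe⟩ := H23.PicInv.exists_inverse iC
  have hH1 : Subsingleton (Coh.HH C.subscheme (Coh.structureModule C.subscheme) 1) := by
    haveI := isProper_comp k C.subschemeι rfl
    haveI := noeth k (X := C.subscheme)
    haveI := CurveCohLib.finite_HH (k := k) (CurveDeg.isCoh_of_isInvertible (InvX.isInvertible_structureModule (X := C.subscheme))) 1
    exact Module.finrank_zero_iff.1 (by exact_mod_cast hg)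
  refine hmin C N hCi hC (isInverseOf_comm hNe) hH1 ?_
  show degOn k (ClSub.quotMod C) N = -1
  rw [degOn_inv k (isCoh_quotMod k C) (dim_support_quot_curve hC) iC hN hNe]
  omega

end Groth.Agent.S14056
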