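import Groth.Statements.S14057
import Groth.Agent.SurfInt.Adj.Apps

set_option autoImplicit false
set_option linter.style.haveILetI false
set_option linter.unusedSectionVars false
set_option backward.isDefEq.respectTransparency false
set_option backward.isDefEq.respectTransparency.types false
universe u
open CategoryTheory CategoryTheory.Limits AlgebraicGeometry TopologicalSpace
open Surf

namespace Groth.Agent.S14057

/-- Let k be an algebraically closed field and X a smooth surface over k: an integral scheme, proper and
smooth over k, of dimension 2; let W be its canonical module, a second exterior power of Ω_{X/k}.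
For an invertible module L and an integral closed one-dimensional subscheme C ⊆ X write (L·C) =
χ(O_C ⊗ L) − χ(O_C), and (W·W) for the self-intersection number of W (the alternating sum χ(O_X) −
2χ(W) + χ(W ⊗ W)). Suppose W is nef and (W·W) > 0. Then W is ample if and only if X contains no
(−2)-curve, where a (−2)-curve is taken, through its numerical characterization, to be an integral
closed one-dimensional subscheme E with H¹(E, O_E) = 0 and (O_X(E)·E) = −2, O_X(E) being a tensor
inverse of the ideal sheaf of E. (The published statement is for a minimal surface of general type;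
its proof uses exactly that the canonical module is nef with positive self-intersection, which is
how the hypothesis is written here.) -/
theorem result (k : Type u) [Field k] [IsAlgClosed k] (X : Scheme.{u})
    [X.Over (Spec (CommRingCat.of k))] [IsProper (X ↘ (Spec (CommRingCat.of k)))] [Smooth (X ↘ (Spec (CommRingCat.of k)))]
    [IsIntegral X] (hdim : topologicalKrullDim X = 2)
    (W : X.Modules) (hW : ExtPow.IsExtPow 2 (Omega.sheaf (X ↘ (Spec (CommRingCat.of k)))) W)
    (hnef : (∀ C : X.IdealSheafData, IsIntegral C.subscheme → topologicalKrullDim (C.support : Set X) = 1 →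
      0 ≤ Curv2.euler k X (CohB1.tensorMod (ClSub.quotMod C) W) - Curv2.euler k X (ClSub.quotMod C)))
    (hpos : 0 < FGA.intNum k X 2 ![W, W] (Coh.structureModule X)) :
    CohB1.IsAmple W ↔
    (∀ (E : X.IdealSheafData) (N : X.Modules), IsIntegral E.subscheme →
      topologicalKrullDim (E.support : Set X) = 1 → ClSub.IsInverseOf N (ClSub.idealMod E) →
      Subsingleton (Coh.HH E.subscheme (Coh.structureModule E.subscheme) 1) →
      Curv2.euler k X (CohB1.tensorMod (ClSub.quotMod E) N) - Curv2.euler k X (ClSub.quotMod E) ≠ -2) := by
  open Groth.Agent in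
  have hreg := SurfInt.isRegular_of_smooth k (X := X)
  have hWi := SurfInt.Adj.isInvertible_canonical k hdim hreg hW
  obtain ⟨H, hH⟩ := SurfInt.exists_ample k hdim hreg
  constructor
  · intro hamp E N hE hEd hN hH1 heq
    haveI := hE
    have hI := SurfInt.isInvertible_curve k hdim hreg E hEd
    have hNi := SurfInt.isInvertible_of_isInverse hI (SurfInt.isInverseOf_comm hN)
    have h1 := SurfInt.Adj.degOn_curve k hdim hreg hW E hEd
    rw [SurfInt.Adj.genus_eq_zero k E hH1] at h1
    have h2 := SurfInt.degOn_inv k (SurfInt.isCoh_quotMod k E) (SurfInt.dim_support_quotMod hEd.le) hI hNi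
      (SurfInt.isInverseOf_comm hN)
    have h3 := SurfInt.degOn_ample_pos k E hEd hamp
    change SurfInt.degOn k (ClSub.quotMod E) N = -2 at heq
    norm_num at h1
    omega
  · intro hno
    refine SurfInt.isAmple_of_nakai k hdim hWi hH hpos fun E hE hEd => ?_
    haveI := hE
    by_contra hle
    have h0 : SurfInt.degOn k (ClSub.quotMod E) W = 0 := le_antisymm (not_lt.1 hle) (hnef E hE hEd)
    have hI := SurfInt.isInvertible_curve k hdim hreg E hEd
    obtain ⟨N, hNi, hNe⟩ := H23.PicInv.exists_inverse hI
    letI := SurfInt.overComp k E.subschemeι
    have h1 := SurfInt.Adj.degOn_curve k hdim hreg hW E hEd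
    have h2 := SurfInt.degOn_inv k (SurfInt.isCoh_quotMod k E) (SurfInt.dim_support_quotMod hEd.le) hI hNi hNe
    have e1 := SurfInt.dot_ideal_left k hdim.le E hI hI
    have e2 := SurfInt.dot_ideal_left k hdim.le E hI hWi
    have h3 : SurfInt.dot k (ClSub.idealMod E) W = 0 := by omega
    obtain ⟨hle', heq'⟩ := SurfInt.index_theorem k hdim hWi hI hH hpos
      ((SurfInt.dot_comm k hdim.le hWi hI).trans h3)
    have hIneg : SurfInt.dot k (ClSub.idealMod E) (ClSub.idealMod E) < 0 := by
      refine lt_of_le_of_ne hle' fun h => ?_
      have h4 := heq' h H hH.1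
      rw [SurfInt.dot_ideal_left k hdim.le E hI hH.1] at h4
      have := SurfInt.degOn_ample_pos k E hEd hH
      omega
    have hg : Curv2.genus k E.subscheme = 0 := by omega
    rw [hg] at h1
    norm_num at h1
    refine hno E N hE hEd (SurfInt.isInverseOf_comm hNe) ?_ ?_
    · haveI := SurfInt.isProper_comp k E.subschemeι rfl
      haveI := SurfInt.noeth k (X := E.subscheme)
      haveI := CurveCohLib.finite_HH (k := k) (SurfInt.isCoh_structureModule (X := E.subscheme)) 1
      exact Module.finrank_zero_iff.1 (hg : Module.finrank k (Coh.HH E.subscheme (Coh.structureModule E.subscheme) 1) = 0)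
    · show SurfInt.degOn k (ClSub.quotMod E) N = -2
      omega

end Groth.Agent.S14057
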