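import Groth.Statements.S1406
import Groth.Agent.AlgSpLib.Descent2

set_option autoImplicit false
universe u
open FlatMor

namespace Groth.Agent.S1406

open AlgebraicGeometry CategoryTheory Limits in
/-- Let a : X' → X be flat, locally of finite presentation and surjective. Then all fibres of f : X → Y
are locally Noetherian if and only if all fibres of a ≫ f are. -/
theorem result {X X' Y : Scheme.{u}} (f : X ⟶ Y) (a : X' ⟶ X) [Flat a] [LocallyOfFinitePresentation a] [Surjective a] :
    (∀ y : Y, IsLocallyNoetherian (f.fiber y)) ↔ ∀ y : Y, IsLocallyNoetherian ((a ≫ f).fiber y) := by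
  refine forall_congr' fun y => ?_
  let e : pullback a (f.fiberι y) ≅ (a ≫ f).fiber y := pullbackRightPullbackFstIso f (Y.fromSpecResidueField y) a
  let q : (a ≫ f).fiber y ⟶ f.fiber y := e.inv ≫ pullback.snd a (f.fiberι y)
  haveI : Flat q := inferInstance
  haveI : Surjective q := inferInstance
  haveI : LocallyOfFinitePresentation q := inferInstance
  haveI : UniversallyOpen q := UniversallyOpen.of_flat q
  exact ⟨fun h => LocallyOfFiniteType.isLocallyNoetherian q,
    fun h => AlgSpLib.isLocallyNoetherian_of_flat q⟩

end Groth.Agent.S1406
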