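import Groth.Statements.S14060
-- import your own Groth.Agent.* helpers here

set_option autoImplicit false
universe u
open CategoryTheory CategoryTheory.Limits TopologicalSpace
open CohTop

namespace Groth.Agent.S14060
open TopologicalSpace

/-- Let X be a topological space, r ≥ 1 an integer and 0 → F_r → ⋯ → F_2 → F_1 → F_0 → 0 an exact
sequence of sheaves of abelian groups on X, presented as a chain complex F of abelian sheaves
indexed by the natural numbers whose differential F_r → F_{r−1} is a monomorphism, whose
differential F_1 → F_0 is an epimorphism of sheaves, and which is exact at F_j for 1 ≤ j ≤ r − 1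
(for r = 1 the single map F_1 → F_0 is mono and epi). Assume the sheaf cohomology groups H^{j−1}(X,
F_j) vanish for 2 ≤ j ≤ r. Then the map on global sections F_1(X) → F_0(X) is surjective. (The
instance hypothesis that the category of abelian sheaves on X has Ext groups in the universe of X
holds for every X, abelian sheaves on a space forming a Grothendieck abelian category; it is the
setting in which sheaf cohomology is defined.) -/
theorem result (X : TopCat.{u})
    [HasExt.{u} (Sheaf (Opens.grothendieckTopology X) AddCommGrpCat.{u})]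
    (r : ℕ) (hr : 1 ≤ r)
    (F : ChainComplex (Sheaf (Opens.grothendieckTopology X) AddCommGrpCat.{u}) ℕ)
    (hmono : Mono (F.d r (r - 1))) (hepi : Epi (F.d 1 0))
    (hex : ∀ j : ℕ, 1 ≤ j → j < r → F.ExactAt j)
    (hvan : ∀ j : ℕ, 2 ≤ j → j ≤ r → Subsingleton (Sheaf.H (F.X j) (j - 1))) :
    Function.Surjective ((F.d 1 0).hom.app (Opposite.op ⊤)) := by
  let Z : ℕ → Sheaf (Opens.grothendieckTopology X) AddCommGrpCat.{u} := fun j => Limits.kernel (F.d (j + 1) j)
  let p : ∀ j, F.X (j + 2) ⟶ Z j := fun j => Limits.kernel.lift _ (F.d (j + 2) (j + 1)) (F.d_comp_d _ _ _)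
  have hw : ∀ j, Limits.kernel.ι (F.d (j + 2) (j + 1)) ≫ p j = 0 := fun j => by
    rw [← cancel_mono (Limits.kernel.ι (F.d (j + 1) j)), Category.assoc, Limits.kernel.lift_ι, Limits.kernel.condition,
      Limits.zero_comp]
  have hses : ∀ j, j + 1 < r → (ShortComplex.mk _ (p j) (hw j)).ShortExact := fun j hj => by
    have he : (F.sc' (j + 2) (j + 1) j).Exact :=
      (HomologicalComplex.exactAt_iff' F _ _ _ (by simp) (by simp)).1 (hex (j + 1) (by omega) hj)
    haveI : Epi (p j) := he.epi_kernelLift
    exact { exact := ShortComplex.exact_of_f_is_kernel _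
              (Limits.isKernelOfComp (Limits.kernel.ι (F.d (j + 1) j)) (F.d (j + 2) (j + 1))
                (Limits.kernelIsKernel _) (hw j) (Limits.kernel.lift_ι _ _ _))
            mono_f := inferInstance
            epi_g := inferInstance }
  have hZ : ∀ m j, j + 1 + m = r → Subsingleton (Sheaf.H (Z j) (j + 1)) := by
    intro m
    induction m with
    | zero =>
      intro j hj
      obtain rfl : r = j + 1 := by omega
      haveI : Mono (F.d (j + 1) j) := by simpa using hmono
      have hz : Limits.IsZero (Z j) := Limits.isZero_kernel_of_mono _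
      refine subsingleton_of_forall_eq 0 fun (x : Abelian.Ext _ (Z j) (j + 1)) => ?_
      rw [← Abelian.Ext.comp_mk₀_id x, (Limits.IsZero.iff_id_eq_zero _).1 hz, Abelian.Ext.mk₀_zero, Abelian.Ext.comp_zero]
    | succ m ih =>
      intro j hj
      have hS := hses j (by omega)
      have h1 : Subsingleton (Sheaf.H (Z (j + 1)) (j + 2)) := ih (j + 1) (by omega)
      have h2 : Subsingleton (Sheaf.H (F.X (j + 2)) (j + 1)) := hvan (j + 2) (by omega) (by omega)
      refine subsingleton_of_forall_eq 0 fun (x : Abelian.Ext _ (Z j) (j + 1)) => ?_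
      obtain ⟨y, rfl⟩ := Abelian.Ext.covariant_sequence_exact₃ _ hS x (n₁ := j + 2) rfl (h1.elim _ _)
      rw [show y = 0 from h2.elim _ _, Abelian.Ext.zero_comp]
  have hS : (ShortComplex.mk (Limits.kernel.ι (F.d 1 0)) (F.d 1 0) (Limits.kernel.condition _)).ShortExact :=
    { exact := ShortComplex.exact_of_f_is_kernel _ (Limits.kernelIsKernel _)
      mono_f := inferInstance
      epi_g := hepi }
  intro s
  have h1 : Subsingleton (Sheaf.H (Z 0) 1) := hZ (r - 1) 0 (by omega)
  obtain ⟨y, hy⟩ := Abelian.Ext.covariant_sequence_exact₃ _ hS ((Sheaf.H.equiv₀ (F.X 0) Limits.isTerminalTop).symm s)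
    (n₁ := 1) rfl (h1.elim _ _)
  refine ⟨Sheaf.H.equiv₀ (F.X 1) Limits.isTerminalTop y, ?_⟩
  refine (Sheaf.H.equiv₀_naturality (f := F.d 1 0) Limits.isTerminalTop y).trans ?_
  rw [Sheaf.H.map_apply]
  exact (congrArg _ hy).trans (AddEquiv.apply_symm_apply _ _)

end Groth.Agent.S14060
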