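import Groth.Statements.S14064
import Groth.Agent.SurfInt.Sections

set_option autoImplicit false
set_option linter.style.haveILetI false
set_option linter.unusedSectionVars false
set_option backward.isDefEq.respectTransparency false
set_option backward.isDefEq.respectTransparency.types false
universe u
open CategoryTheory CategoryTheory.Limits AlgebraicGeometry TopologicalSpace
open Surf

namespace Groth.Agent.S14064

/-- Fix a field k, an integral proper k-scheme X, and an invertible O_X-module L with tensor inverse M.
Suppose that L^{⊗j} has a nonzero global section for every j ≥ 4 and that no tensor power L^{⊗j}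
with j ≥ 1 is isomorphic to O_X. Then H⁰(X, M^{⊗i}) = 0 for every i ≥ 1: the negative powers of L
have no nonzero global sections. (The published statement is for the canonical module of a minimal
surface of general type over an algebraically closed field, where the fourth and higher powers are
globally generated by a deep result quoted without proof, and non-triviality of the positive powers
comes from bigness; the published deduction of this part uses exactly the two hypotheses carried
here, on an integral proper X.) -/
theorem result (k : Type u) [Field k]
    (X : Scheme.{u}) [X.Over (Spec (CommRingCat.of k))] [IsProper (X ↘ (Spec (CommRingCat.of k)))] [IsIntegral X]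
    (L M : X.Modules) (hL : PicF.IsInvertible L) (hM : ClSub.IsInverseOf M L)
    (hsec : ∀ j : ℕ, 4 ≤ j → Nontrivial (Coh.HH X (CohB1.tensorPow L j) 0))
    (hnt : ∀ j : ℕ, 1 ≤ j → IsEmpty (CohB1.tensorPow L j ≅ Coh.structureModule X))
    (i : ℕ) (hi : 1 ≤ i) :
    Subsingleton (Coh.HH X (CohB1.tensorPow M i) 0) := by
  classical
  open Groth.Agent in open scoped Groth.Agent.H23.PicMul in
  rw [← not_nontrivial_iff_subsingleton]
  intro hnt'
  haveI : ConnectedSpace X := inferInstance
  have hMi : PicF.IsInvertible M := SurfInt.isInvertible_of_isInverse hL (SurfInt.isInverseOf_comm hM)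
  obtain ⟨t, ht⟩ := SurfInt.exists_section_ne_zero hnt'
  obtain ⟨s, hs⟩ := SurfInt.exists_section_ne_zero (hsec (i * 4) (by omega))
  obtain ⟨r, hr⟩ := SurfInt.exists_tensorPow_section (H23.PicMul.isInvertible_tensorPow hMi i) t ht 4
  have hinv : ClSub.IsInverseOf (CohB1.tensorPow L (i * 4)) (CohB1.tensorPow (CohB1.tensorPow M i) 4) :=
    H23.PicMul.cl_eq_iff.1 (by
      have h1 : PicF.cl M * PicF.cl L = 1 := H23.PicMul.cl_eq_iff.2 hM
      rw [H23.PicMul.cl_tensor, H23.PicMul.cl_tensorPow, H23.PicMul.cl_tensorPow, H23.PicMul.cl_tensorPow,
        ← pow_mul, ← mul_pow, mul_comm (PicF.cl L), h1, one_pow, ← H23.PicMul.one_def])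
  exact (hnt (i * 4) (by omega)).elim' (SurfInt.nonempty_iso_of_sections
    (GeomField.isField_globalFunctions k X) (H23.PicMul.isInvertible_tensorPow hL _)
    (H23.PicMul.isInvertible_tensorPow (H23.PicMul.isInvertible_tensorPow hMi i) 4) hinv s hs r hr).some

end Groth.Agent.S14064
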