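import Groth.Statements.S14105
import Groth.Agent.LA96.FibreDim
import Groth.Agent.LA96.InfLemmas

set_option autoImplicit false
universe u
open CategoryTheory CategoryTheory.Limits AlgebraicGeometry Opposite TopologicalSpace
open CInt

namespace Groth.Agent.S14105

/-- Let f : X → S be a morphism and g : S' → S a base change, with X, S, S' and X' = X ×_S S' locally
Noetherian, and let Y be a closed subset of X with preimage Y' under the projection X' → X. Writing
the codimension of a closed subset relative to a morphism as the infimum, over its points, of the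
Krull dimension of the local ring of the fibre through that point: the codimension of Y' relative to
X' → S' is at least the codimension of Y relative to f, and the two are equal when the projection X'
→ X maps Y' onto Y. -/
theorem result {X S S' : Scheme.{u}} (f : X ⟶ S) (g : S' ⟶ S)
    [IsLocallyNoetherian X] [IsLocallyNoetherian S] [IsLocallyNoetherian S']
    [IsLocallyNoetherian (pullback f g)] (Y : Set ↥X) (hY : IsClosed Y) :
    ((⨅ y : Y, ringKrullDim ↑(CInt.fiberStalk f y.1)) ≤
      ⨅ y' : (fun x' => (pullback.fst f g) x') ⁻¹' Y,
        ringKrullDim ↑(CInt.fiberStalk (pullback.snd f g) y'.1)) ∧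
    (Y ⊆ Set.range (pullback.fst f g).base →
      (⨅ y' : (fun x' => (pullback.fst f g) x') ⁻¹' Y,
        ringKrullDim ↑(CInt.fiberStalk (pullback.snd f g) y'.1)) =
        ⨅ y : Y, ringKrullDim ↑(CInt.fiberStalk f y.1)) := by
  have h1 := LA96.iInf_subset_le_preimage (fun x : ↥X => ringKrullDim ↑(CInt.fiberStalk f x))
    (fun x' : ↥(pullback f g) => ringKrullDim ↑(CInt.fiberStalk (pullback.snd f g) x'))
    (fun x' => pullback.fst f g x') Y (fun x' => LA96.dim_fiberStalk_le_baseChange f g x')
  refine ⟨h1, fun hr => le_antisymm ?_ h1⟩
  refine LA96.iInf_preimage_le_subset (fun x : ↥X => ringKrullDim ↑(CInt.fiberStalk f x))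
    (fun x' : ↥(pullback f g) => ringKrullDim ↑(CInt.fiberStalk (pullback.snd f g) x'))
    (fun x' => pullback.fst f g x') Y (fun y hy => ?_)
  obtain ⟨x₀, rfl⟩ := hr hy
  exact LA96.exists_dim_fiberStalk_baseChange_le f g x₀

end Groth.Agent.S14105
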