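import Groth.Statements.S14119
import Groth.Agent.BlowUp95.ProperIntersect

set_option autoImplicit false
universe u
open CategoryTheory CategoryTheory.Limits AlgebraicGeometry Opposite TopologicalSpace
open BlowUp

namespace Groth.Agent.S14119

/-- Let X be a locally Noetherian scheme, Y an effective Cartier divisor on X (a quasi-coherent ideal
sheaf which, near every point, is generated on some affine open by one nonzerodivisor; Y is its
support) and Z a closed integral subscheme (a closed immersion i from an integral scheme with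
generic point ξ). Assume X irreducible with all local rings catenary (the first of the two printed
sufficient conditions), and assume that the inverse image ideal sheaf of Y on Z is the ideal of an
effective Cartier divisor on Z. Then Y and Z intersect properly: every point ζ of Y ∩ Z that is
maximal under generization inside Y ∩ Z satisfies dim O_{X,ζ} = codim(Y,X) + codim(Z,X), where
codim(Y,X) is the infimum over y ∈ Y of dim O_{X,y} and codim(Z,X) = dim O_{X,i(ξ)}. (The published
statement also has a second sufficient condition, X biequidimensional, and a fourth equivalent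
condition, vanishing of the higher Tor sheaves of O_Y against O_Z; neither is included in this row.) -/
theorem result {X Z : Scheme.{u}}
    [IsLocallyNoetherian X] [IrreducibleSpace ↥X] (hcat : ∀ x : ↥X, CAlg.IsCatenary ↑(X.presheaf.stalk x))
    (𝓘 : X.IdealSheafData) (hY : BlowUp.IsEffCartierIdeal 𝓘)
    (i : Z ⟶ X) [IsClosedImmersion i] [IsIntegral Z] (hc : BlowUp.IsEffCartierIdeal (𝓘.comap i)) :
    (∀ ζ : ↥X, ζ ∈ (𝓘.support : Set ↥X) ∩ Set.range i.base →
        (∀ ζ' : ↥X, ζ' ∈ (𝓘.support : Set ↥X) ∩ Set.range i.base → ζ' ⤳ ζ → ζ' = ζ) →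
        ringKrullDim ↑(X.presheaf.stalk ζ) =
          (⨅ y : (𝓘.support : Set ↥X), ringKrullDim ↑(X.presheaf.stalk y.1)) +
            ringKrullDim ↑(X.presheaf.stalk (i (genericPoint ↥Z)))) := by
  open Groth.Agent.DimFormula in
  intro ζ hζ hmax
  obtain ⟨hζY, w, rfl⟩ := hζ
  have : IsLocallyNoetherian Z := LocallyOfFiniteType.isLocallyNoetherian i
  have hcat' : Groth.Agent.Cat15.PCat X := (Groth.Agent.Cat15.pcat_stalk X).2 hcat
  set g := genericPoint ↥Z
  have hgw : g ⤳ w := (genericPoint_spec ↥Z).specializes (Set.mem_univ w)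
  have hsupp : ∀ z : Z, z ∈ ((𝓘.comap i).support : Set Z) ↔ i z ∈ (𝓘.support : Set X) := fun z ↦ by
    rw [Scheme.IdealSheafData.support_comap]; rfl
  have hg : i g ∉ (𝓘.support : Set X) := fun h ↦
    Groth.Agent.BlowUpX.notMem_support_of_generic hc g (fun z hz ↦
      (hz.antisymm ((genericPoint_spec ↥Z).specializes (Set.mem_univ z))).eq) ((hsupp g).2 h)
  have hle : codim w ≤ 1 := Groth.Agent.BlowUp95.codim_le_one hc ((hsupp w).2 hζY) fun z hz hzY ↦
    i.isClosedEmbedding.injective
      (hmax (i z) ⟨(hsupp z).1 hzY, z, rfl⟩ (hz.map i.continuous))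
  have hsp : i g ⤳ i w := hgw.map i.continuous
  have e1 : cd (i g) (i w) = 1 := by
    rw [cd_closedSub]
    refine le_antisymm ((cd_le_codim hgw).trans hle) (Nat.one_le_iff_ne_zero.2 fun e ↦ hg ?_)
    rw [(cd_eq_zero_iff hgw).1 e]
    exact hζY
  have e2 := Groth.Agent.BlowUp95.cd_add hcat' hsp
    ((genericPoint_spec ↥X).specializes (Set.mem_univ (i g)))
  rw [e1, cd_eq_codim_of_irreducible, cd_eq_codim_of_irreducible] at e2
  rw [Groth.Agent.BlowUp95.iInf_dim_eq hY hζY, ringKrullDim_stalk, ringKrullDim_stalk]
  exact_mod_cast e2.symm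

end Groth.Agent.S14119
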