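import Groth.Statements.S14122
import Mathlib

set_option autoImplicit false
universe u
open ValCrit

namespace Groth.Agent.S14122

/-- Let `R` be a discrete valuation ring with fraction field `K` and `g ∈ GL_N(K)` an element of finite
order. Then after passing to a finite extension `K'` of `K` and a discrete valuation ring `R'` of
`K'` dominating `R`, the element `g` becomes conjugate in `GL_N(K')` to an element of `GL_N(R')`.
(The published statement is that the classifying stack of `GL_N` over the integers satisfies a
valuative condition, for discrete valuation rings essentially of finite type over the integers, on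
extending finite-order generic automorphisms along nearby modifications; since vector bundles over a
discrete valuation ring are trivial, that condition is this conjugacy statement for such rings, and
this row states it for every discrete valuation ring, as the printed argument gives.) -/
theorem result
    (R : Type u) [CommRing R] [IsDomain R] [IsDiscreteValuationRing R]
    (K : Type u) [Field K] [Algebra R K] [IsFractionRing R K]
    (N : ℕ) (g : GL (Fin N) K) (hg : IsOfFinOrder g) :
    ∃ (R' : Type u) (_ : CommRing R') (_ : IsDomain R') (_ : IsDiscreteValuationRing R')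
      (K' : Type u) (_ : Field K') (_ : Algebra R' K') (_ : IsFractionRing R' K')
      (_ : Algebra R R') (_ : Algebra K K') (_ : Algebra R K')
      (_ : IsScalarTower R R' K') (_ : IsScalarTower R K K')
      (_ : Module.Finite K K') (_ : IsLocalHom (algebraMap R R'))
      (h : GL (Fin N) K') (g' : GL (Fin N) R'),
      h * Matrix.GeneralLinearGroup.map (algebraMap K K') g * h⁻¹ =
        Matrix.GeneralLinearGroup.map (algebraMap R' K') g' := by
  classical
  let H := Subgroup.zpowers g
  have : Finite H := hg.finite_zpowers
  let gen : H × Fin N → (Fin N → K) := fun p ↦ ((p.1 : GL (Fin N) K) : Matrix (Fin N) (Fin N) K).mulVec (Pi.single p.2 1)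
  let L : Submodule R (Fin N → K) := Submodule.span R (Set.range gen)
  have hfin : Module.Finite R L := Module.Finite.span_of_finite R (Set.finite_range gen)
  have : Module.Free R L := Module.free_of_finite_type_torsion_free'
  let ι := Module.Free.ChooseBasisIndex R L
  let b := Module.Free.chooseBasis R L
  let v : ι → (Fin N → K) := fun i ↦ (b i : Fin N → K)
  have hli : LinearIndependent K v := by
    rw [← LinearIndependent.iff_fractionRing R K]
    exact b.linearIndependent.map' L.subtype (Submodule.ker_subtype L)
  have hsp : Submodule.span R (Set.range v) = L := by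
    have : Set.range v = L.subtype '' Set.range b := by
      rw [← Set.range_comp]; rfl
    rw [this, Submodule.span_image, b.span_eq, Submodule.map_top, Submodule.range_subtype]
  have hspK : ⊤ ≤ Submodule.span K (Set.range v) := by
    intro x _
    rw [pi_eq_sum_univ' x]
    refine Submodule.sum_mem _ fun j _ ↦ Submodule.smul_mem _ _ ?_
    have : Pi.single j 1 ∈ L := by
      refine Submodule.subset_span ⟨(1, j), ?_⟩
      ext k
      simp [gen, Matrix.one_apply, Pi.single_apply]
    rw [← hsp] at this
    exact Submodule.span_le_restrictScalars R K _ this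
  let B := Module.Basis.mk hli hspK
  have hcard : Fintype.card ι = N := by
    have := Module.finrank_eq_card_basis B
    simpa using this.symm
  let e : ι ≃ Fin N := Fintype.equivFinOfCardEq hcard
  let P : Matrix (Fin N) (Fin N) K := Matrix.of fun r c ↦ v (e.symm c) r
  have hP : IsUnit P := by
    rw [← Matrix.linearIndependent_cols_iff_isUnit]
    exact hli.comp e.symm e.symm.injective
  have hstable : ∀ u : H, ∀ x ∈ L, ((u : GL (Fin N) K) : Matrix (Fin N) (Fin N) K).mulVec x ∈ L := by
    intro u x hx
    induction hx using Submodule.span_induction with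
    | mem x hx =>
      obtain ⟨⟨w, j⟩, rfl⟩ := hx
      refine Submodule.subset_span ⟨(u * w, j), ?_⟩
      simp only [gen, Matrix.mulVec_mulVec]
      rfl
    | zero => simp
    | add x y _ _ hx hy => rw [Matrix.mulVec_add]; exact L.add_mem hx hy
    | smul r x _ hx => rw [Matrix.mulVec_smul]; exact L.smul_mem r hx
  have hM : ∀ u : H, ∃ M : Matrix (Fin N) (Fin N) R,
      ((u : GL (Fin N) K) : Matrix (Fin N) (Fin N) K) * P = P * M.map (algebraMap R K) := by
    intro u
    refine ⟨Matrix.of fun k c ↦ b.repr ⟨_, hstable u _ (b (e.symm c)).2⟩ (e.symm k), ?_⟩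
    ext r c
    have h1 := b.sum_repr ⟨_, hstable u _ (b (e.symm c)).2⟩
    have h2 := congr_fun (congr_arg Subtype.val h1) r
    simp only [Submodule.coe_sum, Submodule.coe_smul, Finset.sum_apply, Pi.smul_apply] at h2
    simp only [Matrix.mul_apply, Matrix.map_apply, Matrix.of_apply, P]
    rw [← e.sum_comp (fun k ↦ v (e.symm k) r * algebraMap R K
      (b.repr ⟨_, hstable u _ (b (e.symm c)).2⟩ (e.symm k)))]
    simp only [Equiv.symm_apply_apply]
    exact h2.symm.trans (Finset.sum_congr rfl fun i _ ↦ by rw [Algebra.smul_def, mul_comm])
  obtain ⟨M, hMg⟩ := hM ⟨g, Subgroup.mem_zpowers g⟩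
  obtain ⟨M', hMg'⟩ := hM ⟨g⁻¹, Subgroup.inv_mem _ (Subgroup.mem_zpowers g)⟩
  have hmap : ∀ A B : Matrix (Fin N) (Fin N) R,
      A.map (algebraMap R K) = B.map (algebraMap R K) → A = B := fun A B h ↦
    Matrix.map_injective (IsFractionRing.injective R K) h
  have hinv : M * M' = 1 := by
    refine hmap _ _ (hP.mul_left_cancel ?_)
    rw [Matrix.map_mul, ← mul_assoc, ← hMg, mul_assoc, ← hMg', ← mul_assoc,
      Matrix.map_one _ (map_zero _) (map_one _), mul_one]
    simp
  let g' : GL (Fin N) R := ⟨M, M', hinv, mul_eq_one_comm.1 hinv⟩
  refine ⟨R, inferInstance, inferInstance, inferInstance, K, inferInstance, inferInstance,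
    inferInstance, Algebra.id R, Algebra.id K, inferInstance, inferInstance, inferInstance,
    inferInstance, ?_, hP.unit⁻¹, g', ?_⟩
  · exact ⟨fun a ha ↦ by simpa using ha⟩
  · rw [inv_inv, mul_assoc, inv_mul_eq_iff_eq_mul]
    refine Units.ext ?_
    simpa [Matrix.GeneralLinearGroup.map, g'] using hMg

end Groth.Agent.S14122
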