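import Groth.Statements.S14128
import Groth.Agent.FreeCx46.Depth
import Groth.Agent.FlatLoc6.RegCM
import Groth.Agent.LC.GorHull

set_option autoImplicit false
universe u
open CategoryTheory CategoryTheory.Limits
open LocAlg

namespace Groth.Agent.S14128

/-- Let R be a regular local ring of Krull dimension g and M = (M^0 → M^1 → ⋯ → M^g) a perfect complex
over R, here a cochain complex of finitely generated free R-modules indexed by ℕ with M^i = 0 for i
> g, such that every cohomology module H^i(M) has finite length. Then H^i(M) = 0 for all i < g, so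
that M has cohomology at most in degree g. -/
theorem result (R : Type u) [CommRing R]
    [IsRegularLocalRing R] (g : ℕ) (hg : ringKrullDim R = g) (M : CochainComplex (ModuleCat.{u} R) ℕ)
    (hbd : ∀ i, g < i → IsZero (M.X i)) (hfree : ∀ i, Module.Free R (M.X i) ∧ Module.Finite R (M.X i))
    (hfl : ∀ i, IsFiniteLength R (M.homology i)) (i : ℕ) (hi : i < g) :
    IsZero (M.homology i) := by
  haveI := Groth.Agent.LC.gorenstein_of_isRegularLocalRing (R := R)
  haveI hCM : LocCoh.IsCohenMacaulayLocalRing R := Groth.Agent.LC.isCohenMacaulayLocalRing_of_gorenstein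
  have hdepth : (g : ℕ∞) = LocCoh.depth R R := by
    have h := hCM.supportDim_eq_depth
    rw [Module.supportDim_self_eq_ringKrullDim, hg] at h
    exact WithBot.coe_eq_coe.1 h
  have hfree' : ∀ j n, n ≤ g → FreeCx46.DG (R := R) n (M.X j) := fun j n hn => by
    haveI := (hfree j).1
    haveI := (hfree j).2
    exact FreeCx46.dg_free (le_of_le_of_eq (by exact_mod_cast hn) hdepth) _
  have hprev : ∀ j : ℕ, (ComplexShape.up ℕ).prev j = j - 1 := fun j => by
    cases j
    · exact CochainComplex.prev_nat_zero
    · exact CochainComplex.prev_nat_succ _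
  have hnext : ∀ j : ℕ, (ComplexShape.up ℕ).next j = j + 1 := fun j => CochainComplex.next ℕ j
  have hex : ∀ j, j < g → FreeCx46.DG (R := R) (g - j + 1) (LinearMap.range (M.d (j - 1) j).hom) →
      LinearMap.range (M.d (j - 1) j).hom = LinearMap.ker (M.d j (j + 1)).hom := fun j hj hS =>
    FreeCx46.range_eq_ker_of_finiteLength (M.sc' (j - 1) j (j + 1))
      ((ShortComplex.homologyMapIso (M.isoSc' (j - 1) j (j + 1) (hprev j) (hnext j))).toLinearEquiv.isFiniteLength (hfl j))
      (hfree' j 1 (by omega)) (FreeCx46.dg_of_le (by omega) hS)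
  have hclaim : ∀ j, j ≤ g → FreeCx46.DG (R := R) (g - j + 1) (LinearMap.range (M.d (j - 1) j).hom) := by
    intro j
    induction j with
    | zero =>
      intro _
      rw [M.shape (0 - 1) 0 (by simp), ModuleCat.hom_zero, LinearMap.range_zero]
      exact FreeCx46.dg_bot _ _
    | succ j ih =>
      intro hj
      have hS := ih (by omega)
      show FreeCx46.DG (R := R) (g - (j + 1) + 1) (LinearMap.range (M.d j (j + 1)).hom)
      rw [show g - (j + 1) + 1 = g - j by omega]
      exact FreeCx46.dg_range _ (hex j (by omega) hS ▸ hS) (hfree' j _ (by omega))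
  rw [← HomologicalComplex.exactAt_iff_isZero_homology, M.exactAt_iff' (i - 1) i (i + 1) (hprev i) (hnext i),
    ShortComplex.moduleCat_exact_iff_range_eq_ker]
  exact hex i hi (hclaim i hi.le)

end Groth.Agent.S14128
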