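import Groth.Statements.S14134
import Groth.Agent.FMAux.Translate
import Groth.Agent.FMAux.Poincare

set_option autoImplicit false
set_option linter.style.haveILetI false
universe u
open CategoryTheory CategoryTheory.Limits MonoidalCategory CartesianMonoidalCategory MonObj GrpObj AlgebraicGeometry
attribute [local instance] HasDerivedCategory.standard
open AbVar

namespace Groth.Agent.S14134

open Groth.Agent Groth.Agent.KFlatLib
open scoped Groth.Agent.H23.PicMul

/-- Let k be a field, A an abelian variety over k (a proper smooth k-group scheme with geometrically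
connected fibres), (A^t, φ) a given dual abelian variety of A for the fppf topology with A^t an
abelian variety, P an invertible module on A ×_k A^t whose class is a Poincaré class, and x a
k-rational point of A^t. Let M_x be the restriction of P along A = A × {x} → A ×_k A^t, and t_x :
A^t → A^t the translation by x (the product of the identity and the constant map x in the group
Hom(A^t, A^t)). Write Φ_P = Rpr_{2,*}(Lpr_1^*(−) ⊗^L P) : D(O_A) → D(O_{A^t}); the derived functors
involved are assumed to exist. Then, restricted to objects of D(O_A) with quasi-coherent cohomology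
sheaves, the functor F ↦ Φ_P(F ⊗^L M_x) is isomorphic to F ↦ Lt_x^*Φ_P(F) (existence of an
isomorphism of functors). -/
theorem result (k : Type u) [Field k]
    (A At : Over (Spec (CommRingCat.of k))) [GrpObj A] [IsProper A.hom] [Smooth A.hom] [GeometricallyConnected A.hom]
    [GrpObj At] [IsProper At.hom] [Smooth At.hom] [GeometricallyConnected At.hom]
    (φ : ∀ T : Over (Spec (CommRingCat.of k)), PicF.Cl (PicF.XT A.hom T) → (T ⟶ At))
    (hφ : AbDual.IsDualAV Scheme.fppfPrecoverage A At φ)
    (P : (pullback A.hom At.hom).Modules) (hP : PicF.IsInvertible P)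
    (hPξ : AbDual.IsPoincareCl A At φ (PicF.cl P))
    (x : 𝟙_ (Over (Spec (CommRingCat.of k))) ⟶ At)
    [DCoh.HasLpull (pullback.fst A.hom At.hom)] [DCoh.HasLTensorMod P] [DCoh.HasRpush (pullback.snd A.hom At.hom)]
    [DCoh.HasLTensorMod ((Scheme.Modules.pullback (CartesianMonoidalCategory.lift (𝟙 A) (toUnit A ≫ x)).left).obj P)]
    [DCoh.HasLpull (𝟙 At * (toUnit At ≫ x)).left] :
    Nonempty (ObjectProperty.ι (DCoh.IsQCohD (X := A.left)) ⋙
        DCoh.LTensorMod ((Scheme.Modules.pullback (CartesianMonoidalCategory.lift (𝟙 A) (toUnit A ≫ x)).left).obj P) ⋙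
        (DCoh.Lpull (pullback.fst A.hom At.hom) ⋙ DCoh.LTensorMod P ⋙ DCoh.Rpush (pullback.snd A.hom At.hom)) ≅
      ObjectProperty.ι (DCoh.IsQCohD (X := A.left)) ⋙ (DCoh.Lpull (pullback.fst A.hom At.hom) ⋙ DCoh.LTensorMod P ⋙ DCoh.Rpush (pullback.snd A.hom At.hom)) ⋙
        DCoh.Lpull (𝟙 At * (toUnit At ≫ x)).left) := by
  set M := (Scheme.Modules.pullback (CartesianMonoidalCategory.lift (𝟙 A) (toUnit A ≫ x)).left).obj P with hMdef
  set p := pullback.fst A.hom At.hom with hp
  set q := pullback.snd A.hom At.hom with hq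
  let τ := FMAux.translateIso x
  let t : At.left ≅ At.left := (Over.forget _).mapIso τ
  let e : pullback A.hom At.hom ≅ pullback A.hom At.hom := (Over.forget _).mapIso (whiskerLeftIso A τ)
  haveI : Flat p := inferInstanceAs (Flat (pullback.fst A.hom At.hom))
  have hM : PicF.IsInvertible M := PicClLib.isInvertible_pullback _ hP
  haveI : DCoh.HasLpull t.hom := hasLpull _
  haveI : DCoh.HasLpull e.hom := hasLpull _
  haveI := hasLpull (e.hom ≫ p)
  haveI := hasLTensorMod ((Scheme.Modules.pullback e.hom).obj P)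
  haveI := hasLTensorMod ((Scheme.Modules.pullback p).obj M)
  haveI := hasLTensorMod (CohB1.tensorMod ((Scheme.Modules.pullback p).obj M) P)
  have hep : e.hom ≫ p = p := congrArg CommaMorphism.left (whiskerLeft_fst A τ.hom)
  have heq : e.hom ≫ q = q ≫ t.hom := congrArg CommaMorphism.left (whiskerLeft_snd A τ.hom)
  obtain ⟨sq⟩ := FMAux.nonempty_rpush_square e t q q heq
  obtain ⟨tc⟩ := FMAux.nonempty_ltensor_lpull e.hom (M := P) hP
  obtain ⟨c₁⟩ := nonempty_lpull_comp e.hom p
  obtain ⟨c₂⟩ := FMAux.nonempty_lpull_congr hep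
  obtain ⟨m₁⟩ := FMAux.nonempty_ltensor_lpull p hM
  obtain ⟨m₂⟩ := FMAux.nonempty_ltensor_comp (PicClLib.isInvertible_pullback p hM) hP
  have hcl : PicF.cl (CohB1.tensorMod ((Scheme.Modules.pullback p).obj M) P) =
      PicF.cl ((Scheme.Modules.pullback e.hom).obj P) := by
    rw [Groth.Agent.H23.PicMul.cl_tensor]
    exact (FMAux.pull_translate_dual hφ hPξ x).symm
  obtain ⟨m₃⟩ := FMAux.nonempty_ltensor_congr ((PicGrp.cl_eq_cl_iff _ _).1 hcl).some
    (H23.PicMul.isInvertible_tensor (PicClLib.isInvertible_pullback p hM) hP)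
  let Lp := DCoh.Lpull p
  let TM := DCoh.LTensorMod M
  let TP := DCoh.LTensorMod P
  let Rq := DCoh.Rpush q
  have lhs : TM ⋙ (Lp ⋙ TP ⋙ Rq) ≅
      Lp ⋙ DCoh.LTensorMod ((Scheme.Modules.pullback e.hom).obj P) ⋙ Rq :=
    (Functor.associator _ _ _).symm ≪≫ Functor.isoWhiskerRight m₁ _ ≪≫ Functor.associator _ _ _ ≪≫
      Functor.isoWhiskerLeft _ ((Functor.associator _ _ _).symm ≪≫ Functor.isoWhiskerRight (m₂ ≪≫ m₃) _)
  have rhs : (Lp ⋙ TP ⋙ Rq) ⋙ DCoh.Lpull t.hom ≅
      Lp ⋙ DCoh.LTensorMod ((Scheme.Modules.pullback e.hom).obj P) ⋙ Rq :=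
    Functor.associator _ _ _ ≪≫ Functor.isoWhiskerLeft _ (Functor.associator _ _ _ ≪≫
        Functor.isoWhiskerLeft _ sq ≪≫ (Functor.associator _ _ _).symm ≪≫ Functor.isoWhiskerRight tc _ ≪≫
        Functor.associator _ _ _) ≪≫
      (Functor.associator _ _ _).symm ≪≫ Functor.isoWhiskerRight (c₁ ≪≫ c₂) _
  exact ⟨Functor.isoWhiskerLeft _ (lhs ≪≫ rhs.symm)⟩

end Groth.Agent.S14134
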