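import Groth.Statements.S14135
import Groth.Agent.FMAux.Translate
import Groth.Agent.FMAux.Poincare

set_option autoImplicit false
set_option linter.style.haveILetI false
universe u
open CategoryTheory CategoryTheory.Limits MonoidalCategory CartesianMonoidalCategory MonObj GrpObj AlgebraicGeometry
attribute [local instance] HasDerivedCategory.standard
open AbVar

namespace Groth.Agent.S14135

open Groth.Agent Groth.Agent.KFlatLib
open scoped Groth.Agent.H23.PicMul

/-- Let k be a field, A an abelian variety over k (a proper smooth k-group scheme with geometrically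
connected fibres), (A^t, φ) a given dual abelian variety of A for the fppf topology with A^t an
abelian variety, P an invertible module on A ×_k A^t whose class is a Poincaré class, and x a
k-rational point of A with translation t_x : A → A. Let N_{−x} be the restriction of P along A^t =
{−x} × A^t → A ×_k A^t, the line bundle on A^t attached to the point −x. Write Φ_P =
Rpr_{2,*}(Lpr_1^*(−) ⊗^L P) : D(O_A) → D(O_{A^t}); the derived functors involved are assumed to
exist. Then, restricted to objects of D(O_A) with quasi-coherent cohomology sheaves, the functor F ↦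
Φ_P(Lt_x^*F) is isomorphic to F ↦ Φ_P(F) ⊗^L N_{−x} (existence of an isomorphism of functors). -/
theorem result (k : Type u) [Field k]
    (A At : Over (Spec (CommRingCat.of k))) [GrpObj A] [IsProper A.hom] [Smooth A.hom] [GeometricallyConnected A.hom]
    [GrpObj At] [IsProper At.hom] [Smooth At.hom] [GeometricallyConnected At.hom]
    (φ : ∀ T : Over (Spec (CommRingCat.of k)), PicF.Cl (PicF.XT A.hom T) → (T ⟶ At))
    (hφ : AbDual.IsDualAV Scheme.fppfPrecoverage A At φ)
    (P : (pullback A.hom At.hom).Modules) (hP : PicF.IsInvertible P)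
    (hPξ : AbDual.IsPoincareCl A At φ (PicF.cl P))
    (x : 𝟙_ (Over (Spec (CommRingCat.of k))) ⟶ A)
    [DCoh.HasLpull (pullback.fst A.hom At.hom)] [DCoh.HasLTensorMod P] [DCoh.HasRpush (pullback.snd A.hom At.hom)]
    [DCoh.HasLpull (𝟙 A * (toUnit A ≫ x)).left]
    [DCoh.HasLTensorMod ((Scheme.Modules.pullback (CartesianMonoidalCategory.lift (toUnit At ≫ x⁻¹) (𝟙 At)).left).obj P)] :
    Nonempty (ObjectProperty.ι (DCoh.IsQCohD (X := A.left)) ⋙ DCoh.Lpull (𝟙 A * (toUnit A ≫ x)).left ⋙ (DCoh.Lpull (pullback.fst A.hom At.hom) ⋙ DCoh.LTensorMod P ⋙ DCoh.Rpush (pullback.snd A.hom At.hom)) ≅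
      ObjectProperty.ι (DCoh.IsQCohD (X := A.left)) ⋙ (DCoh.Lpull (pullback.fst A.hom At.hom) ⋙ DCoh.LTensorMod P ⋙ DCoh.Rpush (pullback.snd A.hom At.hom)) ⋙
        DCoh.LTensorMod ((Scheme.Modules.pullback (CartesianMonoidalCategory.lift (toUnit At ≫ x⁻¹) (𝟙 At)).left).obj P)) := by
  set N := (Scheme.Modules.pullback (CartesianMonoidalCategory.lift (toUnit At ≫ x⁻¹) (𝟙 At)).left).obj P with hNdef
  set p := pullback.fst A.hom At.hom with hp
  set q := pullback.snd A.hom At.hom with hq
  let τ := FMAux.translateIso x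
  let t : A.left ≅ A.left := (Over.forget _).mapIso τ
  let e : pullback A.hom At.hom ≅ pullback A.hom At.hom := (Over.forget _).mapIso (whiskerRightIso τ At)
  haveI : Flat q := inferInstanceAs (Flat (pullback.snd A.hom At.hom))
  have hN : PicF.IsInvertible N := PicClLib.isInvertible_pullback _ hP
  let P' := (Scheme.Modules.pullback e.inv).obj P
  have hP' : PicF.IsInvertible P' := PicClLib.isInvertible_pullback _ hP
  haveI : DCoh.HasLpull t.hom := hasLpull _
  haveI : DCoh.HasLpull e.hom := hasLpull _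
  haveI : DCoh.HasLpull (Iso.refl At.left).hom := hasLpull _
  haveI : DCoh.HasLpull (𝟙 At.left) := hasLpull _
  haveI := hasLpull (p ≫ t.hom)
  haveI := hasLpull (e.hom ≫ p)
  haveI := hasLTensorMod P'
  haveI := hasLTensorMod ((Scheme.Modules.pullback q).obj N)
  haveI := hasLTensorMod ((Scheme.Modules.pullback e.hom).obj P')
  haveI := hasLTensorMod (CohB1.tensorMod P ((Scheme.Modules.pullback q).obj N))
  have hep : e.hom ≫ p = p ≫ t.hom := congrArg CommaMorphism.left (whiskerRight_fst τ.hom At)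
  have heq : e.hom ≫ q = q := congrArg CommaMorphism.left (whiskerRight_snd τ.hom At)
  obtain ⟨sq⟩ := FMAux.nonempty_rpush_square e (Iso.refl At.left) q q
    (heq.trans (Category.comp_id q).symm)
  obtain ⟨i⟩ := FMAux.nonempty_lpull_id At.left
  obtain ⟨c₁⟩ := nonempty_lpull_comp p t.hom
  obtain ⟨c₂⟩ := nonempty_lpull_comp e.hom p
  obtain ⟨c₃⟩ := FMAux.nonempty_lpull_congr hep
  obtain ⟨tc⟩ := FMAux.nonempty_ltensor_lpull e.hom (M := P') hP'
  have hback : PicF.cl ((Scheme.Modules.pullback e.hom).obj P') = PicF.cl P := by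
    show PicF.pullCl e.hom (PicF.pullCl e.inv (PicF.cl P)) = _
    rw [PicClLib.pullCl_comp, Iso.hom_inv_id, PicClLib.pullCl_id]
  obtain ⟨tc'⟩ := FMAux.nonempty_ltensor_congr ((PicGrp.cl_eq_cl_iff _ _).1 hback).some
    (PicClLib.isInvertible_pullback _ hP')
  have hcl : PicF.cl (CohB1.tensorMod P ((Scheme.Modules.pullback q).obj N)) = PicF.cl P' := by
    rw [Groth.Agent.H23.PicMul.cl_tensor]
    exact (FMAux.pull_translate hφ hPξ x⁻¹).symm
  obtain ⟨m₂⟩ := FMAux.nonempty_ltensor_comp hP (PicClLib.isInvertible_pullback q hN)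
  obtain ⟨m₃⟩ := FMAux.nonempty_ltensor_congr ((PicGrp.cl_eq_cl_iff _ _).1 hcl).some
    (H23.PicMul.isInvertible_tensor hP (PicClLib.isInvertible_pullback q hN))
  obtain ⟨pf⟩ := FMAux.nonempty_projection_invertible q hN
  let Lp := DCoh.Lpull p
  let TP := DCoh.LTensorMod P
  let Rq := DCoh.Rpush q
  -- direct image absorbs the translation
  have sq' : DCoh.Lpull e.hom ⋙ Rq ≅ Rq :=
    sq.symm ≪≫ Functor.isoWhiskerLeft _ i ≪≫ Functor.rightUnitor _
  have lhs : DCoh.Lpull t.hom ⋙ (Lp ⋙ TP ⋙ Rq) ≅ Lp ⋙ DCoh.LTensorMod P' ⋙ Rq :=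
    (Functor.associator _ _ _).symm ≪≫ Functor.isoWhiskerRight (c₁ ≪≫ c₃.symm ≪≫ c₂.symm) _ ≪≫
      Functor.associator _ _ _ ≪≫ Functor.isoWhiskerLeft _ ((Functor.associator _ _ _).symm ≪≫
        Functor.isoWhiskerRight ((Functor.isoWhiskerLeft _ tc').symm ≪≫ tc.symm) _ ≪≫ Functor.associator _ _ _ ≪≫
        Functor.isoWhiskerLeft _ sq')
  have rhs : (Lp ⋙ TP ⋙ Rq) ⋙ DCoh.LTensorMod N ≅ Lp ⋙ DCoh.LTensorMod P' ⋙ Rq :=
    Functor.associator _ _ _ ≪≫ Functor.isoWhiskerLeft _ (Functor.associator _ _ _ ≪≫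
      Functor.isoWhiskerLeft _ pf ≪≫ (Functor.associator _ _ _).symm ≪≫ Functor.isoWhiskerRight (m₂ ≪≫ m₃) _)
  exact ⟨Functor.isoWhiskerLeft _ (lhs ≪≫ rhs.symm)⟩

end Groth.Agent.S14135
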