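import Groth.Statements.S14142
import Groth.Agent.AbTors.Torsion
-- import your own Groth.Agent.* helpers here

set_option autoImplicit false
universe u
open CategoryTheory CategoryTheory.Limits MonoidalCategory CartesianMonoidalCategory MonObj GrpObj AlgebraicGeometry
open AbVar

namespace Groth.Agent.S14142

/-- Let k be an algebraically closed field of characteristic p > 0 and A an abelian variety over k (a
proper smooth k-group scheme with geometrically connected fibres) of dimension g. Then there is an
integer i with 0 ≤ i ≤ g, the p-rank of A, such that for every m ≥ 0 the group A[p^m](k) of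
k-rational points of A killed by p^m is isomorphic to (ℤ/p^m)^i (existence of a group isomorphism;
the group of k-points is written multiplicatively). (The published statement of this part assumes
only that k has characteristic p and does not assume k algebraically closed; it is false without
that assumption — for an elliptic curve over the prime field with exactly p rational points the
rational p-torsion is cyclic of order p while the rational p²-torsion has only p elements — and this
row assumes k algebraically closed, which the printed proof's divisibility argument requires.) -/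
theorem result (k : Type u) [Field k] [IsAlgClosed k] (p : ℕ) [Fact p.Prime] [CharP k p]
    (A : Over (Spec (CommRingCat.of k))) [GrpObj A] [IsProper A.hom] [Smooth A.hom] [GeometricallyConnected A.hom] [IsCommMonObj A]
    (g : ℕ) (hg : topologicalKrullDim ↥A.left = g) :
    ∃ i : ℕ, i ≤ g ∧ ∀ m : ℕ,
      Nonempty (AbDual.torsPts A (p ^ m) (𝟙_ (Over (Spec (CommRingCat.of k)))) ≃* Multiplicative (Fin i → ZMod (p ^ m))) := by
  haveI := AbTors.geometricallyIntegral_of_smooth A
  obtain ⟨i, hi, hc⟩ := AbTors.exists_pRank A hg p
  refine ⟨i, hi, fun m => ?_⟩
  have hp : p.Prime := Fact.out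
  obtain ⟨e⟩ := AbTors.exists_torsEquiv (M := Additive (𝟙_ (Over (Spec (CommRingCat.of k))) ⟶ A)) (r := i) (p ^ m)
    (pow_pos hp.pos m) (fun l hl _ => AbTors.divisible A hl.one_le)
    (fun d hd => by
      obtain ⟨j, -, rfl⟩ := (Nat.dvd_prime_pow hp).1 hd
      rw [hc j, pow_mul])
    (fun l hl hlp j => by
      obtain rfl : l = p := (Nat.prime_dvd_prime_iff_eq hl hp).1 (hl.dvd_of_dvd_pow hlp)
      exact hc j)
  exact ⟨{ toFun := fun x => Multiplicative.ofAdd (e.symm ⟨Additive.ofMul x.1, congrArg Additive.ofMul x.2⟩)
           invFun := fun c => ⟨(e c.toAdd).1.toMul, congrArg Additive.toMul (e c.toAdd).2⟩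
           left_inv := fun x => Subtype.ext (by simp)
           right_inv := fun c => by simp
           map_mul' := fun x y => by rw [← ofAdd_add, ← map_add]; rfl }⟩

end Groth.Agent.S14142
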