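import Groth.Statements.S14155
import Groth.Agent.VBCurvesLib.StableExist
-- import your own Groth.Agent.* helpers here

set_option autoImplicit false
set_option linter.style.haveILetI false
set_option linter.unusedVariables false
set_option backward.isDefEq.respectTransparency false
set_option backward.isDefEq.respectTransparency.types false
universe u
open CategoryTheory CategoryTheory.Limits AlgebraicGeometry
open VBCurve

namespace Groth.Agent.S14155

open Groth.Agent.CurveBundle Groth.Agent.CurveSlope Groth.Agent.CurveStable Groth.Agent.CurveDuality Groth.Agent.VBCurvesLib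

/-- Let k be an algebraically closed field, X a smooth proper integral curve over k (proper and smooth
over k, integral, of dimension one) of genus one, i.e. dim_k H^1(X, O_X) = 1 (an elliptic curve once
a base point is chosen), and F a finite locally free O_X-module of rank r ≥ 1 which is
indecomposable (nonzero, and in any decomposition F ≅ F₁ ⊕ F₂ one summand is zero), of degree d =
χ(F) − r·χ(O_X). Then F is stable — deg G · r < d · r' for every finite locally free submodule G of
F of rank r' ≥ 1 whose inclusion is not an isomorphism — if and only if gcd(d, r) = 1. (The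
published corollary also identifies stability with simplicity in two senses; those equivalences are
not restated.) -/
theorem result (k : Type u) [Field k] [IsAlgClosed k]
    (X : Scheme.{u}) [X.Over (Spec (CommRingCat.of k))] [IsIntegral X]
    [IsProper (X ↘ Spec (CommRingCat.of k))] [Smooth (X ↘ Spec (CommRingCat.of k))]
    (hdim : topologicalKrullDim ↥X = 1) (hg : Curv2.genus k X = 1)
    (r : ℕ) (hr : 0 < r) (F : X.Modules) (hF : FlatMod.IsFinLocFreeOfRank r F)
    (hind : ¬ IsZero F ∧ ∀ (F₁ F₂ : X.Modules), Nonempty (F ≅ F₁ ⊞ F₂) → IsZero F₁ ∨ IsZero F₂) :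
    (∀ (G : X.Modules) (r' : ℕ) (i : G ⟶ F), Mono i → 0 < r' → FlatMod.IsFinLocFreeOfRank r' G → (¬ IsIso i) →
      Curv2.deg k X G r' * (r : ℤ) < Curv2.deg k X F r * (r' : ℤ)) ↔ Int.gcd (Curv2.deg k X F r) (r : ℤ) = 1 := by
  haveI := CurveCohLib.isNoetherian_of_proper (k := k) (X := X)
  haveI := isLocallyNoetherian' k (X := X)
  have hO := CurveCohLib.finrank_h0_eq_one k X
  have hFf := isFinLocFree_of_rank hF
  have hFc := coh_of_free k hFf
  have hrF := rk_eq hF
  rw [deg_eq_dg k hF]
  constructor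
  · intro hst
    by_contra hgcd
    obtain ⟨g, d₀, r₀, hg0, hco, hd, hr'⟩ := Int.exists_gcd_one' (m := dg k F) (n := (r : ℤ))
      (by rw [Int.gcd_pos_iff]; omega)
    have hg2 : 2 ≤ g := by
      by_contra hc
      obtain rfl : g = 1 := by omega
      rw [Nat.cast_one, mul_one] at hd hr'
      rw [hd, hr'] at hgcd
      exact hgcd hco
    have hr0 : (0 : ℤ) < r₀ := by
      by_contra hc
      have : r₀ * (g : ℤ) ≤ 0 := mul_nonpos_of_nonpos_of_nonneg (by omega) (Int.natCast_nonneg g)
      omega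
    obtain ⟨s, rfl⟩ := Int.eq_ofNat_of_zero_le hr0.le
    have hs0 : 0 < s := by omega
    obtain ⟨F₀, hF₀⟩ := exists_isStableDR k hO hdim (le_of_eq hg.symm)
      (exists_line_of_deg_algClosed k hdim) s hs0 d₀ hco
    have hD := isFinLocFree_dual hF₀.1
    obtain ⟨hrW, hdW⟩ := dg_tensor k hdim hD hFf
    rw [rk_dual hF₀.1, hF₀.2.1, hrF] at hrW
    rw [rk_dual hF₀.1, dg_dual k hdim hF₀.1, hF₀.2.1, hF₀.2.2.1, hrF, hd, hr'] at hdW
    have hW0 : dg k ((DCoh.tensorBi.obj (RefHull.dual F₀)).obj F) = 0 := by rw [hdW]; ring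
    obtain ⟨L, φ, hL, hdL, hφ⟩ := exists_deg_zero_line_hom k hdim hg
      (show 0 < s * r from Nat.mul_pos hs0 hr)
      (hrW ▸ isFinLocFreeOfRank_rk (KFlatLib.isFinLocFree_tensor hD hFf)) hW0
    let ψ : (DCoh.tensorBi.obj F₀).obj L ⟶ F := (adjEquiv L F hF₀.1).symm φ
    have hψ : ψ ≠ 0 := fun h =>
      hφ (((adjEquiv L F hF₀.1).symm_apply_eq.1 h).trans (adjEquiv_zero hF₀.1))
    have hLf := isFinLocFree_of_rank (InvEnd.isFinLocFreeOfRank_one hL)
    have hP := KFlatLib.isFinLocFree_tensor hF₀.1 hLf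
    obtain ⟨hrP, hdP⟩ := dg_twist k hdim hL hF₀.1
    rw [hdL, mul_zero, add_zero, hF₀.2.2.1] at hdP
    rw [hF₀.2.1] at hrP
    obtain ⟨I, π, jI, hjI, hπ, -, hK, hI, hrk, hdg, hpos, -⟩ := exists_decomp k hdim.le hP hFf ψ
    haveI := hjI
    rw [hrP] at hrk
    rw [hdP] at hdg
    have hI0 := hpos hψ
    obtain ⟨H, jH, hjH, hH, hrH, hdH⟩ := exists_untwist k hdim hL (kernel.ι ψ) hK
    have hKle := hF₀.le k H jH hjH hH
    rw [hrH, hdH, hdL, mul_zero, sub_zero] at hKle
    by_cases hiso : IsIso jI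
    · rw [rk_congr (asIso jI), hrF] at hrk
      have : (2 : ℤ) * s ≤ g * s := mul_le_mul_of_nonneg_right (by exact_mod_cast hg2) hr0.le
      rw [mul_comm (g : ℤ)] at this
      omega
    · have h := hst I (rk I) jI hjI hI0 (isFinLocFreeOfRank_rk hI) hiso
      rw [deg_eq_dg k (isFinLocFreeOfRank_rk hI), hd, hr'] at h
      have hrkZ : (s : ℤ) = (rk (kernel ψ) : ℤ) + (rk I : ℤ) := by exact_mod_cast hrk
      have h' : dg k I * (s : ℤ) < d₀ * (rk I : ℤ) := by
        refine lt_of_mul_lt_mul_right ?_ (Int.natCast_nonneg g)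
        calc dg k I * (s : ℤ) * g = dg k I * ((s : ℤ) * g) := by ring
          _ < d₀ * g * (rk I : ℤ) := h
          _ = d₀ * (rk I : ℤ) * g := by ring
      have e1 : d₀ * (s : ℤ) = dg k (kernel ψ) * (s : ℤ) + dg k I * (s : ℤ) := by rw [← add_mul, ← hdg]
      have e2 : d₀ * (s : ℤ) = d₀ * (rk (kernel ψ) : ℤ) + d₀ * (rk I : ℤ) := by rw [← mul_add, ← hrkZ]
      linarith
  · intro hgcd G r' i hi hr' hG hiso
    haveI := hi
    have hGf := isFinLocFree_of_rank hG
    have h := ss_of_indecomposable_genus_one k hO hdim hg hr hF hind.2 G i hGf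
    rw [rk_eq hG] at h
    rw [deg_eq_dg k hG]
    rcases h.lt_or_eq with hlt | heq
    · exact hlt
    exfalso
    have hle : r' ≤ r := by
      have := rk_le_of_mono k i hFc
      rwa [rk_eq hG, hrF] at this
    have hdvd : (r : ℤ) ∣ dg k F * (r' : ℤ) := ⟨dg k G, by rw [← heq, mul_comm]⟩
    have hdvd' : (r : ℤ) ∣ (r' : ℤ) :=
      Int.dvd_of_dvd_mul_right_of_gcd_one hdvd (by rw [Int.gcd_comm]; exact hgcd)
    have hrr : r' = r := le_antisymm hle (Nat.le_of_dvd hr' (by exact_mod_cast hdvd'))
    have hlt := dg_lt_of_rk_eq k hdim.le i (coh_of_free k hGf) hFc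
      (by rw [rk_eq hG, hrF, hrr]) hiso
    rw [hrr] at heq
    have := mul_right_cancel₀ (by exact_mod_cast hr.ne') heq
    omega

end Groth.Agent.S14155
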