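import Groth.Statements.S14183
import Groth.Agent.LocSymLib.PicMod
import Mathlib.RingTheory.RootsOfUnity.EnoughRootsOfUnity
import Mathlib.RingTheory.RootsOfUnity.AlgebraicallyClosed
-- import your own Groth.Agent.* helpers here

set_option autoImplicit false
universe u
open CategoryTheory AlgebraicGeometry
open LocSym

open Groth.Agent.LocSymLib
namespace Groth.Agent.S14183

open W4c1etcurveeff2 in
/-- Let k be an algebraically closed field, X a smooth proper integral curve over k (structure morphism
c, dimension one), m a reduced modulus (every multiplicity at most 1) whose support S has s points,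
and n ≥ 1 an integer invertible in k. Let Pic be the group of divisors on k-points modulo divisors
of nonzero rational functions and Pic_m the group of divisors vanishing on S modulo divisors of
nonzero rational functions congruent to 1 modulo m. Then every n-torsion class of Pic is the image
of an n-torsion class of Pic_m, and the n-torsion classes of Pic_m that map to zero in Pic are
exactly n^(s−1) in number (they form μ_n(k)^S modulo the diagonal μ_n(k)): the short exact sequence
0 → μ_n^S/μ_n → Pic_m[n] → Pic[n] → 0. (The published statement is for the degree-zero parts;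
n-torsion classes have degree zero, so this is the same sequence. For s = 0 the two groups coincide
and the count is 1.) -/
theorem result
    (k : Type u) [Field k] [IsAlgClosed k] (X : Scheme.{u}) [IsIntegral X]
    (c : X ⟶ Spec (CommRingCat.of k)) [IsProper c] [Smooth c] (hdim : topologicalKrullDim X = 1)
    (m : LocSym.Pt c →₀ ℕ) (hm : ∀ x : LocSym.Pt c, m x ≤ 1)
    (s : ℕ) (hs : m.support.card = s) (n : ℕ) (hn : 1 ≤ n) (hnk : (n : k) ≠ 0) :
    (∀ y : Pic c, n • y = 0 → ∃ x : PicMod c m, n • x = 0 ∧ picModToPic c m x = y) ∧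
    Nat.card {x : PicMod c m // n • x = 0 ∧ picModToPic c m x = 0} = n ^ (s - 1) := by
  classical
  haveI : NeZero n := ⟨by omega⟩
  haveI : NeZero (n : k) := ⟨hnk⟩
  have hroot : ∀ a : kˣ, ∃ b : kˣ, b ^ n = a := fun a => by
    obtain ⟨b, hb⟩ := IsAlgClosed.exists_pow_nat_eq (a : k) hn
    refine ⟨Units.mk0 b fun e => ?_, Units.ext (by simpa using hb)⟩
    rw [e, zero_pow (by omega)] at hb
    exact a.ne_zero hb.symm
  constructor
  · intro y hy
    obtain ⟨x₀, rfl⟩ := picModToPic_surjective hdim (m := m) y
    rw [← map_nsmul] at hy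
    obtain ⟨g, E, v, hg, hv, he⟩ := (picModToPic_eq_zero_iff hdim _).1 hy
    choose w hw using fun x => hroot (v x)
    obtain ⟨h, F, hF, hhw⟩ := exists_fun_values hdim (m := m) w
    refine ⟨x₀ - QuotientAddGroup.mk F, ?_, ?_⟩
    · rw [nsmul_sub, he, sub_eq_zero, ← QuotientAddGroup.mk_nsmul]
      refine mk_eq_of_values hdim hm hg (by simpa using isDivOf_pow hdim hF n) hv fun x hx => ?_
      have := value_pow c hdim x (hhw x hx) n
      rwa [← Units.val_pow_eq_pow_val, hw x] at this
    · rw [map_sub, (picModToPic_eq_zero_iff hdim _).2 ⟨h, F, w, hF, hhw, rfl⟩, sub_zero]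
  · have cls : ∀ v : LocSym.Pt c → kˣ, ∃ y : PicMod c m, ∀ (g : X.functionField) (D : divAway c m),
        IsDivOf c (D : LocSym.Pt c →₀ ℤ) g → (∀ x ∈ m.support, LocSym.HasValueAt x g (v x : k)) →
          y = QuotientAddGroup.mk D := fun v => by
      obtain ⟨g, D, hg, hv⟩ := exists_fun_values hdim (m := m) v
      exact ⟨QuotientAddGroup.mk D, fun g' D' hg' hv' => mk_eq_of_values hdim hm hg hg' hv hv'⟩
    choose cl hcl using cls
    have hzero : ∀ v, picModToPic c m (cl v) = 0 := fun v => by
      obtain ⟨g, D, hg, hv⟩ := exists_fun_values hdim (m := m) v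
      rw [hcl v g D hg hv]
      exact (picModToPic_eq_zero_iff hdim _).2 ⟨g, D, v, hg, hv, rfl⟩
    have hnsmul : ∀ v, n • cl v = 0 ↔ ∃ a : kˣ, ∀ x ∈ m.support, v x ^ n = a := fun v => by
      obtain ⟨g, D, hg, hv⟩ := exists_fun_values hdim (m := m) v
      rw [hcl v g D hg hv, ← QuotientAddGroup.mk_nsmul]
      exact mk_eq_zero_iff hdim hm (v := fun x => v x ^ n) (by simpa using isDivOf_pow hdim hg n)
        fun x hx => by simpa using value_pow c hdim x (hv x hx) n
    rcases m.support.eq_empty_or_nonempty with hS | ⟨x₀, hx₀⟩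
    · have h0 : ∀ y : PicMod c m, picModToPic c m y = 0 → y = 0 := fun y hy => by
        obtain ⟨g, D, v, hg, hv, rfl⟩ := (picModToPic_eq_zero_iff hdim _).1 hy
        exact (mk_eq_zero_iff hdim hm hg hv).2 ⟨1, fun x hx => absurd hx (by simp [hS])⟩
      rw [hS, Finset.card_empty] at hs
      subst hs
      rw [pow_zero, Nat.card_eq_one_iff_unique]
      exact ⟨⟨fun a b => Subtype.ext ((h0 _ a.2.2).trans (h0 _ b.2.2).symm)⟩, ⟨⟨0, by simp⟩⟩⟩
    · let T := m.support.erase x₀
      let ext' : (T → rootsOfUnity n k) → LocSym.Pt c → kˣ := fun w x =>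
        if hx : x ∈ T then ((w ⟨x, hx⟩ : rootsOfUnity n k) : kˣ) else 1
      have hext : ∀ w x, ext' w x ^ n = 1 := fun w x => by
        simp only [ext']
        split
        · next hx => exact (mem_rootsOfUnity n _).1 (w ⟨x, hx⟩).2
        · exact one_pow _
      let Φ : (T → rootsOfUnity n k) → {x : PicMod c m // n • x = 0 ∧ picModToPic c m x = 0} :=
        fun w => ⟨cl (ext' w), (hnsmul _).2 ⟨1, fun x _ => hext w x⟩, hzero _⟩
      have hΦ : Function.Bijective Φ := by
        constructor
        · intro w w' e
          have e : cl (ext' w) = cl (ext' w') := congrArg Subtype.val e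
          obtain ⟨g, D, hg, hv⟩ := exists_fun_values hdim (m := m) (ext' w)
          obtain ⟨g', D', hg', hv'⟩ := exists_fun_values hdim (m := m) (ext' w')
          rw [hcl _ g D hg hv, hcl _ g' D' hg' hv', ← sub_eq_zero, ← QuotientAddGroup.mk_sub] at e
          obtain ⟨a, ha⟩ := (mk_eq_zero_iff hdim hm (v := fun x => ext' w x / ext' w' x)
            (by simpa using isDivOf_div hdim hg hg') (fun x hx => by
              simpa using value_div c hdim x (ext' w' x).ne_zero (hv x hx) (hv' x hx))).1 e
          have h0 := ha x₀ hx₀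
          simp only [ext', T, Finset.mem_erase, ne_eq, not_true, false_and, dite_false, div_one] at h0
          funext ⟨x, hx⟩
          have := ha x (Finset.mem_of_mem_erase hx)
          rw [← h0, div_eq_one] at this
          simp only [ext', dif_pos hx] at this
          exact Subtype.ext this
        · rintro ⟨y, hy, hy0⟩
          obtain ⟨g, D, v, hg, hv, rfl⟩ := (picModToPic_eq_zero_iff hdim _).1 hy0
          rw [← hcl v g D hg hv, hnsmul v] at hy
          obtain ⟨a, ha⟩ := hy
          refine ⟨fun x => ⟨v x / v x₀, (mem_rootsOfUnity n _).2 (by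
            rw [div_pow, ha x (Finset.mem_of_mem_erase x.2), ha x₀ hx₀, div_self'])⟩, Subtype.ext ?_⟩
          have hne : LocSym.constFun c (v x₀ : k) ≠ 0 := (map_ne_zero _).2 (v x₀).ne_zero
          refine hcl _ (g / LocSym.constFun c (v x₀ : k)) D ⟨div_ne_zero hg.1 hne, fun x => ?_⟩
            fun x hx => ?_
          · rw [ord_div c hdim x hg.1 hne, ord_const c hdim, sub_zero, hg.2]
          · have := value_div c hdim x (v x₀).ne_zero (hv x hx) (value_const c x (v x₀ : k))
            by_cases hxT : x ∈ T
            · simpa only [ext', dif_pos hxT, Units.val_div_eq_div_val] using this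
            · have : x = x₀ := by_contra fun h => hxT (Finset.mem_erase.2 ⟨h, hx⟩)
              subst this
              simpa [ext', T] using this
      rw [← Nat.card_eq_of_bijective Φ hΦ, Nat.card_fun, Nat.card_eq_fintype_card (α := T),
        Fintype.card_coe, Finset.card_erase_of_mem hx₀, hs,
        HasEnoughRootsOfUnity.natCard_rootsOfUnity k n]

end Groth.Agent.S14183
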