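import Groth.Statements.S14184
import Groth.Agent.LocSymLib.Recip
-- import your own Groth.Agent.* helpers here

set_option autoImplicit false
universe u
open CategoryTheory AlgebraicGeometry
open LocSym

open Groth.Agent.LocSymLib
namespace Groth.Agent.S14184

/-- Let k be an algebraically closed field and X a smooth proper integral curve over k (structure
morphism c, dimension one); points are k-points and ord_x is the valuation at x. Let n ≥ 1, let Z be
a finite set of points, let f₁, f₂ be nonzero rational functions and D₁, D₁′, D₂ divisors (finitely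
supported integer-valued functions on points) with n·D₁ = div(f₁) + D₁′, D₁′ supported on Z, n·D₂ =
div(f₂), f₂ taking the value 1 at every point of Z, and div(f₁) and D₂ with disjoint supports. Let
v₁(x) ∈ kˣ be the value of f₁ at each point of the support of D₂ and v₂(x) ∈ kˣ the value of f₂ at
each point of the support of D₁. Then the quotient of ∏_x v₁(x)^{D₂(x)} by ∏_x v₂(x)^{D₁(x)} is an
n-th root of unity: its n-th power is 1. (This quotient f₁(D₂)/f₂(D₁) is the generalised Weil
pairing of the classes of (D₁, D₁′, f₁) and D₂; the published statement also normalises f₁, f₂ at a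
base point, which is not needed for this assertion.) -/
theorem result
    (k : Type u) [Field k] [IsAlgClosed k] (X : Scheme.{u}) [IsIntegral X]
    (c : X ⟶ Spec (CommRingCat.of k)) [IsProper c] [Smooth c] (hdim : topologicalKrullDim X = 1)
    (n : ℕ) (hn : 1 ≤ n) (Z : Finset (LocSym.Pt c))
    (f₁ f₂ : X.functionField) (hf₁ : f₁ ≠ 0) (hf₂ : f₂ ≠ 0)
    (D₁ D₁' D₂ : LocSym.Pt c →₀ ℤ)
    (hD₁ : ∀ x : LocSym.Pt c, (n : ℤ) * D₁ x = x.ord f₁ + D₁' x) (hD₁' : D₁'.support ⊆ Z)
    (hD₂ : ∀ x : LocSym.Pt c, (n : ℤ) * D₂ x = x.ord f₂)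
    (hf₂Z : ∀ x ∈ Z, LocSym.HasValueAt x f₂ 1)
    (hdisj : ∀ x : LocSym.Pt c, x.ord f₁ = 0 ∨ D₂ x = 0)
    (v₁ v₂ : LocSym.Pt c → kˣ)
    (hv₁ : ∀ x ∈ D₂.support, LocSym.HasValueAt x f₁ (v₁ x : k))
    (hv₂ : ∀ x ∈ D₁.support, LocSym.HasValueAt x f₂ (v₂ x : k)) :
    ((D₂.prod fun x e => v₁ x ^ e) / (D₁.prod fun x e => v₂ x ^ e)) ^ n = 1 := by
  classical
  have hn0 : (n : ℤ) ≠ 0 := by omega
  have hord2 : ∀ x : LocSym.Pt c, x.ord f₂ = 0 ↔ D₂ x = 0 := fun x => by
    rw [← hD₂ x, mul_eq_zero]; exact or_iff_right hn0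
  choose! w₁ hw₁ using fun (x : LocSym.Pt c) (h : x.ord f₁ = 0) => exists_unit_value c hdim x hf₁ h
  choose! w₂ hw₂ using fun (x : LocSym.Pt c) (h : x.ord f₂ = 0) => exists_unit_value c hdim x hf₂ h
  have e₁ : ∀ x ∈ D₂.support, v₁ x = w₁ x := fun x hx => Units.ext (value_unique c hdim x (hv₁ x hx)
    (hw₁ x ((hdisj x).resolve_right (Finsupp.mem_support_iff.1 hx))))
  have e₂ : ∀ x ∈ D₁.support, v₂ x = w₂ x := fun x hx => Units.ext (value_unique c hdim x (hv₂ x hx)
    (hw₂ x (ord_eq_zero_of_value c hdim x (v₂ x).ne_zero (hv₂ x hx)).2))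
  have eZ : ∀ x ∈ Z, w₂ x = 1 := fun x hx => Units.ext (value_unique c hdim x
    (hw₂ x (ord_eq_zero_of_value c hdim x one_ne_zero (hf₂Z x hx)).2) (hf₂Z x hx))
  have key := finprod_value_zpow_ord_comm c hdim hf₁ hf₂
    (fun x => (hdisj x).imp_right (hord2 x).2) w₁ w₂ hw₁ hw₂
  rw [div_pow, div_eq_one]
  have hL : (D₂.prod fun x e => v₁ x ^ e) ^ n = ∏ᶠ x, w₁ x ^ x.ord f₂ := by
    rw [finprod_eq_prod_of_mulSupport_subset _ (s := D₂.support) (fun x hx => by
      rw [Finset.mem_coe, Finsupp.mem_support_iff]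
      exact fun h => Function.mem_mulSupport.1 hx (by rw [(hord2 x).2 h, zpow_zero])),
      Finsupp.prod, ← Finset.prod_pow]
    refine Finset.prod_congr rfl fun x hx => ?_
    rw [e₁ x hx, ← zpow_natCast, ← zpow_mul, ← hD₂ x, mul_comm]
  have hR : (D₁.prod fun x e => v₂ x ^ e) ^ n = ∏ᶠ x, w₂ x ^ x.ord f₁ := by
    rw [finprod_eq_prod_of_mulSupport_subset _ (s := D₁.support ∪ Z) (fun x hx => ?_),
      Finsupp.prod_of_support_subset D₁ (s := D₁.support ∪ Z) Finset.subset_union_left _
        (fun x _ => zpow_zero _), ← Finset.prod_pow]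
    · refine Finset.prod_congr rfl fun x hx => ?_
      by_cases hxZ : x ∈ Z
      · rw [eZ x hxZ, one_zpow]
        by_cases h : x ∈ D₁.support
        · rw [e₂ x h, eZ x hxZ, one_zpow, one_pow]
        · rw [Finsupp.notMem_support_iff.1 h, zpow_zero, one_pow]
      · have h' : D₁' x = 0 := Finsupp.notMem_support_iff.1 fun h => hxZ (hD₁' h)
        rw [e₂ x ((Finset.mem_union.1 hx).resolve_right hxZ), ← zpow_natCast, ← zpow_mul, mul_comm,
          hD₁ x, h', add_zero]
    · rw [Finset.mem_coe, Finset.mem_union, Finsupp.mem_support_iff]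
      by_cases hxZ : x ∈ Z
      · exact Or.inr hxZ
      · refine Or.inl fun h => Function.mem_mulSupport.1 hx ?_
        have h' : D₁' x = 0 := Finsupp.notMem_support_iff.1 fun h => hxZ (hD₁' h)
        have := hD₁ x
        rw [h, h', mul_zero, add_zero] at this
        rw [← this, zpow_zero]
  rw [hL, hR, key]

end Groth.Agent.S14184
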