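import Groth.Statements.S14193
import Mathlib.RingTheory.PowerSeries.Derivative
import Mathlib.RingTheory.PowerSeries.Exp
import Mathlib.FieldTheory.RatFunc.AsPolynomial
import Mathlib.Analysis.Complex.Polynomial.Basic
import Mathlib.LinearAlgebra.LinearIndependent.Lemmas

set_option autoImplicit false
open PowerSeries
open StackCount

namespace Groth.Agent.S14193

lemma expCoeff_eq_zero (f : ℂ →₀ ℂ) (h0 : f 0 = 0)
    (h : ∀ v : ℕ, (f.sum fun β c => c * β ^ (v + 1)) = 0) : f = 0 := by
  have li : LinearIndependent ℂ (fun β : ℂ => (powersHom ℂ β : Multiplicative ℕ → ℂ)) :=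
    (linearIndependent_monoidHom (Multiplicative ℕ) ℂ).comp _ (powersHom ℂ).injective
  let g : ℂ →₀ ℂ := Finsupp.onFinset f.support (fun β => f β * β) (fun β hβ => by
    simp only [Finsupp.mem_support_iff]; exact left_ne_zero_of_mul hβ)
  have hg : g = 0 := by
    apply linearIndependent_iff.1 li g
    ext v
    rw [Finsupp.linearCombination_apply, Finsupp.onFinset_sum _ (fun a => by simp), Finset.sum_apply]
    refine Eq.trans (Finset.sum_congr rfl fun β _ => ?_) (h v.toAdd)
    rw [Pi.smul_apply, smul_eq_mul, powersHom_apply]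
    simp only [pow_succ]
    ring
  ext β
  rcases eq_or_ne β 0 with rfl | hβ
  · simp [h0]
  · have := DFunLike.congr_fun hg β
    simpa [g, hβ] using this

noncomputable def expEval (v : ℕ) : (ℂ →₀ ℂ) →+ ℂ :=
  Finsupp.liftAddHom fun β => AddMonoidHom.mulRight (β ^ (v + 1))

@[simp] lemma expEval_single (v : ℕ) (β c : ℂ) : expEval v (Finsupp.single β c) = c * β ^ (v + 1) := by
  simp [expEval]

lemma expEval_apply (v : ℕ) (f : ℂ →₀ ℂ) : expEval v f = f.sum fun β c => c * β ^ (v + 1) := rfl

noncomputable def geom (β : ℂ) : PowerSeries ℂ :=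
  PowerSeries.mk fun v => if v = 0 then 0 else β ^ v

/-- Every nonzero polynomial has a logarithmic derivative which is a sum of geometric series. -/
lemma exists_logDeriv (p : Polynomial ℂ) : ∃ (r : ℕ) (ms : Multiset ℂ), (∀ β ∈ ms, β ≠ 0) ∧
    PowerSeries.X * PowerSeries.derivative ℂ (p : PowerSeries ℂ) =
      ((r : PowerSeries ℂ) - (ms.map geom).sum) * (p : PowerSeries ℂ) := by
  obtain ⟨m, hm⟩ := Polynomial.splits_iff_exists_multiset.1 (IsAlgClosed.splits p)
  rw [hm]
  generalize p.leadingCoeff = c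
  clear hm
  induction m using Multiset.induction with
  | empty =>
    refine ⟨0, 0, by simp, ?_⟩
    simp
  | cons a m ih =>
    obtain ⟨r, ms, hms, hp⟩ := ih
    rw [Multiset.map_cons, Multiset.prod_cons, mul_left_comm]
    generalize hq : (Polynomial.C c * (m.map (fun x => Polynomial.X - Polynomial.C x)).prod) = q at hp ⊢
    have hd : PowerSeries.derivative ℂ (((Polynomial.X - Polynomial.C a) * q : Polynomial ℂ) : PowerSeries ℂ)
        = (PowerSeries.X - PowerSeries.C a) * PowerSeries.derivative ℂ (q : PowerSeries ℂ) + (q : PowerSeries ℂ) := by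
      rw [Polynomial.coe_mul, Polynomial.coe_sub, Polynomial.coe_X, Polynomial.coe_C, Derivation.leibniz,
        map_sub, PowerSeries.derivative_X, PowerSeries.derivative_C]
      simp [smul_eq_mul]
    rcases eq_or_ne a 0 with rfl | ha
    · refine ⟨r + 1, ms, hms, ?_⟩
      rw [hd, Polynomial.coe_mul, Polynomial.coe_sub, Polynomial.coe_X, Polynomial.coe_C]
      simp only [map_zero, sub_zero, Nat.cast_add, Nat.cast_one]
      linear_combination PowerSeries.X * hp
    · refine ⟨r, a⁻¹ ::ₘ ms, by simpa [ha] using hms, ?_⟩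
      have key : PowerSeries.X = -(geom a⁻¹) * (PowerSeries.X - PowerSeries.C a) := by
        rw [neg_mul, ← mul_neg, neg_sub, mul_sub]
        ext n
        rw [map_sub, PowerSeries.coeff_mul_C, PowerSeries.coeff_X]
        match n with
        | 0 => simp [geom]
        | 1 => simp [geom, ha]
        | n + 2 =>
          rw [PowerSeries.coeff_succ_mul_X]
          simp [geom, pow_succ]
          field_simp
          ring
      rw [hd, Multiset.map_cons, Multiset.sum_cons, Polynomial.coe_mul, Polynomial.coe_sub, Polynomial.coe_X, Polynomial.coe_C]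
      linear_combination (PowerSeries.X - PowerSeries.C a) * hp + (q : PowerSeries ℂ) * key

lemma exists_num_den (q : ℤ) (hq : 1 < q) {F : RatFunc ℚ}
    (hF : F ∈ Subring.closure
      (({RatFunc.X, (RatFunc.X : RatFunc ℚ)⁻¹} : Set (RatFunc ℚ)) ∪
        Set.range fun n : ℕ => ((RatFunc.X : RatFunc ℚ) ^ (n + 1) - 1)⁻¹)) :
    ∃ N D : Polynomial ℚ, D ≠ 0 ∧ (∀ v : ℕ, D.eval ((q : ℚ) ^ (v + 1)) ≠ 0) ∧
      F * algebraMap _ (RatFunc ℚ) D = algebraMap _ _ N := by
  have hq' : (1 : ℚ) < q := by exact_mod_cast hq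
  induction hF using Subring.closure_induction with
  | mem x hx =>
    rcases hx with (rfl | rfl) | ⟨n, rfl⟩
    · exact ⟨Polynomial.X, 1, one_ne_zero, fun v => by simp, by simp [RatFunc.algebraMap_X]⟩
    · refine ⟨1, Polynomial.X, Polynomial.X_ne_zero, fun v => ?_, ?_⟩
      · simp only [Polynomial.eval_X]
        positivity
      · rw [RatFunc.algebraMap_X, map_one, inv_mul_cancel₀ RatFunc.X_ne_zero]
    · refine ⟨1, Polynomial.X ^ (n + 1) - 1, (Polynomial.monic_X_pow_sub_C 1 (Nat.succ_ne_zero n)).ne_zero,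
        fun v => ?_, ?_⟩
      · simp only [Polynomial.eval_sub, Polynomial.eval_pow, Polynomial.eval_X, Polynomial.eval_one]
        exact sub_ne_zero.2 (one_lt_pow₀ (one_lt_pow₀ hq' (Nat.succ_ne_zero v)) (Nat.succ_ne_zero n)).ne'
      · rw [map_one, map_sub, map_pow, map_one, RatFunc.algebraMap_X, inv_mul_cancel₀]
        rw [← RatFunc.algebraMap_X, ← map_pow, ← map_one (algebraMap (Polynomial ℚ) (RatFunc ℚ)), ← map_sub]
        exact RatFunc.algebraMap_ne_zero (Polynomial.monic_X_pow_sub_C 1 (Nat.succ_ne_zero n)).ne_zero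
  | zero => exact ⟨0, 1, one_ne_zero, fun v => by simp, by simp⟩
  | one => exact ⟨1, 1, one_ne_zero, fun v => by simp, by simp⟩
  | add x y _ _ hx hy =>
    obtain ⟨N, D, hD, hD', h⟩ := hx
    obtain ⟨N', D', hE, hE', h'⟩ := hy
    refine ⟨N * D' + N' * D, D * D', mul_ne_zero hD hE, fun v => ?_, ?_⟩
    · rw [Polynomial.eval_mul]; exact mul_ne_zero (hD' v) (hE' v)
    · simp only [map_mul, map_add]
      linear_combination (algebraMap (Polynomial ℚ) (RatFunc ℚ) D') * h + (algebraMap (Polynomial ℚ) (RatFunc ℚ) D) * h'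
  | neg x _ hx =>
    obtain ⟨N, D, hD, hD', h⟩ := hx
    exact ⟨-N, D, hD, hD', by rw [map_neg, neg_mul, h]⟩
  | mul x y _ _ hx hy =>
    obtain ⟨N, D, hD, hD', h⟩ := hx
    obtain ⟨N', D', hE, hE', h'⟩ := hy
    refine ⟨N * N', D * D', mul_ne_zero hD hE, fun v => ?_, ?_⟩
    · rw [Polynomial.eval_mul]; exact mul_ne_zero (hD' v) (hE' v)
    · simp only [map_mul]
      linear_combination y * algebraMap (Polynomial ℚ) (RatFunc ℚ) D' * h + algebraMap (Polynomial ℚ) (RatFunc ℚ) N * h'


/-- Let q > 1 be an integer and let F be an element of the subring of the rational function field ℚ(X)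
generated by X, X^(-1) and the fractions 1/(X^n - 1) for n ≥ 1 (so F(q^v) is defined for every v ≥
1). If the formal power series exp(Σ_{v ≥ 1} F(q^v) t^v / v) in ℚ⟦t⟧ is the expansion of a rational
function, i.e. its product with some non-zero polynomial in t is a polynomial, then F is a Laurent
polynomial with integer coefficients: F · X^a is the image of a polynomial with integer coefficients
for some a. (The published statement also assumes that the series defines a meromorphic function on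
the complex plane; that is implied by rationality and is omitted here.) -/
theorem result (q : ℤ) (hq : 1 < q) (F : RatFunc ℚ)
    (hF : F ∈ Subring.closure
      (({RatFunc.X, (RatFunc.X : RatFunc ℚ)⁻¹} : Set (RatFunc ℚ)) ∪
        Set.range fun n : ℕ => ((RatFunc.X : RatFunc ℚ) ^ (n + 1) - 1)⁻¹))
    (hrat : ∃ P Q : Polynomial ℚ, Q ≠ 0 ∧
      (PowerSeries.exp ℚ).subst
          (PowerSeries.mk fun v : ℕ => if v = 0 then (0 : ℚ)
            else F.eval (RingHom.id ℚ) ((q : ℚ) ^ v) / (v : ℚ))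
        * (Q : PowerSeries ℚ) = (P : PowerSeries ℚ)) :
    ∃ (P : Polynomial ℤ) (a : ℕ),
      F * RatFunc.X ^ a = algebraMap (Polynomial ℚ) (RatFunc ℚ) (P.map (Int.castRingHom ℚ)) := by
  classical
  obtain ⟨N, D, hD0, hD, hFD⟩ := exists_num_den q hq hF
  obtain ⟨P, Q, hQ, hPQ⟩ := hrat
  set Fv : ℕ → ℚ := fun v => F.eval (RingHom.id ℚ) ((q : ℚ) ^ v) with hFv
  have hFvND : ∀ v : ℕ, Fv (v + 1) * D.eval ((q : ℚ) ^ (v + 1)) = N.eval ((q : ℚ) ^ (v + 1)) := by
    intro v
    have h1 : F.num * D = N * F.denom := by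
      apply RatFunc.algebraMap_injective
      rw [map_mul, map_mul, ← hFD]
      have hnd := RatFunc.num_div_denom F
      rw [div_eq_iff (RatFunc.algebraMap_ne_zero F.denom_ne_zero)] at hnd
      rw [hnd]; ring
    have hdvd : F.denom ∣ D := (RatFunc.denom_dvd hD0).2 ⟨N, by
      rw [eq_div_iff (RatFunc.algebraMap_ne_zero hD0), hFD]⟩
    have hd0 : F.denom.eval ((q : ℚ) ^ (v + 1)) ≠ 0 := fun h => hD v
      (Polynomial.eval_eq_zero_of_dvd_of_eval_eq_zero hdvd h)
    simp only [hFv, RatFunc.eval, Polynomial.eval₂_id]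
    rw [div_mul_eq_mul_div, div_eq_iff hd0, ← Polynomial.eval_mul, ← Polynomial.eval_mul, h1]
  set g : PowerSeries ℚ := PowerSeries.mk fun v : ℕ => if v = 0 then (0 : ℚ) else Fv v / (v : ℚ) with hgdef
  have hg0 : PowerSeries.constantCoeff g = 0 := by simp [g, ← PowerSeries.coeff_zero_eq_constantCoeff]
  have hs : PowerSeries.HasSubst g := PowerSeries.HasSubst.of_constantCoeff_zero' hg0
  set S := (PowerSeries.exp ℚ).subst g with hSdef
  have hS : PowerSeries.derivative ℚ S = S * PowerSeries.derivative ℚ g := by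
    rw [hSdef, PowerSeries.derivative_subst hs, PowerSeries.derivative_exp]
  change S * (Q : PowerSeries ℚ) = (P : PowerSeries ℚ) at hPQ
  have hcS : PowerSeries.constantCoeff S = 1 := by
    rw [← PowerSeries.coeff_zero_eq_constantCoeff_apply, hSdef, PowerSeries.coeff_subst' hs, finsum_eq_single _ 0]
    · simp
    · intro d hd
      rw [PowerSeries.coeff_zero_eq_constantCoeff_apply, map_pow, hg0, zero_pow hd, smul_zero]
  have hP : P ≠ 0 := by
    intro h
    rw [h, Polynomial.coe_zero] at hPQ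
    have hS0 : S ≠ 0 := fun h => by simp [h] at hcS
    exact mul_ne_zero hS0 (fun h => hQ (Polynomial.coe_eq_zero_iff.1 h)) hPQ
  have hQlog : PowerSeries.X * PowerSeries.derivative ℚ (P : PowerSeries ℚ) * (Q : PowerSeries ℚ) -
      PowerSeries.X * PowerSeries.derivative ℚ (Q : PowerSeries ℚ) * (P : PowerSeries ℚ) =
      (PowerSeries.X * PowerSeries.derivative ℚ g) * ((P : PowerSeries ℚ) * (Q : PowerSeries ℚ)) := by
    rw [← hPQ, Derivation.leibniz, hS, smul_eq_mul, smul_eq_mul]
    ring
  set ι := algebraMap ℚ ℂ with hι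
  set P' := P.map ι with hP'
  set Q' := Q.map ι with hQ'
  obtain ⟨rP, sP, hsP, hlP⟩ := exists_logDeriv P'
  obtain ⟨rQ, sQ, hsQ, hlQ⟩ := exists_logDeriv Q'
  have hcd : ∀ R : Polynomial ℚ, PowerSeries.map ι (PowerSeries.derivative ℚ (R : PowerSeries ℚ)) =
      PowerSeries.derivative ℂ ((R.map ι : Polynomial ℂ) : PowerSeries ℂ) := by
    intro R
    rw [PowerSeries.derivative_coe, PowerSeries.derivative_coe, Polynomial.derivative_map,
      Polynomial.polynomial_map_coe]
  set T := PowerSeries.map ι (PowerSeries.X * PowerSeries.derivative ℚ g) with hTdef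
  have hT : T = ((rP : PowerSeries ℂ) - (sP.map geom).sum) - ((rQ : PowerSeries ℂ) - (sQ.map geom).sum) := by
    have h1 := congrArg (PowerSeries.map ι) hQlog
    simp only [map_mul, map_sub, PowerSeries.map_X, hcd, ← Polynomial.polynomial_map_coe] at h1
    rw [← hP', ← hQ', hlP, hlQ] at h1
    have hne : ((P' : PowerSeries ℂ) * (Q' : PowerSeries ℂ)) ≠ 0 := mul_ne_zero
      (fun h => hP ((Polynomial.map_eq_zero_iff ι.injective).1 (Polynomial.coe_eq_zero_iff.1 h)))
      (fun h => hQ ((Polynomial.map_eq_zero_iff ι.injective).1 (Polynomial.coe_eq_zero_iff.1 h)))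
    apply mul_right_cancel₀ hne
    rw [hTdef, map_mul, PowerSeries.map_X]
    linear_combination -h1
  have hsum : ∀ (ms : Multiset ℂ) (v : ℕ),
      PowerSeries.coeff (v + 1) (ms.map geom).sum = (ms.map fun β => β ^ (v + 1)).sum := by
    intro ms v
    rw [map_multiset_sum, Multiset.map_map]
    congr 1
    apply Multiset.map_congr rfl
    intro β _
    simp [geom]
  have hFv' : ∀ v : ℕ, (Fv (v + 1) : ℂ) =
      (sQ.map fun β => β ^ (v + 1)).sum - (sP.map fun β => β ^ (v + 1)).sum := by
    intro v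
    have h := congrArg (PowerSeries.coeff (v + 1)) hT
    rw [hTdef, PowerSeries.coeff_map, PowerSeries.coeff_succ_X_mul, PowerSeries.coeff_derivative, hgdef,
      PowerSeries.coeff_mk, if_neg (Nat.succ_ne_zero v)] at h
    have hv : ((v + 1 : ℕ) : ℚ) ≠ 0 := Nat.cast_ne_zero.mpr (Nat.succ_ne_zero v)
    rw [Nat.cast_succ] at hv
    rw [Nat.cast_succ, div_mul_cancel₀ _ hv, map_sub, map_sub, map_sub, hsum, hsum] at h
    simp only [← map_natCast (PowerSeries.C (R := ℂ)), PowerSeries.coeff_C, Nat.succ_ne_zero, if_false] at h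
    rw [show (Fv (v + 1) : ℂ) = ι (Fv (v + 1)) from rfl, h]; ring
  -- only the powers of `q` can occur
  let qc : ℂ := (q : ℂ)
  have hqc : qc ≠ 0 := by
    have : q ≠ 0 := by omega
    exact Int.cast_ne_zero.2 this
  let Z : ℂ → Prop := fun β => ∃ i : ℤ, qc ^ i = β
  let dpart : ℂ → (ℂ →₀ ℂ) := fun β => D.sum fun i d => Finsupp.single (qc ^ i * β) (d : ℂ)
  let npart : ℂ →₀ ℂ := N.sum fun i d => Finsupp.single (qc ^ i) (d : ℂ)
  have hdev : ∀ β v, expEval v (dpart β) = ((D.eval ((q : ℚ) ^ (v + 1)) : ℚ) : ℂ) * β ^ (v + 1) := by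
    intro β v
    simp only [dpart, Polynomial.sum_def, map_sum, expEval_single, Polynomial.eval_eq_sum, Rat.cast_sum, Finset.sum_mul]
    refine Finset.sum_congr rfl fun i _ => ?_
    push_cast
    rw [mul_pow, ← pow_mul, ← pow_mul, mul_comm i]
    ring
  have hnev : ∀ v, expEval v npart = ((N.eval ((q : ℚ) ^ (v + 1)) : ℚ) : ℂ) := by
    intro v
    simp only [npart, Polynomial.sum_def, map_sum, expEval_single, Polynomial.eval_eq_sum, Rat.cast_sum]
    refine Finset.sum_congr rfl fun i _ => ?_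
    push_cast
    rw [← pow_mul, ← pow_mul, mul_comm i]
  set big := (sQ.map dpart).sum - (sP.map dpart).sum - npart with hbig
  have hd0 : ∀ β, β ≠ 0 → dpart β 0 = 0 := by
    intro β hβ
    simp only [dpart, Polynomial.sum_def, Finsupp.finsetSum_apply]
    refine Finset.sum_eq_zero fun i _ => ?_
    rw [Finsupp.single_apply, if_neg (mul_ne_zero (pow_ne_zero i hqc) hβ)]
  have hms0 : ∀ ms : Multiset ℂ, (∀ β ∈ ms, β ≠ 0) → (ms.map dpart).sum 0 = 0 := by
    intro ms hms
    rw [← Finsupp.applyAddHom_apply 0, map_multiset_sum, Multiset.map_map]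
    refine Multiset.sum_eq_zero fun x hx => ?_
    obtain ⟨β, hβ, rfl⟩ := Multiset.mem_map.1 hx
    exact hd0 β (hms β hβ)
  have hbig0 : big = 0 := by
    refine expCoeff_eq_zero big ?_ (fun v => ?_)
    · simp only [hbig, Finsupp.sub_apply, hms0 _ hsQ, hms0 _ hsP]
      simp only [npart, Polynomial.sum_def, Finsupp.finsetSum_apply, sub_zero, zero_sub, neg_eq_zero]
      refine Finset.sum_eq_zero fun i _ => ?_
      rw [Finsupp.single_apply, if_neg (pow_ne_zero i hqc)]
    · rw [← expEval_apply, hbig, map_sub, map_sub, map_multiset_sum, map_multiset_sum, hnev,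
        Multiset.map_map, Multiset.map_map]
      simp only [Function.comp_def, hdev, Multiset.sum_map_mul_left]
      have := hFvND v
      have h2 : ((Fv (v + 1) : ℚ) : ℂ) * ((D.eval ((q : ℚ) ^ (v + 1)) : ℚ) : ℂ) = ((N.eval ((q : ℚ) ^ (v + 1)) : ℚ) : ℂ) := by
        exact_mod_cast congrArg (fun x : ℚ => (x : ℂ)) this
      rw [hFv'] at h2
      linear_combination h2
  have hfd : ∀ β, Finsupp.filter (fun b => ¬ Z b) (dpart β) = if Z β then 0 else dpart β := by
    intro β
    simp only [dpart, Polynomial.sum_def, Finsupp.filter_sum]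
    split_ifs with h
    · obtain ⟨j, rfl⟩ := h
      refine Finset.sum_eq_zero fun i _ => Finsupp.filter_single_of_neg _ ?_
      rw [not_not]
      exact ⟨i + j, by rw [zpow_add₀ hqc, zpow_natCast]⟩
    · refine Finset.sum_congr rfl fun i _ => Finsupp.filter_single_of_pos _ ?_
      rintro ⟨j, hj⟩
      exact h ⟨j - i, by rw [zpow_sub₀ hqc, zpow_natCast, hj, mul_div_cancel_left₀ _ (pow_ne_zero i hqc)]⟩
  have hfn : Finsupp.filter (fun b => ¬ Z b) npart = 0 := by
    simp only [npart, Polynomial.sum_def, Finsupp.filter_sum]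
    refine Finset.sum_eq_zero fun i _ => Finsupp.filter_single_of_neg _ ?_
    rw [not_not]
    exact ⟨i, zpow_natCast qc i⟩
  have hfm : ∀ (ms : Multiset ℂ) (v : ℕ), expEval v (Finsupp.filterAddHom (fun b => ¬ Z b) (ms.map dpart).sum)
      = ((D.eval ((q : ℚ) ^ (v + 1)) : ℚ) : ℂ) * ((ms.filter fun b => ¬ Z b).map fun β => β ^ (v + 1)).sum := by
    intro ms v
    induction ms using Multiset.induction with
    | empty => simp
    | cons b ms ih =>
      rw [Multiset.map_cons, Multiset.sum_cons, map_add, map_add, ih]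
      rw [show Finsupp.filterAddHom (fun b => ¬ Z b) (dpart b) = Finsupp.filter (fun b => ¬ Z b) (dpart b) from rfl, hfd]
      by_cases h : Z b
      · simp [h]
      · simp [h, hdev, mul_add]
  have hout : ∀ v : ℕ, ((sQ.filter fun b => ¬ Z b).map fun β => β ^ (v + 1)).sum =
      ((sP.filter fun b => ¬ Z b).map fun β => β ^ (v + 1)).sum := by
    intro v
    have h := congrArg (fun f => expEval v (Finsupp.filterAddHom (fun b => ¬ Z b) f)) hbig0
    simp only [hbig, map_sub, map_zero, hfm] at h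
    rw [show Finsupp.filterAddHom (fun b => ¬ Z b) npart = Finsupp.filter (fun b => ¬ Z b) npart from rfl,
      hfn, map_zero, sub_zero, ← mul_sub] at h
    exact sub_eq_zero.1 ((mul_eq_zero.1 h).resolve_left (by exact_mod_cast hD v))
  have hsplit : ∀ (ms : Multiset ℂ) (v : ℕ), (ms.map fun β => β ^ (v + 1)).sum =
      ((ms.filter Z).map fun β => β ^ (v + 1)).sum + ((ms.filter fun b => ¬ Z b).map fun β => β ^ (v + 1)).sum := by
    intro ms v
    rw [← Multiset.sum_add, ← Multiset.map_add, Multiset.filter_add_not]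
  choose! ex hex using fun β (h : Z β) => (h : ∃ i : ℤ, qc ^ i = β)
  let eQ : Multiset ℤ := (sQ.filter Z).map ex
  let eP : Multiset ℤ := (sP.filter Z).map ex
  obtain ⟨a, haQ, haP⟩ : ∃ a : ℕ, (∀ i ∈ eQ, 0 ≤ i + a) ∧ (∀ i ∈ eP, 0 ≤ i + a) := by
    refine ⟨((eQ + eP).map Int.natAbs).sum, fun i hi => ?_, fun i hi => ?_⟩ <;>
    · have := Multiset.single_le_sum (fun x _ => Nat.zero_le x) i.natAbs
        (Multiset.mem_map_of_mem (s := eQ + eP) Int.natAbs (Multiset.mem_add.2 (by tauto)))
      omega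
  refine ⟨(eQ.map fun i : ℤ => (Polynomial.X : Polynomial ℤ) ^ (i + (a : ℤ)).toNat).sum - (eP.map fun i : ℤ => (Polynomial.X : Polynomial ℤ) ^ (i + (a : ℤ)).toNat).sum, a, ?_⟩
  set L : Polynomial ℚ := Polynomial.map (Int.castRingHom ℚ)
    ((eQ.map fun i : ℤ => (Polynomial.X : Polynomial ℤ) ^ (i + (a : ℤ)).toNat).sum - (eP.map fun i : ℤ => (Polynomial.X : Polynomial ℤ) ^ (i + (a : ℤ)).toNat).sum) with hL
  have hpart : ∀ (ms : Multiset ℂ), (∀ i ∈ (ms.filter Z).map ex, 0 ≤ i + (a : ℤ)) → ∀ v : ℕ,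
      (((Polynomial.map (Int.castRingHom ℚ) (((ms.filter Z).map ex).map fun i : ℤ => (Polynomial.X : Polynomial ℤ) ^ (i + (a : ℤ)).toNat).sum).eval
        ((q : ℚ) ^ (v + 1)) : ℚ) : ℂ) =
      (qc ^ (v + 1)) ^ a * ((ms.filter Z).map fun β => β ^ (v + 1)).sum := by
    intro ms hms v
    rw [← Polynomial.coe_mapRingHom, map_multiset_sum, ← Polynomial.coe_evalRingHom, map_multiset_sum,
      ← Rat.coe_castHom, map_multiset_sum, ← Multiset.sum_map_mul_left]
    simp only [Multiset.map_map]
    congr 1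
    refine Multiset.map_congr rfl fun β hβ => ?_
    have hb := hex β (Multiset.mem_filter.1 hβ).2
    have h0 := hms (ex β) (Multiset.mem_map_of_mem ex hβ)
    simp only [Function.comp_apply, Polynomial.coe_mapRingHom, Polynomial.map_pow, Polynomial.map_X,
      Polynomial.coe_evalRingHom, Polynomial.eval_pow, Polynomial.eval_X, Rat.coe_castHom]
    push_cast
    conv_rhs => rw [← hb]
    rw [← zpow_natCast ((q : ℂ) ^ (v+1)) (ex β + a).toNat, Int.toNat_of_nonneg h0, ← zpow_natCast ((qc) ^ (v+1)) a,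
      ← zpow_natCast (qc ^ ex β) (v+1), ← zpow_natCast qc (v+1), ← zpow_mul, ← zpow_mul, ← zpow_mul,
      ← zpow_add₀ hqc]
    congr 1
    ring
  have hev : ∀ v : ℕ, (((L.eval ((q : ℚ) ^ (v + 1))) : ℚ) : ℂ) = (qc ^ (v + 1)) ^ a * (Fv (v + 1) : ℂ) := by
    intro v
    rw [hL, Polynomial.map_sub, Polynomial.eval_sub, Rat.cast_sub, hpart sQ haQ v, hpart sP haP v, hFv',
      hsplit sQ v, hsplit sP v, hout v]
    ring
  have hpoly : L * D = N * Polynomial.X ^ a := by
    apply Polynomial.eq_of_infinite_eval_eq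
    refine Set.Infinite.mono (s := Set.range fun v : ℕ => (q : ℚ) ^ (v + 1)) ?_
      (Set.infinite_range_of_injective fun x y hxy => ?_)
    · rintro _ ⟨v, rfl⟩
      have h2 := hFvND v
      have h1 := hev v
      have : L.eval ((q : ℚ) ^ (v + 1)) = ((q : ℚ) ^ (v + 1)) ^ a * Fv (v + 1) := by
        apply Rat.cast_injective (α := ℂ)
        push_cast
        exact h1
      simp only [Set.mem_ofPred_eq, Polynomial.eval_mul, Polynomial.eval_pow, Polynomial.eval_X, this, ← h2]
      ring
    · have hq' : (1 : ℚ) < q := by exact_mod_cast hq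
      exact Nat.succ_injective (pow_right_injective₀ (by positivity) hq'.ne' hxy)
  apply mul_right_cancel₀ (RatFunc.algebraMap_ne_zero hD0)
  rw [← map_mul, hpoly, map_mul, map_pow, RatFunc.algebraMap_X, ← hFD]
  ring

end Groth.Agent.S14193
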