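import Groth.Statements.S14197
import Groth.Agent.StkDesc10.Pairs
import Mathlib.FieldTheory.IsAlgClosed.AlgebraicClosure

set_option autoImplicit false
universe u
open CategoryTheory MonoidalCategory CartesianMonoidalCategory AlgebraicGeometry
open StackCount

namespace Groth.Agent.S14197

set_option backward.isDefEq.respectTransparency false
set_option backward.isDefEq.respectTransparency.types false

section
open CategoryTheory CategoryTheory.Limits MonoidalCategory CartesianMonoidalCategory MonObj AlgebraicGeometry
open Groth.Agent.StkDesc10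

theorem main (k : Type u) [Field k] [Finite k]
    (G : Over (Spec (CommRingCat.of k))) [GrpObj G] [Smooth G.hom] [IsAffineHom G.hom]
    (X : Over (Spec (CommRingCat.of k))) [LocallyOfFiniteType X.hom] (aX : AlgGrp.Action G X)
    (k' : IntermediateField k (AlgebraicClosure k)) [FiniteDimensional k k']
    (j₀ : SGA7.pt (K := k) (AlgebraicClosure k) ⟶ SGA7.pt (K := k) k')
    (hj : j₀.left = Spec.map (CommRingCat.ofHom (algebraMap k' (AlgebraicClosure k))))
    (A : (AlgSt.QuotObj.forget Scheme.etalePrecoverage G aX).Fiber (SGA7.pt (K := k) (AlgebraicClosure k)))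
    (t : SGA7.pt (K := k) (AlgebraicClosure k) ⟶ A.1.P) (ht : t ≫ A.1.π = eqToHom A.2.symm) :
    (∃ (B : AlgSt.QuotObj Scheme.etalePrecoverage G aX) (hB : B.base = SGA7.pt (K := k) k')
        (h : A.1 ⟶ B), h.base = eqToHom A.2 ≫ j₀ ≫ eqToHom hB.symm) ↔
    (∀ (σ : AlgebraicClosure k ≃ₐ[k'] AlgebraicClosure k)
        (s : SGA7.pt (K := k) (AlgebraicClosure k) ⟶ SGA7.pt (K := k) (AlgebraicClosure k)),
        s.left = Spec.map (CommRingCat.ofHom σ.toRingEquiv.toRingHom) →
        ∃ g : SGA7.pt (K := k) (AlgebraicClosure k) ⟶ G, lift g (t ≫ A.1.φ) ≫ aX.act = s ≫ t ≫ A.1.φ) := by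
  have hjc : j₀ = cover k k' (AlgebraicClosure k) := Over.OverMorphism.ext hj
  have : Finite k' := Module.finite_of_finite k
  have := Fintype.ofFinite k'
  have : LocallyOfFiniteType (SGA7.pt (K := k) k').hom :=
    HasRingHomProperty.Spec_iff.mpr (RingHom.finiteType_algebraMap.mpr inferInstance)
  have : IsAlgClosure k' (AlgebraicClosure k) := ⟨inferInstance, Algebra.IsAlgebraic.tower_top (K := k) k'⟩
  constructor
  · rintro ⟨B, hB, h, hb⟩ σ s hs
    have hsσ : s = autL k σ := Over.OverMorphism.ext hs
    let B' : (AlgSt.QuotObj.forget Scheme.etalePrecoverage G aX).Fiber (SGA7.pt (K := k) k') := ⟨B, hB⟩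
    have hu : (t ≫ h.top) ≫ str B' = cover k k' (AlgebraicClosure k) := by
      show (t ≫ h.top) ≫ B.π ≫ eqToHom hB = _
      rw [Category.assoc, h.cart.w_assoc, hb, ← Category.assoc, ht, hjc]
      simp
    obtain ⟨γ, hγ⟩ := exists_lift_act B' (s ≫ t ≫ h.top) (t ≫ h.top) (by
      rw [Category.assoc, hu, hsσ, autL_cover])
    refine ⟨γ, ?_⟩
    have h' := congrArg (· ≫ B.φ) hγ
    simp only [Category.assoc, h.wφ] at h'
    rw [B.eqv, lift_whiskerLeft_assoc, Category.assoc, h.wφ] at h'
    exact h'
  · intro H
    obtain ⟨g, hg⟩ := H (frob k' (AlgebraicClosure k)) (autL k (frob k' (AlgebraicClosure k))) rfl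
    obtain ⟨B, u, hu, -, huφ⟩ := exists_object_geom (K := k') (Ω := AlgebraicClosure k) (aX := aX) g⁻¹
      (t ≫ A.1.φ) (by rw [← hg, GrpSchLib.act_mul, inv_mul_cancel, GrpSchLib.act_one])
    let ψA := QuotLib.trivHom A.1 t _ rfl
    have : IsIso ψA.base := by
      show IsIso (t ≫ A.1.π)
      rw [ht]; infer_instance
    obtain ⟨e, he⟩ := StkPts10.exists_iso_of_base ψA
    have hi : e.inv.base = eqToHom A.2 := by
      have h1 : e.hom.base = eqToHom A.2.symm := (congrArg AlgSt.QuotObj.Hom.base he).trans ht
      have : IsIso e.hom.base := by rw [h1]; infer_instance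
      rw [← cancel_epi e.hom.base, ← AlgSt.QuotObj.comp_base, e.hom_inv_id, h1]
      simp
    refine ⟨B.1, B.2, e.inv ≫ QuotLib.trivHom B.1 u _ huφ, ?_⟩
    show e.inv.base ≫ u ≫ B.1.π = _
    rw [hi, hjc, ← hu, Category.assoc, Category.assoc, eqToHom_trans, eqToHom_refl, Category.comp_id]

end


/-- Let k be a finite field with algebraic closure k̄, G a smooth affine algebraic group over k acting
on a variety X over k, [X/G] the quotient stack of G-torsors (schemes, locally trivial for the étale
topology) with an equivariant morphism to X, and k' ⊆ k̄ a subfield finite over k; write T̄ = Spec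
k̄ and T' = Spec k' over Spec k, with ι : T̄ → T' the structure map. Let A be an object of [X/G]
over T̄, t a section of its torsor and x = t φ_A the corresponding k̄-point of X. Then A has a model
over k' — there are an object B of [X/G] over T' and a morphism A → B of [X/G] lying over ι (so A is
the pull-back of B) — if and only if the G(k̄)-orbit of x is fixed by Gal(k̄/k'): for every
k'-algebra automorphism σ of k̄, with s : T̄ → T̄ the induced morphism, there is g ∈ G(T̄) with g ·
x = s x. (The published statement allows any smooth algebraic group G; this row takes G affine, so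
that torsors are schemes. Together with the classification of the isomorphism classes over k̄ by
G(k̄)-orbits of k̄-points, this says that the class of A in G(k̄)∖X(k̄) has a representative defined
over k' exactly when it is Galois-fixed.) -/
theorem result (k : Type u) [Field k] [Finite k]
    (G : Over (Spec (CommRingCat.of k))) [GrpObj G] [Smooth G.hom] [IsAffineHom G.hom]
    (X : Over (Spec (CommRingCat.of k))) [LocallyOfFiniteType X.hom] [QuasiCompact X.hom]
    [IsReduced X.left] (aX : AlgGrp.Action G X)
    (k' : IntermediateField k (AlgebraicClosure k)) [FiniteDimensional k k']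
    (ι : (Over.mk (Spec.map (CommRingCat.ofHom (algebraMap k (AlgebraicClosure k)))) : Over (Spec (CommRingCat.of k))) ⟶ (Over.mk (Spec.map (CommRingCat.ofHom (algebraMap k k'))) : Over (Spec (CommRingCat.of k))))
    (hι : ι.left = Spec.map (CommRingCat.ofHom (algebraMap k' (AlgebraicClosure k))))
    (A : (AlgSt.QuotObj.forget Scheme.etalePrecoverage G aX).Fiber (Over.mk (Spec.map (CommRingCat.ofHom (algebraMap k (AlgebraicClosure k)))) : Over (Spec (CommRingCat.of k)))) (t : (Over.mk (Spec.map (CommRingCat.ofHom (algebraMap k (AlgebraicClosure k)))) : Over (Spec (CommRingCat.of k))) ⟶ A.1.P) (ht : t ≫ A.1.π = eqToHom A.2.symm) :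
    (∃ (B : AlgSt.QuotObj Scheme.etalePrecoverage G aX) (hB : B.base = (Over.mk (Spec.map (CommRingCat.ofHom (algebraMap k k'))) : Over (Spec (CommRingCat.of k))))
        (h : A.1 ⟶ B), h.base = eqToHom A.2 ≫ ι ≫ eqToHom hB.symm) ↔
    (∀ (σ : AlgebraicClosure k ≃ₐ[k'] AlgebraicClosure k) (s : (Over.mk (Spec.map (CommRingCat.ofHom (algebraMap k (AlgebraicClosure k)))) : Over (Spec (CommRingCat.of k))) ⟶ (Over.mk (Spec.map (CommRingCat.ofHom (algebraMap k (AlgebraicClosure k)))) : Over (Spec (CommRingCat.of k)))),
        s.left = Spec.map (CommRingCat.ofHom σ.toRingEquiv.toRingHom) →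
        ∃ g : (Over.mk (Spec.map (CommRingCat.ofHom (algebraMap k (AlgebraicClosure k)))) : Over (Spec (CommRingCat.of k))) ⟶ G,
          CartesianMonoidalCategory.lift g (t ≫ A.1.φ) ≫ aX.act = s ≫ t ≫ A.1.φ) := by
  exact main k G X aX k' ι hι A t ht

end Groth.Agent.S14197
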