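import Groth.Statements.S14274
import Groth.Agent.Hartogs28.Hom
import Groth.Agent.TorsNorm28.Basic
import Groth.Agent.Ega43Prop.RectInv

set_option autoImplicit false
universe u
open scoped CategoryTheory.Obj
open NonAbH1

namespace Groth.Agent.S14274

set_option linter.style.haveILetI false

section
open AlgebraicGeometry CategoryTheory

/-- A regular local ring of dimension at least two has depth at least two. -/
theorem two_le_depth (A : Type u) [CommRing A] [IsRegularLocalRing A] (h : (2 : WithBot ℕ∞) ≤ ringKrullDim A) :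
    (2 : ℕ∞) ≤ LocCoh.depth A A := by
  obtain ⟨d, hd⟩ : ∃ d : ℕ, ringKrullDim A = d := by
    obtain ⟨n, hn⟩ := WithBot.ne_bot_iff_exists.mp (ringKrullDim_ne_bot (R := A))
    have hlt : ringKrullDim A < ⊤ := ringKrullDim_lt_top
    cases n with
    | top => exact absurd hlt (by rw [← hn]; exact lt_irrefl _)
    | coe m => exact ⟨m, hn.symm⟩
  rw [Ega43Prop.depth_self_of_regular A hd]
  rw [hd] at h
  exact_mod_cast h

variable {X : Scheme.{u}} (U : X.Opens) [QuasiCompact U.ι]
  (hZ : ∀ z : X, z ∉ U → IsRegularLocalRing (X.presheaf.stalk z) ∧ (2 : WithBot ℕ∞) ≤ ringKrullDim (X.presheaf.stalk z))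

include hZ in
/-- A morphism over the open extends uniquely to one from a finite flat scheme to an affine one over the base. -/
theorem existsUnique_map_eq (P Q : Over X) [Flat P.hom] [LocallyOfFiniteType P.hom] [IsAffineHom Q.hom]
    (h' : (Over.pullback U.ι).obj P ⟶ (Over.pullback U.ι).obj Q) :
    ∃! h : P ⟶ Q, (Over.pullback U.ι).map h = h' := by
  let V := P.hom ⁻¹ᵁ U
  haveI : QuasiCompact V.ι := Hartogs28.quasiCompact_preimage P.hom U
  have hO : ∀ y : P.left, y ∉ V → IsNoetherianRing (P.left.presheaf.stalk y) ∧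
      (2 : ℕ∞) ≤ LocCoh.depth (P.left.presheaf.stalk y) (P.left.presheaf.stalk y) := by
    intro y hy
    obtain ⟨hreg, hdim⟩ := hZ (P.hom y) hy
    haveI := hreg
    refine ⟨?_, (two_le_depth _ hdim).trans (MiscTwoH99.depth_stalk_le_of_flat P.hom y)⟩
    letI := (P.hom.stalkMap y).hom.toAlgebra
    haveI : Algebra.EssFiniteType (X.presheaf.stalk (P.hom y)) (P.left.presheaf.stalk y) :=
      LocallyOfFiniteType.stalkMap P.hom y
    exact Algebra.EssFiniteType.isNoetherianRing (X.presheaf.stalk (P.hom y)) _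
  let e := pullbackRestrictIsoRestrict P.hom U
  have he : e.hom ≫ V.ι = Limits.pullback.fst P.hom U.ι := pullbackRestrictIsoRestrict_hom_ι _ _
  let g : (V : Scheme.{u}) ⟶ Q.left := e.inv ≫ h'.left ≫ Limits.pullback.fst Q.hom U.ι
  have hg : g ≫ Q.hom = V.ι ≫ P.hom := by
    have hw : h'.left ≫ Limits.pullback.snd Q.hom U.ι = Limits.pullback.snd P.hom U.ι := Over.w h'
    simp only [g, Category.assoc]
    rw [Limits.pullback.condition, reassoc_of% hw, ← Limits.pullback.condition, ← he]
    simp [e]
  obtain ⟨f, ⟨hf₁, hf₂⟩, huniq⟩ := Hartogs28.existsUnique_extension_over V hO P.hom Q.hom g hg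
  refine ⟨Over.homMk f hf₁, ?_, fun k hk => Over.OverMorphism.ext (huniq _ ⟨Over.w k, ?_⟩)⟩
  · refine Over.OverMorphism.ext (Limits.pullback.hom_ext ?_ ?_)
    · refine (Limits.pullback.lift_fst _ _ _).trans ?_
      show Limits.pullback.fst P.hom U.ι ≫ f = _
      rw [← he, Category.assoc, hf₂]
      simp [g, e]
    · refine (Limits.pullback.lift_snd _ _ _).trans (Over.w h').symm
  · have h1 : ((Over.pullback U.ι).map k).left ≫ Limits.pullback.fst Q.hom U.ι =
        Limits.pullback.fst P.hom U.ι ≫ k.left := Limits.pullback.lift_fst _ _ _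
    rw [hk] at h1
    show V.ι ≫ k.left = e.inv ≫ h'.left ≫ Limits.pullback.fst Q.hom U.ι
    rw [h1, ← he]
    simp

end

set_option backward.isDefEq.respectTransparency false in
open AlgebraicGeometry CategoryTheory CategoryTheory.Limits MonoidalCategory in
/-- Let X be a scheme, G a finite locally free X-group scheme (finite, flat and locally of finite
presentation over X, not necessarily commutative), and U an open subscheme of X whose inclusion is
quasi-compact, such that for every point z of X outside U the local ring of X at z is regular of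
Krull dimension at least 2. Let Q₁ and Q₂ be fppf G-torsors over X. Then every U-morphism between
their base changes to U that is equivariant for the base-changed group is the base change of a
unique G-equivariant X-morphism Q₁ -> Q₂. (With the essential-surjectivity row this is the statement
that pullback is an equivalence from G-torsors over X to torsors over U under the base change of G.) -/
theorem result {X : Scheme.{u}} (G : Over X) [GrpObj G]
    [IsFinite G.hom] [Flat G.hom] [LocallyOfFinitePresentation G.hom]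
    (U : X.Opens) [QuasiCompact U.ι]
    (hZ : ∀ z : X, z ∉ U → IsRegularLocalRing (X.presheaf.stalk z) ∧ (2 : WithBot ℕ∞) ≤ ringKrullDim (X.presheaf.stalk z))
    (Q₁ Q₂ : Over X) (a₁ : AlgGrp.Action G Q₁) (a₂ : AlgGrp.Action G Q₂)
    (h₁ : NonAbH1.IsTorsorFor Scheme.fppfPrecoverage a₁) (h₂ : NonAbH1.IsTorsorFor Scheme.fppfPrecoverage a₂)
    (h' : (Over.pullback U.ι).obj Q₁ ⟶ (Over.pullback U.ι).obj Q₂)
    (hh' : (Functor.LaxMonoidal.μ (Over.pullback U.ι) G Q₁ ≫ (Over.pullback U.ι).map a₁.act) ≫ h' =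
      ((Over.pullback U.ι).obj G ◁ h') ≫ (Functor.LaxMonoidal.μ (Over.pullback U.ι) G Q₂ ≫ (Over.pullback U.ι).map a₂.act)) :
    ∃! h : Q₁ ⟶ Q₂, a₁.act ≫ h = (G ◁ h) ≫ a₂.act ∧ (Over.pullback U.ι).map h = h' := by
  haveI := TorsNorm28.isFinite_hom (TorsNorm28.toFpqc h₁)
  haveI := TorsNorm28.isFinite_hom (TorsNorm28.toFpqc h₂)
  haveI : Flat Q₁.hom := SchTorsor.torsor_property @Flat (TorsNorm28.toFpqc h₁) ‹_›
  haveI : Flat (G ⊗ Q₁).hom := inferInstanceAs (Flat (Limits.pullback.fst G.hom Q₁.hom ≫ G.hom))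
  haveI : LocallyOfFiniteType (G ⊗ Q₁).hom :=
    inferInstanceAs (LocallyOfFiniteType (Limits.pullback.fst G.hom Q₁.hom ≫ G.hom))
  obtain ⟨h, hh, huniq⟩ := existsUnique_map_eq U hZ Q₁ Q₂ h'
  refine ⟨h, ⟨?_, hh⟩, fun k hk => huniq k hk.2⟩
  refine (existsUnique_map_eq U hZ (G ⊗ Q₁) Q₂
    ((Over.pullback U.ι).map ((G ◁ h) ≫ a₂.act))).unique ?_ rfl
  rw [Functor.map_comp, Functor.map_comp, hh, ← cancel_epi (Functor.LaxMonoidal.μ (Over.pullback U.ι) G Q₁),
    ← Category.assoc, hh', ← Functor.LaxMonoidal.μ_natural_right_assoc, hh]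

end Groth.Agent.S14274
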