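import Groth.Statements.S15385
import Groth.Agent.StkDesc10.Pairs

set_option autoImplicit false
universe u
open StackCount

namespace Groth.Agent.S15385

open CategoryTheory CategoryTheory.Limits MonoidalCategory CartesianMonoidalCategory AlgebraicGeometry in
theorem finite_pts_of_isFinite {k : Type u} [Field k] {Ω : Type u} [Field Ω] [Algebra k Ω]
    (G : Over (Spec (CommRingCat.of k))) [IsFinite G.hom] : Finite (SGA7.pt (K := k) Ω ⟶ G) := by
  have : IsAffine G.left := isAffine_of_isAffineHom G.hom
  obtain ⟨ψ, hψ⟩ := Spec.map_surjective (G.left.isoSpec.inv ≫ G.hom)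
  let _ : Algebra k Γ(G.left, ⊤) := ψ.hom.toAlgebra
  have hfin : IsFinite (Spec.map ψ) := by rw [hψ]; infer_instance
  have : Module.Finite k Γ(G.left, ⊤) := (IsFinite.SpecMap_iff ψ).mp hfin
  have : Finite (Γ(G.left, ⊤) →ₐ[k] Ω) := inferInstance
  have hj : G.left.isoSpec.inv ≫ G.hom = Spec.map (CommRingCat.ofHom (algebraMap k Γ(G.left, ⊤))) := hψ.symm
  have h : ∀ y : SGA7.pt (K := k) Ω ⟶ G, ∃ φ : Γ(G.left, ⊤) →ₐ[k] Ω,
      y.left = Spec.map (CommRingCat.ofHom φ.toRingHom) ≫ G.left.isoSpec.inv := fun y =>
    Groth.Agent.StkDesc10.exists_algHom G.left.isoSpec.inv hj y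
      ⟨G.left.isoSpec.hom (y.left (IsLocalRing.closedPoint Ω)), by
        rw [← Scheme.Hom.comp_apply, Iso.hom_inv_id]; rfl⟩
  refine Finite.of_injective (fun y => (h y).choose) fun y y' e => Over.OverMorphism.ext ?_
  rw [(h y).choose_spec, (h y').choose_spec]
  simp only [e]


open CategoryTheory AlgebraicGeometry in
/-- Let k be a finite field and G a finite etale group scheme over k (in particular affine over k, so
that every G-torsor is a scheme). For every finite field extension k' of k, the point count of the
classifying stack B(G) over k' — the sum, over the isomorphism classes of the groupoid of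
etale-locally trivial G-torsors over Spec k', of the inverse orders of their automorphism groups —
equals 1. The finiteness of that groupoid (finitely many classes, finite automorphism groups) is
carried as a hypothesis. -/
theorem result (k : Type u) [Field k] [Finite k]
    (G : Over (Spec (CommRingCat.of k))) [GrpObj G] [IsFinite G.hom] [Etale G.hom]
    (k' : Type u) [Field k'] [Algebra k k'] [Module.Finite k k']
    (h : StkCnt.IsEssFinite (StkCnt.pts (AlgSt.BG Scheme.etalePrecoverage G) k')) :
    StkCnt.ptCount (AlgSt.BG Scheme.etalePrecoverage G) k' h = 1 := by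
  open CategoryTheory MonObj in
  let Ω := AlgebraicClosure k'
  have : Finite k' := Module.finite_of_finite k
  have := Fintype.ofFinite k'
  have : LocallyOfFiniteType (SGA7.pt (K := k) k').hom :=
    HasRingHomProperty.Spec_iff.mpr (RingHom.finiteType_algebraMap.mpr inferInstance)
  have : LocallyOfFiniteType (MonoidalCategoryStruct.tensorUnit (Over (Spec (CommRingCat.of k)))).hom :=
    inferInstanceAs (LocallyOfFiniteType (𝟙 (Spec (CommRingCat.of k))))
  have := Groth.Agent.S15385.finite_pts_of_isFinite (Ω := Ω) G
  let P := Groth.Agent.StkDesc10.TwPair k' Ω (AlgSt.trivAction G)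
  let e : P ≃ (SGA7.pt (K := k) Ω ⟶ G) :=
    { toFun := fun p => p.1.1.pt
      invFun := fun g => ⟨(Groth.Agent.StkDesc10.TwConj.mk g, CartesianMonoidalCategory.toUnit _), CartesianMonoidalCategory.toUnit_unique _ _⟩
      left_inv := fun p => Subtype.ext (Prod.ext rfl (CartesianMonoidalCategory.toUnit_unique _ _))
      right_inv := fun g => rfl }
  have : Finite P := Finite.of_equiv _ e.symm
  have := Fintype.ofFinite (MulAction.orbitRel.Quotient (SGA7.pt (K := k) Ω ⟶ G) P)
  show StkCnt.count _ h = 1
  rw [Groth.Agent.StkDesc10.count_eq_mass (Ω := Ω) h, Groth.Agent.StkDesc10.mass_finite, Nat.card_congr e,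
    div_self (Nat.cast_ne_zero.mpr Nat.card_pos.ne')]

end Groth.Agent.S15385
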