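import Groth.Statements.S14277
import Groth.Agent.StkDesc10.Pairs
import Groth.Agent.S15385
import Groth.Agent.TorsNorm28.Classes
import Groth.Agent.TorsNorm28.Basic

set_option autoImplicit false
set_option backward.isDefEq.respectTransparency false
set_option backward.isDefEq.respectTransparency.types false
set_option linter.style.haveILetI false
universe u
open CategoryTheory CategoryTheory.Limits MonoidalCategory CartesianMonoidalCategory MonObj GrpObj AlgebraicGeometry
open NonAbH1 AlgSt Groth.Agent.StkDesc10

namespace Groth.Agent.S14277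

open AlgSt Groth.Agent.StkDesc10

variable {k : Type u} [Field k] {G : Over (Spec (CommRingCat.of k))} [GrpObj G]

local notation "triv" => AlgSt.trivAction G

/-- A finite scheme over a field has finitely many geometric points. -/
theorem finite_geomPoints {Ω : Type u} [Field Ω] [Algebra k Ω] (G : Over (Spec (CommRingCat.of k))) [IsFinite G.hom] :
    Finite (SGA7.pt (K := k) Ω ⟶ G) :=
  S15385.finite_pts_of_isFinite G

/-- Torsors are locally trivial for the étale topology. -/
theorem loc_etale [IsFinite G.hom] [Etale G.hom] (P : TorsorSch G Scheme.fppfPrecoverage) :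
    NonAbH1.IsLocallyTrivialFor Scheme.etalePrecoverage P.X := by
  have h := TorsNorm28.toFpqc P.isTorsor
  haveI : Etale P.X.hom := SchTorsor.torsor_property @Etale h inferInstance
  haveI : Surjective P.X.hom := SchTorsor.surjective_hom h
  refine ⟨Presieve.singleton P.X.hom, ?_, ?_⟩
  · rw [Scheme.etalePrecoverage, Scheme.singleton_mem_precoverage_iff]
    exact ⟨fun x => P.X.hom.surjective x, inferInstance⟩
  · rintro _ _ ⟨⟩
    exact ⟨𝟙 _, Category.id_comp _⟩

variable (k) in
/-- The base change along the identity of the field is the identity. -/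
theorem map_algebraMap_self : Spec.map (CommRingCat.ofHom (algebraMap k k)) = 𝟙 (Spec (CommRingCat.of k)) := by
  rw [Algebra.algebraMap_self, CommRingCat.ofHom_id, Spec.map_id]

/-- The structure map to the point of the base. -/
noncomputable def toPt (Z : Over (Spec (CommRingCat.of k))) : Z ⟶ SGA7.pt (K := k) k :=
  Over.homMk Z.hom (by
    change Z.hom ≫ Spec.map (CommRingCat.ofHom (algebraMap k k)) = Z.hom
    rw [map_algebraMap_self]
    exact Category.comp_id _)

theorem pt_hom_ext {Z : Over (Spec (CommRingCat.of k))} (f g : Z ⟶ SGA7.pt (K := k) k) : f = g := by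
  have key : ∀ h : Z ⟶ SGA7.pt (K := k) k, h.left = Z.hom := fun h => by
    have hw : h.left ≫ Spec.map (CommRingCat.ofHom (algebraMap k k)) = Z.hom := Over.w h
    rw [map_algebraMap_self] at hw
    exact (Category.comp_id _).symm.trans hw
  exact Over.OverMorphism.ext ((key f).trans (key g).symm)

/-- A torsor over the field as an object of the classifying stack. -/
noncomputable def toObj [IsFinite G.hom] [Etale G.hom] (P : TorsorSch G Scheme.fppfPrecoverage) :
    (QuotObj.forget Scheme.etalePrecoverage G triv).Fiber (SGA7.pt (K := k) k) :=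
  ⟨{ base := SGA7.pt (K := k) k
     P := P.X
     act := P.act
     π := toPt P.X
     cart := by
       haveI : IsIso (lift P.act.act (snd G P.X)) := P.isTorsor.1
       refine ⟨⟨pt_hom_ext _ _⟩, ⟨PullbackCone.IsLimit.mk _
         (fun s => lift s.fst s.snd ≫ inv (lift P.act.act (snd G P.X))) ?_ ?_ ?_⟩⟩
       · intro s
         have h : inv (lift P.act.act (snd G P.X)) ≫ P.act.act = fst _ _ := by
           rw [IsIso.inv_comp_eq, lift_fst]
         rw [Category.assoc, h, lift_fst]
       · intro s
         have h : inv (lift P.act.act (snd G P.X)) ≫ snd G P.X = snd _ _ := by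
           rw [IsIso.inv_comp_eq, lift_snd]
         rw [Category.assoc, h, lift_snd]
       · intro s m h₁ h₂
         rw [IsIso.eq_comp_inv, comp_lift, h₁, h₂]
     loc := by
       obtain ⟨R, hR, hsec⟩ := loc_etale P
       refine ⟨R, hR, fun S' f hf => ?_⟩
       obtain ⟨s, hs⟩ := hsec f hf
       refine ⟨s, ?_⟩
       show s ≫ P.X.hom = f
       exact hs
     φ := toUnit _
     eqv := toUnit_unique _ _ }, rfl⟩

/-- An object of the classifying stack as a torsor over the field. -/
noncomputable def toTor (A : (QuotObj.forget Scheme.etalePrecoverage G triv).Fiber (SGA7.pt (K := k) k)) :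
    TorsorSch G Scheme.fppfPrecoverage where
  X := A.1.P
  act := A.1.act
  isTorsor := by
    let e : A.1.base ≅ SGA7.pt (K := k) k := eqToIso A.2
    have hw : ∀ {Z : Over (Spec (CommRingCat.of k))} (f g : Z ⟶ A.1.base), f = g := fun f g => by
      rw [← cancel_mono e.hom]
      exact pt_hom_ext _ _
    refine ⟨⟨A.1.cart.lift (fst A.1.P A.1.P) (snd A.1.P A.1.P) (hw _ _), ?_, ?_⟩, ?_⟩
    · refine A.1.cart.hom_ext ?_ ?_
      · rw [Category.assoc, A.1.cart.lift_fst, lift_fst, Category.id_comp]
      · rw [Category.assoc, A.1.cart.lift_snd, lift_snd, Category.id_comp]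
    · apply CartesianMonoidalCategory.hom_ext
      · rw [Category.assoc, lift_fst, A.1.cart.lift_fst, Category.id_comp]
      · rw [Category.assoc, lift_snd, A.1.cart.lift_snd, Category.id_comp]
    obtain ⟨R, hR, hsec⟩ := A.1.loc
    haveI : IsIso A.1.base.hom := by
      rw [← Over.w e.hom]
      haveI : IsIso e.hom.left := ((Over.forget _).mapIso e).isIso_hom
      change IsIso (e.hom.left ≫ Spec.map (CommRingCat.ofHom (algebraMap k k)))
      haveI h : IsIso (Spec.map (CommRingCat.ofHom (algebraMap k k))) := by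
        rw [map_algebraMap_self]
        exact IsIso.id _
      exact @IsIso.comp_isIso _ _ _ _ _ _ _ _ h
    obtain ⟨J, U, f, rfl⟩ := R.exists_eq_ofArrows
    replace hR := (Scheme.ofArrows_mem_precoverage_iff (P := @Etale)).1 hR
    refine ⟨Presieve.ofArrows U fun i => f i ≫ A.1.base.hom, ?_, ?_⟩
    · rw [Scheme.fppfPrecoverage, Scheme.ofArrows_mem_precoverage_iff]
      refine ⟨fun x => ?_, fun i => ?_⟩
      · obtain ⟨y, rfl⟩ := A.1.base.hom.surjective x
        obtain ⟨i, z, rfl⟩ := hR.1 y
        exact ⟨i, z, rfl⟩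
      · haveI : Etale (f i) := hR.2 i
        exact ⟨inferInstance, inferInstance⟩
    · rintro _ _ ⟨i⟩
      obtain ⟨s, hs⟩ := hsec (f i) ⟨i⟩
      refine ⟨s, ?_⟩
      rw [← Over.w A.1.π]
      exact congrArg (· ≫ A.1.base.hom) hs

/-- Isomorphisms of objects are equivariant isomorphisms of torsors. -/
noncomputable def homEquiv (A B : (QuotObj.forget Scheme.etalePrecoverage G triv).Fiber (SGA7.pt (K := k) k)) :
    (A ≅ B) ≃ EquivIso A.1.act B.1.act where
  toFun e := ⟨⟨e.hom.1.top, e.inv.1.top,
      congrArg (fun f : A ⟶ A => f.1.top) e.hom_inv_id, congrArg (fun f : B ⟶ B => f.1.top) e.inv_hom_id⟩,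
    e.hom.1.eqv⟩
  invFun f := by
    have hw : ∀ {Z : Over (Spec (CommRingCat.of k))} (f g : Z ⟶ B.1.base), f = g := fun f g => by
      rw [← cancel_mono (eqToHom B.2)]
      exact pt_hom_ext _ _
    have hw' : ∀ {Z : Over (Spec (CommRingCat.of k))} (f g : Z ⟶ A.1.base), f = g := fun f g => by
      rw [← cancel_mono (eqToHom A.2)]
      exact pt_hom_ext _ _
    refine
      { hom := ⟨⟨eqToHom (A.2.trans B.2.symm), f.iso.hom, f.comm,
            IsPullback.of_horiz_isIso ⟨hw _ _⟩, toUnit_unique _ _⟩, IsHomLift.of_fac' _ _ _ A.2 B.2 (hw _ _)⟩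
        inv := ⟨⟨eqToHom (B.2.trans A.2.symm), f.iso.inv, ?_,
            IsPullback.of_horiz_isIso ⟨hw' _ _⟩, toUnit_unique _ _⟩, IsHomLift.of_fac' _ _ _ B.2 A.2 (hw' _ _)⟩
        hom_inv_id := ?_
        inv_hom_id := ?_ }
    · rw [← cancel_mono f.iso.hom, Category.assoc, Iso.inv_hom_id, Category.comp_id, Category.assoc, f.comm,
        whiskerLeft_inv_hom_assoc]
    · apply Functor.Fiber.hom_ext
      exact QuotObj.hom_ext (hw' _ _) f.iso.hom_inv_id
    · apply Functor.Fiber.hom_ext
      exact QuotObj.hom_ext (hw _ _) f.iso.inv_hom_id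
  left_inv e := by
    refine Iso.ext (Functor.Fiber.hom_ext (QuotObj.hom_ext ?_ rfl))
    rw [← cancel_mono (eqToHom B.2)]
    exact pt_hom_ext _ _
  right_inv f := by
    rcases f with ⟨⟨⟩⟩
    rfl

end Groth.Agent.S14277

namespace Groth.Agent.S14277

/-- Let k be a finite field and G a group scheme finite and étale over Spec k. Then the set of
isomorphism classes of G-torsors over Spec k is finite, and the sum over these classes ξ of
1/#Aut(ξ) equals 1, where Aut(ξ) is the (finite) group of G-equivariant automorphisms over k of a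
torsor in the class ξ. A torsor is a k-scheme with an action of G which is a pseudo-torsor and
acquires sections on the members of some fppf covering family of Spec k; for such G these are the
nonempty finite étale pseudo-torsors, and the étale topology gives the same classes. The term of a
class whose automorphism group were infinite would count as 0 by the convention Nat.card = 0. -/
theorem result
    (k : Type u) [Field k] [Finite k]
    (G : Over (Spec (CommRingCat.of k))) [GrpObj G] [IsFinite G.hom] [Etale G.hom] :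
    Finite (NonAbH1.H1Sch G Scheme.fppfPrecoverage) ∧
      ∑ᶠ ξ : NonAbH1.H1Sch G Scheme.fppfPrecoverage,
        ((Nat.card (NonAbH1.EquivIso (Quot.out ξ).act (Quot.out ξ).act) : ℚ))⁻¹ = 1 := by
  classical
  haveI : Fintype k := Fintype.ofFinite k
  let Ω := AlgebraicClosure k
  haveI : LocallyOfFiniteType (SGA7.pt (K := k) k).hom := by
    show LocallyOfFiniteType (Spec.map _)
    rw [Algebra.algebraMap_self]
    show LocallyOfFiniteType (Spec.map (𝟙 (CommRingCat.of k)))
    infer_instance
  haveI : LocallyOfFiniteType (𝟙_ (Over (Spec (CommRingCat.of k)))).hom :=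
    inferInstanceAs (LocallyOfFiniteType (𝟙 _))
  let aX := AlgSt.trivAction G
  haveI hΓ : Finite (SGA7.pt (K := k) Ω ⟶ G) := finite_geomPoints G
  haveI : IsAffineHom G.hom := inferInstance
  let e : TwPair k Ω aX ≃ TwConj Ω G k :=
    { toFun := fun p => p.1.1
      invFun := fun g => ⟨(g, toUnit _), toUnit_unique _ _⟩
      left_inv := fun p => Subtype.ext (Prod.ext rfl (toUnit_unique _ _))
      right_inv := fun g => rfl }
  haveI : Finite (TwConj Ω G k) := hΓ
  haveI : Finite (TwPair k Ω aX) := Finite.of_equiv _ e.symm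
  let Q := MulAction.orbitRel.Quotient (SGA7.pt (K := k) Ω ⟶ G) (TwPair k Ω aX)
  haveI : Fintype Q := Fintype.ofFinite Q
  let Φ : Q → H1Sch G Scheme.fppfPrecoverage := fun q => (toTor (obj q.out)).cl
  have hΦ : Function.Bijective Φ := by
    refine ⟨fun q q' hq => ?_, fun c => ?_⟩
    · obtain ⟨f⟩ := TorsNorm28.cl_eq_iff.1 hq
      rw [← Quotient.out_eq' q, ← Quotient.out_eq' q']
      exact Quotient.eq''.mpr ((iso_obj_iff _ _).mp ⟨(homEquiv _ _).symm f⟩)
    · induction c using Quot.ind with
      | _ P =>
        obtain ⟨p, ⟨i⟩⟩ := exists_iso_obj (Ω := Ω) (toObj P)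
        refine ⟨Quotient.mk'' p, TorsNorm28.cl_eq_iff.2 ?_⟩
        obtain ⟨i'⟩ := (iso_obj_iff (Quotient.mk'' p : Q).out p).mpr (Quotient.mk_out' p)
        exact ⟨homEquiv _ (toObj P) (i'.trans i)⟩
  refine ⟨Finite.of_surjective Φ hΦ.2, ?_⟩
  have hterm : ∀ q : Q,
      Nat.card (EquivIso (Quot.out (Φ q)).act (Quot.out (Φ q)).act) =
        Nat.card (MulAction.stabilizer (SGA7.pt (K := k) Ω ⟶ G) q.out) := by
    intro q
    obtain ⟨f⟩ := TorsNorm28.cl_eq_iff.1
      (show (Quot.out (Φ q)).cl = (toTor (obj q.out)).cl from Quot.out_eq (Φ q))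
    let i : toObj (Quot.out (Φ q)) ≅ obj q.out := (homEquiv _ _).symm f
    exact (Nat.card_congr ((homEquiv (toObj (Quot.out (Φ q))) (toObj (Quot.out (Φ q)))).symm.trans
      i.conjAut.toEquiv)).trans (card_aut_obj q.out)
  haveI : Finite (H1Sch G Scheme.fppfPrecoverage) := Finite.of_surjective Φ hΦ.2
  haveI := Fintype.ofFinite (H1Sch G Scheme.fppfPrecoverage)
  rw [finsum_eq_sum_of_fintype, ← Fintype.sum_bijective Φ hΦ _ _ (fun q => rfl)]
  simp only [hterm]
  rw [mass_finite, Nat.card_congr e]
  exact div_self (Nat.cast_ne_zero.mpr (Nat.card_pos (α := SGA7.pt (K := k) Ω ⟶ G)).ne')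

end Groth.Agent.S14277
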