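import Groth.Statements.S14285
import Groth.Agent.S2393

set_option autoImplicit false
universe u
open CategoryTheory AlgebraicGeometry
open EllLift

set_option backward.isDefEq.respectTransparency false
set_option backward.isDefEq.respectTransparency.types false

namespace Groth.Agent.S14285

/-- Let R be a complete Noetherian local ring with maximal ideal m and residue field k = R/m, g : X →
Spec R a proper and flat morphism, and i : X₀ → X the fibre of g over the closed point, i.e. a
pullback of g along Spec k → Spec R, with structure map f₀ : X₀ → Spec k. If the induced ring map k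
→ Γ(X₀, O_{X₀}) is bijective, then so is R → Γ(X, O_X). -/
theorem result (R : Type u) [CommRing R]
    [IsLocalRing R] [IsNoetherianRing R] [IsAdicComplete (IsLocalRing.maximalIdeal R) R]
    (X X₀ : Scheme.{u}) (g : X ⟶ Spec (CommRingCat.of R)) [IsProper g] [Flat g]
    (i : X₀ ⟶ X) (f₀ : X₀ ⟶ Spec (CommRingCat.of (R ⧸ IsLocalRing.maximalIdeal R)))
    (hsq : IsPullback i f₀ g
      (Spec.map (CommRingCat.ofHom (Ideal.Quotient.mk (IsLocalRing.maximalIdeal R)))))
    (h0 : Function.Bijective ((Scheme.ΓSpecIso (CommRingCat.of (R ⧸ IsLocalRing.maximalIdeal R))).inv ≫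
      f₀.appTop)) :
    Function.Bijective ((Scheme.ΓSpecIso (CommRingCat.of R)).inv ≫ g.appTop) := by
  let mk := Ideal.Quotient.mk (IsLocalRing.maximalIdeal R)
  letI : Field (R ⧸ IsLocalRing.maximalIdeal R) := Ideal.Quotient.field _
  let τ := Spec.map (CommRingCat.ofHom mk)
  let y := τ (IsLocalRing.closedPoint (R ⧸ IsLocalRing.maximalIdeal R))
  let e := Scheme.descResidueField (Scheme.stalkClosedPointTo τ)
  have he : Spec.map e ≫ (Spec (CommRingCat.of R)).fromSpecResidueField y = τ :=
    Scheme.descResidueField_stalkClosedPointTo_fromSpecResidueField _ _ τ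
  have hy : y = IsLocalRing.closedPoint R := by
    refine PrimeSpectrum.ext ((IsLocalRing.maximalIdeal.isMaximal R).eq_of_le
      (PrimeSpectrum.isPrime y).ne_top ?_).symm
    intro r hr
    show mk r ∈ (IsLocalRing.closedPoint (R ⧸ IsLocalRing.maximalIdeal R)).asIdeal
    rw [Ideal.Quotient.eq_zero_iff_mem.2 hr]
    exact zero_mem _
  haveI : IsIso e := by
    obtain ⟨a, ha⟩ := Spec.map_surjective ((Spec (CommRingCat.of R)).fromSpecResidueField y)
    rw [← ha, ← Spec.map_comp] at he
    have h2 : ∀ r, e.hom (a.hom r) = mk r := fun r =>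
      RingHom.congr_fun (congrArg CommRingCat.Hom.hom (Spec.map_injective he)) r
    refine (ConcreteCategory.isIso_iff_bijective e).2 ⟨e.hom.injective, fun z => ?_⟩
    obtain ⟨r, rfl⟩ := Ideal.Quotient.mk_surjective z
    exact ⟨a.hom r, h2 r⟩
  have hsq' : IsPullback i (f₀ ≫ Spec.map e) g ((Spec (CommRingCat.of R)).fromSpecResidueField y) :=
    hsq.of_iso (Iso.refl _) (Iso.refl _) (asIso (Spec.map e)) (Iso.refl _) (by simp) (by simp) (by simp)
      (by simp [he, τ, mk])
  let φ := hsq'.isoPullback
  have hφ : φ.hom ≫ g.fiberToSpecResidueField y = f₀ ≫ Spec.map e := hsq'.isoPullback_hom_snd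
  have hb : Function.Bijective
      (algebraMap ((Spec (CommRingCat.of R)).residueField y) Γ(g.fiber y, ⊤)) := by
    show Function.Bijective ((Scheme.ΓSpecIso _).inv ≫ (g.fiberToSpecResidueField y).appTop)
    rw [← ConcreteCategory.isIso_iff_bijective] at h0 ⊢
    have h1 : (Scheme.ΓSpecIso _).inv ≫ (g.fiberToSpecResidueField y).appTop ≫ φ.hom.appTop =
        e ≫ (Scheme.ΓSpecIso (CommRingCat.of (R ⧸ IsLocalRing.maximalIdeal R))).inv ≫ f₀.appTop := by
      rw [← Scheme.Hom.comp_appTop, hφ, Scheme.Hom.comp_appTop, ← Category.assoc, ← Category.assoc,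
        Scheme.ΓSpecIso_inv_naturality]
    haveI : IsIso φ.hom.appTop := inferInstance
    haveI := h0
    haveI : IsIso (((Scheme.ΓSpecIso _).inv ≫ (g.fiberToSpecResidueField y).appTop) ≫ φ.hom.appTop) := by
      rw [Category.assoc, h1]; infer_instance
    exact IsIso.of_isIso_comp_right _ φ.hom.appTop
  obtain ⟨U, hyU, hU⟩ := S2393.result g y hb
  have htop : U = ⊤ := top_le_iff.1 fun z _ =>
    (hy ▸ (IsLocalRing.specializes_closedPoint z : z ⤳ IsLocalRing.closedPoint R) : z ⤳ y).mem_open U.2 hyU
  haveI : IsIso g.appTop := hU ⊤ htop.ge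
  exact (ConcreteCategory.isIso_iff_bijective _).1 inferInstance

end Groth.Agent.S14285
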