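import Groth.Statements.S14314
import Groth.Agent.SurfInt.FibreCurve
import Groth.Agent.RegLoc6.Normal
import Groth.Agent.SurfInt.CMInter

set_option autoImplicit false
set_option linter.style.haveILetI false
set_option linter.unusedSectionVars false
set_option backward.isDefEq.respectTransparency false
set_option backward.isDefEq.respectTransparency.types false
universe u
open CategoryTheory CategoryTheory.Limits AlgebraicGeometry TopologicalSpace
open Surf

namespace Groth.Agent.S14314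

/-- Let k be an algebraically closed field, S a smooth projective surface over k (integral, proper and
smooth over k, of dimension 2), f : S → C a surjective k-morphism onto a smooth projective curve and
F = f⁻¹(p) the fibre over a closed point p, with O_S(F) a tensor inverse of its ideal sheaf. Let
D_1, D_2 be numerically equivalent divisors (invertible modules L_1, L_2 with (L_1·Γ) = (L_2·Γ) for
every integral curve Γ ⊆ S, where (L·Γ) = χ(O_Γ ⊗ L) − χ(O_Γ)), μ_1 ≥ μ_2 rational numbers and Z_1,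
Z_2 effective Cartier divisors with common part Z, that is Z_i = Z + Y_i with Z, Y_1, Y_2 effective
Cartier divisors and Y_1, Y_2 without common component (Y_1 ∩ Y_2 finite); in terms of ideal sheaves
I_{Z_i} = I_Z · I_{Y_i}. If N_i = D_i − Z_i − μ_i F is nef for i = 1, 2, that is (D_i·Γ) +
(I_{Z_i}·Γ) − μ_i (F·Γ) ≥ 0 for every integral curve Γ, then N = D_2 − Z − μ_2 F is nef. (The
published statement is for the chapter's fibration over an algebraically closed field of positive
characteristic; this row asks only that f be surjective and allows any algebraically closed field.) -/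
theorem result (k : Type u) [Field k] [IsAlgClosed k]
    (S : Scheme.{u}) [S.Over (Spec (CommRingCat.of k))] [IsProper (S ↘ (Spec (CommRingCat.of k)))]
    [Smooth (S ↘ (Spec (CommRingCat.of k)))] [IsIntegral S] (hdim : topologicalKrullDim S = 2)
    (C : Scheme.{u}) [C.Over (Spec (CommRingCat.of k))] [IsProper (C ↘ (Spec (CommRingCat.of k)))]
    [Smooth (C ↘ (Spec (CommRingCat.of k)))] [IsIntegral C] (hdimC : topologicalKrullDim C = 1)
    (f : S ⟶ C) [f.IsOver (Spec (CommRingCat.of k))] [Surjective f]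
    (p : C) (hp : IsClosed ({p} : Set C))
    (LF : S.Modules) (hLF : ClSub.IsInverseOf LF (ClSub.idealMod (f.fiberι p).ker))
    (L₁ L₂ : S.Modules) (hL₁ : PicF.IsInvertible L₁) (hL₂ : PicF.IsInvertible L₂)
    (hnum : ∀ Γ : S.IdealSheafData, IsIntegral Γ.subscheme → topologicalKrullDim (Γ.support : Set S) = 1 →
      (Curv2.euler k S (CohB1.tensorMod (ClSub.quotMod Γ) L₁) - Curv2.euler k S (ClSub.quotMod Γ)) = (Curv2.euler k S (CohB1.tensorMod (ClSub.quotMod Γ) L₂) - Curv2.euler k S (ClSub.quotMod Γ)))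
    (μ₁ μ₂ : ℚ) (hμ : μ₂ ≤ μ₁)
    (Z Y₁ Y₂ Z₁ Z₂ : S.IdealSheafData) (hZ : FGA.IsEffCartier Z) (hY₁ : FGA.IsEffCartier Y₁) (hY₂ : FGA.IsEffCartier Y₂)
    (hZ₁ : Z₁ = Z * Y₁) (hZ₂ : Z₂ = Z * Y₂) (hY : ((Y₁ ⊔ Y₂).support : Set S).Finite)
    (hnef₁ : (∀ Γ : S.IdealSheafData, IsIntegral Γ.subscheme → topologicalKrullDim (Γ.support : Set S) = 1 →
      (0 : ℚ) ≤ ((Curv2.euler k S (CohB1.tensorMod (ClSub.quotMod Γ) L₁) - Curv2.euler k S (ClSub.quotMod Γ)) : ℚ) + ((Curv2.euler k S (CohB1.tensorMod (ClSub.quotMod Γ) (ClSub.idealMod Z₁)) - Curv2.euler k S (ClSub.quotMod Γ)) : ℚ)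
        - μ₁ * ((Curv2.euler k S (CohB1.tensorMod (ClSub.quotMod Γ) LF) - Curv2.euler k S (ClSub.quotMod Γ)) : ℚ)))
    (hnef₂ : (∀ Γ : S.IdealSheafData, IsIntegral Γ.subscheme → topologicalKrullDim (Γ.support : Set S) = 1 →
      (0 : ℚ) ≤ ((Curv2.euler k S (CohB1.tensorMod (ClSub.quotMod Γ) L₂) - Curv2.euler k S (ClSub.quotMod Γ)) : ℚ) + ((Curv2.euler k S (CohB1.tensorMod (ClSub.quotMod Γ) (ClSub.idealMod Z₂)) - Curv2.euler k S (ClSub.quotMod Γ)) : ℚ)
        - μ₂ * ((Curv2.euler k S (CohB1.tensorMod (ClSub.quotMod Γ) LF) - Curv2.euler k S (ClSub.quotMod Γ)) : ℚ))) :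
    (∀ Γ : S.IdealSheafData, IsIntegral Γ.subscheme → topologicalKrullDim (Γ.support : Set S) = 1 →
      (0 : ℚ) ≤ ((Curv2.euler k S (CohB1.tensorMod (ClSub.quotMod Γ) L₂) - Curv2.euler k S (ClSub.quotMod Γ)) : ℚ) + ((Curv2.euler k S (CohB1.tensorMod (ClSub.quotMod Γ) (ClSub.idealMod Z)) - Curv2.euler k S (ClSub.quotMod Γ)) : ℚ)
        - μ₂ * ((Curv2.euler k S (CohB1.tensorMod (ClSub.quotMod Γ) LF) - Curv2.euler k S (ClSub.quotMod Γ)) : ℚ)) := by
  open Groth.Agent in
  open Groth.Agent.SurfInt in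
  intro Γ hΓi hΓd
  haveI := noeth k (X := S)
  have hreg := isRegular_of_smooth k (X := S)
  haveI := hΓi
  have hn : IsIntegrallyClosed (C.presheaf.stalk p) :=
    haveI := isRegular_of_smooth k (X := C) p
    RegLoc6.isIntegrallyClosed_of_isRegularLocalRing _
  obtain ⟨hF, -, -⟩ := fibre_effCartier k f hdimC hp hn
  have iF := ArSurfX.isInvertible_idealMod hF
  have iLF := isInvertible_of_isInverse iF (isInverseOf_comm hLF)
  have hq := isCoh_quotMod k Γ
  have hd := dim_support_quot_curve hΓd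
  have hFneg := degOn_fibre_nonpos k f hdimC hp hn Γ hΓd
  have hLFdeg := degOn_inv k hq hd iF iLF (isInverseOf_comm hLF)
  have hadd : ∀ Y : S.IdealSheafData, BlowUp.IsEffCartierIdeal Y →
      degOn k (ClSub.quotMod Γ) (ClSub.idealMod (Z * Y)) =
        degOn k (ClSub.quotMod Γ) (ClSub.idealMod Z) + degOn k (ClSub.quotMod Γ) (ClSub.idealMod Y) := fun Y hY => by
    rw [← degOn_tensor k hq hd (ArSurfX.isInvertible_idealMod hZ) (ArSurfX.isInvertible_idealMod hY),
      degOn_congr k (ArSurfX.nonempty_idealMod_mul hZ hY).some]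
  have h1 := hnef₁ Γ hΓi hΓd
  have h2 := hnef₂ Γ hΓi hΓd
  have hn12 := hnum Γ hΓi hΓd
  rw [hZ₁] at h1
  rw [hZ₂] at h2
  have hcast : ∀ M : S.Modules, ((Curv2.euler k S (CohB1.tensorMod (ClSub.quotMod Γ) M) : ℚ) -
      (Curv2.euler k S (ClSub.quotMod Γ) : ℚ)) = (degOn k (ClSub.quotMod Γ) M : ℚ) := fun M => by
    rw [degOn, Int.cast_sub]
  simp only [hcast] at h1 h2 ⊢
  change degOn k (ClSub.quotMod Γ) L₁ = degOn k (ClSub.quotMod Γ) L₂ at hn12
  rw [hadd Y₁ hY₁, Int.cast_add] at h1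
  rw [hadd Y₂ hY₂, Int.cast_add] at h2
  by_cases hg : genC Γ ∈ (Y₂.support : Set S)
  · have hg1 : genC Γ ∉ (Y₁.support : Set S) := fun hg1 => by
      have hsub : (Γ.support : Set S) ⊆ ((Y₁ ⊔ Y₂).support : Set S) := by
        refine Scheme.IdealSheafData.support_antitone (sup_le ?_ ?_)
        · exact (le_curve_iff Γ).2 hg1
        · exact (le_curve_iff Γ).2 hg
      have hcl : IsClosed ({genC Γ} : Set S) :=
        isClosed_of_mem_finite k Γ.support.isClosed (hY.subset hsub) (genC_mem Γ)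
      haveI : Subsingleton (Γ.support : Set S) := by
        rw [← closure_genC Γ, hcl.closure_eq]
        infer_instance
      haveI : Subsingleton (IrreducibleCloseds (Γ.support : Set S)) := ⟨fun A B => IrreducibleCloseds.ext
        (Set.ext fun y => by
          obtain ⟨a, ha⟩ := A.isIrreducible.nonempty
          obtain ⟨b, hb⟩ := B.isIrreducible.nonempty
          exact ⟨fun _ => Subsingleton.elim b y ▸ hb, fun _ => Subsingleton.elim a y ▸ ha⟩)⟩
      have h0 : topologicalKrullDim (Γ.support : Set S) ≤ 0 := Order.krullDim_nonpos_of_subsingleton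
      rw [hΓd] at h0
      exact absurd h0 (by norm_num)
    have h3 : (degOn k (ClSub.quotMod Γ) (ClSub.idealMod Y₁) : ℚ) ≤ 0 := by
      exact_mod_cast degOn_curve_ideal_nonpos k Γ hΓd (ArSurfX.isInvertible_idealMod hY₁) hg1
    have h4 : (0 : ℚ) ≤ (μ₁ - μ₂) * (degOn k (ClSub.quotMod Γ) LF : ℚ) :=
      mul_nonneg (sub_nonneg.2 hμ) (by exact_mod_cast (show 0 ≤ degOn k (ClSub.quotMod Γ) LF by omega))
    have h5 : (degOn k (ClSub.quotMod Γ) L₁ : ℚ) = (degOn k (ClSub.quotMod Γ) L₂ : ℚ) := by exact_mod_cast hn12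
    linarith
  · have h3 : (degOn k (ClSub.quotMod Γ) (ClSub.idealMod Y₂) : ℚ) ≤ 0 := by
      exact_mod_cast degOn_curve_ideal_nonpos k Γ hΓd (ArSurfX.isInvertible_idealMod hY₂) hg
    linarith

end Groth.Agent.S14314
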