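import Groth.Statements.S14344
import Groth.Agent.BlowUp95.GrassBlowUp
import Groth.Agent.BlowUp95.BaseChange

set_option autoImplicit false
universe u
open CategoryTheory AlgebraicGeometry TensorProduct
open QuotLF

namespace Groth.Agent.S14344

set_option backward.isDefEq.respectTransparency false
set_option backward.isDefEq.respectTransparency.types false

open Groth.Agent.Synt29.RepOpen in

/-- Let R be a commutative ring, n ≥ 1, f = (f_1, …, f_n) a Koszul-regular sequence in R generating the
ideal I, and M = R^n / R·f the cokernel of R → R^n, 1 ↦ f (the cokernel of a Koszul-regular section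
of a trivial rank-n bundle). If b : B ⟶ Spec R is a blowing-up of Spec R in I (universal property),
then B is a Quot scheme of rank-(n−1) locally free quotients of M: on R-algebras A there are
bijections, natural in A, between R-morphisms Spec A → B and submodules of A ⊗_R M whose quotient is
finite projective of constant rank n − 1. (This is the affine case with trivial bundle, to which the
general statement reduces; the comparison of the tautological invertible modules and the local
complete intersection property of the projection are not part of this row.) -/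
theorem result {R : Type u} [CommRing R] (n : ℕ) (hn : 1 ≤ n)
    (f : Fin n → R) (hf : LCI.IsKoszulRegularSeq R (List.ofFn f))
    {B : Scheme.{u}} (b : B ⟶ Spec (CommRingCat.of R))
    (hb : BlowUp.IsBlowUp b
      (Spec.map (CommRingCat.ofHom (Ideal.Quotient.mk (Ideal.span (Set.range f))))).ker) :
    ∃ e : ∀ A : CommAlgCat.{u} R,
        (Over.mk (Spec.map (CommRingCat.ofHom (algebraMap R A))) ⟶ Over.mk b) ≃
          (Module.Grassmannian.functor (R := R) (M := (Fin n → R) ⧸ Submodule.span R {f}) (n - 1)).obj A,
      ∀ (A A' : CommAlgCat.{u} R) (φ : A ⟶ A')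
        (g : Over.mk (Spec.map (CommRingCat.ofHom (algebraMap R A))) ⟶ Over.mk b)
        (g' : Over.mk (Spec.map (CommRingCat.ofHom (algebraMap R A'))) ⟶ Over.mk b),
        g'.left = Spec.map (CommRingCat.ofHom φ.hom.toRingHom) ≫ g.left →
          e A' g' = (Module.Grassmannian.functor (R := R) (M := (Fin n → R) ⧸ Submodule.span R {f}) (n - 1)).map φ
            (e A g) := by
  obtain ⟨m, rfl⟩ : ∃ m, n = m + 1 := ⟨n - 1, (Nat.sub_add_cancel hn).symm⟩
  have h1 : CAlgX.IsH1Regular f :=
    Groth.Agent.BlowUp95.h1_ofFn f (Groth.Agent.BlowUp95.h1_of_koszul _ hf)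
  obtain ⟨Z, eZ, he⟩ := Groth.Agent.Grass60.exists_grassmannian (R := R)
    (M := Groth.Agent.BlowUp95.GrassBlowUp.Coker f) (k := m)
  have hc : (Spec.map (CommRingCat.ofHom (Ideal.Quotient.mk (Ideal.span (Set.range f))))).ker =
      Groth.Agent.BlowUp95.GrassBlowUp.ctr f := by
    refine Scheme.IdealSheafData.ext_of_isAffine ?_
    rw [FComplLib.ker_specMap_ideal _ Ideal.Quotient.mk_surjective, Ideal.mk_ker]
    exact (Groth.Agent.BlowUpLib.centre_top _).symm
  rw [hc] at hb
  obtain ⟨i, hi⟩ := Groth.Agent.BlowUpLib.exists_iso hb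
    (Groth.Agent.BlowUp95.GrassBlowUp.isBlowUp f he h1)
  let φ : Over.mk b ≅ Z := Over.isoMk i hi
  refine ⟨fun A => (Iso.homCongr (Iso.refl _) φ).trans (eZ A), fun A A' ψ g g' hg => ?_⟩
  have hg' : g' = spOver ψ ≫ g := Over.OverMorphism.ext hg
  subst hg'
  show eZ A' (𝟙 _ ≫ (spOver ψ ≫ g) ≫ φ.hom) = _
  rw [Category.id_comp, Category.assoc]
  refine (he A A' ψ (g ≫ φ.hom)).trans ?_
  show _ = (Module.Grassmannian.functor (R := R) m).map ψ (eZ A (𝟙 _ ≫ g ≫ φ.hom))
  rw [Category.id_comp]

end Groth.Agent.S14344
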