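import Groth.Statements.S14345
import Groth.Agent.FittBlow95.Basic
import Groth.Agent.FittBlow95.Coker

set_option autoImplicit false
universe u v
open TensorProduct
open QuotLF

namespace Groth.Agent.S14345

/-- Let R be a commutative ring, M a finitely generated R-module and k ≥ 0. If for an R-algebra A the
module A ⊗_R M admits a quotient that is finite projective of constant rank k (an A-valued point of
the Quot scheme of rank-k locally free quotients of M), then every Fitting ideal Fit_j(M) with j < k
extends to the zero ideal of A; that is, the structure map of the Quot scheme of rank-k locally free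
quotients factors through the closed subscheme cut out by Fit_{k-1}(M). -/
theorem result (R : Type u) [CommRing R]
    (M : Type v) [AddCommGroup M] [Module R M] [Module.Finite R M] (k : ℕ)
    (A : Type u) [CommRing A] [Algebra R A] (N : Module.Grassmannian A (A ⊗[R] M) k)
    (j : ℕ) (hj : j < k) :
    (Fitt.ideal R M j).map (algebraMap R A) = ⊥ := by
  obtain ⟨n, x, hx⟩ := Groth.Agent.FittX.exists_gen R M
  let p₀ := Fintype.linearCombination R x
  have hp₀ : Function.Surjective p₀ := by
    rw [← LinearMap.range_eq_top, Fintype.range_linearCombination, hx]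
  let e : ((Fin n → R) ⧸ LinearMap.ker p₀) ≃ₗ[R] M := LinearMap.quotKerEquivOfSurjective p₀ hp₀
  let q : A ⊗[R] ((Fin n → R) ⧸ LinearMap.ker p₀) →ₗ[A] (A ⊗[R] M) ⧸ N.toSubmodule :=
    N.toSubmodule.mkQ ∘ₗ e.toLinearMap.baseChange A
  have hq : Function.Surjective q :=
    (Submodule.mkQ_surjective _).comp (LinearMap.baseChange_surjective A e.surjective)
  let e' := q.quotKerEquivOfSurjective hq
  haveI : Module.Projective A ((A ⊗[R] ((Fin n → R) ⧸ LinearMap.ker p₀)) ⧸ LinearMap.ker q) :=
    Module.Projective.of_equiv e'.symm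
  rw [← Groth.Agent.FittX.ideal_congr e j, ← Groth.Agent.FittX.ideal_baseChange
    (TensorProduct.isBaseChange R ((Fin n → R) ⧸ LinearMap.ker p₀) A) j, eq_bot_iff]
  refine (Groth.Agent.FittX.ideal_le_of_surjective (LinearMap.ker q).mkQ (Submodule.mkQ_surjective _) j).trans ?_
  intro y hy
  have hfree : ∀ p : Ideal A, p.IsPrime → (1 : A) ∉ p → ∃ S : Submonoid A, Disjoint (S : Set A) p ∧
      Nonempty (Module.Basis (Fin k) (Localization S)
        (LocalizedModule S ((A ⊗[R] ((Fin n → R) ⧸ LinearMap.ker p₀)) ⧸ LinearMap.ker q))) := by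
    intro p hp _
    let S := p.primeCompl
    haveI : Module.Finite (Localization.AtPrime p) (LocalizedModule S ((A ⊗[R] ((Fin n → R) ⧸ LinearMap.ker p₀)) ⧸ LinearMap.ker q)) :=
      Module.Finite.of_isLocalizedModule S (LocalizedModule.mkLinearMap S _)
    haveI : Module.Free (Localization.AtPrime p) (LocalizedModule S ((A ⊗[R] ((Fin n → R) ⧸ LinearMap.ker p₀)) ⧸ LinearMap.ker q)) :=
      Module.free_of_flat_of_isLocalRing
    have hr : Module.finrank (Localization.AtPrime p) (LocalizedModule S ((A ⊗[R] ((Fin n → R) ⧸ LinearMap.ker p₀)) ⧸ LinearMap.ker q)) = k :=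
      (congrFun (Module.rankAtStalk_eq_of_equiv e') ⟨p, hp⟩).trans (N.rankAtStalk_eq ⟨p, hp⟩)
    exact ⟨S, disjoint_compl_left, ⟨(Module.finBasis _ _).reindex (finCongr hr)⟩⟩
  obtain ⟨N', hN'⟩ := Groth.Agent.FittBlow95.pow_mul_eq_zero_of_free hj hfree hy
  rw [one_pow, one_mul] at hN'
  rw [hN']
  exact Ideal.zero_mem _

end Groth.Agent.S14345
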