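import Groth.Statements.S14373
import Groth.Agent.Incid42.Tangent

set_option autoImplicit false
universe u
open Fano

namespace Groth.Agent.S14373

open MvPolynomial Incid42

variable {k : Type u} [Field k] {n d : ℕ}

theorem powMulForm_mem {U : Submodule k (Fin (n + 1) → k)} {W : Submodule k (LefPen.Form n k (d + 1))}
    (hW : ∀ G : LefPen.Form n k (d + 1), G ∈ W ↔ ∀ u ∈ U, MvPolynomial.eval u G.1 = 0)
    {l ν : Fin (n + 1) → k} (h : ∀ u ∈ U, (∑ i, l i * u i) ^ d * ∑ i, ν i * u i = 0) :
    powMulForm l d ν ∈ W :=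
  (hW _).2 fun u hu => by rw [eval_powMulForm]; exact h u hu

theorem tangent_surjective {U : Submodule k (Fin (n + 1) → k)} (hd : 1 ≤ d)
    {W : Submodule k (LefPen.Form n k (d + 1))}
    (hW : ∀ G : LefPen.Form n k (d + 1), G ∈ W ↔ ∀ u ∈ U, MvPolynomial.eval u G.1 = 0)
    {v : Fin (n + 1) → k} (hv : v ∉ U) {c : Fin (n + 1)} (hc : v c = 1) :
    Function.Surjective (tangentEqns W v c) := by
  classical
  intro t
  obtain ⟨l, hlv, hlU⟩ := exists_linear_sep U hv
  let a := t none
  let ν₀ : Fin (n + 1) → k := fun j =>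
    if h : j = c then 0 else t (some ⟨j, h⟩) - d * l j * a
  let ν : Fin (n + 1) → k := Function.update ν₀ c (a - ∑ j, ν₀ j * v j)
  have hν : ∑ j, ν j * v j = a := by
    have h0 : ν₀ c = 0 := by simp [ν₀]
    have h1 : ν = ν₀ + Pi.single c (a - ∑ j, ν₀ j * v j) := funext fun j => by
      by_cases hj : j = c
      · subst hj; simp [ν, h0]
      · simp [ν, hj]
    rw [h1]
    simp [Pi.add_apply, add_mul, Finset.sum_add_distrib, Pi.single_apply, hc]
  refine ⟨⟨powMulForm l d ν, powMulForm_mem hW fun u hu => by
    rw [hlU u hu, zero_pow (by omega), zero_mul]⟩, funext fun o => ?_⟩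
  cases o with
  | none =>
    show evalForm v (powMulForm l d ν) = t none
    rw [evalForm_apply, eval_powMulForm, hlv, one_pow, one_mul, hν]
  | some j =>
    show pderivForm v j.1 (powMulForm l d ν) = t (some j)
    rw [pderivForm_apply, eval_pderiv_powMulForm, hlv, hν, one_pow, one_pow, one_mul, mul_one]
    simp only [ν, ν₀, Function.update_of_ne j.2, dif_neg j.2]
    ring


/-- Over an algebraically closed field k of arbitrary characteristic, let d ≥ 2 and let U be a linear
subspace of k^(n+1) with 2 · dim U ≤ n + 1 (an r-plane P(U) in P^n with r ≤ (n − 1)/2). Let W be the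
linear space of degree-d forms in n + 1 variables vanishing on U (hypersurfaces of degree d
containing P(U)). Then a general member G of W defines a smooth hypersurface: for G outside the zero
set of some nonzero polynomial function on W, at every nonzero vector where G vanishes some partial
derivative of G is nonzero. -/
theorem result (k : Type u) [Field k] [IsAlgClosed k]
    (n d : ℕ) (hd : 2 ≤ d) (U : Submodule k (Fin (n + 1) → k)) (hU : 2 * Module.finrank k ↥U ≤ n + 1)
    (W : Submodule k (LefPen.Form n k d)) (hW : ∀ G : LefPen.Form n k d, G ∈ W ↔ ∀ u ∈ U, MvPolynomial.eval u G.1 = 0) :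
    LefPen.IsGeneric k {G : ↥W | ∀ v : Fin (n + 1) → k, v ≠ 0 → MvPolynomial.eval v G.1.1 = 0 →
      ∃ i : Fin (n + 1), MvPolynomial.eval v (MvPolynomial.pderiv i G.1.1) ≠ 0} := by
  classical
  obtain ⟨d, rfl⟩ : ∃ e, d = e + 1 := ⟨d - 1, by omega⟩
  -- points outside `U`
  have hout : ∀ c : Fin (0 + 1) → Fin (n + 1), LefPen.IsGeneric k {G : ↥W |
      ∀ w : Chart k c, Function.Surjective (tangentEqns W (chartFrame c w 0) (c 0)) →
        tangentEqns W (chartFrame c w 0) (c 0) G ≠ 0} := fun c => by
    refine isGeneric_forall_ne_zero (V := ↥W) (A := fun w => tangentEqns W (chartFrame c w 0) (c 0))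
      (fun G o => ?_) ?_
    · cases o with
      | none => exact isPolyFun_eval G.1.1 _ (isPolyFun_chartFrame c 0)
      | some j => exact isPolyFun_eval (pderiv j.1 G.1.1) _ (isPolyFun_chartFrame c 0)
    · rw [finrank_chart (fun a b _ => Subsingleton.elim (α := Fin 1) a b)]
      simp
  -- points of `U`
  obtain ⟨q, hq⟩ := exists_isCompl U
  let bq := Module.finBasis k ↥q
  have hdim : Module.finrank k ↥U + Module.finrank k ↥q = n + 1 := by
    rw [Submodule.finrank_add_eq_of_isCompl hq]; simp
  have hin : LefPen.IsGeneric k {G : ↥W | ∀ u ∈ U, u ≠ 0 →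
      ∃ i : Fin (n + 1), eval u (pderiv i G.1.1) ≠ 0} := by
    rcases Nat.eq_zero_or_pos (Module.finrank k ↥U) with h0 | hpos
    · refine isGeneric_mono isGeneric_univ fun G _ u hu hu0 => absurd ?_ hu0
      rw [Submodule.finrank_eq_zero] at h0
      simpa [h0] using hu
    obtain ⟨r, hr⟩ : ∃ r, Module.finrank k ↥U = r + 1 := ⟨_, (Nat.succ_pred_eq_of_pos hpos).symm⟩
    let bU := Module.finBasisOfFinrankEq k ↥U hr
    let P : (c : Fin (0 + 1) → Fin (r + 1)) → Chart k c → Fin (n + 1) → k :=
      fun c w a => ∑ i, chartFrame c w 0 i * (bU i).1 a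
    let A : (c : Fin (0 + 1) → Fin (r + 1)) → Chart k c → ↥W →ₗ[k] (Fin (Module.finrank k ↥q) → k) :=
      fun c w => (LinearMap.pi fun j => ∑ a, (bq j).1 a • pderivForm (P c w) a) ∘ₗ W.subtype
    refine isGeneric_mono (isGeneric_iInter (S := fun c : Fin (0 + 1) → Fin (r + 1) =>
        {G : ↥W | ∀ w, Function.Surjective (A c w) → A c w G ≠ 0}) fun c => ?_) fun G hG u hu hu0 => ?_
    · refine isGeneric_forall_ne_zero (fun G j => ?_) ?_
      · simp only [A, P, LinearMap.comp_apply, LinearMap.pi_apply, LinearMap.sum_apply,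
          LinearMap.smul_apply, Submodule.subtype_apply, pderivForm_apply, smul_eq_mul]
        exact isPolyFun_sum _ _ fun a _ => isPolyFun_mul (isPolyFun_const _)
          (isPolyFun_eval (pderiv a G.1.1) _ fun b => isPolyFun_sum _ _ fun i _ =>
            isPolyFun_mul (isPolyFun_chartFrame c 0 i) (isPolyFun_const _))
      · rw [finrank_chart (fun a b _ => Subsingleton.elim (α := Fin 1) a b), Fintype.card_fin]
        omega
    · let uU : ↥U := ⟨u, hu⟩
      have hy : bU.equivFun uU ≠ 0 := by
        simp only [ne_eq, map_eq_zero_iff _ bU.equivFun.injective]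
        exact fun h => hu0 (congrArg Subtype.val h)
      obtain ⟨c, w, hc, hw⟩ := exists_chart (m := 0)
        (Submodule.span k {bU.equivFun uU}) (finrank_span_singleton hy)
      obtain ⟨s, hs⟩ : ∃ s : k, s • bU.equivFun uU = chartFrame c w 0 :=
        Submodule.mem_span_singleton.1 (hw ▸ Submodule.subset_span ⟨0, rfl⟩)
      have hPu : P c w = s • u := funext fun a => by
        have := congrArg (fun x : ↥U => x.1 a) (bU.sum_equivFun uU)
        simp only [Submodule.coe_sum, Finset.sum_apply, Submodule.coe_smul, Pi.smul_apply, smul_eq_mul] at this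
        simp only [P, ← hs, Pi.smul_apply, smul_eq_mul, mul_assoc, ← Finset.mul_sum]
        rw [this]
      have hs0 : s ≠ 0 := fun h => (linearIndependent_chartFrame hc w).ne_zero 0 (by rw [← hs, h, zero_smul])
      have hsurj : Function.Surjective (A c w) := fun t => by
        let μ₀ : Fin (n + 1) → k := P c w
        have hμU : μ₀ ∈ U := by rw [show μ₀ = s • u from hPu]; exact U.smul_mem s hu
        have hμ0 : μ₀ ∉ (⊥ : Submodule k (Fin (n + 1) → k)) := by
          rw [Submodule.mem_bot, show μ₀ = s • u from hPu]; exact smul_ne_zero hs0 hu0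
        obtain ⟨l, hl, -⟩ := exists_linear_sep ⊥ hμ0
        let φ : (Fin (n + 1) → k) →ₗ[k] k :=
          (bq.constr k t) ∘ₗ Submodule.projectionOnto q U hq.symm
        let ν : Fin (n + 1) → k := fun a => φ (Pi.single a 1)
        have hν : ∀ x, ∑ a, ν a * x a = φ x := fun x => by
          conv_rhs => rw [pi_eq_sum_univ' x, map_sum]
          exact Finset.sum_congr rfl fun a _ => by rw [map_smul, smul_eq_mul, mul_comm]
        have hνU : ∀ x ∈ U, ∑ a, ν a * x a = 0 := fun x hx => by
          rw [hν]
          simp only [φ, LinearMap.comp_apply]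
          rw [Submodule.projectionOnto_apply_of_mem_right hq.symm hx, map_zero]
        refine ⟨⟨powMulForm l d ν, powMulForm_mem hW fun x hx => by rw [hνU x hx, mul_zero]⟩,
          funext fun j => ?_⟩
        simp only [A, LinearMap.comp_apply, LinearMap.pi_apply, LinearMap.sum_apply,
          LinearMap.smul_apply, Submodule.subtype_apply, pderivForm_apply, smul_eq_mul,
          eval_pderiv_powMulForm, show P c w = μ₀ from rfl, hl, hνU μ₀ hμU, one_pow, one_mul,
          mul_zero, add_zero]
        rw [Finset.sum_congr rfl (fun a _ => mul_comm _ (ν a)), hν]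
        simp [φ, Submodule.projectionOnto_apply_left hq.symm (bq j)]
      by_contra! hall
      refine Set.mem_iInter.1 hG c w hsurj (funext fun j => ?_)
      simp only [A, LinearMap.comp_apply, LinearMap.pi_apply, LinearMap.sum_apply,
        LinearMap.smul_apply, Submodule.subtype_apply, pderivForm_apply, smul_eq_mul, hPu]
      refine Finset.sum_eq_zero fun a _ => ?_
      rw [eval_smul_of_isHomogeneous (isHomogeneous_pderiv G.1 a), hall a, mul_zero, mul_zero]
  refine isGeneric_mono (isGeneric_inter (isGeneric_iInter hout) hin) fun G hG v hv0 hv => ?_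
  by_cases hvU : v ∈ U
  · exact hG.2 v hvU hv0
  by_contra! hall
  obtain ⟨c, w, hc, hw⟩ := exists_chart (m := 0) (Submodule.span k {v}) (finrank_span_singleton hv0)
  obtain ⟨s, hs⟩ : ∃ s : k, s • v = chartFrame c w 0 :=
    Submodule.mem_span_singleton.1 (hw ▸ Submodule.subset_span ⟨0, rfl⟩)
  have hs0 : s ≠ 0 := fun h => (linearIndependent_chartFrame hc w).ne_zero 0 (by rw [← hs, h, zero_smul])
  have hnot : chartFrame c w 0 ∉ U := by
    rw [← hs, Submodule.smul_mem_iff _ hs0]; exact hvU
  refine Set.mem_iInter.1 hG.1 c w (tangent_surjective (by omega) hW hnot (by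
    rw [chartFrame_apply_self hc]; simp)) (funext fun o => ?_)
  cases o with
  | none =>
    show evalForm (chartFrame c w 0) G.1 = 0
    rw [evalForm_apply, ← hs, eval_smul_of_isHomogeneous ((mem_homogeneousSubmodule _ _).1 G.1.2), hv, mul_zero]
  | some j =>
    show pderivForm (chartFrame c w 0) j.1 G.1 = 0
    rw [pderivForm_apply, ← hs, eval_smul_of_isHomogeneous (isHomogeneous_pderiv G.1 j.1), hall, mul_zero]

end Groth.Agent.S14373
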