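import Groth.Statements.S14376
import Groth.Agent.Incid42.Divisor

set_option autoImplicit false
universe u
open Fano

namespace Groth.Agent.S14376

/-- Over an algebraically closed field k, let n ≥ 1 and d ≥ 1. In the vector space of degree-d forms in
n + 1 variables, the forms F that are squarefree (equivalently, nonzero with (F) a radical ideal:
the reduced hypersurfaces of degree d in P^n) form a Zariski-open subset, and this subset is
nonempty. (The published statement allows projective space of every dimension n; for n = 0 and d ≥ 2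
there is no squarefree form of degree d, so this row assumes n ≥ 1.) -/
theorem result (k : Type u) [Field k] [IsAlgClosed k]
    (n d : ℕ) (hn : 1 ≤ n) (hd : 1 ≤ d) :
    LefPen.IsZOpen k {F : LefPen.Form n k d | Squarefree F.1} ∧
      ({F : LefPen.Form n k d | Squarefree F.1}).Nonempty := by
  classical
  open Groth.Agent.Incid42 MvPolynomial in
  refine ⟨fun F hF => ?_, ?_⟩
  · obtain ⟨hF0, hF⟩ := (squarefree_iff d hd F).1 hF
    -- a polynomial function non-zero at `F` witnessing `≠ 0`
    obtain ⟨a, ha⟩ : ∃ a, formEquiv k n d F a ≠ 0 := by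
      by_contra! h
      exact hF0 ((formEquiv k n d).injective ((_root_.funext h).trans (map_zero _).symm))
    let E := (Finset.Icc 1 d).filter fun e => 2 * e ≤ d
    have hE : ∀ e : E, ∃ f : LefPen.Form n k d → k, LefPen.IsPolyFun k f ∧ f F ≠ 0 ∧
        ∀ w, f w ≠ 0 → ¬ HasSquareFactor d e.1 w := fun e =>
      isZOpen_not_hasSquareFactor d e.1 (Finset.mem_filter.1 e.2).2 F
        (hF e.1 (Finset.mem_filter.1 e.2).1 (Finset.mem_filter.1 e.2).2)
    choose f hfp hfF hfw using hE
    refine ⟨fun w => formEquiv k n d w a * ∏ e, f e w,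
      isPolyFun_mul (isPolyFun_linear ((LinearMap.proj a).comp (formEquiv k n d).toLinearMap))
        (isPolyFun_prod _ _ fun e _ => hfp e), mul_ne_zero ha (Finset.prod_ne_zero_iff.2 fun e _ => hfF e),
      fun w hw => (squarefree_iff d hd w).2 ⟨fun h0 => left_ne_zero_of_mul hw (by rw [h0, map_zero]; rfl),
        fun e he he2 => hfw ⟨e, Finset.mem_filter.2 ⟨he, he2⟩⟩ w
          (Finset.prod_ne_zero_iff.1 (right_ne_zero_of_mul hw) _ (Finset.mem_univ _))⟩⟩
  · -- a product of distinct linear forms
    let c : Fin d → k := fun i => (Infinite.natEmbedding k) i.1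
    have hc : Function.Injective c := (Infinite.natEmbedding k).injective.comp Fin.val_injective
    let i₀ : Fin (n + 1) := ⟨0, by omega⟩
    let i₁ : Fin (n + 1) := ⟨1, by omega⟩
    have h01 : i₀ ≠ i₁ := by simp [i₀, i₁, Fin.ext_iff]
    let L : Fin d → MvPolynomial (Fin (n + 1)) k := fun i => X i₀ - C (c i) * X i₁
    have hLhom : ∀ i, (L i).IsHomogeneous 1 := fun i => (isHomogeneous_X k _).sub ((isHomogeneous_X k _).C_mul _)
    have hLeval : ∀ i (v : Fin (n + 1) → k), eval v (L i) = v i₀ - c i * v i₁ := fun i v => by simp [L]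
    have hLirr : ∀ i, Irreducible (L i) := fun i => by
      have hL0 : L i ≠ 0 := fun h => by
        have := congrArg (eval (Pi.single i₀ (1 : k) : Fin (n + 1) → k)) h
        simp [hLeval, h01.symm] at this
      refine irreducible_of_totalDegree_eq_one ((hLhom i).totalDegree hL0) fun x hx => ?_
      have hcoef : coeff (Finsupp.single i₀ 1) (L i) = 1 := by
        simp [L, coeff_X, Finsupp.single_eq_single_iff, h01.symm]
      exact isUnit_of_dvd_one (hcoef ▸ hx (Finsupp.single i₀ 1))
    refine ⟨⟨∏ i, L i, (mem_homogeneousSubmodule _ _).2 ?_⟩, ?_⟩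
    · simpa using IsHomogeneous.prod Finset.univ L (fun _ => 1) fun i _ => hLhom i
    · show Squarefree (∏ i, L i)
      refine Finset.squarefree_prod_of_pairwise_isCoprime ?_ fun i _ => (hLirr i).squarefree
      intro i _ j _ hij
      refine (hLirr i).isRelPrime_iff_not_dvd.2 fun ⟨q, hq⟩ => ?_
      have := congrArg (eval (Pi.single i₁ (1 : k) + c i • Pi.single i₀ 1 : Fin (n + 1) → k)) hq
      simp [hLeval, h01, h01.symm, sub_eq_zero, hc.eq_iff, hij] at this

end Groth.Agent.S14376
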