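import Groth.Statements.S1439
import Groth.Agent.FlatB12.WeightStratum

set_option autoImplicit false
universe u
open FlatMor

namespace Groth.Agent.S1439

open AlgebraicGeometry CategoryTheory Limits in
/-- Let f : X → Y be surjective and quasi-finite with X affine and Y separated and nonempty, and let w
be a positive weighting of f. If the fibre integral of w along f takes exactly k distinct values,
then Y has an affine stratification with index set {0, …, k − 1} (its affine stratification number
is at most k − 1). -/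
theorem result {X Y : Scheme.{u}} (f : X ⟶ Y) [Surjective f] [LocallyQuasiFinite f] [LocallyOfFiniteType f] [QuasiCompact f]
    [IsAffine X] [Y.IsSeparated] [Nonempty ↑Y] (w : ↑X → ℤ) (hw : MoreMor.IsWeighting f w) (hpos : ∀ x, 0 < w x)
    (k : ℕ) (hk : (Set.range (MoreMor.fibreIntegral f w)).ncard = k) (hkfin : (Set.range (MoreMor.fibreIntegral f w)).Finite) :
    MoreMor.HasAffineStratification Y (k - 1) := by
  classical
  haveI : IsSeparated f :=
    haveI : IsSeparated (f ≫ Limits.terminal.from Y) := inferInstance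
    IsSeparated.of_comp f (Limits.terminal.from Y)
  have hlsc := Groth.Agent.MorLib.WT.lowerSemicontinuous_fibreIntegral (fun y => f.finite_preimage_singleton y) hw hpos
  have hcard : hkfin.toFinset.card = k := by rw [← hk, Set.ncard_eq_toFinset_card _ hkfin]
  have hk0 : k - 1 + 1 = k := by
    refine Nat.succ_pred_eq_of_pos (hcard ▸ Finset.card_pos.2 ⟨MoreMor.fibreIntegral f w (Classical.arbitrary Y), ?_⟩)
    exact hkfin.mem_toFinset.2 ⟨_, rfl⟩
  let v : Fin (k - 1 + 1) ↪o ℤ := hkfin.toFinset.orderEmbOfFin (hcard.trans hk0.symm)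
  have hv : ∀ y, ∃ i, v i = MoreMor.fibreIntegral f w y := fun y => by
    have : MoreMor.fibreIntegral f w y ∈ Set.range v := by
      rw [Finset.range_orderEmbOfFin]
      exact hkfin.mem_toFinset.2 ⟨y, rfl⟩
    exact this
  choose s hs using hv
  refine ⟨s, fun i => ?_, fun i => ?_⟩
  · rw [show {y | s y ≤ i} = MoreMor.fibreIntegral f w ⁻¹' Set.Iic (v i) from Set.ext fun y => by
      rw [Set.mem_preimage, Set.mem_Iic, ← hs, v.le_iff_le]; rfl]
    exact hlsc.isClosed_preimage (v i)
  · obtain ⟨y, hy⟩ : v i ∈ Set.range (MoreMor.fibreIntegral f w) :=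
      hkfin.mem_toFinset.1 (Finset.orderEmbOfFin_mem _ _ i)
    obtain ⟨Z, ι, h1, h2, h3, h4⟩ := Groth.Agent.FlatB12.exists_affine_stratum f hw hpos (v i) ⟨y, hy⟩
    refine ⟨Z, ι, h1, h2, h3, h4.trans (Set.ext fun y => ?_)⟩
    rw [Set.mem_setOf_eq, Set.mem_setOf_eq, ← hs, v.injective.eq_iff]

end Groth.Agent.S1439
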