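import Groth.Statements.S14404
import Groth.Agent.FlatFun4.FlatDimField
-- import your own Groth.Agent.* helpers here

set_option autoImplicit false
set_option linter.style.haveILetI false
set_option backward.isDefEq.respectTransparency false
set_option backward.isDefEq.respectTransparency.types false
universe u
open CategoryTheory AlgebraicGeometry
open FlatMor

namespace Groth.Agent.S14404

/-- Let k be a field, X and Y irreducible schemes of finite type over k and f : X ⟶ Y a flat k-morphism.
Then dim Y ≤ dim X, and for every point y of Y every irreducible component Z of the scheme-theoretic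
fibre of f over y has dim Z + dim Y = dim X; that is, every non-empty fibre has all its irreducible
components of dimension dim X − dim Y. -/
theorem result (k : Type u) [Field k]
    {X Y : Scheme.{u}} (qX : X ⟶ Spec (CommRingCat.of k)) (qY : Y ⟶ Spec (CommRingCat.of k))
    [LocallyOfFiniteType qX] [QuasiCompact qX] [LocallyOfFiniteType qY] [QuasiCompact qY]
    [IrreducibleSpace X] [IrreducibleSpace Y] (f : X ⟶ Y) (hf : f ≫ qY = qX) [Flat f] :
    topologicalKrullDim Y ≤ topologicalKrullDim X ∧
      ∀ (y : Y), ∀ Z ∈ irreducibleComponents (f.fiber y : Type u),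
        topologicalKrullDim Z + topologicalKrullDim Y = topologicalKrullDim X := by
  haveI : LocallyOfFiniteType f := by
    haveI : LocallyOfFiniteType (f ≫ qY) := hf.symm ▸ ‹LocallyOfFiniteType qX›
    exact locallyOfFiniteType_of_comp f qY
  have hd : ∀ ξ : Y, (∀ z, z ⤳ ξ → z = ξ) → FibDim.rd qY ξ = FibDim.rd qY (genericPoint Y) :=
    fun ξ hξ => by rw [FlatFun4.FlatDimField.maximal_eq_genericPoint hξ]
  have hηm : ∀ z : X, z ⤳ genericPoint X → z = genericPoint X := fun z hz =>
    hz.antisymm ((genericPoint_spec X).specializes (Set.mem_univ z)) |>.eq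
  have hmn : FibDim.rd qX (genericPoint X) = FibDim.rd qY (genericPoint Y) + FibDim.rd f (genericPoint X) := by
    subst hf
    rw [FibDim.rd_comp, hd _ (FlatFun4.FlatDimField.maximal_image f hηm)]
  rw [FlatFun4.FlatDimField.dim_eq_rd_genericPoint qY, FlatFun4.FlatDimField.dim_eq_rd_genericPoint qX, hmn]
  refine ⟨?_, fun y Z hZ => ?_⟩
  · exact_mod_cast Nat.le_add_right _ _
  · have hfib := (FlatFun4.FlatDimField.components_iff_fibres f hf _ (FibDim.rd f (genericPoint X)) hd).1
      ((FlatFun4.FlatDimField.components_iff qX _).2 fun η hη => by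
        rw [FlatFun4.FlatDimField.maximal_eq_genericPoint hη, hmn]) y Z hZ
    rw [hfib, Nat.cast_add, WithBot.coe_add, add_comm]
    rfl

end Groth.Agent.S14404
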