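import Groth.Statements.S14417
import Groth.Agent.VarNef31.GenSmooth
-- import your own Groth.Agent.* helpers here

set_option autoImplicit false
universe u
open CategoryTheory AlgebraicGeometry
open Variety

namespace Groth.Agent.S14417

theorem stalk_generic_facts (Y : Scheme.{u}) [IsIntegral Y] [CharZero Y.functionField] (y : Y)
    (hy : y = genericPoint Y) : IsField (Y.presheaf.stalk y) ∧ CharZero (Y.presheaf.stalk y) := by
  subst hy
  exact ⟨Field.toIsField Y.functionField, ‹CharZero Y.functionField›⟩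

theorem isFractionRing_stalk (Y : Scheme.{u}) [IsIntegral Y] (y : Y) (hy : y = genericPoint Y)
    {U : Y.Opens} (hU : IsAffineOpen U) (hyU : y ∈ U) :
    letI := (Y.presheaf.germ U y hyU).hom.toAlgebra
    IsFractionRing Γ(Y, U) (Y.presheaf.stalk y) := by
  subst hy
  haveI : Nonempty U := ⟨⟨_, hyU⟩⟩
  exact functionField_isFractionRing_of_isAffineOpen Y U hU

/-- Generic smoothness on the source: let π : X → Y be a dominant morphism of finite type between
integral Noetherian schemes, sending the generic point of X to that of Y, such that the function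
field K(Y) (equivalently K(X)) has characteristic zero, and let n be the transcendence degree of
K(X) over K(Y). Then there is a nonempty (equivalently dense) open subscheme U of X on which π
restricts to a smooth morphism U → Y of relative dimension n. -/
theorem result
    (X Y : Scheme.{u}) [IsIntegral X] [IsIntegral Y] [IsNoetherian X] [IsNoetherian Y]
    (π : X ⟶ Y) [LocallyOfFiniteType π] [QuasiCompact π]
    (hdom : π.base (genericPoint X) = genericPoint Y) [CharZero Y.functionField]
    (n : ℕ) (hn : @Algebra.trdeg (Y.presheaf.stalk (π.base (genericPoint X))) X.functionField _ _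
      (π.stalkMap (genericPoint X)).hom.toAlgebra = n) :
    ∃ U : X.Opens, (U : Set X).Nonempty ∧ SmoothOfRelativeDimension n (U.ι ≫ π) := by
  classical
  let η := genericPoint X
  let y := π.base η
  obtain ⟨hK, hK0⟩ := stalk_generic_facts Y y hdom
  letI : Field (Y.presheaf.stalk y) := hK.toField
  haveI := hK0
  letI : Algebra (Y.presheaf.stalk y) X.functionField := (π.stalkMap η).hom.toAlgebra
  obtain ⟨U, hU, hyU, -⟩ := exists_isAffineOpen_mem_and_subset (x := y) (U := (⊤ : Y.Opens)) trivial
  obtain ⟨V, hV, hηV, hVU'⟩ := exists_isAffineOpen_mem_and_subset (x := η) (U := π ⁻¹ᵁ U) hyU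
  have hVU : V ≤ π ⁻¹ᵁ U := hVU'
  haveI : Nonempty V := ⟨⟨η, hηV⟩⟩
  letI : Algebra Γ(Y, U) (Y.presheaf.stalk y) := (Y.presheaf.germ U y hyU).hom.toAlgebra
  haveI : IsFractionRing Γ(Y, U) (Y.presheaf.stalk y) := isFractionRing_stalk Y y hdom hU hyU
  letI : Algebra Γ(Y, U) Γ(X, V) := (π.appLE U V hVU).hom.toAlgebra
  haveI : IsNoetherianRing Γ(Y, U) := IsLocallyNoetherian.component_noetherian ⟨U, hU⟩
  haveI : Algebra.FiniteType Γ(Y, U) Γ(X, V) := LocallyOfFiniteType.finiteType_appLE π hU hV hVU
  haveI : Algebra.FinitePresentation Γ(Y, U) Γ(X, V) :=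
    Algebra.FinitePresentation.of_finiteType.1 inferInstance
  haveI : IsFractionRing Γ(X, V) X.functionField := functionField_isFractionRing_of_isAffineOpen X V hV
  letI : Algebra Γ(Y, U) X.functionField :=
    ((π.appLE U V hVU) ≫ X.presheaf.germ V η hηV).hom.toAlgebra
  haveI : IsScalarTower Γ(Y, U) Γ(X, V) X.functionField := IsScalarTower.of_algebraMap_eq fun _ => rfl
  haveI : IsScalarTower Γ(Y, U) (Y.presheaf.stalk y) X.functionField :=
    IsScalarTower.of_algebraMap_eq fun r => by
      show ((π.appLE U V hVU) ≫ X.presheaf.germ V η hηV) r = (Y.presheaf.germ U y hyU ≫ π.stalkMap η) r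
      rw [Scheme.Hom.germ_stalkMap, Scheme.Hom.appLE, Category.assoc, X.presheaf.germ_res]
  obtain ⟨g, hg, hstd⟩ := Groth.Agent.VarNef31.exists_isStandardSmoothOfRelativeDimension
    Γ(Y, U) Γ(X, V) (Y.presheaf.stalk y) X.functionField n hn
  let W := X.basicOpen g
  have hWV : W ≤ V := X.basicOpen_le g
  have hW : IsAffineOpen W := hV.basicOpen g
  refine ⟨W, ?_, ?_⟩
  · by_contra h
    rw [Set.not_nonempty_iff_eq_empty] at h
    exact hg ((basicOpen_eq_bot_iff g).1 (SetLike.coe_injective (h.trans TopologicalSpace.Opens.coe_bot.symm)))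
  haveI := hV.isLocalization_basicOpen g
  haveI := hstd
  letI : Algebra Γ(Y, U) Γ(X, W) :=
    ((algebraMap Γ(X, V) Γ(X, W)).comp (algebraMap Γ(Y, U) Γ(X, V))).toAlgebra
  haveI : IsScalarTower Γ(Y, U) Γ(X, V) Γ(X, W) := IsScalarTower.of_algebraMap_eq fun _ => rfl
  haveI : Algebra.IsStandardSmoothOfRelativeDimension n Γ(Y, U) Γ(X, W) :=
    Algebra.IsStandardSmoothOfRelativeDimension.of_algEquiv n
      ((IsLocalization.algEquiv (Submonoid.powers g) (Localization.Away g) Γ(X, W)).restrictScalars Γ(Y, U))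
  have hWU : W ≤ π ⁻¹ᵁ U := hWV.trans hVU
  have h1 : RingHom.IsStandardSmoothOfRelativeDimension n (π.appLE U W hWU).hom := by
    have e : (π.appLE U W hWU).hom = algebraMap Γ(Y, U) Γ(X, W) := by
      rw [← π.appLE_map hVU (homOfLE hWV).op]
      rfl
    rw [e, RingHom.isStandardSmoothOfRelativeDimension_algebraMap]
    infer_instance
  refine ⟨fun x => ⟨U, hU, ⊤, ?_, trivial, ?_, ?_⟩⟩
  · haveI : IsAffine W.toScheme := hW
    exact isAffineOpen_top _
  · intro z _
    exact hWU z.2
  · rw [← Scheme.Hom.appLE_comp_appLE W.ι π U W ⊤ hWU (by rw [Scheme.Opens.ι_preimage_self])]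
    have e : W.ι.appLE W ⊤ (by rw [Scheme.Opens.ι_preimage_self]) = W.topIso.inv := by
      rw [Scheme.Opens.ι_appLE]
      exact congrArg X.presheaf.map (Subsingleton.elim _ _)
    rw [e]
    exact (RingHom.isStandardSmoothOfRelativeDimension_respectsIso).1 _
      (W.topIso.symm).commRingCatIsoToRingEquiv h1

end Groth.Agent.S14417
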