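import Groth.Statements.S14423
import Mathlib
import Groth.Agent.TorBridge.Basic
-- import your own Groth.Agent.* helpers here

set_option autoImplicit false
universe u
open CategoryTheory
open CAlg

namespace Groth.Agent.S14423

section
open CategoryTheory MonoidalCategory

/-- Vanishing of `Tor₁(M, R/I)` makes `M ⊗ I → M ⊗ R` injective. -/
lemma lTensor_injective_of_tor {R : Type u} [CommRing R] (I : Ideal R) (M : Type u) [AddCommGroup M] [Module R M]
    (h : Limits.IsZero (((Tor (ModuleCat.{u} R) 1).obj (ModuleCat.of R M)).obj (ModuleCat.of R (R ⧸ I)))) :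
    Function.Injective (Submodule.subtype (I : Submodule R R) |>.lTensor M) := by
  let q : (M →₀ R) →ₗ[R] M := Finsupp.linearCombination R id
  have hq : Function.Surjective q := Finsupp.linearCombination_surjective R Function.surjective_id
  have h1 := (Groth.Agent.TorBridge.isZero_tor_one_iff (R ⧸ I) M q hq).mp h
  have h2 := (Groth.Agent.TorBridge.rTensor_injective_iff_lTensor_injective (Submodule.mkQ (I : Submodule R R))
    (Submodule.mkQ_surjective _) q hq).mp h1
  rwa [Submodule.ker_mkQ] at h2

end

section
open DirectSum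
variable {k : Type u} [Field k] {n : ℕ}

variable {M : Type u} [AddCommGroup M] [Module (MvPolynomial (Fin (n + 1)) k) M] (ℳ : ℕ → AddSubgroup M)
  [SetLike.GradedSMul (MvPolynomial.homogeneousSubmodule (Fin (n + 1)) k) ℳ] [DirectSum.Decomposition ℳ]

/-- The component of `p • t` in the degree of `t`. -/
lemma decompose_smul_same {t : M} {e : ℕ} (ht : t ∈ ℳ e) (p : MvPolynomial (Fin (n + 1)) k) :
    ((decompose ℳ (p • t)) e : M) = (MvPolynomial.C (MvPolynomial.constantCoeff p) : MvPolynomial (Fin (n + 1)) k) • t := by
  induction p using MvPolynomial.induction_on' with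
  | monomial d a =>
    have hm : (MvPolynomial.monomial d a : MvPolynomial (Fin (n + 1)) k) • t ∈ ℳ (Finsupp.degree d + e) :=
      SetLike.GradedSMul.smul_mem ((MvPolynomial.mem_homogeneousSubmodule _ _).mpr
        (MvPolynomial.isHomogeneous_monomial a rfl)) ht
    by_cases hd : d = 0
    · subst hd
      rw [decompose_of_mem_same ℳ (by simpa using hm)]
      simp [MvPolynomial.constantCoeff_monomial]
    · have hne : Finsupp.degree d + e ≠ e := fun h => hd ((Finsupp.degree_eq_zero_iff d).mp (by omega))
      rw [decompose_of_mem_ne ℳ hm hne, MvPolynomial.constantCoeff_monomial, if_neg (Ne.symm (Ne.symm hd)), map_zero, zero_smul]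
  | add p q hp hq => rw [add_smul, decompose_add, DirectSum.add_apply, AddSubgroup.coe_add, hp, hq, map_add, map_add, add_smul]

end

/-- Graded freeness criterion: let k be a field, S = k[x_0, …, x_n] with its standard grading by degree,
and M a finitely generated graded S-module. If Tor_1^S(M, k) = 0, where k = S/S_+ (S modulo the
ideal of polynomials with zero constant term) and Tor_1^S(M, ·) is the first left derived functor of
M ⊗_S ·, then M is free with a basis of homogeneous elements, i.e. M is isomorphic as a graded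
module to a finite direct sum of shifted copies S(−d_i). (Here the module is graded in non-negative
degrees; the published statement allows any integer degrees.) -/
theorem result (k : Type u) [Field k] (n : ℕ)
    (M : Type u) [AddCommGroup M] [Module (MvPolynomial (Fin (n + 1)) k) M]
    [Module.Finite (MvPolynomial (Fin (n + 1)) k) M]
    (ℳ : ℕ → AddSubgroup M)
    [SetLike.GradedSMul (MvPolynomial.homogeneousSubmodule (Fin (n + 1)) k) ℳ]
    [DirectSum.Decomposition ℳ]
    (h : Limits.IsZero (((Tor (ModuleCat.{u} (MvPolynomial (Fin (n + 1)) k)) 1).obj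
      (ModuleCat.of (MvPolynomial (Fin (n + 1)) k) M)).obj
      (ModuleCat.of (MvPolynomial (Fin (n + 1)) k)
        (MvPolynomial (Fin (n + 1)) k ⧸
          RingHom.ker (MvPolynomial.constantCoeff : MvPolynomial (Fin (n + 1)) k →+* k))))) :
    ∃ (ι : Type u) (b : Module.Basis ι (MvPolynomial (Fin (n + 1)) k) M),
      ∀ i, SetLike.IsHomogeneousElem ℳ (b i) := by
  classical
  set I : Ideal (MvPolynomial (Fin (n + 1)) k) := RingHom.ker (MvPolynomial.constantCoeff : MvPolynomial (Fin (n + 1)) k →+* k) with hI
  have hinj := lTensor_injective_of_tor I M h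
  -- homogeneous generators
  have hex : ∃ K, ∃ (t : Fin K → M) (e : Fin K → ℕ), (∀ j, t j ∈ ℳ (e j)) ∧
      Submodule.span (MvPolynomial (Fin (n + 1)) k) (Set.range t) = ⊤ := by
    obtain ⟨F, hF⟩ := (Module.finite_def.mp ‹_› : (⊤ : Submodule (MvPolynomial (Fin (n + 1)) k) M).FG)
    let κ₀ := Σ x : F, (DirectSum.decompose ℳ (x : M)).support
    let t₀ : κ₀ → M := fun i => (DirectSum.decompose ℳ (i.1 : M) i.2 : M)
    refine ⟨Fintype.card κ₀, t₀ ∘ (Fintype.equivFin κ₀).symm,
      fun j => ((Fintype.equivFin κ₀).symm j).2, fun j => SetLike.coe_mem _, ?_⟩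
    rw [(Fintype.equivFin κ₀).symm.surjective.range_comp t₀, ← top_le_iff, ← hF, Submodule.span_le]
    intro x hx
    rw [SetLike.mem_coe, ← DirectSum.sum_support_decompose ℳ x]
    exact sum_mem fun n hn => Submodule.subset_span ⟨⟨⟨x, hx⟩, ⟨n, hn⟩⟩, rfl⟩
  obtain ⟨t, e, ht, htop⟩ := Nat.find_spec hex
  let π : (Fin (Nat.find hex) → MvPolynomial (Fin (n + 1)) k) →ₗ[MvPolynomial (Fin (n + 1)) k] M :=
    Fintype.linearCombination _ t
  have hπ : Function.Surjective π := LinearMap.range_eq_top.mp (by rw [Fintype.range_linearCombination, htop])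
  have hmin : ∀ c, π c = 0 → ∀ b, c b ∈ I := by
    intro c hc b
    rw [hI, RingHom.mem_ker]
    by_contra hb
    let a := MvPolynomial.constantCoeff (c b)
    let N := Submodule.span (MvPolynomial (Fin (n + 1)) k) (t '' {b' | b' ≠ b})
    have h1 : ((DirectSum.decompose ℳ (∑ j, c j • t j)) (e b) : M) = 0 := by
      rw [← Fintype.linearCombination_apply]
      show ((DirectSum.decompose ℳ (π c)) (e b) : M) = 0
      rw [hc, DirectSum.decompose_zero]; rfl
    rw [DirectSum.decompose_sum, DirectSum.sum_apply, AddSubgroup.val_finsetSum,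
      ← Finset.add_sum_erase _ _ (Finset.mem_univ b), decompose_smul_same ℳ (ht b)] at h1
    have hN : ∀ j ∈ Finset.univ.erase b, ((DirectSum.decompose ℳ (c j • t j)) (e b) : M) ∈ N := by
      intro j hj
      have hmem : ∀ p : MvPolynomial (Fin (n + 1)) k, ((DirectSum.decompose ℳ (p • t j)) (e b) : M) ∈ N := by
        intro p
        induction p using MvPolynomial.induction_on' with
        | monomial d r =>
          have hm : (MvPolynomial.monomial d r : MvPolynomial (Fin (n + 1)) k) • t j ∈ ℳ (Finsupp.degree d + e j) :=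
            SetLike.GradedSMul.smul_mem ((MvPolynomial.mem_homogeneousSubmodule _ _).mpr
              (MvPolynomial.isHomogeneous_monomial r rfl)) (ht j)
          by_cases hd : Finsupp.degree d + e j = e b
          · rw [← hd, DirectSum.decompose_of_mem_same ℳ hm]
            exact N.smul_mem _ (Submodule.subset_span ⟨j, Finset.ne_of_mem_erase hj, rfl⟩)
          · rw [DirectSum.decompose_of_mem_ne ℳ hm hd]; exact N.zero_mem
        | add p q hp hq => rw [add_smul, DirectSum.decompose_add, DirectSum.add_apply, AddSubgroup.coe_add]; exact add_mem hp hq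
      exact hmem _
    have hmemb : t b ∈ N := by
      have h2 : (MvPolynomial.C (MvPolynomial.constantCoeff (c b)) : MvPolynomial (Fin (n + 1)) k) • t b ∈ N := by
        rw [eq_neg_of_add_eq_zero_left h1]; exact N.neg_mem (Submodule.sum_mem _ hN)
      have := N.smul_mem (MvPolynomial.C (MvPolynomial.constantCoeff (c b))⁻¹ : MvPolynomial (Fin (n + 1)) k) h2
      rwa [smul_smul, ← map_mul, inv_mul_cancel₀ hb, map_one, one_smul] at this
    let s := ({b}ᶜ : Finset (Fin (Nat.find hex))).equivFin.symm
    have hlt : ({b}ᶜ : Finset (Fin (Nat.find hex))).card < Nat.find hex := by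
      rw [Finset.card_compl, Fintype.card_fin, Finset.card_singleton]
      have := b.isLt; omega
    refine Nat.find_min hex hlt ⟨fun j => t (s j), fun j => e (s j), fun j => ht _, eq_top_iff.2 (htop.ge.trans (Submodule.span_le.2 ?_))⟩
    have hs : t '' {b' | b' ≠ b} ⊆ Set.range (fun j => t (s j)) := by
      rintro _ ⟨b', hb', rfl⟩
      obtain ⟨j, hj⟩ := s.surjective ⟨b', by simpa using hb'⟩
      exact ⟨j, by simp only [hj]⟩
    rintro _ ⟨j, rfl⟩
    rcases eq_or_ne j b with rfl | hj
    · exact Submodule.span_mono hs hmemb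
    · exact Submodule.subset_span (hs ⟨j, hj, rfl⟩)
  -- the relations lie in every power of `I`
  have hdeep : ∀ m, LinearMap.ker π ≤ I ^ m • ⊤ := by
    have hK : LinearMap.ker π ≤ I • LinearMap.ker π := by
      intro x hx
      have h0 : ((∑ j, t j ⊗ₜ[MvPolynomial (Fin (n + 1)) k] (⟨x j, hmin x hx j⟩ : I))) = 0 := by
        refine hinj ((TensorProduct.rid _ M).injective ?_)
        simp only [map_sum, map_zero, LinearMap.lTensor_tmul, Submodule.subtype_apply, TensorProduct.rid_tmul]
        exact hx
      let y := ∑ j, (Pi.single j (1 : MvPolynomial (Fin (n + 1)) k)) ⊗ₜ[MvPolynomial (Fin (n + 1)) k] (⟨x j, hmin x hx j⟩ : I)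
      have hy : π.rTensor I y = 0 := by
        rw [← h0]
        simp only [y, map_sum, LinearMap.rTensor_tmul]
        exact Finset.sum_congr rfl fun j _ => by rw [Fintype.linearCombination_apply_single, one_smul]
      obtain ⟨z, hz⟩ := ((rTensor_exact I (LinearMap.exact_subtype_ker_map π) hπ) y).mp hy
      let μ := (TensorProduct.rid (MvPolynomial (Fin (n + 1)) k) (Fin (Nat.find hex) → MvPolynomial (Fin (n + 1)) k)).toLinearMap ∘ₗ
        (Submodule.subtype (I : Submodule (MvPolynomial (Fin (n + 1)) k) (MvPolynomial (Fin (n + 1)) k))).lTensor _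
      have hμy : μ y = x := by
        simp only [y, μ, map_sum, LinearMap.comp_apply, LinearMap.lTensor_tmul, Submodule.subtype_apply,
          LinearEquiv.coe_coe, TensorProduct.rid_tmul]
        exact (pi_eq_sum_univ' x).symm
      rw [← hμy, ← hz]
      clear hz
      induction z using TensorProduct.induction_on with
      | zero => simp
      | tmul v a =>
        simp only [μ, LinearMap.comp_apply, LinearMap.rTensor_tmul, LinearMap.lTensor_tmul, Submodule.subtype_apply,
          LinearEquiv.coe_coe, TensorProduct.rid_tmul]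
        exact Submodule.smul_mem_smul a.2 v.2
      | add u v hu hv => rw [map_add, map_add]; exact add_mem hu hv
    intro m
    induction m with
    | zero => rw [pow_zero, Ideal.one_eq_top, Submodule.top_smul]; exact le_top
    | succ m ih =>
      refine hK.trans ((Submodule.smul_mono le_rfl ih).trans ?_)
      rw [← Submodule.mul_smul, ← pow_succ']
  have hker : Function.Injective π := (injective_iff_map_eq_zero π).mpr fun v hv => funext fun j => by
    refine MvPolynomial.ext _ _ fun d => ?_
    have hle : I ^ (Finsupp.degree d + 1) • (⊤ : Submodule (MvPolynomial (Fin (n + 1)) k) (Fin (Nat.find hex) → MvPolynomial (Fin (n + 1)) k)) ≤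
        Submodule.comap (LinearMap.proj j) (I ^ (Finsupp.degree d + 1)) := Submodule.smul_le.mpr fun r hr w _ => by
      rw [Submodule.mem_comap, LinearMap.proj_apply, Pi.smul_apply, smul_eq_mul]
      exact Ideal.mul_mem_right _ _ hr
    have hvj : v j ∈ I ^ (Finsupp.degree d + 1) := hle (hdeep _ hv)
    have hIv : I = MvPolynomial.idealOfVars (Fin (n + 1)) k := by
      ext p
      rw [hI, RingHom.mem_ker, ← pow_one (MvPolynomial.idealOfVars (Fin (n + 1)) k), MvPolynomial.mem_pow_idealOfVars_iff']
      simp [Nat.lt_one_iff, MvPolynomial.constantCoeff_eq, Finsupp.degree_eq_zero_iff]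
    rw [hIv, MvPolynomial.mem_pow_idealOfVars_iff'] at hvj
    exact hvj d (Nat.lt_succ_self _)
  let bM := ((Pi.basisFun (MvPolynomial (Fin (n + 1)) k) (Fin (Nat.find hex))).map
    (LinearEquiv.ofBijective π ⟨hker, hπ⟩)).reindex Equiv.ulift.symm
  refine ⟨ULift.{u} (Fin (Nat.find hex)), bM, fun i => ⟨e i.down, ?_⟩⟩
  have : bM i = t i.down := by
    simp only [bM, Module.Basis.reindex_apply, Module.Basis.map_apply, Pi.basisFun_apply, Equiv.symm_symm]
    show π (Pi.single i.down 1) = t i.down
    rw [Fintype.linearCombination_apply_single, one_smul]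
  rw [this]
  exact ht _

end Groth.Agent.S14423
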