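import Groth.Statements.S14431
import Groth.Agent.VarBertini31.Generated
import Groth.Agent.VarBertini31.Scheme
import Groth.Agent.Lib.CurveDualPrep
-- import your own Groth.Agent.* helpers here

set_option autoImplicit false
universe u
open CategoryTheory CategoryTheory.Limits AlgebraicGeometry
open Variety

namespace Groth.Agent.S14431

/-- Let k be an algebraically closed field of characteristic zero, X an integral k-scheme of finite type
which is smooth over k, L an invertible O_X-module and s_0, …, s_m global sections of L (morphisms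
O_X → L) generating L, i.e. their zero schemes have empty intersection (the sum of their zero ideal
sheaves is the unit ideal). Then the members of the linear system spanned by the s_i corresponding
to a nonempty Zariski-open set of parameters are smooth: there is a nonzero polynomial p in m + 1
variables over k such that for every c ∈ k^{m+1} with p(c) ≠ 0 the zero scheme of the section Σ c_i
s_i is smooth over k (equivalently, the corresponding divisor is reduced with smooth support). (The
published statement is for varieties, which are separated; this row does not assume X separated.) -/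
theorem result (k : Type u) [Field k] [IsAlgClosed k] [CharZero k]
    (X : Scheme.{u}) [X.Over (Spec (CommRingCat.of k))] [IsIntegral X]
    [Smooth (X ↘ Spec (CommRingCat.of k))] [QuasiCompact (X ↘ Spec (CommRingCat.of k))]
    (L : X.Modules) (hL : FlatMod.IsFinLocFreeOfRank 1 L) (m : ℕ)
    (s : Fin (m + 1) → (Coh.structureModule X ⟶ L))
    (hgen : ⨆ i : Fin (m + 1), PicF2.zeroScheme L (s i) = ⊤) :
    ∃ p : MvPolynomial (Fin (m + 1)) k, p ≠ 0 ∧ ∀ c : Fin (m + 1) → k, MvPolynomial.eval c p ≠ 0 →
      Smooth ((PicF2.zeroScheme L (∑ i : Fin (m + 1), Formal.smulMod k (Coh.structureModule X) (c i) ≫ s i)).subschemeι ≫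
        (X ↘ Spec (CommRingCat.of k))) := by
  classical
  open Groth.Agent Groth.Agent.VarBertini31 Groth.Agent.SmoothReg in
  let g := X ↘ Spec (CommRingCat.of k)
  have hinv : PicF.IsInvertible L := CurveDuality.isInvertible_of_rank_one hL
  obtain ⟨T, ch, hcov⟩ := exists_charts g hinv
  have hloc : ∀ x : X, ∃ q : MvPolynomial (Fin (m + 1)) k, q ≠ 0 ∧ ∀ c : Fin (m + 1) → k,
      MvPolynomial.eval c q ≠ 0 → ∃ h : Γ(X, (ch x).V),
        ZeroSchX.sv (∑ i : Fin (m + 1), Formal.smulMod k (Coh.structureModule X) (c i) ≫ s i) (ch x).V =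
          h • (ch x).e ∧
        letI := (affMap g (ch x).V).toAlgebra
        Algebra.Smooth k (Γ(X, (ch x).V) ⧸ Ideal.span {h}) := by
    intro x
    set V := (ch x).V with hV_def
    letI := (affMap g V).toAlgebra
    haveI : Algebra.IsStandardSmooth k Γ(X, V) := (ch x).std
    have hcoord : ∀ σ : Coh.structureModule X ⟶ L, ∃ a : Γ(X, V), ZeroSchX.sv σ V = a • (ch x).e := by
      intro σ
      obtain ⟨a, ha⟩ := (ch x).frame.exists_coord le_rfl (ZeroSchX.sv σ V)
      exact ⟨a, ha.trans (congrArg _ (AModX.res_self _))⟩
    choose co hco using hcoord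
    have hgen' : Ideal.span (Set.range fun i => co (s i)) = ⊤ := by
      have h1 := congrArg (fun I : X.IdealSheafData => I.ideal ⟨V, (ch x).isAffine⟩) hgen
      beta_reduce at h1
      rw [Scheme.IdealSheafData.ideal_iSup, Scheme.IdealSheafData.ideal_top, iSup_apply, Pi.top_apply] at h1
      have h2 : ∀ i, (PicF2.zeroScheme L (s i)).ideal ⟨V, (ch x).isAffine⟩ = Ideal.span {co (s i)} := fun i =>
        (ZeroSchX.ideal_zeroScheme hinv _ _).trans
          (ZeroSchX.zeroIdealOn_eq_span _ (ch x).frame (hco _))
      simp only [h2] at h1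
      rw [← h1, ← Set.iUnion_singleton_eq_range, Ideal.span_iUnion]
    obtain ⟨q, hq, hsm⟩ := exists_good_generated (k := k) (fun i => co (s i)) hgen'
    refine ⟨q, hq, fun c hc => ⟨_, ?_, hsm c hc⟩⟩
    rw [sv_sum, Finset.sum_smul]
    refine Finset.sum_congr rfl fun i _ => ?_
    rw [hco, smul_smul]
    rfl
  choose q hq hsm using hloc
  refine ⟨∏ x ∈ T, q x, Finset.prod_ne_zero_iff.2 fun x _ => hq x, fun c hc => ?_⟩
  rw [map_prod, Finset.prod_ne_zero_iff] at hc
  choose h hh hh' using fun x : T => hsm x.1 c (hc x.1 x.2)
  exact smooth_zeroScheme g hinv _ (fun x : T => ch x.1)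
    (fun y => let ⟨x, hx, hy⟩ := hcov y; ⟨⟨x, hx⟩, hy⟩) h hh hh'


end Groth.Agent.S14431
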