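import Groth.Statements.S14438
import Mathlib
import Groth.Agent.S6320
-- import your own Groth.Agent.* helpers here

set_option autoImplicit false
universe u
open CAlg

namespace Groth.Agent.S14438

/-- Let (A, m) be a local ring, B a commutative A-algebra which is free of finite rank d as an A-module,
and assume that for every maximal ideal n of B containing mB the induced map of residue fields A/m →
B/n is bijective (as for the points of a fibre of a finite flat morphism of varieties over an
algebraically closed field). Then the multiplicities of the points of the fibre add up to the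
degree: the sum over all such n of the length of the B_n-module (B/mB)_n equals d. -/
theorem result (A B : Type u) [CommRing A] [IsLocalRing A] [CommRing B] [Algebra A B]
    [Module.Free A B] [Module.Finite A B] (d : ℕ) (hd : Module.finrank A B = d)
    (hres : ∀ (n : Ideal B) [n.IsMaximal] (h : Ideal.map (algebraMap A B) (IsLocalRing.maximalIdeal A) ≤ n),
      Function.Bijective (Ideal.quotientMap n (algebraMap A B) (Ideal.map_le_iff_le_comap.mp h))) :
    finsum (fun n : {n : MaximalSpectrum B // Ideal.map (algebraMap A B) (IsLocalRing.maximalIdeal A) ≤ n.asIdeal} =>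
      Module.length (Localization.AtPrime n.1.asIdeal)
        (LocalizedModule n.1.asIdeal.primeCompl (B ⧸ Ideal.map (algebraMap A B) (IsLocalRing.maximalIdeal A)))) = (d : ℕ∞) := by
  classical
  set m := IsLocalRing.maximalIdeal A with hm
  set I := Ideal.map (algebraMap A B) m with hI
  haveI : Algebra.IsIntegral A B := Algebra.IsIntegral.of_finite A B
  have hover : ∀ n : MaximalSpectrum B, n.asIdeal.comap (algebraMap A B) = m := fun n =>
    IsLocalRing.eq_maximalIdeal (Ideal.isMaximal_comap_of_isIntegral_of_isMaximal n.asIdeal)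
  have hle : ∀ n : MaximalSpectrum B, I ≤ n.asIdeal := fun n => Ideal.map_le_iff_le_comap.mpr (hover n).ge
  let b := Module.Free.chooseBasis A B
  let ι := Module.Free.ChooseBasisIndex A B
  let f : B →ₗ[A] (ι → A ⧸ m) := LinearMap.pi fun i => (Submodule.mkQ m).comp (b.coord i)
  have hf : Function.Surjective f := by
    intro v
    choose g hg using fun i => Submodule.mkQ_surjective m (v i)
    refine ⟨b.equivFun.symm g, ?_⟩
    funext i
    have h1 : b.coord i (b.equivFun.symm g) = g i := by
      rw [Module.Basis.coord_apply, ← Module.Basis.equivFun_apply, LinearEquiv.apply_symm_apply]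
    rw [LinearMap.pi_apply, LinearMap.comp_apply, h1]
    exact hg i
  have hker : LinearMap.ker f = I.restrictScalars A := by
    ext x
    rw [hI, ← Ideal.smul_top_eq_map]
    constructor
    · intro hx
      rw [← b.sum_repr x]
      refine Submodule.sum_mem _ fun i _ => Submodule.smul_mem_smul ?_ Submodule.mem_top
      have := congrFun (LinearMap.mem_ker.mp hx) i
      exact (Submodule.Quotient.mk_eq_zero m).mp this
    · intro hx
      refine Submodule.smul_induction_on hx (fun r hr y _ => ?_) (fun y z hy hz => add_mem hy hz)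
      rw [LinearMap.mem_ker]
      funext i
      exact (Submodule.Quotient.mk_eq_zero m).mpr (by simpa using m.mul_mem_right _ hr)
  have hlen : Module.length A (B ⧸ I) = (d : ℕ∞) := by
    let e : (B ⧸ I) ≃ₗ[A] (ι → A ⧸ m) :=
      ((Submodule.Quotient.restrictScalarsEquiv A I).symm.trans (Submodule.quotEquivOfEq _ _ hker.symm)).trans
        (f.quotKerEquivOfSurjective hf)
    haveI : IsSimpleModule A (A ⧸ m) :=
      isSimpleModule_iff_quot_maximal.mpr ⟨m, inferInstance, ⟨LinearEquiv.refl _ _⟩⟩
    rw [e.length_eq, Module.length_pi, Module.length_eq_one, ← hd, Module.finrank_eq_card_chooseBasisIndex]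
    simp [ι]
  haveI : IsArtinian A (B ⧸ I) := by
    have : IsFiniteLength A (B ⧸ I) := Module.length_ne_top_iff.mp (by rw [hlen]; exact ENat.coe_ne_top d)
    exact (isFiniteLength_iff_isNoetherian_isArtinian.mp this).2
  haveI : IsNoetherian A (B ⧸ I) := by
    have : IsFiniteLength A (B ⧸ I) := Module.length_ne_top_iff.mp (by rw [hlen]; exact ENat.coe_ne_top d)
    exact (isFiniteLength_iff_isNoetherian_isArtinian.mp this).1
  haveI hA : IsArtinianRing (B ⧸ I) := isArtinian_of_tower A inferInstance
  haveI : Finite (MaximalSpectrum B) := by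
    refine Finite.of_injective (β := MaximalSpectrum (B ⧸ I)) (fun n => ⟨n.asIdeal.map (Ideal.Quotient.mk I),
      Ideal.IsMaximal.map_of_surjective_of_ker_le Ideal.Quotient.mk_surjective (by rw [Ideal.mk_ker]; exact hle n)⟩)
      fun p q h => ?_
    have h' := congrArg (fun x : MaximalSpectrum (B ⧸ I) => x.asIdeal.comap (Ideal.Quotient.mk I)) h
    simp only [Ideal.comap_map_of_surjective _ Ideal.Quotient.mk_surjective, ← RingHom.ker_eq_comap_bot,
      Ideal.mk_ker, sup_eq_left.mpr (hle p), sup_eq_left.mpr (hle q)] at h'
    exact MaximalSpectrum.ext h'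
  have hsurj : ∀ n : MaximalSpectrum B, Function.Surjective (algebraMap (A ⧸ n.asIdeal.comap (algebraMap A B)) (B ⧸ n.asIdeal)) := by
    intro n y
    obtain ⟨x, hx⟩ := (hres n.asIdeal (hle n)).2 y
    obtain ⟨a, rfl⟩ := Ideal.Quotient.mk_surjective x
    exact ⟨Ideal.Quotient.mk _ a, hx⟩
  have h1 : ∀ n : MaximalSpectrum B,
      Module.finrank (A ⧸ n.asIdeal.comap (algebraMap A B)) (B ⧸ n.asIdeal) = 1 := fun n => by
    haveI : (n.asIdeal.comap (algebraMap A B)).IsMaximal := Ideal.isMaximal_comap_of_isIntegral_of_isMaximal n.asIdeal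
    letI := Ideal.Quotient.field (n.asIdeal.comap (algebraMap A B))
    haveI : Nontrivial (B ⧸ n.asIdeal) := Ideal.Quotient.nontrivial_iff.mpr n.isMaximal.ne_top
    refine finrank_eq_one (1 : B ⧸ n.asIdeal) one_ne_zero fun w => ?_
    obtain ⟨c, hc⟩ := hsurj n w
    exact ⟨c, by rw [Algebra.smul_def, mul_one, hc]⟩
  have hfl : IsFiniteLength B (B ⧸ I) :=
    isFiniteLength_iff_isNoetherian_isArtinian.mpr ⟨isNoetherian_of_tower A inferInstance, isArtinian_of_tower A inferInstance⟩
  have key := Groth.Agent.S6320.result (A := A) (B := B) hover (fun n => Module.Finite.of_surjective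
    (Algebra.linearMap (A ⧸ n.asIdeal.comap (algebraMap A B)) (B ⧸ n.asIdeal)) (hsurj n)) (B ⧸ I) hfl
  rw [hlen] at key
  rw [key]
  refine finsum_eq_of_bijective Subtype.val ⟨Subtype.val_injective, fun n => ⟨⟨n, hle n⟩, rfl⟩⟩ fun n => ?_
  simp [h1]

end Groth.Agent.S14438
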