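import Groth.Statements.S14482
import Groth.Agent.CharCyc46.RegImm

set_option autoImplicit false
universe u
open CategoryTheory AlgebraicGeometry
open CharCyc

namespace Groth.Agent.S14482

/-- Second assertion: let k be a field, let π : C → X be a morphism between k-schemes of finite type
such that every irreducible component of C has dimension n, let ι : W → X be a regular immersion of
codimension c, and for j ≥ 0 let B_j ⊆ X be the set of points whose fibre under π has dimension at
least j. Assume that every B_j is closed in X. Then dim B_j + j ≤ n for every j, and the condition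
dim π⁻¹(ι(W)) + c ≤ n (that is, dim C ×_X W ≤ n − c) holds if and only if dim ι⁻¹(B_j) + c + j ≤ n
for every j (that is, ι meets the sequence (B_j) n-semi-properly). Dimensions are topological Krull
dimensions of subspaces, the empty space having dimension ⊥. (Stated for each of the four kinds of
regular immersion of codimension c — regular, Koszul-regular, H₁-regular, quasi-regular; the
published statement does not distinguish kinds.) -/
theorem result (k : Type u) [Field k] (C X W : Scheme.{u})
    (q : X ⟶ Spec (CommRingCat.of k)) (π : C ⟶ X) (ι : W ⟶ X)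
    [LocallyOfFiniteType q] [CompactSpace X] [LocallyOfFiniteType π] [CompactSpace C]
    (κ : RegImm.Kind) (n c : ℕ) (hι : RegImm.IsRegularImmersionOfCodim κ c ι)
    (hC : ∀ P ∈ irreducibleComponents (C : Type u), topologicalKrullDim P = n)
    (hB : ∀ j : ℕ, IsClosed {x : X | (j : WithBot ℕ∞) ≤ topologicalKrullDim (π.fiber x)}) :
    (∀ j : ℕ, topologicalKrullDim {x : X | (j : WithBot ℕ∞) ≤ topologicalKrullDim (π.fiber x)} + (j : WithBot ℕ∞) ≤ n) ∧
      (topologicalKrullDim (π ⁻¹' Set.range ι : Set C) + (c : WithBot ℕ∞) ≤ n ↔
        ∀ j : ℕ, topologicalKrullDim (ι ⁻¹' {x : X | (j : WithBot ℕ∞) ≤ topologicalKrullDim (π.fiber x)} : Set W) + (c : WithBot ℕ∞) + (j : WithBot ℕ∞) ≤ n) := by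
  haveI := hι.1
  have hW : IsLocallyClosed (Set.range ι) := ι.isLocallyClosed_range
  refine ⟨fun j => ?_, ?_⟩
  · have h := Groth.Agent.CharCyc46.dim_closure_bset_le q π
      (Groth.Agent.CharCyc46.dim_le_of_components q π hC) j
    rw [Groth.Agent.CharCyc46.bset, (hB j).closure_eq] at h
    exact h
  rw [Groth.Agent.CharCyc46.preimage_dim_le_iff q π hW]
  refine forall_congr' fun j => ?_
  rw [(((ι.isEmbedding.homeomorphImage _).trans (Homeomorph.setCongr Set.image_preimage_eq_inter_range)).isHomeomorph.topologicalKrullDim_eq),
    add_assoc, ← Nat.cast_add,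
    Groth.Agent.CharCyc46.dim_add_le_iff q ((hB j).isLocallyClosed.inter hW)]
  exact ⟨fun h z hz => by have := h z hz.2 hz.1; omega, fun h x h1 h2 => by have := h x ⟨h2, h1⟩; omega⟩

end Groth.Agent.S14482
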