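import Groth.Statements.S14483
import Groth.Agent.CharCyc46.WellInt

set_option autoImplicit false
universe u
open CategoryTheory CategoryTheory.Limits AlgebraicGeometry
open CharCyc

namespace Groth.Agent.S14483

/-- Let k be a field and let f : X → S be a morphism between separated k-schemes of finite type. Two
closed subsets Y, Z of X are said to well intersect with respect to f when dim(Y ×_S Z ∖ Y ×_X Z) ≤
dim Y + dim Z − dim S; here Y ×_S Z ∖ Y ×_X Z is taken as the subspace of X ×_S X of points whose
two projections lie in Y and in Z and which are not in the image of the diagonal, and the inequality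
is written additively as dim(Y ×_S Z ∖ Y ×_X Z) + dim S ≤ dim Y + dim Z (topological Krull
dimensions, the empty space having dimension ⊥). Let Y ⊆ X be closed and irreducible with dim Y <
dim S, and suppose that the pair Y, Y well intersects with respect to f. Then Y → S is generically
radicial onto its image: there is an open subset V of X meeting Y such that f is injective on V ∩ Y
and, at every point of V ∩ Y, the residue field extension induced by f is purely inseparable. -/
theorem result (k : Type u) [Field k] (X S : Scheme.{u})
    (q : S ⟶ Spec (CommRingCat.of k)) (f : X ⟶ S)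
    [LocallyOfFiniteType q] [CompactSpace S] [IsSeparated q] [LocallyOfFiniteType f] [CompactSpace X] [IsSeparated f]
    (Y : Set X) (hYc : IsClosed Y) (hYi : IsIrreducible Y)
    (hWI : topologicalKrullDim {p : ↥(pullback f f) | pullback.fst f f p ∈ Y ∧ pullback.snd f f p ∈ Y ∧ p ∉ Set.range (pullback.diagonal f)} + topologicalKrullDim S ≤ topologicalKrullDim Y + topologicalKrullDim Y)
    (hYS : topologicalKrullDim Y < topologicalKrullDim S) :
    ∃ V : Set X, IsOpen V ∧ (V ∩ Y).Nonempty ∧ Set.InjOn f.base (V ∩ Y) ∧
      ∀ x ∈ V ∩ Y, (f.residueFieldMap x).hom.IsPurelyInseparable := by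
  haveI := Groth.Agent.CharCyc46.noetherianSpace (f ≫ q)
  haveI : LocallyOfFiniteType (pullback.fst f f) := inferInstance
  haveI : CompactSpace ↥(pullback f f) := QuasiCompact.compactSpace_of_compactSpace (pullback.fst f f)
  haveI := Groth.Agent.CharCyc46.noetherianSpace (pullback.fst f f ≫ f ≫ q)
  have hη := hYi.isGenericPoint_genericPoint hYc
  haveI : Nonempty S := ⟨f.base hYi.genericPoint⟩
  have hT := Groth.Agent.CharCyc46.isLocallyClosed_offDiag f hYc hYc
  let V : Set X := (closure (pullback.fst f f '' Groth.Agent.CharCyc46.offDiag f Y Y))ᶜ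
  have hmain : hYi.genericPoint ∈ V := by
    intro hmem
    obtain ⟨p, hp, hpη⟩ := Groth.Agent.CharCyc46.exists_specializes_of_mem_closure_image (pullback.fst f f) hT hmem
    have heq : pullback.fst f f p = hYi.genericPoint := (hpη.antisymm (hη.specializes hp.1)).eq
    have hle := Groth.Agent.CharCyc46.deg_fst_le f q p
    rw [heq] at hle
    exact not_le.2 hYS (Groth.Agent.CharCyc46.dim_base_le f q hYc hYc hη hη hWI hp hle)
  have hV : IsOpen V := isClosed_closure.isOpen_compl
  obtain ⟨h1, h2⟩ := Groth.Agent.CharCyc46.radicial_of_diagonal f hYc hV fun p hp1 hp2 => by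
    by_contra hn
    exact hp1.1 (subset_closure ⟨p, ⟨hp1.2, hp2.2, hn⟩, rfl⟩)
  exact ⟨V, hV, ⟨_, hmain, hη.mem⟩, h1, h2⟩

end Groth.Agent.S14483
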