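import Groth.Statements.S14484
import Groth.Agent.CharCyc46.WellInt

set_option autoImplicit false
universe u
open CategoryTheory CategoryTheory.Limits AlgebraicGeometry
open CharCyc

namespace Groth.Agent.S14484

/-- Let k be a field and let f : X → S be a morphism between separated k-schemes of finite type. Two
closed subsets Y, Z of X are said to well intersect with respect to f when dim(Y ×_S Z ∖ Y ×_X Z) ≤
dim Y + dim Z − dim S; here Y ×_S Z ∖ Y ×_X Z is taken as the subspace of X ×_S X of points whose
two projections lie in Y and in Z and which are not in the image of the diagonal, and the inequality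
is written additively as dim(Y ×_S Z ∖ Y ×_X Z) + dim S ≤ dim Y + dim Z (topological Krull
dimensions, the empty space having dimension ⊥). Let Y, Z ⊆ X be closed irreducible subsets that
well intersect with respect to f, with dim Y < dim S and dim Z < dim S, and assume Y ⊄ Z. Then f(Y)
is not contained in the closure of f(Y) ∩ f(Z); in particular f(Y) ⊄ f(Z). -/
theorem result (k : Type u) [Field k] (X S : Scheme.{u})
    (q : S ⟶ Spec (CommRingCat.of k)) (f : X ⟶ S)
    [LocallyOfFiniteType q] [CompactSpace S] [IsSeparated q] [LocallyOfFiniteType f] [CompactSpace X] [IsSeparated f]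
    (Y Z : Set X) (hYc : IsClosed Y) (hYi : IsIrreducible Y) (hZc : IsClosed Z) (hZi : IsIrreducible Z)
    (hWI : topologicalKrullDim {p : ↥(pullback f f) | pullback.fst f f p ∈ Y ∧ pullback.snd f f p ∈ Z ∧ p ∉ Set.range (pullback.diagonal f)} + topologicalKrullDim S ≤ topologicalKrullDim Y + topologicalKrullDim Z)
    (hYS : topologicalKrullDim Y < topologicalKrullDim S) (hZS : topologicalKrullDim Z < topologicalKrullDim S)
    (hYZ : ¬ Y ⊆ Z) :
    ¬ (f.base '' Y ⊆ closure (f.base '' Y ∩ f.base '' Z)) ∧ ¬ (f.base '' Y ⊆ f.base '' Z) := by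
  haveI := Groth.Agent.CharCyc46.noetherianSpace (f ≫ q)
  haveI : CompactSpace ↥(pullback f f) := QuasiCompact.compactSpace_of_compactSpace (pullback.fst f f)
  haveI := Groth.Agent.CharCyc46.noetherianSpace (pullback.fst f f ≫ f ≫ q)
  have hη := hYi.isGenericPoint_genericPoint hYc
  have hζ := hZi.isGenericPoint_genericPoint hZc
  haveI : Nonempty S := ⟨f.base hYi.genericPoint⟩
  suffices h : ¬ (f.base '' Y ⊆ closure (f.base '' Y ∩ f.base '' Z)) from
    ⟨h, fun h' => h fun y hy => subset_closure ⟨hy, h' hy⟩⟩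
  intro h
  have hA : IsLocallyClosed ((pullback.fst f f) ⁻¹' Y ∩ (pullback.snd f f) ⁻¹' Z) :=
    ((hYc.preimage (pullback.fst f f).continuous).inter (hZc.preimage (pullback.snd f f).continuous)).isLocallyClosed
  have hsub : f.base '' Y ∩ f.base '' Z ⊆
      (pullback.fst f f ≫ f) '' ((pullback.fst f f) ⁻¹' Y ∩ (pullback.snd f f) ⁻¹' Z) := by
    rintro s ⟨⟨y, hy, rfl⟩, z, hz, hzy⟩
    obtain ⟨t, ht1, ht2⟩ := Scheme.Pullback.exists_preimage_pullback (f := f) (g := f) y z hzy.symm
    exact ⟨t, ⟨by simpa [ht1] using hy, by simpa [ht2] using hz⟩, by rw [Scheme.Hom.comp_apply, ht1]⟩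
  obtain ⟨t, ⟨ht1, ht2⟩, hts⟩ := Groth.Agent.CharCyc46.exists_specializes_of_mem_closure_image
    (pullback.fst f f ≫ f) hA (closure_mono hsub (h ⟨_, hη.mem, rfl⟩))
  have hst : f.base hYi.genericPoint ⤳ (pullback.fst f f ≫ f) t := by
    rw [Scheme.Hom.comp_apply]; exact (hη.specializes ht1).map f.continuous
  have heq : f hYi.genericPoint = f (pullback.snd f f t) := by
    rw [← Scheme.Hom.comp_apply, ← pullback.condition]
    exact (hst.antisymm hts).eq
  obtain ⟨p, hp1, hp2⟩ := Scheme.Pullback.exists_preimage_pullback (f := f) (g := f) _ _ heq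
  have hne : pullback.fst f f p ≠ pullback.snd f f p := by
    rw [hp1, hp2]
    intro he
    exact hYZ fun y hy => (hη.specializes hy).mem_closed hZc (he ▸ ht2)
  have hp : p ∈ Groth.Agent.CharCyc46.offDiag f Y Z :=
    ⟨by rw [hp1]; exact hη.mem, by rw [hp2]; exact ht2, Groth.Agent.CharCyc46.not_mem_range_diagonal f hne⟩
  have hle := Groth.Agent.CharCyc46.deg_fst_le f q p
  rw [hp1] at hle
  exact not_le.2 hZS (Groth.Agent.CharCyc46.dim_base_le f q hYc hZc hη hζ hWI hp hle)

end Groth.Agent.S14484
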