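import Groth.Statements.S14485
import Groth.Agent.CharCyc46.WellInt

set_option autoImplicit false
universe u
open CategoryTheory CategoryTheory.Limits AlgebraicGeometry
open CharCyc

namespace Groth.Agent.S14485

/-- Let k be a field and let f : X → S be a morphism between separated k-schemes of finite type. Two
closed subsets Y, Z of X are said to well intersect with respect to f when dim(Y ×_S Z ∖ Y ×_X Z) ≤
dim Y + dim Z − dim S; here Y ×_S Z ∖ Y ×_X Z is taken as the subspace of X ×_S X of points whose
two projections lie in Y and in Z and which are not in the image of the diagonal, and the inequality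
is written additively as dim(Y ×_S Z ∖ Y ×_X Z) + dim S ≤ dim Y + dim Z (topological Krull
dimensions, the empty space having dimension ⊥). Let Y, Z ⊆ X be closed subsets, and let g : S' → S
be faithfully flat with every fibre of dimension d (relative constant dimension d), where S' is
again a separated k-scheme of finite type. Write f' : X' = X ×_S S' → S' for the base change and Y',
Z' ⊆ X' for the preimages of Y, Z. Then well-intersection of Y, Z with respect to f is equivalent to
well-intersection of Y', Z' with respect to f'. -/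
theorem result (k : Type u) [Field k] (X S S' : Scheme.{u})
    (q : S ⟶ Spec (CommRingCat.of k)) (f : X ⟶ S) (g : S' ⟶ S)
    [LocallyOfFiniteType q] [CompactSpace S] [IsSeparated q] [LocallyOfFiniteType f] [CompactSpace X] [IsSeparated f]
    [LocallyOfFiniteType g] [CompactSpace S'] [IsSeparated g] [Flat g] [Surjective g]
    (d : ℕ) (hd : ∀ s : S, topologicalKrullDim (g.fiber s) = d)
    (Y Z : Set X) (hYc : IsClosed Y) (hZc : IsClosed Z) :
    (topologicalKrullDim {p : ↥(pullback f f) | pullback.fst f f p ∈ Y ∧ pullback.snd f f p ∈ Z ∧ p ∉ Set.range (pullback.diagonal f)} + topologicalKrullDim S ≤ topologicalKrullDim Y + topologicalKrullDim Z) ↔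
      (topologicalKrullDim {p : ↥(pullback (pullback.snd f g) (pullback.snd f g)) | pullback.fst (pullback.snd f g) (pullback.snd f g) p ∈ ((pullback.fst f g) ⁻¹' Y) ∧ pullback.snd (pullback.snd f g) (pullback.snd f g) p ∈ ((pullback.fst f g) ⁻¹' Z) ∧ p ∉ Set.range (pullback.diagonal (pullback.snd f g))} + topologicalKrullDim S' ≤ topologicalKrullDim ((pullback.fst f g) ⁻¹' Y) + topologicalKrullDim ((pullback.fst f g) ⁻¹' Z)) := by
  let gX := pullback.fst f g
  let f' := pullback.snd f g
  have sqX : IsPullback f' gX g f := (IsPullback.of_hasPullback f g).flip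
  let m : pullback f' f' ⟶ pullback f f :=
    pullback.lift (pullback.fst f' f' ≫ gX) (pullback.snd f' f' ≫ gX) (by
      simp only [gX, Category.assoc, pullback.condition]
      simp only [← Category.assoc, f', pullback.condition])
  have hm1 : m ≫ pullback.fst f f = pullback.fst f' f' ≫ gX := pullback.lift_fst _ _ _
  have hm2 : m ≫ pullback.snd f f = pullback.snd f' f' ≫ gX := pullback.lift_snd _ _ _
  have big : IsPullback (m ≫ pullback.snd f f) (pullback.fst f' f') f (gX ≫ f) := by
    rw [hm2, show gX ≫ f = f' ≫ g from pullback.condition]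
    exact (IsPullback.of_hasPullback f' f').flip.paste_horiz (IsPullback.of_hasPullback f g)
  have sqFst : IsPullback m (pullback.fst f' f') (pullback.fst f f) gX :=
    IsPullback.of_right big hm1 (IsPullback.of_hasPullback f f).flip
  have sqP : IsPullback (pullback.fst f' f' ≫ f') m g (pullback.fst f f ≫ f) :=
    (sqFst.paste_vert sqX.flip).flip
  haveI : LocallyOfFiniteType m := MorphismProperty.of_isPullback sqP ‹LocallyOfFiniteType g›
  have hΔ : pullback.diagonal f' ≫ m = gX ≫ pullback.diagonal f := by
    apply pullback.hom_ext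
    · exact (Category.assoc _ _ _).trans ((congrArg _ hm1).trans ((Category.assoc _ _ _).symm.trans (by simp)))
    · exact (Category.assoc _ _ _).trans ((congrArg _ hm2).trans ((Category.assoc _ _ _).symm.trans (by simp)))
  have sqΔ : IsPullback gX (pullback.diagonal f') (pullback.diagonal f) m := by
    refine IsPullback.of_bot ?_ hΔ.symm sqFst
    rw [pullback.diagonal_fst, pullback.diagonal_fst]
    exact IsPullback.of_vert_isIso ⟨by simp⟩
  have hset : Groth.Agent.CharCyc46.offDiag f' (gX ⁻¹' Y) (gX ⁻¹' Z) = m ⁻¹' Groth.Agent.CharCyc46.offDiag f Y Z := by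
    ext p
    have e1 : pullback.fst f f (m p) = gX (pullback.fst f' f' p) := by
      rw [← Scheme.Hom.comp_apply, hm1, Scheme.Hom.comp_apply]
    have e2 : pullback.snd f f (m p) = gX (pullback.snd f' f' p) := by
      rw [← Scheme.Hom.comp_apply, hm2, Scheme.Hom.comp_apply]
    have e3 : p ∈ Set.range (pullback.diagonal f') ↔ m p ∈ Set.range (pullback.diagonal f) := by
      constructor
      · rintro ⟨x, rfl⟩
        exact ⟨gX x, by rw [← Scheme.Hom.comp_apply, ← Scheme.Hom.comp_apply, hΔ]⟩
      · rintro ⟨x, hx⟩
        obtain ⟨x', -, hx'⟩ := Scheme.exists_preimage_of_isPullback sqΔ x p hx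
        exact ⟨x', hx'⟩
    simp only [Groth.Agent.CharCyc46.offDiag, Set.mem_ofPred_eq, Set.mem_preimage, e1, e2, e3]
  have hT := Groth.Agent.CharCyc46.isLocallyClosed_offDiag f hYc hZc
  have dT := Groth.Agent.CharCyc46.dim_preimage_baseChange sqP q d hd hT
  have dY := Groth.Agent.CharCyc46.dim_preimage_baseChange sqX q d hd hYc.isLocallyClosed
  have dZ := Groth.Agent.CharCyc46.dim_preimage_baseChange sqX q d hd hZc.isLocallyClosed
  have dS : topologicalKrullDim ↥S' = topologicalKrullDim ↥S + (d : WithBot ℕ∞) := by
    have h0 : IsPullback (𝟙 S') g g (𝟙 S) := IsPullback.of_horiz_isIso ⟨by simp⟩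
    have h := Groth.Agent.CharCyc46.dim_preimage_baseChange h0 q d hd (isOpen_univ (X := S)).isLocallyClosed
    rw [Set.preimage_univ] at h
    rw [(Homeomorph.Set.univ S').isHomeomorph.topologicalKrullDim_eq,
      (Homeomorph.Set.univ S).isHomeomorph.topologicalKrullDim_eq] at h
    exact h
  change topologicalKrullDim ↥(Groth.Agent.CharCyc46.offDiag f Y Z) + _ ≤ _ ↔
    topologicalKrullDim ↥(Groth.Agent.CharCyc46.offDiag f' (gX ⁻¹' Y) (gX ⁻¹' Z)) + _ ≤
      topologicalKrullDim ↥(gX ⁻¹' Y) + topologicalKrullDim ↥(gX ⁻¹' Z)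
  rw [hset, dT, dY, dZ, dS]
  exact Groth.Agent.CharCyc46.add_le_add_nat_iff _ _ _ _ d

end Groth.Agent.S14485
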