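import Groth.Statements.S14486
import Groth.Agent.SurfInt.Adj.Apps
import Groth.Agent.SurfInt.AsympLib
import Groth.Agent.CurveBC.Coh

set_option autoImplicit false
set_option linter.style.haveILetI false
set_option linter.unusedSectionVars false
set_option backward.isDefEq.respectTransparency false
set_option backward.isDefEq.respectTransparency.types false
universe u
open CategoryTheory CategoryTheory.Limits AlgebraicGeometry
open Surf

namespace Groth.Agent.S14486

/-- Let k be an algebraically closed field and X a projective K3 surface over k: an integral scheme of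
dimension two with all local rings regular, admitting a closed immersion into some P^n_k over k,
whose structure sheaf O_X is a second exterior power of Ω_{X/k} (the canonical sheaf is trivial) and
with H^1(X, O_X) = 0. Let C be a nonsingular curve of genus g on X: an integral closed subscheme of
dimension one with all local rings regular, with ideal sheaf I ⊆ O_X and g = dim_k H^1(C, O_C); let
M be an inverse of I for the tensor product (M = O_X(C)). Then C² = 2g - 2 and h^0(X, O_X(C)) = g +
1. Writing (L·L') for the intersection number χ(O_X) - χ(L) - χ(L') + χ(L ⊗ L') of two invertible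
modules (packaged as FGA.intNum), C² = (I·I), so the assertion reads (I·I) = 2g - 2 and dim_k H^0(X,
M) = g + 1. (A K3 surface is only required to be proper; this row assumes the projective embedding.) -/
theorem result (k : Type u) [Field k] [IsAlgClosed k] (X : Scheme.{u})
    [X.Over (Spec (CommRingCat.of k))] [IsIntegral X] (hdim : topologicalKrullDim X = 2)
    (hreg : ∀ x : X, IsRegularLocalRing (X.presheaf.stalk x))
    (hproj : ∃ (n : ℕ) (ι : X ⟶ CohB1.ProjSpace n k), IsClosedImmersion ι ∧
      ι ≫ CohB1.ProjSpace.toSpec n k = (X ↘ (Spec (CommRingCat.of k))))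
    (hK : ExtPow.IsExtPow 2 (Omega.sheaf (X ↘ (Spec (CommRingCat.of k)))) (Coh.structureModule X))
    (hH1 : Subsingleton (Coh.HH X (Coh.structureModule X) 1))
    (C : Scheme.{u}) (i : C ⟶ X) [IsClosedImmersion i] [IsIntegral C] (hC : topologicalKrullDim C = 1)
    (hCreg : ∀ c : C, IsRegularLocalRing (C.presheaf.stalk c))
    (M : X.Modules) (hM : ClSub.IsInverseOf M (ClSub.idealMod i.ker)) :
    letI : C.Over (Spec (CommRingCat.of k)) := ⟨i ≫ (X ↘ (Spec (CommRingCat.of k)))⟩
    FGA.intNum k X 2 ![ClSub.idealMod i.ker, ClSub.idealMod i.ker] (Coh.structureModule X) =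
        2 * (Curv2.genus k C : ℤ) - 2 ∧
      Module.finrank k (Coh.HH X M 0) = Curv2.genus k C + 1 := by
  open Groth.Agent in
  open scoped Groth.Agent.H23.PicMul in
  open Groth.Agent.PnCoh.Finite (mapLin) in
  letI : C.Over (Spec (CommRingCat.of k)) := ⟨i ≫ (X ↘ Spec (CommRingCat.of k))⟩
  haveI := SurfInt.isProper_of_proj k hproj
  haveI := SurfInt.isProper_comp k i rfl
  haveI := SurfInt.noeth k (X := X)
  haveI := SurfInt.noeth k (X := C)
  obtain ⟨φ, hφ⟩ := SurfInt.exists_iso_subscheme i
  haveI : IsIntegral i.ker.subscheme :=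
    haveI : Nonempty i.ker.subscheme := ⟨φ.hom (genericPoint C)⟩
    isIntegral_of_isOpenImmersion φ.inv
  have hd1 : topologicalKrullDim (i.ker.support : Set X) = 1 := by
    rw [← SurfInt.dim_subscheme i.ker,
      IsHomeomorph.topologicalKrullDim_eq _ (Scheme.homeoOfIso φ.symm).isHomeomorph]
    exact hC
  have hI := SurfInt.isInvertible_curve k hdim hreg i.ker hd1
  have hD := (S8914.result _).1 hI
  have hMi := SurfInt.isInvertible_of_isInverse hI (SurfInt.isInverseOf_comm hM)
  have hadj := (SurfInt.Adj.adjunction k hdim hreg hK C i rfl hC (fun c _ => hCreg c) hD).1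
  have hO := SurfInt.dot_one_right k hdim.le hI
  refine ⟨?_, ?_⟩
  · show SurfInt.dot k (ClSub.idealMod i.ker) (ClSub.idealMod i.ker) = _
    omega
  -- sections
  haveI : Smooth (C ↘ Spec (CommRingCat.of k)) :=
    SurfInt.Adj.smooth_of_regular_closed k (C ↘ Spec (CommRingCat.of k)) fun c _ => hCreg c
  have h0C : Module.finrank k (Coh.HH C (Coh.structureModule C) 0) = 1 := CurveCohLib.finrank_h0_eq_one k C
  have hΩC : PicF.IsInvertible (Omega.sheaf (i ≫ (X ↘ Spec (CommRingCat.of k)))) :=
    CurveBC.isInvertible_omega k C hC h0C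
  have hgΩ := (CurveBC.canonical_invariants k C hC h0C).1
  obtain ⟨eA⟩ := SurfInt.Adj.nonempty_adjunction_iso i (X ↘ Spec (CommRingCat.of k)) hD
    (SurfInt.Adj.omega_rank_two k hdim hreg) hΩC hK
  obtain ⟨eM⟩ := hM
  have hMI : PicF.cl ((Scheme.Modules.pullback i).obj M) *
      PicF.cl ((Scheme.Modules.pullback i).obj (ClSub.idealMod i.ker)) = 1 := by
    rw [← H23.PicMul.cl_tensor, H23.PicMul.one_def]
    exact H23.PicMul.cl_eq_iff.2 ⟨(((KFlatLib.pullTensorBiIso i).app M).app (ClSub.idealMod i.ker)).symm ≪≫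
      (Scheme.Modules.pullback i).mapIso eM ≪≫ CurveBC.unitIso i⟩
  obtain ⟨eΩ⟩ : Nonempty ((Scheme.Modules.pullback i).obj M ≅ Omega.sheaf (i ≫ (X ↘ Spec (CommRingCat.of k)))) := by
    refine H23.PicMul.cl_eq_iff.1 ?_
    have h := H23.PicMul.cl_eq_iff.2 (Nonempty.intro ((CurveBC.unitIso i).symm ≪≫ eA))
    rw [← H23.PicMul.one_def, H23.PicMul.cl_tensor] at h
    calc _ = PicF.cl ((Scheme.Modules.pullback i).obj M) * 1 := (mul_one _).symm
      _ = _ := by rw [h, ← mul_assoc, hMI, one_mul]
  -- the sheaf on the curve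
  haveI := KFlatLib.isIso_projMod_of_isClosedImmersion i (Coh.structureModule C) M
  obtain ⟨ec⟩ := H23.PicMul.comm M (ClSub.quotMod i.ker)
  obtain ⟨ep⟩ := QCoh.HH_push_linear i (Coh.toGlobal (X ↘ Spec (CommRingCat.of k)))
    (Coh.toGlobal (C ↘ Spec (CommRingCat.of k))) (fun a => rfl)
    (CurveDeg.isCoh_of_isInvertible (PicClLib.isInvertible_pullback i hMi)).1 0
  have h3 : Module.finrank k (Coh.HH X (CohB1.tensorMod M (ClSub.quotMod i.ker)) 0) = Curv2.genus k C :=
    ((SurfInt.finrank_congr k (ec ≪≫ PicGrp.tensorModIso (SurfInt.nonempty_quotMod_iso i).some (Iso.refl M) ≪≫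
      asIso (KFlatLib.projMod i (Coh.structureModule C) M) ≪≫
      (Scheme.Modules.pushforward i).mapIso (CurveTensor.structureTensorIso _)) 0).trans ep.finrank_eq.symm).trans
      ((SurfInt.finrank_congr k eΩ 0).trans hgΩ)
  -- the sequence
  obtain ⟨S, hS, e1, e2, e3⟩ : ∃ S : ShortComplex X.Modules, S.ShortExact ∧
      PicF.cl S.X₁ = 1 ∧ PicF.cl S.X₂ = PicF.cl M ∧
      S.X₃ = CohB1.tensorMod M (ClSub.quotMod i.ker) :=
    ⟨_, CurveTensor.shortExact_tensor (E := M) (H23.PullPush.isFinLocFree_of_isInvertible hMi) _ _ _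
      (SurfInt.shortExact_ideal i.ker), (H23.PicMul.cl_eq_iff.2 ⟨eM⟩).trans H23.PicMul.one_def.symm,
      by rw [← mul_one (PicF.cl M)]; rfl, rfl⟩
  obtain ⟨q1⟩ : Nonempty (S.X₁ ≅ Coh.structureModule X) :=
    H23.PicMul.cl_eq_iff.1 (e1.trans H23.PicMul.one_def)
  obtain ⟨q2⟩ := H23.PicMul.cl_eq_iff.1 e2
  haveI : Subsingleton (Coh.HH X S.X₁ 1) := QCoh.subsingleton_HH_of_iso q1.symm 1 hH1
  haveI := CurveCohLib.finite_HH (k := k) (SurfInt.isCoh_congr q2.symm (CurveDeg.isCoh_of_isInvertible hMi)) 0
  have hinj : Function.Injective (mapLin k S.f 0) := CurveCohLib.mapLin_f_zero_injective (A := k) hS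
  have hsurj : LinearMap.range (mapLin k S.g 0) = ⊤ :=
    LinearMap.range_eq_top.2 (SurfInt.exists_map_eq_of_subsingleton hS 0 inferInstance)
  have hr := LinearMap.finrank_range_add_finrank_ker (mapLin k S.g 0)
  rw [hsurj, finrank_top, CurveCohLib.ker_mapLin_g (A := k) hS 0, LinearMap.finrank_range_of_inj hinj,
    SurfInt.finrank_congr k q1, SurfInt.finrank_congr k q2, SurfInt.Adj.finrank_h0_integral k X, e3, h3] at hr
  omega

end Groth.Agent.S14486
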