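import Groth.Statements.S14517
import Groth.Agent.SurfInt.Contract
import Groth.Agent.S10829

set_option autoImplicit false
set_option linter.style.haveILetI false
set_option linter.unusedSectionVars false
set_option backward.isDefEq.respectTransparency false
set_option backward.isDefEq.respectTransparency.types false
universe u
open CategoryTheory CategoryTheory.Limits AlgebraicGeometry
open Surf

namespace Groth.Agent.S14517

/-- Let k be an algebraically closed field, X a smooth projective surface over k (integral, smooth over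
k, of dimension two, with a closed immersion over k into some projective space) and C ⊆ X a curve,
given by a closed immersion i : C → X, with C isomorphic to P^1_k over k and (C·C) = −n for some n >
0, the self-intersection being the alternating Euler-characteristic sum computed in the ideal I_C =
O_X(−C) (the prelude's FGA.intNum). Then there are a projective surface Y over k (integral, of
dimension two, with a closed immersion over k into some projective space), a morphism g : X → Y over
k and a closed point P of Y such that g^{-1}(P) = C as sets and g restricts to an isomorphism over Y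
∖ {P}. (The published statement also identifies the completed local ring of Y at P with that of the
vertex of the affine cone over a rational normal curve of degree n; this row omits that clause.) -/
theorem result (k : Type u) [Field k] [IsAlgClosed k]
    (X : Scheme.{u}) [X.Over (Spec (CommRingCat.of k))] [IsIntegral X] [Smooth (X ↘ (Spec (CommRingCat.of k)))] (hdim : topologicalKrullDim X = 2)
    (hprojX : ∃ (N : ℕ) (ι : X ⟶ CohB1.ProjSpace N k), IsClosedImmersion ι ∧ ι ≫ CohB1.ProjSpace.toSpec N k = (X ↘ (Spec (CommRingCat.of k))))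
    (C : Scheme.{u}) (i : C ⟶ X) [IsClosedImmersion i]
    (e : C ≅ CohB1.ProjSpace 1 k) (he : e.hom ≫ CohB1.ProjSpace.toSpec 1 k = i ≫ (X ↘ (Spec (CommRingCat.of k))))
    (n : ℕ) (hn : 0 < n)
    (hCC : FGA.intNum k X 2 ![ClSub.idealMod i.ker, ClSub.idealMod i.ker] (Coh.structureModule X) = -(n : ℤ)) :
    ∃ (Y : Scheme.{u}) (q : Y ⟶ Spec (CommRingCat.of k)) (g : X ⟶ Y) (P : Y) (hP : IsClosed ({P} : Set Y)),
      g ≫ q = (X ↘ (Spec (CommRingCat.of k))) ∧ IsIntegral Y ∧ topologicalKrullDim Y = 2 ∧
      (∃ (N : ℕ) (ι : Y ⟶ CohB1.ProjSpace N k), IsClosedImmersion ι ∧ ι ≫ CohB1.ProjSpace.toSpec N k = q) ∧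
      (∀ x : X, g x = P ↔ x ∈ Set.range i) ∧
      IsIso (g ∣_ (⟨({P} : Set Y)ᶜ, hP.isOpen_compl⟩ : Y.Opens)) := by
  open Groth.Agent in
  obtain ⟨N, ι, hι, hιp⟩ := hprojX
  haveI := hι
  haveI : IsProper (CohB1.ProjSpace.toSpec N k) := PnCoh.Chow.isProper_toSpec N k
  haveI : IsProper (X ↘ Spec (CommRingCat.of k)) := by rw [← hιp]; infer_instance
  have hH := SurfInt.isAmple_pullback_O1 ι
  have hreg := SurfInt.isRegular_of_smooth k (X := X)
  haveI : IsIntegral C := by
    haveI := H23.PnChart.isIntegral_projSpace 1 k
    haveI : Nonempty C := ⟨e.inv (genericPoint (CohB1.ProjSpace 1 k))⟩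
    exact isIntegral_of_isOpenImmersion e.hom
  obtain ⟨φ, hφ⟩ := SurfInt.exists_iso_subscheme i
  haveI : IsIntegral i.ker.subscheme :=
    haveI : Nonempty i.ker.subscheme := ⟨φ.hom (genericPoint C)⟩
    isIntegral_of_isOpenImmersion φ.inv
  have hd1 : topologicalKrullDim (i.ker.support : Set X) = 1 := by
    rw [← SurfInt.dim_subscheme i.ker,
      IsHomeomorph.topologicalKrullDim_eq _ (Scheme.homeoOfIso (φ.symm ≪≫ e)).isHomeomorph]
    simpa using S10829.result k 1
  have he' : (φ.symm ≪≫ e).hom ≫ CohB1.ProjSpace.toSpec 1 k =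
      i.ker.subschemeι ≫ (X ↘ Spec (CommRingCat.of k)) := by
    rw [Iso.trans_hom, Category.assoc, he, Iso.symm_hom, Iso.inv_comp_eq]
    exact (congrArg (fun t => t ≫ (X ↘ Spec (CommRingCat.of k))) hφ).symm.trans (Category.assoc _ _ _)
  have hν : SurfInt.degOn k (ClSub.quotMod i.ker) (ClSub.idealMod i.ker) = (n : ℤ) := by
    have h1 : SurfInt.dot k (ClSub.idealMod i.ker) (ClSub.idealMod i.ker) = -(n : ℤ) := hCC
    have hIi := SurfInt.isInvertible_curve k hdim hreg i.ker hd1
    rw [SurfInt.dot_ideal_left k hdim.le i.ker hIi hIi] at h1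
    omega
  obtain ⟨Y, q, g, P, hP, h1, h2, h3, h4, h5, h6⟩ :=
    SurfInt.exists_contraction k hdim hreg hH i.ker hd1 (φ.symm ≪≫ e) he' hn hν
  refine ⟨Y, q, g, P, hP, h1, h2, h3, h4, fun x => (h5 x).trans ?_, h6⟩
  have hc : IsClosed (Set.range i) := i.isClosedEmbedding.isClosed_range
  rw [Scheme.Hom.support_ker, hc.closure_eq]

end Groth.Agent.S14517
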