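import Groth.Statements.S1452
import Groth.Agent.FlatB12.UnibEt
import Groth.Agent.SrcDescent.Scheme

set_option autoImplicit false
universe u
open FlatMor

namespace Groth.Agent.S1452

open AlgebraicGeometry CategoryTheory Limits in
/-- Let f : X → Y and g : Y → Z with Y integral and the local ring of Y at y = f x geometrically
unibranch; assume g ∘ f is étale on an open neighbourhood of x and some generization of x maps to
the generic point of Y. Then f is étale on an open neighbourhood of x and g is étale on an open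
neighbourhood of y. -/
theorem result {X Y Z : Scheme.{u}} (f : X ⟶ Y) (g : Y ⟶ Z) [IsIntegral Y] (x : X)
    (hY : CAlg2.IsGeomUnibranch (Y.presheaf.stalk (f x))) (het : ∃ U : X.Opens, x ∈ U ∧ Etale (U.ι ≫ f ≫ g))
    (hsp : ∃ x' : X, x' ⤳ x ∧ f x' = genericPoint ↑Y) :
    (∃ U : X.Opens, x ∈ U ∧ Etale (U.ι ≫ f)) ∧ ∃ V : Y.Opens, f x ∈ V ∧ Etale (V.ι ≫ g) := by
  obtain ⟨U, hxU, hU⟩ := het
  haveI : Etale ((U.ι ≫ f) ≫ g) := by rw [Category.assoc]; exact hU
  haveI : LocallyOfFiniteType (U.ι ≫ f) := locallyOfFiniteType_of_comp _ g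
  haveI : FormallyUnramified (U.ι ≫ f) := FormallyUnramified.of_comp _ g
  obtain ⟨x', hx', hfx'⟩ := hsp
  obtain ⟨U', hxU', hU'⟩ := FlatB12.etale_nhd_of_unramified_nhd (U.ι ≫ f) (⟨x, hxU⟩ : U.toScheme) hY
    ⟨⟨x', hx'.mem_open U.2 hxU⟩, Topology.IsInducing.subtypeVal.specializes_iff.1 hx', hfx'⟩
    ⟨⊤, trivial, MorphismProperty.comp_mem @FormallyUnramified _ _ inferInstance inferInstance⟩
  have hmain : Etale ((U.ι ''ᵁ U').ι ≫ f) := by
    have : (U.ι ''ᵁ U').ι = (U.ι.isoImage U').inv ≫ U'.ι ≫ U.ι := by rw [Scheme.Hom.isoImage_inv_ι]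
    rw [this]
    simp only [Category.assoc]
    infer_instance
  refine ⟨⟨U.ι ''ᵁ U', ⟨_, hxU', rfl⟩, hmain⟩, ?_⟩
  let e := U'.ι ≫ U.ι ≫ f
  haveI : Etale e := hU'
  let V : Y.Opens := ⟨Set.range e, e.isOpenMap.isOpen_range⟩
  refine ⟨V, ⟨(⟨⟨x, hxU⟩, hxU'⟩ : U'.toScheme), rfl⟩, ?_⟩
  let e' : U'.toScheme ⟶ V.toScheme := IsOpenImmersion.lift V.ι e (by rw [Scheme.Opens.range_ι]; rfl)
  have he' : e' ≫ V.ι = e := IsOpenImmersion.lift_fac _ _ _
  haveI : Etale (e' ≫ V.ι) := by rw [he']; infer_instance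
  haveI : Etale e' := Etale.of_comp e' V.ι
  haveI : Surjective e' := ⟨by
    rintro ⟨_, u, rfl⟩
    exact ⟨u, V.ι.isOpenEmbedding.injective (by rw [← Scheme.Hom.comp_apply, he']; rfl)⟩⟩
  refine SrcDescent.etale_of_etale_comp e' (V.ι ≫ g) ?_
  rw [← Category.assoc, he']
  simp only [e, Category.assoc]
  infer_instance

end Groth.Agent.S1452
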