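import Groth.Statements.S14525
import Groth.Agent.SurfInt.Growth

set_option autoImplicit false
set_option linter.style.haveILetI false
set_option linter.unusedSectionVars false
set_option backward.isDefEq.respectTransparency false
set_option backward.isDefEq.respectTransparency.types false
universe u
open CategoryTheory CategoryTheory.Limits AlgebraicGeometry
open Surf

namespace Groth.Agent.S14525

/-- Let k be an algebraically closed field, X a smooth projective surface over k (integral, smooth over
k, of dimension two, with a closed immersion over k into some projective space), L an invertible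
O_X-module with tensor inverse L' such that (L·L) > 0, and M an ample invertible module with tensor
inverse M'; intersection numbers are the alternating Euler-characteristic sums in the inverses (the
prelude's FGA.intNum, so (L·L) is computed in L', L' and (L·M) in L', M'). Then (L·M) ≠ 0; if (L·M)
> 0 there is c > 0 with dim_k H^0(X, L^{⊗m}) > c·m² for all large m, and if (L·M) < 0 the same holds
for L' in place of L. -/
theorem result (k : Type u) [Field k] [IsAlgClosed k]
    (X : Scheme.{u}) [X.Over (Spec (CommRingCat.of k))] [IsIntegral X] [Smooth (X ↘ (Spec (CommRingCat.of k)))] (hdim : topologicalKrullDim X = 2)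
    (hprojX : ∃ (N : ℕ) (ι : X ⟶ CohB1.ProjSpace N k), IsClosedImmersion ι ∧ ι ≫ CohB1.ProjSpace.toSpec N k = (X ↘ (Spec (CommRingCat.of k))))
    (L L' : X.Modules) (hL : PicF.IsInvertible L) (hLL' : ClSub.IsInverseOf L L')
    (hpos : 0 < FGA.intNum k X 2 ![L', L'] (Coh.structureModule X))
    (M M' : X.Modules) (hM : CohB1.IsAmple M) (hMM' : ClSub.IsInverseOf M M') :
    FGA.intNum k X 2 ![L', M'] (Coh.structureModule X) ≠ 0 ∧
    (0 < FGA.intNum k X 2 ![L', M'] (Coh.structureModule X) →
      ∃ c : ℚ, 0 < c ∧ ∃ m₀ : ℕ, ∀ m : ℕ, m₀ ≤ m →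
        c * (m : ℚ) ^ 2 < (Module.finrank k (Coh.HH X (CohB1.tensorPow L m) 0) : ℚ)) ∧
    (FGA.intNum k X 2 ![L', M'] (Coh.structureModule X) < 0 →
      ∃ c : ℚ, 0 < c ∧ ∃ m₀ : ℕ, ∀ m : ℕ, m₀ ≤ m →
        c * (m : ℚ) ^ 2 < (Module.finrank k (Coh.HH X (CohB1.tensorPow L' m) 0) : ℚ)) := by
  open Groth.Agent in
  haveI : IsProper (X ↘ Spec (CommRingCat.of k)) := SurfInt.isProper_of_proj k hprojX
  have hd := hdim.le
  have hL' := SurfInt.isInvertible_of_isInverse hL hLL'
  have hM' := SurfInt.isInvertible_of_isInverse hM.1 hMM'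
  replace hpos : 0 < SurfInt.dot k L L := by
    have h : 0 < SurfInt.dot k L' L' := hpos
    rwa [SurfInt.dot_inv_inv k hd hL hL' hL hL' hLL' hLL'] at h
  show SurfInt.dot k L' M' ≠ 0 ∧ (0 < SurfInt.dot k L' M' → _) ∧ (SurfInt.dot k L' M' < 0 → _)
  rw [SurfInt.dot_inv_inv k hd hL hL' hM.1 hM' hLL' hMM']
  refine ⟨fun h0 => absurd hpos (not_lt.2 (SurfInt.dot_self_nonpos_of_dot_ample k hdim hL hM h0)),
    fun h => SurfInt.quadratic_growth k hdim hL hM h hpos, fun h => ?_⟩
  refine SurfInt.quadratic_growth k hdim hL' hM ?_ ?_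
  · rw [SurfInt.dot_inv_left k hd hL hL' hM.1 hLL']
    omega
  · rwa [SurfInt.dot_inv_inv k hd hL hL' hL hL' hLL' hLL']

end Groth.Agent.S14525
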