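import Groth.Statements.S14546
import Groth.Agent.FlatMor3.WeilRep
import Groth.Agent.MiscTwoH99.GammaProd.Hom

set_option autoImplicit false
universe u
open CategoryTheory MonoidalCategory CartesianMonoidalCategory MonObj GrpObj AlgebraicGeometry
open PrincBund
open Groth.Agent.MiscTwoH99 TensorProduct CategoryTheory.Limits

namespace Groth.Agent.S14546

/-- the universal algebra is of finite type when the source is -/
theorem finiteType_weilAlg {R : Type u} [Field R] {B P A : Type u} [CommRing B] [Algebra R B]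
    [CommRing P] [Algebra R P] [CommRing A] [Algebra R A] (univ : P →ₐ[R] B ⊗[R] A)
    (hu : ∀ (C : Type u) [CommRing C] [Algebra R C], Function.Bijective fun h : A →ₐ[R] C =>
      (Algebra.TensorProduct.map (AlgHom.id R B) h).comp univ)
    (hP : Algebra.FiniteType R P) : Algebra.FiniteType R A := by
  classical
  obtain ⟨s, hs⟩ := hP.out
  choose t ht using fun p : P => TensorProduct.exists_finset (univ p)
  let A0 : Subalgebra R A := Algebra.adjoin R (↑((s.biUnion t).image Prod.snd) : Set A)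
  let inc : B ⊗[R] A0 →ₐ[R] B ⊗[R] A := Algebra.TensorProduct.map (AlgHom.id R B) A0.val
  have hinj : Function.Injective inc :=
    Module.Flat.lTensor_preserves_injective_linearMap A0.val.toLinearMap Subtype.val_injective
  have hmem : ∀ p : P, univ p ∈ inc.range := by
    intro p
    have hp : p ∈ Algebra.adjoin R (↑s : Set P) := hs ▸ Algebra.mem_top
    have hle : Algebra.adjoin R (↑s : Set P) ≤ inc.range.comap univ := by
      refine Algebra.adjoin_le fun q hq => ?_
      show univ q ∈ inc.range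
      rw [ht q]
      refine Subalgebra.sum_mem _ fun i hi => ?_
      exact ⟨i.1 ⊗ₜ ⟨i.2, Algebra.subset_adjoin
        (Finset.mem_image.2 ⟨i, Finset.mem_biUnion.2 ⟨q, hq, hi⟩, rfl⟩)⟩, by simp [inc]⟩
    exact hle hp
  let g : P →ₐ[R] B ⊗[R] A0 :=
    (AlgEquiv.ofInjective inc hinj).symm.toAlgHom.comp (univ.codRestrict inc.range hmem)
  have hg : ∀ p, inc (g p) = univ p := fun p => by
    have h1 := (AlgEquiv.ofInjective inc hinj).apply_symm_apply (univ.codRestrict inc.range hmem p)
    exact congrArg Subtype.val h1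
  obtain ⟨v, hv⟩ := (hu A0).2 g
  have hid : A0.val.comp v = AlgHom.id R A := by
    refine (hu A).1 (AlgHom.ext fun p => ?_)
    show Algebra.TensorProduct.map (AlgHom.id R B) (A0.val.comp v) (univ p) =
      Algebra.TensorProduct.map (AlgHom.id R B) (AlgHom.id R A) (univ p)
    rw [← Groth.Agent.FlatMor3.WeilRep.map_id_map_id',
      show Algebra.TensorProduct.map (AlgHom.id R B) v (univ p) = g p from AlgHom.congr_fun hv p]
    simpa [inc] using hg p
  refine ⟨⟨(s.biUnion t).image Prod.snd, eq_top_iff.2 fun a _ => ?_⟩⟩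
  have h := (v a).2
  rwa [show ((v a : A0) : A) = a from AlgHom.congr_fun hid a] at h

/-- the statement, over an arbitrary affine base whose ring of global functions is a field -/
theorem core {S : Scheme.{u}} [IsAffine S] (hS : IsField Γ(S, ⊤)) (X : Over S) [CompactSpace ↥X.left]
    (hfin : X.hom.appTop.hom.Finite) (Z : Over S) [IsAffine Z.left] :
    ∃ (M : Over S) (_ : IsAffine M.left) (ev : X ⊗ M ⟶ Z),
      (∀ (T : Over S) (f : X ⊗ T ⟶ Z), ∃! g : T ⟶ M, (X ◁ g) ≫ ev = f) ∧
      (LocallyOfFiniteType Z.hom → LocallyOfFiniteType M.hom) := by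
  letI := hS.toField
  letI := X.hom.appTop.hom.toAlgebra
  letI := Z.hom.appTop.hom.toAlgebra
  haveI : Module.Finite Γ(S, ⊤) Γ(X.left, ⊤) := hfin
  obtain ⟨A, _, _, univ, hu⟩ :=
    Groth.Agent.FlatMor3.WeilRep.exists_weilAlg (B := Γ(S, ⊤)) (B' := Γ(X.left, ⊤)) Γ(Z.left, ⊤)
  let a : Γ(S, ⊤) ⟶ CommRingCat.of A := CommRingCat.ofHom (algebraMap Γ(S, ⊤) A)
  let M : Over S := Over.mk (Spec.map a ≫ S.isoSpec.inv)
  haveI hMaff : IsAffine M.left := inferInstanceAs (IsAffine (Spec _))
  let gm : CommRingCat.of A ⟶ Γ(M.left, ⊤) := (Scheme.ΓSpecIso (CommRingCat.of A)).inv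
  have hM : M.hom.appTop = a ≫ gm := by
    show (Spec.map a ≫ S.isoSpec.inv).appTop = _
    have h1 : (Spec.map a ≫ S.isoSpec.inv) ≫ S.isoSpec.hom = Spec.map a := by simp
    have h2 := congrArg Scheme.Hom.appTop h1
    simp only [Scheme.Hom.comp_appTop, Scheme.isoSpec_hom, Scheme.toSpecΓ_appTop] at h2
    rw [Scheme.Hom.comp_appTop, ← cancel_epi (Scheme.ΓSpecIso Γ(S, ⊤)).hom, h2]
    show _ = (Scheme.ΓSpecIso Γ(S, ⊤)).hom ≫ a ≫ (Scheme.ΓSpecIso (CommRingCat.of A)).inv
    rw [← Scheme.ΓSpecIso_naturality_assoc, Iso.hom_inv_id, Category.comp_id]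
  have hP : ∀ (T : Over S), IsAffine T.left → IsPushout X.hom.appTop T.hom.appTop
      (fst X T).left.appTop (snd X T).left.appTop := fun T hT =>
    GammaProd.isPushout_appTop hS (IsPullback.of_hasPullback X.hom T.hom)
  have tA := CommRingCat.isPushout_tensorProduct Γ(S, ⊤) Γ(X.left, ⊤) A
  let ε : CommRingCat.of (Γ(X.left, ⊤) ⊗[Γ(S, ⊤)] A) ⟶ Γ((X ⊗ M).left, ⊤) :=
    tA.desc (fst X M).left.appTop (gm ≫ (snd X M).left.appTop) (by
      refine ((hP M hMaff).w).trans ?_
      rw [hM, Category.assoc])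
  obtain ⟨m, hm⟩ := Groth.Agent.FlatMor3.WeilRep.exists_hom_appTop (Y := Z.left)
    (CommRingCat.ofHom univ.toRingHom ≫ ε)
  have hmw : m ≫ Z.hom = (X ⊗ M).hom := by
    refine ext_of_isAffine ?_
    rw [Scheme.Hom.comp_appTop, hm, Over.tensorObj_hom, Scheme.Hom.comp_appTop]
    have h1 : Z.hom.appTop ≫ CommRingCat.ofHom univ.toRingHom =
        X.hom.appTop ≫ CommRingCat.ofHom Algebra.TensorProduct.includeLeftRingHom := by
      ext r
      exact univ.commutes r
    rw [reassoc_of% h1, tA.inl_desc]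
    rfl
  let ev : X ⊗ M ⟶ Z := Over.homMk m hmw
  have hbij : ∀ T : Over S, IsAffine T.left → Function.Bijective fun v : T ⟶ M => (X ◁ v) ≫ ev := by
    intro T hT
    letI := T.hom.appTop.hom.toAlgebra
    have tT := CommRingCat.isPushout_tensorProduct Γ(S, ⊤) Γ(X.left, ⊤) Γ(T.left, ⊤)
    let d : CommRingCat.of (Γ(X.left, ⊤) ⊗[Γ(S, ⊤)] Γ(T.left, ⊤)) ⟶ Γ((X ⊗ T).left, ⊤) :=
      tT.desc (fst X T).left.appTop (snd X T).left.appTop (hP T hT).w
    let e : Γ((X ⊗ T).left, ⊤) ⟶ CommRingCat.of (Γ(X.left, ⊤) ⊗[Γ(S, ⊤)] Γ(T.left, ⊤)) :=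
      (hP T hT).desc _ _ tT.w
    have ed : e ≫ d = 𝟙 _ := by
      apply (hP T hT).hom_ext
      · rw [(hP T hT).inl_desc_assoc, tT.inl_desc, Category.comp_id]
      · rw [(hP T hT).inr_desc_assoc, tT.inr_desc, Category.comp_id]
    have de : d ≫ e = 𝟙 _ := by
      apply tT.hom_ext
      · rw [tT.inl_desc_assoc, (hP T hT).inl_desc, Category.comp_id]
      · rw [tT.inr_desc_assoc, (hP T hT).inr_desc, Category.comp_id]
    have halg : ∀ v : T ⟶ M, a ≫ gm ≫ v.left.appTop = T.hom.appTop := fun v => by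
      rw [← reassoc_of% hM, ← Scheme.Hom.comp_appTop, Over.w]
    let toAlg : (T ⟶ M) → (A →ₐ[Γ(S, ⊤)] Γ(T.left, ⊤)) := fun v =>
      { (gm ≫ v.left.appTop).hom with
        commutes' := fun r => congrArg (fun k : Γ(S, ⊤) ⟶ Γ(T.left, ⊤) => k r) (halg v) }
    have key : ∀ v : T ⟶ M, ((X ◁ v) ≫ ev).left.appTop =
        CommRingCat.ofHom
          ((Algebra.TensorProduct.map (AlgHom.id Γ(S, ⊤) Γ(X.left, ⊤)) (toAlg v)).comp univ).toRingHom
          ≫ d := by
      intro v
      rw [Over.comp_left, Scheme.Hom.comp_appTop]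
      show m.appTop ≫ _ = _
      rw [hm, Category.assoc]
      show _ = (CommRingCat.ofHom univ.toRingHom ≫ CommRingCat.ofHom
        (Algebra.TensorProduct.map (AlgHom.id Γ(S, ⊤) Γ(X.left, ⊤)) (toAlg v)).toRingHom) ≫ d
      rw [Category.assoc]
      refine congrArg (CommRingCat.ofHom univ.toRingHom ≫ ·) (tA.hom_ext ?_ ?_)
      · rw [tA.inl_desc_assoc, ← Scheme.Hom.comp_appTop, Over.fst_left, Over.whiskerLeft_left_fst]
        have h2 : CommRingCat.ofHom Algebra.TensorProduct.includeLeftRingHom ≫ CommRingCat.ofHom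
            (Algebra.TensorProduct.map (AlgHom.id Γ(S, ⊤) Γ(X.left, ⊤)) (toAlg v)).toRingHom =
            CommRingCat.ofHom (Algebra.TensorProduct.includeLeftRingHom :
              Γ(X.left, ⊤) →+* Γ(X.left, ⊤) ⊗[Γ(S, ⊤)] Γ(T.left, ⊤)) := by
          ext b
          show Algebra.TensorProduct.map (AlgHom.id Γ(S, ⊤) Γ(X.left, ⊤)) (toAlg v) (b ⊗ₜ 1) = b ⊗ₜ 1
          simp
        rw [reassoc_of% h2, tT.inl_desc]
        rfl
      · rw [tA.inr_desc_assoc, Category.assoc, ← Scheme.Hom.comp_appTop, Over.snd_left,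
          Over.whiskerLeft_left_snd, Scheme.Hom.comp_appTop]
        have h2 : CommRingCat.ofHom (Algebra.TensorProduct.includeRight :
              A →ₐ[Γ(S, ⊤)] Γ(X.left, ⊤) ⊗[Γ(S, ⊤)] A).toRingHom ≫ CommRingCat.ofHom
            (Algebra.TensorProduct.map (AlgHom.id Γ(S, ⊤) Γ(X.left, ⊤)) (toAlg v)).toRingHom =
            (gm ≫ v.left.appTop) ≫ CommRingCat.ofHom (Algebra.TensorProduct.includeRight :
              Γ(T.left, ⊤) →ₐ[Γ(S, ⊤)] Γ(X.left, ⊤) ⊗[Γ(S, ⊤)] Γ(T.left, ⊤)).toRingHom := by
          ext b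
          show Algebra.TensorProduct.map (AlgHom.id Γ(S, ⊤) Γ(X.left, ⊤)) (toAlg v) (1 ⊗ₜ b) = 1 ⊗ₜ toAlg v b
          simp
        rw [reassoc_of% h2, tT.inr_desc]
        rfl
    constructor
    · intro v w hvw
      have h1 := congrArg (fun k : X ⊗ T ⟶ Z => k.left.appTop ≫ e) hvw
      simp only [key, Category.assoc, de, Category.comp_id] at h1
      have h2 : toAlg v = toAlg w :=
        (hu _).1 (AlgHom.coe_ringHom_injective (congrArg CommRingCat.Hom.hom h1))
      refine Over.OverMorphism.ext (ext_of_isAffine ((cancel_epi gm).1 ?_))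
      exact CommRingCat.hom_ext (RingHom.ext fun x => AlgHom.congr_fun h2 x)
    · intro f
      have hf : Z.hom.appTop ≫ f.left.appTop ≫ e =
          CommRingCat.ofHom (algebraMap Γ(S, ⊤) (Γ(X.left, ⊤) ⊗[Γ(S, ⊤)] Γ(T.left, ⊤))) := by
        rw [← Scheme.Hom.comp_appTop_assoc, Over.w f, Over.tensorObj_hom, Scheme.Hom.comp_appTop,
          Category.assoc]
        show X.hom.appTop ≫ (fst X T).left.appTop ≫ e = _
        rw [(hP T hT).inl_desc]
        rfl
      obtain ⟨h, hh⟩ := (hu Γ(T.left, ⊤)).2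
        { (f.left.appTop ≫ e).hom with
          commutes' := fun r => congrArg (fun k => k.hom r) hf }
      obtain ⟨n, hn⟩ := Groth.Agent.FlatMor3.WeilRep.exists_hom_appTop (T := T.left) (Y := M.left)
        ((Scheme.ΓSpecIso (CommRingCat.of A)).hom ≫ CommRingCat.ofHom h.toRingHom)
      have hn' : gm ≫ n.appTop = CommRingCat.ofHom h.toRingHom := by rw [hn]; simp [gm]
      refine ⟨Over.homMk n ?_, Over.OverMorphism.ext (ext_of_isAffine ?_)⟩
      · refine ext_of_isAffine ?_
        rw [Scheme.Hom.comp_appTop, hM, Category.assoc, hn']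
        ext r
        exact h.commutes r
      · rw [key]
        have h3 : toAlg (Over.homMk n (by
            refine ext_of_isAffine ?_
            rw [Scheme.Hom.comp_appTop, hM, Category.assoc, hn']
            ext r
            exact h.commutes r)) = h :=
          AlgHom.ext fun x => congrArg (fun k => k.hom x) hn'
        rw [h3, show (Algebra.TensorProduct.map (AlgHom.id Γ(S, ⊤) Γ(X.left, ⊤)) h).comp univ = _ from hh]
        show (f.left.appTop ≫ e) ≫ d = f.left.appTop
        rw [Category.assoc, ed, Category.comp_id]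
  refine ⟨M, hMaff, ev, fun T f => (GammaProd.bijective_of_affine X ev hbij T).existsUnique f,
    fun hZ => ?_⟩
  have hP' : Algebra.FiniteType Γ(S, ⊤) Γ(Z.left, ⊤) :=
    (HasRingHomProperty.iff_of_isAffine (P := @LocallyOfFiniteType)).1 hZ
  have hA := finiteType_weilAlg univ hu hP'
  haveI : LocallyOfFiniteType (Spec.map a) :=
    (HasRingHomProperty.Spec_iff (P := @LocallyOfFiniteType)).2
      (RingHom.finiteType_algebraMap.2 hA)
  show LocallyOfFiniteType (Spec.map a ≫ S.isoSpec.inv)
  infer_instance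

/-- Let k be a field of characteristic 0, X a quasi-compact k-scheme whose ring of global functions is
finite-dimensional over k, and Z an affine k-scheme. Then the functor on k-schemes S ↦ Hom_k(X ×_k
S, Z) is representable by an affine k-scheme M: there is a universal k-morphism X ×_k M → Z through
which every k-morphism X ×_k S → Z factors by a unique S → M; and M is of finite type over k if Z
is. (The published statement is about the scheme of invariant cross-sections of an affine scheme
under a transitive affine groupoid over a pregroupoid H, with a finiteness hypothesis on H; this row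
is the case of the trivial groupoid, where the representing scheme is the scheme of k-morphisms from
X to Z and that hypothesis reads: X quasi-compact with finite-dimensional global functions.) -/
theorem result (k : Type u) [Field k] [CharZero k]
    (X : Over (Spec (CommRingCat.of k))) [CompactSpace ↥X.left]
    (hfin : (X.hom.appTop.hom.comp (Scheme.ΓSpecIso (CommRingCat.of k)).inv.hom).Finite)
    (Z : Over (Spec (CommRingCat.of k))) [IsAffine Z.left] :
    ∃ (M : Over (Spec (CommRingCat.of k))) (_ : IsAffine M.left) (ev : X ⊗ M ⟶ Z),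
      (∀ (S : Over (Spec (CommRingCat.of k))) (f : X ⊗ S ⟶ Z), ∃! g : S ⟶ M, (X ◁ g) ≫ ev = f) ∧
      (LocallyOfFiniteType Z.hom → LocallyOfFiniteType M.hom) := by
  refine core ?_ X ?_ Z
  · exact (Scheme.ΓSpecIso (CommRingCat.of k)).commRingCatIsoToRingEquiv.toMulEquiv.isField
      (Field.toIsField k)
  · have h := hfin.comp (RingHom.Finite.of_surjective (Scheme.ΓSpecIso (CommRingCat.of k)).hom.hom
      (Scheme.ΓSpecIso (CommRingCat.of k)).commRingCatIsoToRingEquiv.surjective)
    rwa [RingHom.comp_assoc, ← CommRingCat.hom_comp, Iso.hom_inv_id, CommRingCat.hom_id,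
      RingHom.comp_id] at h

end Groth.Agent.S14546
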