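import Groth.Statements.S14556
import Groth.Agent.GalEt.AdelePts
-- import your own Groth.Agent.* helpers here

set_option autoImplicit false
set_option maxHeartbeats 1000000
set_option backward.isDefEq.respectTransparency.types false
universe u
open TateGlob

namespace Groth.Agent.S14556

open CategoryTheory AlgebraicGeometry in
/-- Let K be a global function field with finite constant field Fq (every element of K having finitely
many poles), A_K its ring of adeles, S a finite nonempty set of places, O_S the ring of S-integers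
and 𝒢 a flat, separated commutative O_S-group scheme of finite type. Then the map H^0(A_K, 𝒢) → ∏_v
H^0(K_v, 𝒢) induced by the projections A_K → K_v is injective, and its image consists of the
restricted product of the H^0(K_v, 𝒢), taken relative to the images of H^0(O_v, 𝒢) → H^0(K_v, 𝒢), v
∉ S: the families almost all of whose components come from O_v. Here H^0 is the degree-0 cohomology
of the sheaf of points of 𝒢 on the big fppf site of Spec O_S, restricted to Spec A_K, Spec K_v and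
Spec O_v. -/
theorem result (Fq : Type u) [Field Fq] [Finite Fq] (K : Type u) [Field K] [Algebra (RatFunc Fq) K] [FunctionField Fq K]
    [Algebra Fq K] [IsScalarTower Fq (RatFunc Fq) K] [AdFn.HasFinitePoles Fq K]
    (S : Set (FunFld.Place Fq K)) (hS : S.Finite) (hne : S.Nonempty)
    (𝒢 : Over (Spec (CommRingCat.of (AdFn.SInt S)))) [GrpObj 𝒢] [IsCommMonObj 𝒢]
    [Flat 𝒢.hom] [IsSeparated 𝒢.hom] [LocallyOfFiniteType 𝒢.hom] [QuasiCompact 𝒢.hom] :
    Function.Injective (AdFn.locProdS Scheme.fppfPrecoverage S (CGrpSh.pts Scheme.fppfPrecoverage 𝒢) 0) ∧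
      Set.range (AdFn.locProdS Scheme.fppfPrecoverage S (CGrpSh.pts Scheme.fppfPrecoverage 𝒢) 0) =
        Set.range (fun y : AdFn.LocRP Scheme.fppfPrecoverage S (CGrpSh.pts Scheme.fppfPrecoverage 𝒢) 0 => (⇑y : (v : FunFld.Place Fq K) → AdFn.HLocS Scheme.fppfPrecoverage S (CGrpSh.pts Scheme.fppfPrecoverage 𝒢) 0 v)) := by
  refine ⟨fun a b hab => ?_, Set.ext fun fam => ⟨?_, ?_⟩⟩
  · refine Groth.Agent.GalEt.PtsH0.ext _ 𝒢 ?_
    refine Groth.Agent.GalEt.ProdPts.eq_of_jointly_injective 𝒢.hom (CommRingCat.of (AdFn.AdeleRing Fq K))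
      (fun v => CommRingCat.of (AdFn.Kv v)) (fun v => CommRingCat.ofHom (AdFn.AdeleRing.proj v))
      (fun r hr => Subtype.ext (funext hr)) _ _ ((Over.w _).trans (Over.w _).symm) fun v => ?_
    have h := congrArg (fun c => (Groth.Agent.GalEt.PtsH0.pt _ 𝒢 (AdFn.specOf (AdFn.SInt.toKv S v)) c).left)
      (congrFun hab v)
    exact (Groth.Agent.GalEt.PtsH0.res_left _ 𝒢 (AdFn.adProjSHom S v) a).symm.trans
      (h.trans (Groth.Agent.GalEt.PtsH0.res_left _ 𝒢 (AdFn.adProjSHom S v) b))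
  · rintro ⟨a, rfl⟩
    refine ⟨⟨_, ?_⟩, rfl⟩
    filter_upwards [Groth.Agent.GalEt.AdelePts.eventually_exists_integral S 𝒢 hS
      (Groth.Agent.GalEt.PtsH0.pt _ 𝒢 (AdFn.specOf (AdFn.SInt.toAd S)) a).left (Over.w _)] with v hv
    obtain ⟨hvS, y, hy, hy'⟩ := hv
    refine AddSubgroup.mem_iSup_of_mem hvS ?_
    obtain ⟨b, hb⟩ := Groth.Agent.GalEt.PtsH0.exists_of_left Scheme.fppfPrecoverage 𝒢 (U := AdFn.specOf (AdFn.SInt.toOv S hvS)) y hy
    refine ⟨b, Groth.Agent.GalEt.PtsH0.ext _ 𝒢 ?_⟩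
    refine (Groth.Agent.GalEt.PtsH0.res_left _ 𝒢 (AdFn.intResHom S hvS) b).trans ?_
    rw [hb]
    exact hy'.trans (Groth.Agent.GalEt.PtsH0.res_left _ 𝒢 (AdFn.adProjSHom S v) a).symm
  · rintro ⟨⟨f, hf⟩, rfl⟩
    obtain ⟨z, hz, hzv⟩ := Groth.Agent.GalEt.AdelePts.exists_adelic_point S 𝒢
      (fun v => (Groth.Agent.GalEt.PtsH0.pt _ 𝒢 (AdFn.specOf (AdFn.SInt.toKv S v)) (f v)).left)
      (fun v => Over.w _) (by
        filter_upwards [hf, hS.eventually_cofinite_notMem] with v hv hvS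
        have hv' : f v ∈ AdFn.locSub Scheme.fppfPrecoverage S (CGrpSh.pts Scheme.fppfPrecoverage 𝒢) 0 v := hv
        rw [AdFn.locSub, iSup_pos hvS] at hv'
        obtain ⟨b, hb⟩ := hv'
        refine ⟨hvS, (Groth.Agent.GalEt.PtsH0.pt _ 𝒢 (AdFn.specOf (AdFn.SInt.toOv S hvS)) b).left, Over.w _, ?_⟩
        rw [← hb]
        exact (Groth.Agent.GalEt.PtsH0.res_left _ 𝒢 (AdFn.intResHom S hvS) b).symm)
    obtain ⟨a, ha⟩ := Groth.Agent.GalEt.PtsH0.exists_of_left Scheme.fppfPrecoverage 𝒢 (U := AdFn.specOf (AdFn.SInt.toAd S)) z hz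
    refine ⟨a, funext fun v => Groth.Agent.GalEt.PtsH0.ext _ 𝒢 ?_⟩
    refine (Groth.Agent.GalEt.PtsH0.res_left _ 𝒢 (AdFn.adProjSHom S v) a).trans ?_
    rw [ha]
    exact hzv v

end Groth.Agent.S14556
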