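import Groth.Statements.S14573
import Groth.Agent.GalEt.GenericBC
import Groth.Agent.GalEt.BigH0
-- import your own Groth.Agent.* helpers here

set_option autoImplicit false
set_option maxHeartbeats 1000000
set_option backward.isDefEq.respectTransparency.types false
universe u
open TateGlob

namespace Groth.Agent.S14573

open CategoryTheory AlgebraicGeometry in
/-- Let K be a global function field with finite constant field Fq (every element of K having finitely
many poles), A_K its adele ring, S a finite nonempty set of places, O_S the ring of S-integers and 𝒢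
a flat, separated commutative O_S-group scheme of finite type (an O_S-model of its generic fibre).
Assume the generic fibre 𝒢_K is affine. Then the map H^0(A_K, 𝒢^) → ∏_v H^0(K_v, 𝒢^) induced by the
projections A_K → K_v is injective: a character of 𝒢 defined over A_K that is trivial over every
completion K_v is trivial; here 𝒢^ is the dual sheaf of 𝒢 (internal Hom from its sheaf of points
into the multiplicative group on the big fppf site of Spec O_S) and H^0 its degree-0 cohomology over
Spec A_K and Spec K_v. -/
theorem result (Fq : Type u) [Field Fq] [Finite Fq] (K : Type u) [Field K] [Algebra (RatFunc Fq) K] [FunctionField Fq K]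
    [Algebra Fq K] [IsScalarTower Fq (RatFunc Fq) K] [AdFn.HasFinitePoles Fq K]
    (S : Set (FunFld.Place Fq K)) (hS : S.Finite) (hne : S.Nonempty)
    (𝒢 : Over (Spec (CommRingCat.of (AdFn.SInt S)))) [GrpObj 𝒢] [IsCommMonObj 𝒢]
    [Flat 𝒢.hom] [IsSeparated 𝒢.hom] [LocallyOfFiniteType 𝒢.hom] [QuasiCompact 𝒢.hom]
    (haff : IsAffine ↑(Limits.pullback 𝒢.hom (Spec.map (CommRingCat.ofHom (AdFn.SInt.toK S))))) :
    Function.Injective (AdFn.locProdS Scheme.fppfPrecoverage S (CGrpSh2.dualSh Scheme.fppfPrecoverage (CGrpSh.pts Scheme.fppfPrecoverage 𝒢)) 0) := by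
  intro a b hab
  let X := Spec (CommRingCat.of (AdFn.SInt S))
  let F := CGrpSh2.dualSh Scheme.fppfPrecoverage (CGrpSh.pts Scheme.fppfPrecoverage 𝒢)
  let U := AdFn.specOf (AdFn.SInt.toAd S)
  refine (Groth.Agent.GalEt.BigH0.sec_bijective Scheme.fppfPrecoverage F U).1 ?_
  refine Groth.Agent.GalEt.DualPts.sect_eq Scheme.fppfPrecoverage 𝒢 (U := U)
    (fun v => AdFn.specOf (AdFn.SInt.toKv S v)) (fun v => AdFn.adProjSHom S v) (fun χ χ' hχ => ?_) _ _ (fun v => ?_)
  · have : IsAffine (Red.Gm X).left := by
      have : IsAffine (Red.diag (ULift.{u} ℤ) ℤ).left := isAffine_Spec _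
      have : IsAffine X := isAffine_Spec _
      show IsAffine (Limits.pullback _ _)
      infer_instance
    refine Over.OverMorphism.ext ?_
    exact Groth.Agent.GalEt.GenericBC.hom_eq 𝒢.hom (AdFn.SInt.toK S) (AdFn.AdeleRing.diag (k := Fq) (K := K))
      (fun v => AdFn.Kv v) (fun v => AdFn.AdeleRing.proj v) (fun r hr => Subtype.ext (funext hr))
      χ.left χ'.left hχ
  · exact (Groth.Agent.GalEt.BigH0.sec_res Scheme.fppfPrecoverage F (AdFn.adProjSHom S v) a).symm.trans
      ((congrArg (Groth.Agent.GalEt.BigH0.sec Scheme.fppfPrecoverage F (AdFn.specOf (AdFn.SInt.toKv S v)))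
        (congrFun hab v)).trans
        (Groth.Agent.GalEt.BigH0.sec_res Scheme.fppfPrecoverage F (AdFn.adProjSHom S v) b))

end Groth.Agent.S14573
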