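import Groth.Statements.S14574
import Groth.Agent.GalEt.WeilInt
import Groth.Agent.GalEt.ProdPts
import Groth.Agent.GalEt.PtsH0
-- import your own Groth.Agent.* helpers here

set_option autoImplicit false
set_option maxHeartbeats 1000000
set_option backward.isDefEq.respectTransparency.types false
universe u
open TateGlob

namespace Groth.Agent.S14574

open CategoryTheory AlgebraicGeometry in
/-- Let K be a global function field with finite constant field Fq, k' a finite field extension of K, B'
a finite commutative k'-group scheme, and G a commutative K-group scheme of finite type that is a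
K-subgroup scheme of the Weil restriction R_{k'/K}(B'): there is a monomorphism of abelian fppf
sheaves from the sheaf of points of G into the direct image of the sheaf of points of B' along Spec
k' → Spec K. Let S be a finite nonempty set of places and 𝒢 an O_S-model of G (a flat, separated
commutative group scheme of finite type over the ring of S-integers with an isomorphism between its
sheaf of points restricted to K-schemes and that of G). Then for all but finitely many places v ∉ S
the map 𝒢(O_v) → G(K_v), i.e. the degree-0 restriction map along Spec K_v → Spec O_v on the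
cohomology of the sheaf of points of 𝒢, is bijective. (The published statement covers all global
fields; this row is the function-field case.) -/
theorem result (Fq : Type u) [Field Fq] [Finite Fq] (K : Type u) [Field K] [Algebra (RatFunc Fq) K] [FunctionField Fq K]
    [Algebra Fq K] [IsScalarTower Fq (RatFunc Fq) K]
    (k' : Type u) [Field k'] [Algebra K k'] [FiniteDimensional K k']
    (B' : Over (Spec (CommRingCat.of k'))) [GrpObj B'] [IsCommMonObj B'] [IsFinite B'.hom]
    (G : Over (Spec (CommRingCat.of K))) [GrpObj G] [IsCommMonObj G] [LocallyOfFiniteType G.hom] [QuasiCompact G.hom]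
    (j : CGrpSh.pts Scheme.fppfPrecoverage G ⟶ (BigSite.pushBig Scheme.fppfPrecoverage (Spec.map (CommRingCat.ofHom (algebraMap K k'))) AddCommGrpCat.{u+1}).obj (CGrpSh.pts Scheme.fppfPrecoverage B')) [Mono j]
    (S : Set (FunFld.Place Fq K)) (hS : S.Finite) (hne : S.Nonempty)
    (𝒢 : Over (Spec (CommRingCat.of (AdFn.SInt S)))) [GrpObj 𝒢] [IsCommMonObj 𝒢]
    [Flat 𝒢.hom] [IsSeparated 𝒢.hom] [LocallyOfFiniteType 𝒢.hom] [QuasiCompact 𝒢.hom]
    (e : AdFn.ModelIso Scheme.fppfPrecoverage S 𝒢 G) :
    ∀ᶠ v in Filter.cofinite, ∀ hv : v ∉ S, Function.Bijective (AdFn.intRes Scheme.fppfPrecoverage S (CGrpSh.pts Scheme.fppfPrecoverage 𝒢) 0 hv) := by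
  obtain ⟨v₀, hv₀⟩ := hne
  have h := Groth.Agent.GalEt.WeilInt.eventually_surjective S ⟨v₀⟩ 𝒢.hom (k' := k') (fun L _ _ hL => by
    haveI := hL
    exact Groth.Agent.GalEt.WeilPts.finite_model_pts (AdFn.SInt.toK S) B' G j 𝒢 e)
  filter_upwards [h] with v hv hvS
  let P := Scheme.fppfPrecoverage.{u}
  refine ⟨fun a b hab => Groth.Agent.GalEt.PtsH0.ext P 𝒢 ?_, fun x => ?_⟩
  · refine Groth.Agent.GalEt.ProdPts.eq_of_jointly_injective 𝒢.hom (CommRingCat.of (AdFn.Ov v))
      (fun _ : PUnit.{1} => CommRingCat.of (AdFn.Kv v)) (fun _ => CommRingCat.ofHom (AdFn.Ov v).subtype)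
      (fun r hr => Subtype.ext (hr ⟨⟩)) _ _
      ((Over.w (Groth.Agent.GalEt.PtsH0.pt P 𝒢 _ a)).trans (Over.w (Groth.Agent.GalEt.PtsH0.pt P 𝒢 _ b)).symm)
      fun _ => ?_
    exact (Groth.Agent.GalEt.PtsH0.res_left P 𝒢 (AdFn.intResHom S hvS) a).symm.trans
      ((congrArg (fun z => (Groth.Agent.GalEt.PtsH0.pt P 𝒢 (AdFn.specOf (AdFn.SInt.toKv S v)) z).left) hab).trans
        (Groth.Agent.GalEt.PtsH0.res_left P 𝒢 (AdFn.intResHom S hvS) b))
  · obtain ⟨y, hy, hyx⟩ := hv hvS (Groth.Agent.GalEt.PtsH0.pt P 𝒢 (AdFn.specOf (AdFn.SInt.toKv S v)) x).left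
      (Over.w (Groth.Agent.GalEt.PtsH0.pt P 𝒢 (AdFn.specOf (AdFn.SInt.toKv S v)) x))
    obtain ⟨z, hz⟩ := Groth.Agent.GalEt.PtsH0.exists_of_left P 𝒢 (U := AdFn.specOf (AdFn.SInt.toOv S hvS)) y hy
    exact ⟨z, Groth.Agent.GalEt.PtsH0.ext P 𝒢 ((Groth.Agent.GalEt.PtsH0.res_left P 𝒢 (AdFn.intResHom S hvS) z).trans
      ((congrArg (fun w => (AdFn.intResHom S hvS).left ≫ w) hz).trans hyx))⟩

end Groth.Agent.S14574
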