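import Groth.Statements.S14593
import Groth.Agent.Chev24.NormCore
-- import your own Groth.Agent.* helpers here

set_option autoImplicit false
universe u
open CategoryTheory MonoidalCategory CartesianMonoidalCategory MonObj GrpObj AlgebraicGeometry CategoryTheory.Limits
open AlgGrp

namespace Groth.Agent.S14593

/-- Let k be a field, G a smooth k-group scheme of finite type, i₀ : G⁰ → G its neutral component (a
connected open subgroup scheme) and α : G⁰ → A the Albanese homomorphism of G⁰: a flat surjective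
homomorphism onto an abelian variety A (proper, smooth, connected) through which every morphism from
G⁰ to an abelian variety preserving the unit factors uniquely. Let j : N → G⁰ be the kernel of α.
Then N is normal in G, affine and connected; it is the kernel of a flat surjective homomorphism from
G onto a proper k-group scheme of finite type; and it is the smallest normal subgroup scheme of G
with proper quotient: every flat surjective homomorphism from G onto a proper k-group scheme of
finite type kills N. -/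
theorem result (k : Type u) [Field k]
    (G : Over (Spec (CommRingCat.of k))) [GrpObj G] [Smooth G.hom] [QuasiCompact G.hom]
    (G₀ : Over (Spec (CommRingCat.of k))) [GrpObj G₀] (i₀ : G₀ ⟶ G) [IsMonHom i₀] [IsOpenImmersion i₀.left] [ConnectedSpace ↥G₀.left]
    (A : Over (Spec (CommRingCat.of k))) [GrpObj A] [IsProper A.hom] [Smooth A.hom] [ConnectedSpace ↥A.left]
    (α : G₀ ⟶ A) [IsMonHom α] [Surjective α.left] [Flat α.left]
    (hα : ∀ (B : Over (Spec (CommRingCat.of k))) [GrpObj B] [IsProper B.hom] [Smooth B.hom] [ConnectedSpace ↥B.left] (f : G₀ ⟶ B),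
      η[G₀] ≫ f = η[B] → ∃! g : A ⟶ B, α ≫ g = f)
    (N : Over (Spec (CommRingCat.of k))) [GrpObj N] (j : N ⟶ G₀) [IsMonHom j] [IsClosedImmersion j.left] (hN : AlgGrp.IsKernel j α) :
    AlgGrp.IsNormalHom (j ≫ i₀) ∧ IsAffine N.left ∧ ConnectedSpace ↥N.left ∧
      (∃ (Q : Over (Spec (CommRingCat.of k))) (_ : GrpObj Q) (q : G ⟶ Q), IsMonHom q ∧ Surjective q.left ∧ Flat q.left ∧
        AlgGrp.IsKernel (j ≫ i₀) q ∧ IsProper Q.hom) ∧
      ∀ (Q' : Over (Spec (CommRingCat.of k))) [GrpObj Q'] [IsProper Q'.hom] (q' : G ⟶ Q') [IsMonHom q'] [Surjective q'.left] [Flat q'.left],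
        (j ≫ i₀) ≫ q' = 1 := by
  haveI : LocallyOfFiniteType G₀.hom := by rw [← Over.w i₀]; infer_instance
  haveI : Smooth G₀.hom := by rw [← Over.w i₀]; infer_instance
  haveI : IsSeparated G.hom := GrpSchLib.AntiAffine.isSeparated_grp G
  haveI := (Chev24.range_open_connected_subgroup i₀).1
  haveI : QuasiCompact G₀.hom := by rw [← Over.w i₀]; infer_instance
  obtain ⟨M, _, m, hmm, hmc, -, hMa, hMc, ⟨Q, _, q, hqm, hqs, hqf, hqk, hQp⟩, hmin⟩ :=
    Chev24.exists_smallest_properQuot_affine G₀
  haveI := hmm; haveI := hmc; haveI := hqm; haveI := hqs; haveI := hqf; haveI := hQp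
  haveI : Smooth Q.hom := GrpSchLib.smooth_of_quotient q
  haveI : ConnectedSpace ↥Q.left := q.left.surjective.connectedSpace q.left.continuous
  obtain ⟨g, hg, -⟩ := hα Q q (IsMonHom.one_hom q)
  have hjq : j ≫ q = 1 := by
    rw [← hg, ← Category.assoc, hN.w, Category.assoc, ← IsMonHom.one_hom α, Category.assoc, hg,
      IsMonHom.one_hom q, ← Hom.one_def]
  let f := hqk.lift j (toUnit N) (hjq.trans Hom.one_def)
  have hf : f ≫ m = j := hqk.lift_fst _ _ _
  let f' := hN.lift m (toUnit M) ((hmin A α).trans Hom.one_def)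
  have hf' : f' ≫ j = m := hN.lift_fst _ _ _
  haveI : Mono m := Over.mono_of_mono_left _
  haveI : Mono j := Over.mono_of_mono_left _
  haveI : IsIso f := ⟨f', by rw [← cancel_mono j, Category.assoc, hf', hf, Category.id_comp],
    by rw [← cancel_mono m, Category.assoc, hf, hf', Category.id_comp]⟩
  haveI : IsIso f.left := (Over.forget _).map_isIso f
  haveI : IsIso f'.left := by
    haveI : IsIso f' := ⟨f, by rw [← cancel_mono m, Category.assoc, hf, hf', Category.id_comp],
      by rw [← cancel_mono j, Category.assoc, hf', hf, Category.id_comp]⟩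
    exact (Over.forget _).map_isIso f'
  have hminN : ∀ (Q' : Over (Spec (CommRingCat.of k))) [GrpObj Q'] [IsProper Q'.hom] (q' : G₀ ⟶ Q') [IsMonHom q'],
      j ≫ q' = 1 := fun Q' _ _ q' _ => by
    rw [← hf, Category.assoc, hmin Q' q', MonObj.comp_one]
  have hn := Chev24.isNormalHom_of_smallest i₀ α j hN hminN
  haveI : IsAffine N.left := .of_isIso f.left
  haveI : ConnectedSpace ↥N.left := f'.left.surjective.connectedSpace f'.left.continuous
  refine ⟨hn, inferInstance, inferInstance, ?_, fun Q' _ _ q' _ _ _ => by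
    rw [Category.assoc]; exact hminN Q' (i₀ ≫ q')⟩
  haveI : IsClosedImmersion (j ≫ i₀).left := inferInstanceAs (IsClosedImmersion (j.left ≫ i₀.left))
  obtain ⟨R, _, r, hrm, hrs, hrf, -, hRl, hRq, hRsep, hrk⟩ := AlgGrpH24.exists_quotient_grp (j ≫ i₀) hn
  haveI := hrm; haveI := hrs; haveI := hrf; haveI := hRl; haveI := hRq; haveI := hRsep
  refine ⟨R, inferInstance, r, hrm, hrs, hrf, hrk, ?_⟩
  haveI : Smooth ((Chev24.B k).obj G).hom := inferInstanceAs (Smooth (pullback.snd G.hom (Chev24.bcσ k)))
  haveI : QuasiCompact ((Chev24.B k).obj G).hom := Chev24.qc_bc G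
  haveI : LocallyOfFiniteType ((Chev24.B k).obj R).hom := Chev24.lft_bc R
  haveI : QuasiCompact ((Chev24.B k).obj R).hom := Chev24.qc_bc R
  obtain ⟨L, _, a, ham, hac, hLs, hLc, hLa, -, ⟨Q₁, _, q₁, hq₁m, hq₁s, hq₁f, hq₁k, hQ₁p⟩, -⟩ :=
    Chev24.exists_affPart_properQuot ((Chev24.B k).obj G)
  haveI := ham; haveI := hLs; haveI := hLc; haveI := hLa; haveI := hq₁m; haveI := hq₁s; haveI := hq₁f
  haveI := hQ₁p
  haveI : IsClosedImmersion ((Chev24.B k).map i₀).left := Chev24.property_map_bc i₀ @IsClosedImmersion ‹_›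
  haveI : IsOpenImmersion ((Chev24.B k).map i₀).left := Chev24.property_map_bc i₀ @IsOpenImmersion ‹_›
  have hsub : Set.range a.left ⊆ Set.range ((Chev24.B k).map i₀).left := by
    have hcl : IsClopen (a.left ⁻¹' Set.range ((Chev24.B k).map i₀).left) :=
      ⟨((Chev24.B k).map i₀).left.isClosedEmbedding.isClosed_range.preimage a.left.continuous,
        ((Chev24.B k).map i₀).left.isOpenEmbedding.isOpen_range.preimage a.left.continuous⟩
    have h1 : η[L].left ≫ a.left = η[(Chev24.B k).obj G₀].left ≫ ((Chev24.B k).map i₀).left := by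
      rw [← Over.comp_left, ← Over.comp_left, IsMonHom.one_hom a, IsMonHom.one_hom]
    have hne : (a.left ⁻¹' Set.range ((Chev24.B k).map i₀).left).Nonempty :=
      ⟨η[L].left (IsLocalRing.closedPoint (AlgebraicClosure k)), _,
        (congrArg (fun e => e (IsLocalRing.closedPoint (AlgebraicClosure k))) h1).symm⟩
    rintro _ ⟨x, rfl⟩
    exact (hcl.eq_univ hne).ge (Set.mem_univ x)
  let b : L ⟶ (Chev24.B k).obj G₀ := Over.homMk (IsOpenImmersion.lift ((Chev24.B k).map i₀).left a.left hsub)
    (by rw [← Over.w ((Chev24.B k).map i₀), IsOpenImmersion.lift_fac_assoc, Over.w a])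
  have hb : b ≫ (Chev24.B k).map i₀ = a := Over.OverMorphism.ext (IsOpenImmersion.lift_fac _ _ _)
  haveI : Mono ((Chev24.B k).map i₀) := Over.mono_of_mono_left _
  haveI : IsMonHom b := Red23Lib.isMonHom_of_mul b fun T x y => by
    rw [← cancel_mono ((Chev24.B k).map i₀), MonObj.mul_comp _ _ ((Chev24.B k).map i₀), Category.assoc,
      Category.assoc, Category.assoc, hb, MonObj.mul_comp]
  haveI : IsProper ((Chev24.B k).obj A).hom := inferInstanceAs (IsProper (pullback.snd A.hom (Chev24.bcσ k)))
  haveI : IsMonHom ((Chev24.B k).map α) := inferInstance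
  have hbα : b ≫ (Chev24.B k).map α = 1 := Chev24.eq_one_of_affine_of_proper _
  obtain ⟨bN, hbN⟩ : ∃ bN : L ⟶ (Chev24.B k).obj N, bN ≫ (Chev24.B k).map j = b := by
    have hk' : IsPullback ((Chev24.B k).map j) ((Chev24.B k).map (toUnit N)) ((Chev24.B k).map α)
      ((Chev24.B k).map η[A]) := hN.map (Chev24.B k)
    haveI : IsIso (Functor.LaxMonoidal.ε (Chev24.B k)) := inferInstance
    refine ⟨hk'.lift b (toUnit L ≫ Functor.LaxMonoidal.ε (Chev24.B k)) ?_, hk'.lift_fst _ _ _⟩
    rw [hbα, Category.assoc, Hom.one_def]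
    rfl
  haveI : IsMonHom ((Chev24.B k).map r) := inferInstance
  obtain ⟨d, -, hqd, -⟩ := Groth.Agent.S3280.result (AlgebraicClosure k) ((Chev24.B k).obj G) L Q₁
    ((Chev24.B k).obj R) q₁ a hq₁k ((Chev24.B k).map r) (by
      rw [← hb, ← hbN, Category.assoc, Category.assoc, ← Functor.map_comp, ← Functor.map_comp, ← Category.assoc j,
        hrk.w, ← Hom.one_def, ← Hom.one_def]
      exact (congrArg (bN ≫ ·) ((Chev24.B k).homMonoidHom.map_one)).trans (MonObj.comp_one bN))
  haveI : Surjective ((Chev24.B k).map r).left := Chev24.property_map_bc r @Surjective ‹_›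
  haveI : Surjective d.left := by
    haveI : Surjective (q₁.left ≫ d.left) := by rw [← Over.comp_left, hqd]; infer_instance
    exact Surjective.of_comp q₁.left d.left
  haveI : UniversallyClosed (d.left ≫ ((Chev24.B k).obj R).hom) := by rw [Over.w]; infer_instance
  haveI : UniversallyClosed ((Chev24.B k).obj R).hom := UniversallyClosed.of_comp_surjective d.left _
  haveI : UniversallyClosed R.hom :=
    MorphismProperty.of_pullback_snd_of_descendsAlong (P := @UniversallyClosed)
      (Q := @Surjective ⊓ @Flat ⊓ @QuasiCompact) (g := Chev24.bcσ k)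
      ⟨⟨Chev24.surjective_bcσ, inferInstance⟩, inferInstance⟩
      (inferInstanceAs (UniversallyClosed ((Chev24.B k).obj R).hom))
  exact {}

end Groth.Agent.S14593
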