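import Groth.Statements.S14595
import Groth.Agent.AlgGrpH24.SemiabProduct
-- import your own Groth.Agent.* helpers here

set_option autoImplicit false
universe u
open CategoryTheory MonoidalCategory CartesianMonoidalCategory MonObj GrpObj AlgebraicGeometry CategoryTheory.Limits
open AlgGrp

namespace Groth.Agent.S14595

/-- Let k be a field, X and Y varieties over k (separated, geometrically integral, of finite type) with
rational points x₀, y₀, G a semi-abelian variety (an extension of a proper smooth connected k-group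
scheme by a torus) and f : X × Y → G a k-morphism. Then f(x, y) f(x, y₀)⁻¹ f(x₀, y)⁻¹ f(x₀, y₀) = e
identically, in the group of morphisms X × Y → G. -/
theorem result (k : Type u) [Field k]
    (X Y G : Over (Spec (CommRingCat.of k)))
    [LocallyOfFiniteType X.hom] [QuasiCompact X.hom] [IsSeparated X.hom] [GeometricallyIntegral X.hom]
    [LocallyOfFiniteType Y.hom] [QuasiCompact Y.hom] [IsSeparated Y.hom] [GeometricallyIntegral Y.hom]
    [GrpObj G] [LocallyOfFiniteType G.hom] [QuasiCompact G.hom] (hG : (∃ (T : Over (Spec (CommRingCat.of k))) (_ : GrpObj T) (i : T ⟶ G) (A : Over (Spec (CommRingCat.of k))) (_ : GrpObj A) (q : G ⟶ A),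
        IsMonHom i ∧ IsClosedImmersion i.left ∧ Red.IsTorus T ∧ IsMonHom q ∧ Surjective q.left ∧ Flat q.left ∧
        AlgGrp.IsKernel i q ∧ IsProper A.hom ∧ Smooth A.hom ∧ ConnectedSpace ↥A.left))
    (x₀ : 𝟙_ (Over (Spec (CommRingCat.of k))) ⟶ X) (y₀ : 𝟙_ (Over (Spec (CommRingCat.of k))) ⟶ Y) (f : X ⊗ Y ⟶ G) :
    f * (fst X Y ≫ lift (𝟙 X) (toUnit X ≫ y₀) ≫ f)⁻¹ * (snd X Y ≫ lift (toUnit Y ≫ x₀) (𝟙 Y) ≫ f)⁻¹ *
      (toUnit (X ⊗ Y) ≫ lift x₀ y₀ ≫ f) = 1 := by
  obtain ⟨T, _, i, A, _, q, hi, hic, hT, hqm, hqs, hqf, hk, hAp, hAs, hAc⟩ := hG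
  haveI := hi; haveI := hic; haveI := hqm; haveI := hqs; haveI := hqf; haveI := hAp; haveI := hAs; haveI := hAc
  haveI : Mono i := Over.mono_of_mono_left _
  haveI : IsSeparated G.hom := GrpSchLib.AntiAffine.isSeparated_grp G
  haveI : LocallyOfFiniteType T.hom := by rw [← Over.w i]; infer_instance
  haveI : QuasiCompact T.hom := by rw [← Over.w i]; infer_instance
  haveI : Smooth T.hom := AlgGrpH24.SemiabProduct.smooth_torus hT
  haveI : ConnectedSpace ↥T.left := S8197.connectedSpace_torus hT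
  obtain ⟨-, hGs, hGc⟩ := Groth.Agent.S7982.result k T G A i q hk
  haveI : Smooth G.hom := hGs inferInstance inferInstance
  haveI : ConnectedSpace ↥G.left := hGc inferInstance inferInstance
  haveI := AlgGrpH24.geometricallyIntegral_grp G
  haveI := AlgGrpH24.geometricallyIntegral_grp A
  haveI := isCommMonObj_of_isProper_of_geometricallyIntegral A
  have hcomm : ∀ {Z : Over (Spec (CommRingCat.of k))} (a b : Z ⟶ G), a * b = b * a := by
    have h0 : fst G G * snd G G * (fst G G)⁻¹ * (snd G G)⁻¹ = (1 : G ⊗ G ⟶ G) := by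
      refine AlgGrpH24.SemiabProduct.eq_one_semiab hT i q hk η[G] η[G] _ ?_ ?_ ?_
      · rw [MonObj.mul_comp, MonObj.mul_comp, MonObj.mul_comp, GrpObj.inv_comp, GrpObj.inv_comp,
          mul_comm (fst G G ≫ q), mul_inv_cancel_right, mul_inv_cancel]
      · rw [MonObj.comp_mul, MonObj.comp_mul, MonObj.comp_mul, GrpObj.comp_inv, GrpObj.comp_inv, lift_fst, lift_snd,
          ← Hom.one_def, _root_.mul_one, mul_inv_cancel, inv_one, _root_.mul_one]
      · rw [MonObj.comp_mul, MonObj.comp_mul, MonObj.comp_mul, GrpObj.comp_inv, GrpObj.comp_inv, lift_fst, lift_snd,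
          ← Hom.one_def, _root_.one_mul, inv_one, _root_.mul_one, mul_inv_cancel]
    intro Z a b
    have := congrArg (lift a b ≫ ·) h0
    simp only [MonObj.comp_mul, GrpObj.comp_inv, lift_fst, lift_snd, MonObj.comp_one] at this
    rwa [mul_inv_eq_one, mul_inv_eq_iff_eq_mul] at this
  have hf : f ≫ q = (toUnit (X ⊗ Y) ≫ lift x₀ y₀ ≫ f ≫ q)⁻¹ *
      (snd X Y ≫ lift (toUnit Y ≫ x₀) (𝟙 Y) ≫ f ≫ q) * (fst X Y ≫ lift (𝟙 X) (toUnit X ≫ y₀) ≫ f ≫ q) :=
    AlgGrpH24.ProductLemma.eq_formula x₀ y₀ (f ≫ q)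
  refine AlgGrpH24.SemiabProduct.eq_one_semiab hT i q hk x₀ y₀ _ ?_ ?_ ?_
  · simp only [MonObj.mul_comp, GrpObj.inv_comp, Category.assoc]
    revert hf
    generalize f ≫ q = a
    generalize toUnit (X ⊗ Y) ≫ lift x₀ y₀ ≫ a = c
    generalize snd X Y ≫ lift (toUnit Y ≫ x₀) (𝟙 Y) ≫ a = d
    generalize fst X Y ≫ lift (𝟙 X) (toUnit X ≫ y₀) ≫ a = e
    intro hf
    subst hf
    group
  · simp only [MonObj.comp_mul, GrpObj.comp_inv, lift_fst_assoc, lift_snd_assoc, Category.id_comp, Category.assoc]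
    simp only [← Category.assoc, comp_lift, comp_toUnit, Category.comp_id, Category.id_comp]
    rw [mul_inv_cancel, _root_.one_mul, inv_mul_cancel]
  · simp only [MonObj.comp_mul, GrpObj.comp_inv, lift_fst_assoc, lift_snd_assoc, Category.id_comp, Category.assoc]
    simp only [← Category.assoc, comp_lift, comp_toUnit, Category.comp_id, Category.id_comp]
    rw [hcomm (lift (toUnit Y ≫ x₀) (𝟙 Y) ≫ f), _root_.mul_assoc _ _ ((lift (toUnit Y ≫ x₀) (𝟙 Y) ≫ f))⁻¹,
      mul_inv_cancel, _root_.mul_one, inv_mul_cancel]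

end Groth.Agent.S14595
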