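import Groth.Statements.S14599
import Groth.Agent.Chev24.Minimal
import Groth.Agent.Chev24.AffPart

set_option autoImplicit false
universe u
open CategoryTheory MonoidalCategory CartesianMonoidalCategory MonObj GrpObj AlgebraicGeometry CategoryTheory.Limits
open AlgGrp

namespace Groth.Agent.S14599

/-- Let k be a field and G a smooth connected k-group scheme of finite type. Then G has a smallest
normal subgroup scheme N whose quotient is an abelian variety, N is connected, and the quotient
homomorphism α : G → G/N is universal: there are a connected closed normal subgroup scheme i : N →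
G, a proper smooth connected k-group scheme A and a flat surjective homomorphism α : G → A with
kernel N such that every k-morphism from G to a proper smooth connected k-group scheme sending e to
e factors uniquely through α, and every flat surjective homomorphism from G onto a proper smooth
connected k-group scheme kills N. -/
theorem result (k : Type u) [Field k]
    (G : Over (Spec (CommRingCat.of k))) [GrpObj G] [Smooth G.hom] [QuasiCompact G.hom] [ConnectedSpace ↥G.left] :
    ∃ (N : Over (Spec (CommRingCat.of k))) (_ : GrpObj N) (i : N ⟶ G) (A : Over (Spec (CommRingCat.of k))) (_ : GrpObj A) (α : G ⟶ A),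
      IsMonHom i ∧ IsClosedImmersion i.left ∧ AlgGrp.IsNormalHom i ∧ ConnectedSpace ↥N.left ∧
      IsProper A.hom ∧ Smooth A.hom ∧ ConnectedSpace ↥A.left ∧ IsMonHom α ∧ Surjective α.left ∧ Flat α.left ∧
      AlgGrp.IsKernel i α ∧
      (∀ (B : Over (Spec (CommRingCat.of k))) [GrpObj B] [IsProper B.hom] [Smooth B.hom] [ConnectedSpace ↥B.left] (f : G ⟶ B),
        η[G] ≫ f = η[B] → ∃! g : A ⟶ B, α ≫ g = f) ∧
      (∀ (B : Over (Spec (CommRingCat.of k))) [GrpObj B] [IsProper B.hom] [Smooth B.hom] [ConnectedSpace ↥B.left] (q : G ⟶ B)
        [IsMonHom q] [Surjective q.left] [Flat q.left], i ≫ q = 1) := by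
  obtain ⟨N, _, i, him, hic, hin, ⟨A, _, α, hαm, hαs, hαf, hαk, hAp⟩, hmin⟩ := Chev24.exists_smallest_properQuot G
  haveI := him; haveI := hic; haveI := hαm; haveI := hαs; haveI := hαf; haveI := hAp
  haveI : Smooth A.hom := GrpSchLib.smooth_of_quotient α
  haveI : ConnectedSpace A.left := α.left.surjective.connectedSpace α.left.continuous
  haveI := Chev24.connectedSpace_of_smallest i hin A α hαk hmin
  refine ⟨N, inferInstance, i, A, inferInstance, α, him, hic, hin, inferInstance, hAp, inferInstance, inferInstance,
    hαm, hαs, hαf, hαk, fun B _ _ _ _ f hf => ?_, fun B _ _ _ _ q _ _ _ => hmin B q⟩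
  haveI := Chev24.isMonHom_of_one_toAV f hf
  obtain ⟨g, -, hg, hu⟩ := Groth.Agent.S3280.result k G N A B α i hαk f ((hmin B f).trans Hom.one_def)
  exact ⟨g, hg, fun y hy => hu y hy⟩

end Groth.Agent.S14599
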