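import Groth.Statements.S14611
import Groth.Agent.FlatAssocX.Projective
import Groth.Agent.FlatCxLib.Cls

set_option autoImplicit false
universe u
open FlatCx

namespace Groth.Agent.S14611

open CategoryTheory CategoryTheory.Limits in
/-- Let A be a Noetherian ring, Q a cochain complex whose terms are finitely generated projective
A-modules, and d an integer such that H^p(Q) = 0 for every p < d and H^p(Q ⊗_A A/m) = 0 for every p
< d and every maximal ideal m of A. Then Q^d / im(Q^{d-1} → Q^d), the degree-d term of the
truncation τ_{≥ d} Q, is a projective A-module, so that τ_{≥ d} Q is again a complex of projective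
modules. (The published statement also asserts that Q → τ_{≥ d} Q is a quasi-isomorphism when H^p(Q)
= 0 for p < d; this row omits that clause.) -/
theorem result (A : Type u) [CommRing A] [IsNoetherianRing A]
    (Q : CochainComplex (ModuleCat.{u} A) ℤ)
    (hQ : ∀ i, Module.Finite A (Q.X i) ∧ Module.Projective A (Q.X i)) (d : ℤ)
    (h1 : ∀ p < d, IsZero (Q.homology p))
    (h2 : ∀ (m : Ideal A) [m.IsMaximal], ∀ p < d,
      IsZero ((CohIII.tensorObj Q (ModuleCat.of A (A ⧸ m))).homology p)) :
    Module.Projective A (Q.opcycles d) := by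
  have hp0 : (ComplexShape.up ℤ).prev d = d - 1 := CochainComplex.prev ℤ d
  have := (hQ d).2
  have := (hQ (d - 1)).1
  let D : Q.X (d - 1) →ₗ[A] Q.X d := (Q.d (d - 1) d).hom
  have : Module.Finite A (LinearMap.range D) :=
    Module.Finite.of_surjective D.rangeRestrict D.surjective_rangeRestrict
  have key : ∀ (m : Ideal A) [m.IsMaximal],
      Function.Injective ((LinearMap.range D).subtype.lTensor (A ⧸ m)) := by
    intro m hm
    rw [LinearMap.lTensor_inj_iff_rTensor_inj, injective_iff_map_eq_zero]
    intro x hx
    obtain ⟨y, rfl⟩ := LinearMap.rTensor_surjective (A ⧸ m) D.surjective_rangeRestrict x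
    rw [← LinearMap.comp_apply, ← LinearMap.rTensor_comp] at hx
    obtain ⟨z, hz⟩ := (Groth.Agent.FlatCxLib.isZero_homology_iff
      (K := CohIII.tensorObj Q (ModuleCat.of A (A ⧸ m)))
      (i := d - 2) (j := d - 1) (k := d)
      ((ComplexShape.up ℤ).prev_eq' (show d - 2 + 1 = d - 1 by ring))
      ((ComplexShape.up ℤ).next_eq' (show d - 1 + 1 = d by ring))).1
        (h2 m (d - 1) (by omega)) y hx
    have hdd : D.rangeRestrict ∘ₗ (Q.d (d - 2) (d - 1)).hom = 0 := by
      refine LinearMap.ext fun a => Subtype.ext ?_
      exact LinearMap.congr_fun (ModuleCat.hom_ext_iff.1 (Q.d_comp_d (d - 2) (d - 1) d)) a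
    have hz' : (Q.d (d - 2) (d - 1)).hom.rTensor (A ⧸ m) z = y := hz
    rw [← hz']
    erw [← LinearMap.comp_apply, ← LinearMap.rTensor_comp, hdd, LinearMap.rTensor_zero]
    rfl
  obtain ⟨r, hr⟩ := Groth.Agent.FlatAssocX.exists_retraction_of_forall_residual
    (LinearMap.range D).subtype key
  let σ : (Q.X d ⧸ LinearMap.range D) →ₗ[A] Q.X d :=
    (LinearMap.range D).liftQ (LinearMap.id - (LinearMap.range D).subtype ∘ₗ r) (by
      intro x hx
      have h := congrArg Subtype.val (LinearMap.congr_fun hr ⟨x, hx⟩)
      simp only [LinearMap.mem_ker, LinearMap.sub_apply, LinearMap.id_apply, LinearMap.comp_apply,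
        Submodule.subtype_apply] at h ⊢
      rw [h, sub_self])
  have : Module.Projective A (Q.X d ⧸ LinearMap.range D) := by
    refine Module.Projective.of_split σ (LinearMap.range D).mkQ ?_
    ext x
    show Submodule.Quotient.mk (x - (r x : Q.X d)) = Submodule.Quotient.mk x
    rw [Submodule.Quotient.eq, sub_sub_cancel_left]
    exact neg_mem (r x).2
  exact Module.Projective.of_equiv ((ModuleCat.cokernelIsoRangeQuotient (Q.d (d - 1) d)).symm ≪≫
    (cokernelIsCokernel (Q.d (d - 1) d)).coconePointUniqueUpToIso
      (Q.opcyclesIsCokernel (d - 1) d hp0)).toLinearEquiv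

end Groth.Agent.S14611
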