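import Groth.Statements.S14629
import Groth.Agent.PicfLib.PicSeq

set_option autoImplicit false
open CategoryTheory CategoryTheory.Limits AlgebraicGeometry
universe u
open PicF

namespace Groth.Agent.S14629

/-- Let X be a scheme and I a quasi-coherent ideal sheaf of square zero defining the closed subscheme i
: X₀ → X, and suppose H¹(X, I) = 0 for the ideal regarded as an O_X-module (Zariski cohomology).
Then two invertible O_X-modules with isomorphic pullbacks to X₀ are isomorphic: restriction of
Picard groups along i is injective. (The published statement allows a nilpotent ideal with the same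
hypothesis on I alone; its proof treats the square-zero case, which is what is stated.) -/
theorem result (X : Scheme.{u}) (I : X.IdealSheafData)
    (hI : I * I = ⊥) (h1 : Subsingleton (Coh.HH X (ClSub.idealMod I) 1))
    (c d : PicF.Cl X) (hc : PicF.IsInvertibleCl c) (hd : PicF.IsInvertibleCl d)
    (h : PicF.pullCl I.subschemeι c = PicF.pullCl I.subschemeι d) : c = d := by
  letI := Groth.Agent.H23.PicMul.law X
  letI := Groth.Agent.H23.PicMul.law I.subscheme
  obtain ⟨ε, δ₀, α, δ₁, -, -, -, -, h5, -⟩ :=
    Groth.Agent.PicfLib.PicSeq.exists_exact I hI (Groth.Agent.H23.PicMul.pullMul I.subschemeι)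
  have hinj : Function.Injective
      (PicGrp.pullHom I.subschemeι (Groth.Agent.H23.PicMul.pullMul I.subschemeι)) :=
    (MonoidHom.ker_eq_bot_iff _).1 (by
      rw [h5, eq_bot_iff]
      rintro _ ⟨v, rfl⟩
      rw [Subgroup.mem_bot,
        show v = 1 from Multiplicative.toAdd.injective (h1.elim _ _), map_one])
  exact congrArg Subtype.val (@hinj ⟨c, hc⟩ ⟨d, hd⟩ (Subtype.ext h))

end Groth.Agent.S14629
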