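import Groth.Statements.S14643
import Groth.Agent.AlgGrpH24.Cover

set_option autoImplicit false
universe u
open CategoryTheory MonoidalCategory CartesianMonoidalCategory MonObj GrpObj AlgebraicGeometry CategoryTheory.Limits
open AlgGrp

namespace Groth.Agent.S14643

/-- Over a field k, let G be a smooth k-group scheme of finite type acting on a variety X (a separated,
geometrically integral k-scheme of finite type). Let n : N → G be the kernel of the action: a closed
subgroup scheme such that, for every k-scheme T, a T-point of G factors through N exactly when it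
acts as the identity on all points of X over T-schemes. Let π : G → Q be a homomorphism onto a
k-group scheme of finite type which is flat and surjective with kernel N (the quotient G/N). Then
there is a unique action of Q on X inducing the given one along π; this action of Q is faithful (a
T-point of Q acting as the identity on all points of X over T-schemes is the unit); and X is
homogeneous under G (surjective graph morphism (g, x) ↦ (x, g·x)) if and only if it is homogeneous
under Q, and almost homogeneous under G (dominant graph morphism) if and only if it is almost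
homogeneous under Q. -/
theorem result (k : Type u) [Field k]
    (G N Q X : Over (Spec (CommRingCat.of k))) [GrpObj G] [Smooth G.hom] [QuasiCompact G.hom]
    [IsSeparated X.hom] [LocallyOfFiniteType X.hom] [QuasiCompact X.hom] [GeometricallyIntegral X.hom] (a : AlgGrp.Action G X)
    [GrpObj N] (n : N ⟶ G) [IsMonHom n] [IsClosedImmersion n.left]
    (hN : ∀ (T : Over (Spec (CommRingCat.of k))) (g : T ⟶ G),
      (∃ m : T ⟶ N, m ≫ n = g) ↔
        ∀ (T' : Over (Spec (CommRingCat.of k))) (s : T' ⟶ T) (x : T' ⟶ X), CartesianMonoidalCategory.lift (s ≫ g) x ≫ a.act = x)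
    [GrpObj Q] [LocallyOfFiniteType Q.hom] [QuasiCompact Q.hom] (π : G ⟶ Q) [IsMonHom π] [Flat π.left] [Surjective π.left]
    (hker : AlgGrp.IsKernel n π) :
    (∃! b : AlgGrp.Action Q X, (π ▷ X) ≫ b.act = a.act) ∧
    ∀ b : AlgGrp.Action Q X, (π ▷ X) ≫ b.act = a.act →
      (∀ (T : Over (Spec (CommRingCat.of k))) (q : T ⟶ Q),
        (∀ (T' : Over (Spec (CommRingCat.of k))) (s : T' ⟶ T) (x : T' ⟶ X), CartesianMonoidalCategory.lift (s ≫ q) x ≫ b.act = x) → q = 1) ∧
      (Surjective (CartesianMonoidalCategory.lift (CartesianMonoidalCategory.snd G X) a.act).left ↔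
        Surjective (CartesianMonoidalCategory.lift (CartesianMonoidalCategory.snd Q X) b.act).left) ∧
      (IsDominant (CartesianMonoidalCategory.lift (CartesianMonoidalCategory.snd G X) a.act).left ↔
        IsDominant (CartesianMonoidalCategory.lift (CartesianMonoidalCategory.snd Q X) b.act).left) := by
  have hπ : GrpSchLib.IsCover π := GrpSchLib.isCover_of_flat_surjective π
  have hone : ∀ (W : Over (Spec (CommRingCat.of k))) (m : W ⟶ N), (m ≫ n) ≫ π = 1 := fun W m => by
    rw [Category.assoc, hker.w, ← Category.assoc, comp_toUnit]; rfl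
  have htriv : ∀ (W : Over (Spec (CommRingCat.of k))) (m : W ⟶ N) (x : W ⟶ X), lift (m ≫ n) x ≫ a.act = x :=
    fun W m x => by simpa using (hN W (m ≫ n)).1 ⟨m, rfl⟩ W (𝟙 W) x
  refine ⟨AlgGrpH24.existsUnique_descend_action π hπ hker a htriv, fun b hb => ⟨fun T q hq => ?_, ?_, ?_⟩⟩
  · obtain ⟨T', d, g, hd, hdg⟩ := hπ.exists_pullback q
    obtain ⟨m, hm⟩ := (hN T' g).2 fun T'' s x => by
      rw [← hb, ← Category.assoc, lift_whiskerRight, Category.assoc, ← hdg, ← Category.assoc s d]
      exact hq T'' (s ≫ d) x
    have := hd.epi
    rw [← cancel_epi d, hdg, ← hm, hone, MonObj.comp_one]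
  all_goals
    have e : CartesianMonoidalCategory.lift (CartesianMonoidalCategory.snd G X) a.act =
        (π ▷ X) ≫ CartesianMonoidalCategory.lift (CartesianMonoidalCategory.snd Q X) b.act := by
      rw [comp_lift, whiskerRight_snd, hb]
    haveI : Surjective (π ▷ X).left := (AlgGrpH24.IsCover.whiskerRight hπ X).2.1
    rw [e, Over.comp_left]
  · exact ⟨fun h => Surjective.of_comp (π ▷ X).left _, fun h => inferInstance⟩
  · exact ⟨fun h => IsDominant.of_comp (π ▷ X).left _, fun h => inferInstance⟩

end Groth.Agent.S14643
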