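import Groth.Statements.S14670
import Mathlib
import Groth.Agent.RegUFD.Basic
import Groth.Agent.S2599
-- import your own Groth.Agent.* helpers here

set_option autoImplicit false
universe u
open CAlg

namespace Groth.Agent.S14670

/-- Let R be a regular local ring and S an integral domain containing R as a subring over which it is a
finitely generated module, such that the localization of S at each of its maximal ideals is a
Cohen–Macaulay local ring. Then S is a flat R-module. (The published statement does not require S to
be a domain; in that generality it fails — for a discrete valuation ring R with residue field κ the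
ring R × κ contains R diagonally, is finite over R with Cohen–Macaulay localizations, and is not
flat — and the printed argument needs every maximal ideal of S to have height dim R, which holds
when S is a domain by going down.) -/
theorem result (R S : Type u) [CommRing R] [CommRing S]
    [IsRegularLocalRing R] [IsDomain S] [Algebra R S] [Module.Finite R S]
    (hinj : Function.Injective (algebraMap R S))
    (hCM : ∀ (q : Ideal S) [q.IsMaximal], LocCoh.IsCohenMacaulayLocalRing (Localization.AtPrime q)) :
    Module.Flat R S := by
  haveI := (RegUFD.ufd R).1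
  haveI := (RegUFD.ufd R).2
  haveI : IsNoetherianRing S := IsNoetherianRing.of_finite R S
  haveI : FaithfulSMul R S := (faithfulSMul_iff_algebraMap_injective R S).2 hinj
  haveI : Algebra.IsIntegral R S := Algebra.IsIntegral.of_finite R S
  refine Module.flat_of_isLocalized_maximal (R := R) (S := S) S
    (fun (P : Ideal S) _ => Localization.AtPrime P)
    (fun P _ => Algebra.linearMap S (Localization.AtPrime P)) fun q hq => ?_
  let B := Localization.AtPrime q
  haveI hqm : q.LiesOver (IsLocalRing.maximalIdeal R) :=
    ⟨(IsLocalRing.eq_maximalIdeal (Ideal.isMaximal_comap_of_isIntegral_of_isMaximal q)).symm⟩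
  have hmapB : ∀ r : R, r ∈ IsLocalRing.maximalIdeal R → algebraMap R B r ∈ IsLocalRing.maximalIdeal B := by
    intro r hr
    rw [IsScalarTower.algebraMap_apply R S B]
    exact (IsLocalization.AtPrime.to_map_mem_maximal_iff B q _).2 ((Ideal.mem_of_liesOver q _ r).1 hr)
  haveI : IsLocalHom (algebraMap R B) :=
    ((IsLocalRing.local_hom_TFAE _).out 0 2).mpr (Ideal.map_le_iff_le_comap.2 hmapB)
  have hfib : ringKrullDim (B ⧸ EGA4.mB R B) = 0 := by
    haveI : Nontrivial (B ⧸ EGA4.mB R B) := Ideal.Quotient.nontrivial_iff.2 (ne_top_of_le_ne_top
      (IsLocalRing.maximalIdeal.isMaximal B).ne_top (Ideal.map_le_iff_le_comap.2 hmapB))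
    haveI : Ring.KrullDimLE 0 (B ⧸ EGA4.mB R B) := Ring.krullDimLE_zero_iff.2 fun P hP => by
      haveI := hP
      have hPle : EGA4.mB R B ≤ P.comap (Ideal.Quotient.mk (EGA4.mB R B)) := by
        intro x hx
        simp [Ideal.Quotient.eq_zero_iff_mem.2 hx]
      set P' := P.comap (Ideal.Quotient.mk (EGA4.mB R B)) with hP'
      haveI : P'.IsPrime := inferInstance
      haveI : (P'.comap (algebraMap S B)).IsPrime := inferInstance
      have hR : (P'.comap (algebraMap S B)).comap (algebraMap R S) = IsLocalRing.maximalIdeal R := by
        refine ((IsLocalRing.maximalIdeal.isMaximal R).eq_of_le (Ideal.IsPrime.ne_top inferInstance) ?_).symm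
        intro r hr
        rw [Ideal.mem_comap, Ideal.mem_comap, ← IsScalarTower.algebraMap_apply]
        exact hPle (Ideal.mem_map_of_mem _ hr)
      have hmax : (P'.comap (algebraMap S B)).IsMaximal :=
        Ideal.isMaximal_of_isIntegral_of_isMaximal_comap _ (hR ▸ IsLocalRing.maximalIdeal.isMaximal R)
      have hle : P'.comap (algebraMap S B) ≤ q := by
        intro x hx
        rw [← IsLocalization.AtPrime.to_map_mem_maximal_iff B q]
        exact IsLocalRing.le_maximalIdeal (J := P') (Ideal.IsPrime.ne_top inferInstance) hx
      have hP'max : P'.IsMaximal := by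
        have e1 : P' = IsLocalRing.maximalIdeal B := by
          rw [← IsLocalization.map_comap q.primeCompl B P', show Ideal.under S P' = q from hmax.eq_of_le hq.ne_top hle]
          exact Localization.AtPrime.map_eq_maximalIdeal
        rw [e1]; exact IsLocalRing.maximalIdeal.isMaximal B
      exact (Ideal.map_eq_top_or_isMaximal_of_surjective _ Ideal.Quotient.mk_surjective hP'max).elim
        (fun h => absurd (Ideal.map_comap_of_surjective _ Ideal.Quotient.mk_surjective P ▸ h) hP.ne_top)
        (fun h => Ideal.map_comap_of_surjective _ Ideal.Quotient.mk_surjective P ▸ h)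
    exact ringKrullDimZero_iff_ringKrullDim_eq_zero.1 inferInstance
  have hdimB : ringKrullDim B = ringKrullDim R := by
    rw [IsLocalization.AtPrime.ringKrullDim_eq_height q B, ← IsLocalRing.maximalIdeal_height_eq_ringKrullDim,
      Ideal.height_eq_height_add_of_liesOver_of_hasGoingDown (IsLocalRing.maximalIdeal R) q]
    haveI : Ring.KrullDimLE 0 (S ⧸ (IsLocalRing.maximalIdeal R).map (algebraMap R S)) := by
      letI := Ideal.Quotient.field (IsLocalRing.maximalIdeal R)
      haveI : IsArtinianRing (S ⧸ (IsLocalRing.maximalIdeal R).map (algebraMap R S)) := by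
        haveI : Module.Finite (R ⧸ IsLocalRing.maximalIdeal R) (S ⧸ (IsLocalRing.maximalIdeal R).map (algebraMap R S)) :=
          Module.Finite.of_restrictScalars_finite R _ _
        exact IsArtinianRing.of_finite (R ⧸ IsLocalRing.maximalIdeal R) _
      infer_instance
    haveI : (q.map (Ideal.Quotient.mk ((IsLocalRing.maximalIdeal R).map (algebraMap R S)))).IsPrime :=
      Ideal.map_isPrime_of_surjective Ideal.Quotient.mk_surjective
        (by rw [Ideal.mk_ker, Ideal.map_le_iff_le_comap]; exact (Ideal.over_def q _).le)
    have h0 : (q.map (Ideal.Quotient.mk ((IsLocalRing.maximalIdeal R).map (algebraMap R S)))).height = 0 :=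
      Ideal.height_eq_zero_iff.2 (Ring.KrullDimLE.mem_minimalPrimes_iff.2 ⟨inferInstance, bot_le⟩)
    rw [h0, add_zero]
  have hCMB := (hCM q).supportDim_eq_depth
  haveI : Module.Flat R B := by
    apply Groth.Agent.S2599.result R B B hCMB
    rw [Module.supportDim_self_eq_ringKrullDim, hdimB]
    have e : (EGA4.mB R B • ⊤ : Submodule B B) = EGA4.mB R B := by
      rw [smul_eq_mul, Ideal.mul_top]
    unfold EGA4.FibMod
    rw [e, Module.supportDim_quotient_eq_ringKrullDim, hfib, add_zero]
  exact (inferInstance : Module.Flat R B)

end Groth.Agent.S14670
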