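import Groth.Statements.S14698
import Groth.Agent.Triage.ZMTBirPt
import Groth.Agent.MorLib.ElemEtaleSplit
import Groth.Agent.AlgSpLib.CartierDim
import Groth.Agent.PnCoh.Chow.Relative
import Mathlib.RingTheory.RegularLocalRing.Defs

set_option autoImplicit false
set_option backward.isDefEq.respectTransparency false
set_option backward.isDefEq.respectTransparency.types false
set_option linter.style.haveILetI false
universe u
open CategoryTheory CategoryTheory.Limits AlgebraicGeometry TopologicalSpace Topology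
open Resolve

namespace Groth.Agent.S14698

/-- At an isolated point of a fibre a proper birational morphism to a normal scheme is a local
isomorphism. -/
theorem isIso_stalkMap_of_isolated {X Y : Scheme.{u}} [IsIntegral X] [IsIntegral Y]
    (f : Y ⟶ X) [IsProper f] (hgen : f (genericPoint Y) = genericPoint X)
    (hbir : IsIso (f.stalkMap (genericPoint Y))) (y : Y)
    (hN : IsIntegrallyClosed (X.presheaf.stalk (f y)))
    (O : Set Y) (hO : IsOpen O) (hy : y ∈ O) (hiso : ∀ z ∈ O, f z = f y → z = y) :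
    IsIso (f.stalkMap y) := by
  obtain ⟨W, hW, hyW, -⟩ := exists_isAffineOpen_mem_and_subset (U := (⊤ : X.Opens)) (x := f y) trivial
  have hηW : genericPoint X ∈ W :=
    ((genericPoint_spec X).mem_open_set_iff W.2).2 ⟨_, ⟨trivial, hyW⟩⟩
  haveI : Nonempty W.toScheme := ⟨⟨_, hyW⟩⟩
  haveI : IsIntegral W.toScheme := isIntegral_of_isOpenImmersion W.ι
  haveI : Nonempty (f ⁻¹ᵁ W).toScheme := ⟨⟨y, hyW⟩⟩
  haveI : IsIntegral (f ⁻¹ᵁ W).toScheme := isIntegral_of_isOpenImmersion (f ⁻¹ᵁ W).ι
  haveI : IsAffine W.toScheme := hW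
  let g := f ∣_ W
  have hgy : (f ⁻¹ᵁ W).ι (genericPoint (f ⁻¹ᵁ W).toScheme) = genericPoint Y :=
    genericPoint_eq_of_isOpenImmersion _
  have hgx : W.ι (genericPoint W.toScheme) = genericPoint X := genericPoint_eq_of_isOpenImmersion _
  have hggen : g (genericPoint (f ⁻¹ᵁ W).toScheme) = genericPoint W.toScheme := by
    refine W.ι.isOpenEmbedding.injective ?_
    show W.ι (g _) = _
    rw [← Scheme.Hom.comp_apply, morphismRestrict_ι, Scheme.Hom.comp_apply, hgy, hgen, hgx]
  have hstalk : ∀ z : (f ⁻¹ᵁ W).toScheme, IsIso (f.stalkMap z.1) ↔ IsIso (g.stalkMap z) := fun z =>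
    ((MorphismProperty.isomorphisms CommRingCat).arrow_mk_iso_iff (morphismRestrictStalkMap f W z)).symm
  have hgbir : IsIso (g.stalkMap (genericPoint (f ⁻¹ᵁ W).toScheme)) := by
    refine (hstalk _).1 ?_
    have key : ∀ z, z = genericPoint Y → IsIso (f.stalkMap z) := by rintro z rfl; exact hbir
    exact key _ hgy
  let z : (f ⁻¹ᵁ W).toScheme := ⟨y, hyW⟩
  obtain ⟨w, hw⟩ : z ∈ Set.range (g.fiberι (g z)) := by
    rw [Scheme.Hom.range_fiberι]; rfl
  have hqf : g.QuasiFiniteAt z := by
    rw [← hw]
    refine MorLib.EEF.quasiFiniteAt_of_isOpen_singleton g (g z) w ?_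
    have h1 : IsOpen ((fun a => ((g.fiberι (g z) a).1 : Y)) ⁻¹' O) :=
      hO.preimage (continuous_subtype_val.comp (g.fiberι (g z)).continuous)
    convert h1 using 1
    ext a
    constructor
    · intro ha
      rw [Set.mem_singleton_iff.1 ha]
      show (g.fiberι (g z) w).1 ∈ O
      rw [hw]; exact hy
    · intro ha
      refine (g.fiberι (g z)).isEmbedding.injective ?_
      rw [hw]
      refine Subtype.ext (hiso _ ha ?_)
      have hmem : g.fiberι (g z) a ∈ g ⁻¹' {g z} := by
        rw [← Scheme.Hom.range_fiberι]; exact ⟨a, rfl⟩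
      have := congrArg Subtype.val (Set.mem_singleton_iff.1 hmem)
      simpa [g, morphismRestrict_base] using this
  have hNg : IsIntegrallyClosed (W.toScheme.presheaf.stalk (g z)) := by
    have e : W.ι (g z) = f y := by
      rw [← Scheme.Hom.comp_apply, morphismRestrict_ι]; rfl
    haveI : IsIntegrallyClosed (X.presheaf.stalk (W.ι (g z))) := by rw [e]; exact hN
    exact IsIntegrallyClosed.of_equiv (asIso (W.ι.stalkMap (g z))).commRingCatIsoToRingEquiv
  exact (hstalk z).2 (Triage.ZMTBirPt.isIso_stalkMap g hggen hgbir z hqf hNg)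

/-- Fibres of a desingularization over singular points of a normal surface are curves. -/
theorem result (k : Type u) [Field k] [IsAlgClosed k] (X : Scheme.{u}) [X.Over (Spec (CommRingCat.of k))]
    [IsIntegral X] (hdim : topologicalKrullDim X = 2)
    (hproj : ∃ (n : ℕ) (ι : X ⟶ CohB1.ProjSpace n k), IsClosedImmersion ι ∧ ι ≫ CohB1.ProjSpace.toSpec n k = (X ↘ (Spec (CommRingCat.of k))))
    (hnorm : Pi1.IsNormalScheme X) (U : X.Opens) (hU : ((U : Set X)ᶜ).Finite)
    (Y : Scheme.{u}) (φ : Y ⟶ X) [IsIntegral Y] (hdimY : topologicalKrullDim Y = 2)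
    (hregY : ∀ y : Y, IsRegularLocalRing (Y.presheaf.stalk y))
    (hprojY : ∃ (n : ℕ) (ι : Y ⟶ CohB1.ProjSpace n k), IsClosedImmersion ι ∧ ι ≫ CohB1.ProjSpace.toSpec n k = φ ≫ (X ↘ (Spec (CommRingCat.of k))))
    (hisoY : IsIso (φ ∣_ U))
    (x : X) (hx : ¬ IsRegularLocalRing (X.presheaf.stalk x)) :
    (φ.base ⁻¹' ({x} : Set X)).Nonempty ∧
      ∀ Z ∈ irreducibleComponents ↥(φ.base ⁻¹' ({x} : Set X)), topologicalKrullDim ↥Z = 1 := by
  obtain ⟨n, ιX, hιX, hιXeq⟩ := hproj
  obtain ⟨m, ιY, hιY, hιYeq⟩ := hprojY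
  haveI := hιX; haveI := hιY
  haveI : IsProper (CohB1.ProjSpace.toSpec n k) := PnCoh.Chow.isProper_toSpec n k
  haveI : IsProper (CohB1.ProjSpace.toSpec m k) := PnCoh.Chow.isProper_toSpec m k
  haveI : IsProper (X ↘ Spec (CommRingCat.of k)) := by rw [← hιXeq]; infer_instance
  haveI : IsProper (φ ≫ (X ↘ Spec (CommRingCat.of k))) := by rw [← hιYeq]; infer_instance
  haveI : IsProper φ := IsProper.of_comp φ (X ↘ Spec (CommRingCat.of k))
  haveI : IsLocallyNoetherian Y :=
    LocallyOfFiniteType.isLocallyNoetherian (φ ≫ (X ↘ Spec (CommRingCat.of k)))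
  haveI : CompactSpace Y := HasAffineProperty.iff_of_isAffine.1
    (inferInstance : QuasiCompact (φ ≫ (X ↘ Spec (CommRingCat.of k))))
  haveI : IsNoetherian Y := {}
  haveI : JacobsonSpace X := LocallyOfFiniteType.jacobsonSpace (X ↘ Spec (CommRingCat.of k))
  have hξU : genericPoint X ∈ U := by
    by_contra h
    have hsub : (U : Set X) = ∅ := Set.eq_empty_iff_forall_notMem.2 fun z hz =>
      h ((genericPoint_specializes z).mem_open U.isOpen hz)
    have hfin : (Set.univ : Set X).Finite := by simpa [hsub] using hU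
    haveI : Finite X := Set.finite_univ_iff.1 hfin
    haveI : DiscreteTopology X := inferInstance
    have := topologicalKrullDim_zero_of_discreteTopology X
    rw [hdim] at this
    exact absurd this (by decide)
  obtain ⟨y₀, hy₀⟩ := (φ ∣_ U).homeomorph.surjective ⟨genericPoint X, hξU⟩
  have hy₀' : φ y₀.1 = genericPoint X := by
    have := congrArg Subtype.val (show (φ ∣_ U) y₀ = ⟨genericPoint X, hξU⟩ from hy₀)
    rwa [morphismRestrict_base] at this
  have hgen : φ (genericPoint Y) = genericPoint X := by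
    have h1 : φ (genericPoint Y) ⤳ φ y₀.1 := (genericPoint_specializes y₀.1).map φ.continuous
    rw [hy₀'] at h1
    exact (h1.antisymm (genericPoint_specializes _)).eq
  have hbir : IsIso (φ.stalkMap (genericPoint Y)) :=
    ((MorphismProperty.isomorphisms CommRingCat).arrow_mk_iso_iff
      (morphismRestrictStalkMap φ U ⟨genericPoint Y, show φ (genericPoint Y) ∈ U by rw [hgen]; exact hξU⟩)).1
      (inferInstance : IsIso ((φ ∣_ U).stalkMap ⟨genericPoint Y, show φ (genericPoint Y) ∈ U by rw [hgen]; exact hξU⟩))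
  have hsurj : Function.Surjective φ := by
    intro a
    have h1 : genericPoint X ∈ Set.range φ := ⟨_, hgen⟩
    exact φ.isClosedMap.isClosed_range.stableUnderSpecialization (genericPoint_specializes a) h1
  have hxξ : x ≠ genericPoint X := fun h => hx (by
    rw [h]; exact (inferInstance : IsRegularLocalRing X.functionField))
  have hxU : x ∉ U := fun hxU => by
    obtain ⟨w, hw⟩ := (φ ∣_ U).homeomorph.surjective ⟨x, hxU⟩
    have hwx : φ w.1 = x := by
      have := congrArg Subtype.val (show (φ ∣_ U) w = ⟨x, hxU⟩ from hw)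
      rwa [morphismRestrict_base] at this
    haveI : IsIso (φ.stalkMap w.1) := ((MorphismProperty.isomorphisms CommRingCat).arrow_mk_iso_iff
      (morphismRestrictStalkMap φ U w)).1 (inferInstance : IsIso ((φ ∣_ U).stalkMap w))
    haveI := hregY w.1
    exact hx (hwx ▸ IsRegularLocalRing.of_ringEquiv (asIso (φ.stalkMap w.1)).commRingCatIsoToRingEquiv.symm)
  have hxc : IsClosed ({x} : Set X) := by
    have hfin : ((U : Set X)ᶜ ∩ closedPoints X).Finite := hU.inter_of_left _
    have hcl : IsClosed ((U : Set X)ᶜ ∩ closedPoints X) := by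
      rw [← Set.biUnion_of_singleton ((U : Set X)ᶜ ∩ closedPoints X)]
      exact hfin.isClosed_biUnion fun z hz => hz.2
    have h1 := JacobsonSpace.closure_inter_closedPoints_eq_closure U.isOpen.isClosed_compl.isLocallyClosed
    rw [hcl.closure_eq, U.isOpen.isClosed_compl.closure_eq] at h1
    exact (h1.symm ▸ hxU : x ∈ (U : Set X)ᶜ ∩ closedPoints X).2
  refine ⟨hsurj x, fun Z hZ => ?_⟩
  haveI : NoetherianSpace ↥(φ.base ⁻¹' ({x} : Set X)) := inferInstance
  haveI : IrreducibleSpace ↥Z := isIrreducible_iff_irreducibleSpace.1 hZ.1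
  obtain ⟨⟨a₀, ha₀⟩⟩ := (inferInstance : Nonempty ↥Z)
  refine le_antisymm ?_ ?_
  · -- a proper closed subset of a surface
    let S : Set Y := Subtype.val '' Z
    have hSc : IsClosed S :=
      (hxc.preimage φ.continuous).isClosedEmbedding_subtypeVal.isClosedMap _
        (isClosed_of_mem_irreducibleComponents Z hZ)
    have hlt : topologicalKrullDim ↥S < 2 := by
      rw [← hdimY]
      refine AlgSpLib.CartierDim.topologicalKrullDim_lt hSc (fun z _ => ⟨genericPoint Y, ?_, genericPoint_specializes z⟩) (by rw [hdimY]; decide)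
      rintro ⟨⟨w, hw⟩, -, rfl⟩
      exact hxξ (hw.symm.trans hgen)
    have hle : topologicalKrullDim ↥Z ≤ topologicalKrullDim ↥S := by
      refine IsInducing.topologicalKrullDim_le (f := fun z : ↥Z => (⟨z.1.1, z.1, z.2, rfl⟩ : ↥S)) ?_
      refine IsInducing.of_comp (by fun_prop) continuous_subtype_val ?_
      exact IsInducing.comp (g := fun a : ↥(φ.base ⁻¹' ({x} : Set X)) => (a : Y))
        (f := fun z : ↥Z => (z : ↥(φ.base ⁻¹' ({x} : Set X)))) IsInducing.subtypeVal IsInducing.subtypeVal
    revert hlt hle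
    generalize topologicalKrullDim ↥Z = dZ
    generalize topologicalKrullDim ↥S = dS
    intro h1 h2
    have h3 := h2.trans_lt h1
    revert h3
    cases dZ with
    | bot => exact fun _ => bot_le
    | coe d =>
      intro h3
      exact WithBot.coe_le_coe.2 (ENat.lt_two_iff.1 (WithBot.coe_lt_coe.1 h3))
  · -- not a point
    by_cases hsub : ∃ a b : ↥Z, a ≠ b
    · obtain ⟨a, b, hab⟩ := hsub
      have key : ∃ c : ↥Z, closure ({c} : Set ↥Z) ≠ Set.univ := by
        by_contra hc
        push Not at hc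
        exact hab ((inseparable_iff_closure_eq.2 ((hc a).trans (hc b).symm)).eq)
      obtain ⟨c, hc⟩ := key
      let T₁ : IrreducibleCloseds ↥Z := ⟨closure {c}, isIrreducible_singleton.closure, isClosed_closure⟩
      let T₂ : IrreducibleCloseds ↥Z := ⟨Set.univ, IrreducibleSpace.isIrreducible_univ _, isClosed_univ⟩
      have hlt : T₁ < T₂ := SetLike.coe_ssubset_coe.1
        ⟨Set.subset_univ _, fun h => hc (Set.eq_univ_of_univ_subset h)⟩
      have := Order.LTSeries.length_le_krullDim ((RelSeries.singleton {(p, q) : IrreducibleCloseds ↥Z × IrreducibleCloseds ↥Z | p < q} T₁).snoc T₂ hlt)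
      simpa [topologicalKrullDim] using this
    · push Not at hsub
      exfalso
      have hZsing : ∀ b ∈ Z, b = a₀ := fun b hb => congrArg Subtype.val (hsub ⟨b, hb⟩ ⟨a₀, ha₀⟩)
      let others := irreducibleComponents ↥(φ.base ⁻¹' ({x} : Set X)) \ {Z}
      have hcl : IsClosed (⋃₀ others) := by
        rw [Set.sUnion_eq_biUnion]
        exact NoetherianSpace.finite_irreducibleComponents.sdiff.isClosed_biUnion
          fun W hW => isClosed_of_mem_irreducibleComponents W hW.1
      have hopen : IsOpen ({a₀} : Set ↥(φ.base ⁻¹' ({x} : Set X))) := by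
        convert hcl.isOpen_compl using 1
        ext b
        refine ⟨fun hb => ?_, fun hb => ?_⟩
        · rw [Set.mem_singleton_iff.1 hb]
          rintro ⟨W, ⟨hW, hWZ⟩, haW⟩
          refine hWZ (le_antisymm (hZ.2 hW.1 ?_) ?_)
          · exact fun c hc => (hZsing c hc).symm ▸ haW
          · exact fun c hc => (hZsing c hc).symm ▸ haW
        · have hbc : b ∈ irreducibleComponent b := mem_irreducibleComponent
          by_cases hbZ : irreducibleComponent b = Z
          · exact hZsing b (hbZ ▸ hbc)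
          · exact absurd ⟨_, ⟨irreducibleComponent_mem_irreducibleComponents b, hbZ⟩, hbc⟩ hb
      obtain ⟨O, hO, hOeq⟩ := isOpen_induced_iff.1 hopen
      have hax : φ a₀.1 = x := a₀.2
      have ha₀O : a₀.1 ∈ O := by
        have : a₀ ∈ Subtype.val ⁻¹' O := by rw [hOeq]; rfl
        exact this
      haveI := isIso_stalkMap_of_isolated φ hgen hbir a₀.1 (hnorm _).2 O hO ha₀O
        (fun z hzO hz => by
          have : (⟨z, hz.trans hax⟩ : ↥(φ.base ⁻¹' ({x} : Set X))) ∈ ({a₀} : Set _) := by
            rw [← hOeq]; exact hzO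
          exact congrArg Subtype.val (Set.mem_singleton_iff.1 this))
      haveI := hregY a₀.1
      exact hx (hax ▸ IsRegularLocalRing.of_ringEquiv (asIso (φ.stalkMap a₀.1)).commRingCatIsoToRingEquiv.symm)

end Groth.Agent.S14698
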