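import Groth.Statements.S14703
import Groth.Agent.SurfInt.DivisorEq
import Groth.Agent.SurfInt.NegDefContract
import Groth.Agent.SurfInt.CMInter
import Groth.Agent.SurfInt.FibreCurve
import Groth.Agent.VarInt.DegPull
import Groth.Agent.ArSurfX.PullIdeal

set_option autoImplicit false
set_option linter.style.haveILetI false
set_option linter.unusedSectionVars false
set_option backward.isDefEq.respectTransparency false
set_option backward.isDefEq.respectTransparency.types false
universe u
open CategoryTheory CategoryTheory.Limits AlgebraicGeometry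
open Surf

namespace Groth.Agent.S14703

/-- Let k be an algebraically closed field, X an integral scheme of dimension two admitting a closed
immersion into some P^n_k over k, and U ⊆ X open with finite complement. Let φ : Y → X be a
k-morphism from an integral scheme of dimension two with all local rings regular, itself admitting a
closed immersion into some projective space over k, restricting to an isomorphism over U; let μ_1,
…, μ_s be distinct integral one-dimensional closed subschemes of Y, each mapped to a point, such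
that every integral one-dimensional closed subscheme of Y mapped to a point has the support of one
of them. Let D be an effective Cartier divisor on X (an ideal sheaf I_D locally generated by one
nonzerodivisor) and D̃ an effective Cartier divisor on Y whose support contains no μ_j and whose
ideal agrees with the inverse-image ideal φ⁻¹I_D · O_Y on every affine open contained in φ⁻¹(U) —
the strict transform of D. Then there are natural numbers γ_1, …, γ_s such that φ⁻¹I_D · O_Y =
I_{D̃} · ∏_j I_{μ_j}^{γ_j} (the total transform is the strict transform plus Σ γ_j μ_j) and Σ_j (μ_i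
· μ_j) γ_j = -(D̃ · μ_i) for every i (the total transform meets every μ_i with intersection number
zero), where (A · B) = χ(O_Y) - χ(I_A) - χ(I_B) + χ(I_A ⊗ I_B) (packaged as FGA.intNum). (The
published statement writes the coefficient vector as γ = -d⁻¹ (D̃ · μ), with d = (μ_i · μ_j), for a
locally principal divisor on a normal surface and a resolution that is an isomorphism exactly off
the singular points with exceptional fibres of pure dimension one; this row states the linear system
d γ = -(D̃ · μ), for effective Cartier divisors, any resolution that is an isomorphism over an open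
subset with finite complement, and X not assumed normal.) -/
theorem result (k : Type u) [Field k] [IsAlgClosed k] (X : Scheme.{u}) [X.Over (Spec (CommRingCat.of k))]
    [IsIntegral X] (hdim : topologicalKrullDim X = 2)
    (hproj : ∃ (n : ℕ) (ι : X ⟶ CohB1.ProjSpace n k), IsClosedImmersion ι ∧ ι ≫ CohB1.ProjSpace.toSpec n k = (X ↘ (Spec (CommRingCat.of k))))
    (U : X.Opens) (hU : ((U : Set X)ᶜ).Finite)
    (Y : Scheme.{u}) (φ : Y ⟶ X) [IsIntegral Y] (hdimY : topologicalKrullDim Y = 2)
    (hregY : ∀ y : Y, IsRegularLocalRing (Y.presheaf.stalk y))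
    (hprojY : ∃ (n : ℕ) (ι : Y ⟶ CohB1.ProjSpace n k), IsClosedImmersion ι ∧ ι ≫ CohB1.ProjSpace.toSpec n k = φ ≫ (X ↘ (Spec (CommRingCat.of k))))
    (hiso : IsIso (φ ∣_ U))
    (s : ℕ) (μ : Fin s → Y.IdealSheafData) (hμint : ∀ j, IsIntegral (μ j).subscheme)
    (hμdim : ∀ j, topologicalKrullDim ((μ j).support : Set Y) = 1)
    (hμpt : ∀ j, ∃ x : X, φ.base '' ((μ j).support : Set Y) = {x})
    (hμinj : Function.Injective fun j => ((μ j).support : Set Y))
    (hμall : ∀ E : Y.IdealSheafData, IsIntegral E.subscheme → topologicalKrullDim (E.support : Set Y) = 1 →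
      (∃ x : X, φ.base '' (E.support : Set Y) = {x}) → ∃ j, (E.support : Set Y) = (μ j).support)
    (D : X.IdealSheafData) (hD : FGA.IsEffCartier D) (Dt : Y.IdealSheafData) (hDt : FGA.IsEffCartier Dt)
    (hDtexc : ∀ j, ¬ ((μ j).support : Set Y) ⊆ Dt.support)
    (hDtU : ∀ W : Y.affineOpens, (W : Y.Opens) ≤ φ ⁻¹ᵁ U → Dt.ideal W = (D.comap φ).ideal W) :
    letI : Y.Over (Spec (CommRingCat.of k)) := ⟨φ ≫ (X ↘ (Spec (CommRingCat.of k)))⟩
    ∃ γ : Fin s → ℕ, D.comap φ = Dt * ∏ j : Fin s, μ j ^ γ j ∧
      ∀ i : Fin s, (∑ j : Fin s, FGA.intNum k Y 2 ![ClSub.idealMod (μ i), ClSub.idealMod (μ j)] (Coh.structureModule Y) * (γ j : ℤ)) =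
        - FGA.intNum k Y 2 ![ClSub.idealMod Dt, ClSub.idealMod (μ i)] (Coh.structureModule Y) := by
  open Groth.Agent in
  open Groth.Agent.SurfInt in
  letI iY : Y.Over (Spec (CommRingCat.of k)) := ⟨φ ≫ (X ↘ (Spec (CommRingCat.of k)))⟩
  haveI := isProper_of_proj k (X := Y) hprojY
  haveI := isProper_of_proj k (X := X) hproj
  haveI := noeth k (X := Y)
  haveI := noeth k (X := X)
  haveI : IsProper φ := VarInt.isProper_of_over k φ rfl
  haveI := hiso
  have hd := hdimY.le
  haveI : JacobsonSpace X := LocallyOfFiniteType.jacobsonSpace (X ↘ Spec (CommRingCat.of k))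
  have hUη : genericPoint X ∈ U := by
    by_contra h
    have hall : (U : Set X) = ∅ := Set.eq_empty_of_forall_notMem fun z hz =>
      h ((genericPoint_specializes z).mem_open U.isOpen hz)
    rw [hall, Set.compl_empty] at hU
    haveI : Finite X := Set.finite_univ_iff.1 hU
    have h0 := topologicalKrullDim_zero_of_discreteTopology X
    rw [hdim] at h0
    exact absurd h0 (by norm_num)
  have hφη : φ (genericPoint Y) = genericPoint X := ArSurfX.apply_genericPoint_of_isIso_restrict φ hUη
  have hDη : genericPoint X ∉ D.support := ParShLib.genericPoint_notMem_support (I := D) hD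
  have hDe : BlowUp.IsEffCartierIdeal D := hD
  have hsupp : ((D.comap φ).support : Set Y) = φ ⁻¹' (D.support : Set X) := by
    rw [Scheme.IdealSheafData.support_comap]
    rfl
  have hF : BlowUp.IsEffCartierIdeal (D.comap φ) := by
    intro x
    obtain ⟨V, hV, b, hb, hb'⟩ :=
      ((ModPairLib.isLocPrincipal_of_isEffCartier hDe).comap φ).exists_basicOpen x
    haveI : Nonempty V.1 := ⟨⟨x, hV⟩⟩
    refine ⟨V, hV, b, mem_nonZeroDivisors_of_ne_zero fun h0 => ?_, hb⟩
    have hη : genericPoint Y ∈ V.1 ⊓ ModPair.interior (D.comap φ) :=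
      ⟨(genericPoint_specializes x).mem_open V.1.isOpen hV, fun hs => hDη (by
        have h1 : genericPoint Y ∈ φ ⁻¹' (D.support : Set X) := hsupp ▸ hs
        have h2 : φ (genericPoint Y) ∈ (D.support : Set X) := h1
        rwa [hφη] at h2)⟩
    rw [hb', h0, Scheme.basicOpen_zero] at hη
    exact hη
  haveI : ∀ j, IsIntegral (μ j).subscheme := hμint
  have hμe : ∀ j, BlowUp.IsEffCartierIdeal (μ j) := fun j => isEffCartier_curve k hdimY hregY (μ j) (hμdim j)
  have hμne : ∀ j, μ j ≠ ⊤ := fun j h => by
    have := hμdim j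
    rw [h, dim_support_top] at this
    exact absurd this (by simp)
  choose pt hpt using hμpt
  have hμpt' : ∀ j, ∀ z ∈ ((μ j).support : Set Y), φ z = pt j := fun j z hz => by
    have h : φ.base z ∈ ({pt j} : Set X) := hpt j ▸ Set.mem_image_of_mem _ hz
    exact h
  have hμV : ∀ j, ∀ z ∈ ((μ j).support : Set Y), z ∉ φ ⁻¹ᵁ U := fun j z hz hzU => by
    have hzU' : φ z ∈ U := hzU
    rw [hμpt' j z hz] at hzU'
    have hs := ArSurfX.subsingleton_preimage_of_isIso_restrict φ hzU'
    have hg : genC (μ j) = z := hs (hμpt' j _ (genC_mem _)) (hμpt' j z hz)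
    obtain ⟨w, hw, hwc⟩ := exists_closed_on_curve k (μ j) (hμdim j)
    have hgw : genC (μ j) = w := hs (hμpt' j _ (genC_mem _)) (hμpt' j w hw)
    exact not_isClosed_genC k (μ j) (hμdim j) (hgw ▸ hwc)
  obtain ⟨γ, R, hR, hFR, hRC⟩ := exists_decomp μ hμe hμne (D.comap φ) hF
  have hvert : ∀ (K : Y.IdealSheafData) [IsIntegral K.subscheme], topologicalKrullDim (K.support : Set Y) = 1 →
      genC K ∉ φ ⁻¹ᵁ U → ∃ j, K = μ j := by
    intro K _ hK hKV
    have hg : φ (genC K) ∈ (U : Set X)ᶜ := hKV
    have himg : φ '' (K.support : Set Y) ⊆ (U : Set X)ᶜ := by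
      rintro _ ⟨z, hz, rfl⟩
      exact (((mem_support_curve_iff k K z).1 hz).map φ.continuous).mem_closed U.isOpen.isClosed_compl hg
    have hcl : IsClosed ({φ (genC K)} : Set X) :=
      isClosed_of_mem_finite k (S := (U : Set X)ᶜ) U.isOpen.isClosed_compl hU hg
    have himg' : φ.base '' (K.support : Set Y) = {φ (genC K)} := by
      refine Set.eq_singleton_iff_nonempty_unique_mem.2 ⟨⟨_, _, genC_mem K, rfl⟩, ?_⟩
      rintro _ ⟨z, hz, rfl⟩
      exact (((mem_support_curve_iff k K z).1 hz).map φ.continuous).mem_closed hcl rfl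
    obtain ⟨j, hj⟩ := hμall K inferInstance hK ⟨_, himg'⟩
    exact ⟨j, eq_of_support_eq K (μ j) (TopologicalSpace.Closeds.ext hj)⟩
  have hRD : R = Dt := by
    refine eq_of_eq_on_open k hdimY hregY hR hDt (φ ⁻¹ᵁ U) (fun W hW => ?_) fun K _ hK hKV => ?_
    · have h1 : ((∏ i, μ i ^ γ i).ideal W) = ⊤ := by
        rw [← PrimeSpectrum.zeroLocus_empty_iff_eq_top]
        refine Set.eq_empty_of_forall_notMem fun q hq => ?_
        have hq1 : W.2.fromSpec q ∈ (W.1 : Set Y) := by
          rw [← W.2.range_fromSpec]; exact Set.mem_range_self _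
        have hq2 : W.2.fromSpec q ∈ ((∏ i, μ i ^ γ i).support : Set Y) := by
          have h2 : W.2.fromSpec q ∈ W.2.fromSpec '' PrimeSpectrum.zeroLocus ((∏ i, μ i ^ γ i).ideal W : Set _) :=
            Set.mem_image_of_mem _ hq
          rw [W.2.fromSpec_image_zeroLocus, ← Scheme.IdealSheafData.coe_support_inter] at h2
          exact h2.1
        exact notMem_support_prod_pow Finset.univ μ γ (fun j _ _ hj => hμV j _ hj (hW hq1)) hq2
      have h2 : (D.comap φ).ideal W = R.ideal W := by
        rw [hFR, Scheme.IdealSheafData.ideal_mul, Pi.mul_apply, h1, Ideal.top_mul]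
      exact h2.symm.trans (hDtU W hW).symm
    · obtain ⟨j, rfl⟩ := hvert K hK hKV
      exact ⟨hRC j, fun h => hDtexc j (Scheme.IdealSheafData.support_antitone h)⟩
  refine ⟨γ, by rw [hFR, hRD, mul_comm], fun i => ?_⟩
  have iμ := fun j => ArSurfX.isInvertible_idealMod (hμe j)
  have iF := ArSurfX.isInvertible_idealMod hF
  have iR := ArSurfX.isInvertible_idealMod hR
  obtain ⟨eF⟩ := ArSurfX.nonempty_pullback_idealMod hDe φ hF
  have h0 : dot k (ClSub.idealMod (μ i)) (ClSub.idealMod (D.comap φ)) = 0 := by
    rw [dot_ideal_left k hd (μ i) (iμ i) iF, ← degOn_congr k eF,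
      degOn_pullback_const k φ (ArSurfX.isInvertible_idealMod hDe) (pt i) (μ i) (hμpt' i), neg_zero]
  rw [hFR, dot_idealMod_mul k hd (iμ i) (isEffCartier_prod _ _ fun j _ => isEffCartier_pow (hμe j) _) hR,
    dot_idealMod_prod k hd (iμ i) _ μ hμe γ, hRD, dot_comm k hd (iμ i) (hRD ▸ iR)] at h0
  show ∑ j, dot k (ClSub.idealMod (μ i)) (ClSub.idealMod (μ j)) * (γ j : ℤ) =
    - dot k (ClSub.idealMod Dt) (ClSub.idealMod (μ i))
  simp only [mul_comm _ ((γ _ : ℕ) : ℤ)]
  omega

end Groth.Agent.S14703
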