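import Groth.Statements.S14734
import Mathlib
import Groth.Agent.CA2H40.PruferDim
import Groth.Agent.Cat15.Order
-- import your own Groth.Agent.* helpers here

set_option autoImplicit false
universe u
open ValPrufer

namespace Groth.Agent.S14734

open Groth.Agent.CA2H40

section
variable {R S : Type u} [CommRing R] [CommRing S] [Algebra R S] [Algebra.FiniteType R S]

theorem fd_le_gen : ∃ N : ℕ, ∀ (P : Ideal S) [P.IsPrime], DimFormula.fd R P ≤ N := by
  obtain ⟨N, π, hπ⟩ := Algebra.FiniteType.iff_quotient_mvPolynomial''.mp ‹Algebra.FiniteType R S›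
  refine ⟨N, fun P _ => ?_⟩
  rw [← PruferDim.trdeg_eq_fd]
  let g : MvPolynomial (Fin N) (R ⧸ P.under R) →ₐ[R ⧸ P.under R] (S ⧸ P) :=
    MvPolynomial.aeval fun i => Ideal.Quotient.mk P (π (MvPolynomial.X i))
  have hg : Function.Surjective g := fun y => by
    obtain ⟨s, rfl⟩ := Ideal.Quotient.mk_surjective y
    obtain ⟨G, rfl⟩ := hπ s
    refine ⟨MvPolynomial.map (Ideal.Quotient.mk (P.under R)) G, ?_⟩
    induction G using MvPolynomial.induction_on with
    | C a =>
      simp only [g, MvPolynomial.map_C, MvPolynomial.aeval_C]
      rw [← MvPolynomial.algebraMap_eq, AlgHom.commutes]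
      rfl
    | add p q hp hq => simp only [map_add, hp, hq]
    | mul_X p i hp => simp only [map_mul, hp, MvPolynomial.map_X, g, MvPolynomial.aeval_X]
  have h := trdeg_le_of_surjective g hg
  rw [MvPolynomial.trdeg_of_isDomain, Cardinal.lift_mk_fin] at h
  calc Cardinal.toNat (Algebra.trdeg (R ⧸ P.under R) (S ⧸ P)) ≤ Cardinal.toNat (N : Cardinal.{u}) :=
        Cardinal.toNat_le_toNat h (Cardinal.natCast_lt_aleph0)
    _ = N := Cardinal.toNat_natCast N

variable [IsDomain R] (hR : ∀ (p : Ideal R) [p.IsPrime], ValuationRing (Localization.AtPrime p))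
  (hdim : ringKrullDim R < ⊤)
include hR hdim

theorem chain_le (s : LTSeries (PrimeSpectrum S)) :
    (s.length : ℤ) ≤ PruferDim.delta R s.head.asIdeal - PruferDim.delta R s.last.asIdeal := by
  induction s using RelSeries.inductionOn with
  | singleton a => exact (sub_self _).ge
  | cons s a ha ih =>
    have h := PruferDim.delta_lt hR hdim a.asIdeal s.head.asIdeal ha
    simp only [RelSeries.head_cons, RelSeries.last_cons, RelSeries.cons_length]
    push_cast
    omega

theorem chain_eq (s : LTSeries (PrimeSpectrum S)) (hs : ∀ i : Fin s.length, s (Fin.castSucc i) ⋖ s (Fin.succ i)) :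
    (s.length : ℤ) = PruferDim.delta R s.head.asIdeal - PruferDim.delta R s.last.asIdeal := by
  obtain ⟨n, f, hf⟩ := s
  have key : ∀ i : Fin (n + 1), (i : ℤ) = PruferDim.delta R (f 0).asIdeal - PruferDim.delta R (f i).asIdeal := by
    intro i
    induction i using Fin.induction with
    | zero => simp
    | succ i ih =>
      have h := (PruferDim.covBy_iff hR hdim (f i.castSucc).asIdeal (f i.succ).asIdeal (hf i)).mp (hs i)
      simp only [Fin.val_succ, Fin.coe_castSucc] at ih ⊢
      push_cast
      omega
  exact key (Fin.last n)

end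

/-- Let R be a Prüfer domain (an integral domain whose localisations at primes are valuation rings) of
finite Krull dimension and S an R-algebra of finite type. Then S, and every localisation T of S at a
multiplicative subset, is catenary and of finite Krull dimension. (The published statement is for a
scheme X of finite type over R and the spectrum of any semilocalisation of X; catenarity is local
and finiteness of dimension is checked on a finite affine cover, so this row states the affine case
together with arbitrary localisations.) -/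
theorem result
    (R : Type u) [CommRing R] [IsDomain R]
    (hR : ∀ (p : Ideal R) [p.IsPrime], ValuationRing (Localization.AtPrime p))
    (hdim : ringKrullDim R < ⊤)
    (S : Type u) [CommRing S] [Algebra R S] [Algebra.FiniteType R S]
    (M : Submonoid S) (T : Type u) [CommRing T] [Algebra S T] [IsLocalization M T] :
    CAlg.IsCatenary S ∧ ringKrullDim S < ⊤ ∧ CAlg.IsCatenary T ∧ ringKrullDim T < ⊤ := by
  have hcat : CAlg.IsCatenary S := by
    refine ⟨fun p q _ => ⟨(PruferDim.delta R p.asIdeal - PruferDim.delta R q.asIdeal).toNat,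
      fun s h1 h2 => ?_⟩, fun s t h1 h2 hs ht => ?_⟩
    · have := chain_le hR hdim s
      subst h1; subst h2
      omega
    · have a := chain_eq hR hdim s hs
      have b := chain_eq hR hdim t ht
      simp only [h1, h2] at a
      omega
  obtain ⟨N, hN⟩ := fd_le_gen (R := R) (S := S)
  have hS : ringKrullDim S < ⊤ := by
    obtain ⟨D, hD⟩ : ∃ D : ℕ, ∀ (p : Ideal R) [p.IsPrime], p.height.toNat ≤ D := by
      obtain ⟨D, hD⟩ : ∃ D : ℕ, ringKrullDim R = (D : WithBot ℕ∞) := by
        rcases hr : ringKrullDim R with _ | _ | D
        · exact absurd (hr ▸ (ringKrullDim_nonneg_of_nontrivial (R := R))) (not_le.mpr (WithBot.bot_lt_coe _))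
        · rw [hr] at hdim; exact absurd hdim (lt_irrefl _)
        · exact ⟨D, rfl⟩
      refine ⟨D, fun p _ => ENat.toNat_le_of_le_natCast ?_⟩
      have := (Ideal.height_le_ringKrullDim_of_isPrime (I := p)).trans_eq hD
      exact WithBot.coe_le_coe.mp this
    have hb : ringKrullDim S ≤ ((N + D : ℕ) : WithBot ℕ∞) := iSup_le fun s => by
      have h1 := chain_le hR hdim s
      have h2 := hN s.head.asIdeal
      have h3 := hD (s.last.asIdeal.under R)
      have h4 : s.length ≤ N + D := by unfold PruferDim.delta at h1; omega
      exact_mod_cast h4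
    exact hb.trans_lt (WithBot.coe_lt_coe.mpr (ENat.coe_lt_top _))
  refine ⟨hcat, hS, Cat15.isCatenary_localization M hcat, ?_⟩
  refine lt_of_le_of_lt (Order.krullDim_le_of_strictMono (PrimeSpectrum.comap (algebraMap S T))
    fun a b hab => ?_) hS
  exact lt_of_le_of_ne (Ideal.comap_mono (f := algebraMap S T) hab.le)
    fun e => hab.ne ((PrimeSpectrum.localization_comap_isEmbedding T M).injective e)

end Groth.Agent.S14734
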