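import Groth.Statements.S14751
import Groth.Agent.Chev24.Isog

set_option autoImplicit false
universe u
open CategoryTheory CategoryTheory.Limits MonoidalCategory CartesianMonoidalCategory MonObj GrpObj AlgebraicGeometry
open AlgGrp

namespace Groth.Agent.S14751

/-- Over an algebraically closed field k let G be a group variety (smooth connected k-group scheme of
finite type), i : N → G an affine closed subgroup scheme which is the kernel of a flat surjective
homomorphism π : G → Q, and j : A → G an abelian subvariety (a smooth connected proper closed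
subgroup scheme) with A · N = G, that is, the multiplication A × N → G is surjective. Then the
multiplication A × N → G is a homomorphism and an isogeny (surjective with finite kernel), and so is
the composite A → G → Q. (In the published statement N is the largest connected affine normal
subgroup variety and Q = G/N the Albanese quotient; only the listed properties are used.) -/
theorem result (k : Type u) [Field k] [IsAlgClosed k]
    (G N A Q : Over (Spec (CommRingCat.of k))) [GrpObj G] [GrpObj N] [GrpObj A] [GrpObj Q]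
    [Smooth G.hom] [QuasiCompact G.hom] [ConnectedSpace ↥G.left]
    (i : N ⟶ G) [IsMonHom i] [IsClosedImmersion i.left] [IsAffine N.left]
    (π : G ⟶ Q) [IsMonHom π] [Flat π.left] [Surjective π.left] (hker : AlgGrp.IsKernel i π)
    (j : A ⟶ G) [IsMonHom j] [IsClosedImmersion j.left] [Smooth A.hom] [ConnectedSpace ↥A.left] [IsProper A.hom]
    (hsurj : Surjective ((j ⊗ₘ i) ≫ μ[G]).left) :
    IsMonHom ((j ⊗ₘ i) ≫ μ[G]) ∧ SGA7.IsIsogenyOver ((j ⊗ₘ i) ≫ μ[G]) ∧ SGA7.IsIsogenyOver (j ≫ π) := by
  haveI := AlgGrpH24.geometricallyIntegral_grp A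
  haveI : IsMonHom ((j ⊗ₘ i) ≫ μ[G]) :=
    AlgGrpH24.isMonHom_mul_central j i fun a g => AlgGrpH24.central_of_proper j a g
  haveI : IsSeparated Q.hom := GrpSchLib.AntiAffine.isSeparated_grp Q
  have hf : ((j ⊗ₘ i) ≫ μ[G]) ≫ π = fst A N ≫ j ≫ π := by
    have : (j ⊗ₘ i) ≫ μ[G] = (fst A N ≫ j) * (snd A N ≫ i) := by
      rw [Hom.mul_def, ← lift_map, lift_fst_snd, Category.id_comp]
    rw [this, MonObj.mul_comp, Category.assoc, Category.assoc, hker.w, ← Category.assoc (snd A N), comp_toUnit,
      ← Hom.one_def, _root_.mul_one]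
  haveI : Surjective (j ≫ π).left := by
    haveI := hsurj
    haveI : Surjective ((fst A N).left ≫ (j ≫ π).left) := by
      rw [← Over.comp_left, ← hf, Over.comp_left]; infer_instance
    exact Surjective.of_comp (fst A N).left (j ≫ π).left
  refine ⟨inferInstance, ⟨hsurj, fun N' ι₀ hι => ?_⟩,
    ⟨inferInstance, fun K c hc => Chev24.isFinite_kernel_restrict i π hker j c hc⟩⟩
  obtain ⟨K, _, c, hcm, hcc, -, hck⟩ := GrpSchLib.exists_kernel (j ≫ π)
  haveI : IsFinite K.hom := Chev24.isFinite_kernel_restrict i π hker j c hck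
  haveI : Mono c := Over.mono_of_mono_left _
  haveI : Mono i := Over.mono_of_mono_left _
  have w : (ι₀ ≫ fst A N) ≫ j ≫ π = toUnit N' ≫ η[Q] := by
    rw [Category.assoc, ← hf, ← Category.assoc ι₀, hι.w, Category.assoc, IsMonHom.one_hom]
  let φ : N' ⟶ K := hck.lift (ι₀ ≫ fst A N) (toUnit N') w
  let n : K ⟶ N := hker.lift (c ≫ j)⁻¹ (toUnit K) (by
    rw [GrpObj.inv_comp, Category.assoc, hck.w, ← Hom.one_def, inv_one])
  have hn : n ≫ i = (c ≫ j)⁻¹ := hker.lift_fst _ _ _
  let ψ : K ⟶ N' := hι.lift (lift c n) (toUnit K) (by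
    rw [lift_map_assoc, ← Hom.mul_def, hn, mul_inv_cancel, Hom.one_def])
  have h1 : φ ≫ ψ = 𝟙 N' := by
    refine hι.hom_ext ?_ (toUnit_unique _ _)
    rw [Category.assoc, hι.lift_fst, Category.id_comp, comp_lift, hck.lift_fst]
    apply CartesianMonoidalCategory.hom_ext
    · rw [lift_fst]
    · rw [lift_snd, ← cancel_mono i, Category.assoc, hn, GrpObj.comp_inv, ← Category.assoc φ, hck.lift_fst]
      refine inv_eq_of_mul_eq_one_right ?_
      have h2 := hι.w
      rw [← lift_comp_fst_snd ι₀, lift_map_assoc, ← Hom.mul_def] at h2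
      rw [h2, ← Hom.one_def]
  have h2 : ψ ≫ φ = 𝟙 K := by
    rw [← cancel_mono c, Category.assoc, hck.lift_fst, hι.lift_fst_assoc, lift_fst, Category.id_comp]
  let e : N' ≅ K := ⟨φ, ψ, h1, h2⟩
  haveI : IsIso φ.left := ((Over.forget _).mapIso e).isIso_hom
  rw [← Over.w φ]
  infer_instance

end Groth.Agent.S14751
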