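import Groth.Statements.S17454
import Groth.Agent.AlgGrp25.AffToProper
import Groth.Agent.GrpSchLib.SmoothReduced

set_option autoImplicit false
universe u
open CategoryTheory MonoidalCategory CartesianMonoidalCategory MonObj GrpObj AlgebraicGeometry CategoryTheory.Limits
open AlgGrp Groth.Agent

namespace Groth.Agent.S17454

/-- Let k be a perfect field and f : G' → G a surjective homomorphism of smooth connected k-group
schemes of finite type. Let N' → G' and N → G be Chevalley decompositions: normal closed subgroup
schemes which are smooth, connected and affine, kernels of flat surjective homomorphisms q' : G' →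
A' and q : G → A onto proper smooth connected k-group schemes. Then f maps N' onto N: there is a
homomorphism g : N' → N, compatible with f and the two inclusions, whose underlying map is
surjective; and f induces a homomorphism A' → A compatible with q' and q whose underlying map is
surjective. (The isogeny refinement of the published statement is not stated.) -/
theorem result (k : Type u) [Field k] [PerfectField k]
    (G' G : Over (Spec (CommRingCat.of k))) [GrpObj G'] [GrpObj G]
    [Smooth G'.hom] [QuasiCompact G'.hom] [ConnectedSpace ↥G'.left]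
    [Smooth G.hom] [QuasiCompact G.hom] [ConnectedSpace ↥G.left]
    (f : G' ⟶ G) [IsMonHom f] [Surjective f.left]
    (N' : Over (Spec (CommRingCat.of k))) [GrpObj N'] (i' : N' ⟶ G') [IsMonHom i'] [IsClosedImmersion i'.left]
    [Smooth N'.hom] [ConnectedSpace ↥N'.left] [IsAffine N'.left] (hn' : AlgGrp.IsNormalHom i')
    (A' : Over (Spec (CommRingCat.of k))) [GrpObj A'] (q' : G' ⟶ A') [IsMonHom q'] [Surjective q'.left] [Flat q'.left]
    [IsProper A'.hom] [Smooth A'.hom] [ConnectedSpace ↥A'.left] (hk' : AlgGrp.IsKernel i' q')
    (N : Over (Spec (CommRingCat.of k))) [GrpObj N] (i : N ⟶ G) [IsMonHom i] [IsClosedImmersion i.left]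
    [Smooth N.hom] [ConnectedSpace ↥N.left] [IsAffine N.left] (hn : AlgGrp.IsNormalHom i)
    (A : Over (Spec (CommRingCat.of k))) [GrpObj A] (q : G ⟶ A) [IsMonHom q] [Surjective q.left] [Flat q.left]
    [IsProper A.hom] [Smooth A.hom] [ConnectedSpace ↥A.left] (hk : AlgGrp.IsKernel i q) :
    (∃ g : N' ⟶ N, IsMonHom g ∧ g ≫ i = i' ≫ f ∧ Surjective g.left) ∧
      (∃ h : A' ⟶ A, IsMonHom h ∧ q' ≫ h = f ≫ q ∧ Surjective h.left) := by
  have : IsReduced N'.left := GrpSchLib.isReduced_of_smooth_field N'.hom
  have : IsReduced G.left := GrpSchLib.isReduced_of_smooth_field G.hom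
  have hone : i' ≫ f ≫ q = 1 := AlgGrp25.eq_one_of_affine_to_proper (i' ≫ f ≫ q)
  have hw : (i' ≫ f) ≫ q = toUnit N' ≫ η[A] := by rw [Category.assoc]; exact hone
  let g : N' ⟶ N := hk.lift (i' ≫ f) (toUnit N') hw
  have hg : g ≫ i = i' ≫ f := hk.lift_fst _ _ _
  have : Mono i := (Over.forget _).mono_of_mono_map (inferInstanceAs (Mono i.left))
  have : IsMonHom g := by
    have : IsMonHom (g ≫ i) := by rw [hg]; infer_instance
    exact AlgGrp25.isMonHom_of_comp_mono g i
  obtain ⟨h, hh, hfac, -⟩ := S3280.result k G' N' A' A q' i' hk' (f ≫ q) hone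
  refine ⟨⟨g, inferInstance, hg, AlgGrp25.surjective_of_kernels f i' hn' q' hk' i q hk h hfac g hg⟩,
    h, hh, hfac, ?_⟩
  have : Surjective (q'.left ≫ h.left) := by rw [← Over.comp_left, hfac, Over.comp_left]; infer_instance
  exact Surjective.of_comp q'.left h.left

end Groth.Agent.S17454
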