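import Groth.Statements.S14756
import Groth.Agent.Chev24.AffQuot
import Groth.Agent.S17454

set_option autoImplicit false
universe u
open CategoryTheory CategoryTheory.Limits MonoidalCategory CartesianMonoidalCategory MonObj GrpObj AlgebraicGeometry
open AlgGrp

namespace Groth.Agent.S14756

/-- Over an algebraically closed field k let e → K → G → Q → e be an exact sequence of k-group schemes
of finite type with G smooth (i : K → G a closed subgroup scheme, kernel of the flat surjective
homomorphism π : G → Q), and let G_lin ⊆ G and Q_lin ⊆ Q be the largest smooth connected affine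
normal closed subgroup schemes (every other such subgroup factors through them). Then π maps G_lin
into Q_lin and the induced homomorphism G_lin → Q_lin is surjective. (The published proposition is
stated for all algebraic groups G; for the semidirect product of α_p by the multiplicative group
acting by scaling, with K = α_p, the largest smooth connected affine normal subgroup of G is trivial
while that of Q = G_m is everything, so G is taken smooth here, the case in which the published
proof's use of the Chevalley quotient G/G_lin being proper is valid. The published proposition also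
treats unipotent and solvable parts of linear groups and the finite index of K_lin in G_lin ∩ K;
only this assertion is stated.) -/
theorem result (k : Type u) [Field k] [IsAlgClosed k]
    (K G Q : Over (Spec (CommRingCat.of k))) [GrpObj K] [GrpObj G] [GrpObj Q]
    [QuasiCompact K.hom] [LocallyOfFiniteType K.hom] [Smooth G.hom] [QuasiCompact G.hom] [QuasiCompact Q.hom] [LocallyOfFiniteType Q.hom]
    (i : K ⟶ G) [IsMonHom i] [IsClosedImmersion i.left]
    (π : G ⟶ Q) [IsMonHom π] [Flat π.left] [Surjective π.left] (hker : AlgGrp.IsKernel i π)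
    (NG : Over (Spec (CommRingCat.of k))) [GrpObj NG] (iG : NG ⟶ G) [IsMonHom iG] [IsClosedImmersion iG.left]
    [Smooth NG.hom] [ConnectedSpace ↥NG.left] [IsAffine NG.left] (hNG : AlgGrp.IsNormalHom iG)
    (hNGmax : ∀ (N' : Over (Spec (CommRingCat.of k))) [GrpObj N'] (i' : N' ⟶ G) [IsMonHom i'] [IsClosedImmersion i'.left]
      [Smooth N'.hom] [ConnectedSpace ↥N'.left] [IsAffine N'.left], AlgGrp.IsNormalHom i' → ∃ f : N' ⟶ NG, f ≫ iG = i')
    (NQ : Over (Spec (CommRingCat.of k))) [GrpObj NQ] (iQ : NQ ⟶ Q) [IsMonHom iQ] [IsClosedImmersion iQ.left]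
    [Smooth NQ.hom] [ConnectedSpace ↥NQ.left] [IsAffine NQ.left] (hNQ : AlgGrp.IsNormalHom iQ)
    (hNQmax : ∀ (N' : Over (Spec (CommRingCat.of k))) [GrpObj N'] (i' : N' ⟶ Q) [IsMonHom i'] [IsClosedImmersion i'.left]
      [Smooth N'.hom] [ConnectedSpace ↥N'.left] [IsAffine N'.left], AlgGrp.IsNormalHom i' → ∃ f : N' ⟶ NQ, f ≫ iQ = i') :
    ∃ f : NG ⟶ NQ, f ≫ iQ = iG ≫ π ∧ Surjective f.left := by
  haveI : IsSeparated G.hom := GrpSchLib.AntiAffine.isSeparated_grp G
  haveI : IsSeparated Q.hom := GrpSchLib.AntiAffine.isSeparated_grp Q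
  haveI : Smooth Q.hom := GrpSchLib.smooth_of_quotient π
  haveI : Mono iQ := Over.mono_of_mono_left _
  obtain ⟨f, hf⟩ := Chev24.exists_factor_affPart iQ hNQmax NG (iG ≫ π)
  refine ⟨f, hf, ?_⟩
  obtain ⟨G₀, _, c, hcm, hcc, hco, hG₀s, hG₀q, hG₀c, hfac⟩ := Chev24.exists_neutral G
  obtain ⟨Q₀, _, d, hdm, hdc, hdo, hQ₀s, hQ₀q, hQ₀c, hfac'⟩ := Chev24.exists_neutral Q
  haveI := hcm; haveI := hcc; haveI := hco; haveI := hG₀s; haveI := hG₀q; haveI := hG₀c
  haveI := hdm; haveI := hdc; haveI := hdo; haveI := hQ₀s; haveI := hQ₀q; haveI := hQ₀c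
  obtain ⟨π₀, hπ₀m, hπ₀⟩ := hfac' G₀ (c ≫ π)
  haveI := hπ₀m
  haveI : IsLocallyNoetherian Q.left := LocallyOfFiniteType.isLocallyNoetherian Q.hom
  haveI : LocallyOfFiniteType (π.left ≫ Q.hom) := by rw [Over.w]; infer_instance
  haveI : LocallyOfFiniteType π.left := locallyOfFiniteType_of_comp π.left Q.hom
  haveI : IrreducibleSpace Q₀.left := by
    haveI := AlgGrpH24.geometricallyIntegral_grp Q₀
    exact GeometricallyIrreducible.irreducibleSpace_of_subsingleton Q₀.hom
  haveI : IsReduced Q₀.left := H23.RigidGamma.isReduced_of_smooth Q₀.hom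
  haveI : IsDominant π₀.left := by
    have ho : IsOpen (Set.range π₀.left) := by
      have h1 : Set.range π₀.left = d.left ⁻¹' (π.left '' Set.range c.left) := by
        ext y
        constructor
        · rintro ⟨x, rfl⟩
          exact ⟨c.left x, ⟨x, rfl⟩, (congrArg (fun m : G₀ ⟶ Q => m.left x) hπ₀).symm⟩
        · rintro ⟨_, ⟨x, rfl⟩, hx⟩
          exact ⟨x, d.left.isOpenEmbedding.injective
            ((congrArg (fun m : G₀ ⟶ Q => m.left x) hπ₀).trans hx)⟩
      rw [h1]
      exact (π.left.isOpenMap _ c.left.isOpenEmbedding.isOpen_range).preimage d.left.continuous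
    exact ⟨ho.dense (Set.range_nonempty_iff_nonempty.mpr ⟨η[G₀].left (IsLocalRing.closedPoint k)⟩)⟩
  haveI : IsSchemeTheoreticallyDominant π₀.left := IsSchemeTheoreticallyDominant.of_isDominant π₀.left
  obtain ⟨hπ₀f, hπ₀s⟩ := GrpSchLib.ImageFlat.flat_surjective_of_dominant π₀
  haveI := hπ₀s
  obtain ⟨L, A, _, _, l, q, hlm, hlc, hLs, hLc, hLa, hLn, hqm, hqf, hqs, hqk, hAp, hAs, hAc⟩ :=
    Chev24.exists_chevalley (G := G₀)
  obtain ⟨L', A', _, _, l', q', hlm', hlc', hLs', hLc', hLa', hLn', hqm', hqf', hqs', hqk', hAp', hAs', hAc'⟩ :=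
    Chev24.exists_chevalley (G := Q₀)
  haveI := hlm; haveI := hlc; haveI := hLs; haveI := hLc; haveI := hLa; haveI := hqm; haveI := hqf; haveI := hqs
  haveI := hAp; haveI := hAs; haveI := hAc
  haveI := hlm'; haveI := hlc'; haveI := hLs'; haveI := hLc'; haveI := hLa'; haveI := hqm'; haveI := hqf'
  haveI := hqs'; haveI := hAp'; haveI := hAs'; haveI := hAc'
  obtain ⟨⟨g, -, hg, hgs⟩, -⟩ := Groth.Agent.S17454.result k G₀ Q₀ π₀ L l hLn A q hqk L' l' hLn' A' q' hqk'
  haveI := hgs
  obtain ⟨e, he⟩ := Chev24.exists_factor_affPart iG hNGmax L (l ≫ c)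
  obtain ⟨b, hb⟩ := Chev24.exists_factor_affPart iQ hNQmax L' (l' ≫ d)
  obtain ⟨t, htm, ht⟩ := hfac' NQ iQ
  haveI := htm
  let b' := hqk'.lift t (toUnit NQ) ((Chev24.eq_one_of_affine_of_proper (t ≫ q')).trans Hom.one_def)
  have hb' : b' ≫ b = 𝟙 NQ := by
    rw [← cancel_mono iQ, Category.assoc, hb, hqk'.lift_fst_assoc, ht, Category.id_comp]
  haveI : Surjective b.left := by
    haveI : Surjective (b'.left ≫ b.left) := by
      rw [← Over.comp_left, hb']; exact inferInstanceAs (Surjective (𝟙 _))
    exact Surjective.of_comp b'.left b.left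
  have heq : e ≫ f = g ≫ b := by
    rw [← cancel_mono iQ, Category.assoc, Category.assoc, hf, hb, reassoc_of% he, reassoc_of% hg, hπ₀]
  haveI : Surjective (e.left ≫ f.left) := by rw [← Over.comp_left, heq, Over.comp_left]; infer_instance
  exact Surjective.of_comp e.left f.left

end Groth.Agent.S14756
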