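import Groth.Statements.S14757
import Groth.Agent.Chev24.DescentPerfect
import Groth.Agent.S7996
import Groth.Agent.S19705
-- import your own Groth.Agent.* helpers here

set_option autoImplicit false
universe u
open CategoryTheory CategoryTheory.Limits MonoidalCategory CartesianMonoidalCategory MonObj GrpObj AlgebraicGeometry
open AlgGrp

namespace Groth.Agent.S14757

/-- Let k be a perfect field and G a group variety over k (smooth connected k-group scheme of finite
type); let i : N → G be its largest smooth connected affine normal closed subgroup scheme G_lin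
(every other such subgroup factors through it) and j : M → G its largest anti-affine closed subgroup
scheme G_ant (the global functions of M are the constants k, and every closed subgroup scheme with
that property factors through it). Then the multiplication G_ant × G_lin → G is a homomorphism and
is surjective. (The published statement says it is a quotient map; surjectivity is what the
published proof establishes, faithful flatness then being automatic for a surjective homomorphism of
algebraic groups.) -/
theorem result (k : Type u) [Field k] [PerfectField k]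
    (G : Over (Spec (CommRingCat.of k))) [GrpObj G] [Smooth G.hom] [QuasiCompact G.hom] [ConnectedSpace ↥G.left]
    (N : Over (Spec (CommRingCat.of k))) [GrpObj N] (i : N ⟶ G) [IsMonHom i] [IsClosedImmersion i.left]
    [Smooth N.hom] [ConnectedSpace ↥N.left] [IsAffine N.left] (hN : AlgGrp.IsNormalHom i)
    (hNmax : ∀ (N' : Over (Spec (CommRingCat.of k))) [GrpObj N'] (i' : N' ⟶ G) [IsMonHom i'] [IsClosedImmersion i'.left]
      [Smooth N'.hom] [ConnectedSpace ↥N'.left] [IsAffine N'.left], AlgGrp.IsNormalHom i' → ∃ f : N' ⟶ N, f ≫ i = i')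
    (M : Over (Spec (CommRingCat.of k))) [GrpObj M] (j : M ⟶ G) [IsMonHom j] [IsClosedImmersion j.left]
    (hM : Function.Bijective ((Scheme.ΓSpecIso (CommRingCat.of k)).inv ≫ M.hom.appTop).hom)
    (hMmax : ∀ (M' : Over (Spec (CommRingCat.of k))) [GrpObj M'] (j' : M' ⟶ G) [IsMonHom j'] [IsClosedImmersion j'.left],
      Function.Bijective ((Scheme.ΓSpecIso (CommRingCat.of k)).inv ≫ M'.hom.appTop).hom → ∃ f : M' ⟶ M, f ≫ j = j') :
    IsMonHom ((j ⊗ₘ i) ≫ μ[G]) ∧ Surjective ((j ⊗ₘ i) ≫ μ[G]).left := by
  haveI : IsSeparated G.hom := GrpSchLib.AntiAffine.isSeparated_grp G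
  haveI : LocallyOfFiniteType M.hom := by rw [← Over.w j]; infer_instance
  haveI : QuasiCompact M.hom := by rw [← Over.w j]; infer_instance
  haveI : LocallyOfFiniteType N.hom := by rw [← Over.w i]; infer_instance
  obtain ⟨N₀, _, i₀, h0m, h0c, h0s, h0n, h0a, h0N, R, _, r, hrm, hrs, hrf, hrk, hRp, hRs⟩ :=
    Chev24.exists_affSub_properQuot_perfect G
  haveI := h0m; haveI := h0c; haveI := h0s; haveI := h0n; haveI := h0a
  haveI := hrm; haveI := hrs; haveI := hrf; haveI := hRp
  have hir : i ≫ r = 1 := Chev24.eq_one_of_affine_of_proper (i ≫ r)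
  obtain ⟨g, hg⟩ := hNmax N₀ i₀ h0N
  haveI : Mono i := Over.mono_of_mono_left _
  haveI : Mono i₀ := Over.mono_of_mono_left _
  let f := hrk.lift i (toUnit N) (hir.trans Hom.one_def)
  have hk : AlgGrp.IsKernel i r := by
    refine IsPullback.of_iso hrk ⟨g, f, ?_, ?_⟩ (Iso.refl _) (Iso.refl _) (Iso.refl _) ?_ ?_ ?_ ?_
    · rw [← cancel_mono i₀, Category.assoc, hrk.lift_fst, hg, Category.id_comp]
    · rw [← cancel_mono i, Category.assoc, hg, hrk.lift_fst, Category.id_comp]
    · simpa using hg.symm
    · exact toUnit_unique _ _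
    · simp
    · simp
  have hc : ∀ {T : Over (Spec (CommRingCat.of k))} (a : T ⟶ M) (b : T ⟶ G), (a ≫ j) * b = b * (a ≫ j) := by
    intro T a b
    simpa using Groth.Agent.S7996.result k M G hM j T a T (𝟙 T) b
  have he : ∀ {T : Over (Spec (CommRingCat.of k))} (a : T ⟶ M ⊗ N),
      a ≫ (j ⊗ₘ i) ≫ μ[G] = (a ≫ fst _ _ ≫ j) * (a ≫ snd _ _ ≫ i) := by
    intro T a
    rw [show ((j ⊗ₘ i) ≫ μ[G]) = (fst _ _ ≫ j) * (snd _ _ ≫ i) by
      rw [Hom.mul_def]; congr 1, MonObj.comp_mul]
  refine ⟨Red23Lib.isMonHom_of_mul _ fun T a b => ?_, ?_⟩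
  · rw [he, he, he, ← Category.assoc (a * b), ← Category.assoc (a * b),
      MonObj.mul_comp, MonObj.mul_comp, MonObj.mul_comp, MonObj.mul_comp]
    simp only [Category.assoc]
    rw [_root_.mul_assoc, _root_.mul_assoc, ← _root_.mul_assoc (b ≫ fst M N ≫ j), ← Category.assoc b, hc,
      _root_.mul_assoc]
  · have hsur := (Groth.Agent.S19705.result k G N i hN R r hk M j hM
      fun M₁ _ _ _ j₁ _ _ h => hMmax M₁ j₁ h).1
    have hb : (i ⊗ₘ j) ≫ μ[G] = lift (snd N M) (fst N M) ≫ (j ⊗ₘ i) ≫ μ[G] := by
      rw [he, lift_fst_assoc, lift_snd_assoc, hc, Hom.mul_def]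
      congr 1
    rw [hb, Over.comp_left] at hsur
    haveI := hsur
    exact Surjective.of_comp (lift (snd N M) (fst N M)).left _

end Groth.Agent.S14757
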