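import Groth.Statements.S14763
import Groth.Agent.Chev24.Isog
import Groth.Agent.GrpSchLib.ImageFactor

set_option autoImplicit false
universe u
open CategoryTheory CategoryTheory.Limits MonoidalCategory CartesianMonoidalCategory MonObj GrpObj AlgebraicGeometry
open AlgGrp

namespace Groth.Agent.S14763

/-- Over an algebraically closed field k let G be a commutative group variety (smooth connected
commutative k-group scheme of finite type) written as an extension 0 → L → G → A → 0 of an abelian
variety by its largest connected affine subgroup: i : L → G a smooth connected affine closed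
subgroup scheme, kernel of a flat surjective homomorphism π : G → A onto an abelian variety A
(proper, smooth, connected). Then the following are equivalent: (a) for some d ≥ 1 there is a
homomorphism s : A → G with π ∘ s equal to multiplication by d on A (the class of the extension is
killed by d: its pullback along multiplication by d splits); (b) there is an abelian subvariety A'
of G (a smooth connected proper closed subgroup scheme) with A' · L = G, that is, the multiplication
A' × L → G is surjective. (The published statement phrases (a) as the class of G having finite order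
in the group of extension classes and (b) as G being isogenous to L × A; the published proof passes
through exactly the two conditions stated here.) -/
theorem result (k : Type u) [Field k] [IsAlgClosed k]
    (G L A : Over (Spec (CommRingCat.of k))) [GrpObj G] [GrpObj L] [GrpObj A] [IsCommMonObj G]
    [Smooth G.hom] [QuasiCompact G.hom] [ConnectedSpace ↥G.left]
    (i : L ⟶ G) [IsMonHom i] [IsClosedImmersion i.left] [IsAffine L.left] [Smooth L.hom] [ConnectedSpace ↥L.left]
    (π : G ⟶ A) [IsMonHom π] [Flat π.left] [Surjective π.left] (hker : AlgGrp.IsKernel i π)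
    [IsProper A.hom] [Smooth A.hom] [ConnectedSpace ↥A.left] :
    (∃ d : ℕ, 0 < d ∧ ∃ s : A ⟶ G, IsMonHom s ∧ s ≫ π = (𝟙 A) ^ d) ↔
      (∃ (A' : Over (Spec (CommRingCat.of k))) (_ : GrpObj A') (j : A' ⟶ G), IsMonHom j ∧ IsClosedImmersion j.left ∧
        Smooth A'.hom ∧ ConnectedSpace ↥A'.left ∧ IsProper A'.hom ∧ Surjective ((j ⊗ₘ i) ≫ μ[G]).left) := by
  haveI := AlgGrpH24.geometricallyIntegral_grp A
  haveI : IsSeparated G.hom := GrpSchLib.AntiAffine.isSeparated_grp G
  haveI : LocallyOfFiniteType L.hom := inferInstance
  have hsplit : ∀ (A' : Over (Spec (CommRingCat.of k))) [GrpObj A'] (j : A' ⟶ G) [IsMonHom j],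
      ((j ⊗ₘ i) ≫ μ[G]) ≫ π = fst A' L ≫ j ≫ π := fun A' _ j _ => by
    have : (j ⊗ₘ i) ≫ μ[G] = (fst A' L ≫ j) * (snd A' L ≫ i) := by
      rw [Hom.mul_def, ← lift_map, lift_fst_snd, Category.id_comp]
    rw [this, MonObj.mul_comp, Category.assoc, Category.assoc, hker.w, ← Category.assoc (snd A' L), comp_toUnit,
      ← Hom.one_def, _root_.mul_one]
  constructor
  · rintro ⟨d, hd, s, hs, hsπ⟩
    haveI := hs
    obtain ⟨A', _, p, j, hp, hj, hpj, hjc, hpf, hps, hA'l, hA'q⟩ := GrpSchLib.ImageFactor.exists_image s
    haveI := hp; haveI := hj; haveI := hjc; haveI := hpf; haveI := hps; haveI := hA'l; haveI := hA'q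
    haveI : UniversallyClosed A'.hom := by
      haveI : UniversallyClosed (p.left ≫ A'.hom) := by rw [Over.w]; infer_instance
      exact UniversallyClosed.of_comp_surjective p.left A'.hom
    haveI : IsSeparated A'.hom := GrpSchLib.AntiAffine.isSeparated_grp A'
    haveI : IsProper A'.hom := {}
    haveI : Smooth A'.hom := GrpSchLib.smooth_of_quotient p
    haveI : ConnectedSpace A'.left := p.left.surjective.connectedSpace p.left.continuous
    refine ⟨A', inferInstance, j, hj, hjc, inferInstance, inferInstance, inferInstance, ?_⟩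
    haveI : IsMonHom ((j ⊗ₘ i) ≫ μ[G]) :=
      AlgGrpH24.isMonHom_mul_central j i fun a g => _root_.mul_comm _ _
    haveI : Mono i := Over.mono_of_mono_left _
    haveI : Surjective (𝟙 A ^ d : A ⟶ A).left := AVMulN.surjective_pow (A := A) d hd
    haveI : Surjective (((j ⊗ₘ i) ≫ μ[G]) ≫ π).left := by
      have e : lift p (1 : A ⟶ L) ≫ ((j ⊗ₘ i) ≫ μ[G]) ≫ π = 𝟙 A ^ d := by
        rw [hsplit, lift_fst_assoc, reassoc_of% hpj, hsπ]
      haveI : Surjective ((lift p (1 : A ⟶ L)).left ≫ (((j ⊗ₘ i) ≫ μ[G]) ≫ π).left) := by
        rw [← Over.comp_left, e]; infer_instance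
      exact Surjective.of_comp (lift p (1 : A ⟶ L)).left _
    exact Chev24.surjective_of_kernel_and_quot ((j ⊗ₘ i) ≫ μ[G]) i π hker (lift (1 : L ⟶ A') (𝟙 L)) (by
      rw [lift_map_assoc, ← Hom.mul_def, MonObj.one_comp, _root_.one_mul, Category.id_comp])
  · rintro ⟨A', _, j, hj, hjc, hA's, hA'c, hA'p, hsurj⟩
    haveI := hj; haveI := hjc; haveI := hA's; haveI := hA'c; haveI := hA'p; haveI := hsurj
    haveI : Surjective (j ≫ π).left := by
      haveI : Surjective ((fst A' L).left ≫ (j ≫ π).left) := by
        rw [← Over.comp_left, ← hsplit, Over.comp_left]; infer_instance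
      exact Surjective.of_comp (fst A' L).left (j ≫ π).left
    obtain ⟨d, hd, v, hv, hvu⟩ := Chev24.exists_isogeny_inverse (j ≫ π)
      fun K c hc => Chev24.isFinite_kernel_restrict i π hker j c hc
    haveI := hv
    exact ⟨d, hd, v ≫ j, inferInstance, by rw [Category.assoc, hvu]⟩

end Groth.Agent.S14763
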