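import Groth.Statements.S14764
import Groth.Agent.Chev24.AffQuot
import Groth.Agent.AlgGrp25.LinPart

set_option autoImplicit false
universe u
open CategoryTheory CategoryTheory.Limits MonoidalCategory CartesianMonoidalCategory MonObj GrpObj AlgebraicGeometry
open AlgGrp

namespace Groth.Agent.S14764

/-- Over an algebraically closed field k let G be a group variety (smooth connected k-group scheme of
finite type), i : G_lin → G its largest smooth connected affine normal closed subgroup scheme, j : D
→ G its largest anti-affine closed subgroup scheme G_ant (global functions the constants; every such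
subgroup factors through it), and i_D : D_lin → D the largest smooth connected affine normal closed
subgroup scheme of D. Then D_lin is contained in G_lin (i_D ∘ j factors through i) and has finite
index in the scheme-theoretic intersection D ∩ G_lin, in the sense that D_lin and D ×_G G_lin have
the same dimension; equivalently D_lin is the reduced identity component of D ∩ G_lin. -/
theorem result (k : Type u) [Field k] [IsAlgClosed k]
    (G : Over (Spec (CommRingCat.of k))) [GrpObj G] [Smooth G.hom] [QuasiCompact G.hom] [ConnectedSpace ↥G.left]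
    (N : Over (Spec (CommRingCat.of k))) [GrpObj N] (i : N ⟶ G) [IsMonHom i] [IsClosedImmersion i.left]
    [Smooth N.hom] [ConnectedSpace ↥N.left] [IsAffine N.left] (hN : AlgGrp.IsNormalHom i)
    (hNmax : (∀ (N' : Over (Spec (CommRingCat.of k))) [GrpObj N'] (i' : N' ⟶ G) [IsMonHom i'] [IsClosedImmersion i'.left]
      [Smooth N'.hom] [ConnectedSpace ↥N'.left] [IsAffine N'.left], AlgGrp.IsNormalHom i' → ∃ f : N' ⟶ N, f ≫ i = i'))
    (D : Over (Spec (CommRingCat.of k))) [GrpObj D] (j : D ⟶ G) [IsMonHom j] [IsClosedImmersion j.left]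
    (hD : Function.Bijective ((Scheme.ΓSpecIso (CommRingCat.of k)).inv ≫ D.hom.appTop).hom)
    (hDmax : ∀ (M' : Over (Spec (CommRingCat.of k))) [GrpObj M'] (j' : M' ⟶ G) [IsMonHom j'] [IsClosedImmersion j'.left],
      Function.Bijective ((Scheme.ΓSpecIso (CommRingCat.of k)).inv ≫ M'.hom.appTop).hom → ∃ f : M' ⟶ D, f ≫ j = j')
    (ND : Over (Spec (CommRingCat.of k))) [GrpObj ND] (iD : ND ⟶ D) [IsMonHom iD] [IsClosedImmersion iD.left]
    [Smooth ND.hom] [ConnectedSpace ↥ND.left] [IsAffine ND.left] (hND : AlgGrp.IsNormalHom iD)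
    (hNDmax : (∀ (N' : Over (Spec (CommRingCat.of k))) [GrpObj N'] (i' : N' ⟶ D) [IsMonHom i'] [IsClosedImmersion i'.left]
      [Smooth N'.hom] [ConnectedSpace ↥N'.left] [IsAffine N'.left], AlgGrp.IsNormalHom i' → ∃ f : N' ⟶ ND, f ≫ iD = i')) :
    (∃ g : ND ⟶ N, g ≫ i = iD ≫ j) ∧
      topologicalKrullDim ↥ND.left = topologicalKrullDim ↥(pullback j.left i.left) := by
  obtain ⟨g, hg⟩ := Chev24.exists_factor_affPart i hNmax ND (iD ≫ j)
  refine ⟨⟨g, hg⟩, ?_⟩
  obtain ⟨A, _, α, hαm, -, -, hαk, hAp, -, -⟩ := Chev24.exists_affQuot i hN hNmax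
  haveI := hαm; haveI := hAp
  haveI : LocallyOfFiniteType D.hom := by rw [← Over.w j]; infer_instance
  haveI : QuasiCompact D.hom := by rw [← Over.w j]; infer_instance
  haveI : Mono iD := Over.mono_of_mono_left _
  obtain ⟨E, _, e, hem, hec, hen, hek⟩ := GrpSchLib.exists_kernel (j ≫ α)
  haveI := hem; haveI := hec
  haveI : Mono e := Over.mono_of_mono_left _
  let b : E ⟶ N := hαk.lift (e ≫ j) (toUnit E) (by rw [Category.assoc, hek.w])
  have hb : b ≫ i = e ≫ j := hαk.lift_fst _ _ _
  have hsq : IsPullback e b j i := by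
    haveI : Mono i := Over.mono_of_mono_left _
    refine IsPullback.of_isLimit' ⟨hb.symm⟩ (PullbackCone.IsLimit.mk _
      (fun s => hek.lift s.fst (toUnit _) (by
        rw [reassoc_of% s.condition, hαk.w, ← Category.assoc, comp_toUnit]))
      (fun s => hek.lift_fst _ _ _) (fun s => ?_) fun s m h1 _ => ?_)
    · rw [← cancel_mono i, Category.assoc, hb, hek.lift_fst_assoc, s.condition]
    · rw [← cancel_mono e, h1, hek.lift_fst]
  have hdim : topologicalKrullDim ↥E.left = topologicalKrullDim ↥(pullback j.left i.left) :=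
    IsHomeomorph.topologicalKrullDim_eq _
      (Scheme.homeoOfIso (hsq.map (Over.forget _)).isoPullback).isHomeomorph
  rw [← hdim]
  haveI : IsClosedImmersion b.left := by
    haveI : IsClosedImmersion (b.left ≫ i.left) := by rw [← Over.comp_left, hb, Over.comp_left]; infer_instance
    exact IsClosedImmersion.of_comp b.left i.left
  haveI : IsAffine E.left := isAffine_of_isAffineHom b.left
  haveI : LocallyOfFiniteType E.hom := by rw [← Over.w e]; infer_instance
  haveI : QuasiCompact E.hom := by rw [← Over.w e]; infer_instance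
  have hnd : (iD ≫ j) ≫ α = toUnit ND ≫ η[A] := by
    rw [← hg, Category.assoc, hαk.w, ← Category.assoc, comp_toUnit]
  let nd : ND ⟶ E := hek.lift iD (toUnit ND) (by rw [← Category.assoc]; exact hnd)
  have hnd' : nd ≫ e = iD := hek.lift_fst _ _ _
  haveI : IsClosedImmersion nd.left := by
    haveI : IsClosedImmersion (nd.left ≫ e.left) := by rw [← Over.comp_left, hnd']; infer_instance
    exact IsClosedImmersion.of_comp nd.left e.left
  refine le_antisymm nd.left.isClosedEmbedding.isInducing.topologicalKrullDim_le ?_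
  obtain ⟨E₁, _, r, hrm, hrc, hr1, hrs, hE₁l, hE₁q⟩ := GrpSchLib.RedSubgroup.exists_redSubgroup E
  haveI := hrm; haveI := hrc; haveI := hr1; haveI := hrs; haveI := hE₁l; haveI := hE₁q
  haveI : Smooth E₁.hom := GrpSchLib.smooth_of_perfectField_of_isReduced E₁
  obtain ⟨E₂, _, c, hcm, hcc, hcf, hcr, hgi, hcs⟩ := GrpSchLib.exists_identityComponent (G := E₁)
  haveI := hcm; haveI := hcc; haveI := hcf; haveI := hgi; haveI := hcs
  haveI : LocallyOfFiniteType E₂.hom := by rw [← Over.w c]; infer_instance
  haveI : IsLocallyNoetherian E₁.left := LocallyOfFiniteType.isLocallyNoetherian E₁.hom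
  haveI : LocallyOfFinitePresentation c.left := inferInstance
  haveI : IsOpenImmersion c.left := IsOpenImmersion.of_flat_of_mono c.left
  haveI : Smooth E₂.hom := by rw [← Over.w c]; infer_instance
  haveI : IrreducibleSpace E₂.left := GeometricallyIrreducible.irreducibleSpace_of_subsingleton E₂.hom
  haveI : IsAffine E₁.left := isAffine_of_isAffineHom r.left
  haveI : IsAffine E₂.left := isAffine_of_isAffineHom c.left
  haveI : Smooth D.hom := Groth.Agent.S3026.result k D hD
  obtain ⟨t, ht⟩ := Chev24.exists_factor_affPart iD hNDmax E₂ (c ≫ r ≫ e)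
  haveI : IsClosedImmersion t.left := by
    haveI : IsClosedImmersion (t.left ≫ iD.left) := by
      rw [← Over.comp_left, ht, Over.comp_left, Over.comp_left]; infer_instance
    exact IsClosedImmersion.of_comp t.left iD.left
  calc topologicalKrullDim ↥E.left = topologicalKrullDim ↥E₁.left :=
        (IsHomeomorph.topologicalKrullDim_eq _ (isHomeomorph_iff_continuous_isClosedMap_bijective.2
          ⟨r.left.continuous, r.left.isClosedMap, r.left.isEmbedding.injective, r.left.surjective⟩)).symm
    _ = topologicalKrullDim ↥E₂.left := (AlgGrp25.LinPart.dim_eq_of_range c hcr).symm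
    _ ≤ topologicalKrullDim ↥ND.left := t.left.isClosedEmbedding.isInducing.topologicalKrullDim_le

end Groth.Agent.S14764
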