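import Groth.Statements.S14818
import Groth.Agent.PicfLib.Norm
import Groth.Agent.PicfLib.Trans

set_option autoImplicit false
universe u
open CategoryTheory CategoryTheory.Limits AlgebraicGeometry
open PicF

namespace Groth.Agent.S14818
open Groth.Agent

/-- Let X be a connected locally Noetherian scheme, f : X' → X a finite locally free morphism of
constant degree d (a finite flat covering of X of degree d) and L an invertible O_X-module whose
pullback f^*L is isomorphic to O_{X'}. Then L^{⊗d} ≅ O_X; in particular L has finite order in Pic(X)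
dividing the degree of f. -/
theorem result (X X' : Scheme.{u})
    [IsLocallyNoetherian X] [ConnectedSpace X] (f : X' ⟶ X) (d : ℕ) (hf : Mor2.IsFinLocFreeOfDeg d f)
    (L : X.Modules) (hL : PicF.IsInvertible L)
    (htriv : Nonempty ((Scheme.Modules.pullback f).obj L ≅ Coh.structureModule X')) :
    Nonempty (CohB1.tensorPow L d ≅ Coh.structureModule X) := by
  classical
  obtain ⟨φ⟩ := htriv
  obtain ⟨c, hcu, hcs, hcr⟩ := PicfLib.Trans.exists_pullCoord f φ
  have h0 : ∀ x : X, ∃ (U : X.Opens) (e : Γ(L, U)),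
      x ∈ U ∧ InvX.IsFrame e ∧ PicfLib.Norm.Good f d U := fun x => by
    obtain ⟨U, hxU, e, he⟩ := InvX.exists_frame hL x
    obtain ⟨V, hxV, hV⟩ := PicfLib.Norm.exists_good f hf x
    exact ⟨U ⊓ V, _, ⟨hxU, hxV⟩, he.res inf_le_left, hV.mono f inf_le_right⟩
  choose U e hx he hg using h0
  have hN : ∀ x, IsUnit (PicfLib.Norm.norm f (U x) (c _ (e x))) := fun x =>
    PicfLib.Norm.isUnit_norm f _ (hcu _ _ (he x))
  refine PicfLib.Trans.nonempty_iso_of_agree U (fun x => ⟨x, hx x⟩)
    (fun x => (↑(hN x).unit⁻¹ : Γ(X, U x)) • PicfLib.Trans.powSec (e x) d)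
    (fun x => (PicfLib.Trans.isFrame_powSec (he x) d).isUnit_smul (Units.isUnit _)) fun x y => ?_
  obtain ⟨g, hge⟩ := (he y).exists_coord (inf_le_right : U x ⊓ U y ≤ U y)
    (AModX.res L inf_le_left (e x))
  have h1 := congrArg (c (U x ⊓ U y)) hge
  rw [hcs, hcr, hcr] at h1
  have h2 := congrArg (PicfLib.Norm.norm f (U x ⊓ U y)) h1
  rw [PicfLib.Norm.norm_mul, PicfLib.Norm.norm_app f (hg x) inf_le_left,
    PicfLib.Norm.norm_map f (hg x) le_rfl inf_le_left,
    PicfLib.Norm.norm_map f (hg y) le_rfl inf_le_right] at h2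
  rw [AModX.res_smul, AModX.res_smul, PicfLib.Trans.res_powSec, PicfLib.Trans.res_powSec, hge,
    PicfLib.Trans.powSec_smul, ← mul_smul]
  congr 1
  let ρ := AModX.resR (X := X) (inf_le_left : U x ⊓ U y ≤ U x)
  let σ := AModX.resR (X := X) (inf_le_right : U x ⊓ U y ≤ U y)
  have ha : ρ (↑(hN x).unit⁻¹) * ρ (PicfLib.Norm.norm f (U x) (c _ (e x))) = 1 := by
    rw [← map_mul, IsUnit.val_inv_mul, map_one]
  have hb : σ (↑(hN y).unit⁻¹) * σ (PicfLib.Norm.norm f (U y) (c _ (e y))) = 1 := by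
    rw [← map_mul, IsUnit.val_inv_mul, map_one]
  show ρ (↑(hN x).unit⁻¹) * g ^ d = σ (↑(hN y).unit⁻¹)
  change ρ _ = g ^ d * σ _ at h2
  rw [h2] at ha
  linear_combination (σ (↑(hN y).unit⁻¹)) * ha - ρ (↑(hN x).unit⁻¹) * g ^ d * hb

end Groth.Agent.S14818
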