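import Groth.Statements.S14819
import Groth.Agent.PicfLib.Trans
import Groth.Agent.PicfLib.Insep
import Groth.Agent.H23.PicMul

set_option autoImplicit false
universe u
open CategoryTheory CategoryTheory.Limits AlgebraicGeometry
open PicF

namespace Groth.Agent.S14819

open Groth.Agent

theorem eq_of_pow_eq {K R : Type u} [Field K] [CommRing R] [_root_.IsReduced R] (p : ℕ) [Fact p.Prime]
    [CharP K p] (φ : K →+* R) {a b : R} (h : a ^ p = b ^ p) : a = b := by
  rcases subsingleton_or_nontrivial R with h' | h'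
  · exact Subsingleton.elim _ _
  haveI := PicfLib.Insep.charP_of_hom p φ
  exact sub_eq_zero.1 (IsReduced.eq_zero _ ⟨p, by rw [sub_pow_char, h, sub_self]⟩)

/-- Let X be an integral Noetherian scheme which is normal (all local rings integrally closed domains)
and whose ring of global functions Γ(X, O_X) is a field of characteristic p > 0; let L be an
invertible O_X-module of exact order d in Pic(X), i.e. L^{⊗d} ≅ O_X with d ≥ 1 and L^{⊗i} not
isomorphic to O_X for 0 < i < d, and suppose p divides d. Let X' be a connected scheme such that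
every unit of Γ(X', O_{X'}) has a p-th root. Then no finite étale morphism f : X' → X (a finite
étale covering of X by X') satisfies f^*L ≅ O_{X'}. -/
theorem result (X X' : Scheme.{u})
    [IsIntegral X] [IsNoetherian X] (hnorm : Pi1.IsNormalScheme X)
    (hfield : IsField (Γ(X, ⊤) : Type u)) (p : ℕ) [Fact (Nat.Prime p)] [CharP (Γ(X, ⊤) : Type u) p]
    (L : X.Modules) (hL : PicF.IsInvertible L) (d : ℕ) (hd : 0 < d)
    (hord : Nonempty (CohB1.tensorPow L d ≅ Coh.structureModule X))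
    (hmin : ∀ i : ℕ, 0 < i → i < d → IsEmpty (CohB1.tensorPow L i ≅ Coh.structureModule X))
    (hpd : p ∣ d) [ConnectedSpace X']
    (hroot : ∀ u : (Γ(X', ⊤) : Type u), IsUnit u → ∃ v : (Γ(X', ⊤) : Type u), v ^ p = u)
    (f : X' ⟶ X) [IsFinite f] [Etale f] :
    IsEmpty ((Scheme.Modules.pullback f).obj L ≅ Coh.structureModule X') := by
  classical
  refine ⟨fun φL => ?_⟩
  letI : Field Γ(X, ⊤) := hfield.toField
  letI := H23.PicMul.clMonoid X
  letI := H23.PicMul.clMonoid X'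
  obtain ⟨e, rfl⟩ : ∃ e, d = e * p :=
    ⟨d / p, (Nat.div_mul_cancel hpd).symm⟩
  have he0 : 0 < e := Nat.pos_of_ne_zero fun h => by simp [h] at hd
  have hed : e < e * p := lt_mul_of_one_lt_right he0 (Fact.out : p.Prime).one_lt
  have hcl : PicF.cl (CohB1.tensorPow (CohB1.tensorPow L e) p) = PicF.cl (Coh.structureModule X) := by
    rw [H23.PicMul.cl_tensorPow, H23.PicMul.cl_tensorPow, ← pow_mul, ← H23.PicMul.cl_tensorPow]
    exact H23.PicMul.cl_eq_iff.2 hord
  obtain ⟨ψ⟩ := H23.PicMul.cl_eq_iff.1 hcl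
  have hpull : PicF.pullCl f (PicF.cl (CohB1.tensorPow L e)) = 1 := by
    rw [H23.PicMul.cl_tensorPow, H23.PicMul.pullCl_pow]
    have : PicF.pullCl f (PicF.cl L) = 1 := H23.PicMul.cl_eq_iff.2 ⟨φL⟩
    rw [this, one_pow]
  obtain ⟨φ⟩ := H23.PicMul.cl_eq_iff.1 (show PicF.cl ((Scheme.Modules.pullback f).obj
    (CohB1.tensorPow L e)) = PicF.cl (Coh.structureModule X') from hpull)
  have hM : PicF.IsInvertible (CohB1.tensorPow L e) := H23.PicMul.isInvertible_tensorPow hL e
  revert ψ φ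
  generalize hMdef : CohB1.tensorPow L e = M at hM ⊢
  intro ψ φ
  suffices htriv : Nonempty (M ≅ Coh.structureModule X) by
    subst hMdef
    exact (hmin e he0 hed).false htriv.some
  obtain ⟨c, hcu, hcs, hcr⟩ := PicfLib.Trans.exists_pullCoord f φ
  have h0 : ∀ x : X, ∃ (U : X.Opens) (m : Γ(M, U)), x ∈ U ∧ InvX.IsFrame m := fun x => by
    obtain ⟨U, hxU, m, hm⟩ := InvX.exists_frame hM x
    exact ⟨U, m, hxU, hm⟩
  choose U m hx hm using h0
  let α : ∀ W : X.Opens, Γ(M, W) → Γ(X, W) := fun W n =>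
    (show Γ(X, W) from ψ.hom.app W (PicfLib.Trans.powSec n p))
  have hαu : ∀ x, IsUnit (α (U x) (m x)) := fun x =>
    PicfLib.Trans.isUnit_coord (InvX.isFrame_one (X := X) (U x))
      ((PicfLib.Trans.isFrame_powSec (hm x) p).map_iso ψ) (by
        show α (U x) (m x) = α (U x) (m x) * 1
        exact (mul_one _).symm)
  have hαs : ∀ (W : X.Opens) (g : Γ(X, W)) (n : Γ(M, W)), α W (g • n) = g ^ p * α W n := fun W g n => by
    show ψ.hom.app W _ = _
    rw [PicfLib.Trans.powSec_smul]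
    exact Scheme.Modules.Hom.app_smul ψ.hom _ _
  have hαr : ∀ (W W' : X.Opens) (h : W' ≤ W) (n : Γ(M, W)),
      α W' (AModX.res M h n) = AModX.resR h (α W n) := fun W W' h n => by
    show ψ.hom.app W' _ = _
    rw [← PicfLib.Trans.res_powSec, AModX.app_res]
    rfl
  -- the comparison of frames
  have hg : ∀ x y, ∃ g : Γ(X, U x ⊓ U y),
      AModX.res M inf_le_left (m x) = g • AModX.res M inf_le_right (m y) := fun x y =>
    (hm y).exists_coord (inf_le_right : U x ⊓ U y ≤ U y) (AModX.res M inf_le_left (m x))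
  choose g hgm using hg
  have hga : ∀ x y, AModX.resR inf_le_left (α _ (m x)) = g x y ^ p * AModX.resR inf_le_right (α _ (m y)) :=
    fun x y => by rw [← hαr, ← hαr, hgm, hαs]
  have hgc : ∀ x y, AModX.resR (X := X') (f.preimage_mono inf_le_left) (c _ (m x)) =
      f.app _ (g x y) * AModX.resR (f.preimage_mono inf_le_right) (c _ (m y)) :=
    fun x y => by
      rw [← hcr (U x) (U x ⊓ U y) inf_le_left, ← hcr (U y) (U x ⊓ U y) inf_le_right, hgm, hcs]
  -- the global function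
  let w : ∀ x, Γ(X', f ⁻¹ᵁ U x) := fun x => c _ (m x) ^ p * f.app _ (↑(hαu x).unit⁻¹)
  have hnat : ∀ (W W' : X.Opens) (h : W' ≤ W) (a : Γ(X, W)),
      AModX.resR (X := X') (f.preimage_mono h) (f.app W a) = f.app W' (AModX.resR h a) := fun W W' h a =>
    (ConcreteCategory.congr_hom (f.naturality (homOfLE h).op) a).symm
  have hw : ∀ x y, AModX.resR (X := X') (f.preimage_mono inf_le_left) (w x) =
      AModX.resR (f.preimage_mono (inf_le_right : U x ⊓ U y ≤ U y)) (w y) := fun x y => by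
    have ha : AModX.resR (X := X) inf_le_left (α _ (m x)) *
        AModX.resR (inf_le_left : U x ⊓ U y ≤ U x) (↑(hαu x).unit⁻¹) = 1 := by
      rw [← map_mul, IsUnit.mul_val_inv, map_one]
    have hb : AModX.resR (X := X) inf_le_right (α _ (m y)) *
        AModX.resR (inf_le_right : U x ⊓ U y ≤ U y) (↑(hαu y).unit⁻¹) = 1 := by
      rw [← map_mul, IsUnit.mul_val_inv, map_one]
    rw [hga] at ha
    have key : g x y ^ p * AModX.resR (inf_le_left : U x ⊓ U y ≤ U x) (↑(hαu x).unit⁻¹) =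
        AModX.resR (inf_le_right : U x ⊓ U y ≤ U y) (↑(hαu y).unit⁻¹) := by
      linear_combination (AModX.resR (inf_le_right : U x ⊓ U y ≤ U y) (↑(hαu y).unit⁻¹)) * ha -
        g x y ^ p * AModX.resR (inf_le_left : U x ⊓ U y ≤ U x) (↑(hαu x).unit⁻¹) * hb
    simp only [w, map_mul, map_pow]
    rw [hgc, hnat _ _ inf_le_left, hnat _ _ inf_le_right, ← key, map_mul (f.app (U x ⊓ U y)).hom, map_pow (f.app (U x ⊓ U y)).hom]
    ring
  obtain ⟨W, hW, -⟩ := AModX.existsUnique_glue (M := Coh.structureModule X') (V := ⊤)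
    (fun x : X => f ⁻¹ᵁ U x) (fun _ => le_top) (fun p' _ => ⟨f.base p', hx _⟩) w hw
  have hWu : IsUnit (show Γ(X', ⊤) from W) := by
    refine X'.toRingedSpace.isUnit_of_isUnit_germ ⊤ _ fun p' _ => ?_
    have h1 := congrArg (X'.presheaf.germ (f ⁻¹ᵁ U (f.base p')) p' (hx _)) (hW (f.base p'))
    have h2 : IsUnit (X'.presheaf.germ (f ⁻¹ᵁ U (f.base p')) p' (hx _) (w (f.base p'))) :=
      (((hcu _ _ (hm _)).pow p).mul ((Units.isUnit _).map _)).map _
    rw [← h1] at h2
    exact (X'.presheaf.germ_res_apply _ p' _ _) ▸ h2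
  obtain ⟨v, hv⟩ := hroot _ hWu
  have hvu : IsUnit v := (isUnit_pow_iff (Fact.out : p.Prime).pos.ne').1 (hv ▸ hWu)
  have hroots : ∀ x, ∃ t : Γ(X', f ⁻¹ᵁ U x), t ^ p = f.app _ (α _ (m x)) := fun x => by
    let ρ := AModX.resR (X := X') (le_top : f ⁻¹ᵁ U x ≤ ⊤)
    refine ⟨c _ (m x) * ρ (↑hvu.unit⁻¹), ?_⟩
    have hW' : ρ v ^ p = w x := by rw [← map_pow, hv]; exact hW x
    have h1 : ρ v * ρ (↑hvu.unit⁻¹) = 1 := by rw [← map_mul, IsUnit.mul_val_inv, map_one]
    have h2 : f.app _ (α _ (m x)) * f.app (U x) (↑(hαu x).unit⁻¹) = 1 := by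
      rw [← map_mul, IsUnit.mul_val_inv, map_one]
    have h3 : ρ v ^ p * ρ (↑hvu.unit⁻¹) ^ p = 1 := by rw [← mul_pow, h1, one_pow]
    rw [hW'] at h3
    rw [mul_pow]
    linear_combination (f.app _ (α _ (m x))) * h3 -
      c _ (m x) ^ p * ρ (↑hvu.unit⁻¹) ^ p * h2
  haveI : Nonempty X' := inferInstance
  haveI := PicfLib.Insep.isReduced_of_etaleHom f
  have hsurj := PicfLib.Insep.surjective_of_connected f
  have hchar : CharP X.functionField p :=
    PicfLib.Insep.charP_of_hom p (X.presheaf.germ ⊤ (genericPoint X) trivial).hom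
  have hdown : ∀ x, ∃ (V : X.Opens) (hV : V ≤ U x) (_ : x ∈ V) (b : Γ(X, V)),
      b ^ p = AModX.resR hV (α _ (m x)) := fun x => by
    obtain ⟨t, ht⟩ := hroots x
    exact PicfLib.Insep.exists_root f hnorm hsurj p hchar _ t ht (hx x)
  choose V hV hxV b hb using hdown
  have hbu : ∀ x, IsUnit (b x) := fun x =>
    (isUnit_pow_iff (Fact.out : p.Prime).pos.ne').1 (hb x ▸ (hαu x).map _)
  refine PicfLib.Trans.nonempty_iso_of_agree V (fun x => ⟨x, hxV x⟩)
    (fun x => (↑(hbu x).unit⁻¹ : Γ(X, V x)) • AModX.res M (hV x) (m x))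
    (fun x => ((hm x).res _).isUnit_smul (Units.isUnit _)) fun x y => ?_
  obtain ⟨k, hk⟩ := (hm y).exists_coord ((inf_le_right : V x ⊓ V y ≤ V y).trans (hV y))
    (AModX.res M ((inf_le_left : V x ⊓ V y ≤ V x).trans (hV x)) (m x))
  rw [AModX.res_smul, AModX.res_smul, AModX.res_res, AModX.res_res, hk, ← mul_smul]
  congr 1
  let ρ := AModX.resR (X := X) (inf_le_left : V x ⊓ V y ≤ V x)
  let σ := AModX.resR (X := X) (inf_le_right : V x ⊓ V y ≤ V y)
  have hbk : ρ (b x) = k * σ (b y) := by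
    refine eq_of_pow_eq p (X.presheaf.map (homOfLE (le_top : V x ⊓ V y ≤ ⊤)).op).hom ?_
    rw [← map_pow, mul_pow, ← map_pow, hb, hb, AModX.resR_resR, AModX.resR_resR, ← hαr, ← hαr, hk, hαs]
  have ha : ρ (↑(hbu x).unit⁻¹) * ρ (b x) = 1 := by rw [← map_mul, IsUnit.val_inv_mul, map_one]
  have hb' : σ (↑(hbu y).unit⁻¹) * σ (b y) = 1 := by rw [← map_mul, IsUnit.val_inv_mul, map_one]
  show ρ (↑(hbu x).unit⁻¹) * k = σ (↑(hbu y).unit⁻¹)
  rw [hbk] at ha
  linear_combination (σ (↑(hbu y).unit⁻¹)) * ha - ρ (↑(hbu x).unit⁻¹) * k * hb'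

end Groth.Agent.S14819
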