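import Groth.Statements.S14862
import Mathlib
import Groth.Agent.CA2H40.WittDiv
-- import your own Groth.Agent.* helpers here

set_option autoImplicit false
universe u
open CAlg

namespace Groth.Agent.S14862

open Groth.Agent.CA2H40

/-- Let p be a prime and S a commutative ring without p-torsion which is complete and separated for the
p-adic topology; write W = W(S) for the p-typical Witt vectors, I_r ⊆ W for the ideal of Witt
vectors whose first r components vanish (the image of the r-th iterate of the Verschiebung) and
W(p^s S) ⊆ W for the ideal of Witt vectors all of whose components lie in p^s S (the kernel of W(S)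
→ W(S/p^s S)). Then for every natural number u the ideal p^u W is closed for the linear topology on
W in which the ideals I_r + W(p^s S) form a neighbourhood basis of zero: the intersection over all r
and s of p^u W + I_r + W(p^s S) equals p^u W. (The published statement asks only that S have no
p-torsion; S is moreover taken p-adically complete and separated here, the case in which the result
is applied and through which the published proof goes.) -/
theorem result (p : ℕ) [Fact p.Prime] (S : Type u) [CommRing S]
    (hS : ∀ y : S, (p : S) * y = 0 → y = 0) [IsAdicComplete (Ideal.span {(p : S)}) S] (u : ℕ) :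
    (⨅ r : ℕ, ⨅ s : ℕ,
        Ideal.span {(p : WittVector p S) ^ u} ⊔ RingHom.ker (WittVector.truncate (p := p) (R := S) r) ⊔
          RingHom.ker (WittVector.map (p := p) (Ideal.Quotient.mk (Ideal.span {(p : S) ^ s})))) =
      Ideal.span {(p : WittVector p S) ^ u} := by
  refine le_antisymm (fun a ha => ?_) (le_iInf fun r => le_iInf fun s => le_sup_left.trans le_sup_left)
  simp only [Ideal.mem_iInf] at ha
  have hsol : ∀ m, ∃ x : WittVector p S, ∀ i < m, ((p : WittVector p S) ^ u * x - a).coeff i = 0 := by
    intro m
    refine exists_sol_trunc p hS a m u fun s => ?_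
    obtain ⟨y, hy, w, hw, hyw⟩ := Submodule.mem_sup.mp (ha m s)
    obtain ⟨q, hq, v, hv, rfl⟩ := Submodule.mem_sup.mp hy
    obtain ⟨c, rfl⟩ := Ideal.mem_span_singleton.mp hq
    refine ⟨c, ?_⟩
    have hv' : truncMod p m s v = 0 := by
      rw [truncMod_eq_zero_iff]
      intro i hi
      rw [RingHom.mem_ker] at hv
      have := congrArg (fun t => t.coeff ⟨i, hi⟩) hv
      simp only [WittVector.coeff_truncate, TruncatedWittVector.coeff_zero] at this
      simp [this]
    have hw' : truncMod p m s w = 0 := by
      rw [RingHom.mem_ker] at hw
      rw [truncMod, RingHom.comp_apply, hw, map_zero]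
    rw [← hyw, map_add, map_add, hv', hw', add_zero, add_zero]
  choose x hx using hsol
  have hzero : ∀ m s, truncMod p m s ((p : WittVector p S) ^ u * x m) = truncMod p m s a := fun m s => by
    rw [← sub_eq_zero, ← map_sub, truncMod_eq_zero_iff]
    intro i hi
    rw [hx m i hi]
    exact dvd_zero _
  have huniq : ∀ {m n : ℕ}, m ≤ n → ∀ i < m, (x m).coeff i = (x n).coeff i := by
    intro m n hmn i hi
    refine sub_eq_zero.mp (eq_zero_of_forall_dvd p fun s => ?_)
    refine (truncMod_eq_iff p m s _ _).mp ?_ i hi
    rw [← sub_eq_zero, ← map_sub]
    refine truncMod_cancel p hS (u := u) _ ?_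
    have h2 : truncMod p m (s + u) ((p : WittVector p S) ^ u * x n) = truncMod p m (s + u) a := by
      rw [← sub_eq_zero, ← map_sub]
      exact truncMod_mono p hmn le_rfl (by rw [map_sub, hzero, sub_self])
    rw [mul_sub, map_sub, hzero, h2, sub_self]
  let X := WittVector.mk p fun i => (x (i + 1)).coeff i
  refine Ideal.mem_span_singleton.mpr ⟨X, (sub_eq_zero.mp (WittVector.ext fun i => ?_)).symm⟩
  rw [WittVector.zero_coeff]
  refine eq_zero_of_forall_dvd p fun s => ?_
  refine (truncMod_eq_zero_iff p (i + 1) s _).mp ?_ i (Nat.lt_succ_self i)
  have hX : truncMod p (i + 1) s X = truncMod p (i + 1) s (x (i + 1)) :=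
    (truncMod_eq_iff p _ s _ _).mpr fun j hj => by
      rw [WittVector.coeff_mk, huniq (show j + 1 ≤ i + 1 by omega) j (Nat.lt_succ_self j), sub_self]
      exact dvd_zero _
  rw [map_sub, map_mul, hX, ← map_mul, hzero, sub_self]

end Groth.Agent.S14862
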