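import Groth.Statements.S14864
import Mathlib
-- import your own Groth.Agent.* helpers here

set_option autoImplicit false
universe u
open CAlg

namespace Groth.Agent.S14864

/-- Let p be a prime and R a commutative ring in which p is nilpotent; write W = W(R) for the p-typical
Witt vectors, I ⊆ W for the kernel of the projection onto the zeroth component, and I_n ⊆ W for the
kernel of the truncation W → W_n(R). The p-adic topology on W equals its I-adic topology — every
power of the ideal pW contains some power of I and every power of I contains some power of pW — and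
this common topology is finer than the V-adic one: every I_n contains some power of pW. -/
theorem result (p : ℕ) [Fact p.Prime] (R : Type u) [CommRing R]
    (hp : IsNilpotent (p : R)) :
    (∀ n : ℕ, ∃ m : ℕ, (RingHom.ker (WittVector.constantCoeff : WittVector p R →+* R)) ^ m ≤ Ideal.span {(p : WittVector p R)} ^ n) ∧
      (∀ n : ℕ, ∃ m : ℕ, Ideal.span {(p : WittVector p R)} ^ m ≤ (RingHom.ker (WittVector.constantCoeff : WittVector p R →+* R)) ^ n) ∧
        ∀ n : ℕ, ∃ m : ℕ, Ideal.span {(p : WittVector p R)} ^ m ≤ RingHom.ker (WittVector.truncate (p := p) (R := R) n) := by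
  obtain ⟨e, he⟩ := hp
  let I : Ideal (WittVector p R) := RingHom.ker (WittVector.constantCoeff : WittVector p R →+* R)
  have hIV : ∀ x ∈ I, ∃ y, WittVector.verschiebung y = x := by
    intro x hx
    exact ⟨x.shift 1, (WittVector.verschiebung_shift x 0 (fun i hi => by
      obtain rfl : i = 0 := by omega
      exact hx)).trans (WittVector.ext fun i => by simp [WittVector.shift_coeff])⟩
  have hII : I * I ≤ Ideal.span {(p : WittVector p R)} * I := by
    refine Ideal.mul_le.2 fun x hx y hy => ?_
    obtain ⟨a, rfl⟩ := hIV x hx
    obtain ⟨b, rfl⟩ := hIV y hy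
    rw [← WittVector.verschiebung_mul_frobenius, WittVector.frobenius_verschiebung,
      show a * (b * (p : WittVector p R)) = (a * b) * ((p : ℕ) : WittVector p R) from (mul_assoc _ _ _).symm]
    rw [← nsmul_eq_mul', map_nsmul, nsmul_eq_mul]
    refine Ideal.mul_mem_mul (Ideal.mem_span_singleton_self _) ?_
    show (WittVector.constantCoeff : WittVector p R →+* R) (WittVector.verschiebung _) = 0
    simp [WittVector.constantCoeff_apply]
  have hpI : (p : WittVector p R) ^ e ∈ I := by
    show (WittVector.constantCoeff : WittVector p R →+* R) _ = 0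
    exact (map_pow (WittVector.constantCoeff : WittVector p R →+* R) _ e).trans (by rw [map_natCast, he])
  have hstep : ∀ (j : ℕ) (x : WittVector p R), (∀ i < j, x.coeff i = 0) →
      ∀ i < j + 1, ((p : WittVector p R) ^ e * x).coeff i = 0 := by
    intro j x hx i hi
    obtain ⟨y, hy⟩ : ∃ y, (WittVector.verschiebung)^[j] y = x :=
      ⟨x.shift j, (WittVector.eq_iterate_verschiebung hx).symm⟩
    have hV : (p : WittVector p R) ^ e * x = (WittVector.verschiebung)^[j] ((p : WittVector p R) ^ e * y) := by
      rw [← hy, ← Nat.cast_pow, ← nsmul_eq_mul, ← nsmul_eq_mul]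
      clear hy hx hi
      induction j with
      | zero => rfl
      | succ j ih => rw [Function.iterate_succ_apply', Function.iterate_succ_apply', ← ih, map_nsmul]
    rw [hV]
    rcases Nat.lt_succ_iff_lt_or_eq.1 hi with h | h
    · exact WittVector.iterate_verschiebung_coeff_eq_zero _ h
    · subst h
      have h0 := WittVector.iterate_verschiebung_coeff ((p : WittVector p R) ^ e * y) i 0
      rw [zero_add] at h0
      rw [h0, ← WittVector.constantCoeff_apply, map_mul, map_pow, map_natCast, he, zero_mul]
  refine ⟨fun n => ⟨n + 1, ?_⟩, fun n => ⟨e * n, ?_⟩, fun n => ⟨e * n, ?_⟩⟩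
  · have : ∀ n : ℕ, I ^ (n + 1) ≤ Ideal.span {(p : WittVector p R)} ^ n * I := by
      intro n
      induction n with
      | zero => simp
      | succ n ih =>
        calc I ^ (n + 1 + 1) = I ^ (n + 1) * I := pow_succ _ _
          _ ≤ Ideal.span {(p : WittVector p R)} ^ n * I * I := Ideal.mul_mono_left ih
          _ = Ideal.span {(p : WittVector p R)} ^ n * (I * I) := mul_assoc _ _ _
          _ ≤ Ideal.span {(p : WittVector p R)} ^ n * (Ideal.span {(p : WittVector p R)} * I) :=
            Ideal.mul_mono_right hII
          _ = _ := by rw [← mul_assoc, ← pow_succ]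
    exact (this n).trans Ideal.mul_le_left
  · rw [pow_mul, Ideal.span_singleton_pow]
    exact Ideal.pow_right_mono ((Ideal.span_singleton_le_iff_mem _).2 hpI) n
  · rw [Ideal.span_singleton_pow, Ideal.span_singleton_le_iff_mem, WittVector.mem_ker_truncate]
    induction n with
    | zero => intro i hi; omega
    | succ n ih =>
      rw [show e * (n + 1) = e + e * n by ring, pow_add]
      exact hstep n _ ih

end Groth.Agent.S14864
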