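import Groth.Statements.S14886
import Groth.Agent.AlgGrp25.Bundle

set_option autoImplicit false
set_option linter.style.haveILetI false
set_option linter.unusedVariables false
universe u
open CategoryTheory MonoidalCategory CartesianMonoidalCategory MonObj GrpObj AlgebraicGeometry CategoryTheory.Limits
open AlgGrp
open Groth.Agent.AlgGrp25.Bundle

namespace Groth.Agent.S14886


theorem bundle_sq {S : Scheme.{u}} {H P Q : Over S} [GrpObj H] (a : AlgGrp.Action H P) (q : P ⟶ Q)
    (hinv : GIT.IsInvariant a q) (h : IsIso (GIT.PsiY a q hinv)) :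
    IsPullback a.act.left (snd H P).left q.left q.left := by
  haveI := h
  exact IsPullback.of_iso_pullback ⟨hinv.left⟩ (asIso (GIT.PsiY a q hinv)) (Limits.pullback.lift_fst _ _ _)
    (Limits.pullback.lift_snd _ _ _)

theorem quasiCompact_left {S : Scheme.{u}} {P Q : Over S} [QuasiCompact P.hom] [IsSeparated Q.hom] (q : P ⟶ Q) :
    QuasiCompact q.left := by
  haveI : QuasiCompact (q.left ≫ Q.hom) := by rw [Over.w q]; infer_instance
  exact QuasiCompact.of_comp q.left Q.hom

theorem quasiCompact_prod {S : Scheme.{u}} (A B : Over S) [QuasiCompact A.hom] [QuasiCompact B.hom] :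
    QuasiCompact (A ⊗ B).hom :=
  inferInstanceAs (QuasiCompact (Limits.pullback.fst A.hom B.hom ≫ A.hom))

/-- A morphism of fibres induces an equivariant morphism of twisted products. -/
theorem equivariant_whisker {S : Scheme.{u}} {G H X Y : Over S} [GrpObj G] [GrpObj H] (j : H ⟶ G)
    (aX : AlgGrp.Action H X) (aY : AlgGrp.Action H Y) (i : X ⟶ Y) (hi : aX.act ≫ i = (H ◁ i) ≫ aY.act)
    (b : AlgGrp.Action H (G ⊗ X))
    (hb : ∀ (T : Over S) (h : T ⟶ H) (g : T ⟶ G) (x : T ⟶ X),
      lift h (lift g x) ≫ b.act = lift (g * (h ≫ j)⁻¹) (lift h x ≫ aX.act))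
    (c : AlgGrp.Action H (G ⊗ Y))
    (hc : ∀ (T : Over S) (h : T ⟶ H) (g : T ⟶ G) (x : T ⟶ Y),
      lift h (lift g x) ≫ c.act = lift (g * (h ≫ j)⁻¹) (lift h x ≫ aY.act)) :
    b.act ≫ (G ◁ i) = (H ◁ (G ◁ i)) ≫ c.act := by
  apply AlgGrp.Action.hom_ext_lift₂
  intro T h p
  have hp : lift (p ≫ fst G X) (p ≫ snd G X) = p := by rw [← comp_lift, lift_fst_snd, Category.comp_id]
  rw [← hp, reassoc_of% hb, lift_whiskerLeft, Category.assoc, hi, lift_whiskerLeft_assoc, lift_whiskerLeft_assoc,
    lift_whiskerLeft, hc]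

/-- A twisted product maps equivariantly to the group. -/
theorem equivariant_fst {S : Scheme.{u}} {G H X : Over S} [GrpObj G] [GrpObj H] (j : H ⟶ G)
    (aX : AlgGrp.Action H X) (r : AlgGrp.Action H G)
    (hr : ∀ (T : Over S) (h : T ⟶ H) (g : T ⟶ G), lift h g ≫ r.act = g * (h ≫ j)⁻¹)
    (b : AlgGrp.Action H (G ⊗ X))
    (hb : ∀ (T : Over S) (h : T ⟶ H) (g : T ⟶ G) (x : T ⟶ X),
      lift h (lift g x) ≫ b.act = lift (g * (h ≫ j)⁻¹) (lift h x ≫ aX.act)) :
    b.act ≫ fst G X = (H ◁ fst G X) ≫ r.act := by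
  apply AlgGrp.Action.hom_ext_lift₂
  intro T h p
  have hp : lift (p ≫ fst G X) (p ≫ snd G X) = p := by rw [← comp_lift, lift_fst_snd, Category.comp_id]
  rw [← hp, reassoc_of% hb, lift_fst, lift_whiskerLeft_assoc, lift_fst, hr]

theorem isPullback_whisker_prod {S : Scheme.{u}} (G X Y : Over S) :
    IsPullback (G ◁ fst X Y).left (G ◁ snd X Y).left (fst G X).left (fst G Y).left := by
  have h : IsPullback (G ◁ fst X Y) (G ◁ snd X Y) (fst G X) (fst G Y) := by
    refine IsPullback.of_isLimit' ⟨by simp⟩ (Limits.PullbackCone.IsLimit.mk _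
      (fun s => lift (s.fst ≫ fst G X) (lift (s.fst ≫ snd G X) (s.snd ≫ snd G Y)))
      (fun s => ?_) (fun s => ?_) (fun s m h1 h2 => ?_))
    · apply CartesianMonoidalCategory.hom_ext <;> simp
    · apply CartesianMonoidalCategory.hom_ext
      · simpa using s.condition
      · simp
    · apply CartesianMonoidalCategory.hom_ext
      · rw [lift_fst, ← h1]; simp
      · apply CartesianMonoidalCategory.hom_ext
        · rw [lift_snd, lift_fst, ← h1]; simp
        · rw [lift_snd, lift_snd, ← h2]; simp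
  exact h.map (Over.forget _)

/-- Over an algebraically closed field k of characteristic zero, let G be a connected algebraic group (a
smooth connected k-group scheme of finite type) and H an algebraic subgroup (a smooth closed
subgroup scheme, j : H → G). Let π : G → B be the quotient of G by H (a geometric quotient for the
action h·g = g·h⁻¹ which is a principal H-bundle: (h, g) ↦ (g·h⁻¹, g) is an isomorphism H × G ≅ G
×_B G and π is flat). Let X and Y be varieties (reduced, separated, of finite type over k) with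
H-actions, in each of which every finite set of points lies in an affine open subset, and let qX : G
× X → QX, qY : G × Y → QY and qXY : G × (X × Y) → QXY be the associated bundles G_H(X), G_H(Y) and
G_H(X × Y): geometric quotients (invariant, surjective, open, fibre-pair map surjective on points,
sections = invariant sections) which are principal H-bundles, for the actions h·(g, x) = (g·h⁻¹,
h·x), h·(g, y) = (g·h⁻¹, h·y) and h·(g, x, y) = (g·h⁻¹, h·x, h·y), with QX, QY, QXY varieties over B
= G/H through pX, pY, pXY satisfying p ∘ q = π ∘ pr₁. Let fX : QXY → QX and fY : QXY → QY be the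
morphisms over B induced by the projections, fX ∘ qXY = qX ∘ (id × pr₁) and fY ∘ qXY = qY ∘ (id ×
pr₂). Then the square formed by fX, fY, pX, pY is cartesian: G_H(X × Y) is the fibre product of
G_H(X) and G_H(Y) over G/H. -/
theorem result (k : Type u) [Field k] [IsAlgClosed k] [CharZero k]
    (G H : Over (Spec (CommRingCat.of k))) [GrpObj G] [Smooth G.hom] [QuasiCompact G.hom]
    [ConnectedSpace ↥G.left] [GrpObj H] (j : H ⟶ G) [IsMonHom j] [IsClosedImmersion j.left] [Smooth H.hom]
    (B : Over (Spec (CommRingCat.of k))) [LocallyOfFiniteType B.hom] [QuasiCompact B.hom] [IsSeparated B.hom] [IsReduced B.left]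
    (r : AlgGrp.Action H G) (hr : ∀ (T : Over (Spec (CommRingCat.of k))) (h : T ⟶ H) (g : T ⟶ G),
      lift h g ≫ r.act = g * (h ≫ j)⁻¹)
    (π : G ⟶ B) (hπinv : GIT.IsInvariant r π)
    (hπ : (Function.Surjective π.left.base ∧ IsOpenMap π.left.base ∧
      Function.Surjective (GIT.PsiY r π hπinv).base ∧
      (∀ U : B.left.Opens, Function.Injective (π.left.app U) ∧
        Set.range (π.left.app U) = {f | GIT.IsInvSection r π U f}) ∧
      IsIso (GIT.PsiY r π hπinv) ∧ Flat π.left))
    (X Y : Over (Spec (CommRingCat.of k))) [LocallyOfFiniteType X.hom] [QuasiCompact X.hom] [IsSeparated X.hom] [IsReduced X.left] [LocallyOfFiniteType Y.hom] [QuasiCompact Y.hom] [IsSeparated Y.hom] [IsReduced Y.left]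
    (hFX : ∀ F : Finset ↥X.left, ∃ U : X.left.Opens, IsAffineOpen U ∧ (↑F : Set ↥X.left) ⊆ (U : Set ↥X.left))
    (hFY : ∀ F : Finset ↥Y.left, ∃ U : Y.left.Opens, IsAffineOpen U ∧ (↑F : Set ↥Y.left) ⊆ (U : Set ↥Y.left))
    (aX : AlgGrp.Action H X) (aY : AlgGrp.Action H Y)
    (b : AlgGrp.Action H (G ⊗ X))
    (hb : ∀ (T : Over (Spec (CommRingCat.of k))) (h : T ⟶ H) (g : T ⟶ G) (x : T ⟶ X),
      lift h (lift g x) ≫ b.act = lift (g * (h ≫ j)⁻¹) (lift h x ≫ aX.act))
    (c : AlgGrp.Action H (G ⊗ Y))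
    (hc : ∀ (T : Over (Spec (CommRingCat.of k))) (h : T ⟶ H) (g : T ⟶ G) (x : T ⟶ Y),
      lift h (lift g x) ≫ c.act = lift (g * (h ≫ j)⁻¹) (lift h x ≫ aY.act))
    (d : AlgGrp.Action H (G ⊗ (X ⊗ Y)))
    (hd : ∀ (T : Over (Spec (CommRingCat.of k))) (h : T ⟶ H) (g : T ⟶ G) (x : T ⟶ X) (y : T ⟶ Y),
      lift h (lift g (lift x y)) ≫ d.act = lift (g * (h ≫ j)⁻¹) (lift (lift h x ≫ aX.act) (lift h y ≫ aY.act)))
    (QX QY QXY : Over (Spec (CommRingCat.of k))) [LocallyOfFiniteType QX.hom] [QuasiCompact QX.hom] [IsSeparated QX.hom] [IsReduced QX.left] [LocallyOfFiniteType QY.hom] [QuasiCompact QY.hom] [IsSeparated QY.hom] [IsReduced QY.left] [LocallyOfFiniteType QXY.hom] [QuasiCompact QXY.hom] [IsSeparated QXY.hom] [IsReduced QXY.left]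
    (qX : G ⊗ X ⟶ QX) (hqXinv : GIT.IsInvariant b qX) (hqX : (Function.Surjective qX.left.base ∧ IsOpenMap qX.left.base ∧
      Function.Surjective (GIT.PsiY b qX hqXinv).base ∧
      (∀ U : QX.left.Opens, Function.Injective (qX.left.app U) ∧
        Set.range (qX.left.app U) = {f | GIT.IsInvSection b qX U f}) ∧
      IsIso (GIT.PsiY b qX hqXinv) ∧ Flat qX.left))
    (qY : G ⊗ Y ⟶ QY) (hqYinv : GIT.IsInvariant c qY) (hqY : (Function.Surjective qY.left.base ∧ IsOpenMap qY.left.base ∧
      Function.Surjective (GIT.PsiY c qY hqYinv).base ∧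
      (∀ U : QY.left.Opens, Function.Injective (qY.left.app U) ∧
        Set.range (qY.left.app U) = {f | GIT.IsInvSection c qY U f}) ∧
      IsIso (GIT.PsiY c qY hqYinv) ∧ Flat qY.left))
    (qXY : G ⊗ (X ⊗ Y) ⟶ QXY) (hqXYinv : GIT.IsInvariant d qXY) (hqXY : (Function.Surjective qXY.left.base ∧ IsOpenMap qXY.left.base ∧
      Function.Surjective (GIT.PsiY d qXY hqXYinv).base ∧
      (∀ U : QXY.left.Opens, Function.Injective (qXY.left.app U) ∧
        Set.range (qXY.left.app U) = {f | GIT.IsInvSection d qXY U f}) ∧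
      IsIso (GIT.PsiY d qXY hqXYinv) ∧ Flat qXY.left))
    (pX : QX ⟶ B) (hpX : qX ≫ pX = fst G X ≫ π) (pY : QY ⟶ B) (hpY : qY ≫ pY = fst G Y ≫ π)
    (pXY : QXY ⟶ B) (hpXY : qXY ≫ pXY = fst G (X ⊗ Y) ≫ π)
    (fX : QXY ⟶ QX) (hfX : qXY ≫ fX = (G ◁ fst X Y) ≫ qX) (hfXp : fX ≫ pX = pXY)
    (fY : QXY ⟶ QY) (hfY : qXY ≫ fY = (G ◁ snd X Y) ≫ qY) (hfYp : fY ≫ pY = pXY) :
    IsPullback fX.left fY.left pX.left pY.left := by
  obtain ⟨hs, -, -, -, hiso, hfl⟩ := hπ
  obtain ⟨hsX, -, -, -, hisoX, hflX⟩ := hqX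
  obtain ⟨hsY, -, -, -, hisoY, hflY⟩ := hqY
  obtain ⟨hsXY, -, -, -, hisoXY, hflXY⟩ := hqXY
  haveI := hfl; haveI := hflX; haveI := hflY; haveI := hflXY
  haveI : Surjective π.left := ⟨hs⟩
  haveI : Surjective qX.left := ⟨hsX⟩
  haveI : Surjective qY.left := ⟨hsY⟩
  haveI : Surjective qXY.left := ⟨hsXY⟩
  haveI := quasiCompact_prod G X; haveI := quasiCompact_prod G Y
  haveI := quasiCompact_prod X Y; haveI := quasiCompact_prod G (X ⊗ Y)
  haveI := quasiCompact_left π; haveI := quasiCompact_left qX; haveI := quasiCompact_left qY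
  haveI := quasiCompact_left qXY
  have hπsq := bundle_sq r π hπinv hiso
  have hX := isPullback_of_equivariant b r (fst G X) (equivariant_fst j aX r hr b hb) qX π pX hpX
    (bundle_sq b qX hqXinv hisoX) hπsq
  have hY := isPullback_of_equivariant c r (fst G Y) (equivariant_fst j aY r hr c hc) qY π pY hpY
    (bundle_sq c qY hqYinv hisoY) hπsq
  have hXY := isPullback_of_equivariant d r (fst G (X ⊗ Y)) (equivariant_fst j (aX.prod aY) r hr d
    (fun T h g p => by
      have hp : lift (p ≫ fst X Y) (p ≫ snd X Y) = p := by rw [← comp_lift, lift_fst_snd, Category.comp_id]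
      rw [← hp, hd, AlgGrp.Action.lift_prod_act])) qXY π pXY hpXY
    (bundle_sq d qXY hqXYinv hisoXY) hπsq
  let B' := Limits.pullback pX.left pY.left
  let t : (G ⊗ (X ⊗ Y)).left ⟶ B' := Limits.pullback.lift ((G ◁ fst X Y).left ≫ qX.left) ((G ◁ snd X Y).left ≫ qY.left) (by
    rw [Category.assoc, Category.assoc, ← hX.w, ← hY.w, ← Category.assoc, ← Category.assoc,
      (isPullback_whisker_prod G X Y).w])
  have houter : IsPullback ((G ◁ fst X Y).left ≫ qX.left) (G ◁ snd X Y).left pX.left ((fst G Y).left ≫ π.left) :=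
    (isPullback_whisker_prod G X Y).paste_horiz hX.flip
  have hF : IsPullback t (G ◁ snd X Y).left (Limits.pullback.snd pX.left pY.left) qY.left := by
    refine IsPullback.of_right (h₁₂ := Limits.pullback.fst pX.left pY.left) (h₂₂ := pY.left) ?_
      (Limits.pullback.lift_snd _ _ _) (IsPullback.of_hasPullback pX.left pY.left)
    rw [Limits.pullback.lift_fst, ← hY.w]
    exact houter
  have hFπ : IsPullback t (fst G (X ⊗ Y)).left (Limits.pullback.snd pX.left pY.left ≫ pY.left) π.left := by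
    have := hF.paste_vert hY.flip
    rwa [show (G ◁ snd X Y).left ≫ (fst G Y).left = (fst G (X ⊗ Y)).left from
      congrArg CommaMorphism.left (whiskerLeft_fst G (snd X Y))] at this
  let c' : QXY.left ⟶ B' := Limits.pullback.lift fX.left fY.left (by
    rw [← Over.comp_left, ← Over.comp_left, hfXp, hfYp])
  have hc' : qXY.left ≫ c' = t := by
    apply Limits.pullback.hom_ext
    · rw [Category.assoc, Limits.pullback.lift_fst, Limits.pullback.lift_fst, ← Over.comp_left, hfX, Over.comp_left]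
    · rw [Category.assoc, Limits.pullback.lift_snd, Limits.pullback.lift_snd, ← Over.comp_left, hfY, Over.comp_left]
  have hsq : IsPullback (𝟙 _) qXY.left t c' := by
    refine IsPullback.of_right (h₁₂ := (fst G (X ⊗ Y)).left) (h₂₂ := Limits.pullback.snd pX.left pY.left ≫ pY.left)
      (v₁₃ := π.left) ?_ (by rw [Category.id_comp, hc']) hFπ.flip
    rw [Category.id_comp, Limits.pullback.lift_snd_assoc, show fY.left ≫ pY.left = pXY.left from congrArg CommaMorphism.left hfYp]
    exact hXY
  haveI : Flat t := MorphismProperty.of_isPullback hFπ.flip hfl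
  haveI : Surjective t := MorphismProperty.of_isPullback hFπ.flip (inferInstanceAs (Surjective π.left))
  haveI : QuasiCompact t := MorphismProperty.of_isPullback hFπ.flip (inferInstanceAs (QuasiCompact π.left))
  haveI : IsIso c' := MorphismProperty.of_isPullback_of_descendsAlong (P := MorphismProperty.isomorphisms Scheme.{u})
    (Q := @Surjective ⊓ @Flat ⊓ @QuasiCompact) hsq ⟨⟨inferInstance, inferInstance⟩, inferInstance⟩
      (inferInstanceAs (IsIso (𝟙 _)))
  exact IsPullback.of_iso_pullback ⟨by rw [← Over.comp_left, ← Over.comp_left, hfXp, hfYp]⟩ (asIso c')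
    (Limits.pullback.lift_fst _ _ _) (Limits.pullback.lift_snd _ _ _)

end Groth.Agent.S14886
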