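import Groth.Statements.S14888
import Mathlib
import Groth.Agent.CA2H40.FiniteSpecLoc
-- import your own Groth.Agent.* helpers here

set_option autoImplicit false
universe u
open CategoryTheory AlgebraicGeometry
open CAlg

namespace Groth.Agent.S14888

/-- Let R be a valuation ring whose spectrum is finite (finite height) and let f : X → Spec R be locally
of finite type with locally quasi-finite fibres. For every x ∈ X the canonical morphism Spec O_{X,x}
→ X is an open immersion, and the composite Spec O_{X,x} → Spec R is locally of finite type; in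
particular O_{X,x} is finitely generated as an R-algebra. (The published statement takes X
quasi-finite over Spec R; the assertions are local at x, so this row assumes only that X is locally
of finite type with discrete fibres.) -/
theorem result
    (R : Type u) [CommRing R] [IsDomain R] [ValuationRing R] [Finite (PrimeSpectrum R)]
    {X : Scheme.{u}} (f : X ⟶ Spec (CommRingCat.of R)) [LocallyOfFiniteType f] [LocallyQuasiFinite f]
    (x : X) :
    IsOpenImmersion (X.fromSpecStalk x) ∧ LocallyOfFiniteType (X.fromSpecStalk x ≫ f) := by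
  obtain ⟨U, hU, hxU, -⟩ := exists_isAffineOpen_mem_and_subset (Set.mem_univ x) (x := x) (U := ⊤)
  have hV := isAffineOpen_top (Spec (CommRingCat.of R))
  have hle : U ≤ f ⁻¹ᵁ ⊤ := le_top
  haveI : Finite (PrimeSpectrum Γ(X, U)) := by
    have h1 := f.finiteType_appLE hV hU hle
    have h2 := LocallyQuasiFinite.quasiFinite_appLE (f := f) hV hU hle
    haveI : Finite (PrimeSpectrum Γ(Spec (CommRingCat.of R), ⊤)) :=
      Finite.of_equiv _ (PrimeSpectrum.comapEquiv (Scheme.ΓSpecIso (CommRingCat.of R)).commRingCatIsoToRingEquiv.symm).toEquiv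
    letI := (f.appLE ⊤ U hle).hom.toAlgebra
    haveI : Algebra.QuasiFinite Γ(Spec (CommRingCat.of R), ⊤) Γ(X, U) := h2
    exact Algebra.QuasiFinite.finite_primeSpectrum Γ(Spec (CommRingCat.of R), ⊤) Γ(X, U)
  have hopen : IsOpenImmersion (X.fromSpecStalk x) := by
    rw [← hU.fromSpecStalk_eq_fromSpecStalk hxU]
    unfold IsAffineOpen.fromSpecStalk
    let P : Ideal Γ(X, U) := (hU.primeIdealOf ⟨x, hxU⟩).asIdeal
    letI : Algebra Γ(X, U) (X.presheaf.stalk x) := (X.presheaf.germ U x hxU).hom.toAlgebra
    haveI : IsLocalization.AtPrime (X.presheaf.stalk x) P := hU.isLocalization_stalk ⟨x, hxU⟩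
    obtain ⟨g, -, hg⟩ := CA2H40.exists_isLocalizationAway P (X.presheaf.stalk x)
    haveI := hg
    haveI : IsOpenImmersion (Spec.map (X.presheaf.germ U x hxU)) :=
      IsOpenImmersion.of_isLocalization (S := X.presheaf.stalk x) g
    infer_instance
  haveI := hopen
  exact ⟨hopen, inferInstance⟩

end Groth.Agent.S14888
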