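import Groth.Statements.S14892
import Mathlib
import Groth.Agent.CA2H40.Abhyankar
-- import your own Groth.Agent.* helpers here

set_option autoImplicit false
universe u
open CAlg

namespace Groth.Agent.S14892

/-- If the field K has finite transcendence degree d over its prime subfield, then every valuation
subring of K has height (Krull dimension) at most d + 1. -/
theorem result
    (K : Type u) [Field K] (A : ValuationSubring K) (d : ℕ)
    (hd : Algebra.trdeg (⊥ : Subfield K) K = d) :
    ringKrullDim A ≤ ((d + 1 : ℕ) : WithBot ℕ∞) := by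
  classical
  let vL := A.valuation
  let K0 : Subfield K := ⊥
  let vK : Valuation K0 A.ValueGroup := vL.comap (algebraMap K0 K)
  haveI : vK.HasExtension vL := ⟨Valuation.IsEquiv.refl⟩
  -- all values of the prime field are powers of one value
  obtain ⟨p, hp0, hp⟩ : ∃ p : A, (p : K) ≠ 0 ∧ ∀ n : ℕ, (n : K) ≠ 0 → ∃ k : ℕ, vL (n : K) = vL (p : K) ^ k := by
    by_cases h : ∀ n : ℕ, (n : K) ≠ 0 → vL (n : K) = 1
    · exact ⟨1, by simp, fun n hn => ⟨0, by simp [h n hn]⟩⟩
    push Not at h
    obtain ⟨hq0, hq1⟩ := Nat.find_spec h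
    set q := Nat.find h with hq
    have hle : ∀ n : ℕ, vL (n : K) ≤ 1 := fun n => by
      exact A.valuation_le_one (n : A)
    refine ⟨(q : A), by simpa using hq0, fun n => ?_⟩
    induction n using Nat.strong_induction_on with
    | _ n ih =>
      intro hn
      by_cases hv : vL (n : K) = 1
      · exact ⟨0, by simp [hv]⟩
      have hq2 : 2 ≤ q := by
        by_contra hcon
        rcases (by omega : q = 0 ∨ q = 1) with h0 | h1
        · exact hq0 (by rw [h0]; simp)
        · exact hq1 (by rw [h1]; simp)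
      by_cases hr : ((n % q : ℕ) : K) = 0
      · have he : (n : K) = (q : K) * ((n / q : ℕ) : K) := by
          conv_lhs => rw [← Nat.div_add_mod n q]
          push_cast; rw [hr, add_zero]
        have hk : ((n / q : ℕ) : K) ≠ 0 := fun h0 => hn (by rw [he, h0, mul_zero])
        have hn0 : 0 < n := Nat.pos_of_ne_zero fun h0 => hn (by simp [h0])
        obtain ⟨k, hk⟩ := ih (n / q) (Nat.div_lt_self hn0 hq2) hk
        exact ⟨k + 1, by rw [he, map_mul, hk, pow_succ, mul_comm]; simp⟩
      · exfalso
        have hr1 : vL ((n % q : ℕ) : K) = 1 := by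
          by_contra hne
          exact absurd (Nat.find_min' h ⟨hr, hne⟩) (not_le.2 (Nat.mod_lt _ (by omega)))
        apply hv
        have he : (n : K) = ((n % q : ℕ) : K) + (q : K) * ((n / q : ℕ) : K) := by
          conv_lhs => rw [← Nat.mod_add_div n q]
          push_cast; ring
        rw [he, ← hr1]
        refine Valuation.map_add_eq_of_lt_left _ ?_
        rw [hr1, map_mul]
        exact mul_lt_one_of_nonneg_of_lt_one_left zero_le (lt_of_le_of_ne (hle q) hq1) (hle _)
  have hc : ∀ c : K0ˣ, ∃ k k' : ℕ, vL ((c : K0) : K) * vL (p : K) ^ k' = vL (p : K) ^ k := by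
    intro c
    have hz : ∀ z : ℤ, (z : K) ≠ 0 → ∃ k : ℕ, vL (z : K) = vL (p : K) ^ k := by
      intro z hz
      rcases Int.natAbs_eq z with he | he <;> rw [he] at hz ⊢
      · simpa using hp z.natAbs (by simpa using hz)
      · simpa using hp z.natAbs (by simpa using hz)
    have hmem : ((c : K0) : K) ∈ Subfield.closure (∅ : Set K) := by
      rw [Subfield.closure_empty]; exact (c : K0).2
    obtain ⟨y, hy, z, hz', he⟩ := Subfield.mem_closure_iff.1 hmem
    rw [Subring.closure_empty, Subring.mem_bot] at hy hz'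
    obtain ⟨yi, rfl⟩ := hy
    obtain ⟨zi, rfl⟩ := hz'
    have hne : ((c : K0) : K) ≠ 0 := by simp
    rw [← he] at hne ⊢
    obtain ⟨hy0, hz0⟩ := div_ne_zero_iff.1 hne
    obtain ⟨k, hk⟩ := hz yi hy0
    obtain ⟨k', hk'⟩ := hz zi hz0
    refine ⟨k, k', ?_⟩
    rw [map_div₀, ← hk', div_mul_cancel₀ _ (vL.ne_zero_iff.2 hz0), hk]
  choose k k' hkk using hc
  refine iSup_le fun l => ?_
  let P : Fin (l.length + 1) → Ideal A := fun i => (l i).asIdeal
  have hP : ∀ i, (P i).IsPrime := fun i => (l i).isPrime
  have hex : ∀ i : Fin l.length, ∃ x : A, x ∈ P i.succ ∧ x ∉ P i.castSucc := fun i =>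
    Set.exists_of_ssubset (SetLike.coe_ssubset_coe.2 ((PrimeSpectrum.asIdeal_lt_asIdeal _ _).2 (l.step i)))
  choose a ha ha' using hex
  let I := {i : Fin l.length // ¬ (p ∈ P i.succ ∧ p ∉ P i.castSucc)}
  have hmono : Monotone P := fun i j hij => (PrimeSpectrum.asIdeal_le_asIdeal _ _).2 (l.monotone hij)
  have ha0 : ∀ i, (a i : K) ≠ 0 := fun i h0 => ha' i (by
    rw [show a i = 0 from Subtype.ext h0]; exact zero_mem _)
  let x : ULift.{u} I → Kˣ := fun i => Units.mk0 (a i.down.1 : K) (ha0 _)
  -- products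
  let mon : (ULift.{u} I →₀ ℕ) → A := fun α => α.prod fun i n => a i.down.1 ^ n
  have key : ∀ (α β : ULift.{u} I →₀ ℕ) (e e' : ℕ), (∀ i, α i = 0 ∨ β i = 0) → (e = 0 ∨ e' = 0) →
      Associated (mon α * p ^ e) (mon β * p ^ e') → ∀ i, α i = 0 := by
    intro α β e e' hdisj hee hass i
    by_contra hi
    obtain ⟨m, hm, hmin⟩ := (α.support ∪ β.support).exists_min_image (fun j => j.down.1)
      ⟨i, Finset.mem_union_left _ (Finsupp.mem_support_iff.2 hi)⟩
    have main : ∀ (α β : ULift.{u} I →₀ ℕ) (e e' : ℕ), (∀ i, α i = 0 ∨ β i = 0) → (e = 0 ∨ e' = 0) →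
        Associated (mon α * p ^ e) (mon β * p ^ e') → α m ≠ 0 →
        (∀ j ∈ α.support ∪ β.support, m.down.1 ≤ j.down.1) → False := by
      intro α β e e' hdisj hee hass hm0 hmin
      haveI := hP m.down.1.succ
      haveI := hP m.down.1.castSucc
      have hL : mon α * p ^ e ∈ P m.down.1.succ := Ideal.mul_mem_right _ _
        (Ideal.prod_mem _ (i := m) (Finsupp.mem_support_iff.2 hm0) (Ideal.pow_mem_of_mem _ (ha m.down.1) _ (Nat.pos_of_ne_zero hm0)))
      have hR := Ideal.mem_of_dvd _ hass.dvd hL
      have hR0 : mon β ∉ P m.down.1.succ := by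
        intro h
        obtain ⟨j, hj, hjm⟩ := (hP m.down.1.succ).prod_mem_iff.1 h
        have hjm' := (hP _).mem_of_pow_mem _ hjm
        have hne : j ≠ m := fun e0 => (hdisj m).elim hm0 (fun h0 => Finsupp.mem_support_iff.1 hj (e0 ▸ h0))
        have hlt : m.down.1 < j.down.1 := lt_of_le_of_ne (hmin j (Finset.mem_union_right _ hj))
          fun e0 => hne (ULift.ext _ _ (Subtype.ext e0.symm))
        exact ha' j.down.1 (hmono (Fin.succ_le_castSucc_iff.2 hlt) hjm')
      have hpe := ((hP _).mem_or_mem hR).resolve_left hR0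
      have hps : p ∈ P m.down.1.succ := (hP _).mem_of_pow_mem _ hpe
      have hpc : p ∈ P m.down.1.castSucc := by
        by_contra hpc; exact m.down.2 ⟨hps, hpc⟩
      have he'0 : e' ≠ 0 := fun h0 => (hP m.down.1.succ).ne_top ((Ideal.eq_top_iff_one _).2 (by simpa [h0] using hpe))
      have hRc : mon β * p ^ e' ∈ P m.down.1.castSucc :=
        Ideal.mul_mem_left _ _ (Ideal.pow_mem_of_mem _ hpc _ (Nat.pos_of_ne_zero he'0))
      have hLc := Ideal.mem_of_dvd _ hass.symm.dvd hRc
      rw [hee.resolve_right he'0, pow_zero, mul_one] at hLc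
      obtain ⟨j, hj, hjm⟩ := (hP m.down.1.castSucc).prod_mem_iff.1 hLc
      exact ha' j.down.1 (hmono (Fin.castSucc_le_castSucc_iff.2 (hmin j (Finset.mem_union_left _ hj)))
        ((hP _).mem_of_pow_mem _ hjm))
    rcases Finset.mem_union.1 hm with h1 | h1
    · exact main α β e e' hdisj hee hass (Finsupp.mem_support_iff.1 h1) hmin
    · exact main β α e' e (fun i => (hdisj i).symm) hee.symm hass.symm (Finsupp.mem_support_iff.1 h1)
        (fun j hj => hmin j (by rwa [Finset.union_comm]))
  have hindep := CA2H40.algebraicIndependent_sum vK vL x (fun j : PEmpty.{u + 1} => nomatch j)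
    algebraicIndependent_empty_type (fun α β c c' h => by
      let μ := α ⊓ β
      have hμ : ∀ γ, μ ≤ γ → vL (γ.prod fun i n => ((x i : Kˣ) : K) ^ n) =
          vL (mon (γ - μ) : K) * vL (mon μ : K) := by
        intro γ hγ
        rw [← map_mul, ← MulMemClass.coe_mul]
        congr 1
        have : mon (γ - μ) * mon μ = mon γ := by
          simp only [mon]
          rw [← Finsupp.prod_add_index' (fun i => pow_zero _) (fun i m n => pow_add _ _ _), tsub_add_cancel_of_le hγ]
        rw [this]
        simp [mon, x, Finsupp.prod]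
      rw [map_mul, map_mul, hμ α inf_le_left, hμ β inf_le_right] at h
      set e := k c + k' c'
      set e' := k c' + k' c
      have hvp : ∀ n : ℕ, vL (p : K) ^ n ≠ 0 := fun n => pow_ne_zero n (vL.ne_zero_iff.2 hp0)
      have hm0 : vL (mon μ : K) ≠ 0 := by
        refine vL.ne_zero_iff.2 ?_
        simp only [mon, Finsupp.prod, SubmonoidClass.coe_finsetProd, SubmonoidClass.coe_pow]
        exact Finset.prod_ne_zero_iff.2 fun i _ => pow_ne_zero _ (ha0 _)
      have h' : vL ((mon (α - μ) * p ^ e : A) : K) = vL ((mon (β - μ) * p ^ e' : A) : K) := by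
        simp only [MulMemClass.coe_mul, SubmonoidClass.coe_pow, map_mul, map_pow, e, e', pow_add]
        apply mul_left_cancel₀ hm0
        rw [← hkk c, ← hkk c']
        have h2 : vL (mon (α - μ) : K) * vL (mon μ : K) * vL ((c : K0) : K) =
            vL (mon (β - μ) : K) * vL (mon μ : K) * vL ((c' : K0) : K) := h
        calc vL (mon μ : K) * (vL (mon (α - μ) : K) * (vL ((c : K0) : K) * vL (p : K) ^ k' c * vL (p : K) ^ k' c'))
            = (vL (mon (α - μ) : K) * vL (mon μ : K) * vL ((c : K0) : K)) * (vL (p : K) ^ k' c * vL (p : K) ^ k' c') := by ac_rfl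
          _ = (vL (mon (β - μ) : K) * vL (mon μ : K) * vL ((c' : K0) : K)) * (vL (p : K) ^ k' c * vL (p : K) ^ k' c') := by rw [h2]
          _ = _ := by ac_rfl
      obtain ⟨w, hw⟩ := (A.valuation_eq_iff _ _).1 h'
      have hass : Associated (mon (β - μ) * p ^ e') (mon (α - μ) * p ^ e) :=
        ⟨w, by rw [mul_comm]; exact Subtype.ext hw⟩
      have hass' : Associated (mon (α - μ) * p ^ (e - min e e')) (mon (β - μ) * p ^ (e' - min e e')) := by
        have hpne : p ^ min e e' ≠ 0 := pow_ne_zero _ fun h0 => hp0 (by simp [h0])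
        refine (Associated.of_mul_right ?_ (Associated.refl (p ^ min e e')) hpne)
        rw [mul_assoc, mul_assoc, ← pow_add, ← pow_add, Nat.sub_add_cancel (min_le_left _ _),
          Nat.sub_add_cancel (min_le_right _ _)]
        exact hass.symm
      have hd : ∀ i, (α - μ) i = 0 ∨ (β - μ) i = 0 := fun i => by
        simp only [μ, Finsupp.tsub_apply, Finsupp.inf_apply]
        rcases le_total (α i) (β i) with h3 | h3
        · left; simp [h3]
        · right; simp [h3]
      have he : e - min e e' = 0 ∨ e' - min e e' = 0 := by omega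
      ext i
      have hA := key _ _ _ _ hd he hass' i
      have hB := key _ _ _ _ (fun i => (hd i).symm) he.symm hass'.symm i
      simp only [μ, Finsupp.tsub_apply, Finsupp.inf_apply] at hA hB
      rcases le_total (α i) (β i) with h3 | h3 <;> simp [h3] at hA hB <;> omega)
  have hcard := hindep.cardinalMk_le_trdeg
  rw [Cardinal.mk_sum, Cardinal.lift_id, Cardinal.lift_id, Cardinal.mk_eq_zero PEmpty, add_zero,
    Cardinal.mk_uLift] at hcard
  have hI : (Fintype.card I : ℕ) ≤ d := by
    have h5 := hcard.trans hd.le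
    rw [Cardinal.mk_fintype, Cardinal.lift_natCast] at h5
    exact_mod_cast h5
  have hsub : Fintype.card {i : Fin l.length // p ∈ P i.succ ∧ p ∉ P i.castSucc} ≤ 1 := by
    refine Fintype.card_le_one_iff.2 ?_
    rintro ⟨i, hi1, hi2⟩ ⟨j, hj1, hj2⟩
    apply Subtype.ext
    rcases lt_trichotomy i j with h | h | h
    · exact absurd (hmono (Fin.succ_le_castSucc_iff.2 h) hi1) hj2
    · exact h
    · exact absurd (hmono (Fin.succ_le_castSucc_iff.2 h) hj1) hi2
  have := Fintype.card_subtype_compl (fun i : Fin l.length => p ∈ P i.succ ∧ p ∉ P i.castSucc)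
  simp only [I] at hI
  rw [this, Fintype.card_fin] at hI
  exact_mod_cast (by omega : l.length ≤ d + 1)

end Groth.Agent.S14892
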