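import Groth.Statements.S14893
import Mathlib
import Groth.Agent.CA2H40.FGSpectrum
-- import your own Groth.Agent.* helpers here

set_option autoImplicit false
universe u
open CAlg

namespace Groth.Agent.S14893

/-- Every valuation ring R is a filtered union of subrings which are valuation rings with finite
spectrum (finite height): there is a nonempty directed index type and a monotone family of such
subrings of R whose supremum is R. -/
theorem result
    (R : Type u) [CommRing R] [IsDomain R] [ValuationRing R] :
    ∃ (ι : Type u) (_ : Preorder ι) (_ : IsDirected ι (fun a b ↦ a ≤ b)) (_ : Nonempty ι)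
      (F : ι → Subring R), Monotone F ∧ (⨆ i, F i) = ⊤ ∧
        ∀ i, ValuationRing (F i) ∧ Finite (PrimeSpectrum (F i)) := by
  classical
  let K := FractionRing R
  let Ks : Finset R → Subfield K := fun s => Subfield.closure ((s.image (algebraMap R K) : Finset K) : Set K)
  let F : Finset R → Subring R := fun s => (Ks s).toSubring.comap (algebraMap R K)
  have hmem : ∀ {s : Finset R} {x : R}, x ∈ F s ↔ algebraMap R K x ∈ Ks s := Iff.rfl
  have hmono : Monotone F := fun s t hst x hx => hmem.mpr
    (Subfield.closure_mono (by exact_mod_cast Finset.image_subset_image hst) (hmem.mp hx))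
  refine ⟨Finset R, inferInstance, inferInstance, inferInstance, F, hmono, ?_, fun s => ?_⟩
  · refine eq_top_iff.mpr fun x _ => (le_iSup F {x}) (hmem.mpr (Subfield.subset_closure ?_))
    simp
  · haveI hV : ValuationRing (F s) := by
      haveI : PreValuationRing (F s) := ⟨fun a b => by
        obtain ⟨c, hc⟩ := PreValuationRing.cond (a : R) (b : R)
        have key : ∀ a b : F s, (a : R) * c = b → ∃ c', a * c' = b := by
          intro a b hab
          by_cases ha : (a : R) = 0
          · exact ⟨0, Subtype.ext (by rw [← hab, ha]; simp [ha])⟩
          · have hcK : algebraMap R K c = algebraMap R K (b : R) / algebraMap R K (a : R) := by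
              rw [eq_div_iff (by simpa using ha), ← map_mul, mul_comm, hab]
            exact ⟨⟨c, hmem.mpr (hcK ▸ (Ks s).div_mem (hmem.mp b.2) (hmem.mp a.2))⟩, Subtype.ext hab⟩
        rcases hc with h | h
        · obtain ⟨c', h'⟩ := key a b h
          exact ⟨c', Or.inl h'⟩
        · obtain ⟨c', h'⟩ := key b a h
          exact ⟨c', Or.inr h'⟩⟩
      exact ⟨⟩
    refine ⟨hV, ?_⟩
    let g : Finset K := s.image (algebraMap R K)
    let ι : F s →+* Ks s := ((algebraMap R K).comp (F s).subtype).codRestrict (Ks s) fun x => hmem.mp x.2
    refine Groth.Agent.CA2H40.finite_primeSpectrum_of_fg ι (fun x y h => Subtype.ext ?_)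
      (g.preimage Subtype.val Subtype.val_injective.injOn) ?_
    · exact IsFractionRing.injective R K (congrArg Subtype.val h)
    · refine eq_top_iff.mpr fun l _ => ?_
      have hmap : Ks s ≤ (Subfield.closure ((g.preimage Subtype.val Subtype.val_injective.injOn : Finset (Ks s)) : Set (Ks s))).map (Ks s).subtype := by
        rw [RingHom.map_field_closure, Finset.coe_preimage]
        refine Subfield.closure_mono fun z hz => ⟨⟨z, Subfield.subset_closure hz⟩, hz, rfl⟩
      obtain ⟨l', hl', hll⟩ := hmap l.2
      rwa [show l' = l from Subtype.ext hll] at hl'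

end Groth.Agent.S14893
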