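import Groth.Statements.S14897
import Groth.Agent.PnCoh.Chow.Proper
import Groth.Agent.Triage.SchDense

set_option linter.style.haveILetI false
set_option backward.isDefEq.respectTransparency false
set_option backward.isDefEq.respectTransparency.types false
-- import your own Groth.Agent.* helpers here

set_option autoImplicit false
universe u
open CategoryTheory CategoryTheory.Limits AlgebraicGeometry
open FlatMor

namespace Groth.Agent.S14897

/-- Let S be integral, quasi-compact and quasi-separated, K̄ a field with a dominant morphism η̄ : Spec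
K̄ → S, and f ∈ K̄. Then there is a K̄-modification of S on which f is a rational function defining
a morphism to the projective line: η̄ factors as a schematically dominant s : Spec K̄ → S' followed
by a proper S' → S, and there is F : S' → P¹ (Proj of ℤ[T₀, T₁], universe-lifted) with s ≫ F equal
to the K̄-point [1 : f] of the chart T₀ ≠ 0. -/
theorem result
    {S : Scheme.{u}} [IsIntegral S] [CompactSpace S] [QuasiSeparatedSpace S]
    (Kb : Type u) [Field Kb] (ηb : Spec (CommRingCat.of Kb) ⟶ S) [IsDominant ηb] (f : Kb) :
    ∃ (S' : Scheme.{u}) (s : Spec (CommRingCat.of Kb) ⟶ S') (q : S' ⟶ S)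
      (F : S' ⟶ CohB1.ProjSpace 1 P1.R0.{u}),
      IsSchemeTheoreticallyDominant s ∧ IsProper q ∧ s ≫ q = ηb ∧
      s ≫ F = Spec.map (CommRingCat.ofHom (P1.chartMap 0 Kb f)) ≫
        Proj.awayι P1.grading (P1.T 0) (P1.X_mem 0) one_pos := by
  haveI : IsProper (CohB1.ProjSpace.toSpec 1 P1.R0.{u}) := PnCoh.Chow.isProper_toSpec 1 _
  set pt := Spec.map (CommRingCat.ofHom (P1.chartMap 0 Kb f)) ≫
    Proj.awayι P1.grading (P1.T 0) (P1.X_mem 0) one_pos with hpt
  let g : Spec (CommRingCat.of Kb) ⟶ pullback (CohB1.ProjSpace.toSpec 1 P1.R0.{u}) (specULiftZIsTerminal.from S) :=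
    pullback.lift pt ηb (specULiftZIsTerminal.hom_ext _ _)
  haveI : QuasiCompact g := by
    haveI : QuasiCompact (g ≫ pullback.snd _ _) := by rw [pullback.lift_snd]; infer_instance
    exact QuasiCompact.of_comp g (pullback.snd _ _)
  refine ⟨g.image, g.toImage, g.imageι ≫ pullback.snd _ _, g.imageι ≫ pullback.fst _ _, ?_,
    inferInstance, by simp [g], by simp [g]⟩
  exact Triage.SchDense.isSchemeTheoreticallyDominant_toImage g

end Groth.Agent.S14897
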