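import Groth.Statements.S14942
import Groth.Agent.AVFrob.Semisimple

set_option backward.isDefEq.respectTransparency false
set_option backward.isDefEq.respectTransparency.types false
set_option synthInstance.maxHeartbeats 400000
set_option maxHeartbeats 800000

set_option autoImplicit false
universe u
open CategoryTheory MonoidalCategory CartesianMonoidalCategory MonObj GrpObj AlgebraicGeometry
open AbVar

namespace Groth.Agent.S14942

/-- Part 1: let A be a simple abelian variety over a finite field k with q elements — a proper,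
geometrically integral commutative group scheme over k whose only abelian subvarieties over k
(geometrically integral closed subgroup schemes) are the trivial subgroup and A itself — with
q-Frobenius endomorphism π_A (the identity on points, the q-th power map on sections; a
homomorphism). Let Ω be an algebraic closure of k, l a prime invertible in k, and assume (as is the
case) that the l-adic Tate module of Ω-points T_l A is free of finite rank over ℤ_l. Then the
characteristic polynomial of T_l(π_A), which has rational coefficients, is a power of the minimal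
polynomial of π_A over ℚ: viewed over ℚ_l it equals h^n for some polynomial h with rational
coefficients irreducible over ℚ and some n. -/
theorem result (k Ω : Type u) [Field k] [Finite k] [Field Ω] [Algebra k Ω] [IsAlgClosure k Ω]
    (l : ℕ) [Fact l.Prime] (hl : (l : k) ≠ 0) (A : Over (Spec (CommRingCat.of k)))
    [GrpObj A] [IsCommMonObj A] [IsProper A.hom] [GeometricallyIntegral A.hom]
    (hsimple : ∀ (B : Over (Spec (CommRingCat.of k))) [GrpObj B] [GeometricallyIntegral B.hom] (i : B ⟶ A) [IsMonHom i]
      [IsClosedImmersion i.left], Subsingleton B.left ∨ IsIso i)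
    (πA : A ⟶ A) [IsMonHom πA] (hπAb : πA.left.base = 𝟙 _)
    (hπAle : ∀ U : A.left.Opens, U ≤ πA.left ⁻¹ᵁ U)
    (hπAapp : ∀ (U : A.left.Opens) (s : Γ(A.left, U)), (πA.left.appLE U U (hπAle U)).hom s = s ^ Nat.card k)
    [Module.Free ℤ_[l] (AbDual.TateMod A l (SGA7.pt Ω))] [Module.Finite ℤ_[l] (AbDual.TateMod A l (SGA7.pt Ω))] :
    ∃ (h : Polynomial ℚ) (n : ℕ), Irreducible h ∧
      ((AbDual.tateMapₗ (l := l) (T := SGA7.pt Ω) πA).charpoly).map (algebraMap ℤ_[l] ℚ_[l]) =
        (h.map (algebraMap ℚ ℚ_[l])) ^ n := by
  classical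
  haveI : IsAlgClosed Ω := IsAlgClosure.isAlgClosed k
  obtain ⟨g, P, -, hPm, hP, -⟩ := Groth.Agent.AVDegPoly.exists_charpoly_data (Ω := Ω) πA
  obtain ⟨h, hm, hh, -, -⟩ := Groth.Agent.AVFrob.exists_weil_poly_frob πA
    (Groth.Agent.AVFrob.isPowMap_frob πA hπAb hπAle hπAapp)
  obtain ⟨h', hm', hh', hirr⟩ := Groth.Agent.AVFrob.exists_irreducible_annihilator hsimple (EndAV.End.of πA) hm hh
  have hcp := (hP l hl).2
  have hdvd := Groth.Agent.AVFrob.charpoly_dvd_pow (SGA7.pt Ω) πA hPm hcp hh'
  have key : ∀ (u : Polynomial ℚ) (n : ℕ), P.map (Int.castRingHom ℚ) = u ^ n →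
      ((AbDual.tateMapₗ (l := l) (T := SGA7.pt Ω) πA).charpoly).map (algebraMap ℤ_[l] ℚ_[l]) =
        (u.map (algebraMap ℚ ℚ_[l])) ^ n := fun u n e => by
    rw [hcp, ← Polynomial.map_pow, ← e, Polynomial.map_map, Polynomial.map_map]
    exact congrArg P.map (RingHom.ext_int _ _)
  rcases hirr with h1 | hirr
  · rw [h1, Polynomial.map_one, one_pow] at hdvd
    have h0 : P.map (Int.castRingHom ℚ) = 1 := (hPm.map _).eq_one_of_isUnit (isUnit_of_dvd_one hdvd)
    exact ⟨Polynomial.X, 0, Polynomial.irreducible_X, key _ 0 (by rw [h0, pow_zero])⟩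
  · obtain ⟨i, -, hi⟩ := (dvd_prime_pow hirr.prime _).1 hdvd
    exact ⟨_, i, hirr, key _ i (Polynomial.eq_of_monic_of_associated (hPm.map _) ((hm'.map _).pow i) hi)⟩

end Groth.Agent.S14942
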