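import Groth.Statements.S14947
import Groth.Agent.AVDegPoly.FieldChar

set_option backward.isDefEq.respectTransparency false
set_option backward.isDefEq.respectTransparency.types false

set_option autoImplicit false
universe u
open CategoryTheory MonoidalCategory CartesianMonoidalCategory MonObj GrpObj AlgebraicGeometry
open AbVar

namespace Groth.Agent.S14947

/-- Degree as determinant: let A be an abelian variety over a finite field k (a proper, geometrically
integral commutative group scheme over k), Ω an algebraic closure of k, l a prime invertible in k,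
and f an endomorphism of A (a homomorphism); assume (as is the case) that the l-adic Tate module of
Ω-points T_l A is free of finite rank over ℤ_l. If f is finite (an isogeny), its degree — the rank
of the finite flat morphism f at any point of A — equals the determinant of T_l(f); if f is not
finite, the determinant of T_l(f) is 0 (the degree of a non-isogeny being 0 by convention). (The
published statement is the l-independence of the characteristic polynomial of Frobenius; this row
states the identity deg f = det T_l(f) that its proof establishes for every endomorphism.) -/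
theorem result (k Ω : Type u) [Field k] [Finite k] [Field Ω] [Algebra k Ω] [IsAlgClosure k Ω]
    (l : ℕ) [Fact l.Prime] (hl : (l : k) ≠ 0) (A : Over (Spec (CommRingCat.of k)))
    [GrpObj A] [IsCommMonObj A] [IsProper A.hom] [GeometricallyIntegral A.hom]
    (f : A ⟶ A) [IsMonHom f]
    [Module.Free ℤ_[l] (AbDual.TateMod A l (SGA7.pt Ω))] [Module.Finite ℤ_[l] (AbDual.TateMod A l (SGA7.pt Ω))] :
    (IsFinite f.left → ∀ a : A.left,
        ((Scheme.Hom.finrank f.left a : ℕ) : ℤ_[l]) = LinearMap.det (AbDual.tateMapₗ (l := l) (T := SGA7.pt Ω) f)) ∧
      (¬ IsFinite f.left → LinearMap.det (AbDual.tateMapₗ (l := l) (T := SGA7.pt Ω) f) = 0) := by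
  haveI : IsAlgClosed Ω := IsAlgClosure.isAlgClosed k
  classical
  obtain ⟨g, P, -, -, hP, hdeg⟩ := Groth.Agent.AVDegPoly.exists_charpoly_data (Ω := Ω) f
  obtain ⟨hr, hcp⟩ := hP l hl
  have hdet : LinearMap.det (AbDual.tateMapₗ (l := l) (T := SGA7.pt Ω) f) = ((P.eval 0 : ℤ) : ℤ_[l]) := by
    rw [LinearMap.det_eq_sign_charpoly_coeff, hcp, hr, pow_mul, neg_one_sq, one_pow, _root_.one_mul, Polynomial.coeff_map,
      eq_intCast, Polynomial.coeff_zero_eq_eval_zero]
  refine ⟨fun hf a => ?_, fun hf => ?_⟩
  · have h := hdeg.1 hf a
    rw [hdet, show P.eval 0 = ((Scheme.Hom.finrank f.left a : ℕ) : ℤ) by exact_mod_cast h.symm]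
    push_cast
    rfl
  · have h := hdeg.2 hf
    rw [hdet, show P.eval 0 = 0 by exact_mod_cast h, Int.cast_zero]

end Groth.Agent.S14947
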