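import Groth.Statements.S14982
import Groth.Agent.MiscTwoH99.FinOrbit.Stab
import Groth.Agent.MiscTwoH99.FinOrbit.Pts

set_option autoImplicit false
universe u
open CategoryTheory MonoidalCategory CartesianMonoidalCategory MonObj AlgebraicGeometry
open CoactBr

namespace Groth.Agent.S14982

/-- Let `R` be a commutative ring, `A` a commutative Hopf algebra over `R` which is finite locally free
as an `R`-module (`G = Spec A` a finite flat group scheme over `S = Spec R`), `B` a commutative
`R`-algebra with a coaction of `A` that is an algebra map (an action of `G` on `X = Spec B`), `C =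
B^A` the ring of invariants and `π : X → Y = Spec C` the quotient map. Let `K` be a field over `R`,
`x : B → K` an `R`-algebra map (a point of `X`) and `y` the image in `Y` of the point underlying
`x`. Then the inertia group scheme at `x` is trivial (for every scheme `T` over `Spec K`, every
`T`-point of `G` fixing the point of `X` induced by `x` is the unit) if and only if there is a flat
morphism locally of finite presentation `Y' → Y` whose image contains `y` and over which the action
becomes free: for every scheme `T` over `S` and every `T`-point `ζ` of `X` whose composite with `π`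
lifts to `Y'`, every `T`-point of `G` fixing `ζ` is the unit (this is freeness of the base-changed
action of `G ×_S Y'` on `X ×_Y Y'`, written through points of `G` and `X`). (`G` finite flat is read
as finite locally free. The published result also says that `X ×_Y Y'` is then a torsor under
`G_{Y'}` and gives a third equivalent condition, that after a further fppf base change the action is
induced from an action of the trivial group; neither is stated here.) -/
theorem result
    (R A B K : Type u) [CommRing R] [CommRing A] [HopfAlgebra R A]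
    [Module.Flat R A] [Module.Finite R A] [Module.Projective R A]
    [CommRing B] [Algebra R B] [HopfRep.Comod R A B] [GLin.IsCoactAlg R A B]
    [Field K] [Algebra R K] (x : B →ₐ[R] K) :
    (∀ (T : Over (Spec (CommRingCat.of R))) (h : T ⟶ CoactBr.sp R K) (g : T ⟶ CoactBr.sp R A),
        lift g (h ≫ CoactBr.pt x) ≫ (CoactBr.action R A B).act = h ≫ CoactBr.pt x → g = 1) ↔
      ∃ (Y' : Scheme.{u}) (c : Y' ⟶ Spec (CommRingCat.of (GLin.invariants R A B))),
        Flat c ∧ LocallyOfFinitePresentation c ∧
        (∃ y' : Y', c.base y' =
          (Spec.map (CommRingCat.ofHom (x.toRingHom.comp (GLin.invariants R A B).val.toRingHom))).base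
            (IsLocalRing.closedPoint K)) ∧
        ∀ (T : Over (Spec (CommRingCat.of R))) (ζ : T ⟶ CoactBr.sp R B),
          (∃ t : T.left ⟶ Y', t ≫ c = ζ.left ≫ Spec.map (CommRingCat.ofHom (GLin.invariants R A B).val.toRingHom)) →
          ∀ g : T ⟶ CoactBr.sp R A, lift g ζ ≫ (CoactBr.action R A B).act = ζ → g = 1 := by
  open Groth.Agent.MiscTwoH99.FinOrbit in
  let C := GLin.invariants R A B
  let p : Ideal C := RingHom.ker (x.comp C.val)
  haveI : p.IsPrime := RingHom.ker_isPrime _
  rw [triv_iff]
  constructor
  · intro hx
    obtain ⟨𝔞, h1, h2⟩ := exists_ann R A B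
    obtain ⟨c, hc, hcp⟩ : ∃ c : C, C.val c ∈ 𝔞 ∧ c ∉ p := by
      by_contra hcon
      push Not at hcon
      obtain ⟨P, hP, hle', hPp⟩ := exists_prime_of_disjoint (𝔞 := 𝔞) (p := p) hcon
      haveI := hP
      refine h1 P (Triv.of_ker_eq ?_ hx) hle'
      ext c
      show c ∈ p ↔ algebraMap B P.ResidueField (C.val c) = 0
      rw [Ideal.algebraMap_residueField_eq_zero, ← hPp]
      rfl
    let c' : Spec (CommRingCat.of (Localization.Away c)) ⟶ Spec (CommRingCat.of C) :=
      Spec.map (CommRingCat.ofHom (algebraMap C (Localization.Away c)))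
    refine ⟨Spec (CommRingCat.of (Localization.Away c)), c', inferInstance, inferInstance, ?_, ?_⟩
    · let y : PrimeSpectrum C :=
        (Spec.map (CommRingCat.ofHom (x.toRingHom.comp C.val.toRingHom))).base (IsLocalRing.closedPoint K)
      have hy : y ∈ PrimeSpectrum.basicOpen c := fun h0 => hcp (by
        show x (C.val c) = 0
        by_contra hne
        exact (IsLocalRing.mem_maximalIdeal _).mp h0 (isUnit_iff_ne_zero.mpr hne))
      rw [← SetLike.mem_coe, ← PrimeSpectrum.localization_away_comap_range (Localization.Away c) c] at hy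
      exact hy
    · intro T ζ ⟨t, ht⟩ g hg
      obtain ⟨L, _, _, η₀, hη⟩ := exists_aff T
      obtain ⟨y, rfl⟩ := (hη B).2 ζ
      refine forall_pts y η₀ (hη B).1 (hη A).2 (fun g' hg' => h2 L y g' _ hc ?_ hg') g hg
      let tt : T ⟶ CoactBr.sp R (Localization.Away c) := Over.homMk t (by
        let f' : T.left ⟶ Spec (CommRingCat.of B) := (η₀ ≫ CoactBr.pt y).left
        have h4 : f' ≫ Spec.map (CommRingCat.ofHom (algebraMap R B)) = T.hom := Over.w (η₀ ≫ CoactBr.pt y)
        have ht' : t ≫ Spec.map (CommRingCat.ofHom (algebraMap C (Localization.Away c))) =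
            f' ≫ Spec.map (CommRingCat.ofHom C.val.toRingHom) := ht
        show t ≫ Spec.map (CommRingCat.ofHom (algebraMap R (Localization.Away c))) = T.hom
        rw [IsScalarTower.algebraMap_eq R C (Localization.Away c), CommRingCat.ofHom_comp, Spec.map_comp,
          ← Category.assoc, ht', Category.assoc, ← Spec.map_comp, ← CommRingCat.ofHom_comp]
        exact h4)
      obtain ⟨τ, hτ⟩ := (hη (Localization.Away c)).2 tt
      have h5 : y.comp C.val = τ.comp (IsScalarTower.toAlgHom R C (Localization.Away c)) := by
        refine (hη C).1 (Over.OverMorphism.ext ?_)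
        show (η₀ ≫ CoactBr.pt _).left = (η₀ ≫ CoactBr.pt _).left
        rw [CoactBr.pt_comp, CoactBr.pt_comp, ← Category.assoc, ← Category.assoc,
          show η₀ ≫ CoactBr.pt τ = tt from hτ]
        exact ht.symm
      show IsUnit ((y.comp C.val) c)
      rw [h5]
      exact (IsLocalization.Away.algebraMap_isUnit c).map τ
  · rintro ⟨Y', c, -, -, ⟨y', hy'⟩, hfree⟩ L _ _ l g hg
    let φ : CommRingCat.of C ⟶ Y'.residueField y' := Spec.preimage (Y'.fromSpecResidueField y' ≫ c)
    letI : Algebra R (Y'.residueField y') := (φ.hom.comp (algebraMap R C)).toAlgebra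
    let f₂ : C →ₐ[R] Y'.residueField y' := { φ.hom with commutes' := fun r => rfl }
    have hker : RingHom.ker (x.comp C.val) = RingHom.ker f₂ := by
      have h0 : (Spec.map φ).base (IsLocalRing.closedPoint (Y'.residueField y')) =
          (Spec.map (CommRingCat.ofHom (x.toRingHom.comp C.val.toRingHom))).base (IsLocalRing.closedPoint K) := by
        rw [← hy', Spec.map_preimage, Scheme.Hom.comp_apply, Scheme.fromSpecResidueField_apply]
      have h1 := congrArg PrimeSpectrum.asIdeal h0
      refine Ideal.ext fun a => ?_
      have h2 := SetLike.ext_iff.mp h1 a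
      change φ.hom a ∈ IsLocalRing.maximalIdeal _ ↔ x (C.val a) ∈ IsLocalRing.maximalIdeal K at h2
      rw [IsLocalRing.maximalIdeal_eq_bot, IsLocalRing.maximalIdeal_eq_bot] at h2
      exact h2.symm
    obtain ⟨Ω, _, _, _, j₁, j₂, hj⟩ := exists_compositum (x.comp C.val) f₂ hker
    obtain ⟨L'', _, _, i, k, hi, hik⟩ := exists_extension j₁ l
    let X : B →ₐ[R] L'' := i.comp (l.comp x)
    have hX : X.comp C.val = (k.comp j₂).comp f₂ := by
      show (i.comp (l.comp x)).comp C.val = _
      rw [← AlgHom.comp_assoc i, hik, AlgHom.comp_assoc, AlgHom.comp_assoc, AlgHom.comp_assoc, hj]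
    have hG : act X (i.comp g) = X := by
      show act (i.comp (l.comp x)) (i.comp g) = i.comp (l.comp x)
      rw [← comp_act, hg]
    have h6 := hfree (CoactBr.sp R L'') (CoactBr.pt X)
      ⟨Spec.map (CommRingCat.ofHom (k.comp j₂).toRingHom) ≫ Y'.fromSpecResidueField y', by
        have h8 : Spec.map (CommRingCat.ofHom (k.comp j₂).toRingHom) ≫ Spec.map φ =
            Spec.map (CommRingCat.ofHom X.toRingHom) ≫ Spec.map (CommRingCat.ofHom C.val.toRingHom) := by
          rw [← Spec.map_comp, ← Spec.map_comp]
          exact congrArg (fun w : C →ₐ[R] L'' => Spec.map (CommRingCat.ofHom w.toRingHom)) hX.symm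
        refine Eq.trans ?_ h8
        rw [Category.assoc, Spec.map_preimage]
        rfl⟩
      (CoactBr.pt (i.comp g))⁻¹ (by rw [action_pt, hG])
    have h7 : i.comp g = eps R A L'' := CoactBr.pt_injective ((inv_eq_one.mp h6).trans CoactBr.one_eq_pt)
    refine AlgHom.ext fun a => hi ?_
    show i.comp g a = i.comp (eps R A L) a
    rw [h7, comp_eps]

end Groth.Agent.S14982
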