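import Groth.Statements.S14990
import Groth.Agent.VarBertini31.Jets
import Groth.Agent.VarBertini31.Stalk
import Groth.Agent.Lib.CurveDualPrep
-- import your own Groth.Agent.* helpers here

set_option autoImplicit false
universe u
open CategoryTheory CategoryTheory.Limits AlgebraicGeometry
open Variety

namespace Groth.Agent.S14990

/-- Let k be an algebraically closed field, Y a scheme smooth and of finite type over k, L an invertible
O_Y-module, s_1, …, s_m global sections of L (morphisms O_Y ⟶ L) such that at every closed point p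
the span of the s_i maps onto L_p/m_p^2 L_p, and f a further global section of L. Then the zero
scheme of f + Σ c_i s_i is smooth over k for all c outside the zero set of some nonzero polynomial
in m variables. (The published hypothesis is stated at every point of Y; it can only hold at closed
points, which is where the argument uses it, so this row asks it at closed points.) -/
theorem result (k : Type u) [Field k] [IsAlgClosed k]
    (Y : Scheme.{u}) [Y.Over (Spec (CommRingCat.of k))] [Smooth (Y ↘ Spec (CommRingCat.of k))]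
    [QuasiCompact (Y ↘ Spec (CommRingCat.of k))]
    (L : Y.Modules) (hL : FlatMod.IsFinLocFreeOfRank 1 L) (m : ℕ)
    (s : Fin m → (Coh.structureModule Y ⟶ L)) (f : Coh.structureModule Y ⟶ L)
    (hjet : ∀ p : Y, IsClosed ({p} : Set Y) → ∀ l : ↥(L.presheaf.stalk p), ∃ c : Fin m → k,
      (L.presheaf.germ ⊤ p trivial)
          (PicF2.secVal L (∑ i : Fin m, Formal.smulMod k (Coh.structureModule Y) (c i) ≫ s i) ⊤) - l ∈
        (IsLocalRing.maximalIdeal ↥(Y.presheaf.stalk p)) ^ 2 •
          (⊤ : Submodule ↥(Y.presheaf.stalk p) ↥(L.presheaf.stalk p))) :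
    ∃ q : MvPolynomial (Fin m) k, q ≠ 0 ∧ ∀ c : Fin m → k, MvPolynomial.eval c q ≠ 0 →
      Smooth ((PicF2.zeroScheme L (f + ∑ i : Fin m, Formal.smulMod k (Coh.structureModule Y) (c i) ≫ s i)).subschemeι ≫
        (Y ↘ Spec (CommRingCat.of k))) := by
  classical
  open Groth.Agent Groth.Agent.VarBertini31 Groth.Agent.SmoothReg in
  let g := Y ↘ Spec (CommRingCat.of k)
  have hinv : PicF.IsInvertible L := CurveDuality.isInvertible_of_rank_one hL
  obtain ⟨T, ch, hcov⟩ := exists_charts g hinv
  have hloc : ∀ x : Y, ∃ q : MvPolynomial (Fin m) k, q ≠ 0 ∧ ∀ c : Fin m → k, MvPolynomial.eval c q ≠ 0 →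
      ∃ h : Γ(Y, (ch x).V),
        ZeroSchX.sv (f + ∑ i : Fin m, Formal.smulMod k (Coh.structureModule Y) (c i) ≫ s i) (ch x).V =
          h • (ch x).e ∧
        letI := (affMap g (ch x).V).toAlgebra
        Algebra.Smooth k (Γ(Y, (ch x).V) ⧸ Ideal.span {h}) := by
    intro x
    set V := (ch x).V with hV_def
    letI := (affMap g V).toAlgebra
    have hV := (ch x).isAffine
    haveI : Algebra.IsStandardSmooth k Γ(Y, V) := (ch x).std
    have hcoord : ∀ σ : Coh.structureModule Y ⟶ L, ∃ a : Γ(Y, V), ZeroSchX.sv σ V = a • (ch x).e := by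
      intro σ
      obtain ⟨a, ha⟩ := (ch x).frame.exists_coord le_rfl (ZeroSchX.sv σ V)
      exact ⟨a, ha.trans (congrArg _ (AModX.res_self _))⟩
    choose co hco using hcoord
    have hsum : ∀ c : Fin m → k,
        ZeroSchX.sv (∑ i : Fin m, Formal.smulMod k (Coh.structureModule Y) (c i) ≫ s i) V =
          (∑ i, algebraMap k Γ(Y, V) (c i) * co (s i)) • (ch x).e := by
      intro c
      rw [sv_sum, Finset.sum_smul]
      refine Finset.sum_congr rfl fun i _ => ?_
      rw [hco, smul_smul]
      rfl
    obtain ⟨q, hq, hsm⟩ := exists_good_jets (k := k) (fun i => co (s i)) (co f) (fun v hv b => by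
      obtain ⟨p, hp, hpc, hpv⟩ := exists_closed_point g hV v
      obtain ⟨c, hc⟩ := hjet p hpc (L.presheaf.germ V p hp (b • (ch x).e))
      refine ⟨c, ?_⟩
      haveI : (hV.primeIdealOf ⟨p, hp⟩).asIdeal.IsMaximal := by rw [hpv]; exact hv
      rw [← hpv]
      refine mem_sq_of_germ hV (ch x).frame hp _ ?_
      rw [sub_smul, map_sub, ← hsum c]
      rw [← ZeroSchX.res_sv _ (le_top : V ≤ ⊤), TopCat.Presheaf.germ_res_apply]
      exact hc)
    refine ⟨q, hq, fun c hc => ⟨co f + ∑ i, algebraMap k Γ(Y, V) (c i) * co (s i), ?_, hsm c hc⟩⟩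
    rw [add_smul, ← hsum c, ← hco f]
    exact map_add (svHom V) _ _
  choose q hq hsm using hloc
  refine ⟨∏ x ∈ T, q x, Finset.prod_ne_zero_iff.2 fun x _ => hq x, fun c hc => ?_⟩
  rw [map_prod, Finset.prod_ne_zero_iff] at hc
  choose h hh hh' using fun x : T => hsm x.1 c (hc x.1 x.2)
  exact smooth_zeroScheme g hinv _ (fun x : T => ch x.1)
    (fun y => let ⟨x, hx, hy⟩ := hcov y; ⟨⟨x, hx⟩, hy⟩) h hh hh'


end Groth.Agent.S14990
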