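import Groth.Statements.S14998
import Groth.Agent.AlgSpVal.DvrThrough
import Groth.Agent.Proj16.DVRCrit
import Groth.Agent.GrpdField29.ClosureSub
-- import your own Groth.Agent.* helpers here

set_option autoImplicit false
set_option linter.style.haveILetI false
set_option backward.isDefEq.respectTransparency false
set_option backward.isDefEq.respectTransparency.types false
universe u
open CategoryTheory CategoryTheory.Limits AlgebraicGeometry
open AlgGrp

namespace Groth.Agent.S14998

open Groth.Agent CategoryTheory.Limits

open CategoryTheory.Limits in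
/-- Lifting of discrete valuation rings up to translation. -/
theorem exists_lift {k : Type u} [Field k] {G R S T : Over (Spec (CommRingCat.of k))} [GrpObj G]
    {a : AlgGrp.Action G R} {f : R ⟶ S} {q : S ⟶ T} (hf : W4c2lssmoduli.IsInvariantMor a f)
    (hp : W4c2lssmoduli.IsGUnivClosed a (f ≫ q)) (A : Type u) [CommRing A] [IsDomain A] [IsDiscreteValuationRing A]
    (x : Spec (CommRingCat.of (FractionRing A)) ⟶ R.left) (y : Spec (CommRingCat.of A) ⟶ T.left)
    (w : x ≫ f.left ≫ q.left = Spec.map (CommRingCat.ofHom (algebraMap A (FractionRing A))) ≫ y) :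
    ∃ i : Spec (CommRingCat.of A) ⟶ R.left, i ≫ f.left ≫ q.left = y ∧
      Spec.map (CommRingCat.ofHom (algebraMap A (FractionRing A))) ≫ i ≫ f.left = x ≫ f.left := by
  let g : Over.mk (Spec.map (CommRingCat.ofHom (algebraMap A (FractionRing A))) ≫ y ≫ T.hom) ⟶ R :=
    Over.homMk x (by
      show x ≫ R.hom = _
      rw [← Over.w (f ≫ q), Over.comp_left, ← Category.assoc, w, Category.assoc]
      rfl)
  obtain ⟨i, γ, h1, h2⟩ := hp.2 A (FractionRing A) (y ≫ T.hom) g (Over.homMk y rfl) (Over.OverMorphism.ext w)
  refine ⟨i.left, congrArg CommaMorphism.left h1, ?_⟩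
  have h3 : (Over.homMk (Spec.map (CommRingCat.ofHom (algebraMap A (FractionRing A)))) rfl ≫ i) ≫ f = g ≫ f := by
    rw [h2, Category.assoc, hf]
    exact CartesianMonoidalCategory.lift_snd_assoc γ g f
  exact (Category.assoc _ _ _).symm.trans (congrArg CommaMorphism.left h3)


/-- Let k be a field and G a group scheme over k (a group object of schemes over Spec k) acting on a
k-scheme R of finite type. Let f : R → S and q : S → T be morphisms of k-schemes of finite type such
that q is separated, f is invariant under the action, and the composite p = q ∘ f is G-universally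
closed: p is invariant and for every discrete valuation ring A over k with fraction field K, every
K-point of R and A-point of T over k forming a commutative square with p admit an A-point of R over
T restricting on Spec K to a translate of the given K-point by a K-point of G. Then the
set-theoretic image f(R) is closed in S, and the reduced closed subscheme of S with underlying set
f(R) is proper over T. (The published statement fixes a connected algebraic group over the complex
numbers; this row allows any group scheme over any field, which is what the printed argument uses.) -/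
theorem result (k : Type u) [Field k]
    (G R S T : Over (Spec (CommRingCat.of k))) [GrpObj G]
    [LocallyOfFiniteType R.hom] [CompactSpace ↥R.left] [LocallyOfFiniteType S.hom] [CompactSpace ↥S.left]
    [LocallyOfFiniteType T.hom] [CompactSpace ↥T.left]
    (a : AlgGrp.Action G R) (f : R ⟶ S) (q : S ⟶ T) [IsSeparated q.left]
    (hf : W4c2lssmoduli.IsInvariantMor a f) (hp : W4c2lssmoduli.IsGUnivClosed a (f ≫ q)) :
    IsClosed (Set.range f.left.base) ∧
      IsProper ((Scheme.IdealSheafData.vanishingIdeal
          (⟨closure (Set.range f.left.base), isClosed_closure⟩ : TopologicalSpace.Closeds ↥S.left)).subschemeι ≫ q.left) := by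
  haveI : LocallyOfFiniteType f.left := by
    haveI : LocallyOfFiniteType (f.left ≫ S.hom) := by rw [Over.w]; infer_instance
    exact locallyOfFiniteType_of_comp f.left S.hom
  haveI : LocallyOfFiniteType q.left := by
    haveI : LocallyOfFiniteType (q.left ≫ T.hom) := by rw [Over.w]; infer_instance
    exact locallyOfFiniteType_of_comp q.left T.hom
  haveI := LocallyOfFiniteType.isLocallyNoetherian S.hom
  haveI := LocallyOfFiniteType.isLocallyNoetherian T.hom
  haveI : QuasiCompact f.left := inferInstance
  haveI : QuasiCompact q.left := inferInstance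
  have hstab : ∀ (r : R.left) (s : S.left), f.left r ⤳ s → s ∈ Set.range f.left.base := by
    intro r s hrs
    obtain ⟨A, _, _, _, y, x, hy, -, hxy⟩ := Groth.Agent.AlgSpVal.exists_dvr_path_field f.left r s hrs
    obtain ⟨i, h1, h2⟩ := exists_lift hf hp A x (y ≫ q.left) (by rw [← Category.assoc, hxy, Category.assoc])
    have h3 : i ≫ f.left = y := Proj16.dvrUniqueness_of_isSeparated q.left A _ _
      (by rw [Category.assoc, h1]) (h2.trans hxy)
    exact ⟨i (IsLocalRing.closedPoint A), by
      rw [← hy, ← h3]
      rfl⟩
  have hclosed : IsClosed (Set.range f.left.base) := by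
    rw [← closure_eq_iff_isClosed]
    refine subset_antisymm (fun v hv => ?_) subset_closure
    obtain ⟨V, hV, hvV, -⟩ := exists_isAffineOpen_mem_and_subset (show v ∈ (⊤ : S.left.Opens) from trivial)
    haveI : IsAffine V.toScheme := hV
    haveI : CompactSpace (f.left ⁻¹ᵁ V).toScheme :=
      isCompact_iff_compactSpace.1 (f.left.isCompact_preimage (hU := hV.isCompact))
    have hv' : (⟨v, hvV⟩ : V.toScheme) ∈ closure (Set.range (f.left ∣_ V)) := by
      have h0 : (⟨v, hvV⟩ : V) ∈ closure (Subtype.val ⁻¹' Set.range f.left.base) := by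
        exact (Set.ext_iff.mp (V.2.isOpenMap_subtype_val.preimage_closure_eq_closure_preimage continuous_subtype_val
          (Set.range f.left.base)) ⟨v, hvV⟩).mp hv
      refine closure_mono (fun z hz => ?_) h0
      obtain ⟨r, hr⟩ := hz
      have hrV : f.left r ∈ (V : Set S.left) := by rw [show f.left r = z.1 from hr]; exact z.2
      exact ⟨⟨r, hrV⟩, Subtype.ext ((morphismRestrict_base_coe f.left V _).trans hr)⟩
    obtain ⟨r, hr⟩ := Groth.Agent.AlgSpVal.exists_specializes_of_mem_closure_range (f.left ∣_ V) hv'
    exact hstab r.1 v (morphismRestrict_base_coe f.left V r ▸ hr.map continuous_subtype_val)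
  refine ⟨hclosed, ?_⟩
  let I := Scheme.IdealSheafData.vanishingIdeal
    (⟨closure (Set.range f.left.base), isClosed_closure⟩ : TopologicalSpace.Closeds S.left)
  let ι : I.subscheme ⟶ S.left := I.subschemeι
  show IsProper (ι ≫ q.left)
  have hι : Set.range ι = Set.range f.left.base := by
    rw [Scheme.IdealSheafData.range_subschemeι, Scheme.IdealSheafData.coe_support_vanishingIdeal]
    exact hclosed.closure_eq
  haveI : IsClosedImmersion ι := inferInstanceAs (IsClosedImmersion I.subschemeι)
  haveI : IsLocallyNoetherian I.subscheme := LocallyOfFiniteType.isLocallyNoetherian ι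
  haveI : UniversallyClosed (ι ≫ q.left) := by
    refine Proj16.universallyClosed_of_affineSpace _ fun n => ?_
    let b := (𝔸(ULift.{u} (Fin n); T.left)) ↘ T.left
    haveI : IsLocallyNoetherian 𝔸(ULift.{u} (Fin n); T.left) := LocallyOfFiniteType.isLocallyNoetherian b
    refine (isClosedMap_iff_specializingMap _).mpr fun z w hzw => ?_
    obtain ⟨r, hr⟩ : ι (pullback.fst (ι ≫ q.left) b z) ∈ Set.range f.left.base := by
      rw [← hι]; exact ⟨_, rfl⟩
    let R₀ := (Scheme.IdealSheafData.vanishingIdeal (⊤ : TopologicalSpace.Closeds R.left)).subscheme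
    let ρ : R₀ ⟶ R.left := (Scheme.IdealSheafData.vanishingIdeal (⊤ : TopologicalSpace.Closeds R.left)).subschemeι
    haveI : IsReduced R₀ := H23.RedSub.isReduced_vanishingIdeal _
    haveI : IsClosedImmersion ρ := inferInstanceAs (IsClosedImmersion (Scheme.IdealSheafData.subschemeι _))
    obtain ⟨f₀, hf₀⟩ := GrpdField29.exists_lift_of_reduced (ρ ≫ f.left) ι (fun t => by rw [hι]; exact ⟨ρ t, rfl⟩)
    obtain ⟨r₀, hr₀⟩ : r ∈ Set.range ρ := by
      rw [Scheme.IdealSheafData.range_subschemeι, Scheme.IdealSheafData.coe_support_vanishingIdeal]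
      trivial
    have hfr : f₀ r₀ = pullback.fst (ι ≫ q.left) b z := ι.isClosedEmbedding.injective (by
      rw [← Scheme.Hom.comp_apply, hf₀, Scheme.Hom.comp_apply, hr₀]; exact hr)
    obtain ⟨z', hz'f, hz'z⟩ := Scheme.Pullback.exists_preimage_pullback (f := f₀) (g := pullback.fst (ι ≫ q.left) b) r₀ z hfr
    haveI : LocallyOfFiniteType f₀ := by
      haveI : LocallyOfFiniteType (f₀ ≫ ι) := by rw [hf₀]; infer_instance
      exact locallyOfFiniteType_of_comp f₀ ι
    obtain ⟨A, _, _, _, y, x, hy, hx, hxy⟩ := Groth.Agent.AlgSpVal.exists_dvr_path_field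
      (pullback.snd f₀ (pullback.fst (ι ≫ q.left) b) ≫ pullback.snd (ι ≫ q.left) b) z' w
      (by rw [Scheme.Hom.comp_apply, hz'z]; exact hzw)
    let j := Spec.map (CommRingCat.ofHom (algebraMap A (FractionRing A)))
    have hxy' : x ≫ pullback.snd f₀ _ ≫ pullback.snd (ι ≫ q.left) b = j ≫ y := hxy
    let x₀ := x ≫ pullback.fst f₀ (pullback.fst (ι ≫ q.left) b)
    have hx₁ : x₀ ≫ ρ ≫ f.left = x ≫ pullback.snd f₀ _ ≫ pullback.fst (ι ≫ q.left) b ≫ ι := by
      rw [← hf₀]
      simp only [x₀, Category.assoc, pullback.condition_assoc]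
    obtain ⟨i, h1, h2⟩ := exists_lift hf hp A (x₀ ≫ ρ) (y ≫ b) (by
      show (x₀ ≫ ρ) ≫ f.left ≫ q.left = j ≫ y ≫ b
      rw [Category.assoc, reassoc_of% hx₁, pullback.condition, reassoc_of% hxy'])
    obtain ⟨iz, hiz⟩ := GrpdField29.exists_lift_of_reduced (i ≫ f.left) ι (fun t => by rw [hι]; exact ⟨i t, rfl⟩)
    let m : Spec (CommRingCat.of A) ⟶ pullback (ι ≫ q.left) b := pullback.lift iz y (by rw [reassoc_of% hiz, h1])
    have hgen : j ≫ m = x ≫ pullback.snd f₀ _ := by
      apply pullback.hom_ext
      · rw [← cancel_mono ι]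
        simp only [m, Category.assoc, pullback.lift_fst_assoc, hiz]
        rw [← hx₁, h2, Category.assoc]
      · simp only [m, Category.assoc, pullback.lift_snd]
        exact hxy'.symm
    refine ⟨m (IsLocalRing.closedPoint A), ?_, ?_⟩
    · have hsp : (j (IsLocalRing.closedPoint (FractionRing A)) : Spec (CommRingCat.of A)) ⤳ IsLocalRing.closedPoint A :=
        IsLocalRing.specializes_closedPoint _
      have := hsp.map m.continuous
      rw [← Scheme.Hom.comp_apply, hgen, Scheme.Hom.comp_apply, hx, hz'z] at this
      exact this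
    · show pullback.snd (ι ≫ q.left) b (m _) = w
      rw [← Scheme.Hom.comp_apply, pullback.lift_snd, hy]
  exact { }

end Groth.Agent.S14998
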