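import Groth.Statements.S14999
import Groth.Agent.S14998
import Groth.Agent.NagataLib.IntClosure
import Groth.Agent.NagataLib.Field
-- import your own Groth.Agent.* helpers here

set_option autoImplicit false
universe u
open CategoryTheory CategoryTheory.Limits AlgebraicGeometry
open AlgGrp

set_option backward.isDefEq.respectTransparency false
set_option backward.isDefEq.respectTransparency.types false
set_option linter.style.haveILetI false

namespace Groth.Agent.S14999

/-- An invariant function is integral over the base of a G-universally closed map. -/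
theorem isIntegralElem_of_invariant {k : Type u} [Field k] {G Y : Over (Spec (CommRingCat.of k))} [GrpObj G]
    [LocallyOfFiniteType Y.hom] [CompactSpace ↥Y.left] [IsReduced Y.left]
    {A : Type u} [CommRing A] [Algebra k A] [Algebra.FiniteType k A]
    {a : AlgGrp.Action G Y} {p : Y ⟶ Over.mk (Spec.map (CommRingCat.ofHom (algebraMap k A)))}
    (hp : W4c2lssmoduli.IsGUnivClosed a p) (s : Γ(Y.left, ⊤))
    (hs : a.act.left.appTop s = (CartesianMonoidalCategory.snd G Y).left.appTop s) :
    ((Scheme.ΓSpecIso (CommRingCat.of A)).inv ≫ p.left.appTop).hom.IsIntegralElem s := by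
  let ψ : A →+* Γ(Y.left, ⊤) := ((Scheme.ΓSpecIso (CommRingCat.of A)).inv ≫ p.left.appTop).hom
  let φ : Polynomial A →+* Γ(Y.left, ⊤) := Polynomial.eval₂RingHom ψ s
  let Tb : Over (Spec (CommRingCat.of k)) := Over.mk (Spec.map (CommRingCat.ofHom (algebraMap k A)))
  let S : Over (Spec (CommRingCat.of k)) := Over.mk (Spec.map (CommRingCat.ofHom (algebraMap k (Polynomial A))))
  have hq : Spec.map (CommRingCat.ofHom (Polynomial.C : A →+* Polynomial A)) ≫ Tb.hom = S.hom := by
    show _ ≫ Spec.map _ = Spec.map _
    rw [← Spec.map_comp]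
    rfl
  let q : S ⟶ Tb := Over.homMk (Spec.map (CommRingCat.ofHom (Polynomial.C : A →+* Polynomial A))) hq
  have hfq : (Y.left.toSpecΓ ≫ Spec.map (CommRingCat.ofHom φ)) ≫ q.left = p.left := by
    refine ext_to_Spec ?_
    show (Scheme.ΓSpecIso (CommRingCat.of A)).inv ≫ ((Y.left.toSpecΓ ≫ Spec.map (CommRingCat.ofHom φ)) ≫
      Spec.map (CommRingCat.ofHom (Polynomial.C : A →+* Polynomial A))).appTop = _
    rw [Category.assoc, ← Spec.map_comp]
    simp only [Scheme.Hom.comp_appTop, ← Category.assoc, ← Scheme.ΓSpecIso_inv_naturality]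
    simp only [Category.assoc, Scheme.toSpecΓ_appTop, Iso.inv_hom_id, Category.comp_id]
    ext x
    exact Polynomial.eval₂_C ψ s
  let f : Y ⟶ S := Over.homMk (Y.left.toSpecΓ ≫ Spec.map (CommRingCat.ofHom φ)) (by
    rw [← hq]
    exact ((Category.assoc _ _ _).symm.trans (congrArg (· ≫ Tb.hom) hfq)).trans (Over.w p))
  have hfq' : f ≫ q = p := Over.OverMorphism.ext hfq
  have hf : W4c2lssmoduli.IsInvariantMor a f := by
    refine Over.OverMorphism.ext ?_
    show a.act.left ≫ Y.left.toSpecΓ ≫ Spec.map (CommRingCat.ofHom φ) =
      (CartesianMonoidalCategory.snd G Y).left ≫ Y.left.toSpecΓ ≫ Spec.map (CommRingCat.ofHom φ)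
    rw [Scheme.toSpecΓ_naturality_assoc, Scheme.toSpecΓ_naturality_assoc, ← Spec.map_comp, ← Spec.map_comp]
    congr 2
    refine CommRingCat.hom_ext (Polynomial.ringHom_ext (fun x => ?_) ?_)
    · show a.act.left.appTop (φ (Polynomial.C x)) = (CartesianMonoidalCategory.snd G Y).left.appTop (φ (Polynomial.C x))
      simp only [φ, Polynomial.coe_eval₂RingHom, Polynomial.eval₂_C]
      have h := congrArg (fun g : CategoryTheory.MonoidalCategoryStruct.tensorObj G Y ⟶ _ => g.left.appTop) hp.1
      simp only [Over.comp_left, Scheme.Hom.comp_appTop] at h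
      exact congrArg (fun g => g.hom ((Scheme.ΓSpecIso (CommRingCat.of A)).inv x)) h
    · show a.act.left.appTop (φ Polynomial.X) = (CartesianMonoidalCategory.snd G Y).left.appTop (φ Polynomial.X)
      simp only [φ, Polynomial.coe_eval₂RingHom, Polynomial.eval₂_X]
      exact hs
  haveI : LocallyOfFiniteType S.hom := by
    refine (HasRingHomProperty.Spec_iff (P := @LocallyOfFiniteType)).mpr ?_
    exact RingHom.finiteType_algebraMap.mpr inferInstance
  haveI : LocallyOfFiniteType Tb.hom := by
    refine (HasRingHomProperty.Spec_iff (P := @LocallyOfFiniteType)).mpr ?_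
    exact RingHom.finiteType_algebraMap.mpr inferInstance
  haveI : IsAffine S.left := inferInstanceAs (IsAffine (Spec _))
  haveI : IsAffine Tb.left := inferInstanceAs (IsAffine (Spec _))
  haveI : IsSeparated q.left := inferInstanceAs (IsSeparated (Spec.map _))
  obtain ⟨hc, hprop⟩ := S14998.result k G Y S Tb a f q hf (hfq' ▸ hp)
  let I := Scheme.IdealSheafData.vanishingIdeal
    (⟨closure (Set.range f.left.base), isClosed_closure⟩ : TopologicalSpace.Closeds S.left)
  haveI : IsProper (I.subschemeι ≫ q.left) := hprop
  haveI : IsFinite (I.subschemeι ≫ q.left) :=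
    IsFinite.iff_isProper_and_isAffineHom.mpr ⟨inferInstance, inferInstance⟩
  have hfin : (I.subschemeι ≫ q.left).appTop.hom.Finite :=
    IsFinite.finite_app (I.subschemeι ≫ q.left) ⊤ (isAffineOpen_top Tb.left)
  obtain ⟨f₀, hf₀⟩ := GrpdField29.exists_lift_of_reduced f.left I.subschemeι (fun y => by
    rw [Scheme.IdealSheafData.range_subschemeι, Scheme.IdealSheafData.coe_support_vanishingIdeal]
    exact subset_closure ⟨y, rfl⟩)
  let x₀ : Γ(I.subscheme, ⊤) := I.subschemeι.appTop ((Scheme.ΓSpecIso (CommRingCat.of (Polynomial A))).inv Polynomial.X)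
  have hx₀ : f₀.appTop x₀ = s := by
    show (I.subschemeι.appTop ≫ f₀.appTop) _ = _
    rw [← Scheme.Hom.comp_appTop, hf₀]
    show (((Scheme.ΓSpecIso (CommRingCat.of (Polynomial A))).inv ≫ (Y.left.toSpecΓ ≫ Spec.map (CommRingCat.ofHom φ)).appTop)) _ = _
    simp only [Scheme.Hom.comp_appTop, ← Category.assoc, ← Scheme.ΓSpecIso_inv_naturality]
    simp only [Category.assoc, Scheme.toSpecΓ_appTop, Iso.inv_hom_id, Category.comp_id]
    exact Polynomial.eval₂_X ψ s
  have hint : (I.subschemeι ≫ q.left).appTop.hom.IsIntegralElem x₀ := (RingHom.IsIntegral.of_finite hfin) x₀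
  obtain ⟨P, hP, hP0⟩ := hint
  refine ⟨P.map (Scheme.ΓSpecIso (CommRingCat.of A)).hom.hom, hP.map _, ?_⟩
  rw [Polynomial.eval₂_map, ← hx₀]
  have hcomp : (((Scheme.ΓSpecIso (CommRingCat.of A)).inv ≫ p.left.appTop).hom).comp
      (Scheme.ΓSpecIso (CommRingCat.of A)).hom.hom = f₀.appTop.hom.comp (I.subschemeι ≫ q.left).appTop.hom := by
    rw [← CommRingCat.hom_comp, ← CommRingCat.hom_comp, Iso.hom_inv_id_assoc, ← Scheme.Hom.comp_appTop,
      ← Category.assoc, hf₀]
    exact congrArg (fun g : Y.left ⟶ Tb.left => g.appTop.hom) hfq.symm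
  rw [hcomp, ← Polynomial.hom_eval₂, hP0, map_zero]


/-- Let k be a field, A a finitely generated k-algebra and G a group scheme over k acting on an integral
k-scheme Y of finite type; let p : Y → Spec A be a morphism over k which is G-universally closed
(invariant under the action, and for every discrete valuation ring over k with fraction field K
every commutative square of a K-point of Y and a point of Spec A with values in that ring lifts, up
to translation of the K-point by a K-point of G, to a point of Y with values in the ring). Call a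
global function s on Y invariant when its pullbacks along the action morphism and along the
projection G ×_k Y → Y agree. Then the invariant global functions form a finite A-module: there are
finitely many invariant functions such that every invariant function is a linear combination of them
with coefficients from A (acting on Γ(Y, O_Y) through p). (The published statement is for an
integral G-stable closed subscheme Y of a G-universally closed scheme over Spec A, with k the
complex numbers and G a connected algebraic group; such a Y is itself G-universally closed over Spec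
A, and the printed argument uses only a field k and a group scheme G.) -/
theorem result (k : Type u) [Field k]
    (G Y : Over (Spec (CommRingCat.of k))) [GrpObj G]
    [LocallyOfFiniteType Y.hom] [CompactSpace ↥Y.left] [IsIntegral Y.left]
    (A : Type u) [CommRing A] [Algebra k A] [Algebra.FiniteType k A]
    (a : AlgGrp.Action G Y)
    (p : Y ⟶ Over.mk (Spec.map (CommRingCat.ofHom (algebraMap k A))))
    (hp : W4c2lssmoduli.IsGUnivClosed a p) :
    ∃ t : Finset ↑Γ(Y.left, ⊤),
      (∀ s ∈ t, a.act.left.appTop s = (CartesianMonoidalCategory.snd G Y).left.appTop s) ∧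
      ∀ s : ↑Γ(Y.left, ⊤), a.act.left.appTop s = (CartesianMonoidalCategory.snd G Y).left.appTop s →
        ∃ c : ↑Γ(Y.left, ⊤) → A,
          s = ∑ x ∈ t, ((Scheme.ΓSpecIso (CommRingCat.of A)).inv ≫ p.left.appTop) (c x) * x := by
  let ψ : A →+* Γ(Y.left, ⊤) := ((Scheme.ΓSpecIso (CommRingCat.of A)).inv ≫ p.left.appTop).hom
  letI : Algebra A Γ(Y.left, ⊤) := ψ.toAlgebra
  have hψ : ∀ x : A, a.act.left.appTop (ψ x) = (CartesianMonoidalCategory.snd G Y).left.appTop (ψ x) := fun x => by
    have h := congrArg (fun g : CategoryTheory.MonoidalCategoryStruct.tensorObj G Y ⟶ _ => g.left.appTop) hp.1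
    simp only [Over.comp_left, Scheme.Hom.comp_appTop] at h
    exact congrArg (fun g => g.hom ((Scheme.ΓSpecIso (CommRingCat.of A)).inv x)) h
  let M : Submodule A Γ(Y.left, ⊤) :=
    { carrier := {s | a.act.left.appTop s = (CartesianMonoidalCategory.snd G Y).left.appTop s}
      add_mem' := fun {x y} hx hy => by
        show a.act.left.appTop (x + y) = _
        rw [map_add, map_add, show a.act.left.appTop x = _ from hx, show a.act.left.appTop y = _ from hy]
      zero_mem' := by
        show a.act.left.appTop 0 = _
        rw [map_zero, map_zero]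
      smul_mem' := fun c x hx => by
        show a.act.left.appTop (ψ c * x) = (CartesianMonoidalCategory.snd G Y).left.appTop (ψ c * x)
        rw [map_mul, map_mul, hψ, show a.act.left.appTop x = _ from hx] }
  obtain ⟨U, hU, hyU, -⟩ := exists_isAffineOpen_mem_and_subset (show genericPoint Y.left ∈ (⊤ : Y.left.Opens) from trivial)
  haveI : Nonempty U := ⟨⟨_, hyU⟩⟩
  let r : Γ(Y.left, ⊤) →+* Γ(Y.left, U) := (Y.left.presheaf.map (homOfLE (le_top : U ≤ ⊤)).op).hom
  letI : Algebra A Γ(Y.left, U) := (r.comp ψ).toAlgebra
  haveI : LocallyOfFiniteType p.left := by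
    haveI : LocallyOfFiniteType (p.left ≫ (Over.mk (Spec.map (CommRingCat.ofHom (algebraMap k A)))).hom) := by
      rw [Over.w]; infer_instance
    exact locallyOfFiniteType_of_comp p.left (Over.mk (Spec.map (CommRingCat.ofHom (algebraMap k A)))).hom
  haveI : Algebra.FiniteType A Γ(Y.left, U) := by
    refine RingHom.finiteType_algebraMap.1 ?_
    have h := LocallyOfFiniteType.finiteType_appLE p.left (isAffineOpen_top (Spec (CommRingCat.of A))) hU le_top
    exact h.comp (RingHom.FiniteType.of_surjective _
      (Scheme.ΓSpecIso (CommRingCat.of A)).commRingCatIsoToRingEquiv.symm.surjective)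
  have hN : CAlg.IsNagata A := NagataLib.isNagata_of_finiteType k A
  haveI := hN.1
  haveI : Module.Finite A (integralClosure A Γ(Y.left, U)) := NagataLib.finite_integralClosure_domain hN _
  have hinj : Function.Injective r := map_injective_of_isIntegral Y.left _
  let ρ : M →ₗ[A] integralClosure A Γ(Y.left, U) :=
    LinearMap.codRestrict (integralClosure A Γ(Y.left, U)).toSubmodule
      ({ toFun := fun x => r x.1
         map_add' := fun x y => map_add r _ _
         map_smul' := fun c x => map_mul r (ψ c) x.1 } : M →ₗ[A] Γ(Y.left, U))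
      fun x => by
        obtain ⟨P, hP, hP0⟩ := isIntegralElem_of_invariant hp x.1 x.2
        refine ⟨P, hP, ?_⟩
        show Polynomial.eval₂ (r.comp ψ) (r x.1) P = 0
        rw [← Polynomial.hom_eval₂, hP0, map_zero]
  haveI : IsNoetherian A (integralClosure A Γ(Y.left, U)) := isNoetherian_of_isNoetherianRing_of_finite A _
  haveI : Module.Finite A M := Module.Finite.of_injective ρ fun x y h =>
    Subtype.ext (hinj (congrArg Subtype.val h))
  obtain ⟨t, ht⟩ := (Module.Finite.iff_fg.mp ‹Module.Finite A M›)
  refine ⟨t, fun s hs => ?_, fun s hs => ?_⟩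
  · exact (show s ∈ M by rw [← ht]; exact Submodule.subset_span hs)
  · obtain ⟨c, hc⟩ := Submodule.mem_span_finset.mp (show s ∈ Submodule.span A (t : Set Γ(Y.left, ⊤)) by rw [ht]; exact hs)
    exact ⟨c, hc.2.symm⟩

end Groth.Agent.S14999
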