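import Groth.Statements.S15054
import Groth.Agent.GrpKer29.Basic

set_option autoImplicit false
universe u
open CategoryTheory MonoidalCategory CartesianMonoidalCategory MonObj AlgebraicGeometry
open CategoryTheory CategoryTheory.Limits MonoidalCategory CartesianMonoidalCategory MonObj GrpObj AlgebraicGeometry
open BTGrp
namespace Groth.Agent.S15054

/-- Let ℓ be a prime and G = (G_ν)_ν an ℓ-divisible (Barsotti–Tate) group of height h over a scheme S,
given as the system of its finite locally free layers G_ν of order ℓ^{νh} with inclusions G_ν →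
G_{ν+1} exhibiting G_ν as the ℓ^ν-torsion of G_{ν+1} and projections G_{ν+1} → G_ν (multiplication
by ℓ). Let i_t : G_1 → G_{t+1} denote the iterated inclusions, pinned by i_0 = id and i_{t+1} = i_t
followed by G_{t+1} → G_{t+2}. Then for every t, i_t identifies G_1 with the kernel of
multiplication by ℓ on G_{t+1}: the ℓ-torsion of every layer is the first layer. (The published
statement identifies G_v with the ℓ^v-torsion of G_{v+t} for all v; this row is its case v = 1. The
published base is the spectrum of a Noetherian ring; the argument is formal and any base scheme is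
allowed here.) -/
theorem result {S : Scheme.{u}} (ℓ h : ℕ) [Fact ℓ.Prime] (G : BTGrp.ProBT ℓ S h)
    (i : (t : ℕ) → (G.G 1 ⟶ G.G (t + 1))) (hi0 : i 0 = 𝟙 (G.G 1))
    (hi : ∀ t : ℕ, i (t + 1) = i t ≫ G.incl (t + 1)) (t : ℕ) :
    AlgGrp.IsKernel (i t) ((𝟙 (G.G (t + 1))) ^ ℓ) := by
  induction t with
  | zero =>
    rw [hi0]
    refine GrpKer29.of_points inferInstance ?_ (fun T x _ => ⟨x, Category.comp_id x⟩)
    rw [Category.id_comp]
    have hk := GrpKer29.comp_eq_one (G.isKernel 1)
    rw [GrpKer29.comp_id_pow, pow_one] at hk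
    haveI := GrpKer29.mono (G.isKernel 1)
    rw [← cancel_mono (G.incl 1), GrpKer29.pow_comp, Category.id_comp, hk, MonObj.one_comp]
  | succ t ih =>
    rw [hi]
    haveI := GrpKer29.mono ih
    haveI := GrpKer29.mono (G.isKernel (t + 1))
    refine GrpKer29.of_points inferInstance ?_ ?_
    · have h := GrpKer29.comp_eq_one ih
      rw [GrpKer29.comp_id_pow] at h
      rw [GrpKer29.comp_id_pow, ← GrpKer29.pow_comp, h, MonObj.one_comp]
    · intro T x hx
      rw [GrpKer29.comp_id_pow] at hx
      obtain ⟨y, hy⟩ := GrpKer29.exists_lift (G.isKernel (t + 1)) x (by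
        rw [GrpKer29.comp_id_pow, pow_succ', pow_mul, hx, one_pow])
      obtain ⟨z, hz⟩ := GrpKer29.exists_lift ih y (by
        rw [GrpKer29.comp_id_pow, ← cancel_mono (G.incl (t + 1)), GrpKer29.pow_comp, hy, hx, MonObj.one_comp])
      exact ⟨z, by rw [← Category.assoc, hz, hy]⟩

end Groth.Agent.S15054
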