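import Groth.Statements.S15055
import Groth.Agent.BTLib29.KernelPair
import Groth.Agent.S15054

set_option autoImplicit false
set_option backward.isDefEq.respectTransparency false
set_option backward.isDefEq.respectTransparency.types false
universe u
open CategoryTheory CategoryTheory.Limits MonoidalCategory CartesianMonoidalCategory MonObj GrpObj AlgebraicGeometry
open BTGrp

namespace Groth.Agent.S15055

/-- Let R be a Noetherian ring, ℓ a prime and G = (G_ν)_ν an ℓ-divisible (Barsotti–Tate) group of height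
h over Spec R, given as the system of its finite locally free layers G_ν of order ℓ^{νh} with
inclusions exhibiting G_ν as the ℓ^ν-torsion of G_{ν+1} and projections j_t : G_{t+1} → G_t through
which multiplication by ℓ on G_{t+1} factors. Let i_t : G_1 → G_{t+1} be the iterated inclusions
(i_0 = id, i_{t+1} = i_t followed by G_{t+1} → G_{t+2}). Then for every t the sequence 1 → G_1 →
G_{t+1} → G_t → 1 is exact: i_t is the kernel of j_t, and j_t is finite locally free of degree ℓ^h
and surjective; in particular multiplication by ℓ is an epimorphism of fppf sheaves on the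
ℓ-divisible group, with kernel of order ℓ^h. (The published statement treats the sequence 0 → G_v →
G_{v+t} → G_t → 0 for every v; this row is its case v = 1, combined with the consequence, stated
separately in the text, that multiplication by ℓ on the ℓ-divisible group is finite locally free of
degree ℓ^h and surjective.) -/
theorem result (R : Type u) [CommRing R] [IsNoetherianRing R] (ℓ h : ℕ)
    [Fact ℓ.Prime] (G : BTGrp.ProBT ℓ (Spec (CommRingCat.of R)) h)
    (i : (t : ℕ) → (G.G 1 ⟶ G.G (t + 1))) (hi0 : i 0 = 𝟙 (G.G 1))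
    (hi : ∀ t : ℕ, i (t + 1) = i t ≫ G.incl (t + 1)) (t : ℕ) :
    AlgGrp.IsKernel (i t) (G.proj t) ∧ Mor2.IsFinLocFreeOfDeg (ℓ ^ h) (G.proj t).left ∧
      Surjective (G.proj t).left := by
  have hiℓ := Groth.Agent.S15054.result ℓ h G i hi0 hi t
  have hincl : ∀ ν, Mono (G.incl ν) := fun ν => GrpKer29.mono (G.isKernel ν)
  have := hincl t
  have := GrpKer29.mono hiℓ
  have hker : AlgGrp.IsKernel (i t) (G.proj t) := by
    refine GrpKer29.of_points inferInstance ?_ fun T x hx => ?_
    · rw [← cancel_mono (G.incl t), MonObj.one_comp, Category.assoc, G.proj_incl]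
      exact GrpKer29.comp_eq_one hiℓ
    · refine GrpKer29.exists_lift hiℓ x ?_
      rw [← G.proj_incl, ← Category.assoc, hx, MonObj.one_comp]
  let m : (G.G (t + 1)) ⊗ (G.G 1) ⟶ (G.G (t + 1)) := fst (G.G (t + 1)) (G.G 1) * (snd (G.G (t + 1)) (G.G 1) ≫ i t)
  have hsq : IsPullback (fst (G.G (t + 1)) (G.G 1)) m (G.proj t) (G.proj t) := by
    have hone := GrpKer29.comp_eq_one hker
    have hex : ∀ c : Limits.PullbackCone (G.proj t) (G.proj t), ∃ k : c.pt ⟶ (G.G 1), k ≫ i t = c.fst⁻¹ * c.snd := fun c =>
      GrpKer29.exists_lift hker _ (by rw [MonObj.mul_comp, GrpObj.inv_comp, ← c.condition, inv_mul_cancel])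
    choose k hk using hex
    refine IsPullback.of_isLimit (Limits.PullbackCone.IsLimit.mk ?_ (fun c => lift c.fst (k c))
      (fun c => lift_fst _ _) (fun c => ?_) fun c n h1 h2 => ?_)
    · simp only [m, MonObj.mul_comp, Category.assoc]
      rw [hone, GrpKer29.comp_one, _root_.mul_one]
    · simp only [m, MonObj.comp_mul, lift_fst, lift_snd_assoc, hk, mul_inv_cancel_left]
    · apply CartesianMonoidalCategory.hom_ext
      · rw [lift_fst]; exact h1
      · rw [lift_snd, ← cancel_mono (i t), hk, ← h1, ← h2]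
        simp only [m, MonObj.comp_mul, Category.assoc, inv_mul_cancel_left]
  have hsq' : IsPullback (fst (G.G (t + 1)) (G.G 1)).left m.left (G.proj t).left (G.proj t).left := hsq.map (Over.forget _)
  have hpr : IsPullback (fst (G.G (t + 1)) (G.G 1)).left (snd (G.G (t + 1)) (G.G 1)).left (G.G (t + 1)).hom (G.G 1).hom := IsPullback.of_hasPullback _ _
  obtain ⟨⟨hK₁, hK₂, hK₃⟩, hK₄⟩ := G.finLocFree 1
  have hP : Mor2.IsFinLocFreeOfDeg (ℓ ^ h) (fst (G.G (t + 1)) (G.G 1)).left := by
    refine ⟨⟨MorphismProperty.of_isPullback (P := @IsFinite) hpr.flip hK₁,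
      MorphismProperty.of_isPullback (P := @Flat) hpr.flip hK₂,
      MorphismProperty.of_isPullback (P := @LocallyOfFinitePresentation) hpr.flip hK₃⟩, fun y => ?_⟩
    rw [Scheme.Hom.finrank_of_isPullback _ _ _ _ hpr.flip y, hK₄, _root_.one_mul]
  obtain ⟨hA, hA₄⟩ := G.finLocFree (t + 1)
  obtain ⟨hB, hB₄⟩ := G.finLocFree t
  refine ⟨hker, Groth.Agent.BTLib29.flf_of_kernelPair (G.proj t).left (G.G (t + 1)).hom (G.G t).hom (Over.w _) hA hB (ℓ ^ h)
    (pow_pos (Nat.Prime.pos (Fact.out : ℓ.Prime)) h) (fun s => by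
      rw [hA₄, hB₄, ← pow_add, Nat.succ_mul, add_comm]) ?_⟩
  obtain ⟨⟨h₁, h₂, h₃⟩, h₄⟩ := hP
  have e : Limits.pullback.fst (G.proj t).left (G.proj t).left = hsq'.isoPullback.inv ≫ (fst (G.G (t + 1)) (G.G 1)).left :=
    hsq'.isoPullback_inv_fst.symm
  rw [e]
  exact ⟨⟨inferInstance, inferInstance, inferInstance⟩, fun y => by
    rw [Scheme.Hom.finrank_comp_left_of_isIso]; exact h₄ y⟩

end Groth.Agent.S15055
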