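import Groth.Statements.S15056
import Mathlib.RingTheory.HopfAlgebra.Basic
import Mathlib.FieldTheory.IsAlgClosed.AlgebraicClosure
import Mathlib.RingTheory.LocalRing.ResidueField.Ideal
import Mathlib.RingTheory.FiniteType
import Mathlib.RingTheory.LocalRing.ResidueField.Instances
import Mathlib.RingTheory.Spectrum.Prime.Topology

set_option autoImplicit false
universe u
open scoped TensorProduct
open FrobAlg

namespace Groth.Agent.S15056

/-- Let p be a prime number, R a Noetherian ring of characteristic p and A a finitely generated
commutative Hopf algebra over R (an affine algebraic R-group G = Spec A). The n-fold relative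
Frobenius of G is the trivial homomorphism exactly when a^(p^n) = 0 for every a in the augmentation
ideal; G has finite Frobenius height when this holds for some n. Then G has finite Frobenius height
if and only if A is a finite R-module and, for every algebraically closed field K and every ring
homomorphism R → K, the base change K ⊗_R A is a local ring (G is finite over R with connected
geometric fibres). -/
theorem result (p : ℕ) [Fact p.Prime] (R : Type u) [CommRing R] [CharP R p]
    [IsNoetherianRing R] (A : Type u) [CommRing A] [HopfAlgebra R A] [Algebra.FiniteType R A] :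
    (∃ n : ℕ, ∀ a : A, Bialgebra.counitAlgHom R A a = 0 → a ^ p ^ n = 0) ↔
      (Module.Finite R A ∧ ∀ (K : Type u) [Field K] [IsAlgClosed K] [Algebra R K], IsLocalRing (K ⊗[R] A)) := by
  classical
  let ε : A →ₐ[R] R := Bialgebra.counitAlgHom R A
  haveI : ExpChar R p := ExpChar.prime Fact.out
  have hsplit : ∀ a : A, ε (a - algebraMap R A (ε a)) = 0 := fun a => by simp
  constructor
  · rintro ⟨n, hn⟩
    have hint : ∀ a : A, IsIntegral R a := by
      intro a
      have h1 : IsIntegral R (a - algebraMap R A (ε a)) :=
        IsIntegral.of_pow (pow_pos (Nat.Prime.pos Fact.out) n) (by rw [hn _ (hsplit a)]; exact isIntegral_zero)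
      simpa using h1.add (isIntegral_algebraMap (x := ε a))
    haveI : Algebra.IsIntegral R A := ⟨hint⟩
    refine ⟨Algebra.IsIntegral.finite, fun K _ _ _ => ?_⟩
    let εK : K ⊗[R] A →ₐ[K] K :=
      Algebra.TensorProduct.lift (Algebra.ofId K K) ((Algebra.ofId R K).comp ε) fun _ _ => .all _ _
    have hnil : ∀ z : K ⊗[R] A, IsNilpotent (z - algebraMap K _ (εK z)) := by
      intro z
      induction z using TensorProduct.induction_on with
      | zero => simp
      | tmul c a =>
        have hz : c ⊗ₜ[R] a - algebraMap K (K ⊗[R] A) (εK (c ⊗ₜ[R] a)) = c ⊗ₜ[R] (a - algebraMap R A (ε a)) := by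
          have h : (c * algebraMap R K (ε a)) ⊗ₜ[R] (1 : A) = c ⊗ₜ[R] algebraMap R A (ε a) := by
            rw [Algebra.algebraMap_eq_smul_one (R := R) (A := A), TensorProduct.tmul_smul, TensorProduct.smul_tmul',
              Algebra.smul_def, mul_comm]
          simp [εK, TensorProduct.tmul_sub, Algebra.TensorProduct.algebraMap_apply, h]
        refine ⟨p ^ n, ?_⟩
        rw [hz, Algebra.TensorProduct.tmul_pow, hn _ (hsplit a), TensorProduct.tmul_zero]
      | add x y hx hy =>
        have : x + y - algebraMap K _ (εK (x + y)) =
            (x - algebraMap K _ (εK x)) + (y - algebraMap K _ (εK y)) := by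
          rw [map_add, map_add]; abel
        rw [this]
        exact (Commute.all _ _).isNilpotent_add hx hy
    haveI : Nontrivial (K ⊗[R] A) := εK.toRingHom.domain_nontrivial
    refine IsLocalRing.of_nonunits_add fun x y hx hy h => ?_
    have key : ∀ z, z ∈ nonunits (K ⊗[R] A) → εK z = 0 := by
      intro z hz
      by_contra hne
      refine hz ?_
      have hu : IsUnit (algebraMap K (K ⊗[R] A) (εK z)) := (isUnit_iff_ne_zero.2 hne).map _
      have := (hnil z).isUnit_add_left_of_commute hu (Commute.all _ _)
      simpa using this
    have := h.map εK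
    rw [map_add, key x hx, key y hy, add_zero] at this
    exact not_isUnit_zero this
  · rintro ⟨hfin, hloc⟩
    let I : Ideal A := RingHom.ker ε
    have hI : I ≤ nilradical A := by
      rw [nilradical_eq_sInf]
      refine le_sInf fun P (hP : P.IsPrime) a (ha : ε a = 0) => ?_
      let q := P.comap (algebraMap R A)
      haveI : q.IsPrime := Ideal.IsPrime.comap _
      let K := AlgebraicClosure q.ResidueField
      haveI := hloc K
      let εK : K ⊗[R] A →ₐ[K] K :=
        Algebra.TensorProduct.lift (Algebra.ofId K K) ((Algebra.ofId R K).comp ε) fun _ _ => .all _ _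
      -- a `K`-point of `A` centred at `P`
      haveI : Algebra.IsIntegral R A := Algebra.IsIntegral.of_finite R A
      haveI : P.LiesOver q := ⟨rfl⟩
      letI : Algebra q.ResidueField P.ResidueField :=
        (Ideal.ResidueField.map q P (algebraMap R A) rfl).toAlgebra
      haveI : IsScalarTower R q.ResidueField P.ResidueField := IsScalarTower.of_algebraMap_eq fun r => by
        rw [RingHom.algebraMap_toAlgebra, IsScalarTower.algebraMap_apply R A P.ResidueField]
        exact (Ideal.ResidueField.map_algebraMap ..).symm
      haveI : Algebra.IsIntegral q.ResidueField P.ResidueField := ⟨fun x => by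
        have hi : ∀ a : A, IsIntegral q.ResidueField (algebraMap A P.ResidueField a) := fun a =>
          (((Algebra.IsIntegral.isIntegral (R := R) a).map (IsScalarTower.toAlgHom R A P.ResidueField))).tower_top
        obtain ⟨b, c, hc, rfl⟩ := IsFractionRing.div_surjective (A := A ⧸ P) x
        obtain ⟨b, rfl⟩ := Ideal.Quotient.mk_surjective b
        obtain ⟨c, rfl⟩ := Ideal.Quotient.mk_surjective c
        rw [div_eq_mul_inv]
        exact (hi b).mul (hi c).inv⟩
      haveI : Algebra.IsAlgebraic q.ResidueField P.ResidueField := inferInstance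
      let ι : P.ResidueField →ₐ[q.ResidueField] K := IsAlgClosed.lift
      let g : K ⊗[R] A →ₐ[K] K := Algebra.TensorProduct.lift (Algebra.ofId K K)
        ((ι.restrictScalars R).comp (IsScalarTower.toAlgHom R A P.ResidueField)) fun _ _ => .all _ _
      have hmax : RingHom.ker g.toRingHom = RingHom.ker εK.toRingHom := by
        have h1 : (RingHom.ker g.toRingHom).IsMaximal := RingHom.ker_isMaximal_of_surjective _ fun c => ⟨c ⊗ₜ 1, by simp [g]⟩
        have h2 : (RingHom.ker εK.toRingHom).IsMaximal := RingHom.ker_isMaximal_of_surjective _ fun c => ⟨c ⊗ₜ 1, by simp [εK]⟩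
        rw [IsLocalRing.eq_maximalIdeal h1, IsLocalRing.eq_maximalIdeal h2]
      have : (1 : K) ⊗ₜ[R] a ∈ RingHom.ker g.toRingHom := by
        rw [hmax]
        show εK _ = 0
        simp [εK, ha]
      have h0 : ι (algebraMap A P.ResidueField a) = 0 := by simpa [g] using this
      exact Ideal.algebraMap_residueField_eq_zero.1 ((map_eq_zero ι).1 h0)
    haveI : IsNoetherianRing A := Algebra.FiniteType.isNoetherianRing R A
    obtain ⟨n, hn⟩ := Ideal.exists_pow_le_of_le_radical_of_fg (show I ≤ (⊥ : Ideal A).radical from hI) (IsNoetherian.noetherian I)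
    refine ⟨n, fun a ha => ?_⟩
    have h1 : a ^ n ∈ (⊥ : Ideal A) := hn (Ideal.pow_mem_pow (show a ∈ I from ha) n)
    exact pow_eq_zero_of_le (Nat.lt_pow_self (Nat.Prime.one_lt Fact.out)).le h1

end Groth.Agent.S15056
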