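import Groth.Statements.S15075
import Groth.Agent.TorLib.Basic
import Groth.Agent.QCoh.Sections

set_option autoImplicit false
universe u
open CategoryTheory CategoryTheory.Limits AlgebraicGeometry TopologicalSpace Opposite
open OrdSurf

namespace Groth.Agent.S15075

/-- Let k be an algebraically closed field of characteristic zero and X a smooth projective surface over
k (an integral k-scheme, smooth over k, of dimension two, admitting a closed immersion over k into
some projective space P^n_k), with generic point η. Let A be a sheaf of rings on X with a morphism φ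
: O_X → A of sheaves of rings with central image (a sheaf of O_X-algebras) whose generic stalk A_η
is a division ring, i.e. simple as a left module over itself. Let M and N be sheaves of A-modules
whose underlying O_X-modules (through φ) are coherent with torsion-free stalks, and whose generic
stalks M_η and N_η are simple A_η-modules (one-dimensional over the division ring A_η). Then every
nonzero morphism of sheaves of A-modules M → N is a monomorphism. (The published statement takes A
to be an order on X — coherent and torsion-free over O_X with A_η a central division algebra over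
k(X) — and M, N torsion-free A-modules of rank one; of these hypotheses only the ones listed are
assumed here, the others playing no role in the argument.) -/
theorem result (k : Type u) [Field k] [IsAlgClosed k] [CharZero k]
    (X : Scheme.{u}) [X.Over (Spec (CommRingCat.of k))] [IsIntegral X]
    [Smooth (X ↘ Spec (CommRingCat.of k))] (hdim : topologicalKrullDim X = 2)
    (hproj : ∃ (n : ℕ) (ι : X ⟶ CohB1.ProjSpace n k), IsClosedImmersion ι ∧
      ι ≫ CohB1.ProjSpace.toSpec n k = X ↘ Spec (CommRingCat.of k))
    (A : Sheaf (Opens.grothendieckTopology X) RingCat.{u}) (φ : X.ringCatSheaf ⟶ A)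
    (hcen : ∀ (U : (Opens X)ᵒᵖ) (s : X.ringCatSheaf.obj.obj U) (a : A.obj.obj U),
      φ.hom.app U s * a = a * φ.hom.app U s)
    (hAη : IsSimpleModule (↑(TopCat.Presheaf.stalk (C := RingCat.{u}) (X := X.carrier) A.obj (genericPoint X))) (↑(TopCat.Presheaf.stalk (C := RingCat.{u}) (X := X.carrier) A.obj (genericPoint X))))
    (M N : SheafOfModules.{u} A)
    (hMc : Coh.IsCoh (X := X) ((SheafOfModules.restrictScalars φ).obj M))
    (hNc : Coh.IsCoh (X := X) ((SheafOfModules.restrictScalars φ).obj N))
    (hMt : TorSh.IsTorsionFree (X := X) ((SheafOfModules.restrictScalars φ).obj M))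
    (hNt : TorSh.IsTorsionFree (X := X) ((SheafOfModules.restrictScalars φ).obj N))
    (hMη : IsSimpleModule (↑(TopCat.Presheaf.stalk (C := RingCat.{u}) (X := X.carrier) A.obj (genericPoint X))) (↑(TopCat.Presheaf.stalk (C := Ab.{u}) (X := X.carrier) M.val.presheaf (genericPoint X))))
    (hNη : IsSimpleModule (↑(TopCat.Presheaf.stalk (C := RingCat.{u}) (X := X.carrier) A.obj (genericPoint X))) (↑(TopCat.Presheaf.stalk (C := Ab.{u}) (X := X.carrier) N.val.presheaf (genericPoint X))))
    (ψ : M ⟶ N) (hψ : ψ ≠ 0) : Mono ψ := by
  classical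
  let η := genericPoint X
  let M' : X.Modules := (SheafOfModules.restrictScalars φ).obj M
  let N' : X.Modules := (SheafOfModules.restrictScalars φ).obj N
  let ψ' : M' ⟶ N' := (SheafOfModules.restrictScalars φ).map ψ
  let g := (TopCat.Presheaf.stalkFunctor Ab.{u} η).map ((PresheafOfModules.toPresheaf _).map ψ.val)
  have hg : ∀ (U : X.Opens) (hU : η ∈ U) (m : M.val.presheaf.obj (op U)),
      g (TopCat.Presheaf.germ M.val.presheaf U η hU m) =
        TopCat.Presheaf.germ N.val.presheaf U η hU ((PresheafOfModules.toPresheaf _).map ψ.val |>.app (op U) m) :=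
    fun U hU m => TopCat.Presheaf.stalkFunctor_map_germ_apply U η hU _ m
  -- linearity at the generic point
  let gl : (↑(TopCat.Presheaf.stalk (C := Ab.{u}) (X := X.carrier) M.val.presheaf η)) →ₗ[↑(TopCat.Presheaf.stalk (C := RingCat.{u}) (X := X.carrier) A.obj η)]
      (↑(TopCat.Presheaf.stalk (C := Ab.{u}) (X := X.carrier) N.val.presheaf η)) :=
    { toFun := g
      map_add' := map_add g.hom
      map_smul' := fun a m => by
        obtain ⟨U, hU, r, rfl⟩ := TopCat.Presheaf.exists_germ_eq A.obj a
        obtain ⟨V, hV, t, rfl⟩ := TopCat.Presheaf.exists_germ_eq M.val.presheaf m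
        have hW : η ∈ U ⊓ V := ⟨hU, hV⟩
        rw [RingHom.id_apply, ← TopCat.Presheaf.germ_res_apply A.obj (homOfLE inf_le_left) η hW r,
          ← TopCat.Presheaf.germ_res_apply M.val.presheaf (homOfLE inf_le_right) η hW t,
          ← PresheafOfModules.germ_ringCat_smul]
        erw [hg, hg]
        erw [← PresheafOfModules.germ_ringCat_smul]
        congr 1
        exact map_smul (ψ.val.app (op (U ⊓ V))).hom _ _ }
  have hginj : Function.Injective gl := by
    rw [← LinearMap.ker_eq_bot]
    refine (eq_bot_or_eq_top (LinearMap.ker gl)).resolve_right fun htop => hψ ?_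
    refine SheafOfModules.Hom.ext (PresheafOfModules.hom_ext fun V => ?_)
    ext m
    obtain ⟨U, rfl⟩ : ∃ U, V = op U := ⟨V.unop, rfl⟩
    show ψ'.app U m = (0 : N'.presheaf.obj (op U))
    by_cases hU : η ∈ U
    · refine Groth.Agent.TorLib.eq_zero_of_germ_genericPoint hNc.1 hNt hU _ ?_
      have h0 : gl (TopCat.Presheaf.germ M.val.presheaf U η hU m) = 0 := LinearMap.mem_ker.mp (htop ▸ Submodule.mem_top)
      exact (hg U hU m).symm.trans h0
    · exact TopCat.Presheaf.section_ext ⟨N'.presheaf, N'.isSheaf⟩ U _ _ fun z hz =>
        absurd (Groth.Agent.TorLib.genericPoint_mem hz) hU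
  haveI : Mono ψ' := by
    refine Groth.Agent.QCoh.mono_of_app_injective ψ' fun U => ?_
    rw [injective_iff_map_eq_zero]
    intro m hm
    by_cases hU : η ∈ U
    · refine Groth.Agent.TorLib.eq_zero_of_germ_genericPoint hMc.1 hMt hU m (hginj (Eq.trans ?_ (map_zero gl).symm))
      exact (hg U hU m).trans ((congrArg (TopCat.Presheaf.germ N.val.presheaf U η hU) hm).trans (map_zero _))
    · exact TopCat.Presheaf.section_ext ⟨M'.presheaf, M'.isSheaf⟩ U _ _ fun z hz =>
        absurd (Groth.Agent.TorLib.genericPoint_mem hz) hU
  refine ⟨fun {L} a b hab => ?_⟩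
  have h1 : (SheafOfModules.restrictScalars φ).map a ≫ ψ' = (SheafOfModules.restrictScalars φ).map b ≫ ψ' := by
    rw [← Functor.map_comp, hab, Functor.map_comp]
  have h2 := (cancel_mono ψ').mp h1
  refine SheafOfModules.Hom.ext (PresheafOfModules.hom_ext fun V => ?_)
  ext m
  exact congrArg (fun f => (f.val.app V).hom m) h2

end Groth.Agent.S15075
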