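import Groth.Statements.S15092
import Groth.Agent.SurfInt.FibreClass
import Groth.Agent.RegLoc6.Normal
import Groth.Agent.CurveBC.Main

set_option autoImplicit false
set_option linter.style.haveILetI false
set_option linter.unusedSectionVars false
set_option backward.isDefEq.respectTransparency false
set_option backward.isDefEq.respectTransparency.types false
universe u
open CategoryTheory CategoryTheory.Limits AlgebraicGeometry TopologicalSpace
open Surf

namespace Groth.Agent.S15092

/-- Let k be an algebraically closed field, X a smooth projective surface over k (integral, proper and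
smooth, of dimension 2), C a smooth projective curve over k (integral, proper and smooth, of
dimension 1) and f : X → C a semi-stable fibration: a surjective k-morphism with O_C → f_*O_X an
isomorphism which is an at-worst-nodal family (flat, of finite presentation, all fibres
one-dimensional with at worst nodal singularities), whose fibre over some closed point q₀ is smooth
with χ(O) = 1 − g for some g ≥ 2 (computed on X through the direct image of the structure sheaf of
the fibre), and with no exceptional curve of the first kind in a fibre (no integral vertical curve E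
with χ(O_E) = 1 and E² = −1). Let ω_{X/C} = ω_X ⊗ (f^*Ω_{C/k})^{-1} be the relative dualizing
module, ω_X a second exterior power of Ω_{X/k} and (f^*Ω_{C/k})^{-1} a tensor inverse of f^*Ω_{C/k}.
Let D ⊆ X be an integral curve (integral closed subscheme of dimension 1) lying in a fibre of f, and
O_X(D) a tensor inverse of its ideal sheaf. Then (ω_{X/C}·O_X(D)) ≥ 0; and if (ω_{X/C}·O_X(D)) = 0
then χ(O_D) = 1 and (D·D) = −2, that is, D is a smooth rational curve of self-intersection −2. Here
(L·L') = χ(O_X) − χ(L) − χ(L') + χ(L ⊗ L') for invertible L, L'. -/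
theorem result (k : Type u) [Field k] [IsAlgClosed k]
    (X : Scheme.{u}) [X.Over (Spec (CommRingCat.of k))] [IsProper (X ↘ (Spec (CommRingCat.of k)))]
    [Smooth (X ↘ (Spec (CommRingCat.of k)))] [IsIntegral X] (hdim : topologicalKrullDim X = 2)
    (C : Scheme.{u}) [C.Over (Spec (CommRingCat.of k))] [IsProper (C ↘ (Spec (CommRingCat.of k)))]
    [Smooth (C ↘ (Spec (CommRingCat.of k)))] [IsIntegral C] (hdimC : topologicalKrullDim C = 1)
    (f : X ⟶ C) [f.IsOver (Spec (CommRingCat.of k))] [Surjective f] (hconn : IsIso (ClSub.unitToPush f))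
    (hss : Curv2.IsNodalFamily f)
    (q₀ : C) (hq₀ : IsClosed ({q₀} : Set C)) (hsm : Smooth (f.fiberToSpecResidueField q₀))
    (g : ℕ) (hg2 : 2 ≤ g) (hg : Curv2.euler k X (ClSub.quotMod (f.fiberι q₀).ker) = 1 - (g : ℤ))
    (hmin : ∀ E : X.IdealSheafData, IsIntegral E.subscheme → topologicalKrullDim (E.support : Set X) = 1 →
      (∃ c : C, ∀ x : X, x ∈ E.support → f.base x = c) → Curv2.euler k X (ClSub.quotMod E) = 1 →
      FGA.intNum k X 2 ![ClSub.idealMod E, ClSub.idealMod E] (Coh.structureModule X) ≠ -1)
    (WX : X.Modules) (hWX : ExtPow.IsExtPow 2 (Omega.sheaf (X ↘ (Spec (CommRingCat.of k)))) WX)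
    (M : X.Modules) (hM : ClSub.IsInverseOf M ((Scheme.Modules.pullback f).obj (Omega.sheaf (C ↘ (Spec (CommRingCat.of k))))))
    (D : X.IdealSheafData) (hD : IsIntegral D.subscheme) (hD1 : topologicalKrullDim (D.support : Set X) = 1)
    (hDv : ∃ c : C, ∀ x : X, x ∈ D.support → f.base x = c)
    (LD : X.Modules) (hLD : ClSub.IsInverseOf LD (ClSub.idealMod D)) :
    0 ≤ FGA.intNum k X 2 ![(CohB1.tensorMod WX M), LD] (Coh.structureModule X) ∧
      (FGA.intNum k X 2 ![(CohB1.tensorMod WX M), LD] (Coh.structureModule X) = 0 →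
        Curv2.euler k X (ClSub.quotMod D) = 1 ∧ FGA.intNum k X 2 ![LD, LD] (Coh.structureModule X) = -2) := by
  open Groth.Agent in
  open Groth.Agent.SurfInt in
  have hd := hdim.le
  have hreg := isRegular_of_smooth k (X := X)
  haveI := noeth k (X := X)
  haveI := noeth k (X := C)
  haveI := hD
  haveI : IsProper f := VarInt.isProper_of_over k f (comp_over f (Spec (CommRingCat.of k)))
  obtain ⟨c, hDc⟩ := hDv
  have hc : IsClosed ({c} : Set C) := by
    have h1 : f '' (D.support : Set X) = {c} :=
      Set.eq_singleton_iff_nonempty_unique_mem.2 ⟨⟨_, _, genC_mem D, rfl⟩, by rintro _ ⟨x, hx, rfl⟩; exact hDc x hx⟩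
    rw [← h1]
    exact f.isClosedMap _ D.support.isClosed
  have hn : ∀ p : C, IsIntegrallyClosed (C.presheaf.stalk p) := fun p =>
    haveI := isRegular_of_smooth k (X := C) p
    RegLoc6.isIntegrallyClosed_of_isRegularLocalRing _
  have hΩ : PicF.IsInvertible (Omega.sheaf (C ↘ Spec (CommRingCat.of k))) :=
    CurveBC.isInvertible_omega k C hdimC (CurveCohLib.finrank_h0_eq_one k C)
  have iΩ := PicClLib.isInvertible_pullback f hΩ
  have iM := isInvertible_of_isInverse iΩ (isInverseOf_comm hM)
  have iW := Adj.isInvertible_canonical k hdim hreg hWX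
  have hDe := isEffCartier_curve k hdim hreg D hD1
  have iD := ArSurfX.isInvertible_idealMod hDe
  have iLD := isInvertible_of_isInverse iD (isInverseOf_comm hLD)
  have hLD' := isInverseOf_comm hLD
  show 0 ≤ dot k (CohB1.tensorMod WX M) LD ∧
    (dot k (CohB1.tensorMod WX M) LD = 0 → _ ∧ dot k LD LD = -2)
  have hMD : degOn k (ClSub.quotMod D) M = 0 := by
    rw [degOn_inv k (isCoh_quotMod k D) (dim_support_quot_curve hD1) iΩ iM (isInverseOf_comm hM),
      degOn_pullback_const k f hΩ c D hDc, neg_zero]
  have hval : dot k (CohB1.tensorMod WX M) LD = - dot k (ClSub.idealMod D) WX := by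
    rw [dot_tensor_left k hd iW iM iLD, dot_inv_right k hd iD iLD iW hLD', dot_inv_right k hd iD iLD iM hLD',
      dot_comm k hd iM iD, dot_ideal_left k hd D iD iM, hMD, dot_comm k hd iW iD]
    ring
  rw [hval, dot_inv_inv k hd iD iLD iD iLD hLD' hLD']
  have hadj := Adj.adjunction_euler k hdim hreg hWX D iD
  have hle1 : Curv2.euler k X (ClSub.quotMod D) ≤ 1 := by
    rw [Adj.euler_quot_curve k D hD1]
    omega
  obtain ⟨hDD, heq⟩ := zariski_curve k hdim hreg f hconn hdimC hc (hn c) D hD1 hDc
  have hKpos : dot k (ClSub.idealMod D) (ClSub.idealMod D) = 0 → dot k (ClSub.idealMod D) WX < 0 := fun h0 => by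
    obtain ⟨m, hm, hF⟩ := heq h0
    obtain ⟨hFe, ⟨eF⟩, hs⟩ := fibre_effCartier k f hdimC hq₀ (hn q₀)
    have iF := ArSurfX.isInvertible_idealMod hFe
    have iC := ArSurfX.isInvertible_idealMod (fibre_effCartier k f hdimC hc (hn c)).1
    have h1 := Adj.adjunction_euler k hdim hreg hWX _ iF
    rw [hg, ← dot_fibre_eq k hdim f hdimC hc hq₀ (hn c) (hn q₀) iF,
      dot_comm k hd iC iF, ← dot_fibre_eq k hdim f hdimC hc hq₀ (hn c) (hn q₀) iC,
      ← dot_fibre_eq k hdim f hdimC hc hq₀ (hn c) (hn q₀) iW, hF] at h1
    rw [dot_idealMod_pow k hd (ArSurfX.isInvertible_idealMod (isEffCartier_pow hDe m)) hDe,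
      dot_comm k hd (ArSurfX.isInvertible_idealMod (isEffCartier_pow hDe m)) iD,
      dot_idealMod_pow k hd iD hDe, h0,
      dot_comm k hd (ArSurfX.isInvertible_idealMod (isEffCartier_pow hDe m)) iW,
      dot_idealMod_pow k hd iW hDe, dot_comm k hd iW iD] at h1
    by_contra hcon
    push Not at hcon
    have := mul_nonneg (Int.natCast_nonneg m) hcon
    have : (2 : ℤ) ≤ (g : ℤ) := by exact_mod_cast hg2
    linarith
  have hnot : ¬ (Curv2.euler k X (ClSub.quotMod D) = 1 ∧ dot k (ClSub.idealMod D) (ClSub.idealMod D) = -1) :=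
    fun h => hmin D hD hD1 ⟨c, hDc⟩ h.1 h.2
  refine ⟨?_, fun h => ?_⟩
  · by_contra hcon
    by_cases h0 : dot k (ClSub.idealMod D) (ClSub.idealMod D) = 0
    · have := hKpos h0
      omega
    · exact hnot ⟨by omega, by omega⟩
  · by_cases h0 : dot k (ClSub.idealMod D) (ClSub.idealMod D) = 0
    · have := hKpos h0
      omega
    · omega

end Groth.Agent.S15092
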