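import Groth.Statements.S15099
import Groth.Agent.SurfInt.NumConnApps

set_option autoImplicit false
set_option linter.style.haveILetI false
set_option linter.unusedSectionVars false
set_option backward.isDefEq.respectTransparency false
set_option backward.isDefEq.respectTransparency.types false
universe u
open CategoryTheory CategoryTheory.Limits AlgebraicGeometry TopologicalSpace
open Surf

namespace Groth.Agent.S15099

/-- Let k be an algebraically closed field, X a smooth projective surface over k (integral, proper and
smooth, of dimension 2) and D a non-zero effective Cartier divisor on X (ideal sheaf I_D ≠ O_X)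
which is numerically connected: whenever D = D₁ + D₂ with D₁, D₂ non-zero effective Cartier divisors
(I_D = I_{D₁}·I_{D₂}, both different from O_X), (D₁·D₂) = χ(O_X) − χ(I_{D₁}) − χ(I_{D₂}) + χ(I_{D₁}
⊗ I_{D₂}) > 0. Then H⁰(D, O_D) = k, i.e. it is one-dimensional over k (computed on X through the
direct image of O_D). (The published lemma sits in a positive-characteristic setting; the printed
argument does not use the characteristic, so none is assumed here.) -/
theorem result (k : Type u) [Field k] [IsAlgClosed k]
    (X : Scheme.{u}) [X.Over (Spec (CommRingCat.of k))] [IsProper (X ↘ (Spec (CommRingCat.of k)))]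
    [Smooth (X ↘ (Spec (CommRingCat.of k)))] [IsIntegral X] (hdim : topologicalKrullDim X = 2)
    (D : X.IdealSheafData) (hD : FGA.IsEffCartier D) (hD0 : D ≠ ⊤)
    (hnc : ∀ D₁ D₂ : X.IdealSheafData, FGA.IsEffCartier D₁ → FGA.IsEffCartier D₂ → D₁ ≠ ⊤ → D₂ ≠ ⊤ →
      D = D₁ * D₂ → 0 < FGA.intNum k X 2 ![(ClSub.idealMod D₁), (ClSub.idealMod D₂)] (Coh.structureModule X)) :
    Module.finrank k (Coh.HH X (ClSub.quotMod D) 0) = 1 := by
  open Groth.Agent in
  open Groth.Agent.SurfInt in
  have hreg : ∀ x : X, IsRegularLocalRing (X.presheaf.stalk x) := isRegular_of_smooth k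
  have hO : PicF.IsInvertible (Coh.structureModule X) := InvX.isInvertible_structureModule
  have e : Module.finrank k (Coh.HH X (CohB1.tensorMod (ClSub.quotMod D) (Coh.structureModule X)) 0) =
      Module.finrank k (Coh.HH X (ClSub.quotMod D) 0) :=
    finrank_congr k (AmpleVan.twUnit.app (ClSub.quotMod D)) 0
  have h1 : hZ k D (Coh.structureModule X) ≤ 1 :=
    hZ_le_one k hdim hreg hD hnc hO fun C _ _ _ => (degOn_one k (ClSub.quotMod C)).le
  rw [hZ, e] at h1
  haveI := noeth k (X := X)
  haveI := CurveCohLib.finite_HH (k := k) (isCoh_quotMod k D) 0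
  have hne : ClSub.toSubscheme D ≠ 0 := fun h0 => by
    haveI : Epi (ClSub.toSubscheme D) := (shortExact_ideal D).epi_g
    obtain ⟨C, hCi, -, hle⟩ := exists_curve_le k hdim hD hD0
    haveI := hCi
    have hx : genC C ∈ D.support := (Scheme.IdealSheafData.support_antitone hle) (genC_mem (C := C))
    refine CurveCohLib.GlobGen.nontrivial_stalk_quotMod D hx (subsingleton_of_forall_eq 0 fun v => ?_)
    obtain ⟨w, rfl⟩ := st_surjective (ClSub.toSubscheme D) v
    rw [h0]
    simp [st]
    rfl
  haveI := nontrivial_H0_of_hom hne
  have : 0 < Module.finrank k (Coh.HH X (ClSub.quotMod D) 0) := Module.finrank_pos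
  omega

end Groth.Agent.S15099
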