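import Groth.Statements.S15100
import Mathlib
-- import your own Groth.Agent.* helpers here

set_option autoImplicit false
universe u
open TensorProduct
open CAlg

namespace Groth.Agent.S15100

/-- If the cokernel of a nonzero vector is free at `P`, then one of its coordinates is outside `P`. -/
lemma exists_coord_notMem {A : Type u} [CommRing A] [IsDomain A] {N M : Type u} [AddCommGroup N] [Module A N]
    [AddCommGroup M] [Module A M] {ι : Type*} [Fintype ι] (b : Module.Basis ι A N) (g : A →ₗ[A] N)
    (f : N →ₗ[A] M) (hf : Function.Surjective f) (hex : Function.Exact g f) (hv : g 1 ≠ 0)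
    (P : Ideal A) [P.IsPrime]
    (hfree : Module.Free (Localization.AtPrime P) (LocalizedModule P.primeCompl M)) :
    ∃ i, b.repr (g 1) i ∉ P := by
  classical
  by_contra h
  push Not at h
  let S := P.primeCompl
  let fP : LocalizedModule S N →ₗ[Localization.AtPrime P] LocalizedModule S M :=
    (IsLocalizedModule.map S (LocalizedModule.mkLinearMap S N) (LocalizedModule.mkLinearMap S M) f).extendScalarsOfIsLocalization
      S (Localization.AtPrime P)
  have hfP : Function.Surjective fP := IsLocalizedModule.map_surjective S _ _ f hf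
  obtain ⟨σ, hσ⟩ := Module.projective_lifting_property fP LinearMap.id hfP
  have hσ' : ∀ y, fP (σ y) = y := fun y => LinearMap.congr_fun hσ y
  let x : ι → LocalizedModule S N := fun i =>
    LocalizedModule.mk (b i) 1 - σ (fP (LocalizedModule.mk (b i) 1))
  have hx : ∀ i, ∃ (c : A) (s : S), x i = LocalizedModule.mk (c • g 1) s := fun i => by
    have h0 : fP (x i) = 0 := by simp [x, hσ']
    obtain ⟨y, hy⟩ := (LocalizedModule.map_exact S g f hex (x i)).mp h0
    induction y using LocalizedModule.induction_on with
    | _ c s => exact ⟨c, s, by rw [← hy, IsLocalizedModule.map_LocalizedModules, ← map_smul, smul_eq_mul, mul_one]⟩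
  choose c s hcs using hx
  have hsum : ∑ i, b.repr (g 1) i • x i = LocalizedModule.mk (g 1) 1 := by
    have h1 : ∑ i, b.repr (g 1) i • (LocalizedModule.mk (b i) 1 : LocalizedModule S N) = LocalizedModule.mk (g 1) 1 := by
      have := congrArg (LocalizedModule.mkLinearMap S N) (b.sum_repr (g 1))
      simp only [map_sum, map_smul, LocalizedModule.mkLinearMap_apply] at this
      exact this
    have h2 : fP (LocalizedModule.mk (g 1) 1) = 0 := by
      show IsLocalizedModule.map S _ _ f _ = 0
      rw [IsLocalizedModule.map_LocalizedModules, (hex (g 1)).mpr ⟨1, rfl⟩, LocalizedModule.zero_mk]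
    simp only [x, smul_sub, Finset.sum_sub_distrib]
    simp only [← LinearMap.map_smul_of_tower, ← map_sum, h1, h2, map_zero, sub_zero]
  -- the sum lies in `P • v`
  have hmem : ∀ T : Finset ι, ∃ (t : A) (u : S), t ∈ P ∧
      ∑ i ∈ T, b.repr (g 1) i • x i = LocalizedModule.mk (t • g 1) u := by
    intro T
    induction T using Finset.induction_on with
    | empty => exact ⟨0, 1, P.zero_mem, by simp⟩
    | @insert i T hi ih =>
      obtain ⟨t, u, ht, htu⟩ := ih
      refine ⟨(u : A) * (b.repr (g 1) i * c i) + (s i : A) * t, s i * u,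
        add_mem (P.mul_mem_left _ (P.mul_mem_right _ (h i))) (P.mul_mem_left _ ht), ?_⟩
      rw [Finset.sum_insert hi, htu, hcs i, LocalizedModule.smul'_mk, LocalizedModule.mk_add_mk]
      simp only [Submonoid.smul_def, add_smul, mul_smul]
  obtain ⟨t, u, ht, htu⟩ := hmem Finset.univ
  rw [hsum, LocalizedModule.mk_eq] at htu
  obtain ⟨w, hw⟩ := htu
  simp only [Submonoid.smul_def, one_smul, OneMemClass.coe_one, smul_smul] at hw
  have heq : ((w : A) * (u : A) - (w : A) * t) • g 1 = 0 := by rw [sub_smul, hw, sub_self]
  haveI : Module.Free A N := Module.Free.of_basis b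
  rcases smul_eq_zero.mp heq with h' | h'
  · rw [← mul_sub, mul_eq_zero] at h'
    rcases h' with h' | h'
    · exact w.2 (h' ▸ P.zero_mem)
    · exact u.2 (sub_eq_zero.mp h' ▸ ht)
  · exact hv h'

/-- The cokernel of a vector with a unit coordinate is free over a local ring. -/
lemma free_of_coord {A : Type u} [CommRing A] [IsLocalRing A] {N M : Type u} [AddCommGroup N] [Module A N]
    [Module.Finite A N] [Module.Free A N]
    [AddCommGroup M] [Module A M] {ι : Type*} (b : Module.Basis ι A N) (g : A →ₗ[A] N)
    (f : N →ₗ[A] M) (hf : Function.Surjective f) (hex : Function.Exact g f) {i : ι}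
    (hi : IsUnit (b.repr (g 1) i)) : Module.Free A M := by
  obtain ⟨a, ha⟩ := hi.exists_left_inv
  let r : N →ₗ[A] N := LinearMap.id - (a • b.coord i).smulRight (g 1)
  have hr : ∀ n, f (r n) = f n := fun n => by
    have : f (g 1) = 0 := (hex _).mpr ⟨1, rfl⟩
    simp [r, this]
  have hker : LinearMap.ker f ≤ LinearMap.ker r := fun n hn => by
    obtain ⟨c, rfl⟩ := (hex n).mp hn
    rw [show g c = c • g 1 by rw [← map_smul, smul_eq_mul, mul_one], LinearMap.mem_ker, map_smul]
    have : r (g 1) = 0 := by
      simp only [r, LinearMap.sub_apply, LinearMap.id_apply, LinearMap.smulRight_apply, LinearMap.smul_apply,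
        Module.Basis.coord_apply, smul_eq_mul, ha, one_smul, sub_self]
    rw [this, smul_zero]
  let s : M →ₗ[A] N := (LinearMap.ker f).liftQ r hker ∘ₗ (f.quotKerEquivOfSurjective hf).symm.toLinearMap
  have hs : f ∘ₗ s = LinearMap.id := by
    refine LinearMap.ext fun m => ?_
    obtain ⟨n, rfl⟩ := hf m
    show f ((LinearMap.ker f).liftQ r hker ((f.quotKerEquivOfSurjective hf).symm (f n))) = f n
    rw [show (f.quotKerEquivOfSurjective hf).symm (f n) = Submodule.Quotient.mk n from
      (LinearEquiv.symm_apply_eq _).mpr rfl]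
    exact hr n
  haveI : Module.Projective A M := Module.Projective.of_split s f hs
  haveI : Module.Finite A M := Module.Finite.of_surjective f hf
  haveI : Module.FinitePresentation A M := Module.finitePresentation_of_projective A M
  exact Module.free_of_flat_of_isLocalRing

/-- Let V be a discrete valuation ring with uniformizer u and V → R → A commutative V-algebras with A an
R-algebra compatibly; assume A is a Noetherian local domain of Krull dimension 3 with u in its
maximal ideal, that Ω_{A/V} is a free A-module of rank 2 and that A ⊗_R Ω_{R/V} is a free A-module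
of rank 1. Suppose that on the special fibre Ω_{A/R} is locally free exactly away from the closed
point: for every prime P of A containing u other than the maximal ideal the localization (Ω_{A/R})_P
is free over A_P, while Ω_{A/R} is not free over A. Then Ω_{A/R} is not locally free on the generic
fibre: there is a prime Q of A not containing u with (Ω_{A/R})_Q not free over A_Q. (In the
published statement R is a regular local ring of dimension 2 and A a local ring of dimension 3, both
smooth over V, which yields the two freeness hypotheses used here, and the hypothesis is phrased as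
local freeness of Ω of the special fibre of A over that of R away from the closed point.) -/
theorem result
    (V R A : Type u) [CommRing V] [IsDomain V] [IsDiscreteValuationRing V] [CommRing R] [CommRing A]
    [IsDomain A] [IsNoetherianRing A] [IsLocalRing A]
    [Algebra V R] [Algebra V A] [Algebra R A] [IsScalarTower V R A]
    (u : V) (hu : Irreducible u) (huA : algebraMap V A u ∈ IsLocalRing.maximalIdeal A)
    (hdimA : ringKrullDim A = 3)
    (hΩA : Module.Free A (Ω[A⁄V])) (hrkA : Module.finrank A (Ω[A⁄V]) = 2)
    (hΩR : Module.Free A (A ⊗[R] Ω[R⁄V])) (hrkR : Module.finrank A (A ⊗[R] Ω[R⁄V]) = 1)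
    (h0 : ∀ P : PrimeSpectrum A, algebraMap V A u ∈ P.asIdeal → P.asIdeal ≠ IsLocalRing.maximalIdeal A →
      Module.Free (Localization.AtPrime P.asIdeal) (LocalizedModule P.asIdeal.primeCompl (Ω[A⁄R])))
    (hm : ¬ Module.Free A (Ω[A⁄R])) :
    ∃ Q : PrimeSpectrum A, algebraMap V A u ∉ Q.asIdeal ∧
      ¬ Module.Free (Localization.AtPrime Q.asIdeal) (LocalizedModule Q.asIdeal.primeCompl (Ω[A⁄R])) := by
  classical
  haveI := hΩA
  haveI := hΩR
  haveI : Module.Finite A (Ω[A⁄V]) := Module.finite_of_finrank_eq_succ hrkA
  haveI : Module.Finite A (A ⊗[R] Ω[R⁄V]) := Module.finite_of_finrank_eq_succ hrkR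
  let b := Module.finBasisOfFinrankEq A (Ω[A⁄V]) hrkA
  let e := Module.finBasisOfFinrankEq A (A ⊗[R] Ω[R⁄V]) hrkR
  let ω := e 0
  let g : A →ₗ[A] Ω[A⁄V] := (KaehlerDifferential.mapBaseChange V R A).comp (LinearMap.toSpanSingleton A _ ω)
  let f := KaehlerDifferential.map V R A A
  have hf : Function.Surjective f := KaehlerDifferential.map_surjective V R A
  have hex : Function.Exact g f := by
    refine fun y => ((KaehlerDifferential.exact_mapBaseChange_map V R A) y).trans ⟨?_, ?_⟩
    · rintro ⟨x, rfl⟩
      refine ⟨e.repr x 0, ?_⟩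
      have hxx : e.repr x 0 • ω = x := by
        simpa [ω] using e.sum_repr x
      show (KaehlerDifferential.mapBaseChange V R A) (e.repr x 0 • ω) = _
      rw [hxx]
    · rintro ⟨x, rfl⟩
      exact ⟨_, rfl⟩
  have hv : g 1 ≠ 0 := by
    intro h
    have hinj : Function.Injective f := by
      refine (injective_iff_map_eq_zero f).mpr fun y hy => ?_
      obtain ⟨c, rfl⟩ := (hex y).mp hy
      rw [show g c = c • g 1 by rw [← map_smul, smul_eq_mul, mul_one], h, smul_zero]
    exact hm (Module.Free.of_equiv (LinearEquiv.ofBijective f ⟨hinj, hf⟩))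
  let I : Ideal A := Ideal.span (Set.range fun i => b.repr (g 1) i)
  have hIm : I ≤ IsLocalRing.maximalIdeal A := Ideal.span_le.mpr (by
    rintro _ ⟨i, rfl⟩
    exact (IsLocalRing.mem_maximalIdeal _).mpr fun hu => hm (free_of_coord b g f hf hex hu))
  have hItop : I ≠ ⊤ := fun h => (IsLocalRing.maximalIdeal.isMaximal A).ne_top (top_le_iff.mp (h ▸ hIm))
  obtain ⟨Q, hQ⟩ := Ideal.nonempty_minimalPrimes hItop
  haveI hQp : Q.IsPrime := hQ.1.1
  have key : ∀ (P : Ideal A) [P.IsPrime], I ≤ P →
      ¬ Module.Free (Localization.AtPrime P) (LocalizedModule P.primeCompl (Ω[A⁄R])) := fun P _ hP hfree => by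
    obtain ⟨i, hi⟩ := exists_coord_notMem b g f hf hex hv P hfree
    exact hi (hP (Ideal.subset_span ⟨i, rfl⟩))
  refine ⟨⟨Q, hQp⟩, fun hu' => ?_, key Q hQ.1.2⟩
  have hQm : Q ≠ IsLocalRing.maximalIdeal A := fun h => by
    have h1 := Ideal.height_le_card_of_mem_minimalPrimes_span (Set.finite_range _) hQ
    have h2 : (Set.range fun i => b.repr (g 1) i).ncard ≤ 2 := by
      rw [← Set.image_univ]
      exact (Set.ncard_image_le Set.finite_univ).trans (by simp)
    have h3 : ((IsLocalRing.maximalIdeal A).height : WithBot ℕ∞) = 3 :=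
      IsLocalRing.maximalIdeal_height_eq_ringKrullDim.trans hdimA
    rw [h] at h1
    have h4 : (IsLocalRing.maximalIdeal A).height = 3 := WithBot.coe_inj.mp (h3.trans rfl)
    rw [h4] at h1
    have : 3 ≤ (Set.range fun i => b.repr (g 1) i).ncard := by exact_mod_cast h1
    omega
  exact key Q hQ.1.2 (h0 ⟨Q, hQp⟩ hu' hQm)

end Groth.Agent.S15100
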