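import Groth.Statements.S15121
import Mathlib.RingTheory.GradedAlgebra.Basic
-- import your own Groth.Agent.* helpers here

set_option autoImplicit false
universe u v w
open InvQ

namespace Groth.Agent.S15121

/-- Let k be a field of characteristic zero and A a commutative k-algebra graded by a finitely generated
free abelian group Λ (the character group of a torus acting on Spec A) whose grading monoid is
positive: if the pieces of degrees w and −w are both non-zero then w = 0. Let δ be a locally
nilpotent k-derivation of A (an action of the additive group) that is homogeneous of degree d, with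
the piece of degree d equal to zero (the graded condition on the Lie algebra weight). Suppose that
no maximal ideal of A contains both all graded pieces of non-zero degree and the image of δ (every
torus-fixed closed point has trivial stabiliser under the additive group). Then δ has a homogeneous
slice: some s of degree −d with δ s = 1. (The published statement is for the coordinate ring of an
affine variety over an algebraically closed field of characteristic zero and concludes moreover that
the quotient map by the additive group is a trivial principal bundle, which follows from the slice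
by a standard argument not restated here; this row keeps the algebraic content, for any such graded
algebra.) -/
theorem result
    (k : Type u) [Field k] [CharZero k]
    (A : Type v) [CommRing A] [Algebra k A]
    (Λ : Type w) [AddCommGroup Λ] [DecidableEq Λ] [Module.Free ℤ Λ] [Module.Finite ℤ Λ]
    (𝒜 : Λ → Submodule k A) [GradedAlgebra 𝒜]
    (hpos : ∀ w : Λ, 𝒜 w ≠ ⊥ → 𝒜 (-w) ≠ ⊥ → w = 0)
    (δ : Derivation k A A) (hnil : ∀ a : A, ∃ n : ℕ, ((δ : A →ₗ[k] A) ^ n) a = 0)
    (d : Λ) (hhom : ∀ (w : Λ) (a : A), a ∈ 𝒜 w → δ a ∈ 𝒜 (w + d)) (hd : 𝒜 d = ⊥)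
    (hfix : ∀ m : Ideal A, m.IsMaximal → (∀ w : Λ, w ≠ 0 → (𝒜 w : Set A) ⊆ m) → ¬ (Set.range δ ⊆ m)) :
    ∃ s ∈ 𝒜 (-d), δ s = 1 := by
  classical
  let p : A →ₗ[k] A := (𝒜 0).subtype ∘ₗ DirectSum.component k Λ (fun i => 𝒜 i) 0 ∘ₗ
    (DirectSum.decomposeLinearEquiv 𝒜).toLinearMap
  have hp : ∀ x, p x = ((DirectSum.decompose 𝒜 x) 0 : A) := fun x => rfl
  have hp1 : ∀ {w : Λ} {x : A}, x ∈ 𝒜 w → w ≠ 0 → p x = 0 := fun hx hw => by
    rw [hp]; exact DirectSum.decompose_of_mem_ne 𝒜 hx hw
  have hp0 : ∀ {x : A}, x ∈ 𝒜 0 → p x = x := fun hx => by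
    rw [hp]; exact DirectSum.decompose_of_mem_same 𝒜 hx
  let S : Submodule k A := (𝒜 (-d)).map (δ : A →ₗ[k] A)
  -- the weight zero part of `a * g` is in `S`, for `g` in the range of `δ` or of non-zero weight
  have key0 : ∀ (v w : Λ) (a b : A), a ∈ 𝒜 v → b ∈ 𝒜 w → p (a * δ b) ∈ S := by
    intro v w a b ha hb
    have hab : a * δ b ∈ 𝒜 (v + (w + d)) := SetLike.mul_mem_graded ha (hhom w b hb)
    by_cases hv : v + (w + d) = 0
    · rw [hv] at hab
      rw [hp0 hab]
      by_cases hv0 : 𝒜 v = ⊥
      · rw [hv0, Submodule.mem_bot] at ha; subst ha; simp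
      by_cases hw0 : 𝒜 (w + d) = ⊥
      · have := hhom w b hb; rw [hw0, Submodule.mem_bot] at this; simp [this]
      have hv' : v = 0 := hpos v hv0 (by rwa [show -v = w + d from neg_eq_of_add_eq_zero_right hv])
      subst hv'
      rw [zero_add] at hv
      obtain rfl : w = -d := eq_neg_of_add_eq_zero_left hv
      have hδa : δ a = 0 := by
        have := hhom 0 a ha; rwa [zero_add, hd, Submodule.mem_bot] at this
      refine ⟨a * b, by simpa using SetLike.mul_mem_graded ha hb, ?_⟩
      show δ (a * b) = a * δ b
      simp [hδa]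
    · rw [hp1 hab hv]; exact S.zero_mem
  have key1 : ∀ a b : A, p (a * δ b) ∈ S := by
    intro a b
    induction a using DirectSum.Decomposition.inductionOn 𝒜 with
    | zero => simp
    | homogeneous a =>
      induction b using DirectSum.Decomposition.inductionOn 𝒜 with
      | zero => simp
      | homogeneous b => exact key0 _ _ _ _ a.2 b.2
      | add b b' h h' => rw [map_add, mul_add, map_add]; exact S.add_mem h h'
    | add a a' h h' => rw [add_mul, map_add]; exact S.add_mem h h'
  have key2 : ∀ (w : Λ), w ≠ 0 → ∀ g ∈ 𝒜 w, ∀ a : A, p (a * g) = 0 := by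
    intro w hw g hg a
    induction a using DirectSum.Decomposition.inductionOn 𝒜 with
    | zero => simp
    | @homogeneous v a =>
      by_cases hv : v + w = 0
      · by_cases hv0 : 𝒜 w = ⊥
        · rw [hv0, Submodule.mem_bot] at hg; simp [hg]
        · have : 𝒜 (-w) = ⊥ := by_contra fun h => hw (hpos w hv0 h)
          obtain ⟨a, ha⟩ := a
          rw [show 𝒜 v = 𝒜 (-w) by rw [eq_neg_of_add_eq_zero_left hv], this, Submodule.mem_bot] at ha
          simp [ha]
      · exact hp1 (SetLike.mul_mem_graded a.2 hg) hv
    | add a a' h h' => rw [add_mul, map_add, h, h', add_zero]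
  have htop : (Ideal.span (Set.range δ ∪ ⋃ w : {w : Λ // w ≠ 0}, (𝒜 w.1 : Set A))) = ⊤ := by
    by_contra h
    obtain ⟨m, hm, hle⟩ := Ideal.exists_le_maximal _ h
    refine hfix m hm (fun w hw x hx => hle (Ideal.subset_span (Or.inr ?_)))
      (fun x hx => hle (Ideal.subset_span (Or.inl hx)))
    exact Set.mem_iUnion.mpr ⟨⟨w, hw⟩, hx⟩
  have key3 : ∀ x ∈ Ideal.span (Set.range δ ∪ ⋃ w : {w : Λ // w ≠ 0}, (𝒜 w.1 : Set A)),
      ∀ a : A, p (a * x) ∈ S := by
    intro x hx
    induction hx using Submodule.span_induction with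
    | mem y hy =>
      rcases hy with ⟨b, rfl⟩ | hy
      · exact fun a => key1 a b
      · obtain ⟨w, hy⟩ := Set.mem_iUnion.mp hy
        exact fun a => by rw [key2 w.1 w.2 y hy a]; exact S.zero_mem
    | zero => simp
    | add a b _ _ ha hb => exact fun c => by rw [mul_add, map_add]; exact S.add_mem (ha c) (hb c)
    | smul r a _ ha => exact fun c => by rw [smul_eq_mul, ← mul_assoc]; exact ha _
  have h1 := key3 1 (htop ▸ Submodule.mem_top) 1
  rw [mul_one, hp0 SetLike.GradedOne.one_mem] at h1
  obtain ⟨s, hs, hs'⟩ := h1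
  exact ⟨s, hs, hs'⟩

end Groth.Agent.S15121
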