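import Groth.Statements.S15123
import Groth.Agent.GITTorus.Weights
import Mathlib.RingTheory.Spectrum.Prime.Topology
import Mathlib.RingTheory.Ideal.Maximal
-- import your own Groth.Agent.* helpers here

set_option autoImplicit false
universe u v w
open InvQ

namespace Groth.Agent.S15123

/-- Let k be an algebraically closed field of characteristic zero, Λ a finitely generated free abelian
group and k[Λ] its group algebra, the coordinate Hopf algebra of the torus with character group Λ.
Let R be a reduced finitely generated commutative k-algebra with a multiplicative coaction of k[Λ]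
(an action of the torus on the affine variety Spec R), and suppose the grading monoid is positive:
if R has a non-zero eigenvector of weight w and one of weight −w then w = 0. Then for every k-point
x of Spec R, the orbit of x is closed if and only if x is a fixed point. (The published statement
also asserts that the fixed-point subvariety is affine and is a good quotient for the action; only
the description of the closed orbits is stated here.) -/
theorem result
    (k : Type u) [Field k] [IsAlgClosed k] [CharZero k]
    (Λ : Type v) [AddCommGroup Λ] [Module.Free ℤ Λ] [Module.Finite ℤ Λ]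
    (R : Type w) [CommRing R] [Algebra k R] [Algebra.FiniteType k R] [IsReduced R]
    [HopfRep.Comod k (AddMonoidAlgebra k Λ) R] [GLin.IsCoactAlg k (AddMonoidAlgebra k Λ) R]
    (hpos : ∀ w : Λ, HopfRep.eigenspace k (AddMonoidAlgebra k Λ) R (AddMonoidAlgebra.single w 1) ≠ ⊥ →
      HopfRep.eigenspace k (AddMonoidAlgebra k Λ) R (AddMonoidAlgebra.single (-w) 1) ≠ ⊥ → w = 0)
    (x : R →ₐ[k] k) :
    GLin.IsClosedOrbit k (AddMonoidAlgebra k Λ) x ↔ GLin.IsFixedPt k (AddMonoidAlgebra k Λ) x := by
  classical
  open Groth.Agent.GITTorus in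
  have hmul : ∀ (v w : Λ) (f g : R),
      f ∈ HopfRep.eigenspace k (AddMonoidAlgebra k Λ) R (AddMonoidAlgebra.single v 1) →
      g ∈ HopfRep.eigenspace k (AddMonoidAlgebra k Λ) R (AddMonoidAlgebra.single w 1) →
      f * g ∈ HopfRep.eigenspace k (AddMonoidAlgebra k Λ) R (AddMonoidAlgebra.single (v + w) 1) := by
    intro v w f g hf hg
    show HopfRep.Comod.coact (k := k) (A := AddMonoidAlgebra k Λ) (f * g) = _
    rw [GLin.IsCoactAlg.coact_mul, show _ = f ⊗ₜ[k] _ from hf, show _ = g ⊗ₜ[k] _ from hg,
      Algebra.TensorProduct.tmul_mul_tmul, AddMonoidAlgebra.single_mul_single, one_mul]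
  have hinv : ∀ f : R, f ∈ GLin.invariants k (AddMonoidAlgebra k Λ) R ↔
      f ∈ HopfRep.eigenspace k (AddMonoidAlgebra k Λ) R (AddMonoidAlgebra.single (0 : Λ) 1) := fun f => by
    rw [GLin.mem_invariants_iff, AddMonoidAlgebra.one_def]; rfl
  -- the weight zero part of `x`
  let x₀ : R →ₗ[k] k := x.toLinearMap ∘ₗ Groth.Agent.GITTorus.proj (k := k) (0 : Λ)
  have horb : ∀ (w : Λ) (g : R), g ∈ HopfRep.eigenspace k (AddMonoidAlgebra k Λ) R (AddMonoidAlgebra.single w 1) →
      GLin.orbitHom k (AddMonoidAlgebra k Λ) x g = AddMonoidAlgebra.single w (x g) := by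
    intro w g hg
    simp only [GLin.orbitHom, AlgHom.comp_apply, GLin.coactAlgHom_apply, show _ = g ⊗ₜ[k] _ from hg]
    simp
  have hcoeff : ∀ f, Groth.Agent.GITTorus.coeffForm (k := k) (0 : Λ) (GLin.orbitHom k (AddMonoidAlgebra k Λ) x f) = x₀ f := by
    intro f
    obtain ⟨s, -, hs⟩ := Groth.Agent.GITTorus.coact_eq_sum (k := k) (Λ := Λ) f
    conv_rhs => rw [← hs]
    conv_lhs => rw [← hs]
    rw [map_sum, map_sum, map_sum]
    refine Finset.sum_congr rfl fun w _ => ?_
    rw [horb w _ (Groth.Agent.GITTorus.proj_mem w f), Groth.Agent.GITTorus.coeffForm_single]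
    show _ = x (Groth.Agent.GITTorus.proj (k := k) (0 : Λ) _)
    rw [Groth.Agent.GITTorus.proj_of_mem (Groth.Agent.GITTorus.proj_mem w f), apply_ite x, map_zero]
  constructor
  · intro hcl
    have hzero : ∀ (w : Λ), w ≠ 0 → ∀ g ∈ HopfRep.eigenspace k (AddMonoidAlgebra k Λ) R
        (AddMonoidAlgebra.single w 1), x g = 0 := by
      intro w hw g hg
      by_contra hxg
      have hzg : ∀ r, x₀ (r * g) = 0 := by
        intro r
        show x (Groth.Agent.GITTorus.proj (k := k) (0 : Λ) (r * g)) = 0
        have hr : r ∈ ⨆ v : Λ, HopfRep.eigenspace k (AddMonoidAlgebra k Λ) R (AddMonoidAlgebra.single v 1) := by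
          rw [Groth.Agent.GITTorus.iSup_eigenspace_eq_top]; trivial
        induction hr using Submodule.iSup_induction' with
        | mem v r hr =>
          rw [Groth.Agent.GITTorus.proj_of_mem (hmul v w r g hr hg)]
          split_ifs with hv
          · by_cases hw0 : HopfRep.eigenspace k (AddMonoidAlgebra k Λ) R (AddMonoidAlgebra.single w 1) = ⊥
            · rw [hw0, Submodule.mem_bot] at hg; simp [hg]
            · have : HopfRep.eigenspace k (AddMonoidAlgebra k Λ) R (AddMonoidAlgebra.single (-w) 1) = ⊥ :=
                by_contra fun h => hw (hpos w hw0 h)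
              rw [show v = -w from eq_neg_of_add_eq_zero_left hv, this, Submodule.mem_bot] at hr; simp [hr]
          · exact map_zero x
        | zero => simp
        | add a b _ _ ha hb => simp only [add_mul, map_add, ha, hb, add_zero]
      set K : Ideal R := RingHom.ker (GLin.orbitHom k (AddMonoidAlgebra k Λ) x).toRingHom
      have hI : K ⊔ Ideal.span {g} ≠ ⊤ := by
        intro htop
        obtain ⟨a, ha, b, hb, hab⟩ := Submodule.mem_sup.mp ((Ideal.eq_top_iff_one _).mp htop)
        obtain ⟨r, rfl⟩ := Ideal.mem_span_singleton'.mp hb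
        have h1 : x₀ (a + r * g) = 1 := by
          rw [hab, ← hcoeff, map_one, AddMonoidAlgebra.one_def, Groth.Agent.GITTorus.coeffForm_single, if_pos rfl]
        rw [map_add, hzg r, add_zero, ← hcoeff, show GLin.orbitHom k (AddMonoidAlgebra k Λ) x a = 0 from ha,
          map_zero] at h1
        exact zero_ne_one h1
      obtain ⟨m, hm, hle⟩ := Ideal.exists_le_maximal _ hI
      have hmem : (⟨m, hm.isPrime⟩ : PrimeSpectrum R) ∈
          Set.range (PrimeSpectrum.comap (GLin.orbitHom k (AddMonoidAlgebra k Λ) x).toRingHom) := by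
        rw [← (hcl : IsClosed _).closure_eq, PrimeSpectrum.closure_range_comap]
        exact le_sup_left.trans hle
      obtain ⟨q, hq⟩ := hmem
      have hgq : GLin.orbitHom k (AddMonoidAlgebra k Λ) x g ∈ q.asIdeal := by
        have : g ∈ (PrimeSpectrum.comap (GLin.orbitHom k (AddMonoidAlgebra k Λ) x).toRingHom q).asIdeal := by
          rw [hq]; exact hle (le_sup_right (a := K) (Ideal.subset_span rfl))
        exact this
      rw [horb w g hg] at hgq
      refine q.isPrime.ne_top (Ideal.eq_top_of_isUnit_mem _ hgq ?_)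
      refine IsUnit.of_mul_eq_one (AddMonoidAlgebra.single (-w) (x g)⁻¹) ?_
      rw [AddMonoidAlgebra.single_mul_single, add_neg_cancel, mul_inv_cancel₀ hxg, AddMonoidAlgebra.one_def]
    refine AlgHom.ext fun f => ?_
    obtain ⟨s, -, hs⟩ := Groth.Agent.GITTorus.coact_eq_sum (k := k) (Λ := Λ) f
    rw [← hs, map_sum, map_sum]
    refine Finset.sum_congr rfl fun w _ => ?_
    rw [horb w _ (Groth.Agent.GITTorus.proj_mem _ _)]
    by_cases hw : w = 0
    · subst hw; rfl
    · simp [hzero w hw _ (Groth.Agent.GITTorus.proj_mem _ _)]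
  · intro hfixed
    unfold GLin.IsClosedOrbit
    rw [show GLin.orbitHom k (AddMonoidAlgebra k Λ) x = _ from hfixed]
    have hmax : (RingHom.ker x.toRingHom).IsMaximal :=
      RingHom.ker_isMaximal_of_surjective x.toRingHom (fun c => ⟨algebraMap k R c, x.commutes c⟩)
    have hrange : Set.range (PrimeSpectrum.comap ((Algebra.ofId k (AddMonoidAlgebra k Λ)).comp x).toRingHom) =
        PrimeSpectrum.zeroLocus (RingHom.ker x.toRingHom : Set R) := by
      ext q
      constructor
      · rintro ⟨r, rfl⟩ f hf
        show Algebra.ofId k (AddMonoidAlgebra k Λ) (x f) ∈ r.asIdeal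
        rw [show x f = 0 from hf, map_zero]; exact r.asIdeal.zero_mem
      · intro hq
        obtain ⟨M, hM⟩ := Ideal.exists_maximal (AddMonoidAlgebra k Λ)
        refine ⟨⟨M, hM.isPrime⟩, PrimeSpectrum.ext ?_⟩
        rw [← hmax.eq_of_le q.isPrime.ne_top hq]
        refine (hmax.eq_of_le (Ideal.comap_ne_top _ hM.ne_top) ?_).symm
        intro f hf
        show Algebra.ofId k (AddMonoidAlgebra k Λ) (x f) ∈ M
        rw [show x f = 0 from hf, map_zero]; exact M.zero_mem
    rw [hrange]
    exact PrimeSpectrum.isClosed_zeroLocus _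

end Groth.Agent.S15123
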