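import Groth.Statements.S15124
import Groth.Agent.GITTorus.Weights
-- import your own Groth.Agent.* helpers here

set_option autoImplicit false
universe u v w
open InvQ

namespace Groth.Agent.S15124

/-- Let k be an algebraically closed field of characteristic zero, Λ a finitely generated free abelian
group with group algebra k[Λ] (the coordinate Hopf algebra of a torus T), and R a reduced finitely
generated commutative k-algebra with a multiplicative coaction of k[Λ] (an action of T on the affine
variety X = Spec R) whose grading monoid is positive: if R has non-zero eigenvectors of weights w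
and −w then w = 0. Let I be the ideal of R generated by all eigenvectors of non-zero weight (the
ideal of the fixed-point subscheme X^T). Then the composite of the inclusion of the ring of
invariants R^T into R with the projection R → R/I is bijective: the fixed-point subscheme maps
isomorphically onto the affine quotient Spec R^T. (The published statement phrases this as: X^T is
affine and X → X^T is a good quotient; the good-quotient property itself is not restated here.) -/
theorem result
    (k : Type u) [Field k] [IsAlgClosed k] [CharZero k]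
    (Λ : Type v) [AddCommGroup Λ] [Module.Free ℤ Λ] [Module.Finite ℤ Λ]
    (R : Type w) [CommRing R] [Algebra k R] [Algebra.FiniteType k R] [IsReduced R]
    [HopfRep.Comod k (AddMonoidAlgebra k Λ) R] [GLin.IsCoactAlg k (AddMonoidAlgebra k Λ) R]
    (hpos : ∀ w : Λ, HopfRep.eigenspace k (AddMonoidAlgebra k Λ) R (AddMonoidAlgebra.single w 1) ≠ ⊥ →
      HopfRep.eigenspace k (AddMonoidAlgebra k Λ) R (AddMonoidAlgebra.single (-w) 1) ≠ ⊥ → w = 0) :
    Function.Bijective
      ((Ideal.Quotient.mkₐ k (Ideal.span {f : R | ∃ w : Λ, w ≠ 0 ∧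
          f ∈ HopfRep.eigenspace k (AddMonoidAlgebra k Λ) R (AddMonoidAlgebra.single w 1)})).comp
        (GLin.invariants k (AddMonoidAlgebra k Λ) R).val) := by
  classical
  open Groth.Agent.GITTorus in
  have hmul : ∀ (v w : Λ) (f g : R),
      f ∈ HopfRep.eigenspace k (AddMonoidAlgebra k Λ) R (AddMonoidAlgebra.single v 1) →
      g ∈ HopfRep.eigenspace k (AddMonoidAlgebra k Λ) R (AddMonoidAlgebra.single w 1) →
      f * g ∈ HopfRep.eigenspace k (AddMonoidAlgebra k Λ) R (AddMonoidAlgebra.single (v + w) 1) := by
    intro v w f g hf hg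
    show HopfRep.Comod.coact (k := k) (A := AddMonoidAlgebra k Λ) (f * g) = _
    rw [GLin.IsCoactAlg.coact_mul, show _ = f ⊗ₜ[k] _ from hf, show _ = g ⊗ₜ[k] _ from hg,
      Algebra.TensorProduct.tmul_mul_tmul, AddMonoidAlgebra.single_mul_single, one_mul]
  have hinv : ∀ f : R, f ∈ GLin.invariants k (AddMonoidAlgebra k Λ) R ↔
      f ∈ HopfRep.eigenspace k (AddMonoidAlgebra k Λ) R (AddMonoidAlgebra.single (0 : Λ) 1) := fun f => by
    rw [GLin.mem_invariants_iff, AddMonoidAlgebra.one_def]; rfl
  -- the span of the weight spaces of non-zero weight is an ideal killed by the projection to weight zero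
  set J : Submodule k R := ⨆ w : {w : Λ // w ≠ 0},
    HopfRep.eigenspace k (AddMonoidAlgebra k Λ) R (AddMonoidAlgebra.single w.1 1)
  have hJmul : ∀ r : R, J ≤ J.comap (LinearMap.mulLeft k r) := by
    have h0 : ∀ v, ∀ r ∈ HopfRep.eigenspace k (AddMonoidAlgebra k Λ) R (AddMonoidAlgebra.single v 1),
        J ≤ J.comap (LinearMap.mulLeft k r) := by
      intro v r hr
      refine iSup_le fun w g hg => ?_
      show r * g ∈ J
      by_cases hv : v + w.1 = 0
      · have hv' : v = - w.1 := eq_neg_of_add_eq_zero_left hv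
        by_cases hw : HopfRep.eigenspace k (AddMonoidAlgebra k Λ) R (AddMonoidAlgebra.single w.1 1) = ⊥
        · rw [hw, Submodule.mem_bot] at hg; simp [hg]
        · have : HopfRep.eigenspace k (AddMonoidAlgebra k Λ) R (AddMonoidAlgebra.single (-w.1) 1) = ⊥ :=
            by_contra fun h => w.2 (hpos w.1 hw h)
          rw [hv', this, Submodule.mem_bot] at hr; simp [hr]
      · exact Submodule.mem_iSup_of_mem (⟨v + w.1, hv⟩ : {w : Λ // w ≠ 0}) (hmul v w.1 r g hr hg)
    intro r x hx
    show r * x ∈ J
    have hr : r ∈ ⨆ w : Λ, HopfRep.eigenspace k (AddMonoidAlgebra k Λ) R (AddMonoidAlgebra.single w 1) := by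
      rw [Groth.Agent.GITTorus.iSup_eigenspace_eq_top]; trivial
    induction hr using Submodule.iSup_induction' with
    | mem v r hr => exact h0 v r hr hx
    | zero => simp
    | add a b _ _ ha hb => rw [add_mul]; exact J.add_mem ha hb
  set I : Ideal R := Ideal.span {f : R | ∃ w : Λ, w ≠ 0 ∧
      f ∈ HopfRep.eigenspace k (AddMonoidAlgebra k Λ) R (AddMonoidAlgebra.single w 1)}
  have hIJ : ∀ x ∈ I, x ∈ J := by
    intro x hx
    induction hx using Submodule.span_induction with
    | mem y hy => obtain ⟨w, hw, hy⟩ := hy; exact Submodule.mem_iSup_of_mem (⟨w, hw⟩ : {w : Λ // w ≠ 0}) hy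
    | zero => exact J.zero_mem
    | add a b _ _ ha hb => exact J.add_mem ha hb
    | smul r a _ ha => exact hJmul r ha
  have hJp : J ≤ LinearMap.ker (Groth.Agent.GITTorus.proj (k := k) (0 : Λ) : R →ₗ[k] R) :=
    iSup_le fun w g hg => by rw [LinearMap.mem_ker, Groth.Agent.GITTorus.proj_of_mem hg, if_neg w.2]
  constructor
  · intro a b hab
    have h : (a : R) - b ∈ J := hIJ _ (Ideal.Quotient.eq.mp hab)
    have h' := LinearMap.mem_ker.mp (hJp h)
    rw [Groth.Agent.GITTorus.proj_of_mem ((hinv _).mp (Subalgebra.sub_mem _ a.2 b.2)), if_pos rfl, sub_eq_zero] at h'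
    exact Subtype.ext h'
  · intro q
    obtain ⟨f, rfl⟩ := Ideal.Quotient.mk_surjective q
    obtain ⟨s, -, hs⟩ := Groth.Agent.GITTorus.coact_eq_sum (k := k) (Λ := Λ) f
    refine ⟨⟨Groth.Agent.GITTorus.proj (k := k) (0 : Λ) f, (hinv _).mpr (Groth.Agent.GITTorus.proj_mem _ _)⟩, ?_⟩
    show Ideal.Quotient.mk I (Groth.Agent.GITTorus.proj (k := k) (0 : Λ) f) = Ideal.Quotient.mk I f
    rw [Ideal.Quotient.eq]
    have h : Groth.Agent.GITTorus.proj (k := k) (0 : Λ) f - f =
        ∑ w ∈ s, (Groth.Agent.GITTorus.proj (k := k) (0 : Λ) (Groth.Agent.GITTorus.proj (k := k) w f) -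
          Groth.Agent.GITTorus.proj (k := k) w f) := by
      rw [Finset.sum_sub_distrib, ← map_sum, hs]
    rw [h]
    refine I.sum_mem fun w _ => ?_
    rw [Groth.Agent.GITTorus.proj_of_mem (Groth.Agent.GITTorus.proj_mem (k := k) w f)]
    split_ifs with hw
    · simp
    · rw [zero_sub]
      exact I.neg_mem (Ideal.subset_span ⟨w, hw, Groth.Agent.GITTorus.proj_mem _ _⟩)

end Groth.Agent.S15124
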