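import Groth.Statements.S15126
import Mathlib

set_option autoImplicit false
universe u
open Formal

namespace Groth.Agent.S15126

/-- Affine case. Let k be a field, n > 0, and R a commutative algebra over the power series ring
k[[z_1,…,z_n]]; for a commutative k-algebra Q regard Q[[z_1,…,z_n]] as a k[[z]]-algebra
coefficientwise. Then the functor Q ↦ Hom_{k[[z]]-alg}(R, Q[[z]]) on commutative k-algebras is
corepresentable: there exist a commutative k-algebra P and a k[[z]]-algebra homomorphism u : R →
P[[z]] such that every k[[z]]-algebra homomorphism R → Q[[z]] arises from u by applying a unique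
k-algebra homomorphism P → Q coefficientwise. If moreover R is countably generated as a
k[[z]]-algebra, P may be taken countably generated over k. (The published statement is for an adic
formal scheme Y over the formal disc Spf k[[z]], asserting that the sheaf of sections of Y over the
disc is a scheme, affine over the fibre of Y at the origin, and of pro-finite type when Y is; this
row is the case Y = Spf R, to which the published argument reduces, stated for the underlying
algebra R; k is algebraically closed there, which is not used.) -/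
theorem result
    (k : Type u) [Field k] (n : ℕ) (hn : 0 < n)
    (R : Type u) [CommRing R] [Algebra (MvPowerSeries (Fin n) k) R] :
    ∃ (P : Type u) (_ : CommRing P) (_ : Algebra k P)
      (u : R →ₐ[MvPowerSeries (Fin n) k] MvPowerSeries (Fin n) P),
      (∀ (Q : Type u) [CommRing Q] [Algebra k Q]
          (f : R →ₐ[MvPowerSeries (Fin n) k] MvPowerSeries (Fin n) Q),
          ∃! g : P →ₐ[k] Q,
            (MvPowerSeries.map (σ := Fin n) (g : P →+* Q)).comp (u : R →+* MvPowerSeries (Fin n) P) =
              (f : R →+* MvPowerSeries (Fin n) Q)) ∧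
      ((∃ s : Set R, s.Countable ∧ Algebra.adjoin (MvPowerSeries (Fin n) k) s = ⊤) →
        ∃ t : Set P, t.Countable ∧ Algebra.adjoin k t = ⊤) := by
  classical
  let S := MvPowerSeries (Fin n) k
  let V := R × (Fin n →₀ ℕ)
  let u0 : R → MvPowerSeries (Fin n) (MvPolynomial V k) := fun r e => MvPolynomial.X (r, e)
  have hu0 : ∀ r e, MvPowerSeries.coeff e (u0 r) = MvPolynomial.X (r, e) := fun r e => rfl
  let d : (R × R) ⊕ (R × R) ⊕ S → MvPowerSeries (Fin n) (MvPolynomial V k) := fun x =>
    match x with
    | Sum.inl (r, t) => u0 (r + t) - (u0 r + u0 t)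
    | Sum.inr (Sum.inl (r, t)) => u0 (r * t) - u0 r * u0 t
    | Sum.inr (Sum.inr c) => u0 (algebraMap S R c) - MvPowerSeries.map (algebraMap k (MvPolynomial V k)) c
  let J : Ideal (MvPolynomial V k) := Ideal.span (Set.range fun p : ((R × R) ⊕ (R × R) ⊕ S) × (Fin n →₀ ℕ) => MvPowerSeries.coeff p.2 (d p.1))
  let π := MvPowerSeries.map (σ := Fin n) (Ideal.Quotient.mk J)
  have hd : ∀ x, π (d x) = 0 := fun x => MvPowerSeries.ext fun e => by
    rw [MvPowerSeries.coeff_map, map_zero, Ideal.Quotient.eq_zero_iff_mem]
    exact Ideal.subset_span ⟨(x, e), rfl⟩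
  have hadd : ∀ r t, π (u0 (r + t)) = π (u0 r) + π (u0 t) := fun r t => by
    have := hd (Sum.inl (r, t)); simp only [d, map_sub, map_add, sub_eq_zero] at this; exact this
  have hmul : ∀ r t, π (u0 (r * t)) = π (u0 r) * π (u0 t) := fun r t => by
    have := hd (Sum.inr (Sum.inl (r, t))); simp only [d, map_sub, map_mul, sub_eq_zero] at this; exact this
  have halg : ∀ c : S, π (u0 (algebraMap S R c)) =
      MvPowerSeries.map (algebraMap k (MvPolynomial V k ⧸ J)) c := fun c => by
    have := hd (Sum.inr (Sum.inr c)); simp only [d, map_sub, sub_eq_zero] at this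
    rw [this]; rfl
  have hone : π (u0 1) = 1 := by simpa using halg 1
  have hzero : π (u0 0) = 0 := by simpa using halg 0
  let uR : R →+* MvPowerSeries (Fin n) (MvPolynomial V k ⧸ J) :=
    { toFun := fun r => π (u0 r), map_one' := hone, map_mul' := hmul, map_zero' := hzero, map_add' := hadd }
  let u : R →ₐ[S] MvPowerSeries (Fin n) (MvPolynomial V k ⧸ J) := { uR with commutes' := fun c => halg c }
  refine ⟨MvPolynomial V k ⧸ J, inferInstance, inferInstance, u, ?_, ?_⟩
  · intro Q _ _ f
    let g0 : MvPolynomial V k →ₐ[k] Q := MvPolynomial.aeval fun v => MvPowerSeries.coeff v.2 (f v.1)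
    have hg0 : ∀ r, MvPowerSeries.map (g0 : MvPolynomial V k →+* Q) (u0 r) = f r := fun r =>
      MvPowerSeries.ext fun e => by
        rw [MvPowerSeries.coeff_map, hu0]; exact MvPolynomial.aeval_X _ _
    have hJ : J ≤ RingHom.ker g0.toRingHom := by
      rw [Ideal.span_le]
      rintro _ ⟨⟨x, e⟩, rfl⟩
      have hx : MvPowerSeries.map (g0 : MvPolynomial V k →+* Q) (d x) = 0 := by
        match x with
        | Sum.inl (r, t) => simp only [d, map_sub, map_add, hg0, sub_self]
        | Sum.inr (Sum.inl (r, t)) => simp only [d, map_sub, map_mul, hg0, sub_self]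
        | Sum.inr (Sum.inr c) =>
          simp only [d, map_sub, hg0, sub_eq_zero]
          refine (f.commutes c).trans (MvPowerSeries.ext fun m => ?_)
          rw [MvPowerSeries.coeff_map, MvPowerSeries.coeff_map]
          exact (g0.commutes _).symm
      have := congrArg (MvPowerSeries.coeff e) hx
      simpa using this
    refine ⟨Ideal.Quotient.liftₐ J g0 hJ, ?_, ?_⟩
    · refine RingHom.ext fun r => ?_
      rw [RingHom.comp_apply]
      refine Eq.trans ?_ (hg0 r)
      exact MvPowerSeries.ext fun e => rfl
    · intro g hg
      refine Ideal.Quotient.algHom_ext k ?_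
      refine MvPolynomial.algHom_ext fun v => ?_
      have := congrArg (MvPowerSeries.coeff v.2) (RingHom.congr_fun hg v.1)
      change g (Ideal.Quotient.mk J (MvPolynomial.X v)) = MvPowerSeries.coeff v.2 (f v.1) at this
      change g (Ideal.Quotient.mk J (MvPolynomial.X v)) = g0 (MvPolynomial.X v)
      rw [this]
      simp [g0]
  · rintro ⟨s, hs, hgen⟩
    let t : Set (MvPolynomial V k ⧸ J) := (fun p : R × (Fin n →₀ ℕ) => MvPowerSeries.coeff p.2 (u p.1)) '' (s ×ˢ Set.univ)
    refine ⟨t, (hs.prod Set.countable_univ).image _, ?_⟩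
    have key : ∀ r : R, ∀ e, MvPowerSeries.coeff e (u r) ∈ Algebra.adjoin k t := by
      intro r
      have hr : r ∈ Algebra.adjoin S s := by rw [hgen]; trivial
      induction hr using Algebra.adjoin_induction with
      | mem x hx => exact fun e => Algebra.subset_adjoin ⟨(x, e), ⟨hx, trivial⟩, rfl⟩
      | algebraMap c =>
        intro e
        rw [AlgHom.commutes]
        exact Subalgebra.algebraMap_mem _ (MvPowerSeries.coeff e c)
      | add x y _ _ hx hy => intro e; rw [map_add, map_add]; exact add_mem (hx e) (hy e)
      | mul x y _ _ hx hy =>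
        intro e; rw [map_mul, MvPowerSeries.coeff_mul]
        exact sum_mem fun p _ => mul_mem (hx _) (hy _)
    rw [eq_top_iff]
    intro x _
    obtain ⟨p, rfl⟩ := Ideal.Quotient.mkₐ_surjective k J x
    induction p using MvPolynomial.induction_on with
    | C c => exact Subalgebra.algebraMap_mem _ c
    | add a b ha hb => rw [map_add]; exact add_mem (ha trivial) (hb trivial)
    | mul_X a v ha => rw [map_mul]; exact mul_mem (ha trivial) (key v.1 v.2)

end Groth.Agent.S15126
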