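import Groth.Statements.S15133
import Mathlib
-- import your own Groth.Agent.* helpers here

set_option autoImplicit false
universe u
open CategoryTheory
open CAlg

namespace Groth.Agent.S15133

open scoped TensorProduct
section
variable {A : Type u} [CommRing A] {P Q : Type u} [AddCommGroup P] [Module A P] [AddCommGroup Q] [Module A Q]

lemma tensor_sq {N N' : Type u} [AddCommGroup N] [Module A N] [AddCommGroup N'] [Module A N']
    (h : N →ₗ[A] N') (d : P →ₗ[A] Q) (x : N ⊗[A] P) :
    d.lTensor N' (h.rTensor P x) = h.rTensor Q (d.lTensor N x) := by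
  rw [← LinearMap.comp_apply, LinearMap.lTensor_comp_rTensor, ← LinearMap.comp_apply,
    LinearMap.rTensor_comp_lTensor]

variable {N' N N'' : Type u} [AddCommGroup N'] [Module A N'] [AddCommGroup N] [Module A N]
  [AddCommGroup N''] [Module A N''] (f : N' →ₗ[A] N) (q : N →ₗ[A] N'')

lemma devissage_inj (hf : Function.Injective f) (hq : Function.Surjective q) (hfq : Function.Exact f q)
    [Module.Flat A Q] (d : P →ₗ[A] Q) (h' : Function.Injective (d.lTensor N'))
    (h'' : Function.Injective (d.lTensor N'')) : Function.Injective (d.lTensor N) := by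
  rw [injective_iff_map_eq_zero]
  intro x hx
  have h1 : q.rTensor P x = 0 := h'' (by rw [tensor_sq, hx, map_zero, map_zero])
  obtain ⟨x', rfl⟩ := ((rTensor_exact P hfq hq) x).mp h1
  rw [tensor_sq] at hx
  have h2 : d.lTensor N' x' = 0 :=
    Module.Flat.rTensor_preserves_injective_linearMap (M := Q) f hf (by rw [hx, map_zero])
  rw [h' (h2.trans (map_zero _).symm), map_zero]

lemma devissage_exact (hf : Function.Injective f) (hq : Function.Surjective q) (hfq : Function.Exact f q)
    {R : Type u} [AddCommGroup R] [Module A R] [Module.Flat A R] (d : P →ₗ[A] Q) (e : Q →ₗ[A] R)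
    (hde : e.comp d = 0) (h' : Function.Exact (d.lTensor N') (e.lTensor N'))
    (h'' : Function.Exact (d.lTensor N'') (e.lTensor N'')) : Function.Exact (d.lTensor N) (e.lTensor N) := by
  intro x
  constructor
  · intro hx
    have h1 : e.lTensor N'' (q.rTensor Q x) = 0 := by rw [tensor_sq, hx, map_zero]
    obtain ⟨y'', hy⟩ := (h'' _).mp h1
    obtain ⟨y, rfl⟩ := LinearMap.rTensor_surjective P hq y''
    have h2 : q.rTensor Q (x - d.lTensor N y) = 0 := by
      rw [map_sub, ← tensor_sq, hy, sub_self]
    obtain ⟨x', hx'⟩ := ((rTensor_exact Q hfq hq) _).mp h2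
    have h3 : e.lTensor N' x' = 0 := by
      refine Module.Flat.rTensor_preserves_injective_linearMap (M := R) f hf ?_
      rw [← tensor_sq, hx', map_sub, hx, ← LinearMap.lTensor_comp_apply, hde, map_zero]
      simp
    obtain ⟨z, rfl⟩ := (h' _).mp h3
    rw [← tensor_sq] at hx'
    exact ⟨f.rTensor P z + y, by rw [map_add, hx', sub_add_cancel]⟩
  · rintro ⟨y, rfl⟩
    rw [← LinearMap.lTensor_comp_apply, hde]
    simp

lemma rTensor_subtype_injective_of_lTensor (a : Ideal A) [Module.Flat A Q] (d : P →ₗ[A] Q)
    (h : Function.Injective (d.lTensor a)) : Function.Injective (a.subtype.rTensor P) := by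
  intro x y hxy
  refine h (Module.Flat.rTensor_preserves_injective_linearMap (M := Q) a.subtype a.subtype_injective ?_)
  rw [← tensor_sq, ← tensor_sq, hxy]

lemma coker_injective {R : Type u} [AddCommGroup R] [Module A R] [Module.Flat A R] (a : Ideal A)
    (d : P →ₗ[A] Q) (e : Q →ₗ[A] R) (hde : e.comp d = 0)
    (h : Function.Exact (d.lTensor (A ⧸ a)) (e.lTensor (A ⧸ a))) :
    Function.Injective (a.subtype.rTensor (R ⧸ LinearMap.range e)) := by
  set π := (LinearMap.range e).mkQ with hπ
  have hex : Function.Exact e π := LinearMap.exact_map_mkQ_range e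
  have hπs : Function.Surjective π := Submodule.mkQ_surjective _
  have hq : Function.Exact a.subtype a.mkQ := LinearMap.exact_subtype_mkQ a
  have hqs : Function.Surjective a.mkQ := Submodule.mkQ_surjective a
  rw [injective_iff_map_eq_zero]
  intro x hx
  obtain ⟨x', rfl⟩ := LinearMap.lTensor_surjective a hπs x
  rw [← tensor_sq] at hx
  obtain ⟨y, hy⟩ := ((lTensor_exact A hex hπs) _).mp hx
  have h1 : e.lTensor (A ⧸ a) (a.mkQ.rTensor Q y) = 0 := by
    rw [tensor_sq, hy, ← LinearMap.rTensor_comp_apply, hq.linearMap_comp_eq_zero]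
    simp
  obtain ⟨z', hz⟩ := (h _).mp h1
  obtain ⟨z, rfl⟩ := LinearMap.rTensor_surjective P hqs z'
  have h2 : a.mkQ.rTensor Q (y - d.lTensor A z) = 0 := by rw [map_sub, ← tensor_sq, hz, sub_self]
  obtain ⟨w, hw⟩ := ((rTensor_exact Q hq hqs) _).mp h2
  have h3 : x' = e.lTensor a w := by
    refine Module.Flat.rTensor_preserves_injective_linearMap (M := R) a.subtype a.subtype_injective ?_
    rw [← tensor_sq, hw, map_sub, hy, ← LinearMap.lTensor_comp_apply, hde]
    simp
  rw [h3, ← LinearMap.lTensor_comp_apply, hex.linearMap_comp_eq_zero]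
  simp

end

/-- Let A be an Artinian local ring with residue field k, n ≥ 1, and 0 → I → P₀ → P₁ → ⋯ → Pₙ a complex
of A-modules with P₀, …, Pₙ flat whose reduction 0 → k ⊗ I → k ⊗ P₀ → ⋯ → k ⊗ Pₙ is exact. Then I
and coker(Pₙ₋₁ → Pₙ) are flat. The complex is written as a cochain complex C indexed by ℕ with C⁰ =
I and Cⁱ⁺¹ = Pᵢ; its terms in degrees above n + 1 play no role. (The published statement adds that I
maps onto the kernel of k ⊗ P₀ → k ⊗ P₁, which is already part of the exactness hypothesis, and is
for local Artinian algebras over an algebraically closed field of characteristic zero having that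
field as residue field; this row allows any Artinian local ring.) -/
theorem result
    (A : Type u) [CommRing A] [IsLocalRing A] [IsArtinianRing A] (n : ℕ) (hn : 0 < n)
    (C : CochainComplex (ModuleCat.{u} A) ℕ)
    (hflat : ∀ i, i ≤ n → Module.Flat A (C.X (i + 1)))
    (hred : ∀ j, j ≤ n →
      (((MonoidalCategory.tensorLeft (ModuleCat.of A (IsLocalRing.ResidueField A))).mapHomologicalComplex
        (ComplexShape.up ℕ)).obj C).ExactAt j) :
    Module.Flat A (C.X 0) ∧ Module.Flat A (C.X (n + 1) ⧸ LinearMap.range (C.d n (n + 1)).hom) := by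
  classical
  obtain ⟨m, rfl⟩ : ∃ m, n = m + 1 := ⟨n - 1, by omega⟩
  set k := IsLocalRing.ResidueField A
  let g : ∀ j, C.X j →ₗ[A] C.X (j + 1) := fun j => (C.d j (j + 1)).hom
  have hgg : ∀ j, (g (j + 1)).comp (g j) = 0 := fun j => by
    rw [← ModuleCat.hom_comp, C.d_comp_d]; rfl
  let T := ((MonoidalCategory.tensorLeft (ModuleCat.of A k)).mapHomologicalComplex (ComplexShape.up ℕ)).obj C
  have hk0 : Function.Injective ((g 0).lTensor k) := by
    have h := (T.exactAt_iff' 0 0 1 (by simp) (by simp)).mp (hred 0 (Nat.zero_le _))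
    rw [CategoryTheory.ShortComplex.moduleCat_exact_iff_range_eq_ker] at h
    have h0 : T.d 0 0 = 0 := T.shape 0 0 (by simp)
    simp only [HomologicalComplex.shortComplexFunctor'_obj_f, HomologicalComplex.shortComplexFunctor'_obj_g, h0,
      ModuleCat.hom_zero, LinearMap.range_zero] at h
    refine LinearMap.ker_eq_bot.mp (h.symm.trans ?_)
    exact LinearMap.range_zero
  have hk : ∀ j ≤ m, Function.Exact ((g j).lTensor k) ((g (j + 1)).lTensor k) := by
    intro j hj
    have h := (T.exactAt_iff' j (j + 1) (j + 1 + 1) (by simp) (by simp)).mp (hred (j + 1) (by omega))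
    rw [CategoryTheory.ShortComplex.moduleCat_exact_iff_range_eq_ker] at h
    exact LinearMap.exact_iff.mpr h.symm
  have hall : ∀ (N : Type u) [AddCommGroup N] [Module A N] [Module.Finite A N],
      Function.Injective ((g 0).lTensor N) ∧
        ∀ j ≤ m, Function.Exact ((g j).lTensor N) ((g (j + 1)).lTensor N) := by
    suffices H : ∀ (N : Type u) [AddCommGroup N] [Module A N], IsFiniteLength A N →
        Function.Injective ((g 0).lTensor N) ∧
          ∀ j ≤ m, Function.Exact ((g j).lTensor N) ((g (j + 1)).lTensor N) by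
      intro N _ _ _
      exact H N (isFiniteLength_iff_isNoetherian_isArtinian.mpr ⟨inferInstance, inferInstance⟩)
    intro N _ _ hN
    induction hN with
    | @of_subsingleton N _ _ _ =>
      have : ∀ i, Subsingleton (N ⊗[A] C.X i) := fun i => inferInstance
      exact ⟨fun x y _ => Subsingleton.elim x y, fun j _ x => ⟨fun _ => ⟨0, Subsingleton.elim _ _⟩, fun _ => Subsingleton.elim _ _⟩⟩
    | @of_simple_quotient N _ _ N' hs _ ih =>
      obtain ⟨m', hm', ⟨e⟩⟩ := isSimpleModule_iff_quot_maximal.mp hs
      obtain rfl := IsLocalRing.eq_maximalIdeal hm'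
      let q : N →ₗ[A] k := e.toLinearMap.comp N'.mkQ
      have hq : Function.Surjective q := e.surjective.comp (Submodule.mkQ_surjective N')
      have hex : Function.Exact N'.subtype q := by
        rw [LinearMap.exact_iff]
        exact (LinearEquiv.ker_comp e _).trans (by rw [Submodule.ker_mkQ, Submodule.range_subtype])
      haveI := hflat 0 (Nat.zero_le _)
      refine ⟨devissage_inj _ q N'.injective_subtype hq hex (g 0) ih.1 hk0, fun j hj => ?_⟩
      haveI := hflat (j + 1) (by omega)
      exact devissage_exact _ q N'.injective_subtype hq hex (g j) (g (j + 1)) (hgg j) (ih.2 j hj) (hk j hj)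
  haveI := hflat 0 (Nat.zero_le _)
  haveI := hflat (m + 1) le_rfl
  constructor
  · rw [Module.Flat.iff_rTensor_injective]
    intro a _
    exact rTensor_subtype_injective_of_lTensor a (g 0) (hall a).1
  · rw [Module.Flat.iff_rTensor_injective]
    intro a _
    exact coker_injective a (g m) (g (m + 1)) (hgg m) ((hall (A ⧸ a)).2 m le_rfl)

end Groth.Agent.S15133
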