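import Groth.Statements.S15153
import Groth.Agent.S14336

set_option autoImplicit false
universe u
open TensorProduct
open HilbZeta

namespace Groth.Agent.S15153

open scoped TensorProduct

theorem span_map {A K : Type u} [CommRing A] [CommRing K] [Algebra A K] {ι : Type} (T : Set (ι → A)) :
    Submodule.span K ((Algebra.linearMap A K).compLeft ι '' T) =
      Submodule.span K ((Algebra.linearMap A K).compLeft ι '' (Submodule.span A T : Set (ι → A))) := by
  refine le_antisymm (Submodule.span_mono (Set.image_mono Submodule.subset_span)) (Submodule.span_le.2 ?_)
  rintro _ ⟨x, hx, rfl⟩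
  induction hx using Submodule.span_induction with
  | mem x hx => exact Submodule.subset_span ⟨x, hx, rfl⟩
  | zero => simp
  | add x y _ _ h1 h2 => rw [map_add]; exact add_mem h1 h2
  | smul a x _ h => rw [map_smul]; exact Submodule.smul_of_tower_mem _ a h

/-- Rank of the fibres of a family of endomorphisms, in coordinates of a dual basis. -/
theorem finrank_span_baseChange {A : Type u} [CommRing A] {Q : Type u} [AddCommGroup Q] [Module A Q]
    {m : ℕ} {φ : Q →ₗ[A] Fin m → A} {π : (Fin m → A) →ₗ[A] Q} (h : π ∘ₗ φ = LinearMap.id)
    (T : Set (Q →ₗ[A] Q)) (K : Type u) [Field K] [Algebra A K] :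
    Module.finrank K (Submodule.span K ((fun g => LinearMap.baseChange K g) '' T)) =
      Module.finrank K (Submodule.span K ((Algebra.linearMap A K).compLeft (Fin m × Fin m) ''
        ((fun g ij => φ (g (π (Pi.single ij.2 1))) ij.1) '' T))) := by
  let Φ : Fin m → (K ⊗[A] Q →ₗ[K] K) := fun i =>
    (TensorProduct.AlgebraTensorModule.rid A K K).toLinearMap ∘ₗ (LinearMap.proj i ∘ₗ φ).baseChange K
  let q : Fin m → K ⊗[A] Q := fun j => 1 ⊗ₜ π (Pi.single j 1)
  let L : Module.End K (K ⊗[A] Q) →ₗ[K] (Fin m × Fin m → K) :=
    LinearMap.pi fun ij => Φ ij.1 ∘ₗ LinearMap.applyₗ (q ij.2)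
  have hid : ∀ v : K ⊗[A] Q, v = ∑ i, Φ i v • q i := by
    intro v
    induction v using TensorProduct.induction_on with
    | zero => simp
    | add x y hx hy =>
      simp only [map_add, add_smul, Finset.sum_add_distrib]
      rw [← hx, ← hy]
    | tmul c x =>
      simp only [Φ, q, LinearMap.comp_apply, LinearEquiv.coe_coe, LinearMap.baseChange_tmul,
        TensorProduct.AlgebraTensorModule.rid_tmul, LinearMap.proj_apply]
      have hx : x = ∑ i, φ x i • π (Pi.single i 1) := by
        conv_lhs => rw [← LinearMap.id_apply (R := A) x, ← h, LinearMap.comp_apply, pi_eq_sum_univ' (φ x)]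
        simp [map_sum, map_smul]
      conv_lhs => rw [hx, TensorProduct.tmul_sum]
      refine Finset.sum_congr rfl fun i _ => ?_
      rw [TensorProduct.smul_tmul', smul_eq_mul, mul_one, ← TensorProduct.smul_tmul]
  have hinj : Function.Injective L := fun F G hFG => LinearMap.ext fun v => by
    rw [hid v]
    simp only [map_sum, map_smul]
    refine Finset.sum_congr rfl fun j _ => congrArg _ ?_
    rw [hid (F (q j)), hid (G (q j))]
    exact Finset.sum_congr rfl fun i _ => congrArg (· • q i) (congrFun hFG (i, j))
  rw [((Submodule.span K ((fun g => LinearMap.baseChange K g) '' T)).equivMapOfInjective L hinj).finrank_eq,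
    Submodule.map_span, Set.image_image, Set.image_image]
  refine congrArg (fun s => Module.finrank K (Submodule.span K s)) (Set.image_congr fun g _ => funext fun ij => ?_)
  simp only [L, Φ, q, LinearMap.pi_apply, LinearMap.comp_apply, LinearMap.applyₗ_apply_apply, LinearEquiv.coe_coe,
    LinearMap.baseChange_tmul, TensorProduct.AlgebraTensorModule.rid_tmul, LinearMap.proj_apply,
    LinearMap.compLeft_apply, Function.comp_apply, Algebra.linearMap_apply]
  rw [Algebra.smul_def, mul_one]

/-- Let A be a Noetherian commutative ring, S a commutative A-algebra and Q an S-module which is finite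
and flat as an A-module. For a prime p of A with residue field κ(p), multiplication by an element of
S induces a κ(p)-linear endomorphism of the fibre κ(p) ⊗_A Q; let φ(p) be the κ(p)-dimension of the
span of these endomorphisms, which is the colength of the annihilator of the fibre module κ(p) ⊗_A Q
in the fibre algebra κ(p) ⊗_A S (the length of the smallest subscheme of the fibre carrying it).
Then p ↦ φ(p) is a constructible function: for every n the primes with φ(p) = n form a constructible
subset of Spec A. (The published statement is for a coherent sheaf, flat and finite over a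
Noetherian base, on a family of reduced curve singularities with a section, and its function of the
base point is this colength; the curve hypotheses play no role and the row is the affine form over
any Noetherian ring.) -/
theorem result (A : Type u) [CommRing A] [IsNoetherianRing A]
    (S : Type u) [CommRing S] [Algebra A S]
    (Q : Type u) [AddCommGroup Q] [Module A Q] [Module S Q] [IsScalarTower A S Q]
    [Module.Finite A Q] [Module.Flat A Q] (n : ℕ) :
    Topology.IsConstructible {p : PrimeSpectrum A |
      Module.finrank p.asIdeal.ResidueField
        (Submodule.span p.asIdeal.ResidueField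
          (Set.range fun s : S =>
            LinearMap.baseChange p.asIdeal.ResidueField (DistribSMul.toLinearMap A Q s))) = n} := by
  classical
  haveI := Module.finitePresentation_of_finite A Q
  haveI : Module.Projective A Q := Module.Flat.projective_of_finitePresentation
  obtain ⟨m, π, φ, -, -, h⟩ := Module.Finite.exists_comp_eq_id_of_projective A Q
  let T : Set (Q →ₗ[A] Q) := Set.range fun s : S => DistribSMul.toLinearMap A Q s
  let C : Set (Fin m × Fin m → A) := (fun g ij => φ (g (π (Pi.single ij.2 1))) ij.1) '' T
  obtain ⟨r, g, hg⟩ := Submodule.fg_iff_exists_fin_generating_family.1 (IsNoetherian.noetherian (Submodule.span A C))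
  let ψ : (Fin r → A) →ₗ[A] (Fin m × Fin m → A) := Fintype.linearCombination A g
  have key : ∀ p : PrimeSpectrum A, Module.finrank p.asIdeal.ResidueField
      (Submodule.span p.asIdeal.ResidueField
        (Set.range fun s : S => LinearMap.baseChange p.asIdeal.ResidueField (DistribSMul.toLinearMap A Q s))) =
      Module.finrank p.asIdeal.ResidueField ↥(LinearMap.range (ψ.baseChange p.asIdeal.ResidueField)) := by
    intro p
    let K := p.asIdeal.ResidueField
    rw [show (Set.range fun s : S => LinearMap.baseChange K (DistribSMul.toLinearMap A Q s)) =
      (fun g => LinearMap.baseChange K g) '' T by rw [← Set.range_comp]; rfl,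
      finrank_span_baseChange h T K, span_map C, ← hg, ← span_map]
    let e := TensorProduct.piScalarRight A K K (Fin m × Fin m)
    rw [← (e.submoduleMap (LinearMap.range (ψ.baseChange K))).symm.finrank_eq]
    have himg : Submodule.span K ((Algebra.linearMap A K).compLeft (Fin m × Fin m) '' Set.range g) =
        (LinearMap.range (ψ.baseChange K)).map e.toLinearMap := by
      apply le_antisymm
      · rw [Submodule.span_le]
        rintro _ ⟨_, ⟨l, rfl⟩, rfl⟩
        refine ⟨ψ.baseChange K (1 ⊗ₜ Pi.single l 1), LinearMap.mem_range_self _ _, funext fun ij => ?_⟩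
        simp [e, ψ, Fintype.linearCombination_apply_single, TensorProduct.piScalarRight_apply, Algebra.smul_def]
      · rintro _ ⟨_, ⟨v, rfl⟩, rfl⟩
        induction v using TensorProduct.induction_on with
        | zero => simp
        | add x y hx hy => rw [map_add, map_add]; exact add_mem hx hy
        | tmul c x =>
          have hx : ψ x ∈ Submodule.span A (Set.range g) := by
            rw [← Fintype.range_linearCombination]; exact LinearMap.mem_range_self _ _
          have : e.toLinearMap (ψ.baseChange K (c ⊗ₜ x)) = c • (Algebra.linearMap A K).compLeft _ (ψ x) := by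
            funext ij
            simp [e, TensorProduct.piScalarRight_apply, Algebra.smul_def, mul_comm]
          rw [this, span_map]
          exact Submodule.smul_mem _ c (Submodule.subset_span ⟨_, hx, rfl⟩)
    rw [himg]
  simp_rw [key]
  have hopen := fun j : ℕ => lowerSemicontinuous_iff_isOpen_preimage.1 (S14336.result A _ _ ψ) j
  have hcons : ∀ {U : Set (PrimeSpectrum A)}, IsOpen U → Topology.IsConstructible U := fun {U} hU =>
    (TopologicalSpace.NoetherianSpace.isCompact U).isConstructible hU
  rcases n with _ | n
  · convert (hcons (hopen 0)).compl using 1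
    ext p
    simp
  · convert (hcons (hopen n)).sdiff (hcons (hopen (n + 1))) using 1
    ext p
    simp only [Set.mem_ofPred_eq, Set.mem_sdiff, Set.mem_preimage, Set.mem_Ioi]
    omega

end Groth.Agent.S15153
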