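import Groth.Statements.S15155
import Mathlib
import Groth.Agent.GalCohMisc.Symplectic
-- import your own Groth.Agent.* helpers here

set_option autoImplicit false
open CAlg

namespace Groth.Agent.S15155

open Matrix in
theorem det_J (m : ℕ) (R : Type*) [CommRing R] :
    (Matrix.fromBlocks 0 1 (-1) 0 : Matrix (Fin m ⊕ Fin m) (Fin m ⊕ Fin m) R).det = 1 := by
  have : (Matrix.fromBlocks 0 1 (-1) 0 : Matrix (Fin m ⊕ Fin m) (Fin m ⊕ Fin m) R) =
      Matrix.fromBlocks 1 1 0 1 * Matrix.fromBlocks 1 0 (-1) 1 * Matrix.fromBlocks 1 1 0 1 := by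
    simp [Matrix.fromBlocks_multiply]
  rw [this]
  simp

open Matrix in
theorem isSquare_det_of_skew {m : ℕ} {R : Type*} [CommRing R] [IsDomain R] [IsIntegrallyClosed R] [CharZero R]
    (N : Matrix (Fin m ⊕ Fin m) (Fin m ⊕ Fin m) R) (hN : N.transpose = -N) : ∃ q : R, N.det = q ^ 2 := by
  let K := FractionRing R
  haveI : CharZero K := charZero_of_injective_algebraMap (IsFractionRing.injective R K)
  let NK := N.map (algebraMap R K)
  suffices ∃ y : K, NK.det = y ^ 2 by
    obtain ⟨y, hy⟩ := this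
    have hy' : algebraMap R K N.det = y ^ 2 := by rw [← hy, RingHom.map_det]; rfl
    have hint : IsIntegral R y := IsIntegral.of_pow (n := 2) (by norm_num) (hy' ▸ isIntegral_algebraMap)
    obtain ⟨q, hq⟩ := IsIntegrallyClosed.isIntegral_iff.1 hint
    exact ⟨q, IsFractionRing.injective R K (by rw [hy', map_pow, hq])⟩
  by_cases h0 : NK.det = 0
  · exact ⟨0, by rw [h0]; simp⟩
  have hNK : NK.transpose = -NK := by
    ext i j
    have h := congrFun (congrFun hN i) j
    simp only [transpose_apply, neg_apply] at h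
    simp [NK, h]
  have halt : ∀ M : Matrix (Fin m ⊕ Fin m) (Fin m ⊕ Fin m) K, M.transpose = -M →
      (Matrix.toBilin' M).IsAlt := fun M hM v => by
    have h : Matrix.toBilin' M v v = -(Matrix.toBilin' M v v) := by
      simp only [Matrix.toBilin'_apply']
      conv_lhs => rw [dotProduct_mulVec, ← mulVec_transpose, hM, neg_mulVec, neg_dotProduct, dotProduct_comm]
    exact CharZero.eq_neg_self_iff.1 h
  have hsep : ∀ M : Matrix (Fin m ⊕ Fin m) (Fin m ⊕ Fin m) K, M.det ≠ 0 →
      (Matrix.toBilin' M).SeparatingLeft := fun M hM =>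
    (LinearMap.BilinForm.nondegenerate_toBilin'_of_det_ne_zero' M hM).1
  let J : Matrix (Fin m ⊕ Fin m) (Fin m ⊕ Fin m) K := Matrix.fromBlocks 0 1 (-1) 0
  have hJ : J.transpose = -J := by simp [J, Matrix.fromBlocks_transpose, Matrix.fromBlocks_neg]; exact (neg_neg _).symm
  obtain ⟨e, he⟩ := Groth.Agent.GalCohMisc.exists_symplectic_equiv (Matrix.toBilin' NK) (halt _ hNK) (hsep _ h0)
    (Matrix.toBilin' J) (halt _ hJ) (hsep _ (by rw [det_J]; exact one_ne_zero)) rfl
  have hcomp : Matrix.toBilin' NK = (Matrix.toBilin' J).comp e.toLinearMap e.toLinearMap :=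
    LinearMap.ext fun a => LinearMap.ext fun b => (he a b).symm
  rw [← Matrix.toLin'_toMatrix' e.toLinearMap, Matrix.toBilin'_comp] at hcomp
  refine ⟨(LinearMap.toMatrix' e.toLinearMap).det, ?_⟩
  rw [Matrix.toBilin'.injective hcomp, Matrix.det_mul, Matrix.det_mul, Matrix.det_transpose, det_J]
  ring

/-- Let J be the 2m × 2m block matrix with blocks 0, I_m in the first row and −I_m, 0 in the second,
over the complex numbers. On the set of complex 2m × 2m matrices A with ᵗA · J = J · A (equivalently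
ᵗA = J A J⁻¹, J being invertible), the characteristic polynomial is the square of a single
polynomial in the entries of A with coefficients in ℂ[X], and the determinant is the square of a
single polynomial in the entries of A. -/
theorem result (m : ℕ) :
    (∃ P : MvPolynomial ((Fin m ⊕ Fin m) × (Fin m ⊕ Fin m)) (Polynomial ℂ),
      ∀ A : Matrix (Fin m ⊕ Fin m) (Fin m ⊕ Fin m) ℂ,
        A.transpose * Matrix.fromBlocks 0 1 (-1) 0 = Matrix.fromBlocks 0 1 (-1) 0 * A →
        A.charpoly = (MvPolynomial.eval (fun ij => Polynomial.C (A ij.1 ij.2)) P) ^ 2) ∧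
    (∃ Q : MvPolynomial ((Fin m ⊕ Fin m) × (Fin m ⊕ Fin m)) ℂ,
      ∀ A : Matrix (Fin m ⊕ Fin m) (Fin m ⊕ Fin m) ℂ,
        A.transpose * Matrix.fromBlocks 0 1 (-1) 0 = Matrix.fromBlocks 0 1 (-1) 0 * A →
        A.det = (MvPolynomial.eval (fun ij => A ij.1 ij.2) Q) ^ 2) := by
  classical
  have main : ∀ (S : Type) [CommRing S] [IsDomain S] [IsIntegrallyClosed (MvPolynomial ((Fin m ⊕ Fin m) × (Fin m ⊕ Fin m)) S)]
      [CharZero S] (c : ℂ →+* S) (x : S), ∃ P : MvPolynomial ((Fin m ⊕ Fin m) × (Fin m ⊕ Fin m)) S,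
      ∀ A : Matrix (Fin m ⊕ Fin m) (Fin m ⊕ Fin m) ℂ,
        A.transpose * Matrix.fromBlocks 0 1 (-1) 0 = Matrix.fromBlocks 0 1 (-1) 0 * A →
        (x • (1 : Matrix (Fin m ⊕ Fin m) (Fin m ⊕ Fin m) S) - A.map c).det =
          (MvPolynomial.eval (fun ij => c (A ij.1 ij.2)) P) ^ 2 := by
    intro S _ _ _ _ c x
    let I := (Fin m ⊕ Fin m) × (Fin m ⊕ Fin m)
    let G : Matrix (Fin m ⊕ Fin m) (Fin m ⊕ Fin m) (MvPolynomial I S) := fun i j => MvPolynomial.X (i, j)
    let J : Matrix (Fin m ⊕ Fin m) (Fin m ⊕ Fin m) (MvPolynomial I S) := Matrix.fromBlocks 0 1 (-1) 0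
    let N := (MvPolynomial.C x : MvPolynomial I S) • J - (MvPolynomial.C (c (1 / 2)) : MvPolynomial I S) • (J * G - (J * G).transpose)
    have hJ : J.transpose = -J := by simp [J, Matrix.fromBlocks_transpose, Matrix.fromBlocks_neg]
    obtain ⟨P, hP⟩ := isSquare_det_of_skew N (by
      simp only [N, Matrix.transpose_sub, Matrix.transpose_smul, hJ, Matrix.transpose_transpose, smul_neg]
      rw [smul_sub, smul_sub]
      abel)
    refine ⟨P, fun A hA => ?_⟩
    let ev := MvPolynomial.eval (fun ij : I => c (A ij.1 ij.2))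
    rw [← map_pow, ← hP, RingHom.map_det]
    let Jc : Matrix (Fin m ⊕ Fin m) (Fin m ⊕ Fin m) ℂ := Matrix.fromBlocks 0 1 (-1) 0
    let Js : Matrix (Fin m ⊕ Fin m) (Fin m ⊕ Fin m) S := Matrix.fromBlocks 0 1 (-1) 0
    have hJs : Jc.map c = Js := by
      simp [Jc, Js, Matrix.fromBlocks_map, Matrix.map_one, Matrix.map_neg]
    have hskew : (Jc * A).transpose = -(Jc * A) := by
      have hJc : Jc.transpose = -Jc := by simp [Jc, Matrix.fromBlocks_transpose, Matrix.fromBlocks_neg]
      rw [Matrix.transpose_mul, hJc, Matrix.mul_neg, hA]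
    have hJev : ev.mapMatrix J = Js := by
      simp [J, Js, Matrix.fromBlocks_map, Matrix.map_one, Matrix.map_neg]
    have hGev : ev.mapMatrix G = A.map c := Matrix.ext fun i j => MvPolynomial.eval_X (i, j)
    have hN : ev.mapMatrix N = Js * (x • 1 - A.map c) := by
      have hhalf : c (1 / 2) * 2 = 1 := by rw [← map_ofNat c 2, ← map_mul]; norm_num
      have h1 : ev.mapMatrix (J * G) = (Jc * A).map c := by rw [map_mul, hJev, hGev, Matrix.map_mul, hJs]
      have h2 : ev.mapMatrix ((J * G).transpose) = -((Jc * A).map c) := by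
        rw [RingHom.mapMatrix_apply, Matrix.transpose_map, ← RingHom.mapMatrix_apply, h1, ← Matrix.transpose_map,
          hskew, Matrix.map_neg _ (fun a => map_neg c a)]
      have h1' := h1; have h2' := h2; have hJev' := hJev
      ext i j
      replace h1' := congrFun (congrFun h1' i) j
      replace h2' := congrFun (congrFun h2' i) j
      replace hJev' := congrFun (congrFun hJev' i) j
      simp only [RingHom.mapMatrix_apply, Matrix.map_apply, Matrix.neg_apply] at h1' h2' hJev'
      simp only [N, ev, RingHom.mapMatrix_apply, Matrix.map_apply, Matrix.sub_apply, Matrix.smul_apply,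
        smul_eq_mul, map_sub, map_mul, MvPolynomial.eval_C, Matrix.mul_sub, Matrix.mul_smul, mul_one]
      simp only [ev] at h1' h2' hJev'
      rw [h1', h2', hJev', ← hJs, ← Matrix.map_mul, Matrix.map_apply, Matrix.map_apply, sub_neg_eq_add,
        ← two_mul, ← mul_assoc, hhalf, one_mul]
    rw [hN, Matrix.det_mul, det_J, one_mul]
  refine ⟨?_, ?_⟩
  · obtain ⟨P, hP⟩ := main (Polynomial ℂ) Polynomial.C Polynomial.X
    refine ⟨P, fun A hA => ?_⟩
    rw [← hP A hA, Matrix.charpoly, Matrix.charmatrix, Matrix.smul_one_eq_diagonal]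
    rfl
  · obtain ⟨P, hP⟩ := main ℂ (RingHom.id ℂ) 0
    refine ⟨P, fun A hA => ?_⟩
    have h := hP A hA
    rw [zero_smul, zero_sub, Matrix.det_neg] at h
    simpa [Fintype.card_sum, ← two_mul, pow_mul] using h

end Groth.Agent.S15155
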