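import Groth.Statements.S15156
import Groth.Agent.VBCurvesLib.Basic
import Groth.Agent.SurfInt.Push
-- import your own Groth.Agent.* helpers here

set_option autoImplicit false
set_option linter.style.haveILetI false
set_option linter.unusedVariables false
set_option backward.isDefEq.respectTransparency false
set_option backward.isDefEq.respectTransparency.types false
open CategoryTheory CategoryTheory.Limits AlgebraicGeometry
open VBCurve

namespace Groth.Agent.S15156

open Groth.Agent Groth.Agent.CurveBundle Groth.Agent.CurveSlope Groth.Agent.CurveStable Groth.Agent.CurveDuality Groth.Agent.VBCurvesLib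

/-- Let X be a smooth proper integral curve of genus at least 2 over the complex numbers with an
involution σ ≠ id over the complex numbers, and (E, φ) a σ-linearized finite locally free module of
rank r ≥ 1: φ : σ^*E ≅ E with φ ∘ σ^*φ equal to the canonical identification σ^*σ^*E ≅ E. A
submodule F ⊂ E is σ-invariant when the composite σ^*F → σ^*E → E factors through F. Then (E, φ) is
semistable with respect to σ-invariant finite locally free submodules (deg F · r ≤ deg E · rk F for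
each such F of positive rank) if and only if E is slope-semistable (the same inequality for every
finite locally free submodule of positive rank); degrees are χ − rank · χ(O). -/
theorem result
    (X : Scheme.{0}) [X.Over (Spec (CommRingCat.of ℂ))] [IsIntegral X] [IsProper (X ↘ Spec (CommRingCat.of ℂ))] [Smooth (X ↘ Spec (CommRingCat.of ℂ))]
    (hdim : topologicalKrullDim X = 1) (hg : 2 ≤ Curv2.genus ℂ X)
    (σ : X ⟶ X) (hσS : σ ≫ (X ↘ Spec (CommRingCat.of ℂ)) = X ↘ Spec (CommRingCat.of ℂ)) (hσ : σ ≫ σ = 𝟙 X) (hσ1 : σ ≠ 𝟙 X)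
    (r : ℕ) (hr : 0 < r) (E : X.Modules) (hE : FlatMod.IsFinLocFreeOfRank r E)
    (φ : (Scheme.Modules.pullback σ).obj E ≅ E)
    (hφ : (Scheme.Modules.pullback σ).map φ.hom ≫ φ.hom =
      (Scheme.Modules.pullbackComp σ σ).hom.app E ≫ (Scheme.Modules.pullbackCongr hσ).hom.app E ≫
        (Scheme.Modules.pullbackId X).hom.app E) :
    (∀ (F : X.Modules) (r' : ℕ) (i : F ⟶ E), Mono i → 0 < r' → FlatMod.IsFinLocFreeOfRank r' F →
      (∃ j : (Scheme.Modules.pullback σ).obj F ⟶ F, j ≫ i = (Scheme.Modules.pullback σ).map i ≫ φ.hom) →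
      Curv2.deg ℂ X F r' * (r : ℤ) ≤ Curv2.deg ℂ X E r * (r' : ℤ)) ↔
    (∀ (F : X.Modules) (r' : ℕ) (i : F ⟶ E), Mono i → 0 < r' → FlatMod.IsFinLocFreeOfRank r' F →
      Curv2.deg ℂ X F r' * (r : ℤ) ≤ Curv2.deg ℂ X E r * (r' : ℤ)) := by
  refine ⟨fun h => ?_, fun h F r' i hi hr' hF _ => h F r' i hi hr' hF⟩
  haveI := CurveCohLib.isNoetherian_of_proper (k := ℂ) (X := X)
  haveI := isLocallyNoetherian' ℂ (X := X)
  obtain ⟨E₁, i₁, hi₁, hpos, hE₁, hQ, hrk, hd, h1, h2⟩ := exists_max_destab ℂ hdim hr hE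
  haveI := hi₁
  let T : X.Modules ⥤ X.Modules := Scheme.Modules.pushforward σ
  let η : 𝟭 X.Modules ≅ T ⋙ T :=
    (Scheme.Modules.pushforwardId X).symm ≪≫ Scheme.Modules.pushforwardCongr hσ.symm ≪≫
      (Scheme.Modules.pushforwardComp σ σ).symm
  let eqv : X.Modules ≌ X.Modules := CategoryTheory.Equivalence.mk T T η η.symm
  let θ : Scheme.Modules.pullback σ ≅ T :=
    (Scheme.Modules.pullbackPushforwardAdjunction σ).leftAdjointUniq eqv.symm.toAdjunction
  haveI : IsIso σ := ⟨⟨σ, hσ, hσ⟩⟩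
  let S₁ := (Scheme.Modules.pullback σ).obj E₁
  have hS₁f : FlatMod.IsFinLocFree S₁ := KFlatLib.isFinLocFree_pullback σ hE₁
  have hS₁r : FlatMod.IsFinLocFreeOfRank (rk E₁) S₁ := fun x => by
    obtain ⟨U, hx, ⟨a⟩⟩ := isFinLocFreeOfRank_rk hE₁ (σ.base x)
    exact ⟨σ ⁻¹ᵁ U, hx, ⟨((H23.PullPush.pullRestrictIso σ U).app _).symm ≪≫
      (Scheme.Modules.pullback (σ ∣_ U)).mapIso a ≪≫ KFlatLib.pullFreeIso _ _⟩⟩
  have hrS : rk S₁ = rk E₁ := rk_eq hS₁r
  have hdS : dg ℂ S₁ = dg ℂ E₁ := by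
    unfold dg
    rw [hrS, CurveCohLib.euler_congr (θ.app E₁),
      SurfInt.euler_push ℂ σ hσS (coh_of_free ℂ hE₁).1]
  have hT : T.IsEquivalence := eqv.isEquivalence_functor
  haveI : Mono ((Scheme.Modules.pullback σ).map i₁) := by
    haveI := hT
    haveI : Mono (T.map i₁) := inferInstance
    have e : (Scheme.Modules.pullback σ).map i₁ = (θ.app E₁).hom ≫ T.map i₁ ≫ (θ.app E).inv := by
      rw [← Category.assoc, Iso.eq_comp_inv]
      exact θ.hom.naturality i₁
    rw [e]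
    infer_instance
  let ψ : S₁ ⟶ E := (Scheme.Modules.pullback σ).map i₁ ≫ φ.hom
  haveI : Mono ψ := mono_comp _ _
  have h0 : ψ ≫ cokernel.π i₁ = 0 := by
    refine eq_zero_of_slopes ℂ hdim.le hS₁f hQ _ (fun G j hj hG => ?_) (fun H j hj hH hH0 => ?_)
    · haveI := hj
      rw [hrS, hdS]
      exact h1 G (j ≫ ψ) inferInstance hG
    · rw [hrS, hdS]
      exact h2 H j hj hH hH0
  let j₁ : S₁ ⟶ E₁ := (shortExact_cokernel_of_mono i₁).exact.lift ψ h0
  have hj₁ : j₁ ≫ i₁ = ψ := (shortExact_cokernel_of_mono i₁).exact.lift_f _ _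
  have hle := h E₁ (rk E₁) i₁ hi₁ hpos (isFinLocFreeOfRank_rk hE₁) ⟨j₁, hj₁⟩
  rw [deg_eq_dg ℂ hE, deg_eq_dg ℂ (isFinLocFreeOfRank_rk hE₁)] at hle
  intro F r' i hi hr' hF
  have hG := h1 F i hi (isFinLocFree_of_rank hF)
  rw [rk_eq hF] at hG
  rw [deg_eq_dg ℂ hE, deg_eq_dg ℂ hF]
  refine le_of_mul_le_mul_right ?_ (show (0 : ℤ) < rk E₁ by exact_mod_cast hpos)
  calc dg ℂ F * (r : ℤ) * (rk E₁ : ℤ) = dg ℂ F * (rk E₁ : ℤ) * r := by ring
    _ ≤ dg ℂ E₁ * (r' : ℤ) * r := mul_le_mul_of_nonneg_right hG (Int.natCast_nonneg r)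
    _ = dg ℂ E₁ * (r : ℤ) * r' := by ring
    _ ≤ dg ℂ E * (rk E₁ : ℤ) * r' := mul_le_mul_of_nonneg_right hle (Int.natCast_nonneg r')
    _ = dg ℂ E * (r' : ℤ) * (rk E₁ : ℤ) := by ring

end Groth.Agent.S15156
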