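import Groth.Statements.S15225
import Groth.Agent.VBCurvesLib.Secant
import Groth.Agent.VBCurvesLib.Higgs
-- import your own Groth.Agent.* helpers here

set_option autoImplicit false
set_option linter.style.haveILetI false
set_option linter.unusedVariables false
set_option backward.isDefEq.respectTransparency false
set_option backward.isDefEq.respectTransparency.types false
open CategoryTheory CategoryTheory.Limits AlgebraicGeometry MonoidalCategory
open VBCurve

namespace Groth.Agent.S15225

open Groth.Agent Groth.Agent.CurveBundle Groth.Agent.CurveSlope Groth.Agent.CurveStable Groth.Agent.CurveDuality Groth.Agent.VBCurvesLib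
open Groth.Agent.CurveHiggs (twist twist_comp twist_zero mono_twist)

/-- Let X be a smooth proper integral curve over ℂ of genus at least 2 which is non-hyperelliptic (no
invertible module of degree 2 has two independent global sections), K a module isomorphic to its
sheaf of differentials, and E a slope-stable finite locally free module of rank 2 and degree 0 or 1
(degrees are χ(−) minus rank times χ(O_X)). Call E very stable when every O_X-linear map α : E → E ⊗
K with α ∘ α = 0 (the composite E → E ⊗ K → (E ⊗ K) ⊗ K) is zero; for rank 2 this is the absence of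
non-zero nilpotent K-valued endomorphisms. Then E fails to be very stable exactly when E has a line
subbundle L, i.e. an invertible submodule whose quotient E/L is invertible, together with a non-zero
O_X-linear map E/L → L ⊗ K. (With det E = Λ and L the dual of a line bundle L₀ the space of such
maps is H^0(K ⊗ L₀^{-2} ⊗ Λ^{-1}), which is how the criterion is usually written.) -/
theorem result
    (X : Scheme.{0}) [X.Over (Spec (CommRingCat.of ℂ))] [IsIntegral X]
    [IsProper (X ↘ Spec (CommRingCat.of ℂ))] [Smooth (X ↘ Spec (CommRingCat.of ℂ))]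
    (hdim : topologicalKrullDim X = 1) (hg : 2 ≤ Curv2.genus ℂ X)
    (hnh : ∀ M : X.Modules, PicF.IsInvertible M → Curv2.deg ℂ X M 1 = 2 →
      Module.finrank ℂ (Coh.HH X M 0) ≤ 1)
    (K : X.Modules) (eK : K ≅ Omega.sheaf (X ↘ Spec (CommRingCat.of ℂ)))
    (E : X.Modules) (hE : FlatMod.IsFinLocFreeOfRank 2 E)
    (hdegE : Curv2.deg ℂ X E 2 = 0 ∨ Curv2.deg ℂ X E 2 = 1)
    (hst : ModFun.IsSlopeStable ℂ X E 2) :
    (¬ ∀ α : E ⟶ CohB1.tensorMod E K,
        α ≫ (CohB1.sheafifyMod X).map
          (MonoidalCategoryStruct.whiskerRight (C := CohB1.PMod X) α.val (CohB1.toPMod K)) = 0 → α = 0) ↔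
      ∃ (L : X.Modules) (j : L ⟶ E), PicF.IsInvertible L ∧ Mono j ∧ PicF.IsInvertible (cokernel j) ∧
        ∃ β : cokernel j ⟶ CohB1.tensorMod L K, β ≠ 0 := by
  haveI := CurveCohLib.isNoetherian_of_proper (k := ℂ) (X := X)
  have hO := CurveCohLib.finrank_h0_eq_one ℂ X
  have hK : PicF.IsInvertible K :=
    H23.PicMul.isInvertible_of_iso eK.symm (CurveBC.isInvertible_omega ℂ X hdim hO)
  have hKf := isFinLocFree_of_rank (InvEnd.isFinLocFreeOfRank_one hK)
  have hEf := isFinLocFree_of_rank hE
  constructor
  · intro hn
    push Not at hn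
    obtain ⟨α, hα, hα0⟩ := hn
    let α' : E ⟶ (DCoh.tensorBi.obj E).obj K := α
    have hαα : α' ≫ twist K α' = 0 := hα
    obtain ⟨I, π, jI, hjI, hπ, hfac, hN, hI, hrk, -, hpos, -⟩ :=
      exists_decomp ℂ hdim.le hEf (CurveHiggs.isFinLocFree_twist hK hEf) α'
    haveI := hjI
    haveI := hπ
    haveI := mono_twist hKf jI
    have h1 : jI ≫ twist K π = 0 := by
      rw [← cancel_mono (twist K jI), Category.assoc, ← twist_comp, hfac, zero_comp, ← cancel_epi π,
        ← Category.assoc, hfac, comp_zero]
      exact hαα
    have w : kernel.ι α' ≫ π = 0 := by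
      rw [← cancel_mono jI, Category.assoc, hfac, zero_comp, kernel.condition]
    let c : IsLimit (KernelFork.ofι (kernel.ι α') w) :=
      isKernelOfComp jI α' (limit.isLimit _) w hfac
    have hS : (ShortComplex.mk (kernel.ι α') π w).ShortExact :=
      { exact := ShortComplex.exact_of_f_is_kernel _ c
        mono_f := inferInstanceAs (Mono (kernel.ι α'))
        epi_g := hπ }
    obtain ⟨y, hy⟩ := CurveHiggs.exists_lift hKf (kernel.ι α') π w hS jI h1
    haveI : Mono (y ≫ twist K (kernel.ι α')) := hy ▸ hjI
    haveI : Mono y := mono_of_mono y (twist K (kernel.ι α'))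
    have hIN := rk_le_of_mono ℂ y (coh_of_free ℂ (CurveHiggs.isFinLocFree_twist hK hN))
    rw [(dg_twist ℂ hdim hK hN).1] at hIN
    have hI0 := hpos (fun h => hα0 h)
    rw [rk_eq hE] at hrk
    have hIr : rk I = 1 := by omega
    have hNr : rk (kernel α') = 1 := by omega
    have hI1 : FlatMod.IsFinLocFreeOfRank 1 I := hIr ▸ isFinLocFreeOfRank_rk hI
    have hN1 : FlatMod.IsFinLocFreeOfRank 1 (kernel α') := hNr ▸ isFinLocFreeOfRank_rk hN
    let e : cokernel (kernel.ι α') ≅ I :=
      (colimit.isColimit _).coconePointUniqueUpToIso (show IsColimit (CokernelCofork.ofπ π w) from hS.gIsCokernel)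
    refine ⟨kernel α', kernel.ι α', isInvertible_of_rank_one hN1, inferInstance,
      H23.PicMul.isInvertible_of_iso e.symm (isInvertible_of_rank_one hI1), e.hom ≫ y, fun h => ?_⟩
    refine CurveEnd.not_isZero I 1 one_pos hI1 ?_
    have hy0 : y = 0 := by
      have h' : e.hom ≫ y = 0 := h
      rw [← cancel_epi e.hom, h', comp_zero]
    rw [IsZero.iff_id_eq_zero, ← cancel_mono y]
    simp [hy0]
  · rintro ⟨L, j, hL, hj, -, β, hβ⟩ hvs
    haveI := hj
    haveI := mono_twist hKf j
    let β' : cokernel j ⟶ (DCoh.tensorBi.obj L).obj K := β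
    have h1 : cokernel.π j ≫ β' ≫ twist K j = 0 := by
      refine hvs (cokernel.π j ≫ β' ≫ twist K j) ?_
      show (cokernel.π j ≫ β' ≫ twist K j) ≫ twist K (cokernel.π j ≫ β' ≫ twist K j) = 0
      rw [twist_comp, Category.assoc, Category.assoc, ← Category.assoc (twist K j),
        ← twist_comp, cokernel.condition, twist_zero, zero_comp, comp_zero, comp_zero]
    exact hβ ((cancel_mono (twist K j)).1 (((cancel_epi (cokernel.π j)).1 (h1.trans comp_zero.symm)).trans
      zero_comp.symm))

end Groth.Agent.S15225
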