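import Groth.Statements.S15227
import Groth.Agent.VBCurvesLib.Secant
-- import your own Groth.Agent.* helpers here

set_option autoImplicit false
set_option linter.style.haveILetI false
set_option linter.unusedVariables false
set_option backward.isDefEq.respectTransparency false
set_option backward.isDefEq.respectTransparency.types false
open CategoryTheory CategoryTheory.Limits AlgebraicGeometry MonoidalCategory
open VBCurve

namespace Groth.Agent.S15227

open Groth.Agent Groth.Agent.CurveBundle Groth.Agent.CurveSlope Groth.Agent.CurveStable Groth.Agent.CurveDuality Groth.Agent.VBCurvesLib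

/-- Let X be a smooth proper integral curve over ℂ of genus g ≥ 3 which is non-hyperelliptic, K a module
isomorphic to its sheaf of differentials, and N an invertible module of degree g − 1 with H^0(N) =
0, so that the complete linear system of K ⊗ N maps X to a projective space of dimension 2g − 3 as a
curve of degree 3g − 3. An effective divisor D of degree d, recorded through its invertible ideal
sheaf I ⊂ O_X (of degree −d), is a d-secant when its linear span has dimension d − 2, i.e. h^0(I ⊗ K
⊗ N) = h^0(K ⊗ N) − d + 1. Then there is no (g − 1)-secant: no invertible ideal I ⊂ O_X of degree 1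
− g satisfies h^0(I ⊗ K ⊗ N) + (g − 2) = h^0(K ⊗ N). -/
theorem result
    (X : Scheme.{0}) [X.Over (Spec (CommRingCat.of ℂ))] [IsIntegral X]
    [IsProper (X ↘ Spec (CommRingCat.of ℂ))] [Smooth (X ↘ Spec (CommRingCat.of ℂ))]
    (hdim : topologicalKrullDim X = 1) (hg : 2 ≤ Curv2.genus ℂ X)
    (hnh : ∀ M : X.Modules, PicF.IsInvertible M → Curv2.deg ℂ X M 1 = 2 →
      Module.finrank ℂ (Coh.HH X M 0) ≤ 1)
    (K : X.Modules) (eK : K ≅ Omega.sheaf (X ↘ Spec (CommRingCat.of ℂ)))
    (g : ℕ) (hg3 : 3 ≤ g) (hgen : Curv2.genus ℂ X = g)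
    (N : X.Modules) (hN : PicF.IsInvertible N) (hdN : Curv2.deg ℂ X N 1 = (g : ℤ) - 1)
    (h0 : Module.finrank ℂ (Coh.HH X N 0) = 0) :
    ¬ ∃ (I : X.Modules) (ι : I ⟶ Coh.structureModule X),
        PicF.IsInvertible I ∧ Mono ι ∧ Curv2.deg ℂ X I 1 = -((g : ℤ) - 1) ∧
        Module.finrank ℂ (Coh.HH X (CohB1.tensorMod I (CohB1.tensorMod K N)) 0) + (g - 2) =
          Module.finrank ℂ (Coh.HH X (CohB1.tensorMod K N) 0) := by
  rintro ⟨I, ι, hI, hι, hdI, h⟩
  haveI := CurveCohLib.isNoetherian_of_proper (k := ℂ) (X := X)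
  have hm : 0 < g - 1 := by omega
  have hdN' : Curv2.deg ℂ X N 1 = ((g - 1 : ℕ) : ℤ) := by rw [hdN]; omega
  have hdI' : Curv2.deg ℂ X I 1 = -((g - 1 : ℕ) : ℤ) := by rw [hdI]; omega
  obtain ⟨e⟩ := (secant_iff ℂ (CurveCohLib.finrank_h0_eq_one ℂ X) hdim eK hI hN hm hdN' hdI').1
    (by rw [show g - 1 - 1 = g - 2 by omega]; exact h)
  obtain ⟨t, ht⟩ := exists_homOfTwist ℂ e ι
  haveI := S0002.result ℂ X N (coh_of_free ℂ (isFinLocFree_of_rank (InvEnd.isFinLocFreeOfRank_one hN))) 0
  haveI := (Module.finrank_zero_iff (R := ℂ)).1 h0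
  haveI : Subsingleton (Coh.HH X ((DCoh.tensorBi.obj N).obj (Coh.structureModule X)) 0) :=
    (CurveCohLib.hhEquiv (k := ℂ) (KFlatLib.tensorUnitIso N) 0).toEquiv.subsingleton
  refine CurveEnd.not_isZero I 1 one_pos (InvEnd.isFinLocFreeOfRank_one hI) ?_
  have hz : ι = 0 := by
    rw [← ht, Subsingleton.elim t 0]
    have h2 : homOfTwist e (Coh.structureModule X) (0 + 0) =
        homOfTwist e (Coh.structureModule X) 0 + homOfTwist e (Coh.structureModule X) 0 := by
      unfold homOfTwist
      rw [CurveSpecial.homOfClass_add, Functor.map_add, Preadditive.add_comp, Preadditive.comp_add]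
    rw [add_zero] at h2
    exact left_eq_add.1 h2
  rw [IsZero.iff_id_eq_zero, ← cancel_mono ι]
  simp [hz]

end Groth.Agent.S15227
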