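import Groth.Statements.S15228
import Groth.Agent.VBCurvesLib.Secant
-- import your own Groth.Agent.* helpers here

set_option autoImplicit false
set_option linter.style.haveILetI false
set_option linter.unusedVariables false
set_option backward.isDefEq.respectTransparency false
set_option backward.isDefEq.respectTransparency.types false
open CategoryTheory CategoryTheory.Limits AlgebraicGeometry MonoidalCategory
open VBCurve

namespace Groth.Agent.S15228

open Groth.Agent Groth.Agent.CurveBundle Groth.Agent.CurveSlope Groth.Agent.CurveStable Groth.Agent.CurveDuality Groth.Agent.VBCurvesLib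

/-- Let X be a smooth proper integral curve over ℂ of genus g ≥ 3 which is non-hyperelliptic, K a module
isomorphic to its sheaf of differentials, and N an invertible module of degree g with h^0(N) ≤ 1, so
that the complete linear system of K ⊗ N maps X to a projective space of dimension 2g − 2 as a curve
of degree 3g − 2. An effective divisor D of degree d, recorded through its invertible ideal sheaf I
⊂ O_X (of degree −d), is a d-secant when its linear span has dimension d − 2, i.e. h^0(I ⊗ K ⊗ N) =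
h^0(K ⊗ N) − d + 1. Then X has exactly one g-secant: some invertible ideal I ⊂ O_X of degree −g
satisfies h^0(I ⊗ K ⊗ N) + (g − 1) = h^0(K ⊗ N), and any two such ideals are equal as subobjects of
O_X (an isomorphism between them commutes with the inclusions). -/
theorem result
    (X : Scheme.{0}) [X.Over (Spec (CommRingCat.of ℂ))] [IsIntegral X]
    [IsProper (X ↘ Spec (CommRingCat.of ℂ))] [Smooth (X ↘ Spec (CommRingCat.of ℂ))]
    (hdim : topologicalKrullDim X = 1) (hg : 2 ≤ Curv2.genus ℂ X)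
    (hnh : ∀ M : X.Modules, PicF.IsInvertible M → Curv2.deg ℂ X M 1 = 2 →
      Module.finrank ℂ (Coh.HH X M 0) ≤ 1)
    (K : X.Modules) (eK : K ≅ Omega.sheaf (X ↘ Spec (CommRingCat.of ℂ)))
    (g : ℕ) (hg3 : 3 ≤ g) (hgen : Curv2.genus ℂ X = g)
    (N : X.Modules) (hN : PicF.IsInvertible N) (hdN : Curv2.deg ℂ X N 1 = (g : ℤ))
    (h0 : Module.finrank ℂ (Coh.HH X N 0) ≤ 1) :
    (∃ (I : X.Modules) (ι : I ⟶ Coh.structureModule X),
        PicF.IsInvertible I ∧ Mono ι ∧ Curv2.deg ℂ X I 1 = -((g : ℤ)) ∧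
        Module.finrank ℂ (Coh.HH X (CohB1.tensorMod I (CohB1.tensorMod K N)) 0) + (g - 1) =
          Module.finrank ℂ (Coh.HH X (CohB1.tensorMod K N) 0)) ∧
      ∀ (I I' : X.Modules) (ι : I ⟶ Coh.structureModule X) (ι' : I' ⟶ Coh.structureModule X),
        (PicF.IsInvertible I ∧ Mono ι ∧ Curv2.deg ℂ X I 1 = -((g : ℤ)) ∧
        Module.finrank ℂ (Coh.HH X (CohB1.tensorMod I (CohB1.tensorMod K N)) 0) + (g - 1) =
          Module.finrank ℂ (Coh.HH X (CohB1.tensorMod K N) 0)) →
        (PicF.IsInvertible I' ∧ Mono ι' ∧ Curv2.deg ℂ X I' 1 = -((g : ℤ)) ∧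
        Module.finrank ℂ (Coh.HH X (CohB1.tensorMod I' (CohB1.tensorMod K N)) 0) + (g - 1) =
          Module.finrank ℂ (Coh.HH X (CohB1.tensorMod K N) 0)) →
        ∃ φ : I' ≅ I, φ.hom ≫ ι = ι' := by
  haveI := CurveCohLib.isNoetherian_of_proper (k := ℂ) (X := X)
  have hO := CurveCohLib.finrank_h0_eq_one ℂ X
  have hm : 0 < g := by omega
  have hNc := coh_of_free ℂ (isFinLocFree_of_rank (InvEnd.isFinLocFreeOfRank_one hN))
  have hne : ∀ (I : X.Modules) (ι : I ⟶ Coh.structureModule X), PicF.IsInvertible I → Mono ι → ι ≠ 0 := by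
    intro I ι hI hι h
    refine CurveEnd.not_isZero I 1 one_pos (InvEnd.isFinLocFreeOfRank_one hI) ?_
    rw [IsZero.iff_id_eq_zero, ← cancel_mono ι]
    simp [h]
  refine ⟨?_, ?_⟩
  · obtain ⟨D, hD, hdD, ⟨e⟩⟩ := exists_inverse_deg ℂ hdim hN
    have hdD' : Curv2.deg ℂ X D 1 = -(g : ℤ) := by rw [hdD, hdN]
    obtain ⟨s, hs⟩ := CurveRR.exists_hom_ne_zero ℂ (P := N) (by
      have h1 := euler_le_h0 ℂ hdim.le hNc
      have h2 := hdN
      unfold Curv2.deg at h2
      rw [euler_structure ℂ hO hdim, hgen] at h2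
      push_cast at h2
      intro hz
      rw [hz] at h1
      push_cast at h1
      linarith)
    have e' : (DCoh.tensorBi.obj D).obj N ≅ Coh.structureModule X := CurveTensor.commIso D N ≪≫ e
    let ι : D ⟶ Coh.structureModule X :=
      (KFlatLib.tensorUnitIso D).inv ≫ (DCoh.tensorBi.obj D).map s ≫ e'.hom
    have hι : ι ≠ 0 := fun h => hs (CurveRR.eq_zero_of_map_eq_zero e _ (by
      rw [← cancel_epi (KFlatLib.tensorUnitIso D).inv, ← cancel_mono e'.hom, comp_zero, zero_comp,
        Category.assoc]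
      exact h))
    have hD1 := InvEnd.isFinLocFreeOfRank_one hD
    refine ⟨D, ι, hD, CurveSection.mono_of_ne_zero ℂ hdim.le (isFinLocFree_of_rank hD1) (rk_eq hD1)
      (isFinLocFree_of_rank (InvEnd.isFinLocFreeOfRank_one CurveDeg.isInvertible_structureModule)) ι hι,
      hdD', ?_⟩
    exact (secant_iff ℂ hO hdim eK hD hN hm hdN hdD').2 ⟨e'⟩
  · rintro I I' ι ι' ⟨hI, hι, hdI, h⟩ ⟨hI', hι', hdI', h'⟩
    obtain ⟨e⟩ := (secant_iff ℂ hO hdim eK hI hN hm hdN hdI).1 h
    obtain ⟨e'⟩ := (secant_iff ℂ hO hdim eK hI' hN hm hdN hdI').1 h'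
    exact exists_iso_of_inverse ℂ hdim hI hI' hN h0 e e' ι ι' (hne I ι hI hι) (hne I' ι' hI' hι')

end Groth.Agent.S15228
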