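import Groth.Statements.S15252
import Groth.Agent.CubicLib.Form
import Groth.Agent.SmoothFormLib.Forms
import Mathlib.Analysis.Complex.Polynomial.Basic

set_option autoImplicit false
open Fano

namespace Groth.Agent.S15252

open Groth.Agent.CubicLib Module in
/-- A smooth cubic threefold contains no plane. -/
theorem no_plane {f : MvPolynomial (Fin 5) ℂ} (G : Cubic ℂ (Fin 5 → ℂ))
    (hG : ∀ v, MvPolynomial.eval v f = G.F v)
    (hG' : ∀ v i, MvPolynomial.eval v (MvPolynomial.pderiv i f) = 3 * G.T v v (Pi.single i 1))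
    (hsm : ∀ u : Fin 5 → ℂ, u ≠ 0 → MvPolynomial.eval u f = 0 →
      ∃ i : Fin 5, MvPolynomial.eval u (MvPolynomial.pderiv i f) ≠ 0)
    (p a b : Fin 5 → ℂ) (hli : LinearIndependent ℂ ![p, a, b])
    (h : ∀ x y z : ℂ, G.F (x • p + y • a + z • b) = 0) : False := by
  classical
  obtain ⟨q₁, hq₁⟩ := exists_linearIndependent_snoc_of_lt_finrank hli (by rw [Module.finrank_fin_fun]; norm_num)
  obtain ⟨q₂, hq₂⟩ := exists_linearIndependent_snoc_of_lt_finrank hq₁ (by rw [Module.finrank_fin_fun]; norm_num)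
  let bas := basisOfLinearIndependentOfCardEqFinrank hq₂ (by simp)
  let Q : (Fin 5 → ℂ) → MvPolynomial (Fin 3) ℂ := fun q => ∑ i : Fin 3, ∑ j : Fin 3,
    MvPolynomial.C (G.T (![p, a, b] i) (![p, a, b] j) q) * MvPolynomial.X i * MvPolynomial.X j
  obtain ⟨w, hw0, hw⟩ := SmoothFormLib.exists_common_zero ({Q q₁, Q q₂} : Finset (MvPolynomial (Fin 3) ℂ))
    (lt_of_le_of_lt Finset.card_le_two (by norm_num)) (fun P hP => by
      simp only [Finset.mem_insert, Finset.mem_singleton] at hP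
      rcases hP with rfl | rfl <;> simp [Q])
  set u := w 0 • p + w 1 • a + w 2 • b with hu
  have hu0 : u ≠ 0 := fun h0 => hw0 (funext
    (Fintype.linearIndependent_iff.1 hli w (by simpa [Fin.sum_univ_three] using h0)))
  have hq : ∀ q, MvPolynomial.eval w (Q q) = G.T u u q := fun q => by
    simp [Q, hu, Fin.sum_univ_three]; ring
  let P : Submodule ℂ (Fin 5 → ℂ) := Submodule.span ℂ (Set.range ![p, a, b])
  have hP : ∀ v ∈ P, G.F v = 0 := fun v hv => by
    obtain ⟨c, rfl⟩ := (Submodule.mem_span_range_iff_exists_fun ℂ).1 hv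
    simpa [Fin.sum_univ_three] using h (c 0) (c 1) (c 2)
  have huP : u ∈ P := (Submodule.mem_span_range_iff_exists_fun ℂ).2 ⟨w, by simp [hu, Fin.sum_univ_three]⟩
  obtain ⟨i, hi⟩ := hsm u hu0 (by rw [hG]; exact hP u huP)
  refine hi ?_
  have hT : G.T u u = 0 := bas.ext fun j => by
    have hb : bas j = (Fin.snoc (Fin.snoc ![p, a, b] q₁) q₂ : Fin 5 → (Fin 5 → ℂ)) j := by simp [bas]
    rw [hb]
    have hmem : ∀ v ∈ ({p, a, b} : Set (Fin 5 → ℂ)), G.T u u v = 0 := fun v hv =>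
      G.T_eq_zero_of_F hP huP huP (Submodule.subset_span (by
        simpa [Matrix.range_cons, Matrix.range_empty, or_comm, or_left_comm] using hv))
    fin_cases j
    · exact hmem p (by simp)
    · exact hmem a (by simp)
    · exact hmem b (by simp)
    · show G.T u u q₁ = 0
      rw [← hq]; exact hw _ (by simp)
    · show G.T u u q₂ = 0
      rw [← hq]; exact hw _ (by simp)
  rw [hG', hT]; simp


/-- Let X be a smooth cubic hypersurface in projective 4-space over ℂ and let L₁, L₂ be two distinct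
lines on X which meet. Then there is a finite set G of points of L₁ such that every line on X
meeting both L₁ and L₂ passes through a point of G. Here X is given by a cubic form f in five
variables satisfying the Jacobian smoothness condition at every nonzero zero, a line on X is a
2-dimensional subspace of ℂ^5 on which f vanishes, two lines meet when the subspaces intersect
non-trivially, and a point of L₁ is a 1-dimensional subspace of it. (The published statement also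
covers two disjoint lines; this row assumes that L₁ and L₂ meet.) -/
theorem result
    (f : MvPolynomial (Fin 5) ℂ) (hf : f.IsHomogeneous 3)
    (hsm : ∀ u : Fin 5 → ℂ, u ≠ 0 → MvPolynomial.eval u f = 0 →
      ∃ i : Fin 5, MvPolynomial.eval u (MvPolynomial.pderiv i f) ≠ 0)
    (L₁ L₂ : Submodule ℂ (Fin 5 → ℂ)) (h₁ : Module.finrank ℂ ↥L₁ = 2) (h₂ : Module.finrank ℂ ↥L₂ = 2)
    (hf₁ : ∀ u ∈ L₁, MvPolynomial.eval u f = 0) (hf₂ : ∀ u ∈ L₂, MvPolynomial.eval u f = 0)
    (hne : L₁ ≠ L₂) (hmeet : L₁ ⊓ L₂ ≠ ⊥) :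
    ∃ G : Set (Submodule ℂ (Fin 5 → ℂ)), G.Finite ∧ (∀ g ∈ G, Module.finrank ℂ ↥g = 1 ∧ g ≤ L₁) ∧
      ∀ L : Submodule ℂ (Fin 5 → ℂ), Module.finrank ℂ ↥L = 2 → (∀ u ∈ L, MvPolynomial.eval u f = 0) →
        L ⊓ L₁ ≠ ⊥ → L ⊓ L₂ ≠ ⊥ → ∃ g ∈ G, g ≤ L := by
  classical
  obtain ⟨G, hG, hG', -⟩ := Groth.Agent.CubicLib.exists_cubic f hf
  obtain ⟨p, hp, hp0⟩ := (Submodule.ne_bot_iff _).1 hmeet
  have hext : ∀ L : Submodule ℂ (Fin 5 → ℂ), Module.finrank ℂ ↥L = 2 → ∀ q ∈ L, q ≠ 0 →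
      ∃ a ∈ L, LinearIndependent ℂ ![q, a] ∧ ∀ v ∈ L, ∃ x y : ℂ, v = x • q + y • a := by
    intro L hL q hq hq0
    have hlt : Submodule.span ℂ {q} < L := by
      refine lt_of_le_of_ne ((Submodule.span_singleton_le_iff_mem _ _).2 hq) fun h => ?_
      rw [← h, finrank_span_singleton hq0] at hL
      omega
    obtain ⟨a, ha, haq⟩ := SetLike.exists_of_lt hlt
    have hli : LinearIndependent ℂ ![q, a] :=
      (LinearIndependent.pair_iff' hq0).2 fun t ht => haq (Submodule.mem_span_singleton.2 ⟨t, ht⟩)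
    refine ⟨a, ha, hli, fun v hv => ?_⟩
    have e : Submodule.span ℂ {q, a} = L := by
      refine Submodule.eq_of_le_of_finrank_eq (Submodule.span_le.2 ?_) ?_
      · rintro z (rfl | rfl) <;> assumption
      · rw [hL, ← Matrix.range_cons_cons_empty q a ![], finrank_span_eq_card hli, Fintype.card_fin]
    obtain ⟨x, y, hxy⟩ := Submodule.mem_span_pair.1 (e.symm ▸ hv)
    exact ⟨x, y, hxy.symm⟩
  obtain ⟨a, ha, hli₁, hsp₁⟩ := hext L₁ h₁ p hp.1 hp0
  obtain ⟨b, hb, hli₂, hsp₂⟩ := hext L₂ h₂ p hp.2 hp0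
  have hbL : b ∉ L₁ := fun hb₁ => hne (Eq.symm (Submodule.eq_of_le_of_finrank_eq (fun v hv => by
    obtain ⟨x, y, rfl⟩ := hsp₂ v hv
    exact add_mem (L₁.smul_mem _ hp.1) (L₁.smul_mem _ hb₁)) (by rw [h₁, h₂])))
  have hli : LinearIndependent ℂ ![p, a, b] := by
    rw [Fintype.linearIndependent_iff]
    intro d hd
    simp only [Fin.sum_univ_three, Matrix.cons_val_zero, Matrix.cons_val_one, Matrix.cons_val] at hd
    have hd2 : d 2 = 0 := by
      by_contra h
      refine hbL ((L₁.smul_mem_iff h).1 ?_)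
      rw [show d 2 • b = -(d 0 • p + d 1 • a) from eq_neg_of_add_eq_zero_right hd]
      exact neg_mem (add_mem (L₁.smul_mem _ hp.1) (L₁.smul_mem _ ha))
    rw [hd2, zero_smul, add_zero] at hd
    obtain ⟨h0, h1⟩ := LinearIndependent.pair_iff.1 hli₁ _ _ hd
    intro i; fin_cases i <;> assumption
  set α := 6 * G.T p a b with hα
  set β := 3 * G.T a a b with hβ
  set γ := 3 * G.T a b b with hγ
  have hF : ∀ x y z : ℂ, G.F (x • p + y • a + z • b) = y * z * (α * x + β * y + γ * z) := by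
    intro x y z
    have v1 : ∀ u ∈ L₁, G.F u = 0 := fun u hu => (hG u).symm.trans (hf₁ u hu)
    have v2 : ∀ u ∈ L₂, G.F u = 0 := fun u hu => (hG u).symm.trans (hf₂ u hu)
    rw [G.F_comb₃, v1 p hp.1, v1 a ha, v2 b hb, G.T_eq_zero_of_F v1 hp.1 hp.1 ha,
      G.T_eq_zero_of_F v1 hp.1 ha ha, G.T_eq_zero_of_F v2 hp.2 hp.2 hb, G.T_eq_zero_of_F v2 hp.2 hb hb,
      hα, hβ, hγ]
    ring
  refine ⟨{g | Module.finrank ℂ ↥g = 1 ∧ g ≤ L₁ ∧
    (g = Submodule.span ℂ {p} ∨ g = Submodule.span ℂ {β • p - α • a})}, ?_, fun g hg => ⟨hg.1, hg.2.1⟩, ?_⟩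
  · exact ({Submodule.span ℂ {p}, Submodule.span ℂ {β • p - α • a}} : Set _).toFinite.subset fun g hg => hg.2.2
  intro L hL hLf hm₁ hm₂
  by_cases hpL : p ∈ L
  · exact ⟨_, ⟨finrank_span_singleton hp0, (Submodule.span_singleton_le_iff_mem _ _).2 hp.1, Or.inl rfl⟩,
      (Submodule.span_singleton_le_iff_mem _ _).2 hpL⟩
  obtain ⟨u, hu, hu0⟩ := (Submodule.ne_bot_iff _).1 hm₁
  obtain ⟨v, hv, hv0⟩ := (Submodule.ne_bot_iff _).1 hm₂
  obtain ⟨x, y, hxy⟩ := hsp₁ u hu.2
  obtain ⟨x', z', hxz⟩ := hsp₂ v hv.2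
  have hy : y ≠ 0 := fun h => hpL <| by
    rw [h, zero_smul, add_zero] at hxy
    exact (L.smul_mem_iff (fun hx => hu0 (by rw [hxy, hx, zero_smul]))).1 (hxy ▸ hu.1)
  have hz : z' ≠ 0 := fun h => hpL <| by
    rw [h, zero_smul, add_zero] at hxz
    exact (L.smul_mem_iff (fun hx => hv0 (by rw [hxz, hx, zero_smul]))).1 (hxz ▸ hv.1)
  have key : ∀ t : ℂ, t ≠ 0 → α * (x + t * x') + β * y + γ * (t * z') = 0 := fun t ht => by
    have h := hLf (u + t • v) (add_mem hu.1 (L.smul_mem t hv.1))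
    rw [hG, hxy, hxz, show x • p + y • a + t • (x' • p + z' • b) = (x + t * x') • p + y • a + (t * z') • b by module,
      hF] at h
    simpa [hy, hz, ht] using h
  have k1 := key 1 one_ne_zero
  have k2 := key 2 two_ne_zero
  have k0 : α * x + β * y = 0 := by linear_combination 2 * k1 - k2
  have k' : α * x' + γ * z' = 0 := by linear_combination k2 - k1
  have hαβ : α ≠ 0 ∨ β ≠ 0 := by
    by_contra! h
    refine no_plane G hG hG' hsm p a b hli fun x₀ y₀ z₀ => ?_
    have hγ0 : γ = 0 := by simpa [h.1, hz] using k'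
    rw [hF, h.1, h.2, hγ0]; ring
  have hne' : β • p - α • a ≠ 0 := fun h => by
    obtain ⟨h0, h1⟩ := LinearIndependent.pair_iff.1 hli₁ β (-α) (by rw [neg_smul, ← sub_eq_add_neg]; exact h)
    rcases hαβ with h' | h'
    · exact h' (neg_eq_zero.1 h1)
    · exact h' h0
  refine ⟨_, ⟨finrank_span_singleton hne', (Submodule.span_singleton_le_iff_mem _ _).2
    (sub_mem (L₁.smul_mem _ hp.1) (L₁.smul_mem _ ha)), Or.inr rfl⟩, (Submodule.span_singleton_le_iff_mem _ _).2 ?_⟩
  rcases eq_or_ne α 0 with h0 | h0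
  · exact absurd (by simpa [h0, hy] using k0) (hαβ.resolve_left (not_not.2 h0))
  · have e : y • (β • p - α • a) = (-α) • u := by
      rw [hxy]
      linear_combination (norm := module) k0 • p
    exact (L.smul_mem_iff hy).1 (e ▸ L.smul_mem _ hu.1)

end Groth.Agent.S15252
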