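import Groth.Statements.S15283
import Mathlib
import Groth.Agent.UnramMisc.FlatUnram
-- import your own Groth.Agent.* helpers here

set_option autoImplicit false
universe u
open CAlg

namespace Groth.Agent.S15283

section
variable {O E : Type u} [CommRing O] [IsDomain O] [ValuationRing O] [CommRing E] [IsDomain E] [ValuationRing E]
  [Algebra O E]

/-- Outside `P`, every element divides an element of `O` outside `p`. -/
lemma exists_dvd (hinj : Function.Injective (algebraMap O E)) [Algebra.IsAlgebraic O E] (P : Ideal E) [P.IsPrime]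
    (s : E) (hs : s ∉ P) : ∃ t : O, t ∉ P.comap (algebraMap O E) ∧ s ∣ algebraMap O E t := by
  classical
  obtain ⟨f, hf0, hf⟩ := (Algebra.IsAlgebraic.isAlgebraic (R := O) s)
  -- a coefficient dividing all others
  obtain ⟨i₁, hi₁, hmin⟩ : ∃ i ∈ f.support, ∀ j ∈ f.support, f.coeff i ∣ f.coeff j := by
    have key : ∀ G : Finset ℕ, G.Nonempty → ∃ i ∈ G, ∀ j ∈ G, f.coeff i ∣ f.coeff j := by
      intro G hG
      induction hG using Finset.Nonempty.cons_induction with
      | singleton a => exact ⟨a, by simp, by simp⟩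
      | cons a G ha hG ih =>
        obtain ⟨i, hi, hid⟩ := ih
        rcases ValuationRing.dvd_total (f.coeff a) (f.coeff i) with h | h
        · refine ⟨a, by simp, fun j hj => ?_⟩
          rcases Finset.mem_cons.mp hj with rfl | hj
          · exact dvd_rfl
          · exact h.trans (hid j hj)
        · refine ⟨i, Finset.mem_cons.mpr (Or.inr hi), fun j hj => ?_⟩
          rcases Finset.mem_cons.mp hj with rfl | hj
          · exact h
          · exact hid j hj
    exact key _ (Polynomial.support_nonempty.mpr hf0)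
  have hdvd : ∀ j, f.coeff i₁ ∣ f.coeff j := fun j => by
    by_cases hj : j ∈ f.support
    · exact hmin j hj
    · rw [Polynomial.notMem_support_iff.mp hj]; exact dvd_zero _
  obtain ⟨g, hgf⟩ : Polynomial.C (f.coeff i₁) ∣ f := (Polynomial.C_dvd_iff_dvd_coeff _ _).mpr hdvd
  have hc0 : f.coeff i₁ ≠ 0 := Polynomial.mem_support_iff.mp hi₁
  have hg1 : g.coeff i₁ = 1 := by
    have h1 := congrArg (fun q : Polynomial O => q.coeff i₁) hgf
    simp only [Polynomial.coeff_C_mul] at h1
    exact (mul_left_cancel₀ hc0 ((mul_one _).trans h1)).symm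
  have hg : Polynomial.aeval s g = 0 := by
    rw [hgf, map_mul, Polynomial.aeval_C] at hf
    exact (mul_eq_zero.mp hf).resolve_left fun h => hc0 (hinj (h.trans (map_zero _).symm))
  have hex : ∃ i, g.coeff i ∉ P.comap (algebraMap O E) := ⟨i₁, by
    rw [hg1, ← Ideal.eq_top_iff_one]; exact Ideal.IsPrime.ne_top'⟩
  let i₀ := Nat.find hex
  refine ⟨g.coeff i₀, Nat.find_spec hex, ?_⟩
  -- `g = low + X^i₀ (g_i₀ + X r)`
  let N := g.natDegree + i₀ + 1
  have hsum : ∑ i ∈ Finset.range N, algebraMap O E (g.coeff i) * s ^ i = 0 := by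
    rw [← hg, Polynomial.aeval_eq_sum_range' (show g.natDegree < N by omega)]
    exact Finset.sum_congr rfl fun i _ => (Algebra.smul_def _ _).symm
  rw [← Finset.sum_range_add_sum_Ico _ (show i₀ + 1 ≤ N by omega), Finset.sum_range_succ] at hsum
  have hlow : ∑ i ∈ Finset.range i₀, algebraMap O E (g.coeff i) * s ^ i ∈ P := Ideal.sum_mem _ fun i hi =>
    P.mul_mem_right _ (not_not.mp (Nat.find_min hex (Finset.mem_range.mp hi)))
  have hhigh : ∑ i ∈ Finset.Ico (i₀ + 1) N, algebraMap O E (g.coeff i) * s ^ i =
      s ^ i₀ * (s * ∑ i ∈ Finset.Ico (i₀ + 1) N, algebraMap O E (g.coeff i) * s ^ (i - (i₀ + 1))) := by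
    rw [← mul_assoc, ← pow_succ, Finset.mul_sum]
    refine Finset.sum_congr rfl fun i hi => ?_
    rw [mul_left_comm, ← pow_add, Nat.add_sub_cancel' (Finset.mem_Ico.mp hi).1]
  rw [hhigh] at hsum
  generalize ∑ i ∈ Finset.Ico (i₀ + 1) N, algebraMap O E (g.coeff i) * s ^ (i - (i₀ + 1)) = r at hsum
  have hmem : s ^ i₀ * (algebraMap O E (g.coeff i₀) + s * r) ∈ P := by
    rw [show s ^ i₀ * (algebraMap O E (g.coeff i₀) + s * r) =
      -(∑ i ∈ Finset.range i₀, algebraMap O E (g.coeff i) * s ^ i) by linear_combination hsum]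
    exact neg_mem hlow
  have hmem' := (Ideal.IsPrime.mem_or_mem ‹_› hmem).resolve_left fun h => hs (Ideal.IsPrime.mem_of_pow_mem ‹_› _ h)
  rcases ValuationRing.dvd_total s (algebraMap O E (g.coeff i₀) + s * r) with h | h
  · exact (dvd_add_left (dvd_mul_right s r)).mp h
  · exact absurd (P.mem_of_dvd h hmem') hs

lemma etale_of_composite (hinj : Function.Injective (algebraMap O E)) [IsLocalHom (algebraMap O E)]
    [Algebra.IsAlgebraic O E] (P : Ideal E) [P.IsPrime]
    (hA : (Localization.localRingHom (P.comap (algebraMap O E)) P (algebraMap O E) rfl).Etale)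
    (hB : (Ideal.quotientMap P (algebraMap O E) (le_refl (P.comap (algebraMap O E)))).Etale) :
    Algebra.Etale O E := by
  classical
  let p := P.comap (algebraMap O E)
  haveI : p.IsPrime := Ideal.IsPrime.comap _
  let φ := Localization.localRingHom p P (algebraMap O E) rfl
  letI : Algebra (Localization.AtPrime p) (Localization.AtPrime P) := φ.toAlgebra
  haveI hloc : IsLocalHom (algebraMap (Localization.AtPrime p) (Localization.AtPrime P)) := Localization.isLocalHom_localRingHom p P _ rfl
  haveI hAe : Algebra.Etale (Localization.AtPrime p) (Localization.AtPrime P) := hA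
  have hφ : ∀ x, algebraMap (Localization.AtPrime p) (Localization.AtPrime P) (algebraMap O (Localization.AtPrime p) x) =
      algebraMap E (Localization.AtPrime P) (algebraMap O E x) := fun x => Localization.localRingHom_to_map p P _ rfl x
  have hEinj : Function.Injective (algebraMap E (Localization.AtPrime P)) :=
    IsLocalization.injective _ P.primeCompl_le_nonZeroDivisors
  -- generators
  obtain ⟨Y, hY⟩ := (inferInstance : Algebra.FiniteType (Localization.AtPrime p) (Localization.AtPrime P)).out
  have hden : ∀ y : Localization.AtPrime P, ∃ (t : O) (e : E), t ∉ p ∧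
      y * algebraMap E (Localization.AtPrime P) (algebraMap O E t) = algebraMap E (Localization.AtPrime P) e := fun y => by
    obtain ⟨⟨e, s⟩, hes⟩ := IsLocalization.surj P.primeCompl y
    obtain ⟨t, ht, u, hu⟩ := exists_dvd hinj P s.1 s.2
    refine ⟨t, e * u, ht, ?_⟩
    rw [hu, map_mul, map_mul, ← mul_assoc, hes]
  choose tY eY htY heY using hden
  let qB := Ideal.quotientMap P (algebraMap O E) (le_refl p)
  letI : Algebra (O ⧸ p) (E ⧸ P) := qB.toAlgebra
  haveI hBe : Algebra.Etale (O ⧸ p) (E ⧸ P) := hB
  haveI : IsScalarTower O (O ⧸ p) (E ⧸ P) := IsScalarTower.of_algebraMap_eq fun x => rfl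
  obtain ⟨X, hX⟩ := (inferInstance : Algebra.FiniteType (O ⧸ p) (E ⧸ P)).out
  choose lift hlift using Ideal.Quotient.mk_surjective (I := P)
  let Z : Subalgebra O E := Algebra.adjoin O ((Y.image eY ∪ X.image lift : Finset E) : Set E)
  have hZY : ∀ y ∈ Y, eY y ∈ Z := fun y hy => Algebra.subset_adjoin (Finset.mem_coe.mpr (Finset.mem_union_left _ (Finset.mem_image_of_mem _ hy)))
  -- modulo `P`
  have hmod : ∀ c : E ⧸ P, ∃ z ∈ Z, Ideal.Quotient.mk P z = c := fun c => by
    have hc : c ∈ Algebra.adjoin (O ⧸ p) (X : Set (E ⧸ P)) := hX ▸ Algebra.mem_top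
    induction hc using Algebra.adjoin_induction with
    | mem x hx => exact ⟨lift x, Algebra.subset_adjoin (Finset.mem_coe.mpr (Finset.mem_union_right _ (Finset.mem_image_of_mem _ hx))), hlift x⟩
    | algebraMap r =>
      obtain ⟨r, rfl⟩ := Ideal.Quotient.mk_surjective r
      exact ⟨algebraMap O E r, Z.algebraMap_mem r, rfl⟩
    | add a b _ _ ha hb =>
      obtain ⟨z, hz, rfl⟩ := ha; obtain ⟨w, hw, rfl⟩ := hb
      exact ⟨z + w, Z.add_mem hz hw, map_add _ _ _⟩
    | mul a b _ _ ha hb =>
      obtain ⟨z, hz, rfl⟩ := ha; obtain ⟨w, hw, rfl⟩ := hb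
      exact ⟨z * w, Z.mul_mem hz hw, map_mul _ _ _⟩
  -- in the localization
  have hloc' : ∀ w : Localization.AtPrime P, ∃ (t : O) (z : E), t ∉ p ∧ z ∈ Z ∧
      w * algebraMap E (Localization.AtPrime P) (algebraMap O E t) = algebraMap E (Localization.AtPrime P) z := fun w => by
    have hw : w ∈ Algebra.adjoin (Localization.AtPrime p) (Y : Set (Localization.AtPrime P)) := hY ▸ Algebra.mem_top
    induction hw using Algebra.adjoin_induction with
    | mem y hy => exact ⟨tY y, eY y, htY y, hZY y hy, heY y⟩
    | algebraMap r =>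
      obtain ⟨⟨o, t⟩, hot⟩ := IsLocalization.surj p.primeCompl r
      refine ⟨t.1, algebraMap O E o, t.2, Z.algebraMap_mem o, ?_⟩
      rw [← hφ, ← hφ, ← map_mul, hot]
    | add a b _ _ ha hb =>
      obtain ⟨t, z, ht, hz, ha⟩ := ha; obtain ⟨t', z', ht', hz', hb⟩ := hb
      refine ⟨t * t', algebraMap O E t' * z + algebraMap O E t * z', fun h => (Ideal.IsPrime.mem_or_mem ‹p.IsPrime› h).elim ht ht',
        Z.add_mem (Z.mul_mem (Z.algebraMap_mem _) hz) (Z.mul_mem (Z.algebraMap_mem _) hz'), ?_⟩
      simp only [map_add, map_mul, ← ha, ← hb]; ring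
    | mul a b _ _ ha hb =>
      obtain ⟨t, z, ht, hz, ha⟩ := ha; obtain ⟨t', z', ht', hz', hb⟩ := hb
      refine ⟨t * t', z * z', fun h => (Ideal.IsPrime.mem_or_mem ‹p.IsPrime› h).elim ht ht', Z.mul_mem hz hz', ?_⟩
      simp only [map_mul, ← ha, ← hb]; ring
  -- `P = p E`, generated inside `Z`
  have hP : ∀ x ∈ P, x ∈ Z ∧ x ∈ p.map (algebraMap O E) := by
    intro x hx
    have h1 : algebraMap E (Localization.AtPrime P) x ∈ IsLocalRing.maximalIdeal (Localization.AtPrime P) := by
      rw [IsLocalization.AtPrime.to_map_mem_maximal_iff _ P]; exact hx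
    rw [← Algebra.FormallyUnramified.map_maximalIdeal (R := Localization.AtPrime p), ← Localization.AtPrime.map_eq_maximalIdeal,
      Ideal.map_map] at h1
    have key : ∀ y ∈ p.map ((algebraMap (Localization.AtPrime p) (Localization.AtPrime P)).comp (algebraMap O (Localization.AtPrime p))),
        ∃ z, z ∈ Z ∧ z ∈ p.map (algebraMap O E) ∧ algebraMap E (Localization.AtPrime P) z = y := by
      intro y hy
      have key2 : ∀ (a : O), a ∈ p → ∀ w : Localization.AtPrime P, ∃ z, z ∈ Z ∧ z ∈ p.map (algebraMap O E) ∧
          algebraMap E (Localization.AtPrime P) z = algebraMap E (Localization.AtPrime P) (algebraMap O E a) * w := by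
        intro a ha w
        obtain ⟨t, z, ht, hz, hw⟩ := hloc' w
        obtain ⟨b, rfl⟩ : t ∣ a := by
          rcases ValuationRing.dvd_total t a with h | h
          · exact h
          · exact absurd (Ideal.mem_of_dvd _ h ha) ht
        have hb : b ∈ p := (Ideal.IsPrime.mem_or_mem ‹p.IsPrime› ha).resolve_left ht
        refine ⟨algebraMap O E b * z, Z.mul_mem (Z.algebraMap_mem _) hz, Ideal.mul_mem_right _ _ (Ideal.mem_map_of_mem _ hb), ?_⟩
        rw [map_mul, ← hw, map_mul, map_mul]; ring
      rw [Ideal.map, ← Ideal.submodule_span_eq, Submodule.mem_span_set'] at hy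
      obtain ⟨n, c, g, rfl⟩ := hy
      choose a ha hag using fun i => (g i).2
      choose z hzZ hzp hz using fun i => key2 (a i) (ha i) (c i)
      refine ⟨∑ i, z i, Subalgebra.sum_mem Z fun i _ => hzZ i, Ideal.sum_mem _ fun i _ => hzp i, ?_⟩
      rw [map_sum]
      refine Finset.sum_congr rfl fun i _ => ?_
      rw [hz, ← hag, RingHom.comp_apply, hφ, smul_eq_mul, mul_comm]
    obtain ⟨z, hz, hzp, hzx⟩ := key _ h1
    rw [← hEinj hzx]
    exact ⟨hz, hzp⟩
  have htop : Z = ⊤ := Algebra.eq_top_iff.mpr fun e => by
    obtain ⟨z, hz, hze⟩ := hmod (Ideal.Quotient.mk P e)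
    rw [← sub_add_cancel e z]
    exact Z.add_mem (hP _ (Ideal.Quotient.eq.mp hze.symm)).1 hz
  haveI : Algebra.FiniteType O E := ⟨⟨_, htop⟩⟩
  haveI : Module.Flat O E := by
    rw [Module.Flat.flat_iff_torsion_eq_bot_of_isBezout, eq_bot_iff]
    rintro x ⟨r, hr⟩
    have h1 : algebraMap O E r.1 * x = 0 := (Algebra.smul_def r.1 x).symm.trans hr
    exact (Submodule.mem_bot O).mpr ((mul_eq_zero.mp h1).resolve_left fun h => nonZeroDivisors.ne_zero r.2 (hinj (h.trans (map_zero _).symm)))
  -- unramified
  haveI : IsLocalRing (O ⧸ p) := IsLocalRing.of_surjective' (Ideal.Quotient.mk p) Ideal.Quotient.mk_surjective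
  haveI : IsLocalRing (E ⧸ P) := IsLocalRing.of_surjective' (Ideal.Quotient.mk P) Ideal.Quotient.mk_surjective
  haveI : IsLocalHom (algebraMap (O ⧸ p) (E ⧸ P)) := ⟨fun x hx => by
    obtain ⟨x, rfl⟩ := Ideal.Quotient.mk_surjective x
    have h1 : IsUnit (Ideal.Quotient.mk P (algebraMap O E x)) := hx
    haveI : IsLocalHom (Ideal.Quotient.mk P) := IsLocalHom.of_surjective _ Ideal.Quotient.mk_surjective
    exact (isUnit_of_map_unit (algebraMap O E) x (isUnit_of_map_unit (Ideal.Quotient.mk P) _ h1)).map _⟩
  have hm : (IsLocalRing.maximalIdeal O).map (algebraMap O E) = IsLocalRing.maximalIdeal E := by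
    refine le_antisymm (IsLocalRing.map_maximalIdeal_le _) fun e he => ?_
    have h1 : Ideal.Quotient.mk P e ∈ IsLocalRing.maximalIdeal (E ⧸ P) := by
      rw [← IsLocalRing.map_maximalIdeal_of_surjective (Ideal.Quotient.mk P) Ideal.Quotient.mk_surjective]
      exact Ideal.mem_map_of_mem _ he
    rw [← Algebra.FormallyUnramified.map_maximalIdeal (R := O ⧸ p),
      ← IsLocalRing.map_maximalIdeal_of_surjective (Ideal.Quotient.mk p) Ideal.Quotient.mk_surjective, Ideal.map_map,
      show (algebraMap (O ⧸ p) (E ⧸ P)).comp (Ideal.Quotient.mk p) = (Ideal.Quotient.mk P).comp (algebraMap O E) from rfl,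
      ← Ideal.map_map] at h1
    obtain ⟨z, hz, hze⟩ := (Ideal.mem_map_iff_of_surjective _ Ideal.Quotient.mk_surjective).mp h1
    rw [← sub_add_cancel e z]
    exact add_mem (Ideal.map_mono (IsLocalRing.le_maximalIdeal Ideal.IsPrime.ne_top') (hP _ (Ideal.Quotient.eq.mp hze.symm)).2) hz
  haveI hk : Algebra.FormallyUnramified O (IsLocalRing.ResidueField E) := by
    haveI : Algebra.FormallyUnramified O (E ⧸ P) := Algebra.FormallyUnramified.comp O (O ⧸ p) (E ⧸ P)
    let π : E ⧸ P →ₐ[O] IsLocalRing.ResidueField E := Ideal.Quotient.liftₐ P (IsScalarTower.toAlgHom O E (IsLocalRing.ResidueField E))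
      fun a ha => (IsLocalRing.residue_eq_zero_iff a).mpr (IsLocalRing.le_maximalIdeal ‹P.IsPrime›.ne_top ha)
    exact Algebra.FormallyUnramified.of_surjective π fun x => by
      obtain ⟨a, rfl⟩ := IsLocalRing.residue_surjective x
      exact ⟨Ideal.Quotient.mk P a, rfl⟩
  haveI : Algebra.FormallyUnramified O E := by
    constructor
    rw [← IsLocalRing.subsingleton_tensorProduct (R := E)]
    refine subsingleton_of_forall_eq 0 fun x ↦ ?_
    obtain ⟨x, rfl⟩ := (KaehlerDifferential.exact_kerCotangentToTensor_mapBaseChange O E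
      (IsLocalRing.ResidueField E) Ideal.Quotient.mk_surjective x).mp (Subsingleton.elim _ _)
    obtain ⟨⟨x, hx⟩, rfl⟩ := Ideal.toCotangent_surjective _ x
    simp only [KaehlerDifferential.kerCotangentToTensor_toCotangent]
    replace hx : x ∈ Ideal.map (algebraMap O E) (IsLocalRing.maximalIdeal O) := by simpa [hm] using hx
    induction hx using Submodule.span_induction with
    | zero => simp
    | mem x h => obtain ⟨x, hx, rfl⟩ := h; simp
    | add x y hx hy _ _ => simp [*, TensorProduct.tmul_add]
    | smul a x hx _ =>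
      have : IsLocalRing.residue E x = 0 := by rwa [IsLocalRing.residue_eq_zero_iff, ← hm]
      simp [*, TensorProduct.tmul_add, TensorProduct.smul_tmul', ← Algebra.algebraMap_eq_smul_one]
  haveI : Algebra.FinitePresentation O E := UnramMisc.finitePresentation_of_flat_formallyUnramified (by
    rw [IsDomain.minimalPrimes_eq_singleton_bot]; exact Set.finite_singleton _)
  exact Algebra.Etale.of_formallyUnramified_of_flat

end

/-- Let L/K be a finite extension of valued fields, v_L extending v_K up to equivalence, such that the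
valuation rings K° and L° both have finitely many prime ideals, and let P be a prime ideal of L°
lying over the prime p of K°. Then v_K is composed from the valuation of K with ring the
localization (K°)_p and the valuation of the residue field of (K°)_p with ring K°/p, and similarly
for v_L with (L°)_P and L°/P. If the induced homomorphisms (K°)_p → (L°)_P and K°/p → L°/P are both
étale, then K° → L° is étale. (For finite extensions of valued fields of finite height, being
unramified is the same as the map of valuation rings being étale, so this is the statement that an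
extension composed from two unramified extensions is unramified.) -/
theorem result
    {K L Γ₀ Γ₁ : Type u} [Field K] [Field L] [Algebra K L] [FiniteDimensional K L]
    [LinearOrderedCommGroupWithZero Γ₀] [LinearOrderedCommGroupWithZero Γ₁]
    (vK : Valuation K Γ₀) (vL : Valuation L Γ₁) [vK.HasExtension vL]
    [Finite (PrimeSpectrum vK.valuationSubring)] [Finite (PrimeSpectrum vL.valuationSubring)]
    (P : Ideal vL.valuationSubring) [P.IsPrime]
    (hA : (Localization.localRingHom (Ideal.comap (algebraMap vK.valuationSubring vL.valuationSubring) P) P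
      (algebraMap vK.valuationSubring vL.valuationSubring) rfl).Etale)
    (hB : (Ideal.quotientMap P (algebraMap vK.valuationSubring vL.valuationSubring)
      (le_refl (Ideal.comap (algebraMap vK.valuationSubring vL.valuationSubring) P))).Etale) :
    Algebra.Etale vK.valuationSubring vL.valuationSubring := by
  have hinj : Function.Injective (algebraMap vK.valuationSubring vL.valuationSubring) := fun a b h =>
    Subtype.ext ((algebraMap K L).injective (congrArg Subtype.val h))
  haveI : Algebra.IsAlgebraic vK.valuationSubring vL.valuationSubring := ⟨fun x => by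
    haveI : Algebra.IsAlgebraic vK.valuationSubring L :=
      (IsFractionRing.comap_isAlgebraic_iff (A := vK.valuationSubring) (K := K) (C := L)).mpr inferInstance
    obtain ⟨f, hf, hfx⟩ := Algebra.IsAlgebraic.isAlgebraic (R := vK.valuationSubring) (x : L)
    refine ⟨f, hf, Subtype.ext ?_⟩
    rw [ZeroMemClass.coe_zero, ← hfx]
    exact (Polynomial.aeval_algHom_apply (IsScalarTower.toAlgHom vK.valuationSubring vL.valuationSubring L) x f).symm⟩
  exact etale_of_composite hinj P hA hB

end Groth.Agent.S15283
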