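import Groth.Statements.S15298
import Mathlib
import Groth.Agent.Adic7.Lift
-- import your own Groth.Agent.* helpers here

set_option autoImplicit false
universe u
open CAlg

namespace Groth.Agent.S15298

/-- Let k be a field, A a Noetherian k-algebra and x a non-zero-divisor of A such that A is separated
and complete for the (x)-adic topology, and assume that B = A/xA is formally smooth over k. Then A
is a power series ring over B in the variable x: there is a k-algebra isomorphism e : B[[T]] ≅ A
with e(T) = x whose reduction modulo x is the constant-coefficient map, i.e. e(f) ≡ f(0) mod x for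
every power series f. -/
theorem result (k A : Type u) [Field k]
    [CommRing A] [Algebra k A] [IsNoetherianRing A] (x : A) (hx : x ∈ nonZeroDivisors A)
    [IsAdicComplete (Ideal.span {x}) A] [Algebra.FormallySmooth k (A ⧸ Ideal.span {x})] :
    ∃ e : PowerSeries (A ⧸ Ideal.span {x}) ≃ₐ[k] A,
      e PowerSeries.X = x ∧
      ∀ f : PowerSeries (A ⧸ Ideal.span {x}),
        Ideal.Quotient.mk (Ideal.span {x}) (e f) = PowerSeries.constantCoeff f := by
  classical
  let B := A ⧸ Ideal.span {x}
  obtain ⟨σ, hσ⟩ := Algebra.FormallySmooth.exists_mkₐ_comp_eq_of_isAdicComplete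
    (R := k) (A := B) (S := A) (I := Ideal.span {x}) (AlgHom.id k B)
  have hσ' : ∀ b : B, Ideal.Quotient.mk (Ideal.span {x}) (σ b) = b := AlgHom.congr_fun hσ
  letI : Algebra B A := σ.toRingHom.toAlgebra
  let P := MvPolynomial Unit B
  let J : Ideal P := MvPolynomial.idealOfVars Unit B
  have hJ : J = Ideal.span (Set.range MvPolynomial.X) := rfl
  let g : P →ₐ[B] A := MvPolynomial.aeval fun _ => x
  have hg : J.map g ≤ Ideal.span {x} := by
    rw [hJ, Ideal.map_span, Ideal.span_le]
    rintro _ ⟨_, ⟨i, rfl⟩, rfl⟩
    rw [MvPolynomial.aeval_X]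
    exact Ideal.mem_span_singleton_self x
  obtain ⟨F₀, hF₀⟩ := Groth.Agent.Adic7.exists_lift_completion J (Ideal.span {x}) g hg
  let F : PowerSeries B →ₐ[B] A :=
    F₀.comp ((MvPowerSeries.toAdicCompletionAlgEquiv Unit B).restrictScalars B).toAlgHom
  have hFX : F PowerSeries.X = x := by
    have h : (MvPowerSeries.toAdicCompletionAlgEquiv Unit B).restrictScalars B (PowerSeries.X : PowerSeries B) =
        algebraMap P (AdicCompletion J P) (MvPolynomial.X ()) := by
      rw [show (PowerSeries.X : PowerSeries B) = ((MvPolynomial.X () : P) : MvPowerSeries Unit B) from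
        (MvPolynomial.coe_X ()).symm]
      exact MvPowerSeries.toAdicCompletion_coe _
    show F₀ _ = x
    refine (congrArg F₀ h).trans ?_
    rw [hF₀]
    exact MvPolynomial.aeval_X _ ()
  have hFC : ∀ b, F (PowerSeries.C b) = σ b := fun b => F.commutes b
  have hFs : ∀ f : PowerSeries B,
      F f = x * F (PowerSeries.mk fun i => PowerSeries.coeff (i + 1) f) + σ (PowerSeries.constantCoeff f) := fun f => by
    conv_lhs => rw [PowerSeries.eq_X_mul_shift_add_const f]
    rw [map_add, map_mul, hFX, hFC]
  have hFmod : ∀ f : PowerSeries B, Ideal.Quotient.mk (Ideal.span {x}) (F f) = PowerSeries.constantCoeff f := fun f => by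
    rw [hFs, map_add, map_mul, Ideal.Quotient.eq_zero_iff_mem.mpr (Ideal.mem_span_singleton_self x), zero_mul, zero_add, hσ']
  have hinj : Function.Injective F := by
    rw [injective_iff_map_eq_zero]
    intro f hf
    have key : ∀ (i : ℕ) (f : PowerSeries B), F f = 0 → PowerSeries.coeff i f = 0 := by
      intro i
      induction i with
      | zero => intro f hf; rw [PowerSeries.coeff_zero_eq_constantCoeff, ← hFmod, hf, map_zero]
      | succ i ih =>
        intro f hf
        have hc : PowerSeries.constantCoeff f = 0 := by rw [← hFmod, hf, map_zero]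
        rw [hFs, hc, map_zero, add_zero] at hf
        have := ih _ ((mem_nonZeroDivisors_iff.mp hx).1 _ hf)
        rwa [PowerSeries.coeff_mk] at this
    exact PowerSeries.ext fun i => by rw [key i f hf, map_zero]
  have hsurj : Function.Surjective F := by
    intro a
    have hstep : ∀ a : A, ∃ a', a = x * a' + σ (Ideal.Quotient.mk _ a) := fun a => by
      obtain ⟨a', ha'⟩ := Ideal.mem_span_singleton.mp (Ideal.Quotient.eq.mp (hσ' (Ideal.Quotient.mk _ a)).symm)
      exact ⟨a', by rw [← ha', sub_add_cancel]⟩
    choose next hnext using hstep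
    let ψ : A → PowerSeries B := fun a => PowerSeries.mk fun i => Ideal.Quotient.mk _ (next^[i] a)
    refine ⟨ψ a, ?_⟩
    have key : ∀ (n : ℕ) (a : A), F (ψ a) - a ∈ Ideal.span {x} ^ n := by
      intro n
      induction n with
      | zero => intro a; simp
      | succ n ih =>
        intro a
        have h1 : (PowerSeries.mk fun i => PowerSeries.coeff (i + 1) (ψ a)) = ψ (next a) := by
          ext i
          simp [ψ, Function.iterate_succ_apply]
        have h2 : PowerSeries.constantCoeff (ψ a) = Ideal.Quotient.mk _ a := by
          rw [← PowerSeries.coeff_zero_eq_constantCoeff_apply]; simp [ψ]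
        rw [hFs, h1, h2, show x * F (ψ (next a)) + σ (Ideal.Quotient.mk _ a) - a = x * (F (ψ (next a)) - next a) by
          linear_combination -(hnext a), pow_succ']
        exact Ideal.mul_mem_mul (Ideal.mem_span_singleton_self x) (ih _)
    refine (IsHausdorff.eq_iff_smodEq (I := Ideal.span {x})).mpr fun n => ?_
    rw [SModEq.sub_mem, Ideal.smul_eq_mul, Ideal.mul_top]
    exact key n a
  let e : PowerSeries B ≃+* A := RingEquiv.ofBijective F.toRingHom ⟨hinj, hsurj⟩
  refine ⟨AlgEquiv.ofRingEquiv (f := e) fun c => ?_, hFX, hFmod⟩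
  show F (algebraMap k (PowerSeries B) c) = _
  rw [IsScalarTower.algebraMap_apply k B (PowerSeries B) c, F.commutes]
  exact σ.commutes c

end Groth.Agent.S15298
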