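import Groth.Statements.S15311
import Groth.Agent.H44Hyper.AffineSpace

set_option autoImplicit false
universe u
open DeRhamSh

namespace Groth.Agent.S15311

open CategoryTheory AlgebraicGeometry TopologicalSpace in
/-- Let k be a field of characteristic zero and n ≥ 0. Then the algebraic de Rham cohomology of affine
n-space Spec k[x_1, …, x_n] over k, the hypercohomology of its de Rham complex, vanishes in every
degree i ≠ 0, and in degree 0 it is additively isomorphic to k (existence of an additive
isomorphism; the identification of H^0 with the constants is canonical). (The published computation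
also gives the de Rham homology of affine space; this row is the cohomology statement, for any de
Rham complex of affine n-space over k.) -/
theorem result (k : Type u) [Field k] [CharZero k] (n : ℕ)
    [QuasiSeparated (Spec.map (CommRingCat.ofHom (algebraMap k (MvPolynomial (Fin n) k))))]
    (D : DeRhamSh.OmegaCx (Spec.map (CommRingCat.ofHom (algebraMap k (MvPolynomial (Fin n) k)))))
    [HasDerivedCategory.{u} (Sheaf (Opens.grothendieckTopology ↥(Spec (CommRingCat.of (MvPolynomial (Fin n) k)))) AddCommGrpCat.{u})] :
    (∀ i : ℤ, i ≠ 0 → Subsingleton (DeRhamSh.HdR D i)) ∧ Nonempty (DeRhamSh.HdR D 0 ≃+ k) := by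
  obtain ⟨d, hd⟩ := H44Hyper.exists_isDiff k (MvPolynomial (Fin n) k)
  have hP := H44Hyper.poincare_mvPolynomial k n d hd
  refine ⟨fun i hi => ?_, ?_⟩
  · rcases lt_or_ge i 0 with h | h
    · exact H44Hyper.subsingleton_HdR_of_neg D i h
    · obtain ⟨m, rfl⟩ : ∃ m : ℕ, i = ((m + 1 : ℕ) : ℤ) := ⟨(i - 1).toNat, by omega⟩
      obtain ⟨e⟩ := H44Hyper.nonempty_HdR_addEquiv D hd (m + 1)
      have := H44Hyper.subsingleton_H_of_poincare hd hP m
      exact e.toEquiv.subsingleton
  · obtain ⟨e⟩ := H44Hyper.nonempty_HdR_addEquiv D hd 0
    obtain ⟨e0⟩ := H44Hyper.nonempty_H_zero hd hP (MvPolynomial.C_injective (Fin n) k)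
    exact ⟨e.trans e0⟩


end Groth.Agent.S15311
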