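import Groth.Statements.S15330
import Groth.Agent.VBCurvesLib.Higgs
-- import your own Groth.Agent.* helpers here

set_option autoImplicit false
set_option linter.style.haveILetI false
set_option linter.unusedVariables false
set_option backward.isDefEq.respectTransparency false
set_option backward.isDefEq.respectTransparency.types false
open CategoryTheory AlgebraicGeometry CategoryTheory.Limits
open VBCurve

namespace Groth.Agent.S15330

open Groth.Agent.CurveBundle Groth.Agent.CurveSlope Groth.Agent.CurveStable Groth.Agent.VBCurvesLib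
open Groth.Agent.CurveHiggs (twist twist_comp twist_zero mono_twist)

/-- Let X be a smooth proper integral curve over the complex numbers, L an invertible module on X, and
(E, φ_E), (F, φ_F) two L-valued Higgs bundles on X of the same rank r ≥ 1 and the same degree d
(degree = χ − rank · χ(O)), each semistable: deg G · r ≤ d · s for every finite locally free
submodule G of rank s ≥ 1 to which the Higgs field restricts. Let E_0 ⊂ E_1 ⊂ … ⊂ E_n = E with E_0 =
0 and F = F_0 ⊃ F_1 ⊃ … ⊃ F_n = 0 be chains of finite locally free submodules to which the Higgs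
fields restrict, of ranks with rk E_i + rk F_i = r, which are opposite: E_{i+1}/E_i ≅ F_i/F_{i+1} as
O-modules for i < n. Then every E_i of positive rank and every F_i of positive rank has slope d/r,
that is deg · r = d · rank, and is semistable for its restricted Higgs field; and each graded piece
E_{i+1}/E_i of positive rank is finite locally free of rank rk E_{i+1} − rk E_i, of slope d/r, and
semistable for every Higgs field on it compatible with that of E_{i+1} along the projection. (The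
published statement indexes the second chain so that F_i/F_{i+1} matches E_i/E_{i−1} and takes the
isomorphisms of graded pieces as Higgs bundles; here they are assumed as O-modules only, together
with the rank bookkeeping rk E_i + rk F_i = r that they imply.) -/
theorem result
    (X : Scheme.{0}) [X.Over (Spec (CommRingCat.of ℂ))] [IsIntegral X]
    [IsProper (X ↘ Spec (CommRingCat.of ℂ))] [Smooth (X ↘ Spec (CommRingCat.of ℂ))]
    (hdim : topologicalKrullDim X = 1)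
    (L : X.Modules) (hL : PicF.IsInvertible L) (r : ℕ) (hr : 0 < r) (d : ℤ)
    (E : X.Modules) (hE : FlatMod.IsFinLocFreeOfRank r E) (φE : E ⟶ CohB1.tensorMod E L)
    (hEd : Curv2.deg ℂ X E r = d)
    (hEss : (∀ (G : X.Modules) (s : ℕ) (j : G ⟶ E) (χ : G ⟶ CohB1.tensorMod G L), Mono j → 0 < s →
        FlatMod.IsFinLocFreeOfRank s G →
        χ ≫ (CohB1.sheafifyMod X).map (MonoidalCategoryStruct.whiskerRight (C := CohB1.PMod X) j.val (CohB1.toPMod L)) = j ≫ φE →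
        Curv2.deg ℂ X G s * (r : ℤ) ≤ Curv2.deg ℂ X E r * (s : ℤ)))
    (F : X.Modules) (hF : FlatMod.IsFinLocFreeOfRank r F) (φF : F ⟶ CohB1.tensorMod F L)
    (hFd : Curv2.deg ℂ X F r = d)
    (hFss : (∀ (G : X.Modules) (s : ℕ) (j : G ⟶ F) (χ : G ⟶ CohB1.tensorMod G L), Mono j → 0 < s →
        FlatMod.IsFinLocFreeOfRank s G →
        χ ≫ (CohB1.sheafifyMod X).map (MonoidalCategoryStruct.whiskerRight (C := CohB1.PMod X) j.val (CohB1.toPMod L)) = j ≫ φF →
        Curv2.deg ℂ X G s * (r : ℤ) ≤ Curv2.deg ℂ X F r * (s : ℤ)))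
    (n : ℕ)
    (Es : ℕ → X.Modules) (rE : ℕ → ℕ) (hEs : ∀ i, FlatMod.IsFinLocFreeOfRank (rE i) (Es i))
    (ιE : ∀ i, Es i ⟶ E) (hιE : ∀ i, Mono (ιE i))
    (ψE : ∀ i, Es i ⟶ CohB1.tensorMod (Es i) L)
    (hψE : ∀ i, ψE i ≫ (CohB1.sheafifyMod X).map (MonoidalCategoryStruct.whiskerRight (C := CohB1.PMod X) (ιE i).val (CohB1.toPMod L)) = ιE i ≫ φE)
    (a : ∀ i, Es i ⟶ Es (i + 1)) (ha : ∀ i, a i ≫ ιE (i + 1) = ιE i)
    (hE0 : IsZero (Es 0)) (hEn : IsIso (ιE n))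
    (Fs : ℕ → X.Modules) (rF : ℕ → ℕ) (hFs : ∀ i, FlatMod.IsFinLocFreeOfRank (rF i) (Fs i))
    (ιF : ∀ i, Fs i ⟶ F) (hιF : ∀ i, Mono (ιF i))
    (ψF : ∀ i, Fs i ⟶ CohB1.tensorMod (Fs i) L)
    (hψF : ∀ i, ψF i ≫ (CohB1.sheafifyMod X).map (MonoidalCategoryStruct.whiskerRight (C := CohB1.PMod X) (ιF i).val (CohB1.toPMod L)) = ιF i ≫ φF)
    (b : ∀ i, Fs (i + 1) ⟶ Fs i) (hb : ∀ i, b i ≫ ιF i = ιF (i + 1))
    (hF0 : IsIso (ιF 0)) (hFn : IsZero (Fs n))
    (hrk : ∀ i, i ≤ n → rE i + rF i = r)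
    (hopp : ∀ i, i < n → Nonempty (cokernel (a i) ≅ cokernel (b i))) :
    (∀ i, i ≤ n → 0 < rE i →
      Curv2.deg ℂ X (Es i) (rE i) * (r : ℤ) = d * (rE i : ℤ) ∧
      (∀ (G : X.Modules) (s : ℕ) (j : G ⟶ (Es i)) (χ : G ⟶ CohB1.tensorMod G L), Mono j → 0 < s →
        FlatMod.IsFinLocFreeOfRank s G →
        χ ≫ (CohB1.sheafifyMod X).map (MonoidalCategoryStruct.whiskerRight (C := CohB1.PMod X) j.val (CohB1.toPMod L)) = j ≫ ψE i →
        Curv2.deg ℂ X G s * (rE i : ℤ) ≤ Curv2.deg ℂ X (Es i) (rE i) * (s : ℤ))) ∧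
    (∀ i, i ≤ n → 0 < rF i →
      Curv2.deg ℂ X (Fs i) (rF i) * (r : ℤ) = d * (rF i : ℤ) ∧
      (∀ (G : X.Modules) (s : ℕ) (j : G ⟶ (Fs i)) (χ : G ⟶ CohB1.tensorMod G L), Mono j → 0 < s →
        FlatMod.IsFinLocFreeOfRank s G →
        χ ≫ (CohB1.sheafifyMod X).map (MonoidalCategoryStruct.whiskerRight (C := CohB1.PMod X) j.val (CohB1.toPMod L)) = j ≫ ψF i →
        Curv2.deg ℂ X G s * (rF i : ℤ) ≤ Curv2.deg ℂ X (Fs i) (rF i) * (s : ℤ))) ∧
    (∀ i, i < n → rE i < rE (i + 1) →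
      FlatMod.IsFinLocFreeOfRank (rE (i + 1) - rE i) (cokernel (a i)) ∧
      Curv2.deg ℂ X (cokernel (a i)) (rE (i + 1) - rE i) * (r : ℤ) = d * ((rE (i + 1) - rE i : ℕ) : ℤ) ∧
      ∀ (φ' : cokernel (a i) ⟶ CohB1.tensorMod (cokernel (a i)) L),
        cokernel.π (a i) ≫ φ' = ψE (i + 1) ≫ (CohB1.sheafifyMod X).map (MonoidalCategoryStruct.whiskerRight (C := CohB1.PMod X) (cokernel.π (a i)).val (CohB1.toPMod L)) →
        (∀ (G : X.Modules) (s : ℕ) (j : G ⟶ cokernel (a i)) (χ : G ⟶ CohB1.tensorMod G L), Mono j → 0 < s →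
        FlatMod.IsFinLocFreeOfRank s G →
        χ ≫ (CohB1.sheafifyMod X).map (MonoidalCategoryStruct.whiskerRight (C := CohB1.PMod X) j.val (CohB1.toPMod L)) = j ≫ φ' →
        Curv2.deg ℂ X G s * ((rE (i + 1) - rE i : ℕ) : ℤ) ≤ Curv2.deg ℂ X (cokernel (a i)) (rE (i + 1) - rE i) * (s : ℤ))) := by
  haveI := isLocallyNoetherian' ℂ (X := X)
  have hφE := hss_of ℂ hE φE hEss
  have hφF := hss_of ℂ hF φF hFss
  have hEr := rk_eq hE
  have hFr := rk_eq hF
  rw [deg_eq_dg ℂ hE] at hEd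
  rw [deg_eq_dg ℂ hF] at hFd
  have cE := fun i => coh_of_free ℂ (isFinLocFree_of_rank (hEs i))
  have cF := fun i => coh_of_free ℂ (isFinLocFree_of_rank (hFs i))
  haveI := hιE
  haveI := hιF
  haveI : ∀ i, Mono (a i) := fun i => mono_of_mono_fac (ha i)
  haveI : ∀ i, Mono (b i) := fun i => mono_of_mono_fac (hb i)
  have hle : ∀ i, dg ℂ (Es i) * (r : ℤ) ≤ d * (rE i : ℤ) ∧ dg ℂ (Fs i) * (r : ℤ) ≤ d * (rF i : ℤ) :=
    fun i => ⟨by
      have h := hφE _ (ιE i) (hιE i) (isFinLocFree_of_rank (hEs i)) ⟨ψE i, hψE i⟩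
      rwa [hEr, hEd, rk_eq (hEs i)] at h, by
      have h := hφF _ (ιF i) (hιF i) (isFinLocFree_of_rank (hFs i)) ⟨ψF i, hψF i⟩
      rwa [hFr, hFd, rk_eq (hFs i)] at h⟩
  have hsum : ∀ i, i ≤ n → dg ℂ (Es i) + dg ℂ (Fs i) = d := by
    intro i
    induction i with
    | zero =>
      intro _
      haveI := hF0
      rw [dg_eq_zero_of_isZero ℂ hE0, dg_congr ℂ (asIso (ιF 0)), hFd, zero_add]
    | succ i ih =>
      intro hi
      have h1 := dg_add ℂ _ _ _ (shortExact_cokernel_of_mono (a i)) (cE i) (cE (i + 1))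
        (Groth.Agent.QCoh.isCoh_cokernel (cE i).1 (cE (i + 1)) (a i))
      have h2 := dg_add ℂ _ _ _ (shortExact_cokernel_of_mono (b i)) (cF (i + 1)) (cF i)
        (Groth.Agent.QCoh.isCoh_cokernel (cF (i + 1)).1 (cF i) (b i))
      have h3 := dg_congr ℂ (hopp i (by omega)).some
      have := ih (by omega)
      omega
  have heq : ∀ i, i ≤ n → dg ℂ (Es i) * (r : ℤ) = d * (rE i : ℤ) ∧
      dg ℂ (Fs i) * (r : ℤ) = d * (rF i : ℤ) := by
    intro i hi
    obtain ⟨h1, h2⟩ := hle i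
    have hz : (rE i : ℤ) + (rF i : ℤ) = (r : ℤ) := by exact_mod_cast hrk i hi
    have h3 : dg ℂ (Es i) * (r : ℤ) + dg ℂ (Fs i) * (r : ℤ) = d * (rE i : ℤ) + d * (rF i : ℤ) := by
      linear_combination (r : ℤ) * hsum i hi - d * hz
    exact ⟨by linarith, by linarith⟩
  have hssEs : ∀ i, i ≤ n → HSS ℂ (ψE i) := by
    intro i hi G j hj hG hinv
    haveI := hj
    have h1 := hφE G (j ≫ ιE i) inferInstance hG (Inv.comp (hψE i) hinv)
    rw [hEr, hEd] at h1
    rw [rk_eq (hEs i)]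
    refine le_of_mul_le_mul_right ?_ (show (0 : ℤ) < r by exact_mod_cast hr)
    linear_combination mul_le_mul_of_nonneg_right h1 (Int.natCast_nonneg (rE i)) -
      (rk G : ℤ) * (heq i hi).1
  have hssFs : ∀ i, i ≤ n → HSS ℂ (ψF i) := by
    intro i hi G j hj hG hinv
    haveI := hj
    have h1 := hφF G (j ≫ ιF i) inferInstance hG (Inv.comp (hψF i) hinv)
    rw [hFr, hFd] at h1
    rw [rk_eq (hFs i)]
    refine le_of_mul_le_mul_right ?_ (show (0 : ℤ) < r by exact_mod_cast hr)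
    linear_combination mul_le_mul_of_nonneg_right h1 (Int.natCast_nonneg (rF i)) -
      (rk G : ℤ) * (heq i hi).2
  refine ⟨fun i hi _ => ⟨?_, fun G s j χ hj _ hG hχ => ?_⟩,
    fun i hi _ => ⟨?_, fun G s j χ hj _ hG hχ => ?_⟩, fun i hi hlt => ?_⟩
  · rw [deg_eq_dg ℂ (hEs i)]; exact (heq i hi).1
  · have h := hssEs i hi G j hj (isFinLocFree_of_rank hG) ⟨χ, hχ⟩
    rwa [rk_eq (hEs i), rk_eq hG, ← deg_eq_dg ℂ hG, ← deg_eq_dg ℂ (hEs i)] at h
  · rw [deg_eq_dg ℂ (hFs i)]; exact (heq i hi).2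
  · have h := hssFs i hi G j hj (isFinLocFree_of_rank hG) ⟨χ, hχ⟩
    rwa [rk_eq (hFs i), rk_eq hG, ← deg_eq_dg ℂ hG, ← deg_eq_dg ℂ (hFs i)] at h
  have h1 := (heq i (by omega)).1
  have h2 := (heq (i + 1) (by omega)).1
  haveI := mono_twist (isFinLocFree_of_rank (Groth.Agent.InvEnd.isFinLocFreeOfRank_one hL)) (ιE (i + 1))
  have hinv : ψE i ≫ twist L (a i) = a i ≫ ψE (i + 1) := by
    have e1 : ψE (i + 1) ≫ twist L (ιE (i + 1)) = ιE (i + 1) ≫ φE := hψE (i + 1)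
    have e2 : ψE i ≫ twist L (ιE i) = ιE i ≫ φE := hψE i
    rw [← cancel_mono (twist L (ιE (i + 1))), Category.assoc, Category.assoc, ← twist_comp, e1, ha,
      e2, reassoc_of% ha]
  have hpos : 0 < rk (Es (i + 1)) := by rw [rk_eq (hEs (i + 1))]; omega
  obtain ⟨hQ, hrQ, hdQ, hq⟩ := higgs_quot ℂ hdim hL (ψE (i + 1)) (isFinLocFree_of_rank (hEs (i + 1)))
    hpos (hssEs (i + 1) (by omega)) (a i) (isFinLocFree_of_rank (hEs i)) ⟨ψE i, hinv⟩ (by
      rw [rk_eq (hEs (i + 1)), rk_eq (hEs i)]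
      refine mul_right_cancel₀ (show (r : ℤ) ≠ 0 by exact_mod_cast hr.ne') ?_
      linear_combination (rE (i + 1) : ℤ) * h1 - (rE i : ℤ) * h2)
  rw [rk_eq (hEs (i + 1)), rk_eq (hEs i)] at hrQ
  have hQr : FlatMod.IsFinLocFreeOfRank (rE (i + 1) - rE i) (cokernel (a i)) :=
    (show rk (cokernel (a i)) = rE (i + 1) - rE i by omega) ▸ isFinLocFreeOfRank_rk hQ
  refine ⟨hQr, ?_, fun φ' hφ' G s j χ hj _ hG hχ => ?_⟩
  · have hz : (rE (i + 1) : ℤ) = (rE i : ℤ) + ((rE (i + 1) - rE i : ℕ) : ℤ) := by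
      exact_mod_cast (show rE (i + 1) = rE i + (rE (i + 1) - rE i) by omega)
    rw [deg_eq_dg ℂ hQr]
    linear_combination h2 - h1 - (r : ℤ) * hdQ + d * hz
  · have h := hq φ' hφ' G j hj (isFinLocFree_of_rank hG) ⟨χ, hχ⟩
    rwa [rk_eq hQr, rk_eq hG, ← deg_eq_dg ℂ hG, ← deg_eq_dg ℂ hQr] at h

end Groth.Agent.S15330
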