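import Groth.Statements.S15336
import Groth.Agent.VBCurvesLib.TorsorSquare
import Groth.Agent.TorsNorm28.Basic
import Groth.Agent.AlgStLib.OnePointSt
-- import your own Groth.Agent.* helpers here

set_option autoImplicit false
set_option linter.style.haveILetI false
set_option linter.unusedVariables false
set_option backward.isDefEq.respectTransparency false
set_option backward.isDefEq.respectTransparency.types false
universe u
open CategoryTheory CategoryTheory.Limits AlgebraicGeometry
open VBCurve

namespace Groth.Agent.S15336

open CategoryTheory CategoryTheory.Limits AlgebraicGeometry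

/-- Let X be a smooth proper integral curve (integral, smooth and proper of dimension one) over an
algebraically closed field k, G a finite group scheme over k of order n, meaning dim_k H^0(G, O_G) =
n, and j : P → X a torsor (fppf-locally trivial) under the X-group scheme G ×_k X. Put E = j_*O_P.
Then there is an isomorphism of O_X-modules E ⊗ E ≅ E ⊕ ⋯ ⊕ E (n copies); in particular E is a
finite vector bundle in the sense of Weil (two distinct polynomials in E agree). Existence of an
isomorphism only. (The published statement asserts only that E is finite in this sense; this row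
states the isomorphism its argument gives, with n = dim_k H^0(G, O_G).) -/
theorem result (k : Type u) [Field k] [IsAlgClosed k] (X : Scheme.{u}) [X.Over (Spec (CommRingCat.of k))]
    [IsIntegral X] [IsProper (X ↘ Spec (CommRingCat.of k))] [Smooth (X ↘ Spec (CommRingCat.of k))]
    (hdim : topologicalKrullDim X = 1)
    (G : Scheme.{u}) [G.Over (Spec (CommRingCat.of k))] [GrpObj (G.asOver (Spec (CommRingCat.of k)))]
    [IsFinite (G ↘ Spec (CommRingCat.of k))] (n : ℕ)
    (hn : Module.finrank k (Coh.HH G (Coh.structureModule G) 0) = n)
    (P : Over X) (a : AlgGrp.Action (Red.bc (X ↘ Spec (CommRingCat.of k)) (G.asOver (Spec (CommRingCat.of k)))) P)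
    (hP : NonAbH1.IsTorsorFor Scheme.fppfPrecoverage a) :
    Nonempty (CohB1.tensorMod ((Coh.push P.hom).obj (Coh.structureModule P.left))
        ((Coh.push P.hom).obj (Coh.structureModule P.left)) ≅
      ∐ fun _ : Fin n => (Coh.push P.hom).obj (Coh.structureModule P.left)) := by
  let f := X ↘ Spec (CommRingCat.of k)
  haveI : Flat (G ↘ Spec (CommRingCat.of k)) := AlgStLib.OnePt.flat_of_field _
  haveI : LocallyOfFinitePresentation (G ↘ Spec (CommRingCat.of k)) :=
    LocallyOfFinitePresentation.iff_locallyOfFiniteType.2 inferInstance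
  let GX := Red.bc f (G.asOver (Spec (CommRingCat.of k)))
  have hP' := TorsNorm28.toFpqc hP
  haveI : IsFinite GX.hom :=
    MorphismProperty.pullback_snd (P := @IsFinite) _ _ (inferInstanceAs (IsFinite (G ↘ Spec (CommRingCat.of k))))
  have hGl : Flat GX.hom :=
    MorphismProperty.pullback_snd (P := @Flat) _ _ (inferInstanceAs (Flat (G ↘ Spec (CommRingCat.of k))))
  have hGp : LocallyOfFinitePresentation GX.hom :=
    MorphismProperty.pullback_snd (P := @LocallyOfFinitePresentation) _ _
      (inferInstanceAs (LocallyOfFinitePresentation (G ↘ Spec (CommRingCat.of k))))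
  haveI : IsFinite P.hom := TorsNorm28.isFinite_hom hP'
  haveI : Flat P.hom := SchTorsor.torsor_property @Flat hP' hGl
  haveI : LocallyOfFinitePresentation P.hom :=
    SchTorsor.torsor_property @LocallyOfFinitePresentation hP' hGp
  have hps : IsIso (CartesianMonoidalCategory.lift a.act (CartesianMonoidalCategory.snd GX P)) := hP.1
  let e : pullback GX.hom P.hom ⟶ pullback P.hom P.hom :=
    (CartesianMonoidalCategory.lift a.act (CartesianMonoidalCategory.snd GX P)).left
  haveI : IsIso e := (Over.forget X).map_isIso
    (CartesianMonoidalCategory.lift a.act (CartesianMonoidalCategory.snd GX P))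
  let act : pullback GX.hom P.hom ⟶ P.left := a.act.left
  have he1 : e ≫ pullback.fst P.hom P.hom = act :=
    congrArg CommaMorphism.left (CartesianMonoidalCategory.lift_fst a.act (CartesianMonoidalCategory.snd GX P))
  have he2 : e ≫ pullback.snd P.hom P.hom = pullback.snd GX.hom P.hom :=
    congrArg CommaMorphism.left (CartesianMonoidalCategory.lift_snd a.act (CartesianMonoidalCategory.snd GX P))
  have sqP : IsPullback act (pullback.snd GX.hom P.hom) P.hom P.hom := by
    refine IsPullback.of_iso_pullback ⟨?_⟩ (asIso e) he1 he2
    rw [← he1, ← he2, Category.assoc, Category.assoc, pullback.condition]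
  have sqG : IsPullback (pullback.fst GX.hom P.hom ≫ pullback.fst (G ↘ Spec (CommRingCat.of k)) f)
      (pullback.snd GX.hom P.hom) (G ↘ Spec (CommRingCat.of k)) (P.hom ≫ f) :=
    (IsPullback.of_hasPullback GX.hom P.hom).paste_horiz (IsPullback.of_hasPullback _ f)
  let E := (Coh.push P.hom).obj (Coh.structureModule P.left)
  haveI : Coh.IsQCoh (Coh.structureModule P.left) := QCoh.isQCoh_structureModule
  haveI : Coh.IsQCoh (Coh.structureModule G) := QCoh.isQCoh_structureModule
  obtain ⟨b₁⟩ := S0017.result P.hom P.hom act (pullback.snd GX.hom P.hom) sqP (Coh.structureModule P.left)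
  obtain ⟨b₂⟩ := S0017.result (G ↘ Spec (CommRingCat.of k)) (P.hom ≫ f) _ _ sqG (Coh.structureModule G)
  obtain ⟨c₁⟩ := PicClLib.nonempty_pullback_structureModule act
  obtain ⟨c₂⟩ := PicClLib.nonempty_pullback_structureModule
    (pullback.fst GX.hom P.hom ≫ pullback.fst (G ↘ Spec (CommRingCat.of k)) f)
  obtain ⟨g⟩ := VBCurvesLib.nonempty_push_free (k := k) (G := G)
  obtain ⟨g'⟩ := VBCurvesLib.nonempty_pullback_freeMod (P.hom ≫ f)
    (Module.finrank k (Coh.HH G (Coh.structureModule G) 0))
  subst hn
  exact VBCurvesLib.nonempty_tensor_push P.hom (E := E) (Lef73.isFinLocFree_pushO (π := P.hom))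
    (b₁ ≪≫ (Coh.push _).mapIso (c₁ ≪≫ c₂.symm) ≪≫ b₂.symm ≪≫
      (Scheme.Modules.pullback _).mapIso g ≪≫ g')

end Groth.Agent.S15336
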