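import Groth.Statements.S15339
import Groth.Agent.VBCurvesLib.WeilFinite
-- import your own Groth.Agent.* helpers here

set_option autoImplicit false
set_option linter.style.haveILetI false
set_option linter.unusedVariables false
set_option backward.isDefEq.respectTransparency false
set_option backward.isDefEq.respectTransparency.types false
universe u
open CategoryTheory CategoryTheory.Limits AlgebraicGeometry
open VBCurve

namespace Groth.Agent.S15339

open Groth.Agent.CurveBundle Groth.Agent.CurveSlope Groth.Agent.CurveStable Groth.Agent.VBCurvesLib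

/-- Let X be a smooth proper integral curve (integral, smooth and proper of dimension one) over an
algebraically closed field k and L an invertible O_X-module. Then L is finite in the sense of Weil:
there are two distinct polynomials P ≠ Q with natural-number coefficients such that P(L) ≅ Q(L),
where P(L) denotes the direct sum over i of P_i copies of the i-th tensor power L^{⊗ i} (L^{⊗ 0} =
O_X) if and only if L^{⊗ m} ≅ O_X for some m > 0. -/
theorem result (k : Type u) [Field k] [IsAlgClosed k] (X : Scheme.{u}) [X.Over (Spec (CommRingCat.of k))]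
    [IsIntegral X] [IsProper (X ↘ Spec (CommRingCat.of k))] [Smooth (X ↘ Spec (CommRingCat.of k))]
    (hdim : topologicalKrullDim X = 1)
    (L : X.Modules) (hL : PicF.IsInvertible L) :
    (∃ P Q : Polynomial ℕ, P ≠ Q ∧ Nonempty ((∐ fun i : Fin (P.natDegree + 1) => ∐ fun _ : Fin (P.coeff ↑i) => CohB1.tensorPow L ↑i) ≅
      (∐ fun i : Fin (Q.natDegree + 1) => ∐ fun _ : Fin (Q.coeff ↑i) => CohB1.tensorPow L ↑i))) ↔
    ∃ m : ℕ, 0 < m ∧ Nonempty (CohB1.tensorPow L m ≅ Coh.structureModule X) := by
  have hL1 := Groth.Agent.InvEnd.isFinLocFreeOfRank_one hL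
  have hLf := isFinLocFree_of_rank hL1
  constructor
  · rintro ⟨P, Q, hPQ, ⟨e⟩⟩
    have hd : Curv2.deg k X L 1 = 0 :=
      (deg_eq_dg k hL1).trans (semistable_of_weilFinite k hdim hLf (by rw [rk_eq hL1]; exact one_pos) P Q hPQ e).1
    obtain ⟨N, hN⟩ := exists_recurrence k hLf P Q hPQ e
    obtain ⟨D, hD, hdD, ⟨eD⟩⟩ := Groth.Agent.CurveDuality.exists_inverse_deg k hdim
      (Groth.Agent.InvX.isInvertible_tensorPow hL N)
    have hdeg : ∀ i, Curv2.deg k X ((DCoh.tensorBi.obj D).obj (CohB1.tensorPow L i)) 1 = 0 := fun i => by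
      rw [Groth.Agent.CurveRR.deg_tensor k hdim hD (Groth.Agent.InvX.isInvertible_tensorPow hL i),
        deg_tensorPow k hdim hL i, hdD, deg_tensorPow k hdim hL N, hd]
      ring
    have hone : Module.finrank k (Coh.HH X ((DCoh.tensorBi.obj D).obj (CohB1.tensorPow L N)) 0) = 1 := by
      rw [(Groth.Agent.CurveCohLib.hhEquiv (k := k) (Groth.Agent.CurveTensor.commIso D _ ≪≫ eD) 0).finrank_eq]
      exact Groth.Agent.CurveCohLib.finrank_h0_eq_one k X
    by_contra hne
    push Not at hne
    have h := hN D (isFinLocFree_of_rank (Groth.Agent.InvEnd.isFinLocFreeOfRank_one hD)) 0 (fun i hi => by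
      by_contra h0
      obtain ⟨s, hs⟩ := Groth.Agent.CurveRR.exists_hom_ne_zero k h0
      have hi' : PicF.IsInvertible ((DCoh.tensorBi.obj D).obj (CohB1.tensorPow L i)) :=
        Groth.Agent.InvX.isInvertible_tensorMod hD (Groth.Agent.InvX.isInvertible_tensorPow hL i)
      haveI := (Groth.Agent.CurveDeg.deg_le_and_isIso k hdim.le
        Groth.Agent.CurveDeg.isInvertible_structureModule hi' s hs).2
        (by rw [hdeg i, Groth.Agent.CurveDeg.deg_structureModule])
      let c : CohB1.tensorPow L N ≅ CohB1.tensorPow L i :=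
        (Groth.Agent.KFlatLib.tensorUnitIso _).symm ≪≫
          (DCoh.tensorBi.obj (CohB1.tensorPow L N)).mapIso (asIso s) ≪≫
          (Groth.Agent.CurveRR.cancelIso eD).app (CohB1.tensorPow L i)
      obtain ⟨D', hD', -, ⟨eD'⟩⟩ := Groth.Agent.CurveDuality.exists_inverse_deg k hdim
        (Groth.Agent.InvX.isInvertible_tensorPow hL i)
      have eD'' : (DCoh.tensorBi.obj D').obj (CohB1.tensorPow L i) ≅ Coh.structureModule X :=
        Groth.Agent.CurveTensor.commIso D' _ ≪≫ eD'
      let u := powAddIso D' L i (N - i)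
      rw [show i + (N - i) = N by omega] at u
      exact (hne (N - i) (by omega)).false ((Groth.Agent.CurveTensor.structureTensorIso _).symm ≪≫
        (DCoh.tensorBi.mapIso eD''.symm).app _ ≪≫ u ≪≫ (DCoh.tensorBi.obj D').mapIso c ≪≫ eD'')) N
    omega
  · rintro ⟨m, hm, ⟨e⟩⟩
    refine ⟨Polynomial.X ^ m, 1, fun h => ?_, ⟨monomialObjIso L _ m (by simp) (fun i hi => by simp [hi]) ≪≫
      e ≪≫ (monomialObjIso L 1 0 (by simp) (fun i hi => by simp [Polynomial.coeff_one, hi])).symm⟩⟩
    have := congrArg Polynomial.natDegree h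
    simp at this
    omega

end Groth.Agent.S15339
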