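import Groth.Statements.S1534
import Groth.Agent.S7835
import Groth.Agent.CurveBC.Geometry
import Groth.Agent.CurveCohLib.SubBundle
import Groth.Agent.LC.CanonAnnihilator
import Groth.Agent.Alg6.AssDepth

set_option autoImplicit false
universe u
open CategoryTheory CategoryTheory.Limits AlgebraicGeometry
open Curves

namespace Groth.Agent.S1534

/-- A proper scheme of dimension one over a field k whose global functions are k is connected, all of
its local rings are Cohen–Macaulay, and every irreducible component has dimension one. -/
theorem result (k : Type u) [Field k] (X : Scheme.{u}) [X.Over (Spec (CommRingCat.of k))]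
    [IsProper (X ↘ (Spec (CommRingCat.of k)))] (hdim : topologicalKrullDim X = 1) (h0 : Module.finrank k (Coh.HH X (Coh.structureModule X) 0) = 1) :
    ConnectedSpace X ∧ (∀ x : X, LocCoh.IsCohenMacaulayLocalRing (X.presheaf.stalk x)) ∧
      ∀ Z ∈ irreducibleComponents (X : Type u), topologicalKrullDim Z = 1 := by
  haveI := CurveBC.connectedSpace_of_h0 k X h0
  haveI := CurveCohLib.isNoetherian_of_proper (k := k) (X := X)
  haveI : QuasiSober X := inferInstance
  have hnc : ∀ x : X, IsClosed ({x} : Set X) → ∃ y : X, y ⤳ x ∧ x ≠ y := fun x hx => by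
    by_contra! hall
    have hZ : ({x} : Set X) ∈ irreducibleComponents (X : Type u) := by
      refine ⟨isIrreducible_singleton, fun t ht hle z hz => ?_⟩
      obtain ⟨g, hg⟩ := QuasiSober.sober ht.closure isClosed_closure
      have h1 : g ⤳ x := hg.specializes (subset_closure (hle rfl))
      have h2 : g ⤳ z := hg.specializes (subset_closure hz)
      rw [← hall g h1] at h2
      have := h2.mem_closure
      rwa [hx.closure_eq] at this
    have hop : IsOpen ({x} : Set X) := by
      have hfin := TopologicalSpace.NoetherianSpace.finite_irreducibleComponents (α := X)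
      have hcl : IsClosed (⋃₀ (irreducibleComponents (X : Type u) \ {{x}})) := by
        rw [Set.sUnion_eq_biUnion]
        exact (hfin.sdiff).isClosed_biUnion fun t ht => isClosed_of_mem_irreducibleComponents t ht.1
      rw [show ({x} : Set X) = (⋃₀ (irreducibleComponents (X : Type u) \ {{x}}))ᶜ from ?_]
      · exact hcl.isOpen_compl
      ext z
      simp only [Set.mem_singleton_iff, Set.mem_compl_iff, Set.mem_sUnion, Set.mem_sdiff, not_exists, not_and,
        and_imp]
      constructor
      · rintro rfl t ht hne hzt
        exact hne (le_antisymm (hZ.2 ht.1 (Set.singleton_subset_iff.2 hzt)) (Set.singleton_subset_iff.2 hzt))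
      · intro h
        by_contra hzx
        exact h _ (irreducibleComponent_mem_irreducibleComponents z)
          (fun he => hzx (he.le (mem_irreducibleComponent (x := z)))) mem_irreducibleComponent
    rcases isClopen_iff.1 ⟨hx, hop⟩ with h | h
    · exact Set.singleton_ne_empty x h
    · haveI : Subsingleton X := ⟨fun a b => (h.ge (Set.mem_univ a)).trans (h.ge (Set.mem_univ b)).symm⟩
      have h1 : topologicalKrullDim X ≤ 0 := by
        rw [topologicalKrullDim, Order.krullDim_eq_of_orderIso (irreducibleSetEquivPoints (α := X))]
        exact Order.krullDim_nonpos_of_subsingleton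
      rw [hdim] at h1
      exact absurd h1 (by decide)
  refine ⟨inferInstance, fun x => ?_, fun Z hZ => ?_⟩
  · by_cases hmax : ∃ y : X, y ⤳ x ∧ x ≠ y
    · obtain ⟨y, hyx, hne⟩ := hmax
      have hx := S7835.isClosed_singleton_of_specializes hdim.le hyx hne
      refine { supportDim_eq_depth := le_antisymm ?_ (LC.depth_le_supportDim _) }
      rw [Module.supportDim_self_eq_ringKrullDim]
      refine ((CurveCohLib.ringKrullDim_stalk_le_topologicalKrullDim x).trans hdim.le).trans
        (WithBot.coe_le_coe.2 (Alg6.one_le_depth_iff.2 fun hass => ?_))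
      obtain ⟨-, t, ht⟩ := Alg6.mem_ass_iff.mp hass
      have hb := CurveBC.bijective_appTop k X h0
      have hk : _root_.IsReduced Γ(Spec (CommRingCat.of k), ⊤) :=
        isReduced_of_injective (Scheme.ΓSpecIso (CommRingCat.of k)).commRingCatIsoToRingEquiv.toRingHom
          (Scheme.ΓSpecIso (CommRingCat.of k)).commRingCatIsoToRingEquiv.injective
      have hred : _root_.IsReduced Γ(X, ⊤) :=
        isReduced_of_injective (RingEquiv.ofBijective _ hb).symm.toRingHom
          (RingEquiv.ofBijective _ hb).symm.injective
      refine S7835.not_ass_of_specializes hred hx hyx hne t (fun ht0 => ?_) fun a ha => (ht a).1 ha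
      exact (IsLocalRing.maximalIdeal.isMaximal _).ne_top
        ((Ideal.eq_top_iff_one _).2 ((ht 1).2 (by simp [ht0])))
    · refine LC.Canon.isCMLocal_of_dim_zero ?_
      rw [ringKrullDim_stalk_eq_coheight]
      have : Order.coheight x = 0 := Order.coheight_eq_zero.2 fun y hy => by
        have : y ⤳ x := hy
        by_contra hne
        exact hmax ⟨y, this, fun h => hne (h ▸ le_rfl)⟩
      simp [this]
  · refine le_antisymm ((Topology.IsInducing.topologicalKrullDim_le
      (Topology.IsInducing.subtypeVal (t := Z))).trans hdim.le) ?_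
    have hZc : IsClosed Z := isClosed_of_mem_irreducibleComponents Z hZ
    obtain ⟨g, hg⟩ := QuasiSober.sober hZ.1 hZc
    have hgc : ¬ IsClosed ({g} : Set X) := fun hc => by
      obtain ⟨y, hy, hne⟩ := hnc g hc
      have hle : closure ({y} : Set X) ≤ Z := hZ.2 isIrreducible_singleton.closure
        (hg.def ▸ closure_minimal (Set.singleton_subset_iff.2 hy.mem_closure) isClosed_closure)
      rw [← hg.def, hc.closure_eq] at hle
      exact hne (hle (subset_closure rfl)).symm
    haveI : T0Space Z := inferInstance
    rw [topologicalKrullDim, Order.one_le_krullDim_iff]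
    have hex : ∃ z ∈ Z, z ≠ g := by
      by_contra! h
      exact hgc ((Set.eq_singleton_iff_unique_mem.2 ⟨hg.mem, h⟩) ▸ hZc)
    obtain ⟨z, hzZ, hzg⟩ := hex
    refine ⟨⟨closure {(⟨z, hzZ⟩ : Z)}, isIrreducible_singleton.closure, isClosed_closure⟩,
      ⟨closure {(⟨g, hg.mem⟩ : Z)}, isIrreducible_singleton.closure, isClosed_closure⟩, ?_⟩
    rw [← SetLike.coe_ssubset_coe]
    refine ⟨isClosed_closure.closure_subset_iff.2 (Set.singleton_subset_iff.2 ?_), fun h => hzg ?_⟩
    · exact ((subtype_specializes_iff _ _).2 (hg.specializes (hzZ : z ∈ Z))).mem_closure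
    · have h1 : (⟨z, hzZ⟩ : Z) ⤳ ⟨g, hg.mem⟩ := specializes_iff_mem_closure.2 (h (subset_closure rfl))
      exact (((subtype_specializes_iff _ _).1 h1).antisymm (hg.specializes hzZ)).eq

end Groth.Agent.S1534
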