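import Groth.Statements.S15341
import Groth.Agent.VBCurvesLib.WeilCriterion
-- import your own Groth.Agent.* helpers here

set_option autoImplicit false
set_option linter.style.haveILetI false
set_option linter.unusedVariables false
set_option backward.isDefEq.respectTransparency false
set_option backward.isDefEq.respectTransparency.types false
universe u
open CategoryTheory CategoryTheory.Limits AlgebraicGeometry
open VBCurve

namespace Groth.Agent.S15341

open Groth.Agent Groth.Agent.CurveBundle Groth.Agent.CurveSlope Groth.Agent.CurveStable Groth.Agent.VBCurvesLib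

/-- Let X be a smooth proper integral curve (integral, smooth and proper of dimension one) over an
algebraically closed field k, and E₁, E₂ finite locally free O_X-modules of ranks r₁, r₂, each
finite in the sense of Weil: for E = E₁ and E = E₂ there are distinct polynomials P ≠ Q with
natural-number coefficients and P(E) ≅ Q(E), where P(E) is the direct sum over i of P_i copies of
E^{⊗ i} (E^{⊗ 0} = O_X). Then the direct sum E₁ ⊞ E₂ and the tensor product E₁ ⊗ E₂ are finite in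
the same sense. -/
theorem result (k : Type u) [Field k] [IsAlgClosed k] (X : Scheme.{u}) [X.Over (Spec (CommRingCat.of k))]
    [IsIntegral X] [IsProper (X ↘ Spec (CommRingCat.of k))] [Smooth (X ↘ Spec (CommRingCat.of k))]
    (hdim : topologicalKrullDim X = 1)
    (r₁ r₂ : ℕ) (E₁ E₂ : X.Modules) (hE₁ : FlatMod.IsFinLocFreeOfRank r₁ E₁) (hE₂ : FlatMod.IsFinLocFreeOfRank r₂ E₂)
    (h₁ : (∃ P₁ Q₁ : Polynomial ℕ, P₁ ≠ Q₁ ∧ Nonempty ((∐ fun i : Fin (P₁.natDegree + 1) => ∐ fun _ : Fin (P₁.coeff ↑i) => CohB1.tensorPow E₁ ↑i) ≅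
      (∐ fun i : Fin (Q₁.natDegree + 1) => ∐ fun _ : Fin (Q₁.coeff ↑i) => CohB1.tensorPow E₁ ↑i))))
    (h₂ : (∃ P₂ Q₂ : Polynomial ℕ, P₂ ≠ Q₂ ∧ Nonempty ((∐ fun i : Fin (P₂.natDegree + 1) => ∐ fun _ : Fin (P₂.coeff ↑i) => CohB1.tensorPow E₂ ↑i) ≅
      (∐ fun i : Fin (Q₂.natDegree + 1) => ∐ fun _ : Fin (Q₂.coeff ↑i) => CohB1.tensorPow E₂ ↑i)))) :
    (∃ P Q : Polynomial ℕ, P ≠ Q ∧ Nonempty ((∐ fun i : Fin (P.natDegree + 1) => ∐ fun _ : Fin (P.coeff ↑i) => CohB1.tensorPow (E₁ ⊞ E₂) ↑i) ≅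
      (∐ fun i : Fin (Q.natDegree + 1) => ∐ fun _ : Fin (Q.coeff ↑i) => CohB1.tensorPow (E₁ ⊞ E₂) ↑i))) ∧
    (∃ P' Q' : Polynomial ℕ, P' ≠ Q' ∧ Nonempty ((∐ fun i : Fin (P'.natDegree + 1) => ∐ fun _ : Fin (P'.coeff ↑i) => CohB1.tensorPow (CohB1.tensorMod E₁ E₂) ↑i) ≅
      (∐ fun i : Fin (Q'.natDegree + 1) => ∐ fun _ : Fin (Q'.coeff ↑i) => CohB1.tensorPow (CohB1.tensorMod E₁ E₂) ↑i))) := by
  classical
  have hf₁ := isFinLocFree_of_rank hE₁
  have hf₂ := isFinLocFree_of_rank hE₂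
  obtain ⟨P₁, Q₁, hPQ₁, ⟨e₁⟩⟩ := h₁
  obtain ⟨P₂, Q₂, hPQ₂, ⟨e₂⟩⟩ := h₂
  obtain ⟨M, hM⟩ := span_of_weilFinite k hdim hf₁ P₁ Q₁ hPQ₁ e₁
  obtain ⟨N, hN⟩ := span_of_weilFinite k hdim hf₂ P₂ Q₂ hPQ₂ e₂
  have hG : ∀ q, FlatMod.IsFinLocFree (mixedPow E₁ E₂ M N q) := fun q =>
    KFlatLib.isFinLocFree_tensor (isFinLocFree_tensorPow k hf₁ q.1) (isFinLocFree_tensorPow k hf₂ q.2)
  refine ⟨weilFinite_of_span k hdim (KFlatLib.isFinLocFree_biprod hf₁ hf₂) _ hG fun n => ?_,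
    weilFinite_of_span k hdim (KFlatLib.isFinLocFree_tensor hf₁ hf₂) _ hG fun n => ?_⟩
  · refine inSpan_tensorPow (inSpan_mixed_unit hM hN) (fun q => ?_) n
    refine KS.InSpan.of_iso ?_ (CurveTensor.commIso (E₁ ⊞ E₂) (mixedPow E₁ E₂ M N q))
    refine KS.InSpan.map_trans (F := fun t : Bool => if t then E₁ else E₂)
      (DCoh.tensorBi.obj (mixedPow E₁ E₂ M N q)) ?_ fun t => ?_
    · exact (KS.InSpan.self _ true).biprod (KS.InSpan.self _ false)
    · cases t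
      · exact (inSpan_mixed_right hN q).of_iso (CurveTensor.commIso _ E₂)
      · exact (inSpan_mixed_left hM q).of_iso (CurveTensor.commIso _ E₁)
  · refine inSpan_tensorPow (inSpan_mixed_unit hM hN) (fun q => ?_) n
    exact (KS.InSpan.map_trans (DCoh.tensorBi.obj E₁) (inSpan_mixed_right hN q)
      fun q' => inSpan_mixed_left hM q').of_iso ((CurveRR.tensorCompIso E₁ E₂).app _).symm

end Groth.Agent.S15341
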