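import Groth.Statements.S15343
import Groth.Agent.VBCurvesLib.EtaleFinite
import Groth.Agent.TorsNorm28.Basic
import Groth.Agent.AlgStLib.OnePointSt
-- import your own Groth.Agent.* helpers here

set_option autoImplicit false
set_option linter.style.haveILetI false
set_option linter.unusedVariables false
set_option backward.isDefEq.respectTransparency false
set_option backward.isDefEq.respectTransparency.types false
universe u
open CategoryTheory CategoryTheory.Limits AlgebraicGeometry
open VBCurve

namespace Groth.Agent.S15343

open CategoryTheory CategoryTheory.Limits AlgebraicGeometry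

/-- Let X be a smooth proper integral curve (integral, smooth and proper of dimension one) over an
algebraically closed field k of characteristic zero, G a finite group scheme over k and j : P → X a
torsor (fppf-locally trivial) under the X-group scheme G ×_k X. If E is a finite locally free
O_X-module of rank r with j^*E ≅ O_P^{⊕ r}, then E is finite in the sense of Weil: there are
distinct polynomials P' ≠ Q' with natural-number coefficients and P'(E) ≅ Q'(E), P'(E) being the
direct sum over i of P'_i copies of E^{⊗ i}. (The published statement says that in characteristic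
zero an essentially finite bundle is finite; this row takes as hypothesis the characterisation of
essentially finite bundles as those trivialised by a torsor under a finite group scheme.) -/
theorem result (k : Type u) [Field k] [IsAlgClosed k] (X : Scheme.{u}) [X.Over (Spec (CommRingCat.of k))]
    [IsIntegral X] [IsProper (X ↘ Spec (CommRingCat.of k))] [Smooth (X ↘ Spec (CommRingCat.of k))]
    (hdim : topologicalKrullDim X = 1) [CharZero k]
    (G : Scheme.{u}) [G.Over (Spec (CommRingCat.of k))] [GrpObj (G.asOver (Spec (CommRingCat.of k)))]
    [IsFinite (G ↘ Spec (CommRingCat.of k))]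
    (P : Over X) (a : AlgGrp.Action (Red.bc (X ↘ Spec (CommRingCat.of k)) (G.asOver (Spec (CommRingCat.of k)))) P)
    (hP : NonAbH1.IsTorsorFor Scheme.fppfPrecoverage a)
    (r : ℕ) (E : X.Modules) (hE : FlatMod.IsFinLocFreeOfRank r E)
    (htriv : Nonempty ((Scheme.Modules.pullback P.hom).obj E ≅ FlatMod.freeMod P.left r)) :
    ∃ P' Q' : Polynomial ℕ, P' ≠ Q' ∧ Nonempty ((∐ fun i : Fin (P'.natDegree + 1) => ∐ fun _ : Fin (P'.coeff ↑i) => CohB1.tensorPow E ↑i) ≅
      (∐ fun i : Fin (Q'.natDegree + 1) => ∐ fun _ : Fin (Q'.coeff ↑i) => CohB1.tensorPow E ↑i)) := by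
  let f := X ↘ Spec (CommRingCat.of k)
  haveI : Flat (G ↘ Spec (CommRingCat.of k)) := AlgStLib.OnePt.flat_of_field _
  haveI : LocallyOfFinitePresentation (G ↘ Spec (CommRingCat.of k)) :=
    LocallyOfFinitePresentation.iff_locallyOfFiniteType.2 inferInstance
  have hP' := TorsNorm28.toFpqc hP
  haveI hGf : IsFinite (Red.bc f (G.asOver (Spec (CommRingCat.of k)))).hom :=
    MorphismProperty.pullback_snd (P := @IsFinite) _ _ (inferInstanceAs (IsFinite (G ↘ Spec (CommRingCat.of k))))
  have hGl : Flat (Red.bc f (G.asOver (Spec (CommRingCat.of k)))).hom :=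
    MorphismProperty.pullback_snd (P := @Flat) _ _ (inferInstanceAs (Flat (G ↘ Spec (CommRingCat.of k))))
  have hGp : LocallyOfFinitePresentation (Red.bc f (G.asOver (Spec (CommRingCat.of k)))).hom :=
    MorphismProperty.pullback_snd (P := @LocallyOfFinitePresentation) _ _
      (inferInstanceAs (LocallyOfFinitePresentation (G ↘ Spec (CommRingCat.of k))))
  haveI : IsFinite P.hom := TorsNorm28.isFinite_hom hP'
  haveI : Flat P.hom := SchTorsor.torsor_property @Flat hP' hGl
  haveI : LocallyOfFinitePresentation P.hom :=
    SchTorsor.torsor_property @LocallyOfFinitePresentation hP' hGp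
  haveI : Surjective P.hom := SchTorsor.surjective_hom hP'
  obtain ⟨e⟩ := htriv
  exact VBCurvesLib.weilFinite_of_trivial_pullback k hdim P.hom
    (fun x => (hE x).imp fun U ⟨hx, h⟩ => ⟨r, hx, h⟩) e

end Groth.Agent.S15343
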