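import Groth.Statements.S15362
import Mathlib
import Groth.Agent.S0077
-- import your own Groth.Agent.* helpers here

set_option autoImplicit false
universe u v w
open CAlg

namespace Groth.Agent.S15362

/-- For an algebraically closed field L of characteristic p > 0, a commutative L-algebra R integral over
L, and a finitely presented R-module M carrying an additive endomorphism φ with φ(r·m) = r^p·φ(m)
for r ∈ R, m ∈ M, the map m ↦ φ(m) − m is onto. (R is taken of exponential characteristic p so that
its Frobenius is a ring endomorphism; for a non-zero L-algebra this is automatic.) -/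
theorem result (p : ℕ) [Fact p.Prime]
    (L : Type u) [Field L] [IsAlgClosed L] [CharP L p]
    (R : Type v) [CommRing R] [Algebra L R] [Algebra.IsIntegral L R] [ExpChar R p]
    (M : Type w) [AddCommGroup M] [Module R M] [Module.FinitePresentation R M]
    (φ : M →ₛₗ[frobenius R p] M) :
    Function.Surjective fun m : M => φ m - m := by
  classical
  intro m
  letI : Module L M := Module.compHom M (algebraMap L R)
  haveI : IsScalarTower L R M := ⟨fun c r x => by
    rw [Algebra.smul_def, mul_smul]; rfl⟩
  obtain ⟨k, g, hg⟩ := Module.Finite.exists_fin (R := R) (M := M)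
  have hex : ∀ x : M, ∃ c : Fin k → R, ∑ i, c i • g i = x := fun x =>
    (Submodule.mem_span_range_iff_exists_fun R).mp (by rw [hg]; trivial)
  choose c hc using hex
  let s : Set R := Set.range (c m) ∪ Set.range (fun ij : Fin k × Fin k => c (φ (g ij.1)) ij.2)
  let R₀ := Algebra.adjoin L s
  have hR₀ : Module.Finite L R₀ := by
    exact Module.Finite.of_fg (N := Subalgebra.toSubmodule R₀) (fg_adjoin_of_finite ((Set.finite_range _).union (Set.finite_range _))
      fun x _ => Algebra.IsIntegral.isIntegral x)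
  let ev : (Fin k → R₀) →ₗ[L] M :=
    { toFun := fun f => ∑ i, ((f i : R)) • g i
      map_add' := fun f f' => by simp [add_smul, Finset.sum_add_distrib]
      map_smul' := fun a f => by
        simp only [Pi.smul_apply, Subalgebra.coe_smul, RingHom.id_apply, Finset.smul_sum, smul_assoc] }
  let V := LinearMap.range ev
  have hmem : ∀ x, (∀ i, c x i ∈ R₀) → x ∈ V := fun x h => ⟨fun i => ⟨c x i, h i⟩, hc x⟩
  have hmV : m ∈ V := hmem m fun i => Algebra.subset_adjoin (Or.inl ⟨i, rfl⟩)
  have hsV : ∀ (r : R), r ∈ R₀ → ∀ x ∈ V, r • x ∈ V := by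
    rintro r hr _ ⟨f, rfl⟩
    refine ⟨fun i => ⟨r, hr⟩ * f i, ?_⟩
    show ∑ i, (r * (f i : R)) • g i = r • ∑ i, (f i : R) • g i
    simp [Finset.smul_sum, mul_smul]
  have hgV : ∀ j, φ (g j) ∈ V := fun j => hmem _ fun i => Algebra.subset_adjoin (Or.inr ⟨(j, i), rfl⟩)
  have hφV : ∀ x ∈ V, φ x ∈ V := by
    rintro _ ⟨f, rfl⟩
    show φ (∑ i, (f i : R) • g i) ∈ V
    rw [map_sum]
    refine V.sum_mem fun i _ => ?_
    rw [φ.map_smulₛₗ, frobenius_def]
    exact hsV _ (R₀.pow_mem (f i).2 p) _ (hgV i)
  haveI : Module.Finite L V := inferInstance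
  let b := Module.finBasis L V
  let e : V ≃ₗ[L] (Fin (Module.finrank L V) → L) := b.equivFun
  let F₀ : V →+ V := (φ.toAddMonoidHom.comp V.subtype.toAddMonoidHom).codRestrict V fun x => hφV _ x.2
  let F : (Fin (Module.finrank L V) → L) →+ (Fin (Module.finrank L V) → L) :=
    e.toAddEquiv.toAddMonoidHom.comp (F₀.comp e.symm.toAddEquiv.toAddMonoidHom)
  have hF : ∀ (a : L) v, F (a • v) = a ^ p • F v := fun a v => by
    show e (F₀ (e.symm (a • v))) = a ^ p • e (F₀ (e.symm v))
    rw [map_smul, ← map_smul e]
    congr 1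
    apply Subtype.ext
    show φ (algebraMap L R a • (e.symm v : M)) = algebraMap L R (a ^ p) • φ (e.symm v : M)
    rw [φ.map_smulₛₗ, frobenius_def, map_pow]
  obtain ⟨v, hv⟩ := Groth.Agent.S0077.result p F hF (e ⟨m, hmV⟩)
  refine ⟨(e.symm v : M), ?_⟩
  have h2 : F₀ (e.symm v) - e.symm v = ⟨m, hmV⟩ := e.injective (by
    rw [map_sub, LinearEquiv.apply_symm_apply]; exact hv)
  exact congrArg Subtype.val h2

end Groth.Agent.S15362
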