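import Groth.Statements.S15365
import Mathlib
-- import your own Groth.Agent.* helpers here

set_option autoImplicit false
universe u
open scoped BigOperators
open CAlg

namespace Groth.Agent.S15365

/-- Let A be a commutative ring of characteristic p > 0 and (h_{ij})_{1 ≤ i,j ≤ n} a square matrix over
A, the matrix of a commutative p-Lie algebra (L, φ) with L free with basis e_1, …, e_n and φ(e_j) =
Σ_i h_{ij} e_i. The associated finite group scheme Spec A[X_1, …, X_n]/(X_j^p − Σ_i h_{ij} X_i)_{1 ≤
j ≤ n} is étale over A if and only if the matrix (h_{ij}) is invertible, i.e. its determinant is a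
unit of A. Only the algebra structure enters this assertion. -/
theorem result (p : ℕ) [Fact p.Prime]
    (A : Type u) [CommRing A] [CharP A p] (n : ℕ) (h : Matrix (Fin n) (Fin n) A) :
    Algebra.Etale A (MvPolynomial (Fin n) A ⧸ Ideal.span (Set.range fun j : Fin n =>
        (MvPolynomial.X j : MvPolynomial (Fin n) A) ^ p -
          ∑ i : Fin n, MvPolynomial.C (h i j) * MvPolynomial.X i)) ↔
      IsUnit h.det := by
  classical
  set v : Fin n → MvPolynomial (Fin n) A := fun j => (MvPolynomial.X j : MvPolynomial (Fin n) A) ^ p -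
    ∑ i : Fin n, MvPolynomial.C (h i j) * MvPolynomial.X i with hv
  haveI : CharP (MvPolynomial (Fin n) A) p := inferInstance
  have hp : p.Prime := Fact.out
  constructor
  · intro het
    by_contra hdet
    obtain ⟨m, hm, hmem⟩ := exists_max_ideal_of_mem_nonunits hdet
    letI := Ideal.Quotient.field m
    have h0 : (h.map (Ideal.Quotient.mk m)).det = 0 := by
      rw [← RingHom.mapMatrix_apply, ← RingHom.map_det]
      exact Ideal.Quotient.eq_zero_iff_mem.mpr hmem
    obtain ⟨w, hw0, hw⟩ := Matrix.exists_vecMul_eq_zero_iff.mpr h0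
    let I : Ideal (TrivSqZeroExt (A ⧸ m) (A ⧸ m)) := RingHom.ker (TrivSqZeroExt.fstHom (A ⧸ m) (A ⧸ m) (A ⧸ m)).toRingHom
    have hI : I ^ 2 = ⊥ := by
      rw [sq, eq_bot_iff, Ideal.mul_le]
      intro x hx y hy
      have hx' : TrivSqZeroExt.fst x = 0 := hx
      have hy' : TrivSqZeroExt.fst y = 0 := hy
      rw [Ideal.mem_bot]
      ext <;> simp [hx', hy']
    have hker : ∀ (u : Fin n → A ⧸ m), Matrix.vecMul u (h.map (Ideal.Quotient.mk m)) = 0 → ∀ q ∈ Ideal.span (Set.range v),
        MvPolynomial.aeval (fun i => (TrivSqZeroExt.inr (u i) : (TrivSqZeroExt (A ⧸ m) (A ⧸ m)))) q = 0 := by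
      intro u hu q hq
      suffices Ideal.span (Set.range v) ≤ RingHom.ker (MvPolynomial.aeval (R := A) fun i => (TrivSqZeroExt.inr (u i) : (TrivSqZeroExt (A ⧸ m) (A ⧸ m)))) from this hq
      rw [Ideal.span_le]
      rintro _ ⟨j, rfl⟩
      rw [SetLike.mem_coe, RingHom.mem_ker]
      simp only [hv, map_sub, map_pow, map_sum, map_mul, MvPolynomial.aeval_X, MvPolynomial.aeval_C]
      have e1 : (TrivSqZeroExt.inr (u j) : (TrivSqZeroExt (A ⧸ m) (A ⧸ m))) ^ p = 0 :=
        pow_eq_zero_of_le hp.two_le (by rw [sq]; ext <;> simp)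
      rw [e1, zero_sub, neg_eq_zero]
      have e2 : ∀ i, algebraMap A (TrivSqZeroExt (A ⧸ m) (A ⧸ m)) (h i j) * TrivSqZeroExt.inr (u i) = TrivSqZeroExt.inr (Ideal.Quotient.mk m (h i j) * u i) := fun i => by
        rw [show algebraMap A (TrivSqZeroExt (A ⧸ m) (A ⧸ m)) (h i j) = TrivSqZeroExt.inl (Ideal.Quotient.mk m (h i j)) from rfl,
          TrivSqZeroExt.inl_mul_inr]
        rfl
      simp only [e2, ← TrivSqZeroExt.inr_sum]
      have := congrFun hu j
      simp only [Matrix.vecMul, dotProduct, Matrix.map_apply, Pi.zero_apply] at this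
      rw [show ∑ i, Ideal.Quotient.mk m (h i j) * u i = 0 by simpa [mul_comm] using this, TrivSqZeroExt.inr_zero]
    let g₁ := Ideal.Quotient.liftₐ (Ideal.span (Set.range v)) _ (hker w hw)
    let g₀ := Ideal.Quotient.liftₐ (Ideal.span (Set.range v)) _ (hker 0 (Matrix.zero_vecMul _))
    have heq : g₁ = g₀ := by
      refine Algebra.FormallyUnramified.ext I ⟨2, hI⟩ fun x => ?_
      obtain ⟨q, rfl⟩ := Ideal.Quotient.mk_surjective x
      rw [Ideal.Quotient.eq, RingHom.mem_ker, map_sub, sub_eq_zero]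
      show ((TrivSqZeroExt.fstHom (A ⧸ m) (A ⧸ m) (A ⧸ m)).restrictScalars A) (MvPolynomial.aeval _ q) =
        ((TrivSqZeroExt.fstHom (A ⧸ m) (A ⧸ m) (A ⧸ m)).restrictScalars A) (MvPolynomial.aeval _ q)
      rw [MvPolynomial.comp_aeval_apply, MvPolynomial.comp_aeval_apply]
      simp
    refine hw0 (funext fun i => ?_)
    have := congrArg TrivSqZeroExt.snd (AlgHom.congr_fun heq (Ideal.Quotient.mk _ (MvPolynomial.X i)))
    change TrivSqZeroExt.snd (MvPolynomial.aeval (R := A) (fun i => (TrivSqZeroExt.inr (w i) : (TrivSqZeroExt (A ⧸ m) (A ⧸ m)))) (MvPolynomial.X i)) =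
      TrivSqZeroExt.snd (MvPolynomial.aeval (R := A) (fun i => (TrivSqZeroExt.inr ((0 : Fin n → A ⧸ m) i) : (TrivSqZeroExt (A ⧸ m) (A ⧸ m)))) (MvPolynomial.X i)) at this
    simpa using this
  · intro hdet
    let P₀ := Algebra.PreSubmersivePresentation.naive (R := A) (v := v) id Function.injective_id
    have hjac : P₀.jacobiMatrix = (MvPolynomial.C : A →+* MvPolynomial (Fin n) A).mapMatrix (-h) := by
      ext1 i j
      rw [Algebra.PreSubmersivePresentation.jacobiMatrix_naive]
      simp only [hv, id_eq, map_sub, map_sum, MvPolynomial.pderiv_pow, MvPolynomial.pderiv_C_mul, MvPolynomial.pderiv_X,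
        CharP.cast_eq_zero (MvPolynomial (Fin n) A) p, zero_mul, zero_sub]
      simp [Pi.single_apply]
    let P : Algebra.SubmersivePresentation A (MvPolynomial (Fin n) A ⧸ Ideal.span (Set.range v)) (Fin n) (Fin n) :=
      { P₀ with
        jacobian_isUnit := by
          show IsUnit P₀.jacobian
          rw [P₀.jacobian_eq_jacobiMatrix_det, hjac, ← RingHom.map_det, Matrix.det_neg]
          exact ((((isUnit_one (M := A)).neg).pow _).mul hdet).map MvPolynomial.C |>.map _ }
    haveI : Algebra.IsStandardSmoothOfRelativeDimension 0 A (MvPolynomial (Fin n) A ⧸ Ideal.span (Set.range v)) :=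
      P.isStandardSmoothOfRelativeDimension (by simp [Algebra.Presentation.dimension])
    infer_instance

end Groth.Agent.S15365
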