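import Groth.Statements.S15386
import Groth.Agent.AlgStkX.ChangeGroup

set_option backward.isDefEq.respectTransparency false
set_option backward.isDefEq.respectTransparency.types false

set_option autoImplicit false
universe u
open QuotStk

namespace Groth.Agent.S15386

open CategoryTheory MonoidalCategory CartesianMonoidalCategory MonObj GrpObj AlgebraicGeometry in
theorem equiv_of_isHomog {S : Scheme.{u}} {G H X Q : Over S} [GrpObj G] [GrpObj H] (i : H ⟶ G) [IsMonHom i]
    [IsClosedImmersion i.left] [IsAffineHom G.hom] (aX : AlgGrp.Action G X) (aQ : AlgGrp.Action G Q)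
    (q₀ : 𝟙_ (Over S) ⟶ Q) (hQ : ChGrp.IsHomog Scheme.fppfPrecoverage i aQ q₀) :
    AlgSt.IsQuotientOf Scheme.fppfPrecoverage H (aX.restrict i)
      (AlgSt.QuotSt Scheme.fppfPrecoverage G (aQ.prod aX)) := by
  obtain ⟨-, hsq, hloc⟩ := hQ
  haveI : IsAffineHom H.hom := by rw [← Over.w i]; infer_instance
  haveI : Mono i := Over.mono_of_mono_left i
  have hfix : ∀ {T : Over S} (h : T ⟶ H), lift (h ≫ i) (toUnit T ≫ q₀) ≫ aQ.act = toUnit T ≫ q₀ := by
    intro T h
    have e := congrArg (lift (1 : T ⟶ G) h ≫ ·) hsq.w
    simp only [lift_fst_assoc, Category.assoc, lift_whiskerLeft_assoc] at e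
    rw [← Category.assoc (lift _ _), ← Hom.mul_def, _root_.one_mul,
      AlgGrp.Action.comp_orbitMap, AlgGrp.Action.comp_orbitMap, AlgGrp.Action.lift_one_act] at e
    exact e.symm
  refine Groth.Agent.AlgStkX.ChangeGroup.isQuotientOf (aQ.prod aX) i (lift (toUnit X ≫ q₀) (𝟙 X))
    (fun {T} h z => ?_) (fun {T} h h' e => (cancel_mono i).1 e) (fun {T} g z z' e => ?_) (fun {T} t => ?_)
  · simp only [comp_lift, comp_toUnit_assoc, Category.comp_id, AlgGrp.Action.lift_prod_act,
      AlgGrp.Action.lift_restrict_act, hfix]
  · simp only [comp_lift, comp_toUnit_assoc, Category.comp_id, AlgGrp.Action.lift_prod_act] at e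
    have e1 := congrArg (· ≫ fst Q X) e
    have e2 := congrArg (· ≫ snd Q X) e
    simp only [lift_fst, lift_snd] at e1 e2
    obtain ⟨k, hk1, hk2⟩ := hsq.exists_lift (1 : T ⟶ G) g
      (by rw [AlgGrp.Action.comp_orbitMap, AlgGrp.Action.comp_orbitMap, AlgGrp.Action.lift_one_act, e1])
    refine ⟨k ≫ snd G H, ?_, ?_⟩
    · have ek : k = lift (1 : T ⟶ G) (k ≫ snd G H) := by
        apply CartesianMonoidalCategory.hom_ext <;> simp [hk1]
      rw [ek, lift_whiskerLeft_assoc, ← Hom.mul_def, _root_.one_mul] at hk2
      exact hk2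
    · rw [AlgGrp.Action.lift_restrict_act]
      have ek : k = lift (1 : T ⟶ G) (k ≫ snd G H) := by
        apply CartesianMonoidalCategory.hom_ext <;> simp [hk1]
      rw [ek, lift_whiskerLeft_assoc, ← Hom.mul_def, _root_.one_mul] at hk2
      rw [hk2, e2]
  · obtain ⟨R, hR, hsec⟩ := Groth.Agent.AlgStkX.exists_sieve_lift (aQ.orbitMap q₀) hloc (t ≫ fst Q X)
    refine ⟨R, hR, fun V f hf => ?_⟩
    obtain ⟨g, hg⟩ := hsec f hf
    refine ⟨g, lift g⁻¹ (f ≫ t ≫ snd Q X) ≫ aX.act, ?_⟩
    rw [AlgGrp.Action.comp_orbitMap] at hg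
    simp only [comp_lift, comp_toUnit_assoc, Category.comp_id, AlgGrp.Action.lift_prod_act, hg,
      ← AlgGrp.Action.lift_mul_act, mul_inv_cancel, AlgGrp.Action.lift_one_act]
    apply CartesianMonoidalCategory.hom_ext <;> simp [AlgGrp.Action.lift_one_act]

open CategoryTheory MonoidalCategory CartesianMonoidalCategory MonObj AlgebraicGeometry in
/-- Let k be a field, G a smooth affine k-group scheme, H ⟶ G a closed subgroup scheme, X a k-scheme
with a G-action, and (Q, q₀) a pointed G-scheme which is the homogeneous space G/H for the fppf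
topology (the stabiliser of q₀ is H and the orbit map G ⟶ Q acquires sections fppf-locally on Q).
Then the quotient stack of X by H (restricted action; torsors locally trivial for the fppf topology,
as schemes) is equivalent, as a category over (Sch/k), to the quotient stack of Q ×_k X by G acting
diagonally; only the existence of such an equivalence is asserted. (The published statement is that
the square of quotient stacks formed by the quotient of G/H × Y by H, two copies of the quotient of
Y by H, and the quotient of Y by G is 2-cartesian; this row is the equivalence between the quotient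
of X by H and the quotient of G/H × X by G proved on the way, from which that follows.) -/
theorem result (k : Type u) [Field k]
    (G H X Q : Over (Spec (CommRingCat.of k))) [GrpObj G] [GrpObj H]
    (i : H ⟶ G) [IsMonHom i] [IsClosedImmersion i.left] [Smooth G.hom] [IsAffineHom G.hom]
    (aX : AlgGrp.Action G X) (aQ : AlgGrp.Action G Q) (q₀ : 𝟙_ (Over (Spec (CommRingCat.of k))) ⟶ Q)
    (hQ : ChGrp.IsHomog Scheme.fppfPrecoverage i aQ q₀) :
    AlgSt.IsQuotientOf Scheme.fppfPrecoverage H (aX.restrict i)
      (AlgSt.QuotSt Scheme.fppfPrecoverage G (aQ.prod aX)) := by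
  exact equiv_of_isHomog i aX aQ q₀ hQ

end Groth.Agent.S15386
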