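import Groth.Statements.S15387
import Groth.Agent.AlgStkX.ChangeGroup

set_option backward.isDefEq.respectTransparency false
set_option backward.isDefEq.respectTransparency.types false

set_option autoImplicit false
universe u
open QuotStk

namespace Groth.Agent.S15387

open CategoryTheory MonoidalCategory CartesianMonoidalCategory MonObj GrpObj AlgebraicGeometry in
/-- Let S = Spec R be an affine scheme, G a flat affine S-group scheme, H ⟶ G a flat closed subgroup
scheme, locally of finite presentation over S, and Z an S-scheme with an H-action. Let Y be a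
G-scheme together with a morphism j : G ×_S Z ⟶ Y making Y the balanced product (induced G-scheme)
of Z along H for the fppf topology: j is G-equivariant for left translation on the factor G, it is
invariant with cartesian Galois square for the H-action h·(g, z) = (g·i(h)⁻¹, h·z) on G ×_S Z, and
it acquires sections fppf-locally on Y. Then the quotient stack of Z by H is equivalent, as a
category over (Sch/S), to the quotient stack of Y by G (torsors locally trivial for the fppf
topology, as schemes); only the existence of such an equivalence is asserted. (The published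
statement is for a flat S-group scheme G and a flat closed subgroup H, with the balanced product
taken as a categorical quotient of Z ×_S G by H assumed to exist; this row takes G affine over S, so
that torsors are schemes, H moreover locally of finite presentation, and the balanced product
through its torsor description.) -/
theorem result (R : Type u) [CommRing R]
    (G H Z Y : Over (Spec (CommRingCat.of R))) [GrpObj G] [GrpObj H]
    (i : H ⟶ G) [IsMonHom i] [IsClosedImmersion i.left] [Flat G.hom] [IsAffineHom G.hom]
    [Flat H.hom] [LocallyOfFinitePresentation H.hom]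
    (aZ : AlgGrp.Action H Z) (aY : AlgGrp.Action G Y) (j : G ⊗ Z ⟶ Y)
    (hY : ChGrp.IsBalProd Scheme.fppfPrecoverage i aZ aY j) :
    AlgSt.IsQuotientOf Scheme.fppfPrecoverage H aZ (AlgSt.QuotSt Scheme.fppfPrecoverage G aY) := by
  obtain ⟨heqv, hsq, hloc⟩ := hY
  haveI : IsAffineHom H.hom := by rw [← Over.w i]; infer_instance
  haveI : Mono i := Over.mono_of_mono_left i
  have hj : ∀ {T : Over (Spec (CommRingCat.of R))} (g g' : T ⟶ G) (z : T ⟶ Z),
      lift g (lift g' z ≫ j) ≫ aY.act = lift (g * g') z ≫ j := fun {T} g g' z => by
    have e := congrArg (lift g (lift g' z) ≫ ·) heqv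
    simp only [lift_whiskerLeft_assoc] at e
    rw [AlgGrp.Action.lift_prod_act_assoc, AlgGrp.Action.lift_trivial_act] at e
    rw [← e]
    rfl
  have hinv : ∀ {T : Over (Spec (CommRingCat.of R))} (h : T ⟶ H) (g : T ⟶ G) (z : T ⟶ Z),
      lift (g * (h ≫ i)⁻¹) (lift h z ≫ aZ.act) ≫ j = lift g z ≫ j := fun {T} h g z => by
    have e := congrArg (lift h (lift g z) ≫ ·) hsq.w
    simp only [lift_snd_assoc] at e
    rwa [← Category.assoc, ChGrp.lift_twist_act] at e
  refine Groth.Agent.AlgStkX.ChangeGroup.isQuotientOf aY i (lift 1 (𝟙 Z) ≫ j)
    (fun {T} h z => ?_) (fun {T} h h' e => (cancel_mono i).1 e) (fun {T} g z z' e => ?_) (fun {T} t => ?_)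
  · simp only [comp_lift_assoc, MonObj.comp_one, Category.comp_id, hj, _root_.mul_one]
    rw [← hinv h (h ≫ i) z, mul_inv_cancel]
  · simp only [comp_lift_assoc, MonObj.comp_one, Category.comp_id, hj, _root_.mul_one] at e
    obtain ⟨k, hk1, hk2⟩ := hsq.exists_lift (lift (1 : T ⟶ G) z') (lift g z) e.symm
    have ek : k = lift (k ≫ fst H (G ⊗ Z)) (lift g z) := by
      apply CartesianMonoidalCategory.hom_ext <;> simp [hk2]
    rw [ek, ChGrp.lift_twist_act] at hk1
    have e1 := congrArg (· ≫ fst G Z) hk1
    have e2 := congrArg (· ≫ snd G Z) hk1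
    simp only [lift_fst, lift_snd] at e1 e2
    exact ⟨k ≫ fst H (G ⊗ Z), (mul_inv_eq_one.1 e1).symm, e2⟩
  · obtain ⟨R', hR, hsec⟩ := Groth.Agent.AlgStkX.exists_sieve_lift j hloc t
    refine ⟨R', hR, fun V f hf => ?_⟩
    obtain ⟨b, hb⟩ := hsec f hf
    refine ⟨b ≫ fst G Z, b ≫ snd G Z, ?_⟩
    simp only [comp_lift_assoc, MonObj.comp_one, Category.comp_id, hj, _root_.mul_one, ← hb]
    congr 1
    apply CartesianMonoidalCategory.hom_ext <;> simp

end Groth.Agent.S15387
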