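import Groth.Statements.S15399
import Groth.Agent.PicfLib.PicSeq

set_option autoImplicit false
universe u
open CategoryTheory CategoryTheory.Limits AlgebraicGeometry
open PicGrp

namespace Groth.Agent.S15399

/-- Let X be a quasi-compact separated scheme, J a quasi-coherent ideal of O_X with J² = 0 and X₀ the
closed subscheme it cuts out, with inclusion i, and assume that the restriction of global functions
O_X(X) → O_{X₀}(X₀) is surjective. Assume the Picard group laws on X and X₀ and that pullback of
invertible classes along i is multiplicative. Then the kernel of the pullback homomorphism Pic(X) →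
Pic(X₀) is isomorphic, as a group, to the additive group H¹(X, J) (J viewed as an O_X-module),
written multiplicatively. (Existence of a group isomorphism only; the compatibility of the
isomorphism with pullback along morphisms Y → X is not stated.) -/
theorem result (X : Scheme.{u}) [CompactSpace X] [X.IsSeparated]
    (J : X.IdealSheafData) (hJ : J * J = ⊥)
    [PicGrp.Law X] [PicGrp.Law J.subscheme] (hi : PicGrp.PullMul J.subschemeι)
    (hsurj : Function.Surjective J.subschemeι.appTop.hom) :
    Nonempty ((PicGrp.pullHom J.subschemeι hi).ker ≃* Multiplicative (Coh.HH X (ClSub.idealMod J) 1)) := by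
  obtain ⟨ε, δ₀, α, δ₁, -, -, h3, h4, h5, -⟩ := Groth.Agent.PicfLib.PicSeq.exists_exact J hJ hi
  have hinj : Function.Injective α := (MonoidHom.ker_eq_bot_iff α).1 (by
    rw [h4, eq_bot_iff]
    rintro _ ⟨v, rfl⟩
    rw [Subgroup.mem_bot, ← MonoidHom.mem_ker, h3]
    exact Groth.Agent.PicfLib.PicSeq.exists_unit_lift hJ hsurj v)
  exact ⟨((MonoidHom.ofInjective hinj).trans (MulEquiv.subgroupCongr h5.symm)).symm⟩

end Groth.Agent.S15399
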