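import Groth.Statements.S15415
import Groth.Agent.CSALib.RedNorm
import Groth.Agent.GalCohMisc.UnitsH90
import Groth.Agent.GalDescX.Twist
import Mathlib.RingTheory.TensorProduct.IsBaseChangeHom

set_option autoImplicit false
universe u v w
open scoped TensorProduct
attribute [local instance] CSAGal.tensorAction GpH1.unitsAction
open GalCoh

namespace Groth.Agent.S15415

open TensorProduct

variable {k : Type u} [Field k] {K : Type v} [Field K] [Algebra k K]
  {A : Type w} [Ring A] [Algebra k A]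

theorem redNorm_one_tmul [FiniteDimensional k A] {N : A →* k} (hN : CSAGal.IsRedNorm k A N)
    {NK : (K ⊗[k] A) →* K} (hNK : CSAGal.IsRedNorm K (K ⊗[k] A) NK) (a : A) :
    NK ((1 : K) ⊗ₜ[k] a) = algebraMap k K (N a) := by
  obtain ⟨K', _, _, _, n, φ, hφ⟩ := hNK
  letI : Algebra k K' := ((algebraMap K K').comp (algebraMap k K)).toAlgebra
  haveI : IsScalarTower k K K' := IsScalarTower.of_algebraMap_eq fun _ => rfl
  let ψ : K' ⊗[k] A ≃ₐ[K'] Matrix (Fin n) (Fin n) K' :=
    (AlgEquiv.ofLinearEquiv (TensorProduct.AlgebraTensorModule.cancelBaseChange k K K' K' A).symm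
      (by simp [Algebra.TensorProduct.one_def])
      (LinearMap.map_mul_of_map_mul_tmul fun a₁ a₂ b₁ b₂ => by simp)).trans φ
  apply (algebraMap K K').injective
  rw [hφ, ← IsScalarTower.algebraMap_apply, CSALib.redNorm_eq ψ hN a]
  simp only [ψ, AlgEquiv.trans_apply, AlgEquiv.ofLinearEquiv_apply,
    TensorProduct.AlgebraTensorModule.cancelBaseChange_symm_tmul]

variable [FiniteDimensional k A]

theorem redNorm_eq_det {n : ℕ} (Φ : K ⊗[k] A ≃ₐ[K] Matrix (Fin n) (Fin n) K)
    {NK : (K ⊗[k] A) →* K} (hNK : CSAGal.IsRedNorm K (K ⊗[k] A) NK) (z : K ⊗[k] A) :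
    NK z = (Φ z).det := by
  have h := CSALib.redNorm_eq ((Algebra.TensorProduct.lid K (K ⊗[k] A)).trans Φ) hNK z
  simpa using h

theorem redNorm_smul {n : ℕ} (Φ : K ⊗[k] A ≃ₐ[K] Matrix (Fin n) (Fin n) K)
    {NK : (K ⊗[k] A) →* K} (hNK : CSAGal.IsRedNorm K (K ⊗[k] A) NK) (σ : K ≃ₐ[k] K) (z : K ⊗[k] A) :
    NK (σ • z) = σ (NK z) := by
  let e : (K ⊗[k] A) ≃+* Matrix (Fin n) (Fin n) K :=
    (MulSemiringAction.toRingEquiv (K ≃ₐ[k] K) (K ⊗[k] A) σ).trans
      (Φ.toRingEquiv.trans σ.symm.toRingEquiv.mapMatrix)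
  have he : ∀ x, e x = (Φ (σ • x)).map σ.symm := fun x => rfl
  have hsemi : ∀ (c : K) (x : K ⊗[k] A), σ • (c • x) = σ c • σ • x := fun c x => by
    induction x with
    | zero => simp
    | tmul d a => simp [TensorProduct.smul_tmul', smul_eq_mul]
    | add x y hx hy => simp [smul_add, hx, hy]
  let Φ' : K ⊗[k] A ≃ₐ[K] Matrix (Fin n) (Fin n) K := AlgEquiv.ofLinearEquiv
    { e.toAddEquiv with
      map_smul' := fun c x => by
        show e (c • x) = c • e x
        rw [he, he, hsemi, map_smul]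
        ext i j
        simp } (map_one e) (map_mul e)
  have h := redNorm_eq_det Φ' hNK z
  rw [show Φ' z = (σ.symm.toRingEquiv : K →+* K).mapMatrix (Φ (σ • z)) from he z, ← RingHom.map_det,
    ← redNorm_eq_det Φ hNK] at h
  rw [h]
  exact (σ.apply_symm_apply _).symm

/-- For a central simple algebra over a field, the first Galois cohomology set of its norm-one group is
identified with the nonzero scalars modulo the reduced norms of units, by the boundary map of the
sequence norm-one units → units → nonzero scalars. Finite-level form: let k be a field, K a finite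
Galois extension of k whose Galois group acts on K ⊗_k A through the first factor, A a
finite-dimensional central simple k-algebra split by K, N the reduced norm of A over k and N_K the
reduced norm of K ⊗_k A over K. Then (i) every 1-cocycle a with values in the units of K ⊗_k A of
reduced norm one is of the form a σ = b⁻¹ · σ(b) for a unit b whose reduced norm is an element c of
kˣ; and (ii) for units b, b' of K ⊗_k A with reduced norms c, c' in kˣ, the cocycles σ ↦ b⁻¹σ(b) and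
σ ↦ b'⁻¹σ(b') are cohomologous through a unit of reduced norm one if and only if c' = N(x) · c for
some unit x of A. (Since K splits A the reduced norm N_K takes every value in kˣ, so (i) and (ii)
say that c ↦ class of b⁻¹σ(b), N_K b = c, is a well-defined bijection from kˣ/N(Aˣ) onto the
cohomology set of the norm-one units. The published statement is for the absolute Galois group of a
field of characteristic different from 2, an assumption playing no role here; this row is the
finite-level form over a splitting field.) -/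
theorem result
    (k : Type u) [Field k] (K : Type v) [Field K] [Algebra k K] [FiniteDimensional k K] [IsGalois k K]
    (A : Type w) [Ring A] [Algebra k A] [Algebra.IsCentral k A] [IsSimpleRing A] [FiniteDimensional k A]
    (hA : Curves.Splits k A K)
    (N : A →* k) (hN : CSAGal.IsRedNorm k A N)
    (NK : (K ⊗[k] A) →* K) (hNK : CSAGal.IsRedNorm K (K ⊗[k] A) NK) :
    (∀ a : GpH1.OneCocycle (K ≃ₐ[k] K) (K ⊗[k] A)ˣ, (∀ σ, NK (a σ : K ⊗[k] A) = 1) →
        ∃ (c : kˣ) (b : (K ⊗[k] A)ˣ), NK (b : K ⊗[k] A) = algebraMap k K (c : k) ∧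
          ∀ σ : K ≃ₐ[k] K, a σ = b⁻¹ * σ • b) ∧
    (∀ (c c' : kˣ) (b b' : (K ⊗[k] A)ˣ),
        NK (b : K ⊗[k] A) = algebraMap k K (c : k) → NK (b' : K ⊗[k] A) = algebraMap k K (c' : k) →
        ((∃ s : (K ⊗[k] A)ˣ, NK (s : K ⊗[k] A) = 1 ∧
            ∀ σ : K ≃ₐ[k] K, b'⁻¹ * σ • b' = s⁻¹ * (b⁻¹ * σ • b) * σ • s) ↔
          ∃ x : Aˣ, (c' : k) = N (x : A) * (c : k))) := by
  obtain ⟨n, -, ⟨Φ⟩⟩ := hA
  have hsm : ∀ (σ : K ≃ₐ[k] K) (z : K ⊗[k] A), NK (σ • z) = σ (NK z) := redNorm_smul Φ hNK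
  have hsu : ∀ (σ : K ≃ₐ[k] K) (u : (K ⊗[k] A)ˣ), ((σ • u : (K ⊗[k] A)ˣ) : K ⊗[k] A) = σ • (u : K ⊗[k] A) :=
    fun σ u => rfl
  let NU : (K ⊗[k] A)ˣ →* Kˣ := Units.map NK
  have hone : ∀ a : A, NK ((1 : K) ⊗ₜ[k] a) = algebraMap k K (N a) := redNorm_one_tmul hN hNK
  constructor
  · intro a ha
    obtain ⟨d, hd⟩ := Groth.Agent.GalCohMisc.exists_unit_of_cocycle (fun σ => a σ) fun σ τ => by
      rw [a.2 σ τ, Units.val_mul]
      rfl
    have hd' : ∀ σ : K ≃ₐ[k] K, a σ * σ • d = d := fun σ => Units.ext (hd σ)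
    have hfix : ∀ σ : K ≃ₐ[k] K, σ (NK (d⁻¹ : (K ⊗[k] A)ˣ)) = NK (d⁻¹ : (K ⊗[k] A)ˣ) := by
      intro σ
      have h := congrArg NU (eq_mul_inv_of_mul_eq (hd' σ))
      rw [← smul_inv', map_mul] at h
      have h' := congrArg Units.val h
      rw [Units.val_mul, show ((NU (a σ) : Kˣ) : K) = 1 from ha σ] at h'
      rw [← hsm, ← hsu]
      have hd1 : ((NU d : Kˣ) : K) * NK (d⁻¹ : (K ⊗[k] A)ˣ) = 1 := by
        show NK d * NK _ = 1
        rw [← map_mul, Units.mul_inv, map_one]
      calc NK ((σ • d⁻¹ : (K ⊗[k] A)ˣ) : K ⊗[k] A)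
          = ((NU d : Kˣ) : K) * NK (d⁻¹ : (K ⊗[k] A)ˣ) * NK ((σ • d⁻¹ : (K ⊗[k] A)ˣ) : K ⊗[k] A) := by
            rw [hd1, one_mul]
        _ = NK (d⁻¹ : (K ⊗[k] A)ˣ) * (((NU d : Kˣ) : K) * NK ((σ • d⁻¹ : (K ⊗[k] A)ˣ) : K ⊗[k] A)) := by ring
        _ = NK (d⁻¹ : (K ⊗[k] A)ˣ) := by
            rw [show ((NU d : Kˣ) : K) * NK ((σ • d⁻¹ : (K ⊗[k] A)ˣ) : K ⊗[k] A) = 1 from h'.symm, mul_one]
    obtain ⟨c, hc⟩ : ∃ c : k, algebraMap k K c = NK (d⁻¹ : (K ⊗[k] A)ˣ) :=
      IntermediateField.mem_bot.1 ((IsGalois.mem_bot_iff_fixed _).2 hfix)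
    have hc0 : c ≠ 0 := fun h => (NU d⁻¹).ne_zero (by
      show NK (d⁻¹ : (K ⊗[k] A)ˣ) = 0
      rw [← hc, h, map_zero])
    refine ⟨Units.mk0 c hc0, d⁻¹, hc.symm, fun σ => ?_⟩
    rw [inv_inv, smul_inv', eq_mul_inv_iff_mul_eq]
    exact hd' σ
  · intro c c' b b' hb hb'
    constructor
    · rintro ⟨s, hs, hs'⟩
      let x := b' * (b * s)⁻¹
      have hx : ∀ σ : K ≃ₐ[k] K, σ • x = x := fun σ => by
        have h := hs' σ
        have e1 : s⁻¹ * (b⁻¹ * σ • b) * σ • s = (b * s)⁻¹ * σ • (b * s) := by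
          rw [mul_inv_rev, smul_mul']
          group
        rw [e1, inv_mul_eq_iff_eq_mul] at h
        rw [show σ • x = σ • b' * (σ • (b * s))⁻¹ by rw [smul_mul', smul_inv'], h]
        simp only [x]
        group
      obtain ⟨a, ha⟩ := GalDescX.exists_one_tmul (x : K ⊗[k] A) fun σ => congrArg Units.val (hx σ)
      obtain ⟨a', ha'⟩ := GalDescX.exists_one_tmul ((x⁻¹ : (K ⊗[k] A)ˣ) : K ⊗[k] A) fun σ => by
        rw [← hsu, smul_inv', hx]
      have h1 : a * a' = 1 := GalDescX.one_tmul_injective (k := k) (K := K) (by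
        show (1 : K) ⊗ₜ[k] (a * a') = (1 : K) ⊗ₜ[k] 1
        rw [← one_mul (1 : K), ← Algebra.TensorProduct.tmul_mul_tmul, ha, ha', Units.mul_inv, one_mul]
        rfl)
      have h2 : a' * a = 1 := GalDescX.one_tmul_injective (k := k) (K := K) (by
        show (1 : K) ⊗ₜ[k] (a' * a) = (1 : K) ⊗ₜ[k] 1
        rw [← one_mul (1 : K), ← Algebra.TensorProduct.tmul_mul_tmul, ha, ha', Units.inv_mul, one_mul]
        rfl)
      refine ⟨⟨a, a', h1, h2⟩, (algebraMap k K).injective ?_⟩
      rw [map_mul, ← hb', ← hb, ← hone, ha]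
      have e : b' = x * (b * s) := (inv_mul_cancel_right b' (b * s)).symm
      have e2 := congrArg (fun u : (K ⊗[k] A)ˣ => NK (u : K ⊗[k] A)) e
      simp only [Units.val_mul, map_mul, hs, mul_one] at e2
      simpa using e2
    · rintro ⟨x, hx⟩
      let X : (K ⊗[k] A)ˣ := Units.map (Algebra.TensorProduct.includeRight (R := k) (A := K) (B := A)).toMonoidHom x
      have hX : ∀ σ : K ≃ₐ[k] K, σ • X = X := fun σ => Units.ext (GalDescX.smul_one_tmul σ (x : A))
      refine ⟨b⁻¹ * (X⁻¹ * b'), ?_, fun σ => ?_⟩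
      · have h1 : NK ((b * (b⁻¹ * (X⁻¹ * b')) : (K ⊗[k] A)ˣ) : K ⊗[k] A) * NK (X : K ⊗[k] A) = NK b' := by
          rw [mul_comm, ← map_mul, ← Units.val_mul]
          simp
        rw [Units.val_mul, map_mul, show NK (X : K ⊗[k] A) = algebraMap k K (N x) from hone x, hb, hb', hx,
          map_mul] at h1
        have hc0 : algebraMap k K (N x) * algebraMap k K (c : k) ≠ 0 := by
          rw [← map_mul, ← hx]
          exact fun h => c'.ne_zero ((algebraMap k K).injective (h.trans (map_zero _).symm))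
        refine mul_right_cancel₀ hc0 ?_
        rw [one_mul]
        exact Eq.trans (by ring) h1
      · simp only [smul_mul', smul_inv', hX]
        group

end Groth.Agent.S15415
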