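import Groth.Statements.S15465
import Mathlib.CategoryTheory.Abelian.Refinements

set_option autoImplicit false
universe v u
open HomAlg

namespace Groth.Agent.S15465

open CategoryTheory CategoryTheory.Limits in
/-- In an abelian category let 0 → A₂ → B₂ → C₂ → 0 (maps i₂, π₂), 0 → A₁ → A₂ → A₃ → 0 (maps i₁, p₁)
and 0 → C₁ → C₂ → C₃ → 0 (maps j, q) be short exact sequences, let α = i₁ ≫ i₂ : A₁ → B₂ and β = π₂
≫ q : B₂ → C₃, and let K = ker β / im α be the homology object of the complex A₁ → B₂ → C₃. Let f :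
A₃ → K be the map induced by i₂ (the unique map whose composite with p₁ is the homology class of the
cycle i₂) and g : K → C₁ the map induced by π₂ (the unique map whose composite with j is the map K →
C₂ induced by π₂). Then 0 → A₃ → K → C₁ → 0, with maps f and g, is a short exact sequence. (The
hypotheses w, h₂, h₃ are consequences of i₂ ≫ π₂ = 0, carried so that the maps can be named; the
published statement assumes in addition that the category has enough injective objects, which plays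
no role in this assertion.) -/
theorem result
    {C : Type u} [Category.{v} C] [Abelian C] {A₁ A₂ A₃ B₂ C₁ C₂ C₃ : C}
    (i₁ : A₁ ⟶ A₂) (p₁ : A₂ ⟶ A₃) (wA : i₁ ≫ p₁ = 0) (hA : (ShortComplex.mk i₁ p₁ wA).ShortExact)
    (i₂ : A₂ ⟶ B₂) (π₂ : B₂ ⟶ C₂) (wB : i₂ ≫ π₂ = 0) (hB : (ShortComplex.mk i₂ π₂ wB).ShortExact)
    (j : C₁ ⟶ C₂) (q : C₂ ⟶ C₃) (wC : j ≫ q = 0) (hC : (ShortComplex.mk j q wC).ShortExact)
    (w : (i₁ ≫ i₂) ≫ (π₂ ≫ q) = 0) (h₂ : i₂ ≫ (π₂ ≫ q) = 0) (h₃ : (i₁ ≫ i₂) ≫ π₂ = 0)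
    (f : A₃ ⟶ (CategoryTheory.ShortComplex.mk (i₁ ≫ i₂) (π₂ ≫ q) w).homology)
    (g : (CategoryTheory.ShortComplex.mk (i₁ ≫ i₂) (π₂ ≫ q) w).homology ⟶ C₁)
    (hf : p₁ ≫ f = (CategoryTheory.ShortComplex.mk (i₁ ≫ i₂) (π₂ ≫ q) w).liftCycles i₂ h₂ ≫ (CategoryTheory.ShortComplex.mk (i₁ ≫ i₂) (π₂ ≫ q) w).homologyπ)
    (hg : g ≫ j = (CategoryTheory.ShortComplex.mk (i₁ ≫ i₂) (π₂ ≫ q) w).homologyι ≫ (CategoryTheory.ShortComplex.mk (i₁ ≫ i₂) (π₂ ≫ q) w).descOpcycles π₂ h₃) :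
    ∃ wfg : f ≫ g = 0, (ShortComplex.mk f g wfg).ShortExact := by
  classical
  let S := CategoryTheory.ShortComplex.mk (i₁ ≫ i₂) (π₂ ≫ q) w
  have hπg : S.homologyπ ≫ g ≫ j = S.iCycles ≫ π₂ := by
    erw [hg, S.homology_π_ι_assoc, S.p_descOpcycles π₂ h₃]
  have hpf : p₁ ≫ f = S.liftCycles i₂ h₂ ≫ S.homologyπ := hf
  haveI : Mono j := hC.mono_f
  haveI : Mono i₂ := hB.mono_f
  haveI : Epi p₁ := hA.epi_g
  haveI : Epi π₂ := hB.epi_g
  have wfg : f ≫ g = 0 := by
    rw [← cancel_epi p₁, ← cancel_mono j]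
    simp only [Category.assoc, comp_zero, zero_comp]
    rw [reassoc_of% hpf, hπg]
    erw [S.liftCycles_i_assoc i₂ h₂]
    exact wB
  have hπex : (ShortComplex.mk S.toCycles S.homologyπ S.toCycles_comp_homologyπ).Exact :=
    ShortComplex.exact_of_g_is_cokernel _ S.homologyIsCokernel
  refine ⟨wfg, ?_⟩
  refine ShortComplex.ShortExact.mk' ?_ ?_ ?_
  · rw [ShortComplex.exact_iff_exact_up_to_refinements]
    intro T x hx
    dsimp at x hx ⊢
    obtain ⟨T', e, he, c, hc⟩ := surjective_up_to_refinements_of_epi S.homologyπ x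
    have h0 : (c ≫ S.iCycles) ≫ π₂ = 0 := by
      rw [Category.assoc, ← hπg, ← reassoc_of% hc, reassoc_of% hx, zero_comp, comp_zero]
    obtain ⟨a, ha⟩ : ∃ a, a ≫ i₂ = c ≫ S.iCycles :=
      ⟨_, hB.exact.lift_f (c ≫ S.iCycles) h0⟩
    have hac : a ≫ S.liftCycles i₂ h₂ = c := by
      rw [← cancel_mono S.iCycles, Category.assoc]
      erw [S.liftCycles_i i₂ h₂]
      exact ha
    exact ⟨T', e, he, a ≫ p₁, by rw [Category.assoc, hpf, reassoc_of% hac, hc]⟩
  · rw [Preadditive.mono_iff_cancel_zero]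
    intro T x hx
    dsimp at x hx ⊢
    obtain ⟨T', e, he, y, hy⟩ := surjective_up_to_refinements_of_epi p₁ x
    have h1 : (y ≫ S.liftCycles i₂ h₂) ≫ S.homologyπ = 0 := by
      rw [Category.assoc, ← hpf, ← reassoc_of% hy, hx, comp_zero]
    obtain ⟨T'', e', he', z, hz⟩ := hπex.exact_up_to_refinements _ h1
    dsimp at z hz
    have h2 : e' ≫ y = z ≫ i₁ := by
      rw [← cancel_mono i₂]
      have := congrArg (· ≫ S.iCycles) hz
      simp only [Category.assoc, S.toCycles_i] at this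
      erw [S.liftCycles_i i₂ h₂] at this
      rw [Category.assoc, Category.assoc]
      exact this
    rw [← cancel_epi e, ← cancel_epi e', hy, reassoc_of% h2, wA, comp_zero, comp_zero, comp_zero]
  · rw [epi_iff_surjective_up_to_refinements]
    intro T x
    dsimp at x ⊢
    obtain ⟨T', e, he, b, hb⟩ := surjective_up_to_refinements_of_epi π₂ (x ≫ j)
    have hb0 : b ≫ S.g = 0 := by
      show b ≫ π₂ ≫ q = 0
      rw [← reassoc_of% hb, wC, comp_zero, comp_zero]
    refine ⟨T', e, he, S.liftCycles b hb0 ≫ S.homologyπ, ?_⟩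
    rw [← cancel_mono j]
    simp only [Category.assoc]
    rw [hπg]
    erw [S.liftCycles_i_assoc b hb0]
    exact hb

end Groth.Agent.S15465
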