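import Groth.Statements.S15510
import Groth.Agent.H23.RatProductK
import Groth.Agent.H23.RatExtend
import Groth.Agent.H23.MaxAbelian
import Groth.Agent.H23.RigidGamma
-- import your own Groth.Agent.* helpers here

set_option autoImplicit false
set_option backward.isDefEq.respectTransparency false
set_option backward.isDefEq.respectTransparency.types false
set_option linter.style.haveILetI false
set_option synthInstance.maxHeartbeats 400000
universe u
open CategoryTheory CategoryTheory.Limits MonoidalCategory CartesianMonoidalCategory MonObj AlgebraicGeometry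
open AbVar

namespace Groth.Agent.S15510

theorem subsingleton_spec_field (K : Type u) [Field K] : Subsingleton ↥(Spec (CommRingCat.of K)) :=
  inferInstanceAs (Subsingleton (PrimeSpectrum K))

theorem surjective_spec_field (K L : Type u) [Field K] [Field L] (φ : K →+* L) :
    Surjective (Spec.map (CommRingCat.ofHom φ)) :=
  ⟨haveI := subsingleton_spec_field K; haveI : Nonempty ↥(Spec (CommRingCat.of L)) := inferInstanceAs (Nonempty (PrimeSpectrum L))
   Function.surjective_to_subsingleton _⟩

/-- A point of a proper geometrically integral group over a purely transcendental extension is constant. -/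
theorem exists_const {F : Type u} [Field F] {A : Over (Spec (CommRingCat.of F))} [GrpObj A] [IsProper A.hom]
    [GeometricallyIntegral A.hom] (m : Type u) [Finite m] (Q : Type u) [Field Q] [Algebra F Q]
    [Algebra (MvPolynomial m F) Q] [IsScalarTower F (MvPolynomial m F) Q] [IsFractionRing (MvPolynomial m F) Q]
    (x : Over.mk (Spec.map (CommRingCat.ofHom (algebraMap F Q))) ⟶ A) :
    ∃ a : 𝟙_ (Over (Spec (CommRingCat.of F))) ⟶ A,
      Spec.map (CommRingCat.ofHom (algebraMap F Q)) ≫ a.left = x.left := by
  haveI : A.left.IsSeparated := ⟨by rw [← CategoryTheory.Limits.terminal.comp_from A.hom]; exact inferInstance⟩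
  let θ : MvPolynomial m F →+* Q := algebraMap (MvPolynomial m F) Q
  let P := H23.RatProductK.affine F m
  let π : Spec (CommRingCat.of Q) ⟶ P.left :=
    Spec.map (CommRingCat.ofHom θ) ≫ (AffineSpace.SpecIso m (CommRingCat.of F)).inv
  haveI : Smooth P.hom := H23.RatProductK.smooth_affine _
  haveI : IsSeparated P.hom := inferInstanceAs (IsSeparated (𝔸(m; Spec (CommRingCat.of F)) ↘ _))
  haveI : GeometricallyIntegral P.hom :=
    inferInstanceAs (GeometricallyIntegral (𝔸(m; Spec (CommRingCat.of F)) ↘ _))
  haveI : IsIntegral P.left := H23.MaxAbelian.isIntegral_of_geometricallyIntegral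
  have hπ : π ≫ P.hom = Spec.map (CommRingCat.ofHom (algebraMap F Q)) := by
    show (Spec.map _ ≫ (AffineSpace.SpecIso m (CommRingCat.of F)).inv) ≫ _ = _
    rw [Category.assoc]
    erw [AffineSpace.SpecIso_inv_over]
    rw [← Spec.map_comp]
    congr 1
    ext c
    show θ (MvPolynomial.C c) = algebraMap F Q c
    rw [IsScalarTower.algebraMap_apply F (MvPolynomial m F) Q]
    rfl
  haveI : Flat π := by
    haveI : Flat (Spec.map (CommRingCat.ofHom θ)) := Flat.SpecMap_iff.2
      (RingHom.flat_algebraMap_iff.2 (IsLocalization.flat Q (nonZeroDivisors (MvPolynomial m F))))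
    infer_instance
  haveI : SurjectiveOnStalks π := by
    haveI : SurjectiveOnStalks (Spec.map (CommRingCat.ofHom θ)) := SurjectiveOnStalks.Spec_iff.2
      (RingHom.surjectiveOnStalks_of_isLocalization (nonZeroDivisors (MvPolynomial m F)) Q)
    infer_instance
  haveI : IsDominant π := by
    haveI : IsDominant (Spec.map (CommRingCat.ofHom θ)) := ⟨PrimeSpectrum.denseRange_comap_iff_ker_le_nilRadical θ |>.2 (by
      rw [(RingHom.injective_iff_ker_eq_bot θ).1 (IsFractionRing.injective (MvPolynomial m F) Q)]
      exact bot_le)⟩
    infer_instance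
  haveI : Subsingleton ↥(Spec (CommRingCat.of Q)) := subsingleton_spec_field Q
  have hgen : π (genericPoint ↥(Spec (CommRingCat.of Q))) = genericPoint P.left := by
    refine ((genericPoint_spec P.left).eq ?_).symm
    have hr : Set.range π = {π (genericPoint ↥(Spec (CommRingCat.of Q)))} := Set.range_eq_singleton_iff.2 fun q => by
      rw [Subsingleton.elim q (genericPoint ↥(Spec (CommRingCat.of Q)))]
    rw [IsGenericPoint, ← hr]
    exact π.denseRange.closure_range
  obtain ⟨W, H, hW, hH, hspec⟩ := H23.RatExtend.exists_spread P.hom A.hom π hgen x.left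
    (by rw [hπ]; exact Over.w x)
  obtain ⟨g, hg⟩ := H23.RatExt.exists_extension (X := P) W
    ⟨_, hW (Set.mem_range_self (default : PrimeSpectrum Q))⟩ H hH
  obtain ⟨a, rfl⟩ := H23.RatProductK.affine_const _ g
  refine ⟨a, ?_⟩
  have h1 := hspec (𝟙 _) (IsOpenImmersion.lift W.ι π (by rw [Scheme.Opens.range_ι]; exact hW))
    (by rw [Category.id_comp, IsOpenImmersion.lift_fac])
  rw [Category.id_comp] at h1
  rw [← h1, ← hg, IsOpenImmersion.lift_fac_assoc]
  show _ = π ≫ P.hom ≫ a.left
  rw [reassoc_of% hπ]

theorem exists_const' {F : Type u} [Field F] {A : Over (Spec (CommRingCat.of F))} [GrpObj A] [IsProper A.hom]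
    [GeometricallyIntegral A.hom] (m : Type u) [Finite m] (R : Type u) [CommRing R] [Algebra F R]
    (e : MvPolynomial m F ≃ₐ[F] R) (Q : Type u) [Field Q] [Algebra F Q]
    [Algebra R Q] [IsScalarTower F R Q] [IsFractionRing R Q]
    (x : Over.mk (Spec.map (CommRingCat.ofHom (algebraMap F Q))) ⟶ A) :
    ∃ a : 𝟙_ (Over (Spec (CommRingCat.of F))) ⟶ A,
      Spec.map (CommRingCat.ofHom (algebraMap F Q)) ≫ a.left = x.left := by
  letI : Algebra (MvPolynomial m F) Q := ((algebraMap R Q).comp e.toRingEquiv.toRingHom).toAlgebra
  haveI : IsScalarTower F (MvPolynomial m F) Q :=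
    IsScalarTower.of_algebraMap_eq fun c => by
      show _ = algebraMap R Q (e (algebraMap F _ c))
      rw [e.commutes, ← IsScalarTower.algebraMap_apply]
  haveI : IsFractionRing (MvPolynomial m F) Q :=
    (IsFractionRing.isFractionRing_iff_of_base_ringEquiv (R := R) Q e.toRingEquiv.symm).1 inferInstance
  exact exists_const m Q x

set_option maxHeartbeats 1000000 in
/-- Let F be a field and A a principally polarized abelian variety over F: a commutative group scheme
over Spec F, smooth and proper with geometrically connected fibres of dimension g, given together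
with a commutative group scheme At, data φ presenting At as the dual of A for the fppf topology, and
a polarization lam : A ⟶ At which is an isomorphism. Let Q = F(t_1, …, t_n) be the field of rational
functions in n variables over F. Then base change from F to Q is a bijection from the F-rational
points of A onto the Q-valued points of A over Spec F: every Q-point of A comes from exactly one
F-point. -/
theorem result
    (F : Type u) [Field F]
    (A At : Over (Spec (CommRingCat.of F))) [GrpObj A] [IsCommMonObj A] [GrpObj At] [IsCommMonObj At]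
    (g : ℕ) (hA : AgPol.IsAbSch A g)
    (φ : AgPol.DualMap A At) (hdual : AbDual.IsDualAV Scheme.fppfPrecoverage A At φ)
    (lam : A ⟶ At) (hpol : AgPol.IsPolarization A At φ lam) (hiso : IsIso lam) (n : ℕ) :
    Function.Bijective (fun x : (Over.mk (𝟙 (Spec (CommRingCat.of F))) ⟶ A) =>
      (Over.homMk (Spec.map (CommRingCat.ofHom (algebraMap F (FractionRing (MvPolynomial (Fin n) F)))))
          (Category.comp_id _) :
        Over.mk (Spec.map (CommRingCat.ofHom (algebraMap F (FractionRing (MvPolynomial (Fin n) F))))) ⟶
          Over.mk (𝟙 (Spec (CommRingCat.of F)))) ≫ x) := by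
  haveI := hA.smooth
  haveI := hA.proper
  haveI := hA.geomConnected
  haveI : GeometricallyReduced A.hom := Groth.Agent.H23.RigidGamma.geometricallyReduced_of_smooth A.hom
  haveI : ConnectedSpace A.left := GeometricallyConnected.connectedSpace_of_subsingleton A.hom
  haveI : GeometricallyIntegral A.hom := Groth.Agent.H23.MaxAbelian.geometricallyIntegral_of_connected A
  haveI : A.left.IsSeparated := ⟨by rw [← CategoryTheory.Limits.terminal.comp_from A.hom]; exact inferInstance⟩
  constructor
  · intro a b hab
    haveI : Surjective (Spec.map (CommRingCat.ofHom (algebraMap F (FractionRing (MvPolynomial (Fin n) F))))) :=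
      surjective_spec_field _ _ _
    haveI : Flat (Spec.map (CommRingCat.ofHom (algebraMap F (FractionRing (MvPolynomial (Fin n) F))))) :=
      Flat.SpecMap_iff.2 (RingHom.flat_algebraMap_iff.2 inferInstance)
    exact Over.OverMorphism.ext ((cancel_epi (Spec.map (CommRingCat.ofHom (algebraMap F (FractionRing (MvPolynomial (Fin n) F)))))).1
      (congrArg CommaMorphism.left hab))
  · intro x
    obtain ⟨a, ha⟩ := exists_const' (ULift.{u} (Fin n)) (MvPolynomial (Fin n) F) (MvPolynomial.renameEquiv F Equiv.ulift)
      (FractionRing (MvPolynomial (Fin n) F)) x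
    exact ⟨a, Over.OverMorphism.ext ha⟩

end Groth.Agent.S15510
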