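import Groth.Statements.S15512
import Mathlib
import Groth.Agent.LC.PdRegular
import Groth.Agent.S5791
import Groth.Agent.RegLoc6.Open
-- import your own Groth.Agent.* helpers here

set_option autoImplicit false
universe u
open CategoryTheory
open CAlg

namespace Groth.Agent.S15512

/-- Let A be a Noetherian ring which is regular (its localization at every maximal ideal is a regular
local ring) and of finite Krull dimension, M a finitely generated A-module and d a natural number.
If Ext^i_A(M, A) vanishes for every i > d, then the projective dimension of M is at most d. -/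
theorem result (A : Type u) [CommRing A]
    [IsNoetherianRing A] (hreg : ∀ m : MaximalSpectrum A, IsRegularLocalRing (Localization.AtPrime m.asIdeal))
    (hdim : ringKrullDim A < ⊤) (M : Type u) [AddCommGroup M] [Module A M] [Module.Finite A M] (d : ℕ)
    (h : ∀ i : ℕ, d < i → Subsingleton (Abelian.Ext (ModuleCat.of A M) (ModuleCat.of A A) i)) :
    HasProjectiveDimensionLT (ModuleCat.of A M) (d + 1) := by
  obtain ⟨D, hD⟩ : ∃ D : ℕ, ringKrullDim A ≤ (D : WithBot ℕ∞) := by
    induction hh : ringKrullDim A using WithBot.recBotCoe with
    | bot => exact ⟨0, bot_le⟩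
    | coe x =>
      induction x using ENat.recTopCoe with
      | top => simp [hh] at hdim
      | coe n => exact ⟨n, le_rfl⟩
  have hN : RegLoc6.PdLE A D M := by
    refine (Groth.Agent.S5791.result A M D).2 fun p => ?_
    obtain ⟨m, hm, hpm⟩ := p.asIdeal.exists_le_maximal p.isPrime.ne_top
    haveI := hreg ⟨m, hm⟩
    haveI : IsRegularLocalRing (Localization.AtPrime p.asIdeal) := RegLoc6.regular_of_le hpm this
    refine RegLoc6.pdLE_mono ?_ (RegLoc6.pdLE_of_isRegularLocalRing (Localization.AtPrime p.asIdeal) _)
    have h1 := (isRegularLocalRing_iff (Localization.AtPrime p.asIdeal)).1 inferInstance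
    have h2 := ((IsLocalization.AtPrime.ringKrullDim_eq_height p.asIdeal (Localization.AtPrime p.asIdeal)).le.trans (Ideal.height_le_ringKrullDim_of_ne_top p.isPrime.ne_top)).trans hD
    rw [← h1] at h2
    exact_mod_cast h2
  exact LC.pdLE_of_ext_finite d M (LC.ext_finite_vanish D d hN h)

end Groth.Agent.S15512
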