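import Groth.Statements.S15523
import Groth.Agent.SurfInt.Hodge
import Groth.Agent.CurveCohLib.SmoothCurve

set_option autoImplicit false
universe u
open CategoryTheory AlgebraicGeometry
open Zeta

namespace Groth.Agent.S15523

/-- Let S be a smooth, proper, geometrically irreducible surface over a field k, H an ample invertible
O_S-module and D any invertible O_S-module. Then (D·D)(H·H) ≤ (D·H)^2, where (A·B) denotes the
intersection number on S computed as the alternating sum of Euler characteristics χ(O_S) − χ(A) −
χ(B) + χ(A ⊗ B). (The published statement is for divisors on the self-product of a smooth projective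
geometrically irreducible curve over a finite field; the printed argument uses only the Hodge index
property of an ample class on a smooth projective surface, so the row is stated for any such
surface.) -/
theorem result (k : Type u) [Field k] (S : Scheme.{u})
    [S.Over (Spec (CommRingCat.of k))] [IsProper (S ↘ Spec (CommRingCat.of k))]
    [Smooth (S ↘ Spec (CommRingCat.of k))] [GeometricallyIrreducible (S ↘ Spec (CommRingCat.of k))]
    (hdim : topologicalKrullDim S = 2) (D H : S.Modules) (hD : PicF.IsInvertible D)
    (hH : CohB1.IsAmple H) :
    FGA.intNum k S 2 ![D, D] (Coh.structureModule S) * FGA.intNum k S 2 ![H, H] (Coh.structureModule S) ≤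
      FGA.intNum k S 2 ![D, H] (Coh.structureModule S) ^ 2 := by
  open Groth.Agent in
  haveI : Subsingleton (Spec (CommRingCat.of k)) := inferInstanceAs (Subsingleton (PrimeSpectrum k))
  haveI : UniversallyOpen (S ↘ Spec (CommRingCat.of k)) := inferInstance
  haveI : IrreducibleSpace S :=
    GeometricallyIrreducible.irreducibleSpace (S ↘ Spec (CommRingCat.of k)) (S ↘ Spec (CommRingCat.of k)).isOpenMap
  haveI : CompactSpace S := QuasiCompact.compactSpace_of_compactSpace (S ↘ Spec (CommRingCat.of k))
  haveI : IsIntegral S := CurveCohLib.isIntegral_of_smooth_connected (S ↘ Spec (CommRingCat.of k))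
  have hd := hdim.le
  obtain ⟨W, hW, hWd⟩ := SurfInt.exists_comb k hd hD hH.1 (SurfInt.dot k H H) (-(SurfInt.dot k D H))
  have hHH := SurfInt.dot_self_pos_of_isAmple k hdim hH
  have h1 := SurfInt.dot_self_nonpos_of_dot_ample k hdim hW hH (by rw [hWd H hH.1]; ring)
  rw [hWd W hW, SurfInt.dot_comm k hd hD hW, SurfInt.dot_comm k hd hH.1 hW, hWd D hD, hWd H hH.1,
    SurfInt.dot_comm k hd hH.1 hD] at h1
  show SurfInt.dot k D D * SurfInt.dot k H H ≤ SurfInt.dot k D H ^ 2
  nlinarith

end Groth.Agent.S15523
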