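import Groth.Statements.S1553
import Groth.Agent.VarKleiman.Jump
-- import your own Groth.Agent.* helpers here

set_option autoImplicit false
universe u
open CategoryTheory CategoryTheory.Limits AlgebraicGeometry
open Variety

namespace Groth.Agent.S1553

/-- Let f : X → Y be locally of finite type, x a point with image y such that the local ring of Y at y
is Noetherian, and d a natural number such that at the generic points η of the irreducible
components of X passing through x we have f(η) ≠ y and local fibre dimension d. Then the local
dimension at x of the fibre over y is at most d + dim O_{Y,y} - 1 (written additively). -/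
theorem result {X Y : Scheme.{u}} (f : X ⟶ Y) [LocallyOfFiniteType f]
    (x : X) [IsNoetherianRing (Y.presheaf.stalk (f.base x))] (d : ℕ)
    (hgen : ∀ Z ∈ irreducibleComponents (X : Type u), x ∈ Z → ∀ η : X, IsGenericPoint η Z →
      f.base η ≠ f.base x ∧ FlatMor.fibreDimAt f η = d) :
    FlatMor.fibreDimAt f x + 1 ≤ (d : WithBot ℕ∞) + ringKrullDim (Y.presheaf.stalk (f.base x)) := by
  obtain ⟨η, e, c, hηx, hmax, hx, hc, d', hd', hne, heq⟩ := Groth.Agent.VarKleiman.exists_max_generic_le f x
  obtain ⟨ξ, hξ⟩ : ∃ ξ : X, IsGenericPoint ξ (irreducibleComponent η) :=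
    QuasiSober.sober isIrreducible_irreducibleComponent isClosed_irreducibleComponent
  obtain rfl : ξ = η := hmax ξ (hξ.specializes mem_irreducibleComponent)
  have hxZ : x ∈ irreducibleComponent ξ := by rw [← hξ.def]; exact hηx.mem_closure
  obtain ⟨hne0, hdd⟩ := hgen _ (irreducibleComponent_mem_irreducibleComponents ξ) hxZ ξ hξ
  rw [hd'] at hdd
  have hdd' : d' = d := by exact_mod_cast hdd
  rw [hx, hc]
  have h := hne hne0
  subst hdd'
  exact_mod_cast h

end Groth.Agent.S1553
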