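import Groth.Statements.S1554
import Groth.Agent.VarKleiman.Jump
-- import your own Groth.Agent.* helpers here

set_option autoImplicit false
universe u
open CategoryTheory CategoryTheory.Limits AlgebraicGeometry
open Variety

namespace Groth.Agent.S1554

/-- Let f : X → Y be locally of finite type, x a point with image y such that the local ring of Y at y
is Noetherian of dimension at most one, and d a natural number such that the local fibre dimension
is d at the generic points of the irreducible components of X passing through x. Then the local
dimension at x of the fibre over y equals d. -/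
theorem result {X Y : Scheme.{u}} (f : X ⟶ Y) [LocallyOfFiniteType f]
    (x : X) [IsNoetherianRing (Y.presheaf.stalk (f.base x))] (hdimY : ringKrullDim (Y.presheaf.stalk (f.base x)) ≤ 1) (d : ℕ)
    (hgen : ∀ Z ∈ irreducibleComponents (X : Type u), x ∈ Z → ∀ η : X, IsGenericPoint η Z → FlatMor.fibreDimAt f η = d) :
    FlatMor.fibreDimAt f x = d := by
  obtain ⟨η, e, c, hηx, hmax, hx, hc, d', hd', hne, heq⟩ := Groth.Agent.VarKleiman.exists_max_generic_le f x
  obtain ⟨ξ, hξ⟩ : ∃ ξ : X, IsGenericPoint ξ (irreducibleComponent η) :=
    QuasiSober.sober isIrreducible_irreducibleComponent isClosed_irreducibleComponent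
  obtain rfl : ξ = η := hmax ξ (hξ.specializes mem_irreducibleComponent)
  have hxZ : x ∈ irreducibleComponent ξ := by rw [← hξ.def]; exact hηx.mem_closure
  have hdd := hgen _ (irreducibleComponent_mem_irreducibleComponents ξ) hxZ ξ hξ
  refine le_antisymm ?_ ?_
  · rw [hd'] at hdd
    have hdd' : d' = d := by exact_mod_cast hdd
    subst hdd'
    rw [hc] at hdimY
    have hc1 : c ≤ 1 := by exact_mod_cast hdimY
    rw [hx]
    by_cases h : f ξ = f x
    · exact_mod_cast heq h
    · have := hne h
      have h2 : e ≤ d' := by omega
      exact_mod_cast h2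
  · rw [← hdd, Groth.Agent.FibDim.fibreDimAt_eq_rd f (Groth.Agent.FibDim.fibMax_of_maximal f hmax)]
    exact Groth.Agent.FibDim.fibreDimAt_ge_rd f hηx

end Groth.Agent.S1554
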