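import Groth.Statements.S15547
import Mathlib.AlgebraicGeometry.Morphisms.QuasiFinite

set_option autoImplicit false
open CategoryTheory AlgebraicGeometry TopologicalSpace
universe u
open Coherent

namespace Groth.Agent.S15547

open TopologicalSpace

variable {Z X : Scheme.{u}} (g : Z ⟶ X) (x : X)

/-- the canonical map from the stalk of the direct image to the local ring of a point of the fibre -/
noncomputable def θ (z : Z) (hz : g.base z = x) : (g.base _* Z.presheaf).stalk x ⟶ Z.presheaf.stalk z :=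
  ((g.base _* Z.presheaf).stalkCongr (Inseparable.of_eq hz)).inv ≫
    TopCat.Presheaf.stalkPushforward CommRingCat g.base Z.presheaf z

lemma θ_germ (z : Z) (hz : g.base z = x) (U : X.Opens) (hx : x ∈ U) (s : Γ(Z, g ⁻¹ᵁ U)) :
    (θ g x z hz).hom ((TopCat.Presheaf.germ (g.base _* Z.presheaf) U x hx).hom s) =
      (Z.presheaf.germ (g ⁻¹ᵁ U) z (show g.base z ∈ U from hz.symm ▸ hx)).hom s := by
  subst hz
  have h : TopCat.Presheaf.germ (g.base _* Z.presheaf) U (g.base z) hx ≫ θ g (g.base z) z rfl =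
      Z.presheaf.germ (g ⁻¹ᵁ U) z hx := by
    simp only [θ, TopCat.Presheaf.stalkCongr]
    erw [TopCat.Presheaf.germ_stalkSpecializes_assoc]
    exact TopCat.Presheaf.stalkPushforward_germ CommRingCat g.base Z.presheaf U z hx
  exact congr($(h).hom s)

lemma isUnit_germ_app (V : X.Opens) (hxV : x ∈ V) (a : Γ(X, V)) (ha : x ∈ X.basicOpen a) :
    IsUnit ((TopCat.Presheaf.germ (g.base _* Z.presheaf) V x hxV).hom ((g.app V).hom a)) := by
  have h1 : IsUnit ((g.app (X.basicOpen a)).hom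
      ((X.presheaf.map (homOfLE (X.basicOpen_le a)).op).hom a)) :=
    (RingedSpace.isUnit_res_basicOpen _ a).map _
  have h2 := g.naturality (homOfLE (X.basicOpen_le a)).op
  have h3 := congr($(h2).hom a)
  simp only [CommRingCat.hom_comp, RingHom.comp_apply] at h3
  rw [h3] at h1
  rw [← TopCat.Presheaf.germ_res_apply' (F := g.base _* Z.presheaf) (homOfLE (X.basicOpen_le a)).op x ha]
  exact h1.map _

lemma exists_mul_eq_germ [IsFinite g] {V : X.Opens} (hV : IsAffineOpen V) (hxV : x ∈ V)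
    (r : ↥((g.base _* Z.presheaf).stalk x)) :
    ∃ (w : ↥((g.base _* Z.presheaf).stalk x)) (c : Γ(Z, g ⁻¹ᵁ V)), IsUnit w ∧
      r * w = (TopCat.Presheaf.germ (g.base _* Z.presheaf) V x hxV).hom c := by
  obtain ⟨W, hxW, s, rfl⟩ := TopCat.Presheaf.exists_germ_eq (F := g.base _* Z.presheaf) r
  obtain ⟨a, haW, hxa⟩ := hV.exists_basicOpen_le (⟨x, hxW⟩ : W) hxV
  letI := (Z.presheaf.map (homOfLE (show g ⁻¹ᵁ X.basicOpen a ≤ g ⁻¹ᵁ V from
    fun z hz => X.basicOpen_le a hz)).op).hom.toAlgebra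
  haveI : IsLocalization.Away ((g.app V).hom a) Γ(Z, g ⁻¹ᵁ X.basicOpen a) :=
    (hV.preimage g).isLocalization_of_eq_basicOpen _ _ (Scheme.preimage_basicOpen g a)
  obtain ⟨⟨c, _, n, rfl⟩, hc⟩ := IsLocalization.surj (Submonoid.powers ((g.app V).hom a))
    ((Z.presheaf.map (homOfLE (show g ⁻¹ᵁ X.basicOpen a ≤ g ⁻¹ᵁ W from fun z hz => haW hz)).op).hom s)
  refine ⟨_, c, (isUnit_germ_app g x V hxV a hxa).pow n, ?_⟩
  have h1 := congrArg (TopCat.Presheaf.germ (g.base _* Z.presheaf) (X.basicOpen a) x hxa).hom hc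
  simp only [RingHom.algebraMap_toAlgebra, map_mul, map_pow] at h1
  have hr : ∀ (U : X.Opens) (hU : x ∈ U) (hle : X.basicOpen a ≤ U) (t : Γ(Z, g ⁻¹ᵁ U)),
      (TopCat.Presheaf.germ (g.base _* Z.presheaf) (X.basicOpen a) x hxa).hom
        ((Z.presheaf.map (homOfLE (show g ⁻¹ᵁ X.basicOpen a ≤ g ⁻¹ᵁ U from fun z hz => hle hz)).op).hom t) =
      (TopCat.Presheaf.germ (g.base _* Z.presheaf) U x hU).hom t := fun U hU hle t =>
    TopCat.Presheaf.germ_res_apply (g.base _* Z.presheaf) (homOfLE hle) x hxa t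
  rw [hr W hxW haW, hr V hxV (X.basicOpen_le a), hr V hxV (X.basicOpen_le a)] at h1
  exact h1

/-- Let g : Z ⟶ X be a finite morphism of schemes (Z is the spectrum of the finite quasi-coherent
O_X-algebra C = g_*O_Z) and x a point of X. Then the points of Z over x correspond bijectively to
the maximal ideals of the stalk C_x = (g_*O_Z)_x: the map sending z with g(z) = x to the preimage of
the maximal ideal of O_{Z,z} under the canonical map (g_*O_Z)_x ⟶ O_{Z,z} is a bijection from the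
fibre onto the set of maximal ideals. -/
theorem result {Z X : Scheme.{u}} (g : Z ⟶ X)
    [IsFinite g] (x : X) :
    Set.BijOn (fun z : {z : Z // g.base z = x} =>
        Ideal.comap (((g.base _* Z.presheaf).stalkCongr (Inseparable.of_eq z.2)).inv ≫
            TopCat.Presheaf.stalkPushforward CommRingCat g.base Z.presheaf z.1).hom
          (IsLocalRing.maximalIdeal (Z.presheaf.stalk z.1)))
      Set.univ {I : Ideal ((g.base _* Z.presheaf).stalk x) | I.IsMaximal} := by
  obtain ⟨_, ⟨V, hV, rfl⟩, hxV, -⟩ :=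
    X.isBasis_affineOpens.exists_subset_of_mem_open (Set.mem_univ x) isOpen_univ
  have hC : IsAffineOpen (g ⁻¹ᵁ V) := hV.preimage g
  let γ := (TopCat.Presheaf.germ (g.base _* Z.presheaf) V x hxV).hom
  let q : ∀ z : Z, g.base z = x → Ideal ((g.base _* Z.presheaf).stalk x) := fun z hz =>
    Ideal.comap (θ g x z hz).hom (IsLocalRing.maximalIdeal (Z.presheaf.stalk z))
  have hmem : ∀ z (hz : g.base z = x) (c : Γ(Z, g ⁻¹ᵁ V)), γ c ∈ q z hz ↔ z ∉ Z.basicOpen c := by
    intro z hz c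
    rw [Ideal.mem_comap, θ_germ g x z hz V hxV c, IsLocalRing.mem_maximalIdeal, mem_nonunits_iff]
    exact not_congr (Z.mem_basicOpen c z (show g.base z ∈ V from hz.symm ▸ hxV)).symm
  have hdet : ∀ (I : Ideal ((g.base _* Z.presheaf).stalk x)) (r : ↥((g.base _* Z.presheaf).stalk x)),
      ∃ c, r ∈ I ↔ γ c ∈ I := fun I r => by
    obtain ⟨w, c, hw, hc⟩ := exists_mul_eq_germ g x hV hxV r
    exact ⟨c, (Ideal.mul_unit_mem_iff_mem _ hw).symm.trans (by rw [hc])⟩
  have hspec : ∀ (z z' : Z) (hz : g.base z = x) (hz' : g.base z' = x), q z hz ≤ q z' hz' → z ⤳ z' := by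
    intro z z' hz hz' hle
    rw [specializes_iff_forall_open]
    intro W hW hz'W
    obtain ⟨c, hc, hz'c⟩ := hC.exists_basicOpen_le (⟨z', hz'W⟩ : (⟨W, hW⟩ : Z.Opens))
      (show g.base z' ∈ V from hz'.symm ▸ hxV)
    by_contra hzW
    exact (hmem z' hz' c).1 (hle ((hmem z hz c).2 fun h => hzW (hc h))) hz'c
  have heq : ∀ (z z' : Z) (hz : g.base z = x) (hz' : g.base z' = x), z ⤳ z' → z = z' := by
    intro z z' hz hz' h
    haveI : DiscreteTopology ↥(g.base ⁻¹' {x}) :=
      (g.isDiscrete_preimage_singleton x).to_subtype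
    have h' : (⟨z, hz⟩ : ↥(g.base ⁻¹' {x})) ⤳ ⟨z', hz'⟩ := subtype_specializes_iff _ _ |>.2 h
    exact congrArg Subtype.val h'.eq
  have hlift : ∀ M : Ideal ((g.base _* Z.presheaf).stalk x), M.IsPrime →
      ∃ (z : Z) (hz : g.base z = x), M ≤ q z hz := by
    intro M hM
    haveI := hM
    let P : PrimeSpectrum Γ(Z, g ⁻¹ᵁ V) := ⟨M.comap γ, inferInstance⟩
    have hPz : ∀ c, hC.fromSpec P ∈ Z.basicOpen c ↔ c ∉ M.comap γ := fun c => by
      show P ∈ hC.fromSpec ⁻¹ᵁ Z.basicOpen c ↔ _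
      rw [hC.fromSpec_preimage_basicOpen]
      exact Iff.rfl
    have hsp : g.base (hC.fromSpec P) ⤳ x := by
      rw [specializes_iff_forall_open]
      intro W hW hxW
      obtain ⟨a, ha, hxa⟩ := hV.exists_basicOpen_le (⟨x, hxW⟩ : (⟨W, hW⟩ : X.Opens)) hxV
      have h : hC.fromSpec P ∈ Z.basicOpen ((g.app V).hom a) := (hPz _).2 fun h =>
        hM.ne_top (Ideal.eq_top_of_isUnit_mem _ h (isUnit_germ_app g x V hxV a hxa))
      rw [← Scheme.preimage_basicOpen] at h
      exact ha h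
    obtain ⟨z, hPle, hz⟩ := g.isClosedMap.specializingMap hsp
    refine ⟨z, hz, fun r hr => ?_⟩
    obtain ⟨w, c, hw, hc⟩ := exists_mul_eq_germ g x hV hxV r
    refine (Ideal.mul_unit_mem_iff_mem _ hw).1 ?_
    rw [hc, hmem]
    exact fun h => (hPz c).1 (hPle.mem_open (Z.basicOpen c).2 h)
      (Ideal.mem_comap.2 (show γ c ∈ M from hc ▸ M.mul_mem_right _ hr))
  have hq : ∀ z (hz : g.base z = x), (q z hz).IsPrime := fun z hz => Ideal.IsPrime.comap _
  refine ⟨fun z _ => ?_, fun z _ z' _ h => Subtype.ext ?_, fun M hM => ?_⟩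
  · show (q z.1 z.2).IsMaximal
    obtain ⟨M, hM, hle⟩ := Ideal.exists_le_maximal _ (hq z.1 z.2).ne_top
    obtain ⟨z', hz', hle'⟩ := hlift M hM.isPrime
    have e := heq z.1 z' z.2 hz' (hspec _ _ z.2 hz' (hle.trans hle'))
    subst e
    rwa [le_antisymm hle hle']
  · exact heq _ _ z.2 z'.2 (hspec _ _ z.2 z'.2 (le_of_eq h))
  · obtain ⟨z, hz, hle⟩ := hlift M (Ideal.IsMaximal.isPrime hM)
    exact ⟨⟨z, hz⟩, Set.mem_univ _, ((Ideal.IsMaximal.eq_of_le hM (hq z hz).ne_top hle)).symm⟩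

end Groth.Agent.S15547
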