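import Groth.Statements.S15548
import Mathlib
import Groth.Agent.TorBridge.KerNat
-- import your own Groth.Agent.* helpers here

set_option autoImplicit false
universe u
open CategoryTheory
open CAlg

namespace Groth.Agent.S15548

open scoped TensorProduct

/-- Let R be a Noetherian commutative ring, I an ideal of R and M a finitely generated R-module. Then
for every natural number n there is m ≥ n such that the map Tor_1^R(M, R/I^m) → Tor_1^R(M, R/I^n)
induced by the projection R/I^m → R/I^n is the zero map. Here Tor_1^R(M, -) is the first left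
derived functor of M ⊗_R - (derived in the second variable). -/
theorem result (R : Type u) [CommRing R] [IsNoetherianRing R] (I : Ideal R)
    (M : Type u) [AddCommGroup M] [Module R M] [Module.Finite R M] (n : ℕ) :
    ∃ m : ℕ, n ≤ m ∧ ∀ h : I ^ m ≤ I ^ n,
      ((CategoryTheory.Tor (ModuleCat.{u} R) 1).obj (ModuleCat.of R M)).map
        (ModuleCat.ofHom (Submodule.factor h)) = 0 := by
  classical
  obtain ⟨N, π, hπ⟩ := Module.Finite.exists_fin' R M
  let F := Fin N → R
  let K : Submodule R F := LinearMap.ker π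
  obtain ⟨c, hc⟩ := I.exists_pow_inf_eq_pow_smul K
  refine ⟨n + c, Nat.le_add_right n c, fun hle => ?_⟩
  let S : ShortComplex (ModuleCat.{u} R) := ShortComplex.mk (X₁ := ModuleCat.of R K) (X₂ := ModuleCat.of R F)
    (X₃ := ModuleCat.of R M) (ModuleCat.ofHom K.subtype) (ModuleCat.ofHom π)
    (ModuleCat.hom_ext (LinearMap.ext fun z => z.2))
  have hS : S.ShortExact :=
    { exact := (ShortComplex.ShortExact.moduleCat_exact_iff_function_exact _).2 (LinearMap.exact_subtype_ker_map π)
      mono_f := (ModuleCat.mono_iff_injective _).2 Subtype.val_injective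
      epi_g := (ModuleCat.epi_iff_surjective _).2 hπ }
  haveI : Module.Flat R S.X₂ := (inferInstance : Module.Flat R (Fin N → R))
  let g : ModuleCat.of R (R ⧸ I ^ (n + c)) ⟶ ModuleCat.of R (R ⧸ I ^ n) := ModuleCat.ofHom (Submodule.factor hle)
  have hnat := Groth.Agent.TorBridge.KerNat.θ_natural hS g
  refine ModuleCat.hom_ext (LinearMap.ext fun z => ?_)
  apply Groth.Agent.TorBridge.KerNat.θ_injective hS (ModuleCat.of R (R ⧸ I ^ n))
  have h1 := congrArg (fun φ => φ.hom z) hnat
  simp only [ModuleCat.hom_comp, LinearMap.comp_apply] at h1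
  refine h1.trans (Eq.trans ?_ (LinearMap.map_zero _).symm)
  set w : K ⊗[R] (R ⧸ I ^ (n + c)) :=
    (Groth.Agent.TorBridge.KerNat.θ hS (ModuleCat.of R (R ⧸ I ^ (n + c)))).hom z with hw
  have hker : K.subtype.rTensor (R ⧸ I ^ (n + c)) w = 0 :=
    (Groth.Agent.TorBridge.KerNat.θ_range hS (ModuleCat.of R (R ⧸ I ^ (n + c))) w).2 ⟨z, rfl⟩
  show (Submodule.factor hle).lTensor K w = 0
  obtain ⟨k, hk⟩ := Submodule.Quotient.mk_surjective _ (TensorProduct.tensorQuotEquivQuotSMul K (I ^ (n + c)) w)
  have hwk : w = k ⊗ₜ[R] (1 : R ⧸ I ^ (n + c)) := by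
    rw [← TensorProduct.tensorQuotEquivQuotSMul_symm_mk, hk, LinearEquiv.symm_apply_apply]
  rw [hwk, LinearMap.rTensor_tmul] at hker
  have hmem : (k : F) ∈ I ^ (n + c) • (⊤ : Submodule R F) ⊓ K := by
    refine ⟨?_, k.2⟩
    have h2 := congrArg (TensorProduct.tensorQuotEquivQuotSMul F (I ^ (n + c))) hker
    rw [map_zero, ← map_one (Ideal.Quotient.mk (I ^ (n + c))), TensorProduct.tensorQuotEquivQuotSMul_tmul_mk,
      one_smul, Submodule.Quotient.mk_eq_zero] at h2
    exact h2
  rw [hc (n + c) (Nat.le_add_left c n), Nat.add_sub_cancel] at hmem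
  have hK : I ^ n • (I ^ c • (⊤ : Submodule R F) ⊓ K) ≤ (I ^ n • (⊤ : Submodule R K)).map K.subtype := by
    rw [Submodule.map_smul'', Submodule.map_top, Submodule.range_subtype]
    exact Submodule.smul_mono le_rfl inf_le_right
  obtain ⟨k', hk', hkk⟩ := hK hmem
  obtain rfl : k' = k := Subtype.ext hkk
  rw [hwk, LinearMap.lTensor_tmul, ← map_one (Ideal.Quotient.mk (I ^ (n + c)))]
  show k' ⊗ₜ[R] (Ideal.Quotient.mk (I ^ n) 1) = 0
  apply (TensorProduct.tensorQuotEquivQuotSMul K (I ^ n)).injective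
  rw [map_zero]
  refine (TensorProduct.tensorQuotEquivQuotSMul_tmul_mk (I ^ n) k' 1).trans ?_
  rw [one_smul, Submodule.Quotient.mk_eq_zero]
  exact hk'

end Groth.Agent.S15548
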