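import Groth.Statements.S15568
import Mathlib.Analysis.Convex.Topology
import Mathlib.Topology.Order.IntermediateValue
-- import your own Groth.Agent.* helpers here

set_option autoImplicit false
universe u
open QuiverStab

namespace Groth.Agent.S15568

/-- Walls and chambers for stability weights of a quiver. Let I be the finite vertex set, d ∈ ℕ^I a
dimension vector, and call two weights θ₁, θ₂ ∈ ℝ^I orthogonal to d numerically equivalent when, for
every d′ ≤ d in ℕ^I, the numbers θ₁·d′ and θ₂·d′ are both positive, both negative or both zero. The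
walls are the hyperplanes W(d′) = {θ ⊥ d : θ·d′ = 0} of d^⊥ for d′ ≤ d such that d is not a multiple
of d′. Then θ₁ and θ₂ are numerically equivalent if and only if there is a set J₁ of such d′ for
which θ₁ and θ₂ lie in the same connected component of the locally closed subset of d^⊥ consisting
of the weights lying on W(d₁) for every d₁ ∈ J₁ and off W(d₂) for every other wall W(d₂). (Only the
quiver's vertex set enters; multiples are taken with natural-number factors.) -/
theorem result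
    (I : Type u) [Fintype I] (d : I → ℕ) (θ₁ θ₂ : I → ℝ)
    (h₁ : ∑ i, θ₁ i * (d i : ℝ) = 0) (h₂ : ∑ i, θ₂ i * (d i : ℝ) = 0) :
    (∀ d' : I → ℕ, d' ≤ d →
        SignType.sign (∑ i, θ₁ i * (d' i : ℝ)) = SignType.sign (∑ i, θ₂ i * (d' i : ℝ))) ↔
    ∃ J₁ : Set (I → ℕ), J₁ ⊆ {d' | d' ≤ d ∧ ¬ ∃ m : ℕ, d = m • d'} ∧
      θ₂ ∈ connectedComponentIn
        {θ : I → ℝ | ∑ i, θ i * (d i : ℝ) = 0 ∧ (∀ d₁ ∈ J₁, ∑ i, θ i * (d₁ i : ℝ) = 0) ∧
          ∀ d₂ : I → ℕ, d₂ ≤ d → (¬ ∃ m : ℕ, d = m • d₂) → d₂ ∉ J₁ →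
            ∑ i, θ i * (d₂ i : ℝ) ≠ 0} θ₁ := by
  classical
  let L : (I → ℕ) → (I → ℝ) → ℝ := fun d' θ => ∑ i, θ i * (d' i : ℝ)
  have hprop : ∀ d' : I → ℕ, d' ≤ d → ∀ m : ℕ, d = m • d' → ∀ θ : I → ℝ, L d θ = 0 → L d' θ = 0 := by
    intro d' hle m hm θ hθ
    by_cases hm0 : m = 0
    · have : d' = 0 := funext fun i => Nat.le_zero.mp ((hle i).trans_eq (by simp [hm, hm0]))
      simp [L, this]
    · have : L d θ = (m : ℝ) * L d' θ := by
        simp only [L, Finset.mul_sum]
        refine Finset.sum_congr rfl fun i _ => ?_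
        rw [hm]
        simp only [Pi.smul_apply, smul_eq_mul, Nat.cast_mul]
        ring
      rw [hθ] at this
      exact (mul_eq_zero.mp this.symm).resolve_left (by exact_mod_cast hm0)
  constructor
  · intro hs
    let J : Set (I → ℕ) := {d' | d' ≤ d ∧ (¬ ∃ m : ℕ, d = m • d') ∧ L d' θ₁ = 0}
    refine ⟨J, fun x hx => ⟨hx.1, hx.2.1⟩, ?_⟩
    refine (convex_segment θ₁ θ₂).isPreconnected.subset_connectedComponentIn (left_mem_segment ℝ θ₁ θ₂) ?_
      (right_mem_segment ℝ θ₁ θ₂)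
    rintro θ ⟨a, b, ha, hb, hab, rfl⟩
    have hlin : ∀ d', L d' (a • θ₁ + b • θ₂) = a * L d' θ₁ + b * L d' θ₂ := by
      intro d'
      simp only [L, Finset.mul_sum, ← Finset.sum_add_distrib]
      refine Finset.sum_congr rfl fun i _ => ?_
      simp only [Pi.add_apply, Pi.smul_apply, smul_eq_mul]
      ring
    refine ⟨?_, ?_, ?_⟩
    · show L d _ = 0
      rw [hlin, show L d θ₁ = 0 from h₁, show L d θ₂ = 0 from h₂]; ring
    · intro d' hd'
      show L d' _ = 0
      have h := hs d' hd'.1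
      rw [show (∑ i, θ₁ i * (d' i : ℝ)) = 0 from hd'.2.2, sign_zero, eq_comm, sign_eq_zero_iff] at h
      rw [hlin, hd'.2.2, show L d' θ₂ = 0 from h]; ring
    · intro d' hd' hnp hnJ
      show L d' _ ≠ 0
      have h0 : L d' θ₁ ≠ 0 := fun e => hnJ ⟨hd', hnp, e⟩
      have h : SignType.sign (L d' θ₁) = SignType.sign (L d' θ₂) := hs d' hd'
      rw [hlin]
      rcases lt_or_gt_of_ne h0 with h1 | h1
      · have h2 : L d' θ₂ < 0 := sign_eq_neg_one_iff.mp (by rw [← h, sign_neg h1])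
        rcases eq_or_lt_of_le ha with ha' | ha'
        · have : b = 1 := by linarith
          subst this; rw [← ha']; simpa using h2.ne
        · exact (add_neg_of_neg_of_nonpos (mul_neg_of_pos_of_neg ha' h1) (mul_nonpos_of_nonneg_of_nonpos hb h2.le)).ne
      · have h2 : 0 < L d' θ₂ := sign_eq_one_iff.mp (by rw [← h, sign_pos h1])
        rcases eq_or_lt_of_le ha with ha' | ha'
        · have : b = 1 := by linarith
          subst this; rw [← ha']; simpa using h2.ne'
        · exact (add_pos_of_pos_of_nonneg (mul_pos ha' h1) (mul_nonneg hb h2.le)).ne'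
  · rintro ⟨J, hJ, hmem⟩ d' hd'
    set S := {θ : I → ℝ | ∑ i, θ i * (d i : ℝ) = 0 ∧ (∀ d₁ ∈ J, ∑ i, θ i * (d₁ i : ℝ) = 0) ∧
          ∀ d₂ : I → ℕ, d₂ ≤ d → (¬ ∃ m : ℕ, d = m • d₂) → d₂ ∉ J →
            ∑ i, θ i * (d₂ i : ℝ) ≠ 0}
    have hθ₁ : θ₁ ∈ S := by
      by_contra hc
      rw [connectedComponentIn_eq_empty hc] at hmem
      exact hmem
    have hθ₂ : θ₂ ∈ S := connectedComponentIn_subset _ _ hmem
    show SignType.sign (L d' θ₁) = SignType.sign (L d' θ₂)
    by_cases hp : ∃ m : ℕ, d = m • d'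
    · obtain ⟨m, hm⟩ := hp
      rw [hprop d' hd' m hm θ₁ h₁, hprop d' hd' m hm θ₂ h₂]
    by_cases hdJ : d' ∈ J
    · rw [show L d' θ₁ = 0 from hθ₁.2.1 d' hdJ, show L d' θ₂ = 0 from hθ₂.2.1 d' hdJ]
    set C := connectedComponentIn S θ₁
    have hC : IsPreconnected C := isPreconnected_connectedComponentIn
    have hθ₁C : θ₁ ∈ C := mem_connectedComponentIn hθ₁
    have hcont : ContinuousOn (L d') C :=
      (continuous_finsetSum _ fun i _ => (continuous_apply i).mul continuous_const).continuousOn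
    have hne : ∀ θ ∈ C, L d' θ ≠ 0 := fun θ hθ => (connectedComponentIn_subset _ _ hθ).2.2 d' hd' hp hdJ
    rcases lt_or_gt_of_ne (hne θ₁ hθ₁C) with h1 | h1 <;> rcases lt_or_gt_of_ne (hne θ₂ hmem) with h2 | h2
    · rw [sign_neg h1, sign_neg h2]
    · obtain ⟨θ, hθ, h0⟩ := hC.intermediate_value hθ₁C hmem hcont ⟨h1.le, h2.le⟩
      exact absurd h0 (hne θ hθ)
    · obtain ⟨θ, hθ, h0⟩ := hC.intermediate_value hmem hθ₁C hcont ⟨h2.le, h1.le⟩
      exact absurd h0 (hne θ hθ)
    · rw [sign_pos h1, sign_pos h2]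

end Groth.Agent.S15568
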