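import Groth.Statements.S15592
import Groth.Agent.AlgGrp25.AffPts
import Groth.Agent.GrpSchLib.GaPts
import Groth.Prelude.Def_GmPts
import Mathlib.RingTheory.PowerSeries.Substitution
import Mathlib.AlgebraicGeometry.ValuativeCriterion
import Mathlib.RingTheory.PowerSeries.Inverse

set_option autoImplicit false
set_option linter.style.haveILetI false
universe u
open CategoryTheory MonoidalCategory CartesianMonoidalCategory MonObj GrpObj AlgebraicGeometry
open AlgGrp
open Groth.Agent.AlgGrp25 Groth.Agent.GrpSchLib.AffineHopf Groth.Agent.GrpSchLib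

namespace Groth.Agent.S15592


variable {k : Type u} [Field k]

/-- The functions-with-a-pole at the chosen point. -/
abbrev Kt (k : Type u) [Field k] : Type u := FractionRing (PowerSeries k)

/-- Inverting the parameter. -/
abbrev Bt (B : Type u) [CommRing B] : Type u := Localization.Away (PowerSeries.X : PowerSeries B)

variable {B : Type u} [CommRing B] [Algebra k B]

noncomputable abbrev loc (B : Type u) [CommRing B] [Algebra k B] : PowerSeries B →ₐ[k] Bt B :=
  IsScalarTower.toAlgHom k (PowerSeries B) (Bt B)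

noncomputable abbrev constB (B : Type u) [CommRing B] [Algebra k B] : PowerSeries B →ₐ[k] B :=
  { (PowerSeries.constantCoeff : PowerSeries B →+* B) with
    commutes' := fun r => by simp [PowerSeries.algebraMap_apply] }

noncomputable abbrev cB (B : Type u) [CommRing B] [Algebra k B] : B →ₐ[k] PowerSeries B :=
  { (PowerSeries.C : B →+* PowerSeries B) with
    commutes' := fun r => by simp [PowerSeries.algebraMap_apply] }

theorem loc_X_unit : IsUnit (loc (k := k) B PowerSeries.X) :=
  IsLocalization.map_units (Bt B) (⟨_, Submonoid.mem_powers _⟩ : Submonoid.powers (PowerSeries.X : PowerSeries B))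

theorem loc_injective : Function.Injective (loc (k := k) B) := by
  refine IsLocalization.injective (M := Submonoid.powers (PowerSeries.X : PowerSeries B)) (Bt B) ?_
  intro x hx
  obtain ⟨n, rfl⟩ := hx
  refine pow_mem ?_ n
  exact ⟨fun y hy => PowerSeries.X_mul_cancel (by simpa using hy),
    fun y hy => PowerSeries.X_mul_cancel (by rw [_root_.mul_comm] at hy; simpa using hy)⟩

/-- The substitution `t ↦ t · v` and its extension to the pole ring. -/
theorem exists_subst (v : (PowerSeries B)ˣ) :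
    ∃ (u : PowerSeries k →ₐ[k] PowerSeries B) (φ : Kt k →ₐ[k] Bt B),
      (∀ f : PowerSeries k, PowerSeries.constantCoeff (u f) = algebraMap k B (PowerSeries.constantCoeff f)) ∧
        u PowerSeries.X = PowerSeries.X * (v : PowerSeries B) ∧ ∀ f : PowerSeries k, φ (algebraMap _ _ f) = loc (k := k) B (u f) := by
  have ha : PowerSeries.HasSubst (S := B) (PowerSeries.X * (v : PowerSeries B)) :=
    PowerSeries.HasSubst.of_constantCoeff_zero' (by simp)
  let u : PowerSeries k →ₐ[k] PowerSeries B := PowerSeries.substAlgHom ha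
  have huX : u PowerSeries.X = PowerSeries.X * (v : PowerSeries B) := PowerSeries.substAlgHom_X ha
  have huC : ∀ c, u (PowerSeries.C c) = PowerSeries.C (algebraMap k B c) := fun c => by
    have h1 : (PowerSeries.C c : PowerSeries k) = algebraMap k _ c := by simp [PowerSeries.algebraMap_apply]
    rw [h1, u.commutes, PowerSeries.algebraMap_apply]
  have hu0 : ∀ f, PowerSeries.constantCoeff (u f) = algebraMap k B (PowerSeries.constantCoeff f) := fun f => by
    conv_lhs => rw [PowerSeries.eq_X_mul_shift_add_const f, map_add, map_mul, huX, huC, map_add, map_mul, map_mul]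
    simp
  have hunit : ∀ y : nonZeroDivisors (PowerSeries k), IsUnit (((loc (k := k) B).comp u) y) := by
    intro y
    have hy : (y : PowerSeries k) ≠ 0 := nonZeroDivisors.coe_ne_zero y
    rw [← PowerSeries.X_pow_order_mul_divXPowOrder (f := (y : PowerSeries k)), map_mul, map_pow]
    refine IsUnit.mul (IsUnit.pow _ ?_) ((PowerSeries.isUnit_divided_by_X_pow_order hy).map _)
    show IsUnit (loc (k := k) B (u PowerSeries.X))
    rw [huX, map_mul]
    exact (loc_X_unit (k := k)).mul (v.isUnit.map (loc (k := k) B))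
  exact ⟨u, IsLocalization.liftAlgHom hunit, hu0, huX, fun f => IsLocalization.lift_eq hunit f⟩

/-- The fixed point: the limit of the orbit at the pole of the parameter. -/
theorem key {G X : Over (Spec (CommRingCat.of k))} [GrpObj G] [IsAffine G.left] [IsProper X.hom]
    (x₀ : 𝟙_ (Over (Spec (CommRingCat.of k))) ⟶ X) (a : AlgGrp.Action G X) (s : sp k (Kt k) ⟶ G)
    (h : ∀ (B : Type u) [CommRing B] [Algebra k B] (g : sp k B ⟶ G),
      ∃ (u wι : PowerSeries k →ₐ[k] PowerSeries B) (φ ψ : Kt k →ₐ[k] Bt B),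
        (∀ f : PowerSeries k, PowerSeries.constantCoeff (u f) = algebraMap k B (PowerSeries.constantCoeff f)) ∧
        (∀ f : PowerSeries k, PowerSeries.constantCoeff (wι f) = algebraMap k B (PowerSeries.constantCoeff f)) ∧
        (∀ f : PowerSeries k, φ (algebraMap _ _ f) = loc (k := k) B (u f)) ∧ (∀ f : PowerSeries k, ψ (algebraMap _ _ f) = loc (k := k) B (wι f)) ∧
        spMap φ ≫ s = (spMap ((loc (k := k) B).comp (cB B)) ≫ g) * (spMap ψ ≫ s)) :
    ∃ x : 𝟙_ (Over (Spec (CommRingCat.of k))) ⟶ X, a.IsFixedPt x := by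
  let j : PowerSeries k →ₐ[k] Kt k := IsScalarTower.toAlgHom k (PowerSeries k) (Kt k)
  let o : sp k (Kt k) ⟶ X := lift s (toUnit _ ≫ x₀) ≫ a.act
  have hcrit : ValuativeCriterion.Existence X.hom :=
    (UniversallyClosed.eq_valuativeCriterion ▸ (inferInstance : UniversallyClosed X.hom) :
      (ValuativeCriterion.Existence ⊓ @QuasiCompact : MorphismProperty Scheme) X.hom).1
  obtain ⟨⟨l⟩⟩ := hcrit
    { R := PowerSeries k
      K := Kt k
      i₁ := o.left
      i₂ := (sp k (PowerSeries k)).hom
      commSq := ⟨(Over.w o).trans (Over.w (spMap j)).symm⟩ }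
  let f : sp k (PowerSeries k) ⟶ X := Over.homMk l.l l.fac_right
  have hf : spMap j ≫ f = o := Over.OverMorphism.ext l.fac_left
  let pt : 𝟙_ (Over (Spec (CommRingCat.of k))) ⟶ sp k k := Over.homMk (𝟙 (Spec (CommRingCat.of k))) (by
    show 𝟙 _ ≫ Spec.map (CommRingCat.ofHom (algebraMap k k)) = 𝟙 _
    simp)
  let x : 𝟙_ (Over (Spec (CommRingCat.of k))) ⟶ X := pt ≫ spMap (constB k) ≫ f
  refine ⟨x, isFixedPt_of_algebras a x fun B _ _ g => ?_⟩
  obtain ⟨u, wι, φ, ψ, hu0, hι0, hφ, hψ, heq⟩ := h B g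
  have hconst : ∀ (w : PowerSeries k →ₐ[k] PowerSeries B),
      (∀ f : PowerSeries k, PowerSeries.constantCoeff (w f) = algebraMap k B (PowerSeries.constantCoeff f)) →
      spMap (constB B) ≫ spMap w ≫ f = toUnit _ ≫ x := by
    intro w hw
    have e1 : (constB B).comp w = (Algebra.ofId k B).comp (constB k) := AlgHom.ext hw
    have e2 : spMap (Algebra.ofId k B) = toUnit (sp k B) ≫ pt :=
      Over.OverMorphism.ext (Category.comp_id (Spec.map _)).symm
    rw [← Category.assoc, spMap_comp, e1, ← spMap_comp, e2]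
    simp only [x, Category.assoc]
  have hgen : ∀ (w : PowerSeries k →ₐ[k] PowerSeries B) (χ : Kt k →ₐ[k] Bt B),
      (∀ f : PowerSeries k, χ (algebraMap _ _ f) = loc (k := k) B (w f)) →
      spMap (loc (k := k) B) ≫ spMap w ≫ f = lift (spMap χ ≫ s) (toUnit _ ≫ x₀) ≫ a.act := by
    intro w χ hχ
    have e1 : (loc (k := k) B).comp w = χ.comp j := AlgHom.ext fun r => (hχ r).symm
    rw [← Category.assoc, spMap_comp, e1, ← spMap_comp, Category.assoc, hf]
    simp only [o]
    rw [comp_lift_assoc, ← Category.assoc (spMap χ) (toUnit _), comp_toUnit]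
  have main : spMap u ≫ f = lift (spMap (cB B) ≫ g) (spMap wι ≫ f) ≫ a.act := by
    refine sp_ext_of_injective (loc (k := k) B) loc_injective ?_
    rw [hgen u φ hφ, heq, AlgGrp.Action.lift_mul_act, comp_lift_assoc, hgen wι ψ hψ, ← Category.assoc, spMap_comp]
  have hcB : spMap (constB B) ≫ spMap (cB B) = 𝟙 (sp k B) := by
    rw [spMap_comp, ← spMap_id]
    exact congrArg spMap (AlgHom.ext fun b => PowerSeries.constantCoeff_C b)
  have := congrArg (spMap (constB B) ≫ ·) main
  simp only [comp_lift_assoc] at this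
  rw [hconst u hu0, hconst wι hι0, reassoc_of% hcB] at this
  exact this.symm

/-- The coordinate of a point with values in an algebra. -/
noncomputable def valA (R : Type u) [CommRing R] [Algebra k R] (x : sp k R ⟶ Red.Ga (Spec (CommRingCat.of k))) : R :=
  (Scheme.ΓSpecIso (CommRingCat.of R)).hom (Red.gaFn x)

/-- The coordinate of a point with values in an algebra. -/
noncomputable def valM (R : Type u) [CommRing R] [Algebra k R] (x : sp k R ⟶ Red.Gm (Spec (CommRingCat.of k))) : R :=
  (Scheme.ΓSpecIso (CommRingCat.of R)).hom (Red.gmFn x)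

theorem val_natural {R R' : Type u} [CommRing R] [CommRing R'] [Algebra k R] [Algebra k R'] (φ : R →ₐ[k] R')
    (c : Γ((sp k R).left, ⊤)) :
    (Scheme.ΓSpecIso (CommRingCat.of R')).hom ((spMap φ).left.appTop c) =
      φ ((Scheme.ΓSpecIso (CommRingCat.of R)).hom c) :=
  congr($(Scheme.ΓSpecIso_naturality (CommRingCat.ofHom φ.toRingHom)) c)

theorem valA_comp {R R' : Type u} [CommRing R] [CommRing R'] [Algebra k R] [Algebra k R'] (φ : R →ₐ[k] R')
    (x : sp k R ⟶ Red.Ga (Spec (CommRingCat.of k))) : valA R' (spMap φ ≫ x) = φ (valA R x) := by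
  rw [valA, GaPts.gaFn_comp]; exact val_natural φ _

theorem valM_comp {R R' : Type u} [CommRing R] [CommRing R'] [Algebra k R] [Algebra k R'] (φ : R →ₐ[k] R')
    (x : sp k R ⟶ Red.Gm (Spec (CommRingCat.of k))) : valM R' (spMap φ ≫ x) = φ (valM R x) := by
  rw [valM, GmPts.gmFn_comp]; exact val_natural φ _

theorem valA_injective (R : Type u) [CommRing R] [Algebra k R] : Function.Injective (valA (k := k) R) := fun _ _ h =>
  GaPts.gaFn_injective ((ConcreteCategory.bijective_of_isIso (Scheme.ΓSpecIso (CommRingCat.of R)).hom).1 h)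

theorem valM_injective (R : Type u) [CommRing R] [Algebra k R] : Function.Injective (valM (k := k) R) := fun _ _ h =>
  GmPts.gmFn_injective ((ConcreteCategory.bijective_of_isIso (Scheme.ΓSpecIso (CommRingCat.of R)).hom).1 h)

theorem valA_mul (R : Type u) [CommRing R] [Algebra k R] (x y : sp k R ⟶ Red.Ga (Spec (CommRingCat.of k))) :
    valA R (x * y) = valA R x + valA R y := by
  rw [valA, GaPts.gaFn_mul]; exact map_add (Scheme.ΓSpecIso (CommRingCat.of R)).hom.hom _ _

theorem valM_mul (R : Type u) [CommRing R] [Algebra k R] (x y : sp k R ⟶ Red.Gm (Spec (CommRingCat.of k))) :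
    valM R (x * y) = valM R x * valM R y := by
  rw [valM, GmPts.gmFn_mul]; exact map_mul (Scheme.ΓSpecIso (CommRingCat.of R)).hom.hom _ _

theorem X_ne_zero : algebraMap (PowerSeries k) (Kt k) PowerSeries.X ≠ 0 :=
  (map_ne_zero_iff _ (IsFractionRing.injective (PowerSeries k) (Kt k))).mpr PowerSeries.X_ne_zero

theorem exists_data_Ga :
    ∃ s : sp k (Kt k) ⟶ Red.Ga (Spec (CommRingCat.of k)), ∀ (B : Type u) [CommRing B] [Algebra k B]
      (g : sp k B ⟶ Red.Ga (Spec (CommRingCat.of k))),
      ∃ (u wι : PowerSeries k →ₐ[k] PowerSeries B) (φ ψ : Kt k →ₐ[k] Bt B),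
        (∀ f : PowerSeries k, PowerSeries.constantCoeff (u f) = algebraMap k B (PowerSeries.constantCoeff f)) ∧
        (∀ f : PowerSeries k, PowerSeries.constantCoeff (wι f) = algebraMap k B (PowerSeries.constantCoeff f)) ∧
        (∀ f : PowerSeries k, φ (algebraMap _ _ f) = loc (k := k) B (u f)) ∧ (∀ f : PowerSeries k, ψ (algebraMap _ _ f) = loc (k := k) B (wι f)) ∧
        spMap φ ≫ s = (spMap ((loc (k := k) B).comp (cB B)) ≫ g) * (spMap ψ ≫ s) := by
  let t : Kt k := algebraMap (PowerSeries k) (Kt k) PowerSeries.X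
  let s₀ : sp k (Kt k) ⟶ Red.Ga (Spec (CommRingCat.of k)) :=
    GaPts.ptOfFn ((Scheme.ΓSpecIso (CommRingCat.of (Kt k))).inv t⁻¹)
  have hs : valA (Kt k) s₀ = t⁻¹ := by
    refine (congrArg (Scheme.ΓSpecIso (CommRingCat.of (Kt k))).hom (GaPts.gaFn_ptOfFn _)).trans ?_
    exact congr($((Scheme.ΓSpecIso (CommRingCat.of (Kt k))).inv_hom_id) _)
  refine ⟨s₀, fun B _ _ g => ?_⟩
  let a : B := valA B g
  have hw : IsUnit (1 + PowerSeries.X * PowerSeries.C a : PowerSeries B) :=
    PowerSeries.isUnit_iff_constantCoeff.mpr (by simp)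
  obtain ⟨u, φ, hu0, huX, hφ⟩ := exists_subst (k := k) hw.unit⁻¹
  obtain ⟨wι, ψ, hι0, hιX, hψ⟩ := exists_subst (k := k) (1 : (PowerSeries B)ˣ)
  refine ⟨u, wι, φ, ψ, hu0, hι0, hφ, hψ, ?_⟩
  apply valA_injective
  rw [valA_comp, valA_mul, valA_comp, valA_comp, hs]
  show φ t⁻¹ = loc (k := k) B (PowerSeries.C a) + ψ t⁻¹
  have h1 : φ t⁻¹ * φ t = 1 := by rw [← map_mul, inv_mul_cancel₀ X_ne_zero, map_one]
  have h2 : ψ t⁻¹ * ψ t = 1 := by rw [← map_mul, inv_mul_cancel₀ X_ne_zero, map_one]
  rw [hφ, huX, map_mul] at h1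
  rw [hψ, hιX, Units.val_one, _root_.mul_one] at h2
  have h3 : loc (k := k) B (↑hw.unit⁻¹) * loc (k := k) B (1 + PowerSeries.X * PowerSeries.C a) = 1 := by
    rw [← map_mul, hw.val_inv_mul, map_one]
  rw [map_add, map_one, map_mul] at h3
  refine (loc_X_unit (k := k) (B := B)).mul_left_injective ?_
  linear_combination (1 + loc (k := k) B PowerSeries.X * loc (k := k) B (PowerSeries.C a)) * h1 - h2 -
    (φ t⁻¹ * loc (k := k) B PowerSeries.X) * h3

theorem exists_data_Gm :
    ∃ s : sp k (Kt k) ⟶ Red.Gm (Spec (CommRingCat.of k)), ∀ (B : Type u) [CommRing B] [Algebra k B]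
      (g : sp k B ⟶ Red.Gm (Spec (CommRingCat.of k))),
      ∃ (u wι : PowerSeries k →ₐ[k] PowerSeries B) (φ ψ : Kt k →ₐ[k] Bt B),
        (∀ f : PowerSeries k, PowerSeries.constantCoeff (u f) = algebraMap k B (PowerSeries.constantCoeff f)) ∧
        (∀ f : PowerSeries k, PowerSeries.constantCoeff (wι f) = algebraMap k B (PowerSeries.constantCoeff f)) ∧
        (∀ f : PowerSeries k, φ (algebraMap _ _ f) = loc (k := k) B (u f)) ∧ (∀ f : PowerSeries k, ψ (algebraMap _ _ f) = loc (k := k) B (wι f)) ∧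
        spMap φ ≫ s = (spMap ((loc (k := k) B).comp (cB B)) ≫ g) * (spMap ψ ≫ s) := by
  let t : Kt k := algebraMap (PowerSeries k) (Kt k) PowerSeries.X
  have ht : IsUnit ((Scheme.ΓSpecIso (CommRingCat.of (Kt k))).inv t) := (Ne.isUnit X_ne_zero).map _
  let s₀ : sp k (Kt k) ⟶ Red.Gm (Spec (CommRingCat.of k)) := GmPts.ptOfUnit ht.unit
  have hs : valM (Kt k) s₀ = t := by
    refine (congrArg (Scheme.ΓSpecIso (CommRingCat.of (Kt k))).hom (GmPts.gmFn_ptOfUnit _)).trans ?_
    exact congr($((Scheme.ΓSpecIso (CommRingCat.of (Kt k))).inv_hom_id) _)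
  refine ⟨s₀, fun B _ _ g => ?_⟩
  let a : B := valM B g
  have ha : IsUnit a := (GmPts.isUnit_gmFn g).map (Scheme.ΓSpecIso (CommRingCat.of B)).hom.hom
  obtain ⟨u, φ, hu0, huX, hφ⟩ := exists_subst (k := k) (Units.map PowerSeries.C.toMonoidHom ha.unit)
  obtain ⟨wι, ψ, hι0, hιX, hψ⟩ := exists_subst (k := k) (1 : (PowerSeries B)ˣ)
  refine ⟨u, wι, φ, ψ, hu0, hι0, hφ, hψ, ?_⟩
  apply valM_injective
  rw [valM_comp, valM_mul, valM_comp, valM_comp, hs, hφ, hψ, huX, hιX, map_mul, map_mul, Units.val_one, map_one,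
    _root_.mul_one, _root_.mul_comm]
  rfl

/-- The data for a group transport along isomorphisms. -/
theorem transport_data {G H : Over (Spec (CommRingCat.of k))} [GrpObj G] [GrpObj H] (e : G ≅ H) [IsMonHom e.hom]
    (h : ∃ s : sp k (Kt k) ⟶ H, ∀ (B : Type u) [CommRing B] [Algebra k B] (g : sp k B ⟶ H),
      ∃ (u wι : PowerSeries k →ₐ[k] PowerSeries B) (φ ψ : Kt k →ₐ[k] Bt B),
        (∀ f : PowerSeries k, PowerSeries.constantCoeff (u f) = algebraMap k B (PowerSeries.constantCoeff f)) ∧
        (∀ f : PowerSeries k, PowerSeries.constantCoeff (wι f) = algebraMap k B (PowerSeries.constantCoeff f)) ∧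
        (∀ f : PowerSeries k, φ (algebraMap _ _ f) = loc (k := k) B (u f)) ∧
        (∀ f : PowerSeries k, ψ (algebraMap _ _ f) = loc (k := k) B (wι f)) ∧
        spMap φ ≫ s = (spMap ((loc (k := k) B).comp (cB B)) ≫ g) * (spMap ψ ≫ s)) :
    ∃ s : sp k (Kt k) ⟶ G, ∀ (B : Type u) [CommRing B] [Algebra k B] (g : sp k B ⟶ G),
      ∃ (u wι : PowerSeries k →ₐ[k] PowerSeries B) (φ ψ : Kt k →ₐ[k] Bt B),
        (∀ f : PowerSeries k, PowerSeries.constantCoeff (u f) = algebraMap k B (PowerSeries.constantCoeff f)) ∧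
        (∀ f : PowerSeries k, PowerSeries.constantCoeff (wι f) = algebraMap k B (PowerSeries.constantCoeff f)) ∧
        (∀ f : PowerSeries k, φ (algebraMap _ _ f) = loc (k := k) B (u f)) ∧
        (∀ f : PowerSeries k, ψ (algebraMap _ _ f) = loc (k := k) B (wι f)) ∧
        spMap φ ≫ s = (spMap ((loc (k := k) B).comp (cB B)) ≫ g) * (spMap ψ ≫ s) := by
  obtain ⟨s, hs⟩ := h
  refine ⟨s ≫ e.inv, fun B _ _ g => ?_⟩
  obtain ⟨u, wι, φ, ψ, h1, h2, h3, h4, h5⟩ := hs B (g ≫ e.hom)
  refine ⟨u, wι, φ, ψ, h1, h2, h3, h4, ?_⟩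
  rw [← cancel_mono e.hom, MonObj.mul_comp]
  simp only [Category.assoc, e.inv_hom_id, Category.comp_id]
  exact h5

/-- The case of a one-dimensional group. Let k be a field, X a proper k-scheme having a k-rational
point, and G a k-group scheme isomorphic, as a k-group scheme, to the additive group or to the
multiplicative group over k. Then every action of G on X fixes some k-rational point of X: there is
a k-point x with g · x = x for all points g of G with values in any k-scheme. (This is the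
one-dimensional case of the fixed point property of k-split solvable groups acting on proper
k-schemes with a rational point, to which the general case reduces by induction along a composition
series.) -/
theorem result (k : Type u) [Field k]
    (G X : Over (Spec (CommRingCat.of k))) [GrpObj G]
    (hG : Nonempty (Grp.mk G ≅ Grp.mk (Red.Ga (Spec (CommRingCat.of k)))) ∨ Nonempty (Grp.mk G ≅ Grp.mk (Red.Gm (Spec (CommRingCat.of k)))))
    [IsProper X.hom] (x₀ : 𝟙_ (Over (Spec (CommRingCat.of k))) ⟶ X) (a : AlgGrp.Action G X) :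
    ∃ x : 𝟙_ (Over (Spec (CommRingCat.of k))) ⟶ X, a.IsFixedPt x := by
  rcases hG with h | h <;> obtain ⟨e⟩ := h
  · haveI : IsMonHom e.hom.hom.hom := e.hom.hom.isMonHom_hom
    haveI : IsAffine (Red.GaZ.{u}).left := inferInstanceAs (IsAffine (Spec _))
    haveI : IsAffineHom (Red.GaZ.{u}).hom := inferInstance
    haveI : IsAffineHom (Red.Ga (Spec (CommRingCat.of k))).hom := inferInstanceAs (IsAffineHom (Limits.pullback.snd _ _))
    haveI : IsAffine (Red.Ga (Spec (CommRingCat.of k))).left :=
      isAffine_of_isAffineHom (Red.Ga (Spec (CommRingCat.of k))).hom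
    let e' : G ≅ Red.Ga (Spec (CommRingCat.of k)) := (Grp.forget _).mapIso e
    haveI : IsMonHom e'.hom := e.hom.hom.isMonHom_hom
    haveI : IsIso e'.hom.left := ((Over.forget _).mapIso e').isIso_hom
    haveI : IsAffine G.left := IsAffine.of_isIso e'.hom.left
    obtain ⟨s, hs⟩ := transport_data e' exists_data_Ga
    exact key x₀ a s hs
  · haveI : IsMonHom e.hom.hom.hom := e.hom.hom.isMonHom_hom
    haveI : IsAffine GmPts.GmZ.{u}.left := inferInstanceAs (IsAffine (Spec _))
    haveI : IsAffineHom GmPts.GmZ.{u}.hom := inferInstance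
    haveI : IsAffineHom (Red.Gm (Spec (CommRingCat.of k))).hom := inferInstanceAs (IsAffineHom (Limits.pullback.snd _ _))
    haveI : IsAffine (Red.Gm (Spec (CommRingCat.of k))).left :=
      isAffine_of_isAffineHom (Red.Gm (Spec (CommRingCat.of k))).hom
    let e' : G ≅ Red.Gm (Spec (CommRingCat.of k)) := (Grp.forget _).mapIso e
    haveI : IsMonHom e'.hom := e.hom.hom.isMonHom_hom
    haveI : IsIso e'.hom.left := ((Over.forget _).mapIso e').isIso_hom
    haveI : IsAffine G.left := IsAffine.of_isIso e'.hom.left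
    obtain ⟨s, hs⟩ := transport_data e' exists_data_Gm
    exact key x₀ a s hs

end Groth.Agent.S15592
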