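import Groth.Statements.S15595
import Mathlib
import Groth.Agent.S0565
-- import your own Groth.Agent.* helpers here

set_option autoImplicit false
universe u
open TensorProduct
attribute [local instance] RingHom.ker_isPrime
open CAlg

namespace Groth.Agent.S15595

/-- Let k ⊆ K be a field extension and A a Noetherian local k-algebra with residue field k, recorded by
a k-algebra map π : A → k whose kernel is the maximal ideal. Let π_K : K ⊗_k A → K be the induced
K-algebra map, m' its kernel, and A' the localization of K ⊗_k A at m'. Assume A' is Noetherian.
Then A is a regular local ring if and only if A' is a regular local ring. -/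
theorem result (k K A : Type u) [Field k] [Field K]
    [Algebra k K] [CommRing A] [Algebra k A] [IsLocalRing A] [IsNoetherianRing A]
    (π : A →ₐ[k] k) (hπ : RingHom.ker π = IsLocalRing.maximalIdeal A)
    [IsNoetherianRing (Localization.AtPrime (RingHom.ker
      ((Algebra.TensorProduct.rid k K K).toAlgHom.comp (Algebra.TensorProduct.map (AlgHom.id K K) π))))] :
    IsRegularLocalRing A ↔ IsRegularLocalRing (Localization.AtPrime (RingHom.ker
      ((Algebra.TensorProduct.rid k K K).toAlgHom.comp (Algebra.TensorProduct.map (AlgHom.id K K) π)))) := by
  set πK := (Algebra.TensorProduct.rid k K K).toAlgHom.comp (Algebra.TensorProduct.map (AlgHom.id K K) π) with hπK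
  set m' := RingHom.ker πK with hm'
  set A' := Localization.AtPrime m' with hA'
  letI : Algebra A (K ⊗[k] A) := Algebra.TensorProduct.rightAlgebra
  haveI : Module.Flat A (K ⊗[k] A) :=
    Module.Flat.of_linearEquiv
      ({ toAddEquiv := (TensorProduct.comm k K A).toAddEquiv
         map_smul' := fun a x => by
          induction x using TensorProduct.induction_on with
          | zero => simp
          | tmul c b =>
            show TensorProduct.comm k K A ((1 ⊗ₜ[k] a) * (c ⊗ₜ[k] b)) = a • (b ⊗ₜ[k] c)
            rw [Algebra.TensorProduct.tmul_mul_tmul, one_mul, TensorProduct.comm_tmul, TensorProduct.smul_tmul', smul_eq_mul]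
          | add x y hx hy =>
            change TensorProduct.comm k K A (a • x) = a • TensorProduct.comm k K A x at hx
            change TensorProduct.comm k K A (a • y) = a • TensorProduct.comm k K A y at hy
            show TensorProduct.comm k K A (a • (x + y)) = a • TensorProduct.comm k K A (x + y)
            rw [smul_add, map_add, map_add, hx, hy, smul_add] } : (K ⊗[k] A) ≃ₗ[A] A ⊗[k] K)
  haveI : Module.Flat (K ⊗[k] A) A' := IsLocalization.flat _ m'.primeCompl
  haveI : IsScalarTower A (K ⊗[k] A) A' := inferInstance
  haveI : Module.Flat A A' := Module.Flat.trans A (K ⊗[k] A) A'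
  have hπs : Function.Surjective π := fun c => ⟨algebraMap k A c, by simp⟩
  have hker : m' = (IsLocalRing.maximalIdeal A).map (algebraMap A (K ⊗[k] A)) := by
    have h1 : m' = RingHom.ker (Algebra.TensorProduct.map (AlgHom.id k K) π) := by
      ext x
      constructor
      · intro hx
        have hx' : (Algebra.TensorProduct.rid k K K) (Algebra.TensorProduct.map (AlgHom.id K K) π x) = 0 := hx
        exact (Algebra.TensorProduct.rid k K K).injective (hx'.trans (map_zero _).symm)
      · intro hx
        have hx' : Algebra.TensorProduct.map (AlgHom.id K K) π x = 0 := hx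
        show (Algebra.TensorProduct.rid k K K) (Algebra.TensorProduct.map (AlgHom.id K K) π x) = 0
        rw [hx', map_zero]
    rw [h1, ← hπ]
    exact Algebra.TensorProduct.lTensor_ker π hπs
  have hmax : IsLocalRing.maximalIdeal A' = (IsLocalRing.maximalIdeal A).map (algebraMap A A') := by
    rw [IsScalarTower.algebraMap_eq A (K ⊗[k] A) A', ← Ideal.map_map, ← hker]
    exact (Localization.AtPrime.map_eq_maximalIdeal).symm
  haveI : IsLocalHom (algebraMap A A') :=
    ((IsLocalRing.local_hom_TFAE _).out 0 2).mpr hmax.ge
  constructor
  · intro hA
    obtain ⟨hreg⟩ := hA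
    refine IsRegularLocalRing.of_spanFinrank_maximalIdeal_le A' ?_
    have hfg : (IsLocalRing.maximalIdeal A).FG := IsNoetherian.noetherian _
    set s := Submodule.generators (IsLocalRing.maximalIdeal A)
    have hscard := Submodule.FG.generators_ncard hfg
    have hsfin : s.Finite := Submodule.FG.finite_generators hfg
    have hs : Submodule.span A s = IsLocalRing.maximalIdeal A := Submodule.span_generators _
    calc ((IsLocalRing.maximalIdeal A').spanFinrank : WithBot ℕ∞)
        ≤ ((IsLocalRing.maximalIdeal A).spanFinrank : ℕ) := by
          refine Nat.cast_le.2 ?_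
          rw [hmax, ← hscard]
          conv_lhs => rw [← hs]
          rw [show Submodule.span A s = Ideal.span s from rfl, Ideal.map_span]
          exact (Submodule.spanFinrank_span_le_ncard_of_finite (hsfin.image _)).trans (Set.ncard_image_le hsfin)
      _ = ringKrullDim A := hreg
      _ ≤ ringKrullDim A' := by
          haveI : (IsLocalRing.maximalIdeal A').LiesOver (IsLocalRing.maximalIdeal A) :=
            ⟨(IsLocalRing.maximalIdeal_comap (algebraMap A A')).symm⟩
          rw [← IsLocalRing.maximalIdeal_height_eq_ringKrullDim, ← IsLocalRing.maximalIdeal_height_eq_ringKrullDim,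
            Ideal.height_eq_height_add_of_liesOver_of_hasGoingDown (IsLocalRing.maximalIdeal A) (IsLocalRing.maximalIdeal A')]
          exact WithBot.coe_le_coe.2 le_self_add
  · intro hA'
    exact Groth.Agent.S0565.result A A'

end Groth.Agent.S15595
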