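import Groth.Statements.S15601
import Groth.Agent.AGFHopf.PFlag
import Groth.Agent.ComodLib.Rosenlicht
import Groth.Agent.AGFHopf.LieKolchin
-- import your own Groth.Agent.* helpers here

set_option autoImplicit false
universe u v
open HopfRep

namespace Groth.Agent.S15601

/-- Let k be an algebraically closed field and G = Spec A a smooth connected affine k-group: A is a
finitely generated commutative Hopf algebra over k which is reduced and has no idempotents other
than 0 and 1. Suppose G is solvable, i.e. the group G(k) of k-algebra maps A → k under convolution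
is solvable. Then the derived group of G is unipotent: every element of the commutator subgroup of
G(k) acts in every finite-dimensional A-comodule by an operator u with u − 1 nilpotent. (Stated over
an algebraically closed field, where the derived group is determined by the commutators of k-points;
the case of a general field reduces to this one.) -/
theorem result (k : Type u) [Field k] [IsAlgClosed k]
    (A : Type v) [CommRing A] [HopfAlgebra k A] [Algebra.FiniteType k A] [IsReduced A]
    (hconn : ∀ e : A, IsIdempotentElem e → e = 0 ∨ e = 1)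
    [Group.IsSolvable (WithConv (A →ₐ[k] k))]
    (g : WithConv (A →ₐ[k] k)) (hg : g ∈ commutator (WithConv (A →ₐ[k] k)))
    (V : Type v) [AddCommGroup V] [Module k V] [HopfRep.Comod k A V] [Module.Finite k V] :
    IsNilpotent (HopfRep.Comod.act k A V g.ofConv - 1) := by
  haveI := Groth.Agent.ComodLib.isDomain_of_connected k hconn
  have hsep : ∀ a : A, (∀ x : WithConv (A →ₐ[k] k), x.ofConv a = 0) → a = 0 := fun a ha =>
    Groth.Agent.AGFHopf.eq_zero_of_vanish (k := k) fun x => ha (WithConv.toConv x)
  have hirr : Groth.Agent.AGFHopf.ZPts.IsIrr (Groth.Agent.AGFHopf.ptR k A)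
      ((⊤ : Subgroup (WithConv (A →ₐ[k] k))) : Set (WithConv (A →ₐ[k] k))) := by
    refine ⟨⟨1, trivial⟩, ?_⟩
    rintro ⟨_, a, rfl⟩ ⟨_, b, rfl⟩ hab
    have h0 : a * b = 0 := hsep _ fun x => by rw [map_mul]; exact hab x trivial
    rcases mul_eq_zero.mp h0 with e | e
    · exact Or.inl fun x _ => by show x.ofConv a = 0; rw [e, map_zero]
    · exact Or.inr fun x _ => by show x.ofConv b = 0; rw [e, map_zero]
  have hsol : Group.IsSolvable (⊤ : Subgroup (WithConv (A →ₐ[k] k))) :=
    solvable_of_surjective (f := (Subgroup.topEquiv (G := WithConv (A →ₐ[k] k))).symm.toMonoidHom) (fun x => ⟨x.1, Subtype.ext rfl⟩)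
  obtain ⟨D⟩ := Groth.Agent.AGFHopf.exists_flag_pts (V := V) hirr hsol
  refine D.isNilpotent_of_χ (h := g) trivial fun j hj => ?_
  have h1 := Abelianization.commutator_subset_ker
    ((D.chi (le_refl (⊤ : Subgroup (WithConv (A →ₐ[k] k)))) ⟨j, hj⟩).comp Subgroup.topEquiv.symm.toMonoidHom) hg
  exact (D.coe_chi le_rfl ⟨j, hj⟩ ⟨g, trivial⟩).symm.trans (congrArg Units.val (MonoidHom.mem_ker.mp h1))

end Groth.Agent.S15601
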