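import Groth.Statements.S15609
import Groth.Agent.GrpSchLib.KernelGrp
import Groth.Agent.GrpSchLib.AntiAffineHom
import Groth.Agent.GrpSchLib.Tangent
-- import your own Groth.Agent.* helpers here

set_option autoImplicit false
set_option linter.style.haveILetI false
universe u
open CategoryTheory MonoidalCategory CartesianMonoidalCategory MonObj GrpObj AlgebraicGeometry
open AlgGrp

namespace Groth.Agent.S15609

theorem eq_bot_of_tangent {k A : Type u} [Field k] [CommRing A] [Algebra k A] [IsNoetherianRing A]
    (χ : A →ₐ[k] k) (hnil : RingHom.ker χ ≤ nilradical A)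
    (h : ∀ g : A →ₐ[k] DualNumber k, (TrivSqZeroExt.fstHom k k k).comp g = χ → ∀ a, (g a).snd = 0) :
    RingHom.ker χ = ⊥ := by
  set M := RingHom.ker χ with hM
  have hsq : M ≤ M ^ 2 := by
    intro a ha
    by_contra hn
    let V := A ⧸ (M ^ 2).restrictScalars k
    have hne : Submodule.Quotient.mk (p := (M ^ 2).restrictScalars k) a ≠ (0 : V) := by
      rwa [Ne, Submodule.Quotient.mk_eq_zero]
    obtain ⟨ψ, hψ⟩ : ∃ ψ : Module.Dual k V, ψ (Submodule.Quotient.mk a) ≠ 0 := by
      by_contra hc
      push Not at hc
      exact hne ((Module.forall_dual_apply_eq_zero_iff k _).mp hc)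
    let l : A →ₗ[k] k := (ψ ∘ₗ ((M ^ 2).restrictScalars k).mkQ) ∘ₗ
      (LinearMap.id - (Algebra.linearMap k A) ∘ₗ χ.toLinearMap)
    have hlev : ∀ b, l b = ψ (Submodule.Quotient.mk (b - algebraMap k A (χ b))) := fun b => rfl
    have hl1 : l 1 = 0 := by rw [hlev]; simp
    have hlmul : ∀ b c, l (b * c) = χ b * l c + χ c * l b := by
      intro b c
      have e : b * c - algebraMap k A (χ (b * c)) = (b - algebraMap k A (χ b)) * (c - algebraMap k A (χ c)) +
          (χ b • (c - algebraMap k A (χ c)) + χ c • (b - algebraMap k A (χ b))) := by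
        simp only [Algebra.smul_def, map_mul]; ring
      have h2 : (Submodule.Quotient.mk ((b - algebraMap k A (χ b)) * (c - algebraMap k A (χ c))) : V) = 0 := by
        refine (Submodule.Quotient.mk_eq_zero _).mpr ?_
        show _ ∈ M ^ 2
        rw [pow_two]
        exact Ideal.mul_mem_mul (by simp [hM, RingHom.mem_ker]) (by simp [hM, RingHom.mem_ker])
      rw [hlev, hlev, hlev, e, Submodule.Quotient.mk_add, h2, _root_.zero_add, Submodule.Quotient.mk_add,
        Submodule.Quotient.mk_smul, Submodule.Quotient.mk_smul, map_add, map_smul, map_smul]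
      rfl
    let g : A →ₐ[k] DualNumber k := AlgHom.ofLinearMap
      ((TrivSqZeroExt.inlAlgHom k k k).toLinearMap ∘ₗ χ.toLinearMap + (TrivSqZeroExt.inrHom k k) ∘ₗ l)
      (by simp [hl1])
      (fun b c => by
        ext
        · simp
        · simp [hlmul]; ring)
    have hg := h g (by ext b; simp [g]) a
    refine hψ ?_
    have : l a = 0 := by simpa [g] using hg
    rwa [hlev, show χ a = 0 from ha, map_zero, sub_zero] at this
  obtain ⟨n, hn⟩ := IsNoetherianRing.isNilpotent_nilradical A
  have hp : ∀ j : ℕ, M ≤ M ^ (j + 1) := by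
    intro j
    induction j with
    | zero => rw [pow_one]
    | succ j ih => exact hsq.trans (by rw [pow_two, pow_succ _ (j + 1)]; exact Ideal.mul_mono_left ih)
  refine le_bot_iff.mp ((hp n).trans ((Ideal.pow_right_mono hnil _).trans ?_))
  rw [pow_succ, hn, Ideal.zero_eq_bot, Ideal.bot_mul]

theorem mono_of_points {k : Type u} [Field k] {G G' : Over (Spec (CommRingCat.of k))} [GrpObj G] [GrpObj G']
    [LocallyOfFiniteType G.hom] [LocallyOfFiniteType G'.hom] (f : G ⟶ G') [IsMonHom f]
    (hgeom : ∀ (K : Type u) [Field K] [IsAlgClosed K] [Algebra k K],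
      Function.Injective (fun g : (Over.mk (Spec.map (CommRingCat.ofHom (algebraMap k K)))) ⟶ G => g ≫ f))
    (htan : ∀ g : (Over.mk (Spec.map (CommRingCat.ofHom (algebraMap k (DualNumber k))))) ⟶ G,
      (∀ x : 𝟙_ (Over (Spec (CommRingCat.of k))) ⟶ (Over.mk (Spec.map (CommRingCat.ofHom (algebraMap k (DualNumber k))))), x ≫ g = η[G]) →
        g ≫ f = toUnit _ ≫ η[G'] → g = toUnit _ ≫ η[G]) :
    Mono f := by
  haveI := Groth.Agent.GrpSchLib.AntiAffine.isSeparated_grp G'
  obtain ⟨N, _, i, hi, hic, -, hk⟩ := Groth.Agent.GrpSchLib.exists_kernel f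
  haveI := hi; haveI := hic
  haveI : Mono i := (Over.forget _).mono_of_mono_map (inferInstanceAs (Mono i.left))
  haveI : LocallyOfFiniteType N.hom := by rw [← Over.w i]; infer_instance
  let e : N.left := η[N].left (IsLocalRing.closedPoint k)
  have hpt : ∀ y : N.left, y = e := by
    intro y
    let L := AlgebraicClosure (N.left.residueField y)
    let s : Spec (CommRingCat.of L) ⟶ N.left :=
      Spec.map (CommRingCat.ofHom (algebraMap (N.left.residueField y) L)) ≫ N.left.fromSpecResidueField y
    letI : Algebra k L := (Spec.preimage (s ≫ N.hom)).hom.toAlgebra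
    let a : Over.mk (Spec.map (CommRingCat.ofHom (algebraMap k L))) ⟶ N := Over.homMk s (Spec.map_preimage _).symm
    have h : a ≫ i = toUnit _ ≫ η[G] := by
      refine hgeom L ?_
      show (a ≫ i) ≫ f = (toUnit _ ≫ η[G]) ≫ f
      rw [Category.assoc, hk.w, ← Category.assoc, comp_toUnit, Category.assoc, IsMonHom.one_hom f]
    have ha : a = toUnit _ ≫ η[N] := by
      rw [← cancel_mono i, h, Category.assoc, IsMonHom.one_hom i]
    have h' := congrArg (fun q : _ ⟶ N => q.left (IsLocalRing.closedPoint L)) ha
    have hs : s (IsLocalRing.closedPoint L) = y := Scheme.fromSpecResidueField_apply y _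
    refine hs.symm.trans (h'.trans ?_)
    show η[N].left ((toUnit (Over.mk (Spec.map (CommRingCat.ofHom (algebraMap k L))))).left _) = _
    exact congrArg _ (Subsingleton.elim (α := PrimeSpectrum k) _ _)
  haveI : Subsingleton N.left := ⟨fun a b => (hpt a).trans (hpt b).symm⟩
  obtain ⟨U, hU, heU, -⟩ := exists_isAffineOpen_mem_and_subset (X := N.left) (x := e) (U := ⊤) trivial
  have hUtop : U = ⊤ := top_unique fun y _ => (hpt y) ▸ heU
  haveI : IsAffine N.left := by
    haveI : IsAffine (⊤ : N.left.Opens).toScheme := hUtop ▸ hU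
    exact IsAffine.of_isIso N.left.topIso.inv
  let A : Type u := Γ(N.left, ⊤)
  let π : Spec (CommRingCat.of A) ⟶ Spec (CommRingCat.of k) := N.left.isoSpec.inv ≫ N.hom
  letI : Algebra k A := (Spec.preimage π).hom.toAlgebra
  have hπ : Spec.map (CommRingCat.ofHom (algebraMap k A)) = π := Spec.map_preimage _
  haveI : LocallyOfFiniteType π := inferInstance
  haveI : Algebra.FiniteType k A :=
    RingHom.finiteType_algebraMap.mp ((HasRingHomProperty.Spec_iff (P := @LocallyOfFiniteType)).mp
      (show LocallyOfFiniteType (Spec.map (CommRingCat.ofHom (algebraMap k A))) by rw [hπ]; infer_instance))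
  haveI : IsNoetherianRing A := Algebra.FiniteType.isNoetherianRing k A
  let c : Spec (CommRingCat.of k) ⟶ Spec (CommRingCat.of A) := η[N].left ≫ N.left.isoSpec.hom
  have hc : c ≫ π = 𝟙 _ := by
    show (η[N].left ≫ N.left.isoSpec.hom) ≫ N.left.isoSpec.inv ≫ N.hom = _
    rw [Category.assoc, Iso.hom_inv_id_assoc]
    exact Over.w η[N]
  let χ : A →ₐ[k] k := { (Spec.preimage c).hom with
    commutes' := fun r => by
      have : Spec.preimage π ≫ Spec.preimage c = 𝟙 _ := Spec.map_injective (by
        rw [Spec.map_comp, Spec.map_preimage, Spec.map_preimage, hc, Spec.map_id])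
      exact congrArg (fun q => q.hom r) this }
  have hχ : Spec.map (CommRingCat.ofHom χ.toRingHom) = c := Spec.map_preimage _
  haveI : Subsingleton (Spec (CommRingCat.of A)) :=
    (Scheme.homeoOfIso N.left.isoSpec).toEquiv.symm.subsingleton
  have hker : RingHom.ker χ = ⊥ := by
    refine eq_bot_of_tangent χ (fun a ha => ?_) (fun g hg => ?_)
    · rw [mem_nilradical, nilpotent_iff_mem_prime]
      intro P hP
      haveI : (RingHom.ker χ).IsPrime := RingHom.ker_isPrime _
      have : (⟨P, hP⟩ : PrimeSpectrum A) = ⟨RingHom.ker χ, inferInstance⟩ :=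
        Subsingleton.elim (α := Spec (CommRingCat.of A)) _ _
      have h' : P = RingHom.ker χ := congrArg PrimeSpectrum.asIdeal this
      rw [h']
      exact ha
    · let τ : GrpSchLib.specOver k A ⟶ N := Over.homMk N.left.isoSpec.inv hπ.symm
      have hsU : ∀ (Z : Over (Spec (CommRingCat.of k))), (toUnit Z).left = Z.hom := fun Z => Over.toUnit_left
      have hτ : GrpSchLib.specHom χ ≫ τ = toUnit _ ≫ η[N] := by
        ext1
        show Spec.map (CommRingCat.ofHom χ.toRingHom) ≫ N.left.isoSpec.inv =
          (toUnit (GrpSchLib.specOver k k)).left ≫ η[N].left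
        rw [hsU, hχ, Category.assoc, Iso.hom_inv_id, Category.comp_id]
        show η[N].left = Spec.map (CommRingCat.ofHom (RingHom.id k)) ≫ η[N].left
        rw [CommRingCat.ofHom_id, Spec.map_id, Category.id_comp]
      have htriv : GrpSchLib.specHom g ≫ τ = toUnit _ ≫ η[N] := by
        rw [← cancel_mono i, Category.assoc (toUnit _), IsMonHom.one_hom i, Category.assoc]
        refine htan _ (fun x => ?_) (by rw [Category.assoc, Category.assoc, hk.w, ← Category.assoc, ← Category.assoc,
          comp_toUnit])
        let u : GrpSchLib.specOver k k ⟶ 𝟙_ (Over (Spec (CommRingCat.of k))) := toUnit _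
        haveI : IsIso u := by
          haveI : IsIso ((Over.forget _).map u) := by
            show IsIso u.left
            rw [hsU]
            show IsIso (Spec.map (CommRingCat.ofHom (RingHom.id k)))
            rw [CommRingCat.ofHom_id, Spec.map_id]
            infer_instance
          exact isIso_of_reflects_iso _ (Over.forget _)
        rw [← cancel_epi u]
        have hux : u ≫ x = GrpSchLib.specHom (TrivSqZeroExt.fstHom k k k) := by
          refine Over.OverMorphism.ext ?_
          obtain ⟨φ, hφ⟩ := Spec.map_surjective (u ≫ x).left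
          rw [← hφ]
          have hw := Over.w (u ≫ x)
          rw [← hφ] at hw
          have hw' := Spec.map_injective ((Spec.map_comp _ _).trans hw)
          show Spec.map φ = Spec.map _
          congr 1
          refine CommRingCat.hom_ext (RingHom.ext fun (b : DualNumber k) => ?_)
          show φ.hom b = b.fst
          have h0 : φ.hom (DualNumber.eps : DualNumber k) = 0 := by
            refine IsNilpotent.eq_zero (IsNilpotent.map ⟨2, ?_⟩ φ.hom)
            rw [pow_two, DualNumber.eps_mul_eps]
          have hb : b = algebraMap k (DualNumber k) b.fst + algebraMap k (DualNumber k) b.snd * DualNumber.eps := by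
            ext <;> simp [TrivSqZeroExt.algebraMap_eq_inl]
          conv_lhs => rw [hb]
          rw [map_add, map_mul, h0, mul_zero, _root_.add_zero]
          exact congrArg (fun q => q.hom b.fst) hw'
        rw [← Category.assoc, hux, ← Category.assoc, GrpSchLib.specHom_comp, hg, reassoc_of% hτ,
          IsMonHom.one_hom i]
      have h2 : GrpSchLib.specHom g = GrpSchLib.specHom ((Algebra.ofId k (DualNumber k)).comp χ) := by
        haveI : IsIso τ := by
          haveI : IsIso ((Over.forget _).map τ) := inferInstanceAs (IsIso N.left.isoSpec.inv)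
          exact isIso_of_reflects_iso _ (Over.forget _)
        rw [← cancel_mono τ, htriv, ← GrpSchLib.specHom_comp, Category.assoc, hτ, ← Category.assoc, comp_toUnit]
      intro a
      have h3 := congrArg (fun q => q.hom a) (Spec.map_injective (congrArg CommaMorphism.left h2))
      simpa [TrivSqZeroExt.algebraMap_eq_inl] using congrArg TrivSqZeroExt.snd h3
  haveI : IsIso c := by
    rw [← hχ]
    haveI : IsIso (CommRingCat.ofHom χ.toRingHom) :=
      (ConcreteCategory.isIso_iff_bijective _).mpr
        ⟨(RingHom.injective_iff_ker_eq_bot χ.toRingHom).mpr hker, fun r => ⟨algebraMap k A r, χ.commutes r⟩⟩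
    infer_instance
  haveI : IsIso η[N].left := IsIso.of_isIso_comp_right η[N].left N.left.isoSpec.hom
  haveI : IsIso η[N] := by
    haveI : IsIso ((Over.forget _).map η[N]) := inferInstanceAs (IsIso η[N].left)
    exact isIso_of_reflects_iso _ (Over.forget _)
  refine ⟨fun {T} a b hab => ?_⟩
  have h1 : (a⁻¹ * b) ≫ f = toUnit T ≫ η[G'] := by
    rw [MonObj.mul_comp, GrpObj.inv_comp, hab, inv_mul_cancel]
    rfl
  obtain ⟨m, hm⟩ : ∃ m : T ⟶ N, m ≫ i = a⁻¹ * b := ⟨hk.lift _ _ h1, hk.lift_fst _ _ _⟩
  have : m = toUnit T ≫ η[N] := by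
    rw [← cancel_mono (inv η[N]), Category.assoc, IsIso.hom_inv_id, Category.comp_id]
    exact toUnit_unique _ _
  rw [this, Category.assoc, IsMonHom.one_hom i] at hm
  exact inv_mul_eq_one.mp hm.symm



/-- The implication (ii) ⇒ (i). Let k be a field and f : G ⟶ G' a homomorphism of k-group schemes of
finite type. Suppose that f is injective on K-points for every algebraically closed field K over k,
and that f is injective on tangent spaces at the identity: every point of G with values in the dual
numbers k[ε] which restricts to the identity at ε = 0 and is sent by f to the identity point of G'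
is itself the identity point. Then f has trivial kernel: it is a monomorphism. (The published
statement assumes G smooth; this implication does not use it.) -/
theorem result (k : Type u) [Field k]
    (G G' : Over (Spec (CommRingCat.of k))) [GrpObj G] [GrpObj G'] [LocallyOfFiniteType G.hom] [QuasiCompact G.hom]
    [LocallyOfFiniteType G'.hom] [QuasiCompact G'.hom] (f : G ⟶ G') [IsMonHom f]
    (hgeom : ∀ (K : Type u) [Field K] [IsAlgClosed K] [Algebra k K],
      Function.Injective (fun g : (Over.mk (Spec.map (CommRingCat.ofHom (algebraMap k K)))) ⟶ G => g ≫ f))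
    (htan : ∀ g : (Over.mk (Spec.map (CommRingCat.ofHom (algebraMap k (DualNumber k))))) ⟶ G,
      (∀ x : 𝟙_ (Over (Spec (CommRingCat.of k))) ⟶ (Over.mk (Spec.map (CommRingCat.ofHom (algebraMap k (DualNumber k))))), x ≫ g = η[G]) →
        g ≫ f = toUnit _ ≫ η[G'] → g = toUnit _ ≫ η[G]) :
    Mono f :=
  mono_of_points f hgeom htan

end Groth.Agent.S15609
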