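import Groth.Statements.S15645
import Groth.Agent.CStk17.FibNode

set_option autoImplicit false
universe u
open StrictSS

set_option backward.isDefEq.respectTransparency false
set_option backward.isDefEq.respectTransparency.types false

namespace Groth.Agent.S15645

open CategoryTheory CategoryTheory.Limits AlgebraicGeometry in
/-- A strictly semistable multipointed curve (C, D) over a scheme S is semistable. Here (C, D) is a
multipointed S-curve (C flat, finitely presented and of pure relative dimension one over S; D a
closed subscheme of C, flat, finitely presented and of relative dimension zero over S) every point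
of which has an open neighbourhood U, over an affine open Spec A of S, with an etale morphism of
pairs from (U, D ∩ U) to the line model (Spec A[T], zero section) or, when no marked point lies in
U, an etale morphism from U to a node model Spec A[u, v]/(uv - a); the conclusion is that C → S is
an at-worst-nodal family of curves, D → S is etale and D misses the non-smooth locus of C → S. (The
published remark concerns curves over the spectrum of a valuation ring; the notion and the
implication are local on the base, and this row states the implication over an arbitrary base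
scheme.) -/
theorem result
    {C D S : Scheme.{u}} (φ : C ⟶ S) (i : D ⟶ C) (h : StrictSS.IsStrictlySemistable φ i) :
    SSMod.IsSemistable φ i := by
  obtain ⟨hmp, hch⟩ := h
  obtain ⟨hfl, hlfp, hqc, hqs, hdim, hic, hDfl, hDlfp, hDdim⟩ := hmp
  haveI := hlfp
  haveI := hic
  refine ⟨⟨hfl, hlfp, hqc, hqs, hdim, hic, hDfl, hDlfp, hDdim⟩,
    ⟨hfl, hlfp, fun s => ⟨fun Z hZ => by simpa using hdim s Z hZ, ?_⟩⟩, ?_, ?_⟩
  · show CStk17.NodeSch.IsAWN (k := S.residueField s) (φ.fiberToSpecResidueField s)
    haveI : LocallyOfFiniteType (φ.fiberToSpecResidueField s) :=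
      MorphismProperty.pullback_snd _ _ (inferInstance : LocallyOfFiniteType φ)
    refine CStk17.NodeSch.isAWN_of_open_cover _ fun z _ => ?_
    rcases hch (φ.fiberι s z) with hl | hn
    · obtain ⟨A, j, hj, U, hxU, q, hq, f, fD, hf, hfq, _, _⟩ := hl
      refine ⟨φ.fiberι s ⁻¹ᵁ U, hxU, ?_⟩
      obtain ⟨ψ, hψ⟩ := CStk17.FibNode.isPullback_chartFib φ j q hq s z hxU
      haveI := CStk17.FibNode.smooth_lineToBase A
      haveI : Smooth q := hfq ▸ inferInstance
      haveI : Smooth (CStk17.FibNode.chartFib φ (U := U) s) :=
        MorphismProperty.of_isPullback hψ ‹Smooth q›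
      exact CStk17.FibNode.isAWN_of_smooth (k := S.residueField s) _
    · obtain ⟨A, j, hj, U, hxU, q, hq, a, f, hf, hfq, _⟩ := hn
      exact ⟨φ.fiberι s ⁻¹ᵁ U, hxU, CStk17.FibNode.isAWN_node_chart φ j q hq s a f hfq z hxU⟩
  · have key : ∀ d : D, ∃ V : D.Opens, d ∈ V ∧ Etale (V.ι ≫ i ≫ φ) := by
      intro d
      rcases hch (i d) with hl | hn
      · obtain ⟨A, j, hj, U, hxU, q, hq, f, fD, hf, hfq, hfD, hfDi⟩ := hl
        refine ⟨i ⁻¹ᵁ U, hxU, ?_⟩
        have h0 : lineZero A ≫ lineToBase A = 𝟙 _ := by
          rw [← Spec.map_comp, ← Spec.map_id]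
          congr 1
          ext x
          exact Polynomial.eval_C
        have h1 : (i ⁻¹ᵁ U).ι ≫ i ≫ φ = fD ≫ j := by
          rw [← morphismRestrict_ι_assoc, hq, ← hfq, ← Category.assoc, ← Category.assoc, ← hfDi]
          simp only [Category.assoc]
          rw [reassoc_of% h0]
        rw [h1]
        infer_instance
      · obtain ⟨A, j, hj, U, hxU, q, hq, a, f, hf, hfq, hdis⟩ := hn
        exact (Set.disjoint_left.1 hdis ⟨d, rfl⟩ hxU).elim
    choose V hV hV' using key
    refine (IsZariskiLocalAtSource.iff_of_iSup_eq_top (P := @Etale) V ?_).2 hV'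
    exact eq_top_iff.2 fun d _ => TopologicalSpace.Opens.mem_iSup.2 ⟨d, hV d⟩
  · rw [Set.disjoint_left]
    rintro _ ⟨d, rfl⟩ hns
    apply hns
    rcases hch (i d) with hl | hn
    · obtain ⟨A, j, hj, U, hxU, q, hq, f, fD, hf, hfq, hfD, hfDi⟩ := hl
      haveI := CStk17.FibNode.smooth_lineToBase A
      haveI : Smooth q := hfq ▸ inferInstance
      haveI : Smooth (U.ι ≫ φ) := hq ▸ inferInstance
      exact CStk17.FibNode.smoothLocus_of_open φ U hxU
    · obtain ⟨A, j, hj, U, hxU, q, hq, a, f, hf, hfq, hdis⟩ := hn
      exact (Set.disjoint_left.1 hdis ⟨d, rfl⟩ hxU).elim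

end Groth.Agent.S15645
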