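import Groth.Statements.S15649
import Groth.Agent.CStk17.SSComp.Main

set_option autoImplicit false
universe u
open StrictSS

namespace Groth.Agent.S15649

set_option backward.isDefEq.respectTransparency false
set_option backward.isDefEq.respectTransparency.types false

open CategoryTheory CategoryTheory.Limits AlgebraicGeometry in
/-- Let k be a separably closed field and (C, D) a strictly semistable multipointed curve over Spec k
with C and D reduced. Then the irreducible components of C are smooth: for every irreducible
component Z of C there is a reduced closed subscheme of C with underlying set Z which is smooth over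
k. (The published remark asserts that, for semistable curves over such a field, strict semistability
is equivalent to smoothness of the irreducible components; this row is the implication from strict
semistability.) -/
theorem result
    (k : Type u) [Field k] [IsSepClosed k]
    {C D : Scheme.{u}} (φ : C ⟶ Spec (CommRingCat.of k)) (i : D ⟶ C) [IsReduced C] [IsReduced D]
    (h : StrictSS.IsStrictlySemistable φ i)
    (Z : Set C) (hZ : Z ∈ irreducibleComponents (C : Type u)) :
    ∃ (W : Scheme.{u}) (e : W ⟶ C), IsClosedImmersion e ∧ IsReduced W ∧
      Set.range e.base = Z ∧ Smooth (e ≫ φ) := by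
  obtain ⟨W, e, he, hr⟩ : ∃ (W : Scheme.{u}) (e : W ⟶ C), IsClosedImmersion e ∧ IsReduced W ∧ Set.range e = Z := by
    let T : TopologicalSpace.Closeds C := ⟨Z, isClosed_of_mem_irreducibleComponents Z hZ⟩
    exact ⟨_, (Scheme.IdealSheafData.vanishingIdeal T).subschemeι, inferInstance,
      H23.RedSub.isReduced_vanishingIdeal T, H23.RedSub.range_vanishingIdeal T⟩
  haveI := hr.1
  exact ⟨W, e, he, hr.1, hr.2, CStk17.SSComp.smooth_component φ i h e (hr.2.symm ▸ hZ)⟩

end Groth.Agent.S15649
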