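import Groth.Statements.S15686
import Groth.Agent.StkDesc10.Sum
import Groth.Agent.StkDesc10.Twist
import Groth.Agent.StkDesc10.H1

set_option autoImplicit false
universe u
open CategoryTheory AlgebraicGeometry MonObj
open StackCount

namespace Groth.Agent.S15686

set_option backward.isDefEq.respectTransparency false
set_option backward.isDefEq.respectTransparency.types false

section
open CategoryTheory CategoryTheory.Limits MonoidalCategory CartesianMonoidalCategory MonObj GrpObj AlgebraicGeometry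
open Groth.Agent.StkDesc10

variable {k : Type u} [Field k] [Fintype k] {kb : Type u} [Field kb] [Algebra k kb] [IsAlgClosure k kb]
variable {G : Over (Spec (CommRingCat.of k))} [GrpObj G]

theorem card_twist {X Y : Over (Spec (CommRingCat.of k))} {aX : AlgGrp.Action G X}
    {z : GpH1.OneCocycle (kb ≃ₐ[k] kb) (SGA7.Pts kb G)} (h : GalTw.IsActTwist kb aX z Y) :
    Nat.card (SGA7.Pts k Y) =
      Nat.card {x : SGA7.pt (K := k) kb ⟶ X // lift (z (frob k kb)) (autL k (frob k kb) ≫ x) ≫ aX.act = x} := by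
  obtain ⟨φ, hφ⟩ := h
  rw [card_pts_eq (K := kb)]
  refine Nat.card_congr (Equiv.subtypeEquiv (ptsEquiv φ) fun y => ?_)
  rw [← (ptsEquiv φ).apply_eq_iff_eq, ptsEquiv_smul_of_actTwist φ _ (hφ _)]
  rfl

theorem card_innTwist {G' : Over (Spec (CommRingCat.of k))} [GrpObj G']
    {z : GpH1.OneCocycle (kb ≃ₐ[k] kb) (SGA7.Pts kb G)} (h : GalTw.IsInnTwist kb G z G') :
    Nat.card (SGA7.Pts k G') =
      Nat.card {u : SGA7.pt (K := k) kb ⟶ G // u * z (frob k kb) = z (frob k kb) * autL k (frob k kb) ≫ u} := by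
  obtain ⟨φ, -, hφ⟩ := h
  rw [card_pts_eq (K := kb)]
  refine Nat.card_congr (Equiv.subtypeEquiv (ptsEquiv φ) fun y => ?_)
  rw [← (ptsEquiv φ).apply_eq_iff_eq, ptsEquiv_smul_of_innTwist φ _ (hφ _), mul_inv_eq_iff_eq_mul]
  exact eq_comm

theorem main {X : Over (Spec (CommRingCat.of k))} [LocallyOfFiniteType X.hom] [QuasiCompact X.hom]
    [Smooth G.hom] [IsAffineHom G.hom] (aX : AlgGrp.Action G X)
    [Fintype (GpH1.H1lc (kb ≃ₐ[k] kb) (SGA7.Pts kb G))]
    (z : GpH1.H1lc (kb ≃ₐ[k] kb) (SGA7.Pts kb G) → GpH1.OneCocycleLC (kb ≃ₐ[k] kb) (SGA7.Pts kb G))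
    (hz : ∀ c, (z c).cl = c)
    (Xz : GpH1.H1lc (kb ≃ₐ[k] kb) (SGA7.Pts kb G) → Over (Spec (CommRingCat.of k)))
    (hXz : ∀ c, GalTw.IsActTwist kb aX (z c).1 (Xz c))
    (Gin : GpH1.H1lc (kb ≃ₐ[k] kb) (SGA7.Pts kb G) → Over (Spec (CommRingCat.of k)))
    [∀ c, GrpObj (Gin c)]
    (hGin : ∀ c, GalTw.IsInnTwist kb G (z c).1 (Gin c))
    (h : StkCnt.IsEssFinite (StkCnt.pts (AlgSt.QuotSt Scheme.etalePrecoverage G aX) k)) :
    StkCnt.ptCount (AlgSt.QuotSt Scheme.etalePrecoverage G aX) k h =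
      ∑ c : GpH1.H1lc (kb ≃ₐ[k] kb) (SGA7.Pts kb G),
        (Nat.card (SGA7.Pts k (Xz c)) : ℚ) / (Nat.card (SGA7.Pts k (Gin c)) : ℚ) := by
  have : LocallyOfFiniteType (SGA7.pt (K := k) k).hom :=
    HasRingHomProperty.Spec_iff.mpr (RingHom.finiteType_algebraMap.mpr inferInstance)
  show StkCnt.count _ h = _
  rw [count_eq_sum_classes (Ω := kb) (fun c => (z c).1 (frob k kb)) ?_ ?_ h]
  · exact Finset.sum_congr rfl fun c _ => by rw [card_twist (hXz c), card_innTwist (hGin c)]
  · intro i j γ hγ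
    let a : GpH1.OneCocycleLC (kb ≃ₐ[k] kb) (SGA7.Pts kb G) :=
      ⟨⟨fun σ => γ⁻¹ * (z j).1 σ * σ • γ, fun σ τ => by
          show γ⁻¹ * (z j).1 (σ * τ) * (σ * τ) • γ = γ⁻¹ * (z j).1 σ * σ • γ * σ • (γ⁻¹ * (z j).1 τ * τ • γ)
          rw [(z j).1.2 σ τ, mul_smul, smul_mul', smul_mul', smul_inv']
          group⟩,
        ((IsLocallyConstant.const γ⁻¹).comp₂ (z j).2 (· * ·)).comp₂ (isLocallyConstant_smul γ) (· * ·)⟩
    have e := lc_cocycle_ext a (z i) (by
      show γ⁻¹ * (z j).1 (frob k kb) * _ = _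
      rw [_root_.mul_assoc, inv_mul_eq_iff_eq_mul]
      exact hγ.symm)
    rw [← hz i, ← hz j, GpH1.OneCocycleLC.cl_eq_cl_iff]
    exact ⟨γ, fun σ => (e σ).symm⟩
  · intro g
    obtain ⟨a, ha⟩ := exists_lc_cocycle (k := k) g
    obtain ⟨γ, hγ⟩ := (GpH1.OneCocycleLC.cl_eq_cl_iff a (z a.cl)).mp (hz a.cl).symm
    refine ⟨a.cl, γ, ?_⟩
    rw [← ha, hγ, _root_.mul_assoc γ⁻¹, mul_inv_cancel_left]
    rfl

end


/-- Let k be a finite field with algebraic closure k̄, G a smooth affine algebraic group over k acting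
on a variety X over k (reduced and of finite type), and [X/G] the quotient stack whose objects over
a k-scheme T are G-torsors P → T (schemes, locally trivial for the étale topology) with a
G-equivariant morphism P → X. Suppose the Galois cohomology set H¹(k, G) (continuous cocycles of
Gal(k̄/k) with values in G(k̄), up to equivalence) is finite, and choose for every class c a
continuous cocycle z_c in it, a twist X_c of X by z_c through the action (a k-scheme whose base
change to k̄ is identified with that of X so that the Galois action becomes x ↦ z_c(σ) · σx), and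
the inner form G_c of G determined by z_c. If the groupoid of k-points of [X/G] is essentially
finite, then its point count (the sum over isomorphism classes of the inverse orders of the
automorphism groups) equals the sum over the classes c of #X_c(k) / #G_c(k). (The published
statement is for the k′-points over any finite extension k′ of k and for any smooth algebraic group
G; this row is the case k′ = k, to which the general case reduces by base change, and takes G affine
so that every torsor is a scheme.) -/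
theorem result (k : Type u) [Field k] [Finite k]
    (kb : Type u) [Field kb] [Algebra k kb] [IsAlgClosure k kb]
    (G : Over (Spec (CommRingCat.of k))) [GrpObj G] [Smooth G.hom] [IsAffineHom G.hom]
    (X : Over (Spec (CommRingCat.of k))) [LocallyOfFiniteType X.hom] [QuasiCompact X.hom]
    [IsReduced X.left] (aX : AlgGrp.Action G X)
    [Fintype (GpH1.H1lc (kb ≃ₐ[k] kb) (SGA7.Pts kb G))]
    (z : GpH1.H1lc (kb ≃ₐ[k] kb) (SGA7.Pts kb G) → GpH1.OneCocycleLC (kb ≃ₐ[k] kb) (SGA7.Pts kb G))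
    (hz : ∀ c, (z c).cl = c)
    (Xz : GpH1.H1lc (kb ≃ₐ[k] kb) (SGA7.Pts kb G) → Over (Spec (CommRingCat.of k)))
    (hXz : ∀ c, GalTw.IsActTwist kb aX (z c).1 (Xz c))
    (Gin : GpH1.H1lc (kb ≃ₐ[k] kb) (SGA7.Pts kb G) → Over (Spec (CommRingCat.of k)))
    [∀ c, GrpObj (Gin c)]
    (hGin : ∀ c, GalTw.IsInnTwist kb G (z c).1 (Gin c))
    (h : StkCnt.IsEssFinite (StkCnt.pts (AlgSt.QuotSt Scheme.etalePrecoverage G aX) k)) :
    StkCnt.ptCount (AlgSt.QuotSt Scheme.etalePrecoverage G aX) k h =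
      ∑ c : GpH1.H1lc (kb ≃ₐ[k] kb) (SGA7.Pts kb G),
        (Nat.card (SGA7.Pts k (Xz c)) : ℚ) / (Nat.card (SGA7.Pts k (Gin c)) : ℚ) := by
  have := Fintype.ofFinite k
  exact main aX z hz Xz hXz Gin hGin h

end Groth.Agent.S15686
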