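import Groth.Statements.S15688
import Groth.Agent.StkDesc10.Lang
import Groth.Agent.StkDesc10.Twist
import Groth.Agent.StkDesc10.Fixed

set_option autoImplicit false
universe u
open CategoryTheory AlgebraicGeometry MonoidalCategory CartesianMonoidalCategory MonObj
open StackCount

namespace Groth.Agent.S15688

set_option backward.isDefEq.respectTransparency false
set_option backward.isDefEq.respectTransparency.types false
set_option linter.unusedSectionVars false

section
open CategoryTheory CategoryTheory.Limits MonoidalCategory CartesianMonoidalCategory MonObj GrpObj AlgebraicGeometry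
open Groth.Agent.StkDesc10

variable {k : Type u} [Field k] [Fintype k] {kb : Type u} [Field kb] [Algebra k kb] [IsAlgClosure k kb]

local notation "F" => autL k (frob k kb)

theorem card_twist {G X Y : Over (Spec (CommRingCat.of k))} [GrpObj G] {aX : AlgGrp.Action G X}
    {z : GpH1.OneCocycle (kb ≃ₐ[k] kb) (SGA7.Pts kb G)} (h : GalTw.IsActTwist kb aX z Y) :
    Nat.card (SGA7.Pts k Y) =
      Nat.card {x : SGA7.pt (K := k) kb ⟶ X // lift (z (frob k kb)) (F ≫ x) ≫ aX.act = x} := by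
  obtain ⟨φ, hφ⟩ := h
  rw [card_pts_eq (K := kb)]
  refine Nat.card_congr (Equiv.subtypeEquiv (ptsEquiv φ) fun y => ?_)
  rw [← (ptsEquiv φ).apply_eq_iff_eq, ptsEquiv_smul_of_actTwist φ _ (hφ _)]
  rfl

theorem card_innTwist {G G' : Over (Spec (CommRingCat.of k))} [GrpObj G] [GrpObj G']
    {z : GpH1.OneCocycle (kb ≃ₐ[k] kb) (SGA7.Pts kb G)} (h : GalTw.IsInnTwist kb G z G') :
    Nat.card (SGA7.Pts k G') =
      Nat.card {u : SGA7.pt (K := k) kb ⟶ G // u * z (frob k kb) = z (frob k kb) * F ≫ u} := by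
  obtain ⟨φ, -, hφ⟩ := h
  rw [card_pts_eq (K := kb)]
  refine Nat.card_congr (Equiv.subtypeEquiv (ptsEquiv φ) fun y => ?_)
  rw [← (ptsEquiv φ).apply_eq_iff_eq, ptsEquiv_smul_of_innTwist φ _ (hφ _), mul_inv_eq_iff_eq_mul]
  exact eq_comm

/-- The twisted centraliser as a subgroup. -/
noncomputable def centr {G : Over (Spec (CommRingCat.of k))} [GrpObj G] (g : SGA7.pt (K := k) kb ⟶ G) :
    Subgroup (SGA7.pt (K := k) kb ⟶ G) where
  carrier := {u | u * g = g * F ≫ u}
  one_mem' := by show _ = _; rw [MonObj.comp_one, _root_.one_mul, _root_.mul_one]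
  mul_mem' := fun {u v} (hu : _ = _) (hv : _ = _) => by
    show _ = _
    rw [MonObj.comp_mul, _root_.mul_assoc, hv, ← _root_.mul_assoc, hu, _root_.mul_assoc]
  inv_mem' := fun {u} (hu : _ = _) => by
    show _ = _
    rw [GrpObj.comp_inv, inv_mul_eq_iff_eq_mul, ← _root_.mul_assoc, hu, mul_inv_cancel_right]

variable {A B C : Over (Spec (CommRingCat.of k))} [GrpObj A] [GrpObj B] [GrpObj C] {i : A ⟶ B} {π : B ⟶ C}
  [IsMonHom i] [IsMonHom π]

theorem exact_pts (hex : NonAbH1.IsExactSeq Scheme.fppfPrecoverage i π) {Z : Over (Spec (CommRingCat.of k))}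
    (b b' : Z ⟶ B) (h : b ≫ π = b' ≫ π) : ∃ a : Z ⟶ A, b' = b * a ≫ i := by
  obtain ⟨-, -, -, sq, -⟩ := hex
  refine ⟨sq.lift b b' h ≫ snd B A, ?_⟩
  have h1 := sq.lift_snd b b' h
  have h2 := sq.lift_fst b b' h
  generalize sq.lift b b' h = l at h1 h2 ⊢
  rw [show (B ◁ i) ≫ μ[B] = fst B A * (snd B A ≫ i) by
    rw [Hom.mul_def]; congr 1, MonObj.comp_mul, h2] at h1
  rw [Category.assoc]
  exact h1.symm

theorem injective_pts (hex : NonAbH1.IsExactSeq Scheme.fppfPrecoverage i π) {Z : Over (Spec (CommRingCat.of k))}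
    {a a' : Z ⟶ A} (h : a ≫ i = a' ≫ i) : a = a' := by
  obtain ⟨-, -, -, sq, -⟩ := hex
  have e : lift (1 : Z ⟶ B) a = lift 1 a' := sq.hom_ext (by rw [lift_fst, lift_fst])
    (by rw [lift_whiskerLeft_assoc, lift_whiskerLeft_assoc, h])
  simpa using congrArg (· ≫ snd B A) e

theorem surjective_pts (hex : NonAbH1.IsExactSeq Scheme.fppfPrecoverage i π) [LocallyOfFiniteType C.hom]
    (c : SGA7.pt (K := k) kb ⟶ C) : ∃ b : SGA7.pt (K := k) kb ⟶ B, b ≫ π = c := by
  have : IsAlgClosed kb := IsAlgClosure.isAlgClosed k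
  obtain ⟨-, -, -, -, R, hR, hsec⟩ := hex
  obtain ⟨_, _, hf, w, hw⟩ := hR.1 (c.left (IsLocalRing.closedPoint kb))
  obtain ⟨hf⟩ := hf
  rename_i U f
  obtain ⟨s, hs⟩ := hsec f hf
  have : LocallyOfFinitePresentation f := (hR.2 hf).2
  obtain ⟨z, -, -⟩ := Scheme.Pullback.exists_preimage_pullback (f := f) (g := c.left) w
    (IsLocalRing.closedPoint kb) hw
  let pr := pullback.snd f c.left
  have : LocallyOfFiniteType pr := MorphismProperty.pullback_snd _ _ inferInstance
  have : JacobsonSpace (SGA7.pt (K := k) kb).left := inferInstanceAs (JacobsonSpace (Spec (CommRingCat.of kb)))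
  have : JacobsonSpace (pullback f c.left : Scheme) := LocallyOfFiniteType.jacobsonSpace pr
  obtain ⟨v, -, hv⟩ := nonempty_inter_closedPoints (Z := (Set.univ : Set (pullback f c.left : Scheme)))
    ⟨z, trivial⟩ isOpen_univ.isLocallyClosed
  have he : pointOfClosedPoint pr v hv ≫ pr = 𝟙 _ := pointOfClosedPoint_comp _ _ _
  have hsπ : s ≫ π.left = f := hs
  have h1 : (pointOfClosedPoint pr v hv ≫ pullback.fst f c.left ≫ s) ≫ π.left = c.left := by
    rw [Category.assoc, Category.assoc, hsπ, pullback.condition, ← Category.assoc, he]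
    exact Category.id_comp _
  refine ⟨Over.homMk (pointOfClosedPoint pr v hv ≫ pullback.fst f c.left ≫ s) ?_, Over.OverMorphism.ext h1⟩
  rw [← Over.w π, ← Category.assoc, h1]
  exact Over.w c

theorem hinj_mul (hex : NonAbH1.IsExactSeq Scheme.fppfPrecoverage i π)
    (c : AlgGrp.Action B A) (hc : c.act ≫ i = fst B A * (snd B A ≫ i) * (fst B A)⁻¹)
    {Z : Over (Spec (CommRingCat.of k))} (g : Z ⟶ B) (x y : Z ⟶ A) :
    lift g (x * y) ≫ c.act = (lift g x ≫ c.act) * (lift g y ≫ c.act) := by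
  refine injective_pts hex ?_
  simp only [MonObj.mul_comp, Category.assoc, hc, MonObj.comp_mul, GrpObj.comp_inv, lift_fst, lift_snd_assoc]
  group

theorem main [Smooth A.hom] [Smooth B.hom] [Smooth C.hom]
    [QuasiCompact A.hom] [QuasiCompact B.hom] [QuasiCompact C.hom]
    (hex : NonAbH1.IsExactSeq Scheme.fppfPrecoverage i π) [ConnectedSpace A.left]
    (c : AlgGrp.Action B A) (hc : c.act ≫ i = fst B A * (snd B A ≫ i) * (fst B A)⁻¹)
    (z : GpH1.OneCocycle (kb ≃ₐ[k] kb) (SGA7.Pts kb B))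
    {Az : Over (Spec (CommRingCat.of k))} (hAz : GalTw.IsActTwist kb c z Az)
    {Bz : Over (Spec (CommRingCat.of k))} [GrpObj Bz] (hBz : GalTw.IsInnTwist kb B z Bz)
    {Cz : Over (Spec (CommRingCat.of k))} [GrpObj Cz] (zC : GpH1.OneCocycle (kb ≃ₐ[k] kb) (SGA7.Pts kb C))
    (hzC : zC (frob k kb) = z (frob k kb) ≫ π)
    (hCz : GalTw.IsInnTwist kb C zC Cz) :
    Nat.card (SGA7.Pts k Bz) = Nat.card (SGA7.Pts k Az) * Nat.card (SGA7.Pts k Cz) := by
  have : Algebra.IsAlgebraic k kb := IsAlgClosure.isAlgebraic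
  obtain ⟨p, hp⟩ := CharP.exists k
  have := hp
  have : Fact p.Prime := ⟨CharP.char_is_prime k p⟩
  rw [card_innTwist hBz, card_innTwist hCz, card_twist hAz, hzC]
  let g := z (frob k kb)
  have hci : ∀ a : SGA7.pt (K := k) kb ⟶ A, (lift g a ≫ c.act) ≫ i = g * a ≫ i * g⁻¹ := fun a => by
    rw [Category.assoc, hc, MonObj.comp_mul, MonObj.comp_mul, GrpObj.comp_inv, lift_fst, lift_snd_assoc]
  have hinj : ∀ {a a' : SGA7.pt (K := k) kb ⟶ A}, a ≫ i = a' ≫ i → a = a' := injective_pts hex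
  let φ : centr g →* centr (g ≫ π) :=
    MonoidHom.mk' (fun u => ⟨u.1 ≫ π, by
      show _ = _
      rw [← MonObj.mul_comp, u.2, MonObj.mul_comp, Category.assoc]⟩)
      fun u v => Subtype.ext (MonObj.mul_comp u.1 v.1 π)
  have hsurj : Function.Surjective φ := by
    rintro ⟨cb, hcb : cb * (g ≫ π) = (g ≫ π) * F ≫ cb⟩
    obtain ⟨b, hb⟩ := surjective_pts hex cb
    have h1 : (1 : SGA7.pt (K := k) kb ⟶ B) ≫ π = (b⁻¹ * g * F ≫ b * g⁻¹) ≫ π := by
      simp only [MonObj.mul_comp, GrpObj.inv_comp, MonObj.one_comp, hb, Category.assoc]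
      rw [_root_.mul_assoc cb⁻¹, ← hcb]
      group
    obtain ⟨a₀, ha₀⟩ := exact_pts hex _ _ h1
    rw [_root_.one_mul] at ha₀
    obtain ⟨a, ha⟩ := lang_twisted p c (fun g' x y => hinj_mul hex c hc g' x y) g a₀
    refine ⟨⟨b * a ≫ i, ?_⟩, Subtype.ext ?_⟩
    · show _ = g * F ≫ (b * a ≫ i)
      conv_lhs => rw [ha, MonObj.mul_comp, hci, ← ha₀]
      rw [MonObj.comp_mul, Category.assoc]
      group
    · show (b * a ≫ i) ≫ π = cb
      rw [MonObj.mul_comp, hb, Category.assoc, hex.2.2.1, MonObj.comp_one, _root_.mul_one]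
  let e : φ.ker ≃ {x : SGA7.pt (K := k) kb ⟶ A // lift g (F ≫ x) ≫ c.act = x} :=
    (Equiv.ofBijective (fun x : {x : SGA7.pt (K := k) kb ⟶ A // lift g (F ≫ x) ≫ c.act = x} =>
      (⟨⟨x.1 ≫ i, by
        show _ = _
        conv_lhs => rw [← x.2, hci]
        rw [inv_mul_cancel_right, Category.assoc]⟩, Subtype.ext (by
        show (x.1 ≫ i) ≫ π = 1
        rw [Category.assoc, hex.2.2.1, MonObj.comp_one])⟩ : φ.ker))
      ⟨fun x y h => Subtype.ext (hinj (congrArg (fun u => u.1.1) h)), fun ⟨⟨u, hu⟩, hu'⟩ => by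
        have h1 : (1 : SGA7.pt (K := k) kb ⟶ B) ≫ π = u ≫ π := by
          rw [MonObj.one_comp]; exact (congrArg Subtype.val hu').symm
        obtain ⟨a, ha⟩ := exact_pts hex _ _ h1
        rw [_root_.one_mul] at ha
        refine ⟨⟨a, hinj ?_⟩, Subtype.ext (Subtype.ext ha.symm)⟩
        rw [hci, Category.assoc, ← ha, ← show u * g = g * F ≫ u from hu, mul_inv_cancel_right]⟩).symm
  have hk := φ.ker.card_eq_card_quotient_mul_card_subgroup
  rw [Nat.card_congr (QuotientGroup.quotientKerEquivOfSurjective φ hsurj).toEquiv, Nat.card_congr e] at hk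
  rw [Nat.mul_comm]
  exact hk

end


/-- Let k be a finite field with algebraic closure k̄, and let A, B, C be smooth algebraic groups over k
with homomorphisms i : A → B and π : B → C forming a short exact sequence 1 → A → B → C → 1 (π ∘ i
trivial, B a pseudo-torsor over C under A acting through i, and π acquiring sections fppf-locally on
C), with A connected; let c be the action of B on A by conjugation, i.e. an action with i(b · a) = b
i(a) b⁻¹. Let z be a continuous cocycle of Gal(k̄/k) with values in B(k̄), A_z a twist of A by z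
through the action c, B_z an inner form of B by z, and C_z an inner form of C by the image of z
under π. Then the numbers of k-points satisfy #B_z(k) = #A_z(k) · #C_z(k). -/
theorem result (k : Type u) [Field k] [Finite k]
    (kb : Type u) [Field kb] [Algebra k kb] [IsAlgClosure k kb]
    (A B C : Over (Spec (CommRingCat.of k))) [GrpObj A] [GrpObj B] [GrpObj C]
    [Smooth A.hom] [Smooth B.hom] [Smooth C.hom]
    [QuasiCompact A.hom] [QuasiCompact B.hom] [QuasiCompact C.hom]
    (i : A ⟶ B) (π : B ⟶ C) [IsMonHom i] [IsMonHom π]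
    (hex : NonAbH1.IsExactSeq Scheme.fppfPrecoverage i π) [ConnectedSpace A.left]
    (c : AlgGrp.Action B A) (hc : c.act ≫ i = fst B A * (snd B A ≫ i) * (fst B A)⁻¹)
    (z : GpH1.OneCocycleLC (kb ≃ₐ[k] kb) (SGA7.Pts kb B))
    (Az : Over (Spec (CommRingCat.of k))) (hAz : GalTw.IsActTwist kb c z.1 Az)
    (Bz : Over (Spec (CommRingCat.of k))) [GrpObj Bz] (hBz : GalTw.IsInnTwist kb B z.1 Bz)
    (Cz : Over (Spec (CommRingCat.of k))) [GrpObj Cz]
    (hCz : GalTw.IsInnTwist kb C
      (GalTw.lcMap (GalTw.ptsMap (K := kb) π) (GalTw.ptsMap_smul (K := kb) π) z).1 Cz) :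
    Nat.card (SGA7.Pts k Bz) = Nat.card (SGA7.Pts k Az) * Nat.card (SGA7.Pts k Cz) := by
  have := Fintype.ofFinite k
  exact main hex c hc z.1 hAz hBz _ rfl hCz

end Groth.Agent.S15688
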