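import Groth.Statements.S15687
import Groth.Agent.S15688
import Groth.Agent.StkDesc10.H1

set_option autoImplicit false
universe u
open CategoryTheory AlgebraicGeometry MonObj
open GalTw

namespace Groth.Agent.S15687

set_option backward.isDefEq.respectTransparency false
set_option backward.isDefEq.respectTransparency.types false
set_option linter.unusedSectionVars false

section
open CategoryTheory CategoryTheory.Limits MonoidalCategory CartesianMonoidalCategory MonObj GrpObj AlgebraicGeometry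
open Groth.Agent.StkDesc10

variable {k : Type u} [Field k] [Fintype k] {kb : Type u} [Field kb] [Algebra k kb] [IsAlgClosure k kb]
variable {A B C : Over (Spec (CommRingCat.of k))} [GrpObj A] [GrpObj B] [GrpObj C] {i : A ⟶ B} {π : B ⟶ C}
  [IsMonHom i] [IsMonHom π]

local notation "F" => autL k (frob k kb)

theorem conj_comp (hex : NonAbH1.IsExactSeq Scheme.fppfPrecoverage i π) :
    ∃ c : AlgGrp.Action B A, c.act ≫ i = fst B A * (snd B A ≫ i) * (fst B A)⁻¹ := by
  have h1 : (fst B A : B ⊗ A ⟶ B) ≫ π = (fst B A * (snd B A ≫ i)) ≫ π := by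
    rw [MonObj.mul_comp, Category.assoc, hex.2.2.1, MonObj.comp_one, _root_.mul_one]
  have h2 : (1 : B ⊗ A ⟶ B) ≫ π = (fst B A * (snd B A ≫ i) * (fst B A)⁻¹) ≫ π := by
    rw [MonObj.mul_comp, ← h1, GrpObj.inv_comp, mul_inv_cancel, MonObj.one_comp]
  obtain ⟨a, ha⟩ := S15688.exact_pts hex _ _ h2
  rw [_root_.one_mul] at ha
  refine ⟨⟨a, ?_, ?_⟩, ha.symm⟩
  · refine S15688.injective_pts hex ?_
    rw [Category.assoc, ← ha, MonObj.comp_mul, MonObj.comp_mul, GrpObj.comp_inv, whiskerRight_fst,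
      whiskerRight_snd_assoc, MonObj.one_eq_one, MonObj.comp_one, _root_.one_mul, inv_one, _root_.mul_one,
      leftUnitor_hom]
  · refine S15688.injective_pts hex ?_
    have hμ : fst (B ⊗ B) A ≫ μ[B] = (fst _ _ ≫ fst B B) * (fst _ _ ≫ snd B B) := by
      rw [Hom.mul_def, ← comp_lift_assoc, lift_fst_snd, Category.id_comp]
    simp only [Category.assoc, ← ha, MonObj.comp_mul, GrpObj.comp_inv, whiskerRight_fst, whiskerRight_snd_assoc,
      whiskerLeft_fst, whiskerLeft_snd_assoc, associator_hom_fst, associator_hom_snd_fst,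
      associator_hom_snd_snd_assoc, hμ, _root_.mul_inv_rev, _root_.mul_assoc]

theorem exists_coboundary [LocallyOfFiniteType B.hom]
    (b : GpH1.OneCocycleLC (kb ≃ₐ[k] kb) (SGA7.Pts kb B)) (δ : SGA7.Pts kb B) :
    ∃ b' : GpH1.OneCocycleLC (kb ≃ₐ[k] kb) (SGA7.Pts kb B), ∀ σ, b'.1 σ = δ⁻¹ * b.1 σ * σ • δ :=
  ⟨⟨⟨fun σ => δ⁻¹ * b.1 σ * σ • δ, fun σ τ => by
      show δ⁻¹ * b.1 (σ * τ) * (σ * τ) • δ = δ⁻¹ * b.1 σ * σ • δ * σ • (δ⁻¹ * b.1 τ * τ • δ)
      rw [b.1.2 σ τ, mul_smul, smul_mul', smul_mul', smul_inv']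
      group⟩,
    ((IsLocallyConstant.const δ⁻¹).comp₂ b.2 (· * ·)).comp₂ (isLocallyConstant_smul δ) (· * ·)⟩, fun _ => rfl⟩

theorem main [Smooth A.hom] [Smooth B.hom] [Smooth C.hom]
    [QuasiCompact A.hom] [QuasiCompact B.hom] [QuasiCompact C.hom]
    (hex : NonAbH1.IsExactSeq Scheme.fppfPrecoverage i π) [ConnectedSpace A.left] :
    Function.Bijective (GalTw.H1lcMap (GalTw.ptsMap (K := kb) π) (GalTw.ptsMap_smul (K := kb) π)) := by
  have : Algebra.IsAlgebraic k kb := IsAlgClosure.isAlgebraic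
  obtain ⟨p, hp⟩ := CharP.exists k
  have := hp
  have : Fact p.Prime := ⟨CharP.char_is_prime k p⟩
  obtain ⟨c, hc⟩ := conj_comp hex
  refine ⟨fun x y => ?_, fun x => ?_⟩
  · induction x using Quotient.inductionOn with | _ a =>
    induction y using Quotient.inductionOn with | _ b =>
    intro h
    obtain ⟨γ, hγ⟩ := (GpH1.OneCocycleLC.cl_eq_cl_iff _ _).mp h
    obtain ⟨β, hβ⟩ := S15688.surjective_pts hex γ
    have h1 : (1 : SGA7.pt (K := k) kb ⟶ B) ≫ π =
        (b.1 (frob k kb) * F ≫ β * (a.1 (frob k kb))⁻¹ * β⁻¹) ≫ π := by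
      have hF : a.1 (frob k kb) ≫ π = γ⁻¹ * (b.1 (frob k kb) ≫ π) * F ≫ γ := hγ (frob k kb)
      simp only [MonObj.mul_comp, GrpObj.inv_comp, MonObj.one_comp, Category.assoc, hβ, hF]
      group
    obtain ⟨a₀, ha₀⟩ := S15688.exact_pts hex _ _ h1
    rw [_root_.one_mul] at ha₀
    obtain ⟨x, hx⟩ := lang_twisted p c (fun g u v => S15688.hinj_mul hex c hc g u v) (b.1 (frob k kb)) a₀⁻¹
    have hci : (lift (b.1 (frob k kb)) (F ≫ x) ≫ c.act) ≫ i =
        b.1 (frob k kb) * (F ≫ x) ≫ i * (b.1 (frob k kb))⁻¹ := by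
      rw [Category.assoc, hc, MonObj.comp_mul, MonObj.comp_mul, GrpObj.comp_inv, lift_fst, lift_snd_assoc]
    let δ := (x ≫ i)⁻¹ * β
    obtain ⟨b', hb'⟩ := exists_coboundary b δ
    have e := lc_cocycle_ext a b' (by
      rw [hb']
      show a.1 (frob k kb) = δ⁻¹ * b.1 (frob k kb) * F ≫ δ
      have hxi : x ≫ i = (a₀ ≫ i)⁻¹ *
          (b.1 (frob k kb) * (F ≫ x) ≫ i * (b.1 (frob k kb))⁻¹) := by
        conv_lhs => rw [hx, MonObj.mul_comp, hci, GrpObj.inv_comp]
      simp only [δ]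
      rw [MonObj.comp_mul, GrpObj.comp_inv, ← Category.assoc F x i]
      rw [hxi, ← ha₀]
      group)
    exact Quotient.sound ⟨δ, fun σ => (e σ).trans (hb' σ)⟩
  · induction x using Quotient.inductionOn with | _ a =>
    obtain ⟨g, hg⟩ := S15688.surjective_pts hex (a.1 (frob k kb))
    obtain ⟨b, hb⟩ := exists_lc_cocycle (k := k) g
    refine ⟨b.cl, ?_⟩
    show (GalTw.lcMap _ _ b).cl = a.cl
    rw [GpH1.OneCocycleLC.cl_eq_cl_iff]
    have e := lc_cocycle_ext (GalTw.lcMap (GalTw.ptsMap (K := kb) π) (GalTw.ptsMap_smul (K := kb) π) b) a (by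
      show b.1 (frob k kb) ≫ π = a.1 (frob k kb)
      rw [hb, hg])
    refine ⟨1, fun σ => ?_⟩
    rw [smul_one, inv_one, _root_.one_mul, _root_.mul_one, e σ]

end


/-- Let k be a finite field with algebraic closure k̄, and let A, B, C be smooth algebraic groups over k
with homomorphisms i : A → B and π : B → C forming a short exact sequence 1 → A → B → C → 1 (π ∘ i
trivial, B a pseudo-torsor over C under A acting through i, and π acquiring sections fppf-locally on
C), with A connected. Then the map H¹(k, B) → H¹(k, C) induced by π on the continuous Galois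
cohomology sets (continuous cocycles of Gal(k̄/k) with values in the k̄-points, up to equivalence)
is bijective. -/
theorem result (k : Type u) [Field k] [Finite k]
    (kb : Type u) [Field kb] [Algebra k kb] [IsAlgClosure k kb]
    (A B C : Over (Spec (CommRingCat.of k))) [GrpObj A] [GrpObj B] [GrpObj C]
    [Smooth A.hom] [Smooth B.hom] [Smooth C.hom]
    [QuasiCompact A.hom] [QuasiCompact B.hom] [QuasiCompact C.hom]
    (i : A ⟶ B) (π : B ⟶ C) [IsMonHom i] [IsMonHom π]
    (hex : NonAbH1.IsExactSeq Scheme.fppfPrecoverage i π) [ConnectedSpace A.left] :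
    Function.Bijective
      (GalTw.H1lcMap (GalTw.ptsMap (K := kb) π) (GalTw.ptsMap_smul (K := kb) π)) := by
  have := Fintype.ofFinite k
  exact main hex

end Groth.Agent.S15687
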