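import Groth.Statements.S15701
-- import your own Groth.Agent.* helpers here

set_option autoImplicit false
universe u
open CategoryTheory AlgebraicGeometry
open RatVar

namespace Groth.Agent.S15701

open CategoryTheory.Limits

/-- A faithful action of a finite group on a geometrically integral variety is almost free. Here k is a
field of characteristic zero, X is an integral separated scheme of finite type over k, and the
finite group G acts on X by k-automorphisms through an injective homomorphism to Aut X; the
conclusion is a non-empty G-stable open subscheme U of X such that for every field K and every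
morphism Spec K → X whose image lies in U, an element of G fixing that K-point is the identity. (X
is taken separated: for the affine line with a doubled origin and the involution exchanging the two
origins the action is faithful while every point off the origins is fixed, so no such U exists;
integrality replaces geometric integrality, which is all the codimension argument uses.) -/
theorem result (k : Type u) [Field k] [CharZero k]
    (X : Scheme.{u}) (f : X ⟶ Spec (CommRingCat.of k)) [IsIntegral X] [LocallyOfFiniteType f]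
    [QuasiCompact f] [IsSeparated f]
    (G : Type u) [Group G] [Finite G] (ρ : G →* Aut X)
    (hρ : ∀ g : G, (ρ g).hom ≫ f = f) (hfaith : Function.Injective ρ) :
    ∃ U : X.Opens, (U : Set X).Nonempty ∧ (∀ g : G, (ρ g).hom ⁻¹ᵁ U = U) ∧
      ∀ (K : Type u) [Field K] (x : Spec (CommRingCat.of K) ⟶ X),
        Set.range x.base ⊆ (U : Set X) → ∀ g : G, x ≫ (ρ g).hom = x → g = 1 := by
  classical
  haveI : X.IsSeparated := ⟨by
    rw [← Limits.terminal.comp_from f]; infer_instance⟩
  have hne : ∀ g : G, g ≠ 1 → Set.range (equalizer.ι (ρ g).hom (𝟙 X)).base ≠ Set.univ := by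
    intro g hg h
    haveI : Surjective (equalizer.ι (ρ g).hom (𝟙 X)) := ⟨Set.range_eq_univ.1 h⟩
    haveI : IsIso (equalizer.ι (ρ g).hom (𝟙 X)) := isIso_of_isClosedImmersion_of_surjective _
    have e : (ρ g).hom = 𝟙 X := (cancel_epi (equalizer.ι (ρ g).hom (𝟙 X))).1 (equalizer.condition _ _)
    exact hg (hfaith (by rw [map_one]; exact Iso.ext e))
  let U₀ : {g : G // g ≠ 1} → X.Opens := fun g =>
    ⟨(Set.range (equalizer.ι (ρ g.1).hom (𝟙 X)).base)ᶜ,
      (equalizer.ι (ρ g.1).hom (𝟙 X)).isClosedEmbedding.isClosed_range.isOpen_compl⟩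
  haveI : Fintype G := Fintype.ofFinite G
  let U : X.Opens := ⟨⋂ h : G, ⋂ g : {g : G // g ≠ 1}, (ρ h).hom.base ⁻¹' (U₀ g : Set X),
    isOpen_iInter_of_finite fun h => isOpen_iInter_of_finite fun g => (U₀ g).2.preimage (ρ h).hom.continuous⟩
  have hmem : ∀ x : X, x ∈ U ↔ ∀ (h : G) (g : {g : G // g ≠ 1}), (ρ h).hom.base x ∈ U₀ g := fun x => by
    show x ∈ (⋂ h : G, ⋂ g : {g : G // g ≠ 1}, (ρ h).hom.base ⁻¹' (U₀ g : Set X)) ↔ _
    simp only [Set.mem_iInter, Set.mem_preimage]; exact Iff.rfl
  refine ⟨U, ⟨genericPoint X, (hmem _).2 fun h g => ?_⟩, fun g => ?_, fun K _ x hx g hg => ?_⟩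
  · obtain ⟨y, hy⟩ : (U₀ g : Set X).Nonempty := Set.nonempty_compl.2 (hne g.1 g.2)
    have hy' : y ∈ Set.range (ρ h).hom.base := (ρ h).hom.surjective y
    obtain ⟨z, rfl⟩ := hy'
    exact (((genericPoint_spec X).specializes (Set.mem_univ z)).map (ρ h).hom.continuous).mem_open (U₀ g).2 hy
  · have hmul : ∀ (h g : G) (x : X), (ρ (h * g)).hom.base x = (ρ h).hom.base ((ρ g).hom.base x) := fun h g x => by
      rw [map_mul]; rfl
    ext x
    show (ρ g).hom.base x ∈ U ↔ x ∈ U
    rw [hmem, hmem]
    refine ⟨fun H h g' => ?_, fun H h g' => ?_⟩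
    · have := H (h * g⁻¹) g'
      rwa [← hmul, inv_mul_cancel_right] at this
    · rw [← hmul]; exact H _ g'
  · by_contra hne1
    obtain ⟨pt⟩ : Nonempty (Spec (CommRingCat.of K)) := inferInstanceAs (Nonempty (PrimeSpectrum K))
    have h1 := (hmem _).1 (hx ⟨pt, rfl⟩) 1 ⟨g, hne1⟩
    rw [map_one] at h1
    refine h1 ⟨(equalizer.lift x (by rw [hg, Category.comp_id])).base pt, ?_⟩
    show (equalizer.lift x _ ≫ equalizer.ι (ρ g).hom (𝟙 X)).base pt = _
    rw [equalizer.lift_ι]; rfl

end Groth.Agent.S15701
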