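import Groth.Statements.S15712
import Groth.Agent.H23.SchDense
import Groth.Agent.FlatDense.Basic
import Mathlib.AlgebraicGeometry.Properties

set_option autoImplicit false
universe u
open CategoryTheory AlgebraicGeometry TopologicalSpace
open RatSing

namespace Groth.Agent.S15712

/-- Let X be a locally Noetherian scheme with Serre's property (S_1), i.e. every local ring O_{X,x} has
depth at least min(1, dim O_{X,x}) (for instance X Cohen–Macaulay), and let U ⊆ X be open. Then
scheme-theoretic density of U in X is equivalent to U being dense as a subset. (The published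
statement assumes every scheme excellent, in particular locally Noetherian.) -/
theorem result (X : Scheme.{u}) [IsLocallyNoetherian X]
    (hS1 : ∀ x : X, min (1 : WithBot ℕ∞) (ringKrullDim (X.presheaf.stalk x)) ≤
      ((LocCoh.depth (X.presheaf.stalk x) (X.presheaf.stalk x) : ℕ∞) : WithBot ℕ∞))
    (U : X.Opens) : CInt.IsSchematicallyDense U ↔ Dense (U : Set X) := by
  constructor
  · intro h
    rw [dense_iff_inter_open]
    intro V hV hne
    by_contra hemp
    let V' : X.Opens := ⟨V, hV⟩
    have hbot : V' ⊓ U = ⊥ := SetLike.coe_injective (by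
      simpa [V', Set.not_nonempty_iff_eq_empty] using hemp)
    haveI : Subsingleton Γ(X, V' ⊓ U) := by rw [hbot]; infer_instance
    haveI : Subsingleton Γ(X, V') := (h V').subsingleton
    obtain ⟨x, hx⟩ := hne
    refine zero_ne_one (α := X.presheaf.stalk x) ?_
    rw [← map_zero (X.presheaf.germ V' x hx).hom, ← map_one (X.presheaf.germ V' x hx).hom,
      Subsingleton.elim (0 : Γ(X, V')) 1]
  · intro hd
    rw [H23.SchDense.isSchematicallyDense_iff]
    intro x hx
    have h1 : ¬ ∀ y, y ⤳ x → y = x := fun h =>
      hx (FlatDense.mem_of_dense_of_max_scheme U hd h)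
    push Not at h1
    obtain ⟨y, hy, hne⟩ := h1
    have hle : x ≤ y := hy
    have hdim : (1 : WithBot ℕ∞) ≤ ringKrullDim (X.presheaf.stalk x) := by
      rw [ringKrullDim_stalk_eq_coheight x]
      have hc : 0 < Order.coheight x := Order.coheight_pos.2 fun hmax =>
        hne ((Specializes.antisymm hy (hmax hle : x ⤳ y)).eq)
      exact_mod_cast Order.one_le_iff_pos.2 hc
    have := hS1 x
    rw [min_eq_left hdim] at this
    exact_mod_cast this

end Groth.Agent.S15712
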