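import Groth.Statements.S15715
import Groth.Agent.H23.SchDense
import Groth.Agent.QCoh.Qcqs

set_option autoImplicit false
universe u
open CategoryTheory AlgebraicGeometry TopologicalSpace
open RatSing

namespace Groth.Agent.S15715

/-- Let X be a locally Noetherian scheme, φ : F → G a homomorphism of O_X-modules with F quasi-coherent
and torsion-free (over every affine open V, no nonzero section of F is killed by a regular element
of O_X(V)), and U a scheme-theoretically dense open subset of X such that the restriction of φ to U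
is injective. Then φ is injective. (The published statement allows an arbitrary O_X-module F; for
the skyscraper sheaf on the affine line over a field, placed at a closed point with value the local
ring at that point, which is torsion-free in this sense, the zero map to the zero module is
injective over the dense open complement of the point but not injective. This row takes F
quasi-coherent.) -/
theorem result (X : Scheme.{u})
    [IsLocallyNoetherian X] (F G : X.Modules) (hF : Coh.IsQCoh F)
    (htf : ∀ V : X.affineOpens, Submodule.torsion Γ(X, V.1) (F.val.obj (Opposite.op V.1)) = ⊥)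
    (φ : F ⟶ G) (U : X.Opens) (hU : CInt.IsSchematicallyDense U)
    (hφU : ∀ V : X.Opens, V ≤ U → Function.Injective ⇑(ConcreteCategory.hom (φ.val.app (Opposite.op V)))) (V : X.Opens) :
    Function.Injective ⇑(ConcreteCategory.hom (φ.val.app (Opposite.op V))) := by
  classical
  rw [injective_iff_map_eq_zero]
  intro s hs
  refine QCoh.eq_zero_of_locally V s fun x hx => ?_
  obtain ⟨W, hW, hxW, hWV0⟩ := exists_isAffineOpen_mem_and_subset (x := x) (U := V) hx
  have hWV : W ≤ V := hWV0
  refine ⟨W, homOfLE hWV, hxW, ?_⟩
  haveI : IsNoetherianRing Γ(X, W) := IsLocallyNoetherian.component_noetherian ⟨W, hW⟩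
  set t : Γ(F, W) := F.presheaf.map (homOfLE hWV).op s with htdef
  let J : Ideal Γ(X, W) := Ideal.span {g | X.basicOpen g ≤ U}
  -- `J` contains a regular element
  have hass : ∀ p ∈ associatedPrimes Γ(X, W) Γ(X, W), ¬ J ≤ p := by
    intro p hp hJp
    have hpp : p.IsPrime := hp.isPrime
    obtain ⟨y, hy⟩ := H23.SchDense.primeIdealOf_fromSpec hW ⟨p, hpp⟩
    have hyU : y.1 ∈ U := by
      by_contra hn
      have := (H23.SchDense.one_le_depth_iff hW y).1
        ((H23.SchDense.isSchematicallyDense_iff U).1 hU y.1 hn)
      rw [hy] at this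
      exact this hp
    obtain ⟨g, hg, hyg⟩ := hW.exists_basicOpen_le (V := U) ⟨y.1, hyU⟩ y.2
    have hgJ : g ∈ J := Ideal.subset_span hg
    have h2 : (hW.primeIdealOf y) ∈ PrimeSpectrum.basicOpen g := by
      have h3 : hW.fromSpec (hW.primeIdealOf y) ∈ X.basicOpen g := by
        rw [hW.fromSpec_primeIdealOf]; exact hyg
      rw [← Scheme.Hom.mem_preimage, hW.fromSpec_preimage_basicOpen] at h3
      exact h3
    rw [hy] at h2
    exact h2 (hJp hgJ)
  obtain ⟨r, hrJ, hr⟩ : ∃ r ∈ J, r ∈ nonZeroDivisors Γ(X, W) := by
    by_contra! hno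
    have hsub : (J : Set Γ(X, W)) ⊆ ⋃ p ∈ associatedPrimes Γ(X, W) Γ(X, W), (p : Set Γ(X, W)) := by
      rw [biUnion_associatedPrimes_eq_compl_nonZeroDivisors]
      exact fun r hr => hno r hr
    obtain ⟨p, hp, hle⟩ := (Ideal.subset_union_prime_finite (associatedPrimes.finite Γ(X, W) Γ(X, W))
      ⊥ ⊥ (fun p hp _ _ => hp.isPrime)).1 hsub
    exact hass p hp hle
  -- `J` is in the radical of the annihilator of `t`
  have hJ : J ≤ (Submodule.span Γ(X, W) {t}).annihilator.radical := by
    rw [Ideal.span_le]
    intro g hg
    have hz : F.presheaf.map (homOfLE (X.basicOpen_le g)).op t = 0 := by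
      apply hφU (X.basicOpen g) hg
      refine Eq.trans ?_ (map_zero (φ.app (X.basicOpen g)).hom).symm
      change φ.app (X.basicOpen g) (F.presheaf.map (homOfLE (X.basicOpen_le g)).op t) = 0
      rw [htdef, QCoh.map_map]
      have nat := ConcreteCategory.congr_hom
        (φ.mapPresheaf.naturality (homOfLE (X.basicOpen_le g) ≫ homOfLE hWV).op) s
      refine nat.trans ?_
      change G.presheaf.map _ (φ.app V s) = 0
      rw [show φ.app V s = 0 from hs, map_zero]
    obtain ⟨n, hn⟩ := QCoh.exists_pow_smul_eq_zero hF hW g t hz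
    exact ⟨n, by rw [Submodule.mem_annihilator_span_singleton]; exact hn⟩
  obtain ⟨n, hn⟩ := hJ hrJ
  rw [Submodule.mem_annihilator_span_singleton] at hn
  have hmem : t ∈ Submodule.torsion Γ(X, W) Γ(F, W) :=
    (Submodule.mem_torsion_iff t).2 ⟨⟨r ^ n, pow_mem hr n⟩, hn⟩
  have h0 := htf ⟨W, hW⟩
  rw [show Submodule.torsion Γ(X, W) Γ(F, W) = ⊥ from h0, Submodule.mem_bot] at hmem
  exact hmem

end Groth.Agent.S15715
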