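import Groth.Statements.S15746
import Groth.Agent.PicfLib.H1Pic

set_option autoImplicit false
universe u
open CategoryTheory AlgebraicGeometry
open PicGrp

namespace Groth.Agent.S15746

/-- The sheaf of units is its direct image along the identity. -/
noncomputable def unitsIdIso (X : Scheme.{u}) :
    Groth.Agent.PicfLib.H1Pic.units (𝟙 X) ≅ UnitsSh.unitsAb X :=
  (fullyFaithfulSheafToPresheaf _ _).preimageIso (NatIso.ofComponents (fun _ => Iso.refl _)
    (fun _ => rfl))


/-- Let `X` be a scheme, and assume the Picard group law on `X` (isomorphism classes of invertible
`O_X`-modules under tensor product). Then the Picard group of `X`, written additively, is isomorphic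
as a group to `H¹(X, O_X^×)`, the first cohomology group of the abelian sheaf of units on the
underlying topological space of `X`. (Existence of a group isomorphism only: the isomorphism sending
the class of an invertible module to the class of its torsor of local generators is not named here.
The published statement is for any ringed space all of whose stalks are local rings; this row is its
case of a scheme.) -/
theorem result (X : Scheme.{u}) [PicGrp.Law X] :
    Nonempty (Additive (PicLoc.PicSet X) ≃+ CohTop.H (UnitsSh.unitsAb X) 1) := by
  let e := ((Sheaf.functorH _ 1).mapIso (unitsIdIso X)).addCommGroupIsoToAddEquiv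
  let P := Groth.Agent.PicfLib.H1Pic.picEquiv (𝟙 X) (Homeomorph.refl X).isHomeomorph
  exact ⟨(MulEquiv.toAdditive P.symm).trans ((AddEquiv.additiveMultiplicative _).trans e)⟩

end Groth.Agent.S15746
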