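import Groth.Statements.S15747
import Groth.Agent.MiscTwoH99.UnitsThick.Units
import Groth.Agent.OmegaLib.IdealMod

set_option autoImplicit false
universe u
open CategoryTheory CategoryTheory.Limits AlgebraicGeometry Opposite
open UnitsSh

namespace Groth.Agent.S15747

/-- Let `X` be a scheme, `J` a quasi-coherent ideal of `O_X` with `J² = 0`, `X₀` the closed subscheme it
cuts out and `i : X₀ ⟶ X` the inclusion. Then there is a morphism of abelian sheaves `J ⟶ O_X^×` on
the underlying space of `X` sending every local section `f` of `J` to the unit `1 + f` (which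
determines it), and the sequence `0 ⟶ J ⟶ O_X^× ⟶ i_* O_{X₀}^× ⟶ 0`, whose second map is the units
map of `i`, is a short exact sequence of abelian sheaves. (The published lemma assumes moreover that
`X` is quasi-compact and separated and that the restriction of global functions `O_X(X) →
O_{X₀}(X₀)` is surjective, and concludes about Picard groups; the exactness of this sequence of
sheaves, proved there stalk by stalk, uses none of these assumptions.) -/
theorem result (X : Scheme.{u}) (J : X.IdealSheafData)
    (hJ : J * J = ⊥) :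
    ∃ φ : Coh.toAb (ClSub.idealMod J) ⟶ UnitsSh.unitsAb X,
      (∀ (U : X.Opens) (f : (ClSub.idealMod J).val.obj (op U)),
        (UnitsSh.unitOfSect (φ.hom.app (op U) f)).val =
          1 + (show X.sheaf.obj.obj (op U) from (ClSub.idealModι J).val.app (op U) f)) ∧
      ∃ w : φ ≫ UnitsSh.comap J.subschemeι = 0,
        (ShortComplex.mk φ (UnitsSh.comap J.subschemeι) w).ShortExact := by
  open Groth.Agent.MiscTwoH99.UnitsThick in
  let a : Coh.toAb (ClSub.idealMod J) ⟶ OO X := (SheafOfModules.toSheaf X.ringCatSheaf).map (ClSub.idealModι J)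
  have hmem : ∀ (V : X.affineOpens) (f : (Coh.toAb (ClSub.idealMod J)).obj.obj (op V.1)),
      fn (a.hom.app (op V.1) f) ∈ J.ideal V := fun V f => OmegaLib.idealSect_mem J V f
  have hsq : ∀ (V : X.affineOpens) (x y : Γ(X, V.1)), x ∈ J.ideal V → y ∈ J.ideal V → x * y = 0 := fun V x y hx hy => by
    have h : x * y ∈ (J * J).ideal V := by
      rw [Scheme.IdealSheafData.ideal_mul]
      exact Ideal.mul_mem_mul hx hy
    rw [hJ, Scheme.IdealSheafData.ideal_bot] at h
    exact (Submodule.mem_bot _).mp h
  have ha : ∀ (V : X.Opens) (s t : (Coh.toAb (ClSub.idealMod J)).obj.obj (op V)),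
      fn (a.hom.app (op V) s) * fn (a.hom.app (op V) t) = 0 := fun V s t => by
    refine section_ext (F := OO X) (s := sect (fn (a.hom.app (op V) s) * fn (a.hom.app (op V) t)))
      (t := sect (0 : Γ(X, V))) fun x hx => ?_
    obtain ⟨U, hU, hxU, hUV⟩ := exists_affine_le hx
    refine ⟨U, hUV, hxU, fn_injective ?_⟩
    rw [fn_map, fn_map, fn_sect, fn_sect, map_mul, map_zero, ← fn_map, ← fn_map, ← app_res, ← app_res]
    exact hsq ⟨U, hU⟩ _ _ (hmem ⟨U, hU⟩ _) (hmem ⟨U, hU⟩ _)
  refine ⟨expo a ha, fun U f => rfl, ?_⟩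
  have w : expo a ha ≫ UnitsSh.comap J.subschemeι = 0 := hom_ext_affine fun V hV f => by
    show (UnitsSh.comap J.subschemeι).hom.app (op V) ((expo a ha).hom.app (op V) f) = 0
    rw [comap_eq_zero_iff, un_expo, map_add, map_one]
    exact (congrArg (1 + ·) (OmegaLib.subschemeι_app_idealSect J V f)).trans (add_zero _)
  refine ⟨w, shortExact_of_affine _ (fun V hV => ?_) (fun V hV s hs => ?_) (fun V hV => ?_)⟩
  · intro f g h
    have h' := sub_eq_zero.mpr h
    rw [← map_sub, expo_eq_zero_iff] at h'
    refine sub_eq_zero.mp (OmegaLib.idealSect_injective J V (h'.trans ?_))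
    exact (map_zero (a.hom.app (op V)).hom).symm
  · have h' := (comap_eq_zero_iff J.subschemeι s).mp hs
    obtain ⟨r, hr⟩ := OmegaLib.exists_idealSect_eq J V ((un s : Γ(X, V)) - 1) (by rw [map_sub, h', map_one, sub_self])
    refine ⟨r, un_injective (Units.ext ?_)⟩
    show 1 + OmegaSh.idealSect J V r = (un s : Γ(X, V))
    rw [hr, add_sub_cancel]
  · refine comap_surjective _ (J.subschemeι_app_surjective ⟨V, hV⟩) fun x hx => ⟨2, ?_⟩
    rw [pow_two]
    have hx' : x ∈ J.ideal ⟨V, hV⟩ := by
      rw [← J.ker_subschemeι_app ⟨V, hV⟩]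
      exact hx
    exact hsq ⟨V, hV⟩ x x hx' hx'

end Groth.Agent.S15747
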