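import Groth.Statements.S15759
import Mathlib
import Groth.Agent.CA2H40.AwayApprox
import Groth.Agent.CA2H40.AwaySettings
-- import your own Groth.Agent.* helpers here

set_option autoImplicit false
universe u
open Polynomial TensorProduct
open CAlg

namespace Groth.Agent.S15759

open Polynomial in
/-- Polynomials with constant term `1`. -/
def one0 (R : Type u) [CommRing R] : Submonoid R[X] where
  carrier := {f | f.coeff 0 = 1}
  mul_mem' {f g} hf hg := by
    simp only [Set.mem_setOf_eq, Polynomial.mul_coeff_zero] at hf hg ⊢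
    rw [hf, hg, one_mul]
  one_mem' := by simp

open Polynomial in
lemma one0_le (R : Type u) [CommRing R] :
    one0 R ≤ Submonoid.closure ({f : R[X] | f.coeff 0 = 1} ∪ {X}) :=
  fun _ hf => Submonoid.subset_closure (Or.inl hf)

/-- Let R be a ring, L = R(t) the localisation of R[t] at the monoid generated by t and the polynomials
with constant term 1 (that is, (R[t]_{1+tR[t]})[1/t]), and L' an L-algebra identified with R((t))
compatibly with R[t] → R((t)). Then (b) finitely generated projective L-modules that become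
isomorphic over L' are isomorphic, and (c) every stably free L'-module is the base change of a
stably free L-module. -/
theorem result (R : Type u) [CommRing R]
    (L : Type u) [CommRing L] [Algebra R[X] L]
    [IsLocalization (Submonoid.closure ({f : R[X] | f.coeff 0 = 1} ∪ {X})) L]
    (L' : Type u) [CommRing L'] [Algebra L L'] (e : L' ≃+* LaurentSeries R)
    (he : ∀ p : R[X], e (algebraMap L L' (algebraMap R[X] L p)) =
      HahnSeries.ofPowerSeries ℤ R (Polynomial.coeToPowerSeries.ringHom p)) :
    (∀ (M N : Type u) [AddCommGroup M] [Module L M] [Module.Finite L M] [Module.Projective L M]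
        [AddCommGroup N] [Module L N] [Module.Finite L N] [Module.Projective L N],
        Nonempty (L' ⊗[L] M ≃ₗ[L'] L' ⊗[L] N) → Nonempty (M ≃ₗ[L] N)) ∧
    (∀ (M' : Type u) [AddCommGroup M'] [Module L' M'] [Module.Finite L' M'],
        (∃ n m : ℕ, Nonempty ((M' × (Fin n → L')) ≃ₗ[L'] (Fin m → L'))) →
        ∃ (M : Type u) (_ : AddCommGroup M) (_ : Module L M), Module.Finite L M ∧
          (∃ n m : ℕ, Nonempty ((M × (Fin n → L)) ≃ₗ[L] (Fin m → L))) ∧
          Nonempty (L' ⊗[L] M ≃ₗ[L'] M')) := by
  classical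
  let N₀ : Submonoid R[X] := Submonoid.closure ({f : R[X] | f.coeff 0 = 1} ∪ {X})
  let A₀ := Localization (one0 R)
  let x₀ : A₀ := algebraMap R[X] A₀ X
  letI : Algebra A₀ L := (IsLocalization.lift (M := one0 R) (g := algebraMap R[X] L)
    fun f => IsLocalization.map_units L (⟨f.1, one0_le R f.2⟩ : N₀)).toAlgebra
  haveI : IsScalarTower R[X] A₀ L := IsScalarTower.of_algebraMap_eq (R := R[X]) (S := A₀) (A := L) fun p => (IsLocalization.lift_eq _ p).symm
  haveI hbig : IsLocalization (N₀.map (algebraMap R[X] A₀)) L :=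
    IsLocalization.isLocalization_of_submonoid_le A₀ L (one0 R) N₀ (one0_le R)
  haveI : IsLocalization.Away x₀ L := by
    refine (IsLocalization.iff_of_le_of_exists_dvd (S := L) (Submonoid.powers x₀) (N₀.map (algebraMap R[X] A₀)) ?_ ?_).mpr hbig
    · exact (Submonoid.powers_le).mpr ⟨X, Submonoid.subset_closure (Or.inr rfl), rfl⟩
    · rintro _ ⟨f, hf, rfl⟩
      suffices ∃ k, algebraMap R[X] A₀ f ∣ x₀ ^ k by
        obtain ⟨k, hk⟩ := this
        exact ⟨_, ⟨k, rfl⟩, hk⟩
      induction hf using Submonoid.closure_induction with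
      | mem f hf =>
        rcases hf with hf | hf
        · exact ⟨0, (IsLocalization.map_units A₀ (⟨f, hf⟩ : one0 R)).dvd⟩
        · rw [Set.mem_singleton_iff.mp hf]
          exact ⟨1, by rw [pow_one]⟩
      | one => exact ⟨0, by rw [map_one]; exact one_dvd _⟩
      | mul a b _ _ ha hb =>
        obtain ⟨k, hk⟩ := ha
        obtain ⟨l, hl⟩ := hb
        exact ⟨k + l, by rw [map_mul, pow_add]; exact mul_dvd_mul hk hl⟩
  letI : Algebra (PowerSeries R) L' := (e.symm.toRingHom.comp (HahnSeries.ofPowerSeries ℤ R)).toAlgebra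
  haveI : IsLocalization.Away (PowerSeries.X : PowerSeries R) L' := by
    have : IsLocalization (Submonoid.powers (PowerSeries.X : PowerSeries R)) (LaurentSeries R) := inferInstance
    exact IsLocalization.isLocalization_of_algEquiv (Submonoid.powers (PowerSeries.X : PowerSeries R))
      (AlgEquiv.ofRingEquiv (f := e.symm) (fun x => rfl))
  have hunit : ∀ f : one0 R, IsUnit (Polynomial.coeToPowerSeries.ringHom (f : R[X]) : PowerSeries R) := fun f => by
    rw [PowerSeries.isUnit_iff_constantCoeff, ← PowerSeries.coeff_zero_eq_constantCoeff_apply,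
      Polynomial.coeToPowerSeries.ringHom_apply, Polynomial.coeff_coe, show (f : R[X]).coeff 0 = 1 from f.2]
    exact isUnit_one
  let g : A₀ →+* PowerSeries R := IsLocalization.lift hunit
  have hg : ∀ p : R[X], g (algebraMap R[X] A₀ p) = (p : PowerSeries R) := fun p => IsLocalization.lift_eq hunit p
  have hB : ∀ (M : ℕ) (x : A₀), ∃ p : R[X], x - algebraMap R[X] A₀ p ∈ Ideal.span {algebraMap R[X] A₀ X ^ M} := by
    intro M x
    obtain ⟨⟨p, q⟩, hpq⟩ := IsLocalization.surj (one0 R) x
    obtain ⟨r, hr⟩ : X ∣ 1 - (q : R[X]) := by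
      rw [Polynomial.X_dvd_iff, Polynomial.coeff_sub, Polynomial.coeff_one_zero, show (q : R[X]).coeff 0 = 1 from q.2, sub_self]
    refine ⟨p * ∑ i ∈ Finset.range M, (X * r) ^ i, Ideal.mem_span_singleton'.mpr ⟨x * algebraMap R[X] A₀ r ^ M, ?_⟩⟩
    have h1 := congrArg (algebraMap R[X] A₀) (mul_neg_geom_sum (X * r) M)
    rw [show (1 : R[X]) - X * r = (q : R[X]) by rw [← hr]; ring, map_sub, map_one, map_pow, map_mul, map_mul] at h1
    rw [map_mul, ← hpq]
    linear_combination x * h1
  have hjac : Ideal.span {algebraMap R[X] A₀ X} ≤ Ideal.jacobson ⊥ := by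
    rw [Ideal.span_singleton_le_iff_mem, Ideal.mem_jacobson_bot]
    intro y
    obtain ⟨⟨p, q⟩, hpq⟩ := IsLocalization.surj (one0 R) y
    have h2 : IsUnit (algebraMap R[X] A₀ (X * p + (q : R[X]))) := IsLocalization.map_units A₀ (⟨X * p + (q : R[X]), by
      show (X * p + (q : R[X])).coeff 0 = 1
      rw [Polynomial.coeff_add, Polynomial.coeff_X_mul_zero, zero_add]; exact q.2⟩ : one0 R)
    refine (IsUnit.mul_iff (y := algebraMap R[X] A₀ (q : R[X]))).mp ?_ |>.1
    rw [map_add, map_mul, ← hpq] at h2
    convert h2 using 1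
    ring
  have hcomp : ∀ a : A₀, algebraMap L L' (algebraMap A₀ L a) = algebraMap (PowerSeries R) L' (g a) := by
    refine RingHom.congr_fun (f := (algebraMap L L').comp (algebraMap A₀ L))
      (g := (algebraMap (PowerSeries R) L').comp g) (IsLocalization.ringHom_ext (one0 R) (RingHom.ext fun p => ?_))
    show algebraMap L L' (algebraMap A₀ L (algebraMap R[X] A₀ p)) = algebraMap (PowerSeries R) L' (g (algebraMap R[X] A₀ p))
    rw [← IsScalarTower.algebraMap_apply R[X] A₀ L, hg]
    refine e.injective ?_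
    rw [he, RingHom.algebraMap_toAlgebra]
    exact (e.apply_symm_apply _).symm
  have h := CA2H40.AwayApprox.setting_powerSeries (L := L) (L' := L') g hg hB hjac hcomp
  refine ⟨fun M N _ _ _ _ _ _ _ _ ⟨ψ⟩ => h.nonempty_equiv ψ, fun M' _ _ _ ⟨n, m, ⟨ee⟩⟩ => ?_⟩
  obtain ⟨M, i1, i2, hM, hMe, hiso⟩ := h.exists_stablyFree ee
  exact ⟨M, i1, i2, hM, ⟨n, m, hMe⟩, hiso⟩

end Groth.Agent.S15759
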