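import Groth.Statements.S15803
import Groth.Agent.MiscTwoH99.InertiaGen

set_option autoImplicit false
universe u v w
open WildQuot

namespace Groth.Agent.S15803

/-- Let `R` be a regular local ring and `A` a normal local domain, finite over `R` (with `R → A`
injective) and with the same residue field; let a finite group `H` act faithfully on `A` by
`R`-algebra automorphisms with ring of invariants exactly `R` (so `Frac(A)/Frac(R)` is Galois with
group `H`); let `p` be a prime and suppose that every nontrivial inertia subgroup of a height-one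
prime of `A` has order `p` and is normal in `H`. Then `H` is commutative and every element satisfies
`h ^ p = 1`: `H` is an elementary abelian `p`-group (of order the degree of `Frac(A)` over
`Frac(R)`). (The published statement is for `A` a complete regular local ring with an action
ramified precisely at the origin, `R = k[[x_1, …, x_n]]` a norm subring and `H` the Galois group of
`Frac(A)/Frac(R)`, when that extension is Galois; this row assumes only the hypotheses listed
above.) -/
theorem result
    (p : ℕ) [Fact p.Prime] (R : Type u) [CommRing R] [IsRegularLocalRing R]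
    (A : Type v) [CommRing A] [IsDomain A] [IsIntegrallyClosed A] [IsLocalRing A]
    [Algebra R A] [Module.Finite R A] (hinj : Function.Injective (algebraMap R A))
    (hres : Function.Surjective (IsLocalRing.residue A ∘ algebraMap R A))
    (H : Type w) [Group H] [Finite H] [MulSemiringAction H A] [SMulCommClass H R A] [FaithfulSMul H A]
    (hfix : ∀ a : A, (∀ h : H, h • a = a) → a ∈ Set.range (algebraMap R A))
    (hMR2 : ∀ P : Ideal A, P.IsPrime → P.height = 1 → P.inertia H ≠ ⊥ →
      Nat.card (P.inertia H) = p ∧ (P.inertia H).Normal) :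
    (∀ g h : H, g * h = h * g) ∧ ∀ h : H, h ^ p = 1 := by
  classical
  let ι := {P : Ideal A // P.IsPrime ∧ P.height = 1}
  let K : ι → Subgroup H := fun P => P.1.inertia H
  have hgen : (⨆ P : ι, K P) = ⊤ := MiscTwoH99.iSup_inertia_eq_top hinj hres hfix
  have hK : ∀ P : ι, K P ≠ ⊥ → Nat.card (K P) = p ∧ (K P).Normal := fun P h => hMR2 P.1 P.2.1 P.2.2 h
  have hcomm : ∀ P Q : ι, ∀ x ∈ K P, ∀ y ∈ K Q, x * y = y * x := by
    intro P Q x hx y hy
    by_cases hP : K P = ⊥
    · rw [hP, Subgroup.mem_bot] at hx
      simp [hx]
    by_cases hQ : K Q = ⊥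
    · rw [hQ, Subgroup.mem_bot] at hy
      simp [hy]
    obtain ⟨hPc, hPn⟩ := hK P hP
    obtain ⟨hQc, hQn⟩ := hK Q hQ
    haveI := hPn
    haveI := hQn
    by_cases he : K P = K Q
    · haveI : IsCyclic (K Q) := isCyclic_of_prime_card hQc
      letI : CommGroup (K Q) := IsCyclic.commGroup
      exact congrArg Subtype.val (mul_comm (⟨x, he ▸ hx⟩ : K Q) ⟨y, hy⟩)
    · refine Subgroup.commute_of_normal_of_disjoint _ _ hPn hQn ?_ x y hx hy
      rw [disjoint_iff]
      by_contra hne
      have h1 : Nat.card ↥(K P ⊓ K Q) = p := by
        rcases (Nat.dvd_prime Fact.out).1 (hPc ▸ Subgroup.card_dvd_of_le (inf_le_left : K P ⊓ K Q ≤ K P)) with h | h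
        · exact absurd (Subgroup.card_eq_one.1 h) hne
        · exact h
      exact he ((Subgroup.eq_of_le_of_card_ge inf_le_left (by rw [hPc, h1])).symm.trans
        (Subgroup.eq_of_le_of_card_ge inf_le_right (by rw [hQc, h1])))
  have hall : ∀ g h : H, g * h = h * g := by
    intro g h
    have hg : g ∈ ⨆ P : ι, K P := by rw [hgen]; trivial
    refine Subgroup.iSup_induction (C := fun a => a * h = h * a) K hg (fun P x hx => ?_) (by simp)
      fun a b ha hb => by rw [mul_assoc, hb, ← mul_assoc, ha, mul_assoc]
    have hh : h ∈ ⨆ P : ι, K P := by rw [hgen]; trivial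
    exact Subgroup.iSup_induction (C := fun b => x * b = b * x) K hh (fun Q y hy => hcomm P Q x hx y hy)
      (by simp) fun a b ha hb => by rw [← mul_assoc, ha, mul_assoc, hb, mul_assoc]
  refine ⟨hall, fun h => ?_⟩
  have hh : h ∈ ⨆ P : ι, K P := by rw [hgen]; trivial
  refine Subgroup.iSup_induction (C := fun b => b ^ p = 1) K hh (fun P x hx => ?_) (one_pow p)
    fun a b ha hb => by rw [Commute.mul_pow (hall a b), ha, hb, one_mul]
  by_cases hP : K P = ⊥
  · rw [hP, Subgroup.mem_bot] at hx
    rw [hx, one_pow]
  · have := congrArg Subtype.val (pow_card_eq_one' (x := (⟨x, hx⟩ : K P)))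
    rwa [(hK P hP).1] at this

end Groth.Agent.S15803
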