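import Groth.Statements.S15809
import Groth.Agent.MiscTwoH99.CodimOneIso

set_option autoImplicit false
universe u
open CategoryTheory MonoidalCategory CartesianMonoidalCategory AlgebraicGeometry Limits
open WildQuot

namespace Groth.Agent.S15809

/-- Let `S` be a Noetherian scheme, `G` a finite flat `S`-group scheme and `Y` a finite flat `S`-scheme
with an action of `G`; let `Ψ : G ×_S Y → Y ×_S Y` be `(g, y) ↦ (g y, y)`. Suppose that for every
point `s ∈ S` of codimension at most `1` (local ring of dimension `≤ 1`) the fibre `Y_s` is a torsor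
under `G_s`: it is nonempty and the base change of `Ψ` to `Spec κ(s)` is an isomorphism. Then `Y` is
a `G`-torsor: `Ψ` is an isomorphism and `Y → S` is surjective (so the finite flat cover `Y → S`
itself trivialises `Y`). -/
theorem result
    (S : Scheme.{u}) [AlgebraicGeometry.IsNoetherian S]
    (G Y : Over S) [GrpObj G]
    [AlgebraicGeometry.IsFinite G.hom] [AlgebraicGeometry.Flat G.hom]
    [AlgebraicGeometry.IsFinite Y.hom] [AlgebraicGeometry.Flat Y.hom]
    (a : AlgGrp.Action G Y)
    (hfib : ∀ s : S, ringKrullDim (S.presheaf.stalk s) ≤ 1 →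
      s ∈ Set.range Y.hom.base ∧
      IsIso (pullback.map (G ⊗ Y).hom (S.fromSpecResidueField s) (Y ⊗ Y).hom (S.fromSpecResidueField s)
        (CartesianMonoidalCategory.lift a.act (CartesianMonoidalCategory.snd G Y)).left
        (𝟙 _) (𝟙 S)
        ((Category.comp_id _).trans
          (Over.w (CartesianMonoidalCategory.lift a.act (CartesianMonoidalCategory.snd G Y))).symm)
        ((Category.comp_id _).trans (Category.id_comp _).symm))) :
    IsIso (CartesianMonoidalCategory.lift a.act (CartesianMonoidalCategory.snd G Y)).left ∧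
      Function.Surjective Y.hom.base := by
  haveI : IsFinite (Y ⊗ Y).hom := by
    change IsFinite (pullback.fst Y.hom Y.hom ≫ Y.hom)
    infer_instance
  haveI : Flat (Y ⊗ Y).hom := by
    change Flat (pullback.fst Y.hom Y.hom ≫ Y.hom)
    infer_instance
  haveI : IsFinite (G ⊗ Y).hom := by
    change IsFinite (pullback.fst G.hom Y.hom ≫ G.hom)
    infer_instance
  haveI : Flat (G ⊗ Y).hom := by
    change Flat (pullback.fst G.hom Y.hom ≫ G.hom)
    infer_instance
  let Ψ := CartesianMonoidalCategory.lift a.act (CartesianMonoidalCategory.snd G Y)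
  haveI : IsFinite (Ψ.left ≫ (Y ⊗ Y).hom) := by rw [Over.w]; infer_instance
  haveI : Flat (Ψ.left ≫ (Y ⊗ Y).hom) := by rw [Over.w]; infer_instance
  refine ⟨MiscTwoH99.isIso_of_isoInCodimLEOne Ψ.left (Y ⊗ Y).hom ?_, fun s => ?_⟩
  · intro s hs T x v hxv
    let k := S.fromSpecResidueField s
    obtain ⟨-, hm⟩ := hfib s hs
    let m := pullback.map (G ⊗ Y).hom k (Y ⊗ Y).hom k Ψ.left (𝟙 _) (𝟙 S)
      ((Category.comp_id _).trans (Over.w Ψ).symm)
      ((Category.comp_id _).trans (Category.id_comp _).symm)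
    haveI : IsIso m := hm
    have hsq : IsPullback m (pullback.fst _ k) (pullback.fst (Y ⊗ Y).hom k) Ψ.left := by
      refine IsPullback.of_right (h₁₂ := pullback.snd (Y ⊗ Y).hom k) (h₂₂ := (Y ⊗ Y).hom)
        (v₁₃ := k) ?_ (pullback.lift_fst _ _ _) (IsPullback.of_hasPullback (Y ⊗ Y).hom k).flip
      have e1 : m ≫ pullback.snd (Y ⊗ Y).hom k = pullback.snd _ k :=
        (pullback.lift_snd _ _ _).trans (Category.comp_id _)
      rw [e1, Over.w Ψ]
      exact (IsPullback.of_hasPullback (G ⊗ Y).hom k).flip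
    let y : T ⟶ pullback (Y ⊗ Y).hom k := pullback.lift x v hxv
    have hy : y ≫ pullback.fst _ k = x := pullback.lift_fst _ _ _
    have hpaste := (IsPullback.of_hasPullback m y).paste_horiz hsq.flip
    rw [hy] at hpaste
    rw [← hpaste.isoPullback_inv_snd]
    haveI : IsIso (pullback.snd m y) := inferInstance
    infer_instance
  · obtain ⟨V, hV, hsV, -⟩ := TopologicalSpace.Opens.isBasis_iff_nbhd.1 S.isBasis_affineOpens
      (show s ∈ (⊤ : S.Opens) from trivial)
    obtain ⟨q, hq, hqle⟩ := Ideal.exists_minimalPrimes_le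
      (bot_le : (⊥ : Ideal Γ(S, V)) ≤ (hV.primeIdealOf ⟨s, hsV⟩).asIdeal)
    haveI := hq.1.1
    let p : PrimeSpectrum Γ(S, V) := ⟨q, hq.1.1⟩
    have hspec : hV.fromSpec p ⤳ s := by
      rw [← show hV.fromSpec (hV.primeIdealOf ⟨s, hsV⟩) = s from hV.fromSpec_primeIdealOf ⟨s, hsV⟩]
      exact ((PrimeSpectrum.le_iff_specializes p _).1 hqle).map hV.fromSpec.continuous
    have hpV : hV.fromSpec p ∈ V := (hV.isoSpec.inv p).2
    let := TopCat.Presheaf.algebra_section_stalk S.presheaf (⟨hV.fromSpec p, hpV⟩ : V)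
    haveI : IsLocalization.AtPrime (S.presheaf.stalk (hV.fromSpec p)) q :=
      hV.isLocalization_stalk' p hpV
    have hdim : ringKrullDim (S.presheaf.stalk (hV.fromSpec p)) ≤ 1 := by
      rw [IsLocalization.AtPrime.ringKrullDim_eq_height q (S.presheaf.stalk (hV.fromSpec p)),
        Ideal.height_eq_zero_iff.2 hq]
      exact zero_le_one
    exact hspec.mem_closed Y.hom.isClosedMap.isClosed_range (hfib _ hdim).1

end Groth.Agent.S15809
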