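import Groth.Statements.S15824
import Groth.Agent.S18944
import Groth.Agent.LC.ExtDim

set_option autoImplicit false
universe u
open CategoryTheory AlgebraicGeometry
open RegImm

namespace Groth.Agent.S15824

/-- Let X be a locally Noetherian scheme all of whose local rings are Cohen–Macaulay, and i : Z → X a
closed immersion which is regular (around every point, on some affine open of X the ideal of Z is
generated by a regular sequence). Then Z has no embedded points (each associated point of Z is
generic in an irreducible component): for every point z of Z, if the maximal ideal of O_{Z,z} is an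
associated prime of O_{Z,z} (as a module over itself), then O_{Z,z} has Krull dimension 0. (The
published statement takes X Noetherian and Z a local complete intersection subscheme; the assertion
is local on X and uses only that the ideal of Z is locally generated by a regular sequence.) -/
theorem result {X Z : Scheme.{u}}
    [IsLocallyNoetherian X] (hCM : ∀ x : X, LocCoh.IsCohenMacaulayLocalRing (X.presheaf.stalk x))
    (i : Z ⟶ X) [IsClosedImmersion i] (hi : RegImm.IsRegularImmersion RegImm.Kind.regular i) (z : Z)
    (hz : IsAssociatedPrime (IsLocalRing.maximalIdeal (Z.presheaf.stalk z)) (Z.presheaf.stalk z)) :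
    ringKrullDim (Z.presheaf.stalk z) = 0 := by
  obtain ⟨rs, hreg, hker⟩ := Groth.Agent.S18944.result i hi z
  haveI := hCM (i z)
  let R := X.presheaf.stalk (i z)
  let S := Z.presheaf.stalk z
  let f : R →+* S := (i.stalkMap z).hom
  letI : Algebra R S := f.toAlgebra
  have hs : Function.Surjective (algebraMap R S) := i.stalkMap_surjective z
  have hmem : ∀ r ∈ rs, r ∈ IsLocalRing.maximalIdeal R := fun r hr => by
    refine IsLocalRing.le_maximalIdeal (RingHom.ker_ne_top f) ?_
    show r ∈ RingHom.ker (i.stalkMap z).hom
    rw [hker]
    exact Ideal.subset_span hr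
  have hQ := Groth.Agent.LC.isCM_quot_ofList R (LocCoh.IsCohenMacaulayLocalRing.supportDim_eq_depth (R := R)) hreg.toIsWeaklyRegular hmem
  have hJ : (Ideal.ofList rs • ⊤ : Submodule R R) = LinearMap.ker (Algebra.linearMap R S) := by
    rw [smul_eq_mul, Ideal.mul_top, ← hker]
    rfl
  let e : (R ⧸ (Ideal.ofList rs • ⊤ : Submodule R R)) ≃ₗ[R] S :=
    (Submodule.quotEquivOfEq _ _ hJ).trans ((Algebra.linearMap R S).quotKerEquivOfSurjective hs)
  haveI : IsNoetherianRing S := isNoetherianRing_of_surjective R S f hs
  have hp : IsLocalRing.maximalIdeal R ∈ associatedPrimes R (R ⧸ (Ideal.ofList rs • ⊤ : Submodule R R)) := by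
    rw [LinearEquiv.AssociatedPrimes.eq e]
    obtain ⟨hmp, w, hw⟩ := Groth.Agent.Alg6.mem_ass_iff.1 hz
    refine Groth.Agent.Alg6.mem_ass_iff.2 ⟨inferInstance, w, fun a => ?_⟩
    haveI : IsLocalHom (algebraMap R S) := IsLocalHom.of_surjective _ hs
    rw [← IsLocalRing.maximalIdeal_comap (algebraMap R S), Ideal.mem_comap]
    exact hw (algebraMap R S a)
  have h := Groth.Agent.LC.coheight_eq_of_ass_of_isCM _ hQ (p := IsLocalRing.closedPoint R) hp
  rw [show Order.coheight (IsLocalRing.closedPoint R) = 0 from
    Order.coheight_eq_zero.2 (fun y _ => IsLocalRing.le_maximalIdeal y.2.ne_top)] at h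
  rw [← ringKrullDim_eq_of_ringEquiv (RingHom.quotientKerEquivOfSurjective (f := f) hs),
    ← Module.supportDim_quotient_eq_ringKrullDim,
    ← Module.supportDim_eq_of_equiv (Submodule.quotEquivOfEq _ (RingHom.ker f) hJ)]
  exact h.symm

end Groth.Agent.S15824
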