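import Groth.Statements.S15836
import Groth.Agent.MiscTwoH99.ConePic

set_option autoImplicit false
universe u
open SprIso

namespace Groth.Agent.S15836

/-- Let k be a field and C a closed subscheme of affine n-space over k which is stable under the scaling
action of the affine line, i.e. C = Spec A with A = k[x_1, …, x_n]/I for an ideal I generated by
homogeneous polynomials, and assume C is normal (A is an integrally closed domain). Then Pic(C) = 0:
every invertible A-module is free. -/
theorem result (k : Type u) [Field k] (n : ℕ)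
    (I : Ideal (MvPolynomial (Fin n) k))
    (hI : ∃ s : Set (MvPolynomial (Fin n) k), (∀ f ∈ s, ∃ d : ℕ, f.IsHomogeneous d) ∧ I = Ideal.span s)
    [IsDomain (MvPolynomial (Fin n) k ⧸ I)] [IsIntegrallyClosed (MvPolynomial (Fin n) k ⧸ I)]
    (M : Type u) [AddCommGroup M] [Module (MvPolynomial (Fin n) k ⧸ I) M]
    [Module.Invertible (MvPolynomial (Fin n) k ⧸ I) M] :
    Module.Free (MvPolynomial (Fin n) k ⧸ I) M := by
  classical
  obtain ⟨s, hs, hIs⟩ := hI
  let A := MvPolynomial (Fin n) k ⧸ I
  let q : MvPolynomial (Fin n) k →+* A := Ideal.Quotient.mk I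
  let H : MvPolynomial (Fin n) k →+* Polynomial A :=
    MvPolynomial.eval₂Hom ((Polynomial.C).comp (q.comp MvPolynomial.C))
      (fun i => Polynomial.C (q (MvPolynomial.X i)) * Polynomial.X)
  have hhom : ∀ (d : ℕ) (f : MvPolynomial (Fin n) k), f.IsHomogeneous d →
      H f = Polynomial.C (q f) * Polynomial.X ^ d := by
    intro d f hf
    conv_rhs => rw [f.as_sum, map_sum, map_sum, Finset.sum_mul]
    conv_lhs => rw [f.as_sum, map_sum]
    refine Finset.sum_congr rfl fun m hm => ?_
    have hd : m.sum (fun _ e => e) = d := by
      have := hf (MvPolynomial.mem_support_iff.1 hm)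
      rw [Finsupp.weight_apply] at this
      simpa [Finsupp.sum] using this
    rw [show H (MvPolynomial.monomial m (f.coeff m)) = _ from MvPolynomial.eval₂_monomial _ _,
      MvPolynomial.monomial_eq, map_mul, map_mul, map_finsuppProd, map_finsuppProd, RingHom.comp_apply,
      RingHom.comp_apply, mul_assoc]
    congr 1
    rw [← hd]
    simp only [Finsupp.prod, Finsupp.sum, map_pow]
    exact (Finset.prod_congr rfl fun x _ => mul_pow _ _ _).trans (Finset.prod_mul_distrib.trans
      (congrArg _ (Finset.prod_pow_eq_pow_sum _ _ _)))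
  have hker : ∀ f ∈ I, H f = 0 := by
    intro f hf
    rw [hIs] at hf
    induction hf using Submodule.span_induction with
    | mem x hx =>
      obtain ⟨d, hd⟩ := hs x hx
      rw [hhom d x hd, show q x = 0 from Ideal.Quotient.eq_zero_iff_mem.2 (hIs ▸ Ideal.subset_span hx)]
      simp
    | zero => simp
    | add a b _ _ ha hb => simp [ha, hb]
    | smul r a _ ha => simp [ha]
  let h : A →+* Polynomial A := Ideal.Quotient.lift I H hker
  refine MiscTwoH99.free_of_homotopy h (fun a => ?_) (fun a => ?_) M
  · obtain ⟨f, rfl⟩ := Ideal.Quotient.mk_surjective a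
    show (Polynomial.evalRingHom 1).comp H f = q f
    refine RingHom.congr_fun (MvPolynomial.ringHom_ext (fun r => ?_) fun i => ?_) f
    · simp [H]
    · simp [H]
  · obtain ⟨f, rfl⟩ := Ideal.Quotient.mk_surjective a
    show (Polynomial.evalRingHom 0).comp H f = 0 ∨ IsUnit ((Polynomial.evalRingHom 0).comp H f)
    have e : (Polynomial.evalRingHom 0).comp H =
        (q.comp MvPolynomial.C).comp MvPolynomial.constantCoeff :=
      MvPolynomial.ringHom_ext (fun r => by simp [H]) fun i => by simp [H]
    rw [e]
    by_cases h0 : MvPolynomial.constantCoeff f = 0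
    · exact Or.inl (by simp [h0])
    · exact Or.inr ((isUnit_iff_ne_zero.2 h0).map (q.comp MvPolynomial.C))

end Groth.Agent.S15836
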