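import Groth.Statements.S19307
import Groth.Agent.SchTorsor.Props
import Groth.Agent.SmoothSecLib.Basic
import Groth.Agent.EtFound.Descent
import Mathlib.RingTheory.Smooth.AdicCompletion
import Mathlib.RingTheory.PowerSeries.Basic
import Mathlib.RingTheory.Flat.FaithfullyFlat.Algebra
import Mathlib.AlgebraicGeometry.Morphisms.Affine

set_option autoImplicit false
universe u
open CategoryTheory MonoidalCategory CartesianMonoidalCategory MonObj GrpObj AlgebraicGeometry PowerSeries
open NonAbH1

namespace Groth.Agent.S19307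

set_option linter.style.haveILetI false

theorem mem_ker_constantCoeff_pow {R : Type u} [CommRing R] {n : ℕ} {f : R⟦X⟧} :
    f ∈ RingHom.ker (constantCoeff (R := R)) ^ n ↔ ∀ i < n, coeff i f = 0 := by
  have hk : RingHom.ker (constantCoeff (R := R)) = Ideal.span {(PowerSeries.X : R⟦X⟧)} := by
    ext g
    rw [RingHom.mem_ker, Ideal.mem_span_singleton, PowerSeries.X_dvd_iff]
  rw [hk, Ideal.span_singleton_pow, Ideal.mem_span_singleton, PowerSeries.X_pow_dvd_iff]

theorem isAdicComplete_ker_constantCoeff (R : Type u) [CommRing R] :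
    IsAdicComplete (RingHom.ker (constantCoeff (R := R))) R⟦X⟧ := by
  have key : ∀ (n : ℕ) (a b : R⟦X⟧), a ≡ b [SMOD (RingHom.ker (constantCoeff (R := R)) ^ n • ⊤ : Ideal R⟦X⟧)] ↔
      ∀ i < n, coeff i a = coeff i b := by
    intro n a b
    rw [SModEq.sub_mem, smul_eq_mul, Ideal.mul_top, mem_ker_constantCoeff_pow]
    simp [sub_eq_zero]
  haveI : IsHausdorff (RingHom.ker (constantCoeff (R := R))) R⟦X⟧ :=
    ⟨fun x hx => PowerSeries.ext fun i => by
      simpa using (key (i + 1) x 0).mp (hx (i + 1)) i (Nat.lt_succ_self i)⟩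
  haveI : IsPrecomplete (RingHom.ker (constantCoeff (R := R))) R⟦X⟧ :=
    ⟨fun f hf => ⟨PowerSeries.mk fun i => coeff i (f (i + 1)), fun n => (key n _ _).mpr fun i hi => by
      rw [coeff_mk]
      exact ((key (i + 1) _ _).mp (hf hi) i (Nat.lt_succ_self i)).symm⟩⟩
  exact { }

set_option backward.isDefEq.respectTransparency false in
/-- A smooth surjective morphism to an affine scheme has a section over a faithfully flat étale algebra. -/
theorem exists_section_etale_ff {R : Type u} [CommRing R] {Y : Scheme.{u}}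
    (f : Y ⟶ Spec (CommRingCat.of R)) [Smooth f] [Surjective f] :
    ∃ (R' : Type u) (_ : CommRing R') (_ : Algebra R R'), Algebra.Etale R R' ∧ Module.FaithfullyFlat R R' ∧
      ∃ h : Spec (CommRingCat.of R') ⟶ Y, h ≫ f = Spec.map (CommRingCat.ofHom (algebraMap R R')) := by
  classical
  choose y hy using f.surjective
  choose Z g z hZ hg hz σ hσ using fun p => SmoothSecLib.exists_etale_section_scheme f (y p)
  haveI := hZ
  haveI := hg
  obtain ⟨t, ht⟩ := isCompact_univ.elim_finite_subcover (fun p => Set.range (g p))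
    (fun p => (g p).isOpenMap.isOpen_range)
    (fun p _ => Set.mem_iUnion.mpr ⟨p, z p, (hz p).trans (hy p)⟩)
  let W : Scheme.{u} := ∐ fun p : t => Z p
  let π : W ⟶ Spec (CommRingCat.of R) := Limits.Sigma.desc fun p : t => g p
  haveI : Etale π := IsZariskiLocalAtSource.sigmaDesc fun p => hg p
  let π₀ := W.isoSpec.inv ≫ π
  obtain ⟨φ, hφ⟩ : ∃ φ, Spec.map φ = π₀ := ⟨_, Spec.map_preimage π₀⟩
  letI : Algebra R Γ(W, ⊤) := φ.hom.toAlgebra
  have het : Algebra.Etale R Γ(W, ⊤) := by
    have h : Etale (Spec.map φ) := by rw [hφ]; infer_instance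
    exact RingHom.etale_algebraMap.mp ((HasRingHomProperty.Spec_iff (P := @Etale)).mp h)
  haveI := het
  have hff : Module.FaithfullyFlat R Γ(W, ⊤) := by
    refine Module.FaithfullyFlat.of_comap_surjective fun p => ?_
    obtain ⟨q, hq, hpq⟩ := Set.mem_iUnion₂.mp (ht (Set.mem_univ (p : ↥(Spec (CommRingCat.of R)))))
    obtain ⟨w, hw⟩ := hpq
    refine ⟨W.isoSpec.hom ((Limits.Sigma.ι (fun p : t => Z p) ⟨q, hq⟩) w), ?_⟩
    show Spec.map φ _ = _
    rw [hφ, ← Scheme.Hom.comp_apply, ← Scheme.Hom.comp_apply]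
    simpa [π₀, π] using hw
  refine ⟨Γ(W, ⊤), inferInstance, inferInstance, het, hff,
    W.isoSpec.inv ≫ Limits.Sigma.desc (fun p : t => σ p), ?_⟩
  rw [show CommRingCat.ofHom (algebraMap R Γ(W, ⊤)) = φ from rfl, hφ, Category.assoc]
  refine congrArg (W.isoSpec.inv ≫ ·) (Limits.Sigma.hom_ext _ _ fun p => ?_)
  rw [Limits.Sigma.ι_desc_assoc, Limits.Sigma.ι_desc]
  exact hσ p

set_option backward.isDefEq.respectTransparency false in
/-- Let R be a commutative ring, G an affine smooth group scheme over the power series ring R⟦X⟧ and P a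
G-torsor over Spec R⟦X⟧ for the fpqc topology. Then there is an étale and faithfully flat R-algebra
R' such that P has a section over Spec R'⟦X⟧. (The published statement takes R an algebra over a
field and G the base change to R⟦X⟧ of a smooth affine group scheme over the power series ring of
that field; the statement here allows any affine smooth group scheme over R⟦X⟧, to which the
published proof applies unchanged.) -/
theorem result
    (R : Type u) [CommRing R]
    (G : Over (Spec (CommRingCat.of R⟦X⟧))) [GrpObj G] [IsAffine G.left] [Smooth G.hom]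
    (P : Over (Spec (CommRingCat.of R⟦X⟧))) (a : AlgGrp.Action G P)
    (hP : NonAbH1.IsTorsorFor Scheme.fpqcPrecoverage a) :
    ∃ (R' : Type u) (_ : CommRing R') (_ : Algebra R R'),
      Algebra.Etale R R' ∧ Module.FaithfullyFlat R R' ∧
      NonAbH1.HasSectionOver P (Spec.map (CommRingCat.ofHom (PowerSeries.map (algebraMap R R')))) := by
  haveI hG : IsAffineHom G.hom := inferInstance
  haveI : Smooth P.hom := SchTorsor.torsor_property @Smooth hP ‹_›
  haveI := EtFound.fpqc_isAffineHom.{u}
  haveI : IsAffineHom P.hom := SchTorsor.torsor_property @IsAffineHom hP hG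
  haveI := SchTorsor.surjective_hom hP
  haveI : IsAffine P.left := isAffine_of_isAffineHom P.hom
  let c := Spec.map (CommRingCat.ofHom (constantCoeff (R := R)))
  obtain ⟨R', _, _, het, hff, h, hh⟩ := exists_section_etale_ff (Limits.pullback.snd P.hom c)
  refine ⟨R', inferInstance, inferInstance, het, hff, ?_⟩
  let ρ : R⟦X⟧ →+* R'⟦X⟧ := PowerSeries.map (algebraMap R R')
  letI : Algebra R⟦X⟧ R'⟦X⟧ := ρ.toAlgebra
  let A := Γ(P.left, ⊤)
  obtain ⟨χ, hχ⟩ : ∃ χ, Spec.map χ = P.left.isoSpec.inv ≫ P.hom := ⟨_, Spec.map_preimage _⟩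
  letI : Algebra R⟦X⟧ A := χ.hom.toAlgebra
  haveI : Algebra.FormallySmooth R⟦X⟧ A := by
    have h1 : Smooth (Spec.map χ) := by rw [hχ]; infer_instance
    have h2 := RingHom.smooth_algebraMap.mp ((HasRingHomProperty.Spec_iff (P := @Smooth)).mp h1)
    exact h2.formallySmooth
  let I := RingHom.ker (constantCoeff (R := R'))
  haveI : IsAdicComplete I R'⟦X⟧ := isAdicComplete_ker_constantCoeff R'
  obtain ⟨s, hs⟩ : ∃ s, Spec.map s = h ≫ Limits.pullback.fst P.hom c ≫ P.left.isoSpec.hom := ⟨_, Spec.map_preimage _⟩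
  have hsχ : χ ≫ s = CommRingCat.ofHom ((algebraMap R R').comp constantCoeff) := by
    apply Spec.map_injective
    rw [Spec.map_comp, hs, hχ]
    simp only [Category.assoc, Iso.hom_inv_id_assoc]
    rw [Limits.pullback.condition, reassoc_of% hh, CommRingCat.ofHom_comp, Spec.map_comp]
  let e : R' ≃+* R'⟦X⟧ ⧸ I :=
    (RingHom.quotientKerEquivOfRightInverse (f := constantCoeff (R := R')) (g := PowerSeries.C)
      (fun r => constantCoeff_C r)).symm
  have he : ∀ g : R'⟦X⟧, e (constantCoeff g) = Ideal.Quotient.mk I g := fun g => by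
    apply (RingHom.quotientKerEquivOfRightInverse (f := constantCoeff (R := R')) (g := PowerSeries.C)
      (fun r => constantCoeff_C r)).injective
    simp only [e]
    rfl
  let u : A →ₐ[R⟦X⟧] R'⟦X⟧ ⧸ I :=
    { e.toRingHom.comp s.hom with
      commutes' := fun r => by
        show e ((χ ≫ s) r) = Ideal.Quotient.mk I (ρ r)
        rw [← he (ρ r), hsχ]
        refine congrArg e ?_
        show algebraMap R R' (constantCoeff r) = constantCoeff (PowerSeries.map (algebraMap R R') r)
        rw [← coeff_zero_eq_constantCoeff_apply, ← coeff_zero_eq_constantCoeff_apply, coeff_map] }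
  obtain ⟨v, -⟩ := Algebra.FormallySmooth.exists_mkₐ_comp_eq_of_isAdicComplete u
  refine ⟨Spec.map (CommRingCat.ofHom v.toRingHom) ≫ P.left.isoSpec.inv, ?_⟩
  rw [Category.assoc, ← hχ, ← Spec.map_comp]
  congr 1
  exact CommRingCat.hom_ext (RingHom.ext fun r => v.commutes r)

end Groth.Agent.S19307
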