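import Groth.Statements.S15870
import Groth.Agent.S19307
import Groth.Agent.WeilRes28.Smooth
import Groth.Agent.TorsNorm28.Basic
import Mathlib.RingTheory.Flat.EquationalCriterion
import Mathlib.RingTheory.Finiteness.ModuleFinitePresentation

set_option autoImplicit false
universe u
open CategoryTheory MonoidalCategory CartesianMonoidalCategory MonObj GrpObj AlgebraicGeometry
open NonAbH1

namespace Groth.Agent.S15870

set_option linter.style.haveILetI false
open scoped TensorProduct
open Groth.Agent.WeilRes28

/-- Over a finite locally free algebra, a smooth algebra with surjective spectrum acquires a point after a faithfully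
flat finitely presented extension of the base. -/
theorem exists_weil_cover {B B' : Type u} [CommRing B] [CommRing B'] [Algebra B B'] [Module.Finite B B']
    [Module.Projective B B'] (P : Type u) [CommRing P] [Algebra B' P] [Algebra.Smooth B' P]
    (hP : Function.Surjective (PrimeSpectrum.comap (algebraMap B' P))) :
    ∃ (A : Type u) (_ : CommRing A) (_ : Algebra B A), Algebra.FinitePresentation B A ∧ Module.Flat B A ∧
      Function.Surjective (PrimeSpectrum.comap (algebraMap B A)) ∧ Nonempty (P →ₐ[B'] B' ⊗[B] A) := by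
  obtain ⟨A, _, _, univ, hfp, hu⟩ := exists_isWeilAlg_fp (B := B) (B' := B') P
  haveI := formallySmooth_weil univ hu
  haveI : Algebra.Smooth B A := ⟨inferInstance, hfp⟩
  refine ⟨A, inferInstance, inferInstance, hfp, inferInstance, fun p => ?_, ⟨univ⟩⟩
  obtain ⟨K, _, _, x₀, hx₀⟩ := exists_algClosed_point p
  letI : Algebra B K := x₀.toAlgebra
  obtain ⟨hD, hres⟩ := isArtinianRing_and_residue (B := B) (B' := B') K
  haveI := hD
  have hM : ∀ M : MaximalSpectrum (B' ⊗[B] K), Nonempty (P →ₐ[B'] (B' ⊗[B] K) ⧸ M.asIdeal) := by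
    intro M
    haveI := M.isMaximal
    letI : Field ((B' ⊗[B] K) ⧸ M.asIdeal) := Ideal.Quotient.field _
    obtain ⟨e, -⟩ := hres M
    haveI : IsAlgClosed ((B' ⊗[B] K) ⧸ M.asIdeal) := IsAlgClosed.of_ringEquiv K _ e
    exact nonempty_algHom_of_isAlgClosed hP
  obtain ⟨y, -⟩ := exists_algHom_artinian fun M => (hM M).some
  obtain ⟨a, -⟩ := (hu K).2 y
  refine ⟨⟨RingHom.ker a, RingHom.ker_isPrime a⟩, PrimeSpectrum.ext ?_⟩
  ext t
  show a (algebraMap B A t) = 0 ↔ t ∈ p.asIdeal
  rw [a.commutes, ← hx₀]
  rfl

set_option backward.isDefEq.respectTransparency false in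
/-- Over an affine open of the base, a smooth surjective scheme over a finite locally free cover acquires points after
a flat finitely presented surjective base change. -/
theorem exists_local {B : Type u} [CommRing B] {S S' Y : Scheme.{u}} (π : S' ⟶ S) [IsFinite π] [Flat π]
    [LocallyOfFinitePresentation π] (f : Y ⟶ S') [Smooth f] [Surjective f] (ιV : Spec (CommRingCat.of B) ⟶ S) :
    ∃ (U : Scheme.{u}) (g : U ⟶ Spec (CommRingCat.of B)), Flat g ∧ LocallyOfFinitePresentation g ∧ Surjective g ∧
      ∃ r : Limits.pullback (g ≫ ιV) π ⟶ Y, r ≫ f = Limits.pullback.snd (g ≫ ιV) π := by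
  let W := Limits.pullback π ιV
  let p : W ⟶ Spec (CommRingCat.of B) := Limits.pullback.snd π ιV
  haveI : IsFinite p := inferInstance
  haveI : Flat p := inferInstance
  haveI : LocallyOfFinitePresentation p := inferInstance
  haveI : IsAffine W := isAffine_of_isAffineHom p
  obtain ⟨φ, hφ⟩ : ∃ φ, Spec.map φ = W.isoSpec.inv ≫ p := ⟨_, Spec.map_preimage _⟩
  letI : Algebra B Γ(W, ⊤) := φ.hom.toAlgebra
  haveI : Module.Finite B Γ(W, ⊤) := by
    have h : IsFinite (Spec.map φ) := by rw [hφ]; infer_instance
    exact (IsFinite.SpecMap_iff _).mp h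
  haveI : Module.Flat B Γ(W, ⊤) := by
    have h : Flat (Spec.map φ) := by rw [hφ]; infer_instance
    exact (HasRingHomProperty.Spec_iff (P := @Flat)).mp h
  haveI : Algebra.FinitePresentation B Γ(W, ⊤) := by
    have h : LocallyOfFinitePresentation (Spec.map φ) := by rw [hφ]; infer_instance
    exact (HasRingHomProperty.Spec_iff (P := @LocallyOfFinitePresentation)).mp h
  haveI : Module.FinitePresentation B Γ(W, ⊤) := Module.FinitePresentation.of_finite_of_finitePresentation B _
  haveI : Module.Projective B Γ(W, ⊤) := Module.Flat.projective_of_finitePresentation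
  let j : Spec (CommRingCat.of Γ(W, ⊤)) ⟶ S' := W.isoSpec.inv ≫ Limits.pullback.fst π ιV
  obtain ⟨P, _, _, het, hff, h, hh⟩ := S19307.exists_section_etale_ff (Limits.pullback.snd f j)
  obtain ⟨A, _, _, hfp, hflat, hsurj, ⟨univ⟩⟩ := exists_weil_cover (B := B) (B' := Γ(W, ⊤)) P
    PrimeSpectrum.comap_surjective_of_faithfullyFlat
  let g := Spec.map (CommRingCat.ofHom (algebraMap B A))
  refine ⟨_, g, (HasRingHomProperty.Spec_iff (P := @Flat)).mpr (RingHom.flat_algebraMap_iff.mpr hflat),
    (HasRingHomProperty.Spec_iff (P := @LocallyOfFinitePresentation)).mpr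
      (RingHom.finitePresentation_algebraMap.mpr hfp), ⟨hsurj⟩, ?_⟩
  let q : Limits.pullback (g ≫ ιV) π ⟶ Spec (CommRingCat.of Γ(W, ⊤)) :=
    Limits.pullback.lift (Limits.pullback.snd (g ≫ ιV) π) (Limits.pullback.fst (g ≫ ιV) π ≫ g)
      (by rw [Category.assoc, ← Limits.pullback.condition]) ≫ W.isoSpec.hom
  have hqj : q ≫ j = Limits.pullback.snd (g ≫ ιV) π := by
    simp only [q, j, Category.assoc, Iso.hom_inv_id_assoc, Limits.pullback.lift_fst]
  have hqB : q ≫ Spec.map (CommRingCat.ofHom (algebraMap B Γ(W, ⊤))) = Limits.pullback.fst (g ≫ ιV) π ≫ g := by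
    rw [show CommRingCat.ofHom (algebraMap B Γ(W, ⊤)) = φ from rfl, hφ]
    simp only [q, p, Category.assoc, Iso.hom_inv_id_assoc, Limits.pullback.lift_snd]
  let t := Limits.pullback.lift q (Limits.pullback.fst (g ≫ ιV) π) hqB ≫ (pullbackSpecIso B Γ(W, ⊤) A).hom
  have ht : t ≫ Spec.map (CommRingCat.ofHom (Algebra.TensorProduct.includeLeftRingHom (R := B) (A := Γ(W, ⊤)) (B := A))) = q := by
    simp only [t, Category.assoc]
    erw [pullbackSpecIso_hom_fst, Limits.pullback.lift_fst]
  refine ⟨t ≫ Spec.map (CommRingCat.ofHom univ.toRingHom) ≫ h ≫ Limits.pullback.fst f j, ?_⟩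
  simp only [Category.assoc]
  rw [Limits.pullback.condition, reassoc_of% hh, ← Spec.map_comp_assoc, ← CommRingCat.ofHom_comp,
    show univ.toRingHom.comp (algebraMap Γ(W, ⊤) P) = Algebra.TensorProduct.includeLeftRingHom from
      RingHom.ext fun c => univ.commutes c, reassoc_of% ht, hqj]

set_option backward.isDefEq.respectTransparency false in
/-- Let π : S' → S be finite locally free (finite, flat, locally of finite presentation), G a smooth
S'-group scheme and E an fppf G-torsor over S'. Then E trivializes fppf locally on S: some fppf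
covering family of S consists of morphisms U → S such that E has a section over U ×_S S' → S'. (The
published statement is for a variable S-scheme T, torsors over S' ×_S T and G a group algebraic
space; this row is the case T = S with G a scheme, to which the general case reduces by base change
of π.) -/
theorem result
    {S S' : Scheme.{u}} (π : S' ⟶ S) [IsFinite π] [Flat π] [LocallyOfFinitePresentation π]
    (G : Over S') [GrpObj G] [Smooth G.hom]
    (E : NonAbH1.TorsorSch G Scheme.fppfPrecoverage) :
    ∃ R ∈ Scheme.fppfPrecoverage S, ∀ ⦃U : Scheme.{u}⦄ (g : U ⟶ S), R g →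
      NonAbH1.HasSectionOver E.X (Limits.pullback.snd g π) := by
  haveI : Smooth E.X.hom := SchTorsor.torsor_property @Smooth (TorsNorm28.toFpqc E.isTorsor) ‹_›
  haveI := SchTorsor.surjective_hom (TorsNorm28.toFpqc E.isTorsor)
  choose U g hfl hfp hsurj r hr using fun V : S.affineOpens => exists_local π E.X.hom V.2.fromSpec
  refine ⟨Presieve.ofArrows U fun V => g V ≫ V.2.fromSpec, ?_, fun _ _ hf => ?_⟩
  · refine (Scheme.ofArrows_mem_precoverage_iff _).mpr ⟨fun x => ?_, fun V => ?_⟩
    · obtain ⟨V, hV, hxV, -⟩ := exists_isAffineOpen_mem_and_subset (X := S) (x := x) (U := ⊤) trivial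
      obtain ⟨y, hy⟩ := hV.range_fromSpec.ge hxV
      obtain ⟨z, hz⟩ := (hsurj ⟨V, hV⟩).surj y
      exact ⟨⟨V, hV⟩, z, by rw [Scheme.Hom.comp_apply, hz, hy]⟩
    · haveI := hfl V
      haveI := hfp V
      exact ⟨inferInstance, inferInstance⟩
  · obtain ⟨V⟩ := hf
    exact ⟨r V, hr V⟩

end Groth.Agent.S15870
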