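import Groth.Statements.S15874
import Groth.Agent.TorsNorm28.EtaleTorsor
import Groth.Agent.TorsNorm28.Classes

set_option autoImplicit false
universe u
open CategoryTheory MonoidalCategory CartesianMonoidalCategory MonObj GrpObj AlgebraicGeometry
open NonAbH1

namespace Groth.Agent.S15874

/-- Let G be an étale k-group scheme and S a normal integral k-scheme with generic point η. Then an fppf
torsor over S under G whose base change to Spec κ(η) is trivial is itself trivial: the kernel of
H¹(S, G) → H¹(κ(η), G) on classes of torsors that are schemes is the base point. (The published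
statement takes S merely integral; the connected étale double cover of a nodal cubic over an
algebraically closed field is a non-trivial torsor under the constant group of order 2 that is
trivial at the generic point, so S is taken normal here, which is what the published proof uses.) -/
theorem result (k : Type u) [Field k]
    (G : Over (Spec (CommRingCat.of k))) [GrpObj G] [Etale G.hom]
    (S : Scheme.{u}) [IsIntegral S] (hS : Pi1.IsNormalScheme S) (s : S ⟶ Spec (CommRingCat.of k))
    (c : NonAbH1.H1Sch (Red.bc s G) Scheme.fppfPrecoverage)
    (hc : NonAbH1.H1Sch.bcMap (S.fromSpecResidueField (genericPoint S)) (Red.bc s G) Scheme.fppfPrecoverage c = 1) :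
    c = 1 := by
  obtain ⟨E, rfl⟩ := Quot.exists_rep c
  obtain ⟨x, hx⟩ := Groth.Agent.TorsNorm28.hasSection_of_cl_eq_one (P := E.bc _) hc
  let gp := S.fromSpecResidueField (genericPoint S)
  have hx1 : (x : Spec (S.residueField (genericPoint S)) ⟶ Limits.pullback E.X.hom gp) ≫
      Limits.pullback.snd E.X.hom gp = 𝟙 _ := hx
  obtain ⟨σ, hσ, -⟩ := Groth.Agent.TorsNorm28.exists_section hS E
    ((x : Spec (S.residueField (genericPoint S)) ⟶ Limits.pullback E.X.hom gp) ≫ Limits.pullback.fst E.X.hom gp) (by
    refine (Category.assoc _ _ _).trans ((congrArg (CategoryStruct.comp _) Limits.pullback.condition).trans ?_)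
    exact (Category.assoc _ _ _).symm.trans ((congrArg (fun q => q ≫ gp) hx1).trans (Category.id_comp _)))
  exact Groth.Agent.TorsNorm28.cl_eq_one_of_hasSection ⟨σ, hσ⟩

end Groth.Agent.S15874
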