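import Groth.Statements.S1588
import Groth.Agent.NodeAlg15.Geom

set_option autoImplicit false
set_option backward.isDefEq.respectTransparency false
set_option backward.isDefEq.respectTransparency.types false
universe u
open CategoryTheory CategoryTheory.Limits AlgebraicGeometry
open Curves

namespace Groth.Agent.S1588

/-- Let K be a field extension of k, X locally of finite type over k of dimension one, and y a point of
X_K with image x in X. Then x is a node of X (in particular closed) if and only if y is a node of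
X_K. -/
theorem result (k : Type u) [Field k] (X : Scheme.{u}) [X.Over (Spec (CommRingCat.of k))] [LocallyOfFiniteType (X ↘ (Spec (CommRingCat.of k)))]
    (hdim : topologicalKrullDim X = 1) (K : Type u) [Field K] [Algebra k K] (y : Curv2.bc k X K) :
    Curv2.IsNode k X (Curv2.bcFst k X K y) ↔ @Curv2.IsNode K _ (Curv2.bc k X K) ⟨Curv2.bcSnd k X K⟩ y := by
  haveI : LocallyOfFiniteType (Curv2.bcSnd k X K) := MorphismProperty.pullback_snd _ _ ‹_›
  constructor
  · intro h
    exact Groth.Agent.CStk17.NodeSch.isNodeOf_bc (X ↘ Spec (CommRingCat.of k)) (algebraMap k K)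
      (Curv2.bcFst k X K) (Curv2.bcSnd k X K) (IsPullback.of_hasPullback _ _)
      (Groth.Agent.NodeAlg15.Geom.isClosed_of_bcFst h.1) h
  · rintro ⟨hy, yb, hyb, hodp⟩
    let p := X ↘ Spec (CommRingCat.of k)
    let j := Spec.map (CommRingCat.ofHom (algebraMap k K))
    let j' := Spec.map (CommRingCat.ofHom (algebraMap K (AlgebraicClosure K)))
    letI : (Curv2.bc k X K).Over (Spec (CommRingCat.of K)) := ⟨Curv2.bcSnd k X K⟩
    haveI : LocallyOfFiniteType ((Curv2.bc k X K) ↘ Spec (CommRingCat.of K)) :=
      inferInstanceAs <| LocallyOfFiniteType (Curv2.bcSnd k X K)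
    haveI : LocallyOfFiniteType (pullback.snd (pullback.snd p j) j') :=
      MorphismProperty.pullback_snd _ _ ‹LocallyOfFiniteType (Curv2.bcSnd k X K)›
    have hcomp : j' ≫ j = Spec.map (CommRingCat.ofHom (algebraMap k (AlgebraicClosure K))) := by
      rw [← Spec.map_comp, ← CommRingCat.ofHom_comp, ← IsScalarTower.algebraMap_eq]
    let φ : pullback (pullback.snd p j) j' ≅ Curv2.bc k X (AlgebraicClosure K) :=
      pullbackLeftPullbackSndIso p j j' ≪≫ pullback.congrHom rfl hcomp
    have hfst : φ.hom ≫ Curv2.bcFst k X (AlgebraicClosure K) =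
        pullback.fst (pullback.snd p j) j' ≫ pullback.fst p j := by
      simp [φ, p]
    have hc : IsClosed ({yb} : Set ↥(pullback (pullback.snd p j) j')) :=
      Groth.Agent.NodeAlg15.Geom.isClosed_of_bcFst (k := K) (X := Curv2.bc k X K) (hyb ▸ hy)
    have hq : NodeAlg15.IsQuadNode ((pullback (pullback.snd p j) j').presheaf.stalk yb) :=
      Groth.Agent.NodeAlg15.Geom.isQuadNode_of_isODPAt (q := pullback.snd (pullback.snd p j) j') hodp
    haveI : LocallyOfFiniteType (Curv2.bcSnd k X (AlgebraicClosure K)) := MorphismProperty.pullback_snd _ _ ‹_›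
    haveI : IsLocallyNoetherian (Curv2.bc k X (AlgebraicClosure K)) :=
      LocallyOfFiniteType.isLocallyNoetherian (Curv2.bcSnd k X (AlgebraicClosure K))
    haveI : IsLocallyNoetherian (pullback (pullback.snd p j) j') :=
      LocallyOfFiniteType.isLocallyNoetherian (pullback.snd (pullback.snd p j) j')
    have hz : IsClosed ({φ.hom yb} : Set ↥(Curv2.bc k X (AlgebraicClosure K))) := by
      have := φ.hom.homeomorph.isClosedMap _ hc
      rwa [Set.image_singleton] at this
    obtain ⟨h1, h2, h3⟩ := Groth.Agent.NodeAlg15.Geom.of_bc_isQuadNode (z := φ.hom yb) hz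
      (NodeAlg15.isQuadNode_of_ringEquiv (asIso (φ.hom.stalkMap yb)).commRingCatIsoToRingEquiv.symm hq)
    have hx : Curv2.bcFst k X (AlgebraicClosure K) (φ.hom yb) = Curv2.bcFst k X K y := by
      rw [← Scheme.Hom.comp_apply, hfst, Scheme.Hom.comp_apply]
      exact congrArg _ hyb
    rw [← hx]
    exact (Groth.Agent.NodeAlg15.Geom.isNode_iff _).2 ⟨h1, h2, h3⟩

end Groth.Agent.S1588
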