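import Groth.Statements.S1589
import Groth.Agent.NodeAlg15.Geom
import Groth.Agent.CStk17.NodeFacts
import Groth.Agent.CStk17.FibNode
import Groth.Agent.GeomField.Reduced
import Groth.Agent.SmoothReg.Scheme
import Groth.Agent.CplFib6.PS
import Groth.Agent.S0341
import Groth.Agent.S0342
import Groth.Agent.S0343
import Groth.Agent.S0344
import Groth.Agent.CurvLocusLib.LocP

set_option autoImplicit false
set_option backward.isDefEq.respectTransparency false
set_option backward.isDefEq.respectTransparency.types false
set_option linter.style.haveILetI false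
universe u
open CategoryTheory CategoryTheory.Limits AlgebraicGeometry
open Curves

namespace Groth.Agent.S1589

open IsLocalRing NodeAlg15

/-- A quadratic node with separable residue field is Gorenstein. -/
theorem gor_of_isQuadNode {k : Type u} [Field k] {A : Type u} [CommRing A] [IsLocalRing A] [IsNoetherianRing A]
    [Algebra k A] [Algebra.IsSeparable k (ResidueField A)] (h : IsQuadNode A) :
    LocCoh.IsGorensteinLocalRing A := by
  obtain ⟨a, b, c, hd, e, -⟩ := Geom.exists_completion_equiv_of_isQuadNode (k := k) h
  let C := AdicCompletion (maximalIdeal A) A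
  haveI : IsNoetherianRing C := LC.Canon.isNoetherianRing_completion (R := A)
  haveI : IsLocalHom (algebraMap A C) := ⟨fun s hs => by
    by_contra hn
    exact (mem_maximalIdeal _).1 (algebraMap_mem_max ((mem_maximalIdeal s).2 hn)) hs⟩
  haveI : Module.Flat A C := AdicCompletion.flat_of_isNoetherian _
  haveI := CplFib6.isRegularLocalRing_mvPowerSeries (ResidueField A) 2
  haveI := (ufd_ps (K := ResidueField A)).1
  haveI := S0342.result (MvPowerSeries (Fin 2) (ResidueField A))
  have hq0 := quadPS_ne_zero hd
  have hmem : quadPS a b c ∈ maximalIdeal (MvPowerSeries (Fin 2) (ResidueField A)) := by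
    rw [maximalIdeal_eq_vars]
    exact Ideal.pow_le_self two_ne_zero (quadPS_mem a b c)
  have hG : LocCoh.IsGorensteinLocalRing (MvPowerSeries (Fin 2) (ResidueField A) ⧸ Ideal.span {quadPS a b c}) :=
    (S0343.result _ _ hmem (IsSMulRegular.of_ne_zero hq0)).1 inferInstance
  exact ((S0344.result A C).1 (CurvLocusLib.gor_of_equiv e.symm hG)).1

/-- Let X be locally of finite type over k with all irreducible components of dimension one and
at-worst-nodal singularities. Then every local ring of X is Gorenstein and X is geometrically
reduced over k. -/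
theorem result (k : Type u) [Field k] (X : Scheme.{u}) [X.Over (Spec (CommRingCat.of k))] [LocallyOfFiniteType (X ↘ (Spec (CommRingCat.of k)))]
    (hequi : ∀ Z ∈ irreducibleComponents (X : Type u), topologicalKrullDim Z = 1) (hX : Curv2.AtWorstNodal k X) :
    (∀ x : X, LocCoh.IsGorensteinLocalRing (X.presheaf.stalk x)) ∧ GeometricallyReduced (X ↘ (Spec (CommRingCat.of k))) := by
  let p := X ↘ Spec (CommRingCat.of k)
  haveI : LocallyOfFinitePresentation p := inferInstance
  haveI : IsLocallyNoetherian X := LocallyOfFiniteType.isLocallyNoetherian p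
  constructor
  · intro x
    rcases CStk17.NodeSch.smooth_or_isNodeOf p (CStk17.FibNode.dim_le_of_components hequi) hX x with h | h
    · haveI := SmoothReg.isRegularLocalRing_stalk_of_mem_smoothLocus p h
      exact S0342.result (X.presheaf.stalk x)
    · obtain ⟨-, hs, hq⟩ := (Geom.isNode_iff (k := k) x).1 h
      letI := Curv2.stalkAlgebra k X x
      haveI := hs
      exact gor_of_isQuadNode (k := k) hq
  · rw [GeomField.geometricallyReduced_iff]
    intro x
    obtain ⟨xb, rfl⟩ := (pullback.fst p (CurvLocusLib.closPt k)).surjective x
    haveI := CStk17.NodeSch.isReduced_geom p hX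
    refine (GeomField.isGeomReducedAt_bc_iff p (AlgebraicClosure k) xb).2 ?_
    letI : (pullback p (CurvLocusLib.closPt k)).Over (Spec (CommRingCat.of (AlgebraicClosure k))) :=
      ⟨pullback.snd p (CurvLocusLib.closPt k)⟩
    exact GeomField.isGeomReducedAt_of_perfect (k := AlgebraicClosure k) (X := pullback p (CurvLocusLib.closPt k)) xb

end Groth.Agent.S1589
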