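import Groth.Statements.S1590
import Groth.Agent.NodeAlg15.Branch
import Groth.Agent.CStk17.NodeFacts
import Groth.Agent.CStk17.FibNode
import Groth.Agent.SchTop.Closed
import Groth.Agent.SmoothReg.Scheme
import Groth.Agent.CStk17.PtConds
import Groth.Agent.GeomField.Reduced
import Groth.Agent.RegLoc6.Basic

set_option backward.isDefEq.respectTransparency false
set_option backward.isDefEq.respectTransparency.types false
set_option linter.style.haveILetI false

set_option autoImplicit false
universe u
open CategoryTheory CategoryTheory.Limits AlgebraicGeometry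
open Curves

namespace Groth.Agent.S1590

open IsLocalRing NodeAlg15

theorem exists_smooth_open {Y S : Scheme.{u}} (q : Y ⟶ S) [LocallyOfFinitePresentation q] (y : Y)
    (h : CStk17.PtConds.SmoothAt q y) : ∃ U : Y.Opens, y ∈ U ∧ Smooth (U.ι ≫ q) := by
  refine ⟨q.smoothLocus, h, ?_⟩
  rw [← Scheme.Hom.smoothLocus_eq_top_iff, ← Scheme.Hom.preimage_smoothLocus_eq]
  exact Scheme.Opens.ι_preimage_self _

/-- Let X be locally of finite type over k, with all irreducible components of dimension one and
at-worst-nodal singularities. A reduced closed subscheme Y of X all of whose irreducible components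
have dimension one again has at-worst-nodal singularities. -/
theorem result (k : Type u) [Field k] (X : Scheme.{u}) [X.Over (Spec (CommRingCat.of k))] [LocallyOfFiniteType (X ↘ (Spec (CommRingCat.of k)))]
    (hequi : ∀ Z ∈ irreducibleComponents (X : Type u), topologicalKrullDim Z = 1) (hX : Curv2.AtWorstNodal k X)
    (I : X.IdealSheafData) [IsReduced I.subscheme]
    (hY : ∀ Z ∈ irreducibleComponents (I.subscheme : Type u), topologicalKrullDim Z = 1) :
    @Curv2.AtWorstNodal k _ I.subscheme ⟨I.subschemeι ≫ (X ↘ (Spec (CommRingCat.of k)))⟩ := by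
  let p := X ↘ Spec (CommRingCat.of k)
  let ι := I.subschemeι
  let q := ι ≫ p
  haveI : IsLocallyNoetherian X := LocallyOfFiniteType.isLocallyNoetherian p
  haveI : LocallyOfFiniteType q := inferInstance
  haveI : IsLocallyNoetherian I.subscheme := LocallyOfFiniteType.isLocallyNoetherian q
  haveI : LocallyOfFinitePresentation p := inferInstance
  haveI : LocallyOfFinitePresentation q := inferInstance
  letI : I.subscheme.Over (Spec (CommRingCat.of k)) := ⟨q⟩
  haveI : LocallyOfFiniteType (I.subscheme ↘ Spec (CommRingCat.of k)) := inferInstanceAs <| LocallyOfFiniteType q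
  show Curv2.AtWorstNodal k I.subscheme
  intro y hy
  haveI : JacobsonSpace X := LocallyOfFiniteType.jacobsonSpace p
  have hdim := CStk17.FibNode.dim_le_of_components hequi
  have hx : IsClosed ({ι y} : Set X) := ι.closePoints_subset_preimage_closedPoints hy
  letI := Curv2.stalkAlgebra k X (ι y)
  letI := Curv2.stalkAlgebra k I.subscheme y
  let A := X.presheaf.stalk (ι y)
  let B := I.subscheme.presheaf.stalk y
  let π : A →+* B := (ι.stalkMap y).hom
  have hπ : Function.Surjective π := ι.stalkMap_surjective y
  haveI : _root_.IsReduced B := inferInstance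
  have hrad : (RingHom.ker π).IsRadical := fun a ha => by
    obtain ⟨n, hn⟩ := ha
    exact RingHom.mem_ker.2 (IsReduced.eq_zero _ ⟨n, by rw [← map_pow]; exact hn⟩)
  -- primes of the local ring of `X`
  have hmin : ∀ P : Ideal A, P.IsPrime → P ≠ maximalIdeal A → P ∈ minimalPrimes A := by
    intro P hP hne
    by_contra hn
    obtain ⟨P', hP', hlt⟩ : ∃ P' : Ideal A, P'.IsPrime ∧ P' < P := by
      obtain ⟨P', hP', hle⟩ := Ideal.exists_minimalPrimes_le (bot_le : (⊥ : Ideal A) ≤ P)
      exact ⟨P', hP'.1.1, lt_of_le_of_ne hle fun h => hn (h ▸ hP')⟩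
    let s : LTSeries (PrimeSpectrum A) :=
      RelSeries.cons ((RelSeries.singleton _ (⟨maximalIdeal A, inferInstance⟩ : PrimeSpectrum A)).cons ⟨P, hP⟩
        (lt_of_le_of_ne (le_maximalIdeal hP.ne_top) hne)) ⟨P', hP'⟩ (by simp only [RelSeries.head_cons]; exact hlt)
    have h2 : (2 : WithBot ℕ∞) ≤ ringKrullDim A := by
      refine le_trans (le_of_eq ?_) (Order.LTSeries.length_le_krullDim s)
      simp only [s, RelSeries.cons_length, RelSeries.singleton_length]
      norm_num
    have h3 := h2.trans ((SchTop.ringKrullDim_stalk_le (ι y)).trans hdim)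
    exact absurd h3 (by norm_num)
  -- the subscheme has a generization at the point
  obtain ⟨y', hy', hne'⟩ : ∃ y', y' ⤳ y ∧ y' ≠ y := by
    by_contra! hall
    have hd := hY _ (GeomField.genericPoint_of_maximal hall)
    rw [hy.closure_eq] at hd
    have : topologicalKrullDim ({y} : Set I.subscheme) ≤ 0 := Order.krullDim_nonpos_iff_forall_isMin.2 fun a b _ => by
      intro z hz
      obtain ⟨w, hw⟩ := b.isIrreducible.nonempty
      rwa [Subsingleton.elim z w]
    rw [hd] at this
    exact absurd this (by norm_num)
  obtain ⟨Q, hQ⟩ : y' ∈ Set.range (I.subscheme.fromSpecStalk y) := by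
    rw [Scheme.range_fromSpecStalk]; exact hy'
  have hQm : (PrimeSpectrum.asIdeal (R := B) Q).comap π ≠ maximalIdeal A := fun h => by
    refine hne' ?_
    have hQ' : Q = closedPoint B := PrimeSpectrum.ext (Ideal.comap_injective_of_surjective π hπ (by
      rw [h, show (closedPoint B).asIdeal = maximalIdeal B from rfl]
      haveI : IsLocalHom π := inferInstanceAs <| IsLocalHom (ι.stalkMap y).hom
      exact (IsLocalRing.maximalIdeal_comap π).symm))
    rw [← hQ, hQ']
    exact Scheme.fromSpecStalk_closedPoint
  have hIQ : RingHom.ker π ≤ (PrimeSpectrum.asIdeal (R := B) Q).comap π := Ideal.ker_le_comap π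
  haveI hQp : (PrimeSpectrum.asIdeal (R := B) Q).IsPrime := Q.2
  haveI : ((PrimeSpectrum.asIdeal (R := B) Q).comap π).IsPrime := Ideal.IsPrime.comap π
  have hsm : CStk17.PtConds.SmoothAt q y → ∃ U : I.subscheme.Opens, y ∈ U ∧ Smooth (U.ι ≫ q) :=
    exists_smooth_open q y
  rcases CStk17.NodeSch.smooth_or_isNodeOf p hdim hX (ι y) with h | h
  · -- a smooth point
    refine Or.inl (hsm ?_)
    haveI := SmoothReg.isRegularLocalRing_stalk_of_mem_smoothLocus p h
    haveI : IsDomain A := RegLoc6.isDomain_of_isRegularLocalRing A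
    have hker : RingHom.ker π = ⊥ := le_bot_iff.1 (hIQ.trans
      ((hmin _ inferInstance hQm).2 ⟨Ideal.isPrime_bot, le_rfl⟩ bot_le))
    show ((ι ≫ p).stalkMap y).hom.FormallySmooth
    rw [Scheme.Hom.stalkMap_comp, CommRingCat.hom_comp]
    exact RingHom.FormallySmooth.stableUnderComposition _ _ h
      (RingHom.FormallySmooth.of_bijective ⟨(RingHom.injective_iff_ker_eq_bot π).2 hker, hπ⟩)
  · obtain ⟨-, hs, hA⟩ := (Geom.isNode_iff (k := k) (ι y)).1 h
    haveI := hs
    letI : Algebra A B := π.toAlgebra
    haveI : IsLocalHom (algebraMap A B) := inferInstanceAs <| IsLocalHom (ι.stalkMap y).hom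
    haveI : IsScalarTower k A B := IsScalarTower.of_algebraMap_eq' (CStk17.SchPt.sMap_comp p ι y).symm
    haveI : IsScalarTower k (ResidueField A) (ResidueField B) := IsScalarTower.of_algebraMap_eq fun t => by
      show residue _ (algebraMap k B t) = ResidueField.map _ (residue _ (algebraMap k A t))
      rw [ResidueField.map_residue, ← IsScalarTower.algebraMap_apply]
    have hsurjres : Function.Surjective (algebraMap (ResidueField A) (ResidueField B)) := fun w => by
      obtain ⟨b, rfl⟩ := residue_surjective w
      obtain ⟨a, rfl⟩ := hπ b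
      exact ⟨residue A a, ResidueField.map_residue _ a⟩
    have hsepB : Algebra.IsSeparable k (ResidueField B) :=
      AlgEquiv.Algebra.isSeparable (AlgEquiv.ofBijective (IsScalarTower.toAlgHom k (ResidueField A) (ResidueField B))
        ⟨RingHom.injective _, hsurjres⟩)
    by_cases hker : RingHom.ker π = ⊥
    · exact Or.inr ((Geom.isNode_iff (k := k) y).2 ⟨hy, hsepB,
        isQuadNode_of_ringEquiv (RingEquiv.ofBijective π ⟨(RingHom.injective_iff_ker_eq_bot π).2 hker, hπ⟩) hA⟩)
    · refine Or.inl (hsm ?_)
      haveI := Branch.isRegularLocalRing_quotient (k := k) hA hmin hrad hker hIQ hQm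
      have hB : IsRegularLocalRing B :=
        IsRegularLocalRing.of_ringEquiv (RingHom.quotientKerEquivOfSurjective hπ)
      letI := Curv2.resAlgebra k I.subscheme y
      haveI := (Geom.isSeparable_res_iff k I.subscheme y).2 hsepB
      exact SmoothReg.mem_smoothLocus_of_isSeparable q y (fun _ => rfl) hB

end Groth.Agent.S1590
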