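import Groth.Statements.S1591
import Groth.Agent.CStk17.NodeOpen.PtCond

set_option autoImplicit false
universe u
open CategoryTheory CategoryTheory.Limits AlgebraicGeometry
open Curves

namespace Groth.Agent.S1591

set_option backward.isDefEq.respectTransparency false
set_option backward.isDefEq.respectTransparency.types false

/-- Let f : X → S be flat and locally of finite presentation. There is a largest open subscheme U of X
on which f is at-worst-nodal of relative dimension one, and its formation commutes with base change: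
for every g : S' → S the preimage of U in X ×_S S' is the largest open on which the base change of f
is at-worst-nodal of relative dimension one. -/
theorem result {X S : Scheme.{u}} (f : X ⟶ S) [Flat f] [LocallyOfFinitePresentation f] :
    ∃ U : X.Opens, (Curv2.IsNodalFamily (U.ι ≫ f) ∧ ∀ V : X.Opens, Curv2.IsNodalFamily (V.ι ≫ f) → V ≤ U) ∧
      ∀ (S' : Scheme.{u}) (g : S' ⟶ S),
        Curv2.IsNodalFamily ((pullback.fst f g ⁻¹ᵁ U).ι ≫ pullback.snd f g) ∧
        ∀ V : (pullback f g).Opens, Curv2.IsNodalFamily (V.ι ≫ pullback.snd f g) → V ≤ pullback.fst f g ⁻¹ᵁ U := by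
  have hP := Groth.Agent.CStk17.NodeOpen.isPtCond_nodalAt.{u}
  have key : ∀ {X S : Scheme.{u}} (f : X ⟶ S) [Flat f] [LocallyOfFinitePresentation f],
      Curv2.IsNodalFamily (Scheme.Opens.ι (X := X) ⟨_, hP.isOpen f⟩ ≫ f) ∧
        ∀ V : X.Opens, Curv2.IsNodalFamily (V.ι ≫ f) → V ≤ (⟨_, hP.isOpen f⟩ : X.Opens) := fun f _ _ =>
    ⟨(Groth.Agent.CStk17.NodeOpen.isNodalFamily_iff_forall _).2 fun u =>
        (hP.precomp _ f u).2 u.2,
      fun V hV x hx => (hP.precomp V.ι f ⟨x, hx⟩).1
        ((Groth.Agent.CStk17.NodeOpen.isNodalFamily_iff_forall _).1 hV ⟨x, hx⟩)⟩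
  refine ⟨⟨_, hP.isOpen f⟩, key f, fun S' g => ?_⟩
  have h : pullback.fst f g ⁻¹ᵁ (⟨_, hP.isOpen f⟩ : X.Opens) =
      (⟨_, hP.isOpen (pullback.snd f g)⟩ : (pullback f g).Opens) :=
    TopologicalSpace.Opens.ext (Set.ext fun x' =>
      (hP.baseChange f g _ _ (IsPullback.of_hasPullback f g) x').symm)
  rw [h]
  exact key (pullback.snd f g)

end Groth.Agent.S1591
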