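import Groth.Statements.S15914
import Groth.Agent.SurfInt.Adj.Apps

set_option autoImplicit false
set_option linter.style.haveILetI false
set_option linter.unusedSectionVars false
set_option backward.isDefEq.respectTransparency false
set_option backward.isDefEq.respectTransparency.types false
universe u
open CategoryTheory CategoryTheory.Limits AlgebraicGeometry TopologicalSpace
open Surf

namespace Groth.Agent.S15914

/-- Let k be an algebraically closed field of characteristic zero and X a smooth surface over k
(integral, proper and smooth over k of dimension 2) with canonical module W, a second exterior power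
of Ω_{X/k}; intersection numbers of invertible modules are (L·M) = χ(O_X) − χ(L) − χ(M) + χ(L ⊗ M),
so that for a closed subscheme C with ideal I_C one has C·C = (I_C·I_C) and K·C = −(I_C·W). If C ⊆ X
is an integral closed one-dimensional subscheme with K·C = −1, that is (I_C·W) = 1, then C·C is odd
and C·C ≥ −1. -/
theorem result (k : Type u) [Field k] [IsAlgClosed k]
    [CharZero k] (X : Scheme.{u}) [X.Over (Spec (CommRingCat.of k))] [IsIntegral X] [IsProper (X ↘ (Spec (CommRingCat.of k)))] [Smooth (X ↘ (Spec (CommRingCat.of k)))]
    (hdim : topologicalKrullDim X = 2)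
    (W : X.Modules) (hW : ExtPow.IsExtPow 2 (Omega.sheaf (X ↘ (Spec (CommRingCat.of k)))) W)
    (C : X.IdealSheafData) (hC : IsIntegral C.subscheme) (hC1 : topologicalKrullDim (C.support : Set X) = 1)
    (hdeg : FGA.intNum k X 2 ![ClSub.idealMod C, W] (Coh.structureModule X) = 1) :
    Odd (FGA.intNum k X 2 ![ClSub.idealMod C, ClSub.idealMod C] (Coh.structureModule X)) ∧
      -1 ≤ FGA.intNum k X 2 ![ClSub.idealMod C, ClSub.idealMod C] (Coh.structureModule X) := by
  open Groth.Agent in
  haveI := hC
  have hreg := SurfInt.isRegular_of_smooth k (X := X)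
  have hWi := SurfInt.Adj.isInvertible_canonical k hdim hreg hW
  have hI := SurfInt.isInvertible_curve k hdim hreg C hC1
  letI := SurfInt.overComp k C.subschemeι
  have hadj := SurfInt.Adj.degOn_curve k hdim hreg hW C hC1
  have e1 := SurfInt.dot_ideal_left k hdim.le C hI hI
  have e2 := SurfInt.dot_ideal_left k hdim.le C hI hWi
  change SurfInt.dot k (ClSub.idealMod C) W = 1 at hdeg
  have key : SurfInt.dot k (ClSub.idealMod C) (ClSub.idealMod C) = 2 * (Curv2.genus k C.subscheme : ℤ) - 1 := by
    omega
  exact ⟨⟨(Curv2.genus k C.subscheme : ℤ) - 1, key.trans (by ring)⟩, key.trans_ge (by omega)⟩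

end Groth.Agent.S15914
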