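import Groth.Statements.S1593
import Groth.Agent.NodeAlg15.Fam
import Groth.Agent.SrcDescent.SmoothFppf

set_option backward.isDefEq.respectTransparency false
set_option backward.isDefEq.respectTransparency.types false

set_option autoImplicit false
universe u
open CategoryTheory CategoryTheory.Limits AlgebraicGeometry
open Curves

namespace Groth.Agent.S1593

/-- Being an at-worst-nodal family of curves is étale local on the source: let f : X → S be a morphism
and g_i : U_i → X a jointly surjective family of étale morphisms. If every composite g_i ≫ f is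
at-worst-nodal of relative dimension one, then so is f. -/
theorem result {X S : Scheme.{u}} (f : X ⟶ S) (ι : Type u) (U : ι → Scheme.{u})
    (g : ∀ i, U i ⟶ X) [∀ i, Etale (g i)] (hsurj : ∀ x : X, ∃ i, x ∈ Set.range (g i).base)
    (h : ∀ i, Curv2.IsNodalFamily (g i ≫ f)) : Curv2.IsNodalFamily f := by
  haveI : ∀ i, Flat (g i ≫ f) := fun i => (h i).1
  haveI : ∀ i, LocallyOfFinitePresentation (g i ≫ f) := fun i => (h i).2.1
  let G := Sigma.desc g
  haveI : Flat G := IsZariskiLocalAtSource.sigmaDesc fun _ => inferInstance
  haveI : LocallyOfFinitePresentation G := IsZariskiLocalAtSource.sigmaDesc fun _ => inferInstance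
  haveI : Surjective G := ⟨fun x => by
    obtain ⟨i, u, hu⟩ := hsurj x
    exact ⟨Sigma.ι U i u, by rw [← Scheme.Hom.comp_apply, Sigma.ι_desc]; exact hu⟩⟩
  have hG : G ≫ f = Sigma.desc fun i => g i ≫ f := Sigma.hom_ext _ _ fun i => by simp [G]
  haveI : Flat (G ≫ f) := by rw [hG]; exact IsZariskiLocalAtSource.sigmaDesc fun _ => inferInstance
  haveI : LocallyOfFinitePresentation (G ≫ f) := by
    rw [hG]; exact IsZariskiLocalAtSource.sigmaDesc fun _ => inferInstance
  haveI : LocallyOfFinitePresentation f := Groth.Agent.SrcDescent.locallyOfFinitePresentation_of_fppf_comp G f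
  exact ⟨Groth.Agent.SrcDescent.flat_of_fppf_comp G f, ‹_›, fun s =>
    Groth.Agent.NodeAlg15.Fam.isNodalCurve_fiber_of_cover f g hsurj s fun i => (h i).2.2 s⟩

end Groth.Agent.S1593
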