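import Groth.Statements.S15939
import Mathlib
-- import your own Groth.Agent.* helpers here

set_option autoImplicit false
universe u
open CAlg

namespace Groth.Agent.S15939

open Polynomial in
/-- Let κ be a field and A a commutative κ-algebra whose only κ-subalgebras are the image of κ and A
itself, these two being different. Then A is finite-dimensional over κ, and A is isomorphic as a
κ-algebra to the dual numbers over κ, or to κ × κ, or A is a field which is either separable over κ
or isomorphic to κ[X]/(X^p - a) with p the (positive) characteristic of κ and a an element of κ that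
is not a p-th power. (The published statement also records that these four cases exclude one
another; that part is not restated.) -/
theorem result (κ A : Type u) [Field κ] [CommRing A] [Algebra κ A]
    (h : IsSimpleOrder (Subalgebra κ A)) :
    FiniteDimensional κ A ∧
    (Nonempty (A ≃ₐ[κ] DualNumber κ) ∨ Nonempty (A ≃ₐ[κ] (κ × κ)) ∨
      (IsField A ∧ (Algebra.IsSeparable κ A ∨
        ∃ (p : ℕ) (a : κ), p.Prime ∧ CharP κ p ∧ (∀ b : κ, b ^ p ≠ a) ∧
          Nonempty (A ≃ₐ[κ] AdjoinRoot (X ^ p - C a))))) := by
  haveI : Nontrivial A := by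
    by_contra hA
    rw [not_nontrivial_iff_subsingleton] at hA
    obtain ⟨S, T, hne⟩ := h.toNontrivial.exists_pair_ne
    exact hne (SetLike.ext fun x => by
      rw [Subsingleton.elim x 0]; simp [zero_mem])
  have htop : ∀ (S : Subalgebra κ A) (x : A), x ∈ S → x ∉ (⊥ : Subalgebra κ A) → S = ⊤ := fun S x hx hx' =>
    (h.eq_bot_or_eq_top S).resolve_left fun hS => hx' (hS ▸ hx)
  have hinj := (algebraMap κ A).injective
  obtain ⟨a, ha⟩ : ∃ a : A, a ∉ (⊥ : Subalgebra κ A) := by
    by_contra hc
    push Not at hc
    exact bot_ne_top (α := Subalgebra κ A) (top_le_iff.1 fun x _ => hc x)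
  have hgen : Algebra.adjoin κ {a} = ⊤ := htop _ a (Algebra.self_mem_adjoin_singleton κ a) ha
  have halg : IsAlgebraic κ a := by
    by_contra hta
    have hinj' : Function.Injective (aeval a : κ[X] →ₐ[κ] A) := transcendental_iff_injective.1 hta
    rcases h.eq_bot_or_eq_top (Algebra.adjoin κ {a ^ 2}) with h2 | h2
    · obtain ⟨c, hc⟩ : a ^ 2 ∈ (⊥ : Subalgebra κ A) := h2 ▸ Algebra.self_mem_adjoin_singleton κ _
      have := hinj' (a₁ := X ^ 2) (a₂ := C c) (by simp; exact hc.symm)
      simpa using congrArg natDegree this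
    · obtain ⟨q, hq⟩ : a ∈ (aeval (a ^ 2) : κ[X] →ₐ[κ] A).range := by
        rw [← Algebra.adjoin_singleton_eq_range_aeval, h2]; trivial
      have := hinj' (a₁ := expand κ 2 q) (a₂ := X) (by simpa [expand_aeval] using hq)
      have h1 := congrArg natDegree this
      rw [natDegree_expand, natDegree_X] at h1
      omega
  have hint : IsIntegral κ a := halg.isIntegral
  haveI hfin : FiniteDimensional κ A := by
    refine Module.finite_def.2 ?_
    rw [← Algebra.top_toSubmodule, ← hgen]
    exact hint.fg_adjoin_singleton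
  refine ⟨hfin, ?_⟩
  by_cases hred : IsReduced A
  swap
  · left
    obtain ⟨x, hx, hx0⟩ : ∃ x : A, IsNilpotent x ∧ x ≠ 0 := by simpa [isReduced_iff] using hred
    obtain ⟨e, he0, hee⟩ : ∃ e : A, e ≠ 0 ∧ e * e = 0 := by
      classical
      have hs := Nat.find_spec hx
      have h0 : Nat.find hx ≠ 0 := fun h0 => by
        rw [h0, pow_zero] at hs; exact one_ne_zero hs
      have h1 : Nat.find hx ≠ 1 := fun h1 => by
        rw [h1, pow_one] at hs; exact hx0 hs
      refine ⟨x ^ (Nat.find hx - 1), Nat.find_min hx (by omega), ?_⟩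
      rw [← pow_add, show Nat.find hx - 1 + (Nat.find hx - 1) = Nat.find hx + (Nat.find hx - 2) by omega,
        pow_add, hs, zero_mul]
    let φ : DualNumber κ →ₐ[κ] A := DualNumber.lift ⟨(Algebra.ofId κ A, e), hee, fun _ => Commute.all _ _⟩
    have hφ : ∀ z : DualNumber κ, φ z = algebraMap κ A z.fst + algebraMap κ A z.snd * e := fun z => by
      simp [φ, DualNumber.lift_apply_apply, Algebra.ofId_apply]
    have hne : e ∉ (⊥ : Subalgebra κ A) := by
      rintro ⟨c, hc⟩
      have hcA : algebraMap κ A c = e := hc
      have : c * c = 0 := hinj (by rw [map_mul, map_zero, hcA, hee])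
      exact he0 (by rw [← hcA, mul_self_eq_zero.1 this, map_zero])
    refine ⟨(AlgEquiv.ofBijective φ ⟨?_, fun y => ?_⟩).symm⟩
    · refine (injective_iff_map_eq_zero _).2 fun z hz => ?_
      rw [hφ] at hz
      have h1 : z.fst = 0 := by
        by_contra h1
        refine he0 ?_
        have hu : IsUnit (algebraMap κ A z.fst) := (isUnit_iff_ne_zero.2 h1).map _
        have h3 := congrArg (· * e) hz
        simp only [add_mul, mul_assoc, hee, mul_zero, add_zero, zero_mul] at h3
        exact hu.mul_right_eq_zero.1 h3
      have h2 : z.snd = 0 := by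
        by_contra h2
        rw [h1, map_zero, zero_add] at hz
        exact he0 (((isUnit_iff_ne_zero.2 h2).map (algebraMap κ A)).mul_right_eq_zero.1 hz)
      exact TrivSqZeroExt.ext h1 h2
    · have : φ.range = ⊤ := htop _ e ⟨DualNumber.eps, by show φ DualNumber.eps = e; rw [hφ]; simp⟩ hne
      exact (this ▸ trivial : y ∈ φ.range)
  by_cases hfield : IsField A
  swap
  · right; left
    haveI : IsArtinianRing A := IsArtinianRing.of_finite κ A
    obtain ⟨x, hx0, hxu⟩ : ∃ x : A, x ≠ 0 ∧ ¬ IsUnit x := by
      by_contra hc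
      push Not at hc
      exact hfield ⟨⟨0, 1, zero_ne_one⟩, mul_comm, fun {b} hb => (hc b hb).exists_right_inv⟩
    obtain ⟨n, y, hy⟩ := IsArtinian.exists_pow_succ_smul_dvd x (1 : A)
    simp only [smul_eq_mul, mul_one] at hy
    have hxy : x * (1 - x * y) = 0 := by
      refine IsNilpotent.eq_zero ⟨n + 1, ?_⟩
      rw [mul_pow, pow_succ' (1 - x * y) n, ← mul_assoc]
      have : x ^ (n + 1) * (1 - x * y) = 0 := by
        calc x ^ (n + 1) * (1 - x * y) = x * (x ^ n - x ^ (n + 1) * y) := by ring
          _ = 0 := by rw [hy, sub_self, mul_zero]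
      rw [this, zero_mul]
    set e := x * y with he
    have hee : e * e = e := by linear_combination (-y) * hxy
    have hne : e ∉ (⊥ : Subalgebra κ A) := by
      rintro ⟨c, hc⟩
      have hcA : algebraMap κ A c = e := hc
      have hcc : c * c = c := hinj (by rw [map_mul, hcA, hee])
      rcases mul_eq_zero.1 (show c * (c - 1) = 0 by linear_combination hcc) with hc0 | hc1
      · exact hx0 (by rw [← hcA, hc0, map_zero, sub_zero, mul_one] at hxy; exact hxy)
      · rw [sub_eq_zero] at hc1
        rw [hc1, map_one] at hcA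
        exact hxu (IsUnit.of_mul_eq_one y hcA.symm)
    let φ : κ × κ →ₐ[κ] A :=
      { toFun := fun z => algebraMap κ A z.1 * e + algebraMap κ A z.2 * (1 - e)
        map_one' := by simp
        map_zero' := by simp
        map_add' := fun z w => by simp only [Prod.fst_add, Prod.snd_add, map_add]; ring
        map_mul' := fun z w => by
          simp only [Prod.fst_mul, Prod.snd_mul, map_mul]
          linear_combination (-(algebraMap κ A z.1 * algebraMap κ A w.1) + algebraMap κ A z.1 * algebraMap κ A w.2
            + algebraMap κ A z.2 * algebraMap κ A w.1 - algebraMap κ A z.2 * algebraMap κ A w.2) * hee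
        commutes' := fun r => by simp only [Prod.algebraMap_apply, Algebra.algebraMap_self, RingHom.id_apply]; ring }
    refine ⟨(AlgEquiv.ofBijective φ ⟨?_, fun y' => ?_⟩).symm⟩
    · refine (injective_iff_map_eq_zero _).2 fun z hz => ?_
      change algebraMap κ A z.1 * e + algebraMap κ A z.2 * (1 - e) = 0 at hz
      have h1 : z.1 = 0 := by
        by_contra h1
        have h3 : algebraMap κ A z.1 * e = 0 := by
          linear_combination e * hz + (algebraMap κ A z.2 - algebraMap κ A z.1) * hee
        exact hne (((isUnit_iff_ne_zero.2 h1).map (algebraMap κ A)).mul_right_eq_zero.1 h3 ▸ zero_mem _)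
      refine Prod.ext h1 ?_
      by_contra h2
      have h3 : algebraMap κ A z.2 * (1 - e) = 0 := by simpa [h1] using hz
      have : (1 : A) = e := sub_eq_zero.1 (((isUnit_iff_ne_zero.2 h2).map (algebraMap κ A)).mul_right_eq_zero.1 h3)
      exact hne (this ▸ one_mem _)
    · have : φ.range = ⊤ := htop _ e ⟨(1, 0), by
        show algebraMap κ A 1 * e + algebraMap κ A 0 * (1 - e) = e
        simp⟩ hne
      exact (this ▸ trivial : y' ∈ φ.range)
  right; right
  refine ⟨hfield, ?_⟩
  letI := hfield.toField
  haveI : Algebra.IsAlgebraic κ A := Algebra.IsAlgebraic.of_finite κ A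
  rcases h.eq_bot_or_eq_top (separableClosure κ A).toSubalgebra with hs | hs
  swap
  · left
    rw [← separableClosure.eq_top_iff]
    exact IntermediateField.toSubalgebra_injective (hs.trans IntermediateField.top_toSubalgebra.symm)
  · right
    haveI : IsPurelyInseparable κ A := separableClosure.eq_bot_iff.1
      (IntermediateField.toSubalgebra_injective (hs.trans IntermediateField.bot_toSubalgebra.symm))
    obtain ⟨p, hp⟩ := ExpChar.exists κ
    classical
    have hn : ∃ n, a ^ p ^ n ∈ (algebraMap κ A).range := IsPurelyInseparable.pow_mem κ p a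
    have hn0 : Nat.find hn ≠ 0 := fun h0 => by
      obtain ⟨c, hc⟩ := Nat.find_spec hn
      rw [h0, pow_zero, pow_one] at hc
      exact ha ⟨c, hc⟩
    set b := a ^ p ^ (Nat.find hn - 1) with hb
    have hb0 : b ∉ (⊥ : Subalgebra κ A) := fun hb' =>
      Nat.find_min hn (show Nat.find hn - 1 < Nat.find hn by omega) (by
        obtain ⟨c, hc⟩ := hb'; exact ⟨c, hc⟩)
    obtain ⟨c, hc⟩ : b ^ p ∈ (algebraMap κ A).range := by
      rw [hb, ← pow_mul, ← pow_succ, Nat.sub_add_cancel (Nat.one_le_iff_ne_zero.2 hn0)]
      exact Nat.find_spec hn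
    rcases hp with _ | ⟨hprime⟩
    · exact absurd ⟨c, by simpa using hc⟩ hb0
    · haveI : Fact p.Prime := ⟨hprime⟩
      haveI : CharP A p := charP_of_injective_algebraMap hinj p
      have hnp : ∀ d : κ, d ^ p ≠ c := fun d hd => hb0 ⟨d, frobenius_inj A p (by
        show (algebraMap κ A d) ^ p = b ^ p
        rw [← map_pow, hd, hc])⟩
      haveI : Fact (Irreducible (X ^ p - C c)) := ⟨X_pow_sub_C_irreducible_of_prime hprime hnp⟩
      have hsimple : IsSimpleRing (AdjoinRoot (X ^ p - C c)) :=
        (isSimpleRing_iff_isField _).2 (Field.toIsField (AdjoinRoot (X ^ p - C c)))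
      refine ⟨p, c, hprime, inferInstance, hnp, ⟨(AlgEquiv.ofBijective
        (AdjoinRoot.liftAlgHom (X ^ p - C c) (Algebra.ofId κ A) b (by
          show eval₂ (algebraMap κ A) b (X ^ p - C c) = 0
          simp [hc])) ⟨RingHom.injective _, fun y => ?_⟩).symm⟩⟩
      have := htop (AdjoinRoot.liftAlgHom (X ^ p - C c) (Algebra.ofId κ A) b (by
          show eval₂ (algebraMap κ A) b (X ^ p - C c) = 0
          simp [hc])).range b ⟨AdjoinRoot.root _, AdjoinRoot.liftAlgHom_root _ _ _ _⟩ hb0
      exact AlgHom.range_eq_top _ |>.1 this y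

end Groth.Agent.S15939
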