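import Groth.Statements.S1594
import Groth.Agent.NodeAlg15.Fam
import Groth.Agent.AlgSpLib.Descends
import Mathlib.AlgebraicGeometry.Morphisms.LocalFlatDescent

set_option backward.isDefEq.respectTransparency false
set_option backward.isDefEq.respectTransparency.types false

set_option autoImplicit false
universe u
open CategoryTheory CategoryTheory.Limits AlgebraicGeometry
open Curves

namespace Groth.Agent.S1594

/-- (2) implies (1), for a covering by one flat quasi-compact surjective morphism: let f : X → S and g :
S' → S flat, quasi-compact and surjective. If the base change X ×_S S' → S' is at-worst-nodal of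
relative dimension one then so is f. -/
theorem result {X S S' : Scheme.{u}} (f : X ⟶ S) (g : S' ⟶ S) [Flat g] [QuasiCompact g] [Surjective g]
    (h : Curv2.IsNodalFamily (pullback.snd f g)) : Curv2.IsNodalFamily f := by
  obtain ⟨hfl, hlfp, hfib⟩ := h
  haveI := hfl
  haveI := hlfp
  have hQ : (@Surjective ⊓ @Flat ⊓ @QuasiCompact : MorphismProperty Scheme.{u}) g := ⟨⟨‹_›, ‹_›⟩, ‹_›⟩
  have hsq := IsPullback.of_hasPullback f g
  haveI : Flat f := MorphismProperty.of_pullback_snd_of_descendsAlong
    (P := (@Flat : MorphismProperty Scheme.{u})) hQ hfl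
  haveI : LocallyOfFinitePresentation f := MorphismProperty.of_pullback_snd_of_descendsAlong
    (P := (@LocallyOfFinitePresentation : MorphismProperty Scheme.{u})) hQ hlfp
  refine ⟨‹_›, ‹_›, fun s => ?_⟩
  obtain ⟨s', rfl⟩ := g.surjective s
  obtain ⟨μ, sq⟩ : ∃ μ, IsPullback μ ((pullback.snd f g).fiberToSpecResidueField s')
      (f.fiberToSpecResidueField (g s')) (Spec.map (g.residueFieldMap s')) :=
    ⟨_, isPullback_fiberToSpecResidueField_of_isPullback hsq s'⟩
  haveI : LocallyOfFinitePresentation (f.fiberToSpecResidueField (g s')) :=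
    MorphismProperty.pullback_snd _ _ ‹LocallyOfFinitePresentation f›
  haveI : LocallyOfFiniteType (f.fiberToSpecResidueField (g s')) := VarDim.locallyOfFiniteType_fiberToSpec f _
  exact Groth.Agent.NodeAlg15.Fam.isNodalCurve_of_bc (k := S.residueField (g s')) (f.fiberToSpecResidueField (g s'))
    (g.residueFieldMap s').hom (K := S'.residueField s') sq (hfib s')

end Groth.Agent.S1594
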