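import Groth.Statements.S7305
import Groth.Agent.ResolveLib.StalkQuot

set_option linter.style.haveILetI false

namespace Groth.Agent.S7305

open IsLocalRing

theorem bijective_quotientMap_of_surjective {R S T : Type*} [CommRing R] [CommRing S] [CommRing T]
    (f : R →+* S) (π : R →+* T) (π' : S →+* T) (he : π'.comp f = π) (hπ : Function.Surjective π)
    (I : Ideal R) (J : Ideal S) (h : I ≤ J.comap f) (hI : RingHom.ker π ≤ I) (hJ : RingHom.ker π' ≤ J)
    (hIJ : J.map π' ≤ I.map π) : Function.Bijective (Ideal.quotientMap J f h) := by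
  refine ⟨Ideal.quotientMap_injective' fun r hr => ?_, fun s => ?_⟩
  · have h1 : π r ∈ I.map π := by
      subst he; exact hIJ (Ideal.mem_map_of_mem π' hr)
    obtain ⟨r', hr', e⟩ := (Ideal.mem_map_iff_of_surjective π hπ).mp h1
    have : r' - r ∈ I := hI (by rw [RingHom.mem_ker, map_sub, e, sub_self])
    simpa using I.sub_mem hr' this
  · obtain ⟨s, rfl⟩ := Ideal.Quotient.mk_surjective s
    obtain ⟨r, hr⟩ := hπ (π' s)
    refine ⟨Ideal.Quotient.mk I r, ?_⟩
    rw [Ideal.quotientMap_mk, Ideal.Quotient.eq]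
    exact hJ (by rw [RingHom.mem_ker, map_sub, ← RingHom.comp_apply, he, hr, sub_self])

theorem map_maximalIdeal_pow_eq {R T : Type*} [CommRing R] [CommRing T] [IsLocalRing R] [IsLocalRing T]
    (π : R →+* T) (hπ : Function.Surjective π) (n : ℕ) :
    (maximalIdeal R ^ n).map π = maximalIdeal T ^ n := by
  rw [Ideal.map_pow]
  congr 1
  refine (IsLocalRing.eq_maximalIdeal (Ideal.IsMaximal.map_of_surjective_of_ker_le hπ ?_))
  exact le_maximalIdeal (RingHom.ker_ne_top π)

end Groth.Agent.S7305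

set_option autoImplicit false
universe u
open CategoryTheory CategoryTheory.Limits AlgebraicGeometry
open Resolve

namespace Groth.Agent.S7305

/-- Let (A, m) be a local ring with m finitely generated, f : X → Spec A a scheme over A, and Y = X
×_{Spec A} Spec(A^) the base change to the m-adic completion. Take a point q of Y whose image p in X
maps to the closed point of Spec A. Then the map of local rings O_{X,p} → O_{Y,q} becomes an
isomorphism after completing both sides: for every n ≥ 1 the induced map O_{X,p}/m_p^n →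
O_{Y,q}/m_q^n is bijective. -/
theorem result (A : Type u) [CommRing A] [IsLocalRing A]
    (hm : (IsLocalRing.maximalIdeal A).FG) (X : Scheme.{u}) (f : X ⟶ Spec (CommRingCat.of A))
    (q : ↥(Curv2.bcCpl A f)) (hq : f.base ((Curv2.bcCplFst A f).base q) = IsLocalRing.closedPoint A) (n : ℕ) (hn : 1 ≤ n)
    (h : IsLocalRing.maximalIdeal (X.presheaf.stalk ((Curv2.bcCplFst A f).base q)) ^ n ≤
      (IsLocalRing.maximalIdeal ((Curv2.bcCpl A f).presheaf.stalk q) ^ n).comap ((Curv2.bcCplFst A f).stalkMap q).hom) :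
    Function.Bijective (Ideal.quotientMap (IsLocalRing.maximalIdeal ((Curv2.bcCpl A f).presheaf.stalk q) ^ n)
      ((Curv2.bcCplFst A f).stalkMap q).hom h) := by
  classical
  haveI := AdicCompletion.isLocalRing_of_fg hm
  let m := IsLocalRing.maximalIdeal A
  let Ah := Curv2.cpl A
  have hne : m ^ n ≠ ⊤ := ne_top_of_le_ne_top Ideal.IsPrime.ne_top' (Ideal.pow_le_self (by omega))
  haveI : Nontrivial (A ⧸ m ^ n) := Ideal.Quotient.nontrivial_iff.2 hne
  haveI : IsLocalRing (A ⧸ m ^ n) := IsLocalRing.of_surjective' _ Ideal.Quotient.mk_surjective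
  let c : CommRingCat.of A ⟶ CommRingCat.of Ah := CommRingCat.ofHom (algebraMap A Ah)
  let φ : CommRingCat.of Ah ⟶ CommRingCat.of (A ⧸ m ^ n) :=
    CommRingCat.ofHom (AdicCompletion.evalₐ m n).toRingHom
  let φ₀ : CommRingCat.of A ⟶ CommRingCat.of (A ⧸ m ^ n) := CommRingCat.ofHom (Ideal.Quotient.mk _)
  have hφ₀ : c ≫ φ = φ₀ := CommRingCat.hom_ext (RingHom.ext fun a =>
    (AdicCompletion.evalₐ m n).commutes a)
  have hφs : Function.Surjective φ.hom := AdicCompletion.surjective_evalₐ m n
  have hker₀ : RingHom.ker φ₀.hom ≤ IsLocalRing.maximalIdeal A ^ n := Ideal.mk_ker.le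
  have hker : RingHom.ker φ.hom ≤ IsLocalRing.maximalIdeal Ah ^ n := by
    intro x hx
    have h0 : AdicCompletion.eval m A n x = 0 := by
      rw [← AdicCompletion.factor_evalₐ_eq_eval m x (Ideal.mul_top _).ge,
        show AdicCompletion.evalₐ m n x = 0 from hx, map_zero]
    have h1 : x ∈ (m ^ n • ⊤ : Submodule A Ah) := by
      rw [AdicCompletion.pow_smul_top_eq_ker_eval hm]; exact h0
    rw [AdicCompletion.maximalIdeal_eq_map_of_fg hm, ← Ideal.map_pow]
    rw [Ideal.smul_top_eq_map] at h1; exact h1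
  haveI : IsClosedImmersion (Spec.map φ₀) :=
    IsClosedImmersion.spec_of_surjective φ₀ Ideal.Quotient.mk_surjective
  let j : pullback f (Spec.map φ₀) ⟶ X := pullback.fst _ _
  let t := pullback.snd f (Spec.map φ₀)
  have H₀ : IsPullback j t f (Spec.map φ₀) := IsPullback.of_hasPullback _ _
  have hcomm : j ≫ f = (t ≫ Spec.map φ) ≫ Spec.map c := by
    rw [Category.assoc, ← Spec.map_comp, hφ₀]; exact H₀.w
  let j' : pullback f (Spec.map φ₀) ⟶ Curv2.bcCpl A f := pullback.lift j (t ≫ Spec.map φ) hcomm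
  have hj' : j' ≫ Curv2.bcCplFst A f = j := pullback.lift_fst _ _ _
  have hbig : IsPullback (j' ≫ Curv2.bcCplFst A f) t f (Spec.map φ ≫ Spec.map c) := by
    rw [hj', ← Spec.map_comp, hφ₀]; exact H₀
  have H : IsPullback j' t (Curv2.bcCplSnd A f) (Spec.map φ) :=
    IsPullback.of_right hbig (pullback.lift_snd _ _ _) (IsPullback.of_hasPullback _ _)
  have hq' : (Curv2.bcCplSnd A f).base q = IsLocalRing.closedPoint Ah := by
    have e : (Spec.map c) ((Curv2.bcCplSnd A f) q) = IsLocalRing.closedPoint A := by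
      rw [← hq, ← Scheme.Hom.comp_apply, ← pullback.condition, Scheme.Hom.comp_apply]
    have e' := congrArg PrimeSpectrum.asIdeal e
    apply PrimeSpectrum.ext
    refine ((IsLocalRing.maximalIdeal.isMaximal Ah).eq_of_le
      ((Curv2.bcCplSnd A f) q).isPrime.ne_top ?_).symm
    rw [AdicCompletion.maximalIdeal_eq_map_of_fg hm, Ideal.map_le_iff_le_comap]
    exact e'.ge
  obtain ⟨w, rfl⟩ : q ∈ Set.range j' := by
    haveI : IsLocalHom φ.hom := IsLocalHom.of_surjective _ hφs
    obtain ⟨z, hz, -⟩ := Scheme.Pullback.exists_preimage_pullback (f := Curv2.bcCplSnd A f) (g := Spec.map φ)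
      q (IsLocalRing.closedPoint (A ⧸ m ^ n)) (hq'.trans (IsLocalRing.comap_closedPoint φ.hom).symm)
    refine ⟨H.isoPullback.inv z, ?_⟩
    rw [← Scheme.Hom.comp_apply, H.isoPullback_inv_fst, hz]
  haveI : IsClosedImmersion j' := by
    haveI : IsClosedImmersion (j' ≫ Curv2.bcCplFst A f) := by rw [hj']; infer_instance
    exact IsClosedImmersion.of_comp j' (Curv2.bcCplFst A f)
  haveI : IsClosedImmersion (j' ≫ Curv2.bcCplFst A f) := by rw [hj']; infer_instance
  have hk' := ResolveLib.ker_stalkMap_le_of_isPullback φ hφs n hker (Curv2.bcCplSnd A f) H w hq'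
  have hk := ResolveLib.ker_stalkMap_le_of_isPullback φ₀ Ideal.Quotient.mk_surjective n hker₀ f
    (j := j' ≫ Curv2.bcCplFst A f) (t := t) (hj'.symm ▸ H₀) w hq
  have hs := (j' ≫ Curv2.bcCplFst A f).stalkMap_surjective w
  refine bijective_quotientMap_of_surjective ((Curv2.bcCplFst A f).stalkMap (j' w)).hom
    ((j' ≫ Curv2.bcCplFst A f).stalkMap w).hom (j'.stalkMap w).hom ?_ hs _ _ h hk hk' ?_
  · rw [Scheme.Hom.stalkMap_comp]; rfl
  · rw [map_maximalIdeal_pow_eq _ (j'.stalkMap_surjective w) n]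
    exact (map_maximalIdeal_pow_eq _ hs n).ge

end Groth.Agent.S7305
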