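import Groth.Statements.S1598
import Groth.Agent.S7305
import Groth.Agent.FormalFib6.Cplt
import Groth.Agent.ResolveLib.RegIff
import Mathlib.AlgebraicGeometry.Morphisms.Flat
import Mathlib.RingTheory.AdicCompletion.Noetherian
import Mathlib.RingTheory.AdicCompletion.AsTensorProduct

set_option linter.style.haveILetI false

set_option autoImplicit false
universe u
open CategoryTheory CategoryTheory.Limits AlgebraicGeometry
open Resolve

namespace Groth.Agent.S1598

/-- Let A be a Noetherian local ring with completion A^, X locally of finite type over Spec A, Y its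
base change to Spec A^, and y a point of Y lying over the closed point of Spec A^ with image x in X.
Then the local ring of Y at y is regular if and only if the local ring of X at x is regular. -/
theorem result (A : Type u) [CommRing A] [IsLocalRing A] [IsNoetherianRing A]
    (X : Scheme.{u}) (f : X ⟶ Spec (CommRingCat.of A)) [LocallyOfFiniteType f]
    (y : Curv2.bcCpl A f) (hy : (Curv2.bcCplSnd A f).base y = IsLocalRing.closedPoint (Curv2.cpl A)) :
    IsRegularLocalRing ((Curv2.bcCpl A f).presheaf.stalk y) ↔
      IsRegularLocalRing (X.presheaf.stalk ((Curv2.bcCplFst A f).base y)) := by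
  haveI : Module.Flat A (Curv2.cpl A) := AdicCompletion.flat_of_isNoetherian _
  haveI : IsNoetherianRing (Curv2.cpl A) := Groth.Agent.FormalFib6.isNoetherianRing_adicCompletion A _
  haveI : Flat (Spec.map (CommRingCat.ofHom (algebraMap A (Curv2.cpl A)))) := by
    rw [HasRingHomProperty.Spec_iff (P := @Flat)]
    exact RingHom.flat_algebraMap_iff.mpr inferInstance
  haveI : IsLocallyNoetherian X := LocallyOfFiniteType.isLocallyNoetherian f
  haveI : IsLocallyNoetherian (Curv2.bcCpl A f) :=
    LocallyOfFiniteType.isLocallyNoetherian (Curv2.bcCplSnd A f)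
  have hq : f.base ((Curv2.bcCplFst A f).base y) = IsLocalRing.closedPoint A := by
    rw [← Scheme.Hom.comp_apply, pullback.condition, Scheme.Hom.comp_apply, hy]
    exact IsLocalRing.comap_closedPoint (algebraMap A (Curv2.cpl A))
  set φ := ((Curv2.bcCplFst A f).stalkMap y).hom
  have h2 : IsLocalRing.maximalIdeal (X.presheaf.stalk ((Curv2.bcCplFst A f).base y)) ^ 2 ≤
      (IsLocalRing.maximalIdeal ((Curv2.bcCpl A f).presheaf.stalk y) ^ 2).comap φ := by
    rw [← Ideal.map_le_iff_le_comap, Ideal.map_pow]
    exact Ideal.pow_right_mono (((IsLocalRing.local_hom_TFAE φ).out 0 2).mp (inferInstance : IsLocalHom ((Curv2.bcCplFst A f).stalkMap y).hom)) 2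
  have hb := Groth.Agent.S7305.result A (IsLocalRing.maximalIdeal A).fg_of_isNoetherianRing X f y hq 2
    one_le_two h2
  letI := φ.toAlgebra
  haveI : IsLocalHom (algebraMap (X.presheaf.stalk ((Curv2.bcCplFst A f).base y))
      ((Curv2.bcCpl A f).presheaf.stalk y)) := inferInstanceAs (IsLocalHom φ)
  haveI : Module.Flat (X.presheaf.stalk ((Curv2.bcCplFst A f).base y))
      ((Curv2.bcCpl A f).presheaf.stalk y) := Flat.stalkMap (Curv2.bcCplFst A f) y
  refine (Groth.Agent.ResolveLib.isRegularLocalRing_iff_of_flat (fun s => ?_) (fun r hr => ?_)).symm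
  · obtain ⟨r, hr⟩ := hb.2 (Ideal.Quotient.mk _ s)
    obtain ⟨r, rfl⟩ := Ideal.Quotient.mk_surjective r
    rw [Ideal.quotientMap_mk, eq_comm, Ideal.Quotient.eq] at hr
    exact ⟨r, hr⟩
  · refine Ideal.Quotient.eq_zero_iff_mem.mp (hb.1 ?_)
    rw [Ideal.quotientMap_mk, map_zero]
    exact Ideal.Quotient.eq_zero_iff_mem.mpr hr

end Groth.Agent.S1598
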