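import Groth.Statements.S1597
import Groth.Agent.S1598
import Groth.Agent.ResolveLib.RegStalk

set_option linter.style.haveILetI false

set_option autoImplicit false
universe u
open CategoryTheory CategoryTheory.Limits AlgebraicGeometry
open Resolve

namespace Groth.Agent.S1597

/-- Let A be a Noetherian local ring with completion A^, X a scheme proper over Spec A and Y its base
change to Spec A^. Then all local rings of X are regular if and only if all local rings of Y are
regular. -/
theorem result (A : Type u) [CommRing A] [IsLocalRing A] [IsNoetherianRing A]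
    (X : Scheme.{u}) (f : X ⟶ Spec (CommRingCat.of A)) [IsProper f] :
    (∀ x : X, IsRegularLocalRing (X.presheaf.stalk x)) ↔
      ∀ y : Curv2.bcCpl A f, IsRegularLocalRing ((Curv2.bcCpl A f).presheaf.stalk y) := by
  have key : ∀ {S : Scheme.{u}} {R : Type u} [CommRing R] [IsLocalRing R]
      (g : S ⟶ Spec (CommRingCat.of R)) [IsProper g] (s : S),
      ∃ s₀, s ⤳ s₀ ∧ g.base s₀ = IsLocalRing.closedPoint R := fun {S R} _ _ g _ s => by
    obtain ⟨s₀, h₀, h₁⟩ := g.isClosedMap.specializingMap
      (show g.base s ⤳ IsLocalRing.closedPoint R from IsLocalRing.specializes_closedPoint _)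
    exact ⟨s₀, h₀, h₁⟩
  have hcl : (Spec.map (CommRingCat.ofHom (algebraMap A (Curv2.cpl A))))
      (IsLocalRing.closedPoint (Curv2.cpl A)) = IsLocalRing.closedPoint A :=
    IsLocalRing.comap_closedPoint (algebraMap A (Curv2.cpl A))
  constructor
  · intro h y
    obtain ⟨y₀, hy₀, hy₀'⟩ := key (Curv2.bcCplSnd A f) y
    haveI := (Groth.Agent.S1598.result A X f y₀ hy₀').mpr (h _)
    exact Groth.Agent.ResolveLib.isRegularLocalRing_of_specializes hy₀
  · intro h x
    obtain ⟨x₀, hx₀, hx₀'⟩ := key f x
    obtain ⟨y₀, hy₁, hy₂⟩ := Scheme.Pullback.exists_preimage_pullback (f := f)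
      (g := Spec.map (CommRingCat.ofHom (algebraMap A (Curv2.cpl A)))) x₀
      (IsLocalRing.closedPoint (Curv2.cpl A)) (hx₀'.trans hcl.symm)
    haveI : IsRegularLocalRing (X.presheaf.stalk x₀) :=
      hy₁ ▸ (Groth.Agent.S1598.result A X f y₀ hy₂).mp (h _)
    exact Groth.Agent.ResolveLib.isRegularLocalRing_of_specializes hx₀

end Groth.Agent.S1597
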