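import Groth.Statements.S1599
import Groth.Agent.ResolveLib.NormalDesc
import Groth.Agent.ResolveLib.CplFinite
import Mathlib.RingTheory.AdicCompletion.AsTensorProduct

set_option autoImplicit false
set_option linter.style.haveILetI false
universe u
open Resolve TensorProduct

namespace Groth.Agent.S1599

/-- Normality of the completion descends to a normal ring with a normally completed finite
extension. -/
theorem result (A : Type u) [CommRing A] [IsLocalRing A] [IsNoetherianRing A]
    (B C : Type u) [CommRing B] [CommRing C] [Algebra A B] [Algebra A C] [Algebra B C] [IsScalarTower A B C]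
    [Module.Finite A B] [Module.Finite A C] (hinj : Function.Injective (algebraMap B C))
    (hB : EGA4.IsNormalRing B)
    (hC : EGA4.IsNormalRing (AdicCompletion ((IsLocalRing.maximalIdeal A).map (algebraMap A C)) C)) :
    EGA4.IsNormalRing (AdicCompletion ((IsLocalRing.maximalIdeal A).map (algebraMap A B)) B) := by
  haveI := FlatLoc6.faithfullyFlat_cpl A
  haveI := FlatLoc6.isNoetherianRing_cpl A
  haveI : IsNoetherianRing B := IsNoetherianRing.of_finite A B
  haveI : Module.Finite B C := Module.Finite.of_restrictScalars_finite A B C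
  obtain ⟨eB⟩ := ResolveLib.exists_cplEquiv A B
  obtain ⟨eC⟩ := ResolveLib.exists_cplEquiv A C
  haveI : IsNoetherianRing (B ⊗[A] EGA4.Cpl A) := by
    haveI : IsNoetherianRing (EGA4.Cpl A ⊗[A] B) := IsNoetherianRing.of_finite (EGA4.Cpl A) _
    exact isNoetherianRing_of_ringEquiv _
      (Algebra.TensorProduct.comm A (EGA4.Cpl A) B).toRingEquiv
  let e : (B ⊗[A] EGA4.Cpl A) ⊗[B] C ≃+* C ⊗[A] EGA4.Cpl A :=
    (Algebra.TensorProduct.comm B (B ⊗[A] EGA4.Cpl A) C).toRingEquiv.trans
      (Algebra.TensorProduct.cancelBaseChange A B C C (EGA4.Cpl A)).toRingEquiv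
  refine FlatLoc6.isNormalRing_of_ringEquiv eB.symm ?_
  exact ResolveLib.isNormalRing_of_tensor (C := C) hinj hB
    (FlatLoc6.isNormalRing_of_ringEquiv (eC.trans e.symm) hC)

end Groth.Agent.S1599
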