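import Groth.Statements.S15993
import Groth.Agent.AlgSpDec.SchDenseFacts
import Groth.Agent.S5435
import Mathlib.AlgebraicGeometry.Morphisms.FlatDescent

set_option autoImplicit false
open CategoryTheory AlgebraicGeometry
universe u
open EtHull

open CategoryTheory.Limits
namespace Groth.Agent.S15993

/-- Let f : X → S be a morphism of schemes which is faithfully flat (flat and surjective), quasi-compact
and separated, and schematically birational in the following sense: there are schematically dense
opens U of S and V of X, with the inclusion V → X quasi-compact, such that f maps V into U and the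
induced morphism V → U is an isomorphism. Then f is an isomorphism. (The source states this for
algebraic spaces and puts no quasi-compactness condition on the dense opens. Its proof base-changes
along f and uses that the inverse image of V in X ×_S X is again schematically dense, which holds
when V → X is quasi-compact, for instance when X is locally Noetherian, and fails in general: over
the Boolean ring of eventually constant sequences of elements of the field with two elements, the
spectrum of the ring of eventually two-periodic sequences is faithfully flat and affine, and it is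
an isomorphism above the open set of principal points, which is schematically dense on both sides,
yet it is not an isomorphism, the point at infinity being doubled. So V is taken retrocompact in X
here, and X, S are schemes.) -/
theorem result {X S : Scheme.{u}} (f : X ⟶ S)
    [Flat f] [Surjective f] [QuasiCompact f] [IsSeparated f]
    (U : S.Opens) (V : X.Opens) [QuasiCompact V.ι]
    (hU : CInt.IsSchematicallyDense U) (hV : CInt.IsSchematicallyDense V)
    (hle : V ≤ f ⁻¹ᵁ U) (hiso : IsIso (f.resLE U V hle)) : IsIso f := by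
  let p₁ := pullback.fst f f
  let p₂ := pullback.snd f f
  have : Flat p₁ := inferInstanceAs (Flat (pullback.fst f f))
  let Δ : X ⟶ pullback f f := pullback.diagonal f
  let W : (pullback f f).Opens := p₁ ⁻¹ᵁ V
  let a := f.resLE U V hle
  have : IsIso a := hiso
  have hVmono : Mono (V.ι ≫ f) := by
    rw [← Scheme.Hom.resLE_comp_ι f hle]
    infer_instance
  -- the retraction of `f⁻¹U` onto `V`
  let O : X.Opens := f ⁻¹ᵁ U
  let φ : O.toScheme ⟶ X := (f ∣_ U) ≫ inv a ≫ V.ι
  have hφ : φ ≫ f = O.ι ≫ f := by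
    simp only [φ, Category.assoc]
    rw [show V.ι ≫ f = a ≫ U.ι from (Scheme.Hom.resLE_comp_ι f hle).symm, IsIso.inv_hom_id_assoc]
    exact morphismRestrict_ι f U
  let s : O.toScheme ⟶ pullback f f := pullback.lift φ O.ι hφ
  have hs : ∀ x : X, ∀ hx : x ∈ O, x ∈ V ↔ s ⟨x, hx⟩ ∈ Set.range Δ := by
    intro x hx
    constructor
    · intro hxV
      refine ⟨x, ?_⟩
      have e : X.homOfLE hle ≫ s = V.ι ≫ Δ := by
        apply pullback.hom_ext
        · rw [Category.assoc, Category.assoc, pullback.lift_fst, pullback.diagonal_fst, Category.comp_id]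
          have e1 : X.homOfLE hle ≫ (f ∣_ U) = a :=
            (cancel_mono U.ι).1 (by
              rw [Category.assoc, morphismRestrict_ι, ← Category.assoc, X.homOfLE_ι]
              exact (Scheme.Hom.resLE_comp_ι f hle).symm)
          show X.homOfLE hle ≫ (f ∣_ U) ≫ inv a ≫ V.ι = V.ι
          rw [reassoc_of% e1, IsIso.hom_inv_id_assoc]
        · rw [Category.assoc, Category.assoc, pullback.lift_snd, pullback.diagonal_snd, Category.comp_id,
            X.homOfLE_ι]
      have he := congrArg (fun r : V.toScheme ⟶ pullback f f => r ⟨x, hxV⟩) e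
      simp only [Scheme.Hom.comp_apply] at he
      refine he.symm.trans (congrArg s (O.ι.isOpenEmbedding.injective ?_))
      exact (Scheme.Hom.comp_apply _ _ _).symm.trans (congrArg (fun r : V.toScheme ⟶ X => r ⟨x, hxV⟩) (X.homOfLE_ι hle))
    · rintro ⟨y, hy⟩
      have h1 := congrArg p₁ hy
      have h2 := congrArg p₂ hy
      have e1 : Δ ≫ p₁ = 𝟙 X := pullback.diagonal_fst f
      have e2 : Δ ≫ p₂ = 𝟙 X := pullback.diagonal_snd f
      have e3 : s ≫ p₁ = φ := pullback.lift_fst _ _ _
      have e4 : s ≫ p₂ = O.ι := pullback.lift_snd _ _ _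
      have a1 : y = φ ⟨x, hx⟩ := ((congrArg (fun r : X ⟶ X => r y) e1).symm.trans (Scheme.Hom.comp_apply _ _ _)).trans
        (h1.trans ((Scheme.Hom.comp_apply _ _ _).symm.trans (congrArg (fun r : O.toScheme ⟶ X => r ⟨x, hx⟩) e3)))
      have a2 : y = x := ((congrArg (fun r : X ⟶ X => r y) e2).symm.trans (Scheme.Hom.comp_apply _ _ _)).trans
        (h2.trans ((Scheme.Hom.comp_apply _ _ _).symm.trans (congrArg (fun r : O.toScheme ⟶ X => r ⟨x, hx⟩) e4)))
      have h3 : x = φ ⟨x, hx⟩ := a2.symm.trans a1
      rw [h3]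
      exact ((inv a) ((f ∣_ U) ⟨x, hx⟩)).2
  have hVO : V = O := by
    refine le_antisymm hle fun x hx => ?_
    by_contra hxV
    have hc : IsClosed (s ⁻¹' Set.range Δ) := (Δ.isClosedEmbedding.isClosed_range).preimage s.continuous
    let N : X.Opens := O.ι ''ᵁ ⟨(s ⁻¹' Set.range Δ)ᶜ, hc.isOpen_compl⟩
    have hxN : x ∈ N := ⟨⟨x, hx⟩, fun h => hxV ((hs x hx).2 h), rfl⟩
    obtain ⟨y, ⟨⟨y', hyO⟩, hy, rfl⟩, hyV⟩ := S5435.dense_of_isSchematicallyDense hV N ⟨x, hxN⟩
    exact hy ((hs y' hyO).1 hyV)
  -- `W` lies in the diagonal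
  have h2V : ∀ w : W.toScheme, (W.ι ≫ p₂) w ∈ V := fun w => by
    rw [hVO]
    show f ((W.ι ≫ p₂) w) ∈ U
    have : f ((W.ι ≫ p₂) w) = f ((W.ι ≫ p₁) w) := by
      simp only [← Scheme.Hom.comp_apply, Category.assoc, p₁, p₂, pullback.condition]
    rw [this]
    exact hle w.2
  obtain ⟨l₁, hl₁⟩ : ∃ l : W.toScheme ⟶ V.toScheme, l ≫ V.ι = W.ι ≫ p₁ :=
    ⟨IsOpenImmersion.lift V.ι (W.ι ≫ p₁) (by rintro _ ⟨w, rfl⟩; exact V.range_ι.ge w.2), IsOpenImmersion.lift_fac _ _ _⟩
  obtain ⟨l₂, hl₂⟩ : ∃ l : W.toScheme ⟶ V.toScheme, l ≫ V.ι = W.ι ≫ p₂ :=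
    ⟨IsOpenImmersion.lift V.ι (W.ι ≫ p₂) (by rintro _ ⟨w, rfl⟩; exact V.range_ι.ge (h2V w)), IsOpenImmersion.lift_fac _ _ _⟩
  have hl : l₁ = l₂ := by
    refine (cancel_mono (V.ι ≫ f)).1 ?_
    rw [← Category.assoc, ← Category.assoc, hl₁, hl₂, Category.assoc, Category.assoc, pullback.condition]
  have hWΔ : (W.ι ≫ p₁) ≫ Δ = W.ι := by
    apply pullback.hom_ext
    · rw [Category.assoc, pullback.diagonal_fst, Category.comp_id]
    · rw [Category.assoc, pullback.diagonal_snd, Category.comp_id, ← hl₁, hl, hl₂]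
  have hWsd : W.ι.ker = ⊥ := by
    have : QuasiCompact W.ι :=
      MorphismProperty.of_isPullback (isPullback_morphismRestrict p₁ V) ‹QuasiCompact V.ι›
    exact (AlgSpDec.SchDenseFacts.iff_ker_eq_bot W).1 (AlgSpDec.SchDenseFacts.preimage_of_flat_qc p₁ V hV
      (AlgSpDec.SchDenseFacts.isCompact_inf_of_quasiCompact V))
  have : IsIso Δ := IsClosedImmersion.isIso_iff_ker_eq_bot.2
    (le_bot_iff.1 (hWsd ▸ hWΔ ▸ Scheme.Hom.le_ker_comp (W.ι ≫ p₁) Δ))
  have : IsIso p₁ := by
    have : IsIso (Δ ≫ p₁) := by
      rw [pullback.diagonal_fst]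
      infer_instance
    exact IsIso.of_isIso_comp_left Δ p₁
  exact MorphismProperty.of_pullback_fst_of_descendsAlong (P := MorphismProperty.isomorphisms Scheme.{u})
    (Q := @Surjective ⊓ @Flat ⊓ @QuasiCompact) (f := f) (g := f)
    ⟨⟨inferInstance, inferInstance⟩, inferInstance⟩ this

end Groth.Agent.S15993
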