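import Groth.Statements.S15994
import Groth.Agent.EtHull69.Finest

set_option autoImplicit false
open CategoryTheory AlgebraicGeometry
set_option backward.isDefEq.respectTransparency.types false
universe u
open EtHull

namespace Groth.Agent.S15994

/-- Let S be a Noetherian scheme all of whose local rings are geometrically unibranch and whose
structure sheaf has no embedded associated points, and let f : X → S be flat, surjective and of
finite presentation. Then there is a factorization X → E₀ → S of f with E₀ → S étale and affine and
X → E₀ schematically dominant (the étale affine hull of X over S), and it is initial among all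
factorizations of f through étale affine S-schemes: for every factorization X → E → S of f with E →
S étale and affine there is a unique morphism E₀ → E compatible with the maps from X and to S. In
particular it is the largest factorization with X → E schematically dominant. (The source allows X
to be an algebraic space; X is a scheme here.) -/
theorem result {X S : Scheme.{u}} [IsNoetherian S]
    (hS : ∀ s : S, CAlg2.IsGeomUnibranch (S.presheaf.stalk s))
    (hemb : AssSch.NoEmbedded (Coh.structureModule S))
    (f : X ⟶ S) [Flat f] [Surjective f] [LocallyOfFinitePresentation f] [QuasiCompact f]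
    [QuasiSeparated f] :
    ∃ (E₀ : Scheme.{u}) (g₀ : E₀ ⟶ S) (u₀ : X ⟶ E₀), Etale g₀ ∧ IsAffineHom g₀ ∧
      IsSchemeTheoreticallyDominant u₀ ∧ u₀ ≫ g₀ = f ∧
      ∀ (E : Scheme.{u}) (g : E ⟶ S) (u : X ⟶ E), Etale g → IsAffineHom g → u ≫ g = f →
        ∃! v : E₀ ⟶ E, u₀ ≫ v = u ∧ v ≫ g = g₀ := by
  have htriv : ∃ _ : EtHull69.Fac f, True := by
    refine ⟨⟨S, 𝟙 S, f, inferInstance, inferInstance,
      EtHull69.sd_of_ass_subset_range f fun z _ => f.surjective z, Category.comp_id f⟩, trivial⟩
  obtain ⟨M, -, hM⟩ := EtHull69.exists_finest hS hemb (fun _ => True) htriv (fun _ _ _ _ _ _ _ _ => trivial)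
  refine ⟨M.E, M.g, M.u, M.etale, M.affine, M.sd, M.w, fun E g u hg hga hu => ?_⟩
  have : CompactSpace E := QuasiCompact.compactSpace_of_compactSpace g
  have : IsLocallyNoetherian E := LocallyOfFiniteType.isLocallyNoetherian g
  have : Flat (u ≫ g) := by rwa [hu]
  have : LocallyOfFinitePresentation (u ≫ g) := by rwa [hu]
  obtain ⟨hfl, hfp⟩ := EtHull69.flat_lfp_of_comp_etale u g
  obtain ⟨C, u', hC, hsd, hu', -⟩ := EtHull69.exists_clopen hS hemb g u
  have : IsClosedImmersion C.ι := .of_isPreimmersion _ (by rwa [C.range_ι])
  let A : EtHull69.Fac f := ⟨C, C.ι ≫ g, u', inferInstance, inferInstance, hsd,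
    (Category.assoc _ _ _).symm.trans ((congrArg (· ≫ g) hu').trans hu)⟩
  obtain ⟨v, hv, hvg⟩ := hM A trivial
  refine ⟨v ≫ C.ι, ⟨(Category.assoc _ _ _).symm.trans ((congrArg (· ≫ C.ι) hv).trans hu'),
    (Category.assoc _ _ _).trans hvg⟩, fun v' hv' => ?_⟩
  exact S2299.result M.u g v' (v ≫ C.ι) (hv'.2.trans ((Category.assoc _ _ _).trans hvg).symm)
    (hv'.1.trans ((Category.assoc _ _ _).symm.trans ((congrArg (· ≫ C.ι) hv).trans hu')).symm)

end Groth.Agent.S15994
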