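import Groth.Statements.S1600
import Groth.Agent.S1297
import Groth.Agent.Triage.NormInX
import Groth.Agent.FlatMisc.GenFlat
import Groth.Agent.RegLoc6.Descent
import Groth.Agent.RegLoc6.Normal

set_option autoImplicit false
set_option backward.isDefEq.respectTransparency false
set_option backward.isDefEq.respectTransparency.types false
set_option linter.style.haveILetI false
universe u
open CategoryTheory CategoryTheory.Limits AlgebraicGeometry TopologicalSpace
open Resolve

namespace Groth.Agent.S1600

/-- Regularity descends along a point of flatness. -/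
theorem isRegularLocalRing_of_flat_restrict {X Y : Scheme.{u}} [IsLocallyNoetherian Y] (f : X ⟶ Y)
    {W : Y.Opens} [Flat (f ∣_ W)] (x : X) (hx : f x ∈ W)
    (hreg : IsRegularLocalRing (X.presheaf.stalk x)) :
    IsRegularLocalRing (Y.presheaf.stalk (f x)) := by
  have h1 := Flat.stalkMap (f ∣_ W) (⟨x, hx⟩ : f ⁻¹ᵁ W)
  have h2 : (f.stalkMap x).hom.Flat := by
    refine (RingHom.Flat.respectsIso.arrow_mk_iso_iff
      (morphismRestrictStalkMap f W ⟨x, hx⟩)).1 h1
  letI := (f.stalkMap x).hom.toAlgebra
  haveI : Module.Flat (Y.presheaf.stalk (f x)) (X.presheaf.stalk x) := h2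
  haveI : IsLocalHom (algebraMap (Y.presheaf.stalk (f x)) (X.presheaf.stalk x)) :=
    (inferInstance : IsLocalHom (f.stalkMap x).hom)
  exact Groth.Agent.RegLoc6.isRegularLocalRing_of_flat (B := X.presheaf.stalk x)

/-- A domain contained in a finite algebra which is integrally closed in a field is N-1. -/
theorem isN1_of_finite_extension {A G K : Type u} [CommRing A] [IsDomain A] [IsNoetherianRing A]
    [CommRing G] [Field K] (φ : A →+* G) (γ : G →+* K) (hfin : φ.Finite) (hγ : Function.Injective γ)
    (hγφ : Function.Injective (γ.comp φ))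
    (hsec : ∀ y : K, γ.IsIntegralElem y → ∃ s, γ s = y) : CAlg.IsN1 A := by
  letI : Algebra A G := φ.toAlgebra
  haveI : Module.Finite A G := hfin
  haveI : IsNoetherian A G := isNoetherian_of_isNoetherianRing_of_finite _ _
  let ψ : FractionRing A →+* K := IsFractionRing.lift hγφ
  have hψ : ∀ a, ψ (algebraMap A (FractionRing A) a) = γ (φ a) := fun a =>
    IsFractionRing.lift_algebraMap hγφ a
  have hex : ∀ z : integralClosure A (FractionRing A), ∃ s, γ s = ψ z := fun z => by
    obtain ⟨P, hP, hPz⟩ := z.2
    refine hsec _ ⟨P.map φ, hP.map _, ?_⟩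
    rw [Polynomial.eval₂_map]
    have := congrArg ψ hPz
    rw [Polynomial.hom_eval₂, map_zero] at this
    rw [← this]
    congr 1
    exact RingHom.ext fun a => (hψ a).symm
  choose s hs using hex
  let L : integralClosure A (FractionRing A) →ₗ[A] G :=
    { toFun := s
      map_add' := fun a b => hγ (by rw [map_add, hs, hs, hs, ← map_add]; rfl)
      map_smul' := fun a b => hγ (by
        rw [RingHom.id_apply, Algebra.smul_def, Algebra.smul_def, map_mul, hs, hs, Subalgebra.coe_mul,
          map_mul]
        congr 1
        exact hψ a) }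
  refine Module.Finite.of_injective L fun a b h => ?_
  have : ψ a = ψ b := by rw [← hs, ← hs]; exact congrArg γ h
  exact Subtype.ext (ψ.injective this)

/-- An alteration by a regular scheme gives N-1 and generic regularity. -/
theorem result (A : Type u) [CommRing A] [IsDomain A] [IsNoetherianRing A]
    (X : Scheme.{u}) (f : X ⟶ Spec (CommRingCat.of A)) (hf : Curv2.IsAlteration f)
    (hreg : ∀ x : X, IsRegularLocalRing (X.presheaf.stalk x)) :
    CAlg.IsN1 A ∧ ∃ U : (Spec (CommRingCat.of A)).Opens, (U : Set (Spec (CommRingCat.of A))).Nonempty ∧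
      ∀ y ∈ U, IsRegularLocalRing ((Spec (CommRingCat.of A)).presheaf.stalk y) := by
  obtain ⟨hp, hX, -, hdom, -⟩ := hf
  haveI := hp; haveI := hX; haveI := hdom
  refine ⟨?_, ?_⟩
  · haveI : IsSchemeTheoreticallyDominant f := .of_isDominant f
    let φ : A →+* Γ(X, ⊤) := f.appTop.hom.comp (Scheme.ΓSpecIso (CommRingCat.of A)).inv.hom
    have hφfin : φ.Finite := (Groth.Agent.S1297.finite_appTop f).comp
      (RingHom.Finite.of_surjective _
        (Scheme.ΓSpecIso (CommRingCat.of A)).symm.commRingCatIsoToRingEquiv.surjective)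
    have hξ : genericPoint X ∈ (⊤ : X.Opens) := trivial
    let γ : Γ(X, ⊤) →+* X.functionField := (X.presheaf.germ ⊤ (genericPoint X) hξ).hom
    have hγ : Function.Injective γ := germ_injective_of_isIntegral X _ hξ
    have hφ : Function.Injective φ := (f.app_injective ⊤).comp
      (Scheme.ΓSpecIso (CommRingCat.of A)).symm.commRingCatIsoToRingEquiv.injective
    have hγφ : Function.Injective (γ.comp φ) := hγ.comp hφ
    have hN : ∀ x : X, IsIntegrallyClosed (X.presheaf.stalk x) := fun x =>
      haveI := hreg x
      Groth.Agent.RegLoc6.isIntegrallyClosed_of_isRegularLocalRing _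
    exact isN1_of_finite_extension φ γ hφfin hγ hγφ
      (fun y hy => Groth.Agent.Triage.NormInX.exists_section hN hξ y hy)
  · obtain ⟨W, hW, -, hflat, -⟩ := FlatMisc.exists_flat_open f ⊤ ⟨Classical.arbitrary _, trivial⟩
    haveI := hflat
    refine ⟨W, hW, fun y hy => ?_⟩
    have hsurj : Function.Surjective f :=
      Set.range_eq_univ.1 ((f.isClosedMap.isClosed_range.closure_eq).symm.trans f.denseRange.closure_range)
    obtain ⟨x, rfl⟩ := hsurj y
    exact isRegularLocalRing_of_flat_restrict f x hy (hreg x)

end Groth.Agent.S1600
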