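import Groth.Statements.S16005
import Groth.Agent.VBCurvesLib.Higgs
-- import your own Groth.Agent.* helpers here

set_option autoImplicit false
set_option linter.style.haveILetI false
set_option linter.unusedVariables false
set_option backward.isDefEq.respectTransparency false
set_option backward.isDefEq.respectTransparency.types false
open CategoryTheory AlgebraicGeometry CategoryTheory.Limits
open VBCurve

namespace Groth.Agent.S16005

open Groth.Agent.CurveBundle Groth.Agent.CurveSlope Groth.Agent.CurveStable Groth.Agent.VBCurvesLib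
open Groth.Agent.CurveHiggs (twist twist_comp twist_zero mono_twist)

/-- Let X be a smooth proper integral curve over the complex numbers and L an invertible O_X-module; an
L-valued pair is a finite locally free O_X-module E of rank r ≥ 1 with a map φ : E → E ⊗ L; a
submodule j : G → E (a monomorphism) is φ-invariant when some χ : G → G ⊗ L followed by j ⊗ L equals
j followed by φ; the pair is semistable when deg G · r ≤ deg E · n for every φ-invariant finite
locally free submodule G of rank n ≥ 1, degrees being χ − rank · χ(O_X). Let (E, φ) be a pair and ψ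
: E → E an endomorphism commuting with φ (ψ followed by φ equals φ followed by ψ ⊗ L); a submodule
is ψ-invariant when ψ restricts to an endomorphism of it. Then (E, φ, ψ) is semistable, meaning deg
G · r ≤ deg E · n for every finite locally free submodule G of rank n ≥ 1 that is both φ-invariant
and ψ-invariant, if and only if the pair (E, φ) is semistable. (The published statement takes L to
be the canonical sheaf; the row allows any invertible L.) -/
theorem result
    (X : Scheme.{0}) [X.Over (Spec (CommRingCat.of ℂ))] [IsIntegral X]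
    [IsProper (X ↘ Spec (CommRingCat.of ℂ))] [Smooth (X ↘ Spec (CommRingCat.of ℂ))]
    (hdim : topologicalKrullDim X = 1)
    (L : X.Modules) (hL : PicF.IsInvertible L)
    (r : ℕ) (hr : 0 < r) (E : X.Modules) (hE : FlatMod.IsFinLocFreeOfRank r E)
    (φ : E ⟶ CohB1.tensorMod E L) (ψ : E ⟶ E)
    (hcomm : ψ ≫ φ = φ ≫ (CohB1.sheafifyMod X).map (MonoidalCategoryStruct.whiskerRight (C := CohB1.PMod X) ψ.val (CohB1.toPMod L))) :
    (∀ (G : X.Modules) (n : ℕ) (j : G ⟶ E) (χ : G ⟶ CohB1.tensorMod G L) (ψ' : G ⟶ G), Mono j → 0 < n →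
      FlatMod.IsFinLocFreeOfRank n G →
      χ ≫ (CohB1.sheafifyMod X).map (MonoidalCategoryStruct.whiskerRight (C := CohB1.PMod X) j.val (CohB1.toPMod L)) = j ≫ φ → ψ' ≫ j = j ≫ ψ →
      Curv2.deg ℂ X G n * (r : ℤ) ≤ Curv2.deg ℂ X E r * (n : ℤ)) ↔
    (∀ (G : X.Modules) (n : ℕ) (j : G ⟶ E) (χ : G ⟶ CohB1.tensorMod G L), Mono j → 0 < n →
      FlatMod.IsFinLocFreeOfRank n G →
      χ ≫ (CohB1.sheafifyMod X).map (MonoidalCategoryStruct.whiskerRight (C := CohB1.PMod X) j.val (CohB1.toPMod L)) = j ≫ φ →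
      Curv2.deg ℂ X G n * (r : ℤ) ≤ Curv2.deg ℂ X E r * (n : ℤ)) := by
  constructor
  · intro hpair G n j χ hj hn hG hχ
    have hEf := isFinLocFree_of_rank hE
    haveI := isLocallyNoetherian' ℂ (X := X)
    have hr0 : 0 < rk E := by rw [rk_eq hE]; exact hr
    obtain ⟨E₁, i₁, hi₁, hpos, hE₁, hP₁, hmax⟩ := exists_max_slope_of ℂ hdim.le hEf
      (fun G j => Inv φ j) ⟨E, 𝟙 E, inferInstance, hEf, hr0, φ, by simp [twist]⟩
    haveI := hi₁
    have hE₁c := coh_of_free ℂ hE₁
    obtain ⟨C, P, p, ι, a, w, hSP, hP, hC, ha, hma, hK, hK0, hrP, -, hdP, -⟩ :=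
      exists_saturation ℂ hdim hEf hE₁c i₁
    haveI : Mono ι := hSP.mono_f
    haveI : Epi p := hSP.epi_g
    have hinv := inv_saturation ℂ hdim hL φ i₁ hP₁ ι p w hSP hC a ha hK hK0
    have hdP' : dg ℂ P = dg ℂ E₁ := by
      have h := (hmax P ι inferInstance hP (hrP ▸ hpos) hinv).1
      rw [hrP] at h
      exact le_antisymm (le_of_mul_le_mul_right h (by exact_mod_cast hpos)) hdP
    obtain ⟨χP, hχP⟩ := id hinv
    let φC : C ⟶ (DCoh.tensorBi.obj C).obj L := hSP.exact.desc (φ ≫ twist L p) (by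
      show ι ≫ φ ≫ twist L p = 0
      rw [← reassoc_of% hχP, ← twist_comp, w, twist_zero, comp_zero])
    have hφC : p ≫ φC = φ ≫ twist L p := hSP.exact.g_desc _ _
    let f : P ⟶ C := ι ≫ ψ ≫ p
    have hf : f ≫ φC = χP ≫ twist L f := by
      simp only [f, Category.assoc, hφC]
      rw [reassoc_of% hcomm]
      show ι ≫ φ ≫ twist L ψ ≫ twist L p = _
      rw [← reassoc_of% hχP, ← twist_comp, ← twist_comp]
    obtain ⟨I, π, jI, hjI, hπ, hfac, hKf, hI, hrk, hdg, hfpos, -⟩ := exists_decomp ℂ hdim.le hP hC f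
    haveI := hjI
    haveI := hπ
    obtain ⟨hKi, hIi⟩ := Groth.Agent.CurveHiggs.exists_invariant
      (isFinLocFree_of_rank (Groth.Agent.InvEnd.isFinLocFreeOfRank_one hL)) χP φC f hf π jI hfac
    have hf0 : f = 0 := by
      by_contra hne
      have hI0 := hfpos hne
      have hPc := coh_of_free ℂ hP
      have hCc := coh_of_free ℂ hC
      have hEc := coh_of_free ℂ hEf
      have hkk : dg ℂ (kernel f) * (rk E₁ : ℤ) ≤ dg ℂ E₁ * (rk (kernel f) : ℤ) := by
        rcases Nat.eq_zero_or_pos (rk (kernel f)) with h0 | h0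
        · rw [h0, dg_eq_zero_of_isZero ℂ (isZero_of_rk_zero hKf h0)]
          simp
        · exact (hmax _ (kernel.ι f ≫ ι) inferInstance hKf h0 (Inv.comp hχP hKi)).1
      haveI : Epi (p ≫ cokernel.π jI) := epi_comp _ _
      have hDc : Coh.IsCoh (cokernel jI) := QCoh.isCoh_cokernel (coh_of_free ℂ hI).1 hCc jI
      have hQc := QCoh.isCoh_kernel hEc hDc (p ≫ cokernel.π jI)
      have hQf := isFinLocFree_of_mono ℂ hdim.le hQc (kernel.ι (p ≫ cokernel.π jI)) hEf
      have r1 := rk_add_coh ℂ _ _ _ (shortExact_kernel_of_epi (p ≫ cokernel.π jI)) hEc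
      have d1 := dg_add ℂ _ _ _ (shortExact_kernel_of_epi (p ≫ cokernel.π jI)) hQc hEc hDc
      have r2 := rk_add_coh ℂ _ _ _ (shortExact_cokernel_of_mono jI) hCc
      have d2 := dg_add ℂ _ _ _ (shortExact_cokernel_of_mono jI) (coh_of_free ℂ hI) hCc hDc
      have r3 := rk_add_coh ℂ _ _ w hSP hEc
      have d3 := dg_add ℂ _ _ w hSP hPc hEc hCc
      obtain ⟨h5, h6⟩ := hmax _ (kernel.ι (p ≫ cokernel.π jI)) inferInstance hQf (by omega)
        (inv_preimage hL φ φC p hφC jI hIi)
      have r4 : rk (kernel (p ≫ cokernel.π jI)) = rk E₁ + rk I := by omega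
      have d4 : dg ℂ (kernel (p ≫ cokernel.π jI)) = dg ℂ E₁ + dg ℂ I := by omega
      rw [d4, r4] at h5 h6
      push_cast at h5 h6
      have hrZ : (rk E₁ : ℤ) = (rk (kernel f) : ℤ) + (rk I : ℤ) := by
        exact_mod_cast hrP.symm.trans hrk
      rw [hdP'] at hdg
      rw [hrZ] at hkk h5 h6
      rw [hdg] at hkk h5 h6
      have := h6 (by linarith)
      omega
    have hlift : (ι ≫ ψ) ≫ p = 0 := by rw [Category.assoc]; exact hf0
    let ψ' : P ⟶ P := hSP.exact.lift (ι ≫ ψ) hlift
    have hψ' : ψ' ≫ ι = ι ≫ ψ := hSP.exact.lift_f _ _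
    have h7 := hpair P (rk P) ι χP ψ' inferInstance (hrP ▸ hpos) (isFinLocFreeOfRank_rk hP) hχP hψ'
    rw [deg_eq_dg ℂ hE, deg_eq_dg ℂ (isFinLocFreeOfRank_rk hP), hrP, hdP'] at h7
    have h8 := (hmax G j hj (isFinLocFree_of_rank hG) (by rw [rk_eq hG]; exact hn) ⟨χ, hχ⟩).1
    rw [rk_eq hG] at h8
    rw [deg_eq_dg ℂ hG, deg_eq_dg ℂ hE]
    refine le_of_mul_le_mul_right ?_ (show (0 : ℤ) < rk E₁ by exact_mod_cast hpos)
    linarith [mul_le_mul_of_nonneg_right h8 (Int.natCast_nonneg r),
      mul_le_mul_of_nonneg_right h7 (Int.natCast_nonneg n)]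
  · intro h G n j χ ψ' hj hn hG hχ _
    exact h G n j χ hj hn hG hχ

end Groth.Agent.S16005
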