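import Groth.Statements.S16006
import Groth.Agent.VBCurvesLib.Higgs
import Groth.Agent.S12632
-- import your own Groth.Agent.* helpers here

set_option autoImplicit false
set_option linter.style.haveILetI false
set_option linter.unusedVariables false
set_option backward.isDefEq.respectTransparency false
set_option backward.isDefEq.respectTransparency.types false
open CategoryTheory AlgebraicGeometry CategoryTheory.Limits
open VBCurve

namespace Groth.Agent.S16006

open Groth.Agent.CurveBundle Groth.Agent.CurveSlope Groth.Agent.CurveStable Groth.Agent.VBCurvesLib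
open Groth.Agent.CurveHiggs (twist twist_comp twist_zero mono_twist)

/-- Let X be a smooth proper integral curve of genus 1 over the complex numbers (genus = dim H¹(O_X))
and L an invertible O_X-module of degree 0 such that L ⊗ L is not isomorphic to O_X; an L-valued
pair is a finite locally free O_X-module E of rank r ≥ 1 with a map φ : E → E ⊗ L; a submodule j : G
→ E (a monomorphism) is φ-invariant when some χ : G → G ⊗ L followed by j ⊗ L equals j followed by
φ; the pair is semistable when deg G · r ≤ deg E · n for every φ-invariant finite locally free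
submodule G of rank n ≥ 1, degrees being χ − rank · χ(O_X), and it is stable when deg G · r < deg E
· n for every φ-invariant finite locally free submodule G of rank n with 1 ≤ n < r. If (E, φ) is a
stable pair of rank 2, then E is slope-stable as a module of rank 2: deg G · 2 < deg E · n for every
finite locally free submodule G of rank n with 1 ≤ n < 2, φ-invariant or not. (The published
statement assumes only that L is not isomorphic to O_X. For L of order two and E = O_X ⊕ L, the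
isomorphism φ : E → E ⊗ L = (O_X ⊗ L) ⊕ (L ⊗ L) that maps the summand O_X of E onto the summand L ⊗
L ≅ O_X and the summand L onto O_X ⊗ L ≅ L leaves no rank-one submodule of degree 0 invariant, so
(E, φ) is a stable pair while E is not stable; the published argument derives L ⊗ L ≅ O_X in the
split case, so the row assumes L ⊗ L ≄ O_X.) -/
theorem result
    (X : Scheme.{0}) [X.Over (Spec (CommRingCat.of ℂ))] [IsIntegral X]
    [IsProper (X ↘ Spec (CommRingCat.of ℂ))] [Smooth (X ↘ Spec (CommRingCat.of ℂ))]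
    (hdim : topologicalKrullDim X = 1)
    (hg : Curv2.genus ℂ X = 1)
    (L : X.Modules) (hL : PicF.IsInvertible L) (hL0 : Curv2.deg ℂ X L 1 = 0)
    (hL2 : ¬ Nonempty (CohB1.tensorMod L L ≅ Coh.structureModule X))
    (E : X.Modules) (hE : FlatMod.IsFinLocFreeOfRank 2 E)
    (φ : E ⟶ CohB1.tensorMod E L)
    (hst : (∀ (G : X.Modules) (n : ℕ) (j : G ⟶ E) (χ : G ⟶ CohB1.tensorMod G L), Mono j → 0 < n → n < 2 →
      FlatMod.IsFinLocFreeOfRank n G →
      χ ≫ (CohB1.sheafifyMod X).map (MonoidalCategoryStruct.whiskerRight (C := CohB1.PMod X) j.val (CohB1.toPMod L)) = j ≫ φ →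
      Curv2.deg ℂ X G n * (2 : ℤ) < Curv2.deg ℂ X E 2 * (n : ℤ))) :
    ∀ (G : X.Modules) (n : ℕ) (j : G ⟶ E), Mono j → 0 < n → n < 2 → FlatMod.IsFinLocFreeOfRank n G →
      Curv2.deg ℂ X G n * (2 : ℤ) < Curv2.deg ℂ X E 2 * (n : ℤ) := by
  intro G n j hj hn hn2 hG
  obtain rfl : n = 1 := by omega
  haveI := hj
  haveI := isLocallyNoetherian' ℂ (X := X)
  have hEf := isFinLocFree_of_rank hE
  have hEc := coh_of_free ℂ hEf
  have hst' : ∀ (G : X.Modules) (j : G ⟶ E), Mono j → FlatMod.IsFinLocFree G → rk G = 1 → Inv φ j →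
      dg ℂ G * 2 < dg ℂ E := fun G j hj hG hr hinv => by
    obtain ⟨χ, hχ⟩ := hinv
    have h := hst G 1 j χ hj one_pos one_lt_two (hr ▸ isFinLocFreeOfRank_rk hG) hχ
    rw [deg_eq_dg ℂ hE, deg_eq_dg ℂ (hr ▸ isFinLocFreeOfRank_rk hG)] at h
    simpa using h
  obtain ⟨E₁, i₁, hi₁, hpos, hE₁, hQ₁, hr₁, hd₁, h1, h2⟩ := exists_max_destab ℂ hdim two_pos hE
  haveI := hi₁
  rw [rk_eq hE] at hr₁
  have hinv := inv_max_destab ℂ hdim hL hL0 φ i₁ hE₁ hQ₁ h1 h2
  have h3 := h1 G j hj (isFinLocFree_of_rank hG)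
  rw [rk_eq hG] at h3
  rw [deg_eq_dg ℂ hG, deg_eq_dg ℂ hE]
  push_cast at h3 ⊢
  rw [mul_one] at h3 ⊢
  by_cases hr1 : rk E₁ = 1
  · have := hst' E₁ i₁ hi₁ hE₁ hr1 hinv
    rw [hr1] at h3
    push_cast at h3
    linarith
  have hr2 : rk E₁ = 2 := by omega
  have hdQ := dg_eq_zero_of_isZero ℂ (isZero_of_rk_zero hQ₁ (by omega))
  have hd12 : dg ℂ E₁ = dg ℂ E := by omega
  rw [hr2, hd12] at h3 h1
  push_cast at h3 h1
  refine lt_of_le_of_ne h3 fun heq => ?_
  have hGc := coh_of_free ℂ (isFinLocFree_of_rank hG)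
  have hS := shortExact_cokernel_of_mono j
  have hQc : Coh.IsCoh (cokernel j) := QCoh.isCoh_cokernel hGc.1 hEc j
  have hQ := isFinLocFree_of_max ℂ hdim.le j (cokernel.π j) _ hS hGc hEf hQc
    (fun F g hg hF hrF => by
      have := h1 F g hg hF
      rw [hrF, rk_eq hG] at this
      push_cast at this
      linarith)
  have hrQ := rk_add_coh ℂ _ _ _ hS hEc
  rw [rk_eq hE, rk_eq hG] at hrQ
  have hdQ' := dg_add ℂ _ _ _ hS hGc hEc hQc
  have hQ1 : FlatMod.IsFinLocFreeOfRank 1 (cokernel j) :=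
    (show rk (cokernel j) = 1 by omega) ▸ isFinLocFreeOfRank_rk hQ
  have hG1 := Groth.Agent.CurveDuality.isInvertible_of_rank_one hG
  have hQi := Groth.Agent.CurveDuality.isInvertible_of_rank_one hQ1
  have hLQ : PicF.IsInvertible ((DCoh.tensorBi.obj (cokernel j)).obj L) :=
    Groth.Agent.InvX.isInvertible_tensorMod hQi hL
  have hLG : PicF.IsInvertible ((DCoh.tensorBi.obj G).obj L) :=
    Groth.Agent.InvX.isInvertible_tensorMod hG1 hL
  have hdeg : ∀ {M : X.Modules}, PicF.IsInvertible M →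
      Curv2.deg ℂ X ((DCoh.tensorBi.obj M).obj L) 1 = Curv2.deg ℂ X M 1 := fun {M} hM => by
    rw [Groth.Agent.CurveRR.deg_tensor ℂ hdim hM hL, hL0, add_zero]
  have hLf := isFinLocFree_of_rank (Groth.Agent.InvEnd.isFinLocFreeOfRank_one hL)
  let f : G ⟶ (DCoh.tensorBi.obj (cokernel j)).obj L := (j ≫ φ) ≫ twist L (cokernel.π j)
  by_cases hf : f = 0
  · obtain ⟨y, hy⟩ := Groth.Agent.CurveHiggs.exists_lift hLf _ _ (cokernel.condition j) hS (j ≫ φ) hf
    have := hst' G j hj (isFinLocFree_of_rank hG) (rk_eq hG) ⟨y, hy⟩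
    omega
  haveI := (Groth.Agent.CurveDeg.deg_le_and_isIso ℂ hdim.le hG1 hLQ f hf).2
    (by rw [hdeg hQi, deg_eq_dg ℂ hG, deg_eq_dg ℂ hQ1]; omega)
  obtain ⟨D, hD, ⟨d0⟩⟩ := Groth.Agent.H23.PicInv.exists_inverse hQi
  have e : (DCoh.tensorBi.obj D).obj (cokernel j) ≅ Coh.structureModule X :=
    Groth.Agent.CurveTensor.commIso D (cokernel j) ≪≫ d0
  have hnL : ¬ Nonempty (L ≅ Coh.structureModule X) := fun ⟨u⟩ => hL2
    ⟨(DCoh.tensorBi.obj L).mapIso u ≪≫ Groth.Agent.KFlatLib.tensorUnitIso L ≪≫ u⟩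
  have hO := Groth.Agent.CurveCohLib.finrank_h0_eq_one ℂ X
  have hH1 : Subsingleton (Coh.HH X L 1) := by
    obtain ⟨ω, μ, hω⟩ := Groth.Agent.CurveDuality.exists_isDualizing ℂ (X := X) hdim
    obtain ⟨u⟩ := Groth.Agent.CurveDuality.nonempty_iso_of_genus_one ℂ hO hω hdim hg
    refine (Groth.Agent.CurveDuality.subsingleton_HH_one_iff ℂ hω hdim hLf).2 fun q => ?_
    by_contra hq
    haveI := (Groth.Agent.CurveDeg.deg_le_and_isIso ℂ hdim.le hL
      Groth.Agent.CurveDeg.isInvertible_structureModule (q ≫ u.inv)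
      (fun h0 => hq (by rw [← cancel_mono u.inv, h0, zero_comp]))).2
      (by rw [hL0, Groth.Agent.CurveDeg.deg_structureModule])
    exact hnL ⟨asIso (q ≫ u.inv)⟩
  let eL : (DCoh.tensorBi.obj D).obj G ≅ L :=
    (DCoh.tensorBi.obj D).mapIso (asIso f) ≪≫ (Groth.Agent.CurveRR.cancelIso e).app L
  have hsub : Subsingleton (Coh.HH X ((DCoh.tensorBi.obj D).obj G) 1) :=
    (Groth.Agent.CurveCohLib.hhEquiv (k := ℂ) eL 1).toEquiv.subsingleton
  haveI : IsSplitEpi (cokernel.π j) := Groth.Agent.S12632.result ℂ X hdim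
    (ShortComplex.mk j (cokernel.π j) (cokernel.condition j)) hS 1 hG hQi D ⟨e⟩ hsub
  let spl : (ShortComplex.mk j (cokernel.π j) (cokernel.condition j)).Splitting :=
    ShortComplex.Splitting.ofExactOfSection _ hS.exact (section_ (cokernel.π j))
      (IsSplitEpi.id (cokernel.π j)) inferInstance
  have w2 : spl.s ≫ spl.r = 0 := spl.s_r
  have hS2 : (ShortComplex.mk spl.s spl.r w2).ShortExact :=
    ({ r := cokernel.π j, s := j, f_r := spl.s_g, s_g := spl.f_r
       id := by rw [add_comm]; exact spl.id } : (ShortComplex.mk spl.s spl.r w2).Splitting).shortExact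
  haveI : Mono spl.s := hS2.mono_f
  let f2 : cokernel j ⟶ (DCoh.tensorBi.obj G).obj L := (spl.s ≫ φ) ≫ twist L spl.r
  by_cases hf2 : f2 = 0
  · obtain ⟨y, hy⟩ := Groth.Agent.CurveHiggs.exists_lift hLf _ _ w2 hS2 (spl.s ≫ φ) hf2
    have := hst' (cokernel j) spl.s inferInstance hQ (by omega) ⟨y, hy⟩
    omega
  haveI := (Groth.Agent.CurveDeg.deg_le_and_isIso ℂ hdim.le hQi hLG f2 hf2).2
    (by rw [hdeg hG1, deg_eq_dg ℂ hG, deg_eq_dg ℂ hQ1]; omega)
  refine hL2 ⟨(DCoh.tensorBi.obj L).mapIso eL.symm ≪≫ Groth.Agent.CurveTensor.commIso L _ ≪≫ ?_⟩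
  exact ((Groth.Agent.CurveRR.tensorCompIso D G).app L).symm ≪≫
    (DCoh.tensorBi.obj D).mapIso (asIso f2).symm ≪≫ e

end Groth.Agent.S16006
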