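import Groth.Statements.S16011
import Groth.Agent.GITGhLib.Isotypic
-- import your own Groth.Agent.* helpers here

set_option autoImplicit false
universe u v w x
open W4c3ghconstell

namespace Groth.Agent.S16011

/-- Let k be an algebraically closed field of characteristic zero, A a commutative Hopf algebra over k
which is a finitely generated domain and linearly reductive (the coordinate ring of a connected
reductive group G; irreducible representations of G are indexed by the simple subcoalgebras D of A),
R a Noetherian commutative k-algebra with a multiplicative A-coaction (an affine G-scheme X = Spec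
R), and M an R-module with a compatible A-coaction (a G-equivariant quasi-coherent module on X)
which is finite over R, is the sum of its isotypic components M_D, and has dim_k M_D = h(D) < ∞ for
every simple subcoalgebra D. Fix a weight θ from simple subcoalgebras to ℚ, negative at only
finitely many D, with Σ_D θ(D) h(D) = 0 (a convergent real series) and with θ(D) ≠ 0, h(D) ≠ 0 for
some D; the weight of a k-subspace N of M is the real series Σ_D θ(D) · dim_k (N ∩ M_D). Suppose M
has weight 0 and every non-zero proper R-submodule N of M stable under the coaction and generated as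
an R-module by its isotypic parts N ∩ M_D with θ(D) < 0 has weight ≥ 0. Then M is θ-semistable:
every R-submodule of M stable under the coaction has weight ≥ 0. (The published statement records
multiplicities of irreducible representations rather than dimensions of isotypic components;
rescaling θ translates between the two.) -/
theorem result (k : Type u) [Field k] [IsAlgClosed k] [CharZero k]
    (A : Type v) [CommRing A] [IsDomain A] [HopfAlgebra k A] [Algebra.FiniteType k A]
    (hred : HopfRep.IsLinearlyReductive k A)
    (R : Type w) [CommRing R] [Algebra k R] [IsNoetherianRing R] [HopfRep.Comod k A R] [GLin.IsCoactAlg k A R]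
    (M : Type x) [AddCommGroup M] [Module k M] [Module R M] [IsScalarTower k R M]
    [HopfRep.Comod k A M] [TameAct.IsHopfMod k A R M]
    (h : W4c3ghconstell.SimpSub k A → ℕ) (θ : W4c3ghconstell.SimpSub k A → ℚ)
    (hfin : {D | θ D < 0}.Finite) (hsum : HasSum (fun D => (θ D : ℝ) * (h D : ℝ)) 0)
    (hne : ∃ D, θ D ≠ 0 ∧ h D ≠ 0)
    (hM : W4c3ghconstell.IsConstellation k A R M h)
    (h0 : W4c3ghconstell.theta M θ ⊤ = 0)
    (hss : ∀ N : Submodule R M, HopfRep.IsSubcomod (k := k) (A := A) (N.restrictScalars k) → N ≠ ⊥ → N ≠ ⊤ →
      W4c3ghconstell.genIn k A R M {D | θ D < 0} N = N → 0 ≤ W4c3ghconstell.theta M θ (N.restrictScalars k)) :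
    W4c3ghconstell.IsThetaSemistable k A R M θ := by
  classical
  refine ⟨h0, fun N hN => ?_⟩
  set S : Set (W4c3ghconstell.SimpSub k A) := {D | θ D < 0}
  set N' := W4c3ghconstell.genIn k A R M S N
  have hN' : HopfRep.IsSubcomod (k := k) (A := A) (N'.restrictScalars k) :=
    Groth.Agent.GITGhLib.isSubcomod_genIn S hN
  have hle : W4c3ghconstell.theta M θ (N'.restrictScalars k) ≤ W4c3ghconstell.theta M θ (N.restrictScalars k) :=
    Groth.Agent.GITGhLib.theta_le hM hsum.summable (fun x hx => Groth.Agent.GITGhLib.genIn_le S N hx)
      fun D hD => Groth.Agent.GITGhLib.hilbAt_congr_genIn hM hD N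
  refine le_trans ?_ hle
  by_cases h1 : N' = ⊥
  · rw [h1, Submodule.restrictScalars_bot]
    simp [W4c3ghconstell.theta, Groth.Agent.GITGhLib.hilbAt_bot]
  · by_cases h2 : N' = ⊤
    · rw [h2, Submodule.restrictScalars_top, h0]
    · exact hss N' hN' h1 h2 (Groth.Agent.GITGhLib.genIn_genIn S N)

end Groth.Agent.S16011
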