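import Groth.Statements.S16017
import Mathlib.Analysis.Normed.Group.InfiniteSum
import Mathlib.Algebra.Order.BigOperators.Group.Finset
-- import your own Groth.Agent.* helpers here

set_option autoImplicit false
universe u
open W4c3ghconstell

namespace Groth.Agent.S16017

/-- Let ι index the irreducible representations, θ : ι → ℚ a weight negative at only finitely many
indices (the finite set D₋), h h' : ι → ℕ with h' ≤ h pointwise (the isotypic dimensions of an
object and of a sub-object) and Σ_i θ_i h_i summable. For a finite set D of indices put S_D = Σ_{i ∉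
D} θ_i h_i, d = #(D ∖ D₋), and θ̃_D = Σ_{i ∈ D} θ_i h'_i + (S_D / d) · Σ_{i ∈ D ∖ D₋} h'_i / h_i,
the modified weight attached to the parameters chosen for D (for D ⊇ D₋ the first sum is the
negative part plus the part over D ∖ D₋). Then θ̃_D tends to Σ_i θ_i h'_i as D grows through the
finite subsets of ι. (Here D runs over all finite sets of indices and a quotient by zero is zero;
the source lets D run over the finite subsets of the locus θ ≠ 0 containing D₋, and the same tail
estimate gives both.) -/
theorem result {ι : Type u} [DecidableEq ι] (θ : ι → ℚ) (h h' : ι → ℕ)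
    (hle : ∀ i, h' i ≤ h i) (hfin : {i | θ i < 0}.Finite)
    (hsum : Summable (fun i => (θ i : ℝ) * (h i : ℝ))) :
    Filter.Tendsto
      (fun D : Finset ι =>
        (∑ i ∈ D, (θ i : ℝ) * (h' i : ℝ)) +
          ((∑' i, if i ∈ D then (0 : ℝ) else (θ i : ℝ) * (h i : ℝ)) / ((D \ hfin.toFinset).card : ℝ)) *
            ∑ i ∈ D \ hfin.toFinset, ((h' i : ℝ) / (h i : ℝ)))
      Filter.atTop (nhds (∑' i, (θ i : ℝ) * (h' i : ℝ))) := by
  classical
  set g : ι → ℝ := fun i => (θ i : ℝ) * (h i : ℝ)
  set g' : ι → ℝ := fun i => (θ i : ℝ) * (h' i : ℝ)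
  have hg' : Summable g' := by
    refine Summable.of_norm_bounded hsum.abs fun i => ?_
    rw [Real.norm_eq_abs]
    simp only [g, g', abs_mul]
    refine mul_le_mul_of_nonneg_left ?_ (abs_nonneg (θ i : ℝ))
    simpa using hle i
  have htail : ∀ D : Finset ι, (∑' i, if i ∈ D then (0 : ℝ) else g i) = (∑' i, g i) - ∑ i ∈ D, g i := by
    intro D
    have h1 : HasSum (fun i => if i ∈ D then g i else 0) (∑ i ∈ D, g i) := by
      have h2 : HasSum (fun i => if i ∈ D then g i else 0) (∑ b ∈ D, if b ∈ D then g b else 0) :=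
        hasSum_sum_of_ne_finset_zero (fun b hb => if_neg hb)
      rwa [Finset.sum_congr rfl fun b hb => if_pos hb] at h2
    have h2 := hsum.hasSum.sub h1
    rw [← h2.tsum_eq]
    exact tsum_congr fun i => by split_ifs <;> simp [g]
  have hbound : ∀ D : Finset ι,
      ‖((∑' i, if i ∈ D then (0 : ℝ) else g i) / ((D \ hfin.toFinset).card : ℝ)) *
        ∑ i ∈ D \ hfin.toFinset, ((h' i : ℝ) / (h i : ℝ))‖ ≤ |(∑' i, g i) - ∑ i ∈ D, g i| := by
    intro D
    set r := ∑ i ∈ D \ hfin.toFinset, ((h' i : ℝ) / (h i : ℝ))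
    have hr0 : 0 ≤ r := Finset.sum_nonneg fun i _ => by positivity
    have hr : r ≤ ((D \ hfin.toFinset).card : ℝ) := by
      refine le_trans (Finset.sum_le_sum (g := fun _ => (1 : ℝ)) fun i _ => ?_) (le_of_eq (by simp))
      exact div_le_one_of_le₀ (Nat.cast_le.mpr (hle i)) (Nat.cast_nonneg _)
    rw [htail, Real.norm_eq_abs, div_mul_eq_mul_div, mul_div_assoc, abs_mul]
    refine mul_le_of_le_one_right (abs_nonneg _) ?_
    rw [abs_div, abs_of_nonneg hr0, Nat.abs_cast]
    exact div_le_one_of_le₀ hr (Nat.cast_nonneg _)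
  have h0 : Filter.Tendsto (fun D : Finset ι => |(∑' i, g i) - ∑ i ∈ D, g i|) Filter.atTop (nhds 0) := by
    have := ((tendsto_const_nhds (x := ∑' i, g i)).sub (show Filter.Tendsto (fun D : Finset ι => ∑ i ∈ D, g i)
      Filter.atTop (nhds (∑' i, g i)) from hsum.hasSum)).abs
    simpa using this
  have := (show Filter.Tendsto (fun D : Finset ι => ∑ i ∈ D, g' i) Filter.atTop (nhds (∑' i, g' i)) from
    hg'.hasSum).add (squeeze_zero_norm hbound h0)
  simpa only [add_zero] using this

end Groth.Agent.S16017
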