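import Groth.Statements.S16018
import Groth.Agent.GITGhLib.Isotypic
-- import your own Groth.Agent.* helpers here

set_option autoImplicit false
universe u v w x
open W4c3ghconstell

namespace Groth.Agent.S16018

/-- Let k be an algebraically closed field of characteristic zero, A a commutative Hopf algebra over k
which is a finitely generated domain and linearly reductive (the coordinate ring of a connected
reductive group G; irreducible representations of G are indexed by the simple subcoalgebras D of A),
R a Noetherian commutative k-algebra with a multiplicative A-coaction (an affine G-scheme X = Spec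
R), and M an R-module with a compatible A-coaction (a G-equivariant quasi-coherent module on X)
which is finite over R, is the sum of its isotypic components M_D, and has dim_k M_D = h(D) < ∞ for
every simple subcoalgebra D. Fix a weight θ from simple subcoalgebras to ℚ, negative at only
finitely many D, with Σ_D θ(D) h(D) = 0 (a convergent real series) and with θ(D) ≠ 0, h(D) ≠ 0 for
some D; the weight of a k-subspace N of M is the real series Σ_D θ(D) · dim_k (N ∩ M_D). Assume
moreover that θ(D) ≠ 0 for every simple subcoalgebra D. If M is θ-semistable, i.e. M has weight 0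
and every R-submodule of M stable under the coaction has weight ≥ 0, then M is generated as an
R-module by its isotypic components M_D with θ(D) < 0 (the generation property of θ-stable objects
thus extends to θ-semistable ones when θ vanishes nowhere). (Multiplicities are recorded as
dimensions of isotypic components, a rescaling of θ.) -/
theorem result (k : Type u) [Field k] [IsAlgClosed k] [CharZero k]
    (A : Type v) [CommRing A] [IsDomain A] [HopfAlgebra k A] [Algebra.FiniteType k A]
    (hred : HopfRep.IsLinearlyReductive k A)
    (R : Type w) [CommRing R] [Algebra k R] [IsNoetherianRing R] [HopfRep.Comod k A R] [GLin.IsCoactAlg k A R]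
    (M : Type x) [AddCommGroup M] [Module k M] [Module R M] [IsScalarTower k R M]
    [HopfRep.Comod k A M] [TameAct.IsHopfMod k A R M]
    (h : W4c3ghconstell.SimpSub k A → ℕ) (θ : W4c3ghconstell.SimpSub k A → ℚ)
    (hfin : {D | θ D < 0}.Finite) (hsum : HasSum (fun D => (θ D : ℝ) * (h D : ℝ)) 0)
    (hne : ∃ D, θ D ≠ 0 ∧ h D ≠ 0)
    (hM : W4c3ghconstell.IsConstellation k A R M h)
    (hθ : ∀ D, θ D ≠ 0)
    (hss : W4c3ghconstell.IsThetaSemistable k A R M θ) :
    W4c3ghconstell.genIn k A R M {D | θ D < 0} ⊤ = ⊤ := by
  classical
  open Groth.Agent.GITGhLib in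
  set S : Set (W4c3ghconstell.SimpSub k A) := {D | θ D < 0}
  set N := W4c3ghconstell.genIn k A R M S ⊤
  have hN : HopfRep.IsSubcomod (k := k) (A := A) (N.restrictScalars k) :=
    Groth.Agent.GITGhLib.isSubcomod_genIn S (Groth.Agent.ComodLib.isSubcomod_top (C := A))
  have hnn := hss.2 N hN
  have hsub : ∀ D ∈ S, W4c3ghconstell.hilbAt M (N.restrictScalars k) D = h D := fun D hD => by
    rw [Groth.Agent.GITGhLib.hilbAt_congr_genIn hM hD]
    exact Groth.Agent.GITGhLib.hilbAt_top hM D
  have hle : ∀ D, (θ D : ℝ) * (W4c3ghconstell.hilbAt M (N.restrictScalars k) D : ℝ) ≤ (θ D : ℝ) * (h D : ℝ) := by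
    intro D
    rcases lt_or_ge (θ D) 0 with h1 | h1
    · rw [hsub D h1]
    · exact mul_le_mul_of_nonneg_left (Nat.cast_le.mpr (Groth.Agent.GITGhLib.hilbAt_le hM _ D)) (by exact_mod_cast h1)
  have hall : ∀ D, W4c3ghconstell.hilbAt M (N.restrictScalars k) D = h D := by
    intro D
    by_contra hne'
    have h1 : (θ D : ℝ) * (W4c3ghconstell.hilbAt M (N.restrictScalars k) D : ℝ) ≠ (θ D : ℝ) * (h D : ℝ) := fun e =>
      hne' (Nat.cast_injective (mul_left_cancel₀ (by exact_mod_cast hθ D) e))
    have := Summable.tsum_lt_tsum hle (lt_of_le_of_ne (hle D) h1)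
      (Groth.Agent.GITGhLib.summable_weight hM hsum.summable _) hsum.summable
    rw [hsum.tsum_eq] at this
    exact not_lt.mpr hnn this
  refine (Submodule.restrictScalars_eq_top_iff k R M).mp (top_le_iff.mp ?_)
  rw [← hM.2.1]
  exact iSup_le fun D => Groth.Agent.GITGhLib.isoComp_le_of_hilbAt_eq hM (hall D)

end Groth.Agent.S16018
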