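import Groth.Statements.S16044
import Mathlib

set_option autoImplicit false
universe u
open CategoryTheory CategoryTheory.Limits AlgebraicGeometry
open GrpSch

namespace Groth.Agent.S16044

set_option linter.style.haveILetI false
set_option backward.isDefEq.respectTransparency false
set_option backward.isDefEq.respectTransparency.types false

open scoped TensorProduct
open TensorProduct

attribute [local instance] Algebra.TensorProduct.rightAlgebra in
/-- An element vanishing in the fibre at `p` lies in `p` up to an element outside `p`. -/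
lemma exists_smul_mem {R : Type u} [CommRing R] {B : Type u} [CommRing B] [Algebra R B] (p : Ideal R) [p.IsPrime]
    (x : B) (hx : ((1 : p.ResidueField) ⊗ₜ[R] x : p.Fiber B) = 0) :
    ∃ t ∉ p, t • x ∈ p.map (algebraMap R B) := by
  have h := congrArg (Ideal.Fiber.algEquivAux₁ (S := B) p) hx
  rw [map_zero] at h
  have h1 : ((1 : p.ResidueField) ⊗ₜ[R] x : p.Fiber B) = algebraMap B (p.Fiber B) x := rfl
  rw [h1, AlgEquiv.commutes, IsScalarTower.algebraMap_apply B (Localization (Algebra.algebraMapSubmonoid B p.primeCompl)),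
    Ideal.Quotient.algebraMap_eq, Ideal.Quotient.eq_zero_iff_mem,
    IsLocalization.algebraMap_mem_map_algebraMap_iff (Algebra.algebraMapSubmonoid B p.primeCompl)] at h
  obtain ⟨m, ⟨t, ht, rfl⟩, hm⟩ := h
  exact ⟨t, ht, by rwa [Algebra.smul_def]⟩

/-- A morphism to an affine scheme has zero kernel if it is injective on global functions. -/
lemma ker_eq_bot_of_injective {Z Y : Scheme.{u}} [IsAffine Y] (c : Z ⟶ Y) [QuasiCompact c]
    (h : Function.Injective c.appTop) : c.ker = ⊥ := by
  refine Scheme.IdealSheafData.ext_of_isAffine ?_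
  rw [c.ker_apply ⟨⊤, isAffineOpen_top _⟩, Scheme.IdealSheafData.ideal_bot, Pi.bot_apply,
    ← RingHom.injective_iff_ker_eq_bot]
  exact h

/-- The composite of global sections with the affine piece. -/
lemma fromSpec_appTop {X : Scheme.{u}} {U : X.Opens} (hU : IsAffineOpen U) :
    hU.fromSpec.appTop = X.presheaf.map (homOfLE le_top).op ≫ (Scheme.ΓSpecIso Γ(X, U)).inv := by
  have h := congrArg Scheme.Hom.appTop hU.fromSpec_toSpecΓ
  rw [Scheme.Hom.comp_appTop, Scheme.toSpecΓ_appTop, ← Iso.eq_inv_comp] at h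
  rw [h, Scheme.ΓSpecIso_inv_naturality]

/-- Let S be the spectrum of a discrete valuation ring and X a quasi-compact quasi-separated flat
S-scheme, with canonical morphism c : X ⟶ Spec Γ(X, O_X) over S. Then on each fibre over a point of
S the base change of c is schematically dominant (its kernel ideal sheaf vanishes). -/
theorem result
    (A : Type u) [CommRing A] [IsDomain A] [IsDiscreteValuationRing A]
    (X : Scheme.{u}) (f : X ⟶ Spec (CommRingCat.of A)) [Flat f] [QuasiCompact f] [QuasiSeparated f]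
    (g : Spec Γ(X, ⊤) ⟶ Spec (CommRingCat.of A)) (hg : X.toSpecΓ ≫ g = f) (s : ↥(Spec (CommRingCat.of A))) :
    (pullback.map f ((Spec (CommRingCat.of A)).fromSpecResidueField s) g ((Spec (CommRingCat.of A)).fromSpecResidueField s)
        X.toSpecΓ (𝟙 _) (𝟙 _) ((Category.comp_id f).trans hg.symm)
        ((Category.comp_id _).trans (Category.id_comp _).symm)).ker = ⊥ := by
  obtain ⟨ψ, rfl⟩ : ∃ ψ, g = Spec.map ψ := ⟨Spec.preimage g, (Spec.map_preimage g).symm⟩
  letI : Algebra A Γ(X, ⊤) := ψ.hom.toAlgebra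
  let i := (Spec (CommRingCat.of A)).fromSpecResidueField s
  let κ := s.asIdeal.ResidueField
  let F := s.asIdeal.Fiber Γ(X, ⊤)
  let w := Scheme.Spec.residueFieldIso (CommRingCat.of A) s
  let inlF : CommRingCat.of κ ⟶ CommRingCat.of F := CommRingCat.ofHom Algebra.TensorProduct.includeLeftRingHom
  let inrF : Γ(X, ⊤) ⟶ CommRingCat.of F := CommRingCat.ofHom (Algebra.TensorProduct.includeRight : Γ(X, ⊤) →ₐ[A] F).toRingHom
  have hi : Spec.map w.inv ≫ Spec.map (CommRingCat.ofHom (algebraMap A κ)) = i :=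
    Scheme.Spec.map_residueFieldIso_inv_eq_fromSpecResidueField _ _
  have hP : IsPullback (Spec.map inrF) (Spec.map inlF ≫ Spec.map w.hom) (Spec.map ψ) i := by
    refine (isPullback_SpecMap_of_isPushout _ _ _ _ (CommRingCat.isPushout_tensorProduct A κ Γ(X, ⊤)).flip).of_iso
      (Iso.refl _) (Iso.refl _) (asIso (Spec.map w.hom)) (Iso.refl _) ?_ ?_ ?_ ?_
    · simp [inrF]
    · simp [inlF]
    · simp only [Iso.refl_hom, Category.id_comp, Category.comp_id]
      rfl
    · simp only [Iso.refl_hom, Category.comp_id, asIso_hom, ← hi, ← Spec.map_comp_assoc, Iso.inv_hom_id, Spec.map_id]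
      exact (Category.id_comp _).symm
  have hw : Spec.map w.hom ≫ i = Spec.map (CommRingCat.ofHom (algebraMap A κ)) := by
    rw [← hi, ← Category.assoc, ← Spec.map_comp]
    exact (congrArg (fun m => Spec.map m ≫ _) w.inv_hom_id).trans (by rw [Spec.map_id]; exact Category.id_comp _)
  let T := pullback f i
  let c' : T ⟶ pullback (Spec.map ψ) i := pullback.map f i (Spec.map ψ) i
    X.toSpecΓ (𝟙 _) (𝟙 _) ((Category.comp_id f).trans hg.symm) ((Category.comp_id _).trans (Category.id_comp _).symm)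
  haveI : CompactSpace T := by
    haveI : QuasiCompact (pullback.snd f i) := MorphismProperty.pullback_snd _ _ inferInstance
    exact QuasiCompact.compactSpace_of_compactSpace (pullback.snd f i)
  haveI : IsAffine (pullback (Spec.map ψ) i) := IsAffine.of_isIso hP.isoPullback.inv
  haveI : QuasiCompact c' := inferInstance
  refine ker_eq_bot_of_injective c' ((injective_iff_map_eq_zero c'.appTop.hom).2 fun z hz => ?_)
  let φ : CommRingCat.of F ⟶ Γ(T, ⊤) := (Scheme.ΓSpecIso _).inv ≫ (c' ≫ hP.isoPullback.inv).appTop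
  have hφi : inrF ≫ φ = (pullback.fst f i).appTop := by
    rw [Scheme.ΓSpecIso_inv_naturality_assoc, ← Scheme.Hom.comp_appTop, Category.assoc,
      hP.isoPullback_inv_fst, pullback.lift_fst, Scheme.Hom.comp_appTop, Scheme.toSpecΓ_appTop,
      Iso.inv_hom_id_assoc]
  -- vanishing on the fibre
  have key : ∀ a : Γ(X, ⊤), (pullback.fst f i).appTop a = 0 → ((1 : κ) ⊗ₜ[A] a : F) = 0 := by
    intro a ha
    obtain ⟨r, hr⟩ := (IsPrincipalIdealRing.principal s.asIdeal).principal
    let V : X.affineOpens → X.Opens := fun U => U.1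
    have piece : ∀ U : X.affineOpens, ∃ t, t ∉ s.asIdeal ∧ ∃ b : Γ(X, U.1),
        X.presheaf.map (homOfLE (le_top : U.1 ≤ ⊤)).op (ψ t * a) =
          X.presheaf.map (homOfLE (le_top : U.1 ≤ ⊤)).op (ψ r) * b := by
      intro U
      let σ : Γ(X, ⊤) ⟶ Γ(X, U.1) := X.presheaf.map (homOfLE (le_top : U.1 ≤ ⊤)).op
      letI : Algebra A Γ(X, U.1) := (ψ ≫ σ).hom.toAlgebra
      let FU := s.asIdeal.Fiber Γ(X, U.1)
      let inlU : CommRingCat.of κ ⟶ CommRingCat.of FU := CommRingCat.ofHom Algebra.TensorProduct.includeLeftRingHom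
      let inrU : Γ(X, U.1) ⟶ CommRingCat.of FU := CommRingCat.ofHom (Algebra.TensorProduct.includeRight : Γ(X, U.1) →ₐ[A] FU).toRingHom
      have hU0 : U.2.fromSpec ≫ f = Spec.map (ψ ≫ σ) := by
        rw [← hg, ← Category.assoc, U.2.fromSpec_toSpecΓ, ← Spec.map_comp]
      have hc : CommRingCat.ofHom (algebraMap A κ) ≫ inlU = (ψ ≫ σ) ≫ inrU :=
        (CommRingCat.isPushout_tensorProduct A κ Γ(X, U.1)).w
      obtain ⟨y, hy⟩ : ∃ y : Spec (CommRingCat.of FU) ⟶ T, y ≫ pullback.fst f i = Spec.map inrU ≫ U.2.fromSpec :=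
        ⟨pullback.lift _ (Spec.map inlU ≫ Spec.map w.hom) (by
          rw [Category.assoc, Category.assoc, hU0, hw, ← Spec.map_comp, ← Spec.map_comp, hc]), pullback.lift_fst _ _ _⟩
      have h := congrArg (fun m => m.appTop a) hy
      simp only [Scheme.Hom.comp_appTop, CommRingCat.comp_apply, fromSpec_appTop] at h
      have h2 : (inrU (σ a) : FU) = 0 := by
        have h3 := congrArg (Scheme.ΓSpecIso (CommRingCat.of FU)).hom
          (h.symm.trans ((congrArg _ ha).trans (map_zero y.appTop.hom)))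
        rw [map_zero, ← CommRingCat.comp_apply, ← CommRingCat.comp_apply,
          Scheme.ΓSpecIso_naturality, Iso.inv_hom_id_assoc] at h3
        exact h3
      obtain ⟨t, ht, hm⟩ := exists_smul_mem s.asIdeal (σ a) h2
      rw [hr, ← Ideal.span, Ideal.map_span, Set.image_singleton, Ideal.mem_span_singleton] at hm
      obtain ⟨b, hb⟩ := hm
      refine ⟨t, ht, b, ?_⟩
      rw [map_mul]
      exact hb
    choose t ht b hb using piece
    haveI : CompactSpace X := QuasiCompact.compactSpace_of_compactSpace f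
    obtain ⟨I, hI⟩ := (isCompact_univ (X := X)).elim_finite_subcover (fun U : X.affineOpens => (U.1 : Set X))
      (fun U => U.1.2) (fun x _ => by
        obtain ⟨U, hU, hxU, -⟩ := TopologicalSpace.Opens.isBasis_iff_nbhd.1 X.isBasis_affineOpens
          (show x ∈ (⊤ : X.Opens) from trivial)
        exact Set.mem_iUnion.2 ⟨⟨U, hU⟩, hxU⟩)
    classical
    let t₀ := ∏ U ∈ I, t U
    have ht₀ : t₀ ∉ s.asIdeal := s.asIdeal.primeCompl.prod_mem fun U _ => ht U
    have hb₀ : ∀ U : I, ∃ b₀ : Γ(X, U.1.1),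
        X.presheaf.map (homOfLE (le_top : U.1.1 ≤ ⊤)).op (ψ t₀ * a) =
          X.presheaf.map (homOfLE (le_top : U.1.1 ≤ ⊤)).op (ψ r) * b₀ := by
      intro U
      refine ⟨X.presheaf.map (homOfLE (le_top : U.1.1 ≤ ⊤)).op (ψ (∏ W ∈ I.erase U.1, t W)) * b U.1, ?_⟩
      have e : t₀ = (∏ W ∈ I.erase U.1, t W) * t U.1 := (Finset.prod_erase_mul _ _ U.2).symm
      rw [e, map_mul ψ.hom, mul_assoc, map_mul, hb U.1]
      ring
    obtain ⟨a', ha'⟩ : ∃ a', ψ t₀ * a = ψ r * a' := by
      by_cases hr0 : r = 0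
      · refine ⟨0, ?_⟩
        rw [mul_zero]
        refine X.sheaf.eq_of_locally_eq' (fun U : I => U.1.1) ⊤ (fun _ => homOfLE le_top) ?_ _ _ fun U => ?_
        · intro x _
          obtain ⟨U, hUI, hxU⟩ := Set.mem_iUnion₂.1 (hI (Set.mem_univ x))
          exact TopologicalSpace.Opens.mem_iSup.2 ⟨⟨U, hUI⟩, hxU⟩
        · obtain ⟨b₀, hb₀'⟩ := hb₀ U
          exact hb₀'.trans (by rw [hr0, map_zero, map_zero, zero_mul, map_zero])
      choose b₀ hb₀' using hb₀
      have hnzd : ∀ (W : X.Opens) (x : Γ(X, W)),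
          X.presheaf.map (homOfLE (le_top : W ≤ ⊤)).op (ψ r) * x = 0 → x = 0 := by
        intro W x hx
        refine TopCat.Presheaf.section_ext X.sheaf W x 0 fun p hp => ?_
        obtain ⟨U, hU, hpU, hUW⟩ := TopologicalSpace.Opens.isBasis_iff_nbhd.1 X.isBasis_affineOpens hp
        have hflat := f.flat_appLE (isAffineOpen_top (Spec (CommRingCat.of A))) hU (le_top : U ≤ f ⁻¹ᵁ ⊤)
        let σ : Γ(X, ⊤) ⟶ Γ(X, U) := X.presheaf.map (homOfLE (le_top : U ≤ ⊤)).op
        have hψσ : (Scheme.ΓSpecIso (CommRingCat.of A)).inv ≫ f.appLE ⊤ U le_top = ψ ≫ σ := by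
          have : f.appTop = (Scheme.ΓSpecIso (CommRingCat.of A)).hom ≫ ψ := by
            rw [← hg, Scheme.Hom.comp_appTop, Scheme.toSpecΓ_appTop, Scheme.ΓSpecIso_naturality]
          rw [Scheme.Hom.appLE, show f.app ⊤ = f.appTop from rfl, this]
          rw [Category.assoc, Iso.inv_hom_id_assoc]
        let e := (Scheme.ΓSpecIso (CommRingCat.of A)).commRingCatIsoToRingEquiv
        have hr' : e.symm r ≠ 0 := fun h => hr0 (e.symm.injective (h.trans (map_zero _).symm))
        letI := (f.appLE ⊤ U le_top).hom.toAlgebra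
        haveI : Module.Flat Γ(Spec (CommRingCat.of A), ⊤) Γ(X, U) := hflat
        haveI : IsDomain Γ(Spec (CommRingCat.of A), ⊤) := e.toMulEquiv.isDomain
        have hx' : X.presheaf.map (homOfLE hUW).op x = 0 := by
          have h := congrArg (X.presheaf.map (homOfLE hUW).op) hx
          rw [map_mul, map_zero, ← CommRingCat.comp_apply (X.presheaf.map _), ← Functor.map_comp] at h
          have hs : IsSMulRegular Γ(X, U) (e.symm r) :=
            Module.Flat.isSMulRegular_of_isRegular (IsRegular.of_ne_zero hr')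
          refine hs ?_
          show e.symm r • _ = e.symm r • (0 : Γ(X, U))
          rw [smul_zero, Algebra.smul_def]
          show (f.appLE ⊤ U le_top) ((Scheme.ΓSpecIso (CommRingCat.of A)).inv r) * _ = 0
          rw [← CommRingCat.comp_apply, hψσ]
          exact h
        show X.presheaf.germ W p hp x = X.presheaf.germ W p hp 0
        rw [← X.presheaf.germ_res_apply (homOfLE hUW) p hpU x]
        exact ((congrArg _ hx').trans (map_zero _)).trans (map_zero _).symm
      obtain ⟨a', ha', -⟩ := X.sheaf.existsUnique_gluing' (fun U : I => U.1.1) ⊤ (fun _ => homOfLE le_top)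
        (by
          intro x _
          obtain ⟨U, hUI, hxU⟩ := Set.mem_iUnion₂.1 (hI (Set.mem_univ x))
          exact TopologicalSpace.Opens.mem_iSup.2 ⟨⟨U, hUI⟩, hxU⟩) b₀ (by
          intro U U'
          refine sub_eq_zero.1 (hnzd _ _ ?_)
          have h1 := congrArg (X.presheaf.map (homOfLE (inf_le_left : U.1.1 ⊓ U'.1.1 ≤ U.1.1)).op) (hb₀' U)
          have h2 := congrArg (X.presheaf.map (homOfLE (inf_le_right : U.1.1 ⊓ U'.1.1 ≤ U'.1.1)).op) (hb₀' U')
          simp only [map_mul, ← CommRingCat.comp_apply, ← Functor.map_comp] at h1 h2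
          rw [mul_sub, sub_eq_zero]
          exact h1.symm.trans h2)
      refine ⟨a', X.sheaf.eq_of_locally_eq' (fun U : I => U.1.1) ⊤ (fun _ => homOfLE le_top) ?_ _ _ fun U => ?_⟩
      · intro x _
        obtain ⟨U, hUI, hxU⟩ := Set.mem_iUnion₂.1 (hI (Set.mem_univ x))
        exact TopologicalSpace.Opens.mem_iSup.2 ⟨⟨U, hUI⟩, hxU⟩
      · refine (hb₀' U).trans ?_
        rw [← ha' U]
        exact (map_mul (X.presheaf.map (homOfLE (le_top : U.1.1 ≤ ⊤)).op).hom _ _).symm
    have hu : IsUnit (algebraMap A κ t₀) := Ne.isUnit (fun h => ht₀ (Ideal.algebraMap_residueField_eq_zero.1 h))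
    have h0 : algebraMap A κ r = 0 := Ideal.algebraMap_residueField_eq_zero.2 (by rw [hr]; exact Submodule.mem_span_singleton_self r)
    have h1 : ((algebraMap A κ t₀) ⊗ₜ[A] a : F) = 0 := by
      rw [Algebra.algebraMap_eq_smul_one, smul_tmul, Algebra.smul_def]
      show ((1 : κ) ⊗ₜ[A] (ψ t₀ * a) : F) = 0
      rw [ha', show ψ r * a' = r • a' from rfl, ← smul_tmul, ← Algebra.algebraMap_eq_smul_one, h0, zero_tmul]
    obtain ⟨v, hv⟩ := hu.exists_left_inv
    calc ((1 : κ) ⊗ₜ[A] a : F) = (v ⊗ₜ[A] (1 : Γ(X, ⊤))) * ((algebraMap A κ t₀) ⊗ₜ[A] a) := by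
          rw [Algebra.TensorProduct.tmul_mul_tmul, hv, one_mul]
      _ = 0 := by rw [h1, mul_zero]
  obtain ⟨x, rfl⟩ : ∃ x : F, hP.isoPullback.inv.appTop ((Scheme.ΓSpecIso _).inv x) = z :=
    ((ConcreteCategory.bijective_of_isIso hP.isoPullback.inv.appTop).comp
      (ConcreteCategory.bijective_of_isIso (Scheme.ΓSpecIso _).inv)).2 z
  have hx : φ x = 0 := hz
  obtain ⟨t, ht, a, hta⟩ := Ideal.Fiber.exists_smul_eq_one_tmul _ x
  have hu : IsUnit (algebraMap A F t) := by
    rw [IsScalarTower.algebraMap_apply A κ F]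
    exact (Ne.isUnit (fun h => ht (Ideal.algebraMap_residueField_eq_zero.1 h))).map _
  have h : x = 0 := hu.mul_right_eq_zero.1 (by
    rw [← Algebra.smul_def, hta]
    refine key a ?_
    rw [← hφi]
    show φ (1 ⊗ₜ[A] a) = 0
    rw [← hta, Algebra.smul_def, map_mul, hx, mul_zero])
  rw [h, map_zero, map_zero]

end Groth.Agent.S16044
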