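import Groth.Statements.S16046
import Mathlib
-- import your own Groth.Agent.* helpers here

set_option autoImplicit false
universe u
open TensorProduct
open ValRing

namespace Groth.Agent.S16046

/-- Surjectivity assertion: let A ⊆ A' be valuation rings with fraction fields K ⊆ K', A' dominating A
and A dense in A' for the valuation topology, and L a finite extension of K; put L' = K' ⊗_K L. Then
every element of L' modulo its nilradical which is integral over A' is a finite sum Σ a'ᵢ·lᵢ with
a'ᵢ ∈ A' and lᵢ ∈ L integral over A. (The published statement also identifies the kernel of the map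
from the tensor product with the nilradical; that part is not stated here.) -/
theorem result
    (A K L A' K' : Type u) [CommRing A] [IsDomain A] [ValuationRing A] [Field K] [Algebra A K] [IsFractionRing A K]
    [Field L] [Algebra K L] [FiniteDimensional K L] [Algebra A L] [IsScalarTower A K L]
    [CommRing A'] [IsDomain A'] [ValuationRing A'] [Field K'] [Algebra A' K'] [IsFractionRing A' K']
    [Algebra A A'] [IsLocalHom (algebraMap A A')] (hinj : Function.Injective (algebraMap A A'))
    [Algebra K K'] [Algebra A K'] [IsScalarTower A A' K'] [IsScalarTower A K K']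
    (hdense : ∀ a' b' : A', b' ≠ 0 → ∃ a : A, b' ∣ a' - algebraMap A A' a)
    (x : (K' ⊗[K] L) ⧸ nilradical (K' ⊗[K] L))
    (hx : ((Ideal.Quotient.mk (nilradical (K' ⊗[K] L))).comp
            ((Algebra.TensorProduct.includeLeft : K' →ₐ[K] K' ⊗[K] L).toRingHom.comp (algebraMap A' K'))).IsIntegralElem x) :
    ∃ (n : ℕ) (a : Fin n → A') (l : Fin n → L), (∀ i, IsIntegral A (l i)) ∧
      x = Ideal.Quotient.mk (nilradical (K' ⊗[K] L)) (∑ i, algebraMap A' K' (a i) ⊗ₜ[K] l i) := by
  classical
  let ι' : K' →ₐ[K] K' ⊗[K] L := Algebra.TensorProduct.includeLeft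
  let π := Ideal.Quotient.mk (nilradical (K' ⊗[K] L))
  let θ : A' →+* (K' ⊗[K] L) ⧸ nilradical (K' ⊗[K] L) := π.comp (ι'.toRingHom.comp (algebraMap A' K'))
  -- approximation of elements of `K'`
  have happ : ∀ c : K', ∃ d : K, ∃ r : A', c - algebraMap K K' d = algebraMap A' K' r := fun c => by
    obtain ⟨a', b', hb', rfl⟩ := IsFractionRing.div_surjective A' c
    have hb0 : b' ≠ 0 := nonZeroDivisors.ne_zero hb'
    have hbK : algebraMap A' K' b' ≠ 0 := fun h => hb0 (IsFractionRing.injective A' K' (h.trans (map_zero _).symm))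
    by_cases hu : IsUnit b'
    · obtain ⟨u, rfl⟩ := hu
      exact ⟨0, a' * ↑u⁻¹, by rw [map_zero, sub_zero, div_eq_iff hbK, ← map_mul, Units.inv_mul_cancel_right]⟩
    · obtain ⟨a, r₁, hr₁⟩ := hdense a' (b' * b') (mul_ne_zero hb0 hb0)
      obtain ⟨b, r₂, hr₂⟩ := hdense b' (b' * b') (mul_ne_zero hb0 hb0)
      have hw : IsUnit (1 - b' * r₂) := (IsLocalRing.isUnit_or_isUnit_one_sub_self (b' * r₂)).resolve_left
        fun h => hu (isUnit_of_mul_isUnit_left h)
      obtain ⟨w, hw⟩ := hw
      have hbw : algebraMap A A' b = b' * w := by rw [hw]; linear_combination -hr₂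
      have hwK : algebraMap A' K' w ≠ 0 := (w.isUnit.map (algebraMap A' K')).ne_zero
      refine ⟨algebraMap A K a / algebraMap A K b, (b' * r₁ - a' * r₂) * ↑w⁻¹, ?_⟩
      rw [map_div₀, ← IsScalarTower.algebraMap_apply, ← IsScalarTower.algebraMap_apply,
        IsScalarTower.algebraMap_apply A A' K', IsScalarTower.algebraMap_apply A A' K', hbw]
      have e1 : algebraMap A A' a = a' - b' * b' * r₁ := by linear_combination -hr₁
      have h4 : algebraMap A' K' ↑w⁻¹ * algebraMap A' K' w = 1 := by rw [← map_mul, Units.inv_mul, map_one]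
      have h5 : (algebraMap A' K' w) = 1 - algebraMap A' K' b' * algebraMap A' K' r₂ := by
        rw [hw, map_sub, map_one, map_mul]
      simp only [e1, map_mul, map_sub]
      rw [eq_inv_of_mul_eq_one_left h4]
      field_simp
      rw [h5]
      ring
  -- an integral basis
  obtain ⟨n, bK⟩ : ∃ n, Nonempty (Module.Basis (Fin n) K L) := ⟨_, ⟨Module.finBasis K L⟩⟩
  obtain ⟨bK⟩ := bK
  haveI : Algebra.IsAlgebraic A L := by
    haveI := (IsFractionRing.comap_isAlgebraic_iff (A := A) (K := K) (C := L)).mpr inferInstance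
    infer_instance
  obtain ⟨s, hs, hint⟩ := Algebra.IsAlgebraic.exists_integral_multiples A (Finset.univ.image bK)
  have hsK : algebraMap A K s ≠ 0 := fun h => hs (IsFractionRing.injective A K (h.trans (map_zero _).symm))
  let e : Module.Basis (Fin n) K L := bK.unitsSMul fun _ => Units.mk0 _ hsK
  have he : ∀ i, IsIntegral A (e i) := fun i => by
    rw [Module.Basis.unitsSMul_apply, Units.smul_def, Units.val_mk0, IsScalarTower.algebraMap_smul]
    exact hint _ (Finset.mem_image_of_mem _ (Finset.mem_univ i))
  obtain ⟨y, rfl⟩ := Ideal.Quotient.mk_surjective x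
  let E : Module.Basis (Fin n) K' (K' ⊗[K] L) := Algebra.TensorProduct.basis K' e
  choose d r hdr using fun i => happ (E.repr y i)
  let l : L := ∑ i, d i • e i
  have hy : y = (1 : K') ⊗ₜ[K] l + ∑ i, algebraMap A' K' (r i) ⊗ₜ[K] e i := by
    rw [TensorProduct.tmul_sum, ← Finset.sum_add_distrib]
    conv_lhs => rw [← E.sum_repr y]
    refine Finset.sum_congr rfl fun i _ => ?_
    rw [Algebra.TensorProduct.basis_apply, TensorProduct.smul_tmul', smul_eq_mul, mul_one, ← TensorProduct.smul_tmul,
      ← TensorProduct.add_tmul, ← hdr i, Algebra.smul_def, mul_one, add_sub_cancel]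
  -- `l` is integral over `A`
  have hterm : θ.IsIntegralElem (π ((1 : K') ⊗ₜ[K] l)) := by
    have h1 : θ.IsIntegralElem (π (∑ i, algebraMap A' K' (r i) ⊗ₜ[K] e i)) := by
      letI := θ.toAlgebra
      show IsIntegral A' (π _)
      rw [map_sum]
      refine IsIntegral.sum _ fun i _ => ?_
      have h2 : algebraMap A' K' (r i) ⊗ₜ[K] e i = (algebraMap A' K' (r i) ⊗ₜ[K] (1 : L)) * ((1 : K') ⊗ₜ[K] e i) := by
        rw [Algebra.TensorProduct.tmul_mul_tmul, mul_one, one_mul]
      rw [h2, map_mul]
      refine IsIntegral.mul (isIntegral_algebraMap (R := A') (x := r i)) ?_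
      obtain ⟨P, hP, hPe⟩ := he i
      refine ⟨P.map (algebraMap A A'), hP.map _, ?_⟩
      rw [Polynomial.eval₂_map]
      have hcomp : θ.comp (algebraMap A A') = (π.comp (Algebra.TensorProduct.includeRight : L →ₐ[K] K' ⊗[K] L).toRingHom).comp (algebraMap A L) := by
        refine RingHom.ext fun a => congrArg π ?_
        show algebraMap A' K' (algebraMap A A' a) ⊗ₜ[K] (1 : L) = (1 : K') ⊗ₜ[K] algebraMap A L a
        rw [← IsScalarTower.algebraMap_apply, IsScalarTower.algebraMap_apply A K K', IsScalarTower.algebraMap_apply A K L,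
          Algebra.algebraMap_eq_smul_one (A := K'), Algebra.algebraMap_eq_smul_one (A := L), TensorProduct.smul_tmul]
      show Polynomial.eval₂ (θ.comp (algebraMap A A')) ((π.comp (Algebra.TensorProduct.includeRight : L →ₐ[K] K' ⊗[K] L).toRingHom) (e i)) P = 0
      rw [hcomp, ← Polynomial.hom_eval₂, hPe, map_zero]
    rw [hy, map_add] at hx
    letI := θ.toAlgebra
    have h3 : IsIntegral A' (π ((1 : K') ⊗ₜ[K] l) + π (∑ i, algebraMap A' K' (r i) ⊗ₜ[K] e i)) := hx
    have h4 := h3.sub h1
    rw [add_sub_cancel_right] at h4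
    exact h4
  have hl : IsIntegral A l := by
    obtain ⟨P, hP, hPl⟩ := hterm
    rw [show π ((1 : K') ⊗ₜ[K] l) = (π.comp (RingHom.id _)) ((1 : K') ⊗ₜ[K] l) from rfl] at hPl
    have h0 : Polynomial.eval₂ (ι'.toRingHom.comp (algebraMap A' K')) ((1 : K') ⊗ₜ[K] l) P ∈ nilradical (K' ⊗[K] L) := by
      rw [← Ideal.Quotient.eq_zero_iff_mem, Polynomial.hom_eval₂]
      exact hPl
    obtain ⟨N, hN⟩ := h0
    have hm := minpoly.monic (Algebra.IsIntegral.isIntegral (R := K) l)
    let φ : K' →+* K' ⊗[K] L := ι'.toRingHom
    -- `K' ⊗ K(l) → K' ⊗ L` is injective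
    have hdvd : (minpoly K l).map (algebraMap K K') ∣ (P ^ N).map (algebraMap A' K') := by
      rw [← Polynomial.modByMonic_eq_zero_iff_dvd (hm.map _)]
      have h1 : Polynomial.aeval ((1 : K') ⊗ₜ[K] l) ((P ^ N).map (algebraMap A' K')) = 0 := by
        rw [Polynomial.aeval_def, Polynomial.eval₂_map, Polynomial.eval₂_pow]
        exact hN
      have h2 : Polynomial.aeval ((1 : K') ⊗ₜ[K] l) ((minpoly K l).map (algebraMap K K')) = 0 := by
        rw [Polynomial.aeval_map_algebraMap]
        have := Polynomial.aeval_algHom_apply (Algebra.TensorProduct.includeRight : L →ₐ[K] K' ⊗[K] L) l (minpoly K l)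
        rw [minpoly.aeval, map_zero] at this
        exact this
      generalize (P ^ N).map (algebraMap A' K') = F at h1 ⊢
      have h3 : Polynomial.aeval ((1 : K') ⊗ₜ[K] l) (F %ₘ (minpoly K l).map (algebraMap K K')) = 0 := by
        rw [← Polynomial.modByMonic_add_div F ((minpoly K l).map (algebraMap K K')), map_add, map_mul, h2, zero_mul, add_zero] at h1
        exact h1
      set m := (minpoly K l).natDegree with hmdeg
      let G := F %ₘ (minpoly K l).map (algebraMap K K')
      have hdeg : G.natDegree < m := by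
        rw [hmdeg, ← Polynomial.natDegree_map_eq_of_injective (algebraMap K K').injective]
        refine Polynomial.natDegree_modByMonic_lt F (hm.map _) fun h => ?_
        have := congrArg Polynomial.natDegree h
        rw [Polynomial.natDegree_map_eq_of_injective (algebraMap K K').injective, Polynomial.natDegree_one] at this
        exact absurd this (minpoly.natDegree_pos (Algebra.IsIntegral.isIntegral (R := K) l)).ne'
      let f : (Fin m → K) →ₗ[K] L := Fintype.linearCombination K fun j : Fin m => l ^ (j : ℕ)
      have hf : Function.Injective f := (linearIndependent_pow l).fintypeLinearCombination_injective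
      have hfK := Module.Flat.lTensor_preserves_injective_linearMap (M := K') f hf
      have hz : (LinearMap.lTensor K' f) (∑ j : Fin m, G.coeff j ⊗ₜ[K] Pi.single j 1) = 0 := by
        rw [map_sum]
        refine Eq.trans ?_ h3
        rw [Polynomial.aeval_eq_sum_range' hdeg, ← Fin.sum_univ_eq_sum_range (fun i => G.coeff i • ((1 : K') ⊗ₜ[K] l) ^ i)]
        refine Finset.sum_congr rfl fun j _ => ?_
        rw [LinearMap.lTensor_tmul, Fintype.linearCombination_apply_single, one_smul, Algebra.TensorProduct.tmul_pow,
          one_pow, TensorProduct.smul_tmul', smul_eq_mul, mul_one]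
      rw [← map_zero (LinearMap.lTensor K' f)] at hz
      have h5 := congrArg (TensorProduct.piScalarRight K K' K' (Fin m)) (hfK hz)
      rw [map_sum, map_zero] at h5
      refine Polynomial.ext fun i => ?_
      by_cases hi : i < m
      · have h6 := congrFun h5 ⟨i, hi⟩
        simpa [Finset.sum_apply, Pi.single_apply, ite_smul] using h6
      · rw [Polynomial.coeff_zero]
        exact Polynomial.coeff_eq_zero_of_natDegree_lt (lt_of_lt_of_le hdeg (not_lt.mp hi))
    obtain ⟨g, hg⟩ := IsIntegrallyClosed.eq_map_mul_C_of_dvd K' (hP.pow N) hdvd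
    rw [(hm.map _).leadingCoeff, Polynomial.C_1, mul_one] at hg
    -- coefficients in `K ∩ A' = A`
    have hKA : ∀ c : K, ∀ z : A', algebraMap K K' c = algebraMap A' K' z → c ∈ (algebraMap A K).range := by
      intro c z hz
      obtain ⟨p, q, hq, rfl⟩ := IsFractionRing.div_surjective A c
      have hq0 : q ≠ 0 := nonZeroDivisors.ne_zero hq
      have hqK : algebraMap A K q ≠ 0 := fun h => hq0 (IsFractionRing.injective A K (h.trans (map_zero _).symm))
      obtain ⟨w, hw | hw⟩ := ValuationRing.cond p q
      · -- p * w = q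
        have hzw : z * algebraMap A A' w = 1 := by
          refine IsFractionRing.injective A' K' ?_
          rw [map_mul, ← hz, ← IsScalarTower.algebraMap_apply, IsScalarTower.algebraMap_apply A K K', ← map_mul, map_one,
            div_mul_eq_mul_div, ← map_mul, hw, div_self hqK, map_one]
        have hwu : IsUnit w := IsLocalHom.map_nonunit (f := algebraMap A A') w (isUnit_of_mul_isUnit_right (hzw ▸ isUnit_one))
        obtain ⟨w, rfl⟩ := hwu
        exact ⟨↑w⁻¹, by
          rw [eq_div_iff hqK, ← map_mul]
          congr 1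
          rw [← hw, mul_left_comm, Units.inv_mul, mul_one]⟩
      · exact ⟨w, by rw [eq_div_iff hqK, ← map_mul, mul_comm, hw]⟩
    have hlift : minpoly K l ∈ Polynomial.lifts (algebraMap A K) := by
      rw [Polynomial.lifts_iff_coeff_lifts]
      intro i
      have := congrArg (fun p : Polynomial K' => p.coeff i) hg
      simp only [Polynomial.coeff_map] at this
      exact hKA _ _ this.symm
    obtain ⟨Q, hQ, -, hQm⟩ := Polynomial.lifts_and_natDegree_eq_and_monic hlift hm
    refine ⟨Q, hQm, ?_⟩
    rw [← Polynomial.aeval_def, ← Polynomial.aeval_map_algebraMap K, hQ, minpoly.aeval]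
  refine ⟨n + 1, Fin.cons 1 r, Fin.cons l e, fun i => ?_, ?_⟩
  · induction i using Fin.cases with
    | zero => exact hl
    | succ j => exact he j
  · rw [Fin.sum_univ_succ]
    simp only [Fin.cons_zero, Fin.cons_succ, map_one]
    rw [← hy]

end Groth.Agent.S16046
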