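import Groth.Statements.S16083
import Groth.Agent.Div86.Ref.Extend
import Groth.Agent.Div86.SecFrame
-- import your own Groth.Agent.* helpers here

set_option autoImplicit false
set_option backward.isDefEq.respectTransparency false
set_option backward.isDefEq.respectTransparency.types false
universe u
open CategoryTheory CategoryTheory.Limits AlgebraicGeometry TopologicalSpace
open SDiv

namespace Groth.Agent.S16083

/-- Suppose X is a normal scheme that is integral and locally Noetherian, write η for its generic point,
let F and G be coherent O_X-modules, and let T : G_η → F_η be an O_{X,η}-linear map of generic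
stalks. Then T extends to a morphism G ⟶ F^** — there is a morphism ψ whose stalk map at η is T
followed by the stalk map at η of the canonical map F ⟶ F^** — if and only if for every point x with
dim O_{X,x} = 1 the map T sends the image of G_x in G_η into the image of F_x in F_η. -/
theorem result (X : Scheme.{u}) [IsIntegral X] [IsLocallyNoetherian X]
    (hX : Pi1.IsNormalScheme X) (F G : X.Modules) (hF : Coh.IsCoh F) (hG : Coh.IsCoh G)
    (T : ↑(G.presheaf.stalk (genericPoint ↥X)) →ₗ[↑(X.presheaf.stalk (genericPoint ↥X))]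
      ↑(F.presheaf.stalk (genericPoint ↥X))) :
    (∃ ψ : G ⟶ RefHull.ddual F, RefHull.stalkMapₗ ψ (genericPoint ↥X) =
        (RefHull.stalkMapₗ (RefHull.bidualMap F) (genericPoint ↥X)).comp T) ↔
      ∀ x : ↥X, ringKrullDim ↑(X.presheaf.stalk x) = 1 →
        Set.MapsTo ⇑T
          (Set.range ⇑(G.presheaf.stalkSpecializes ((genericPoint_spec ↥X).specializes (Set.mem_univ x))).hom)
          (Set.range ⇑(F.presheaf.stalkSpecializes ((genericPoint_spec ↥X).specializes (Set.mem_univ x))).hom) := by
  open Groth.Agent.Div86 in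
  constructor
  · rintro ⟨ψ, hψ⟩ x hdim _ ⟨g, rfl⟩
    obtain ⟨f, hf⟩ := Ref.bidual_surjective_codim_one hX ((coheight_eq_one_iff x).1 hdim) hF
      (RefHull.stalkMapₗ ψ x g)
    refine ⟨f, (Ref.bidual_bijective_generic hF).1 ?_⟩
    show RefHull.stalkMapₗ (RefHull.bidualMap F) (genericPoint X) (Ref.toGen F x f) = _
    rw [Ref.toGen_natural, hf, ← Ref.toGen_natural, hψ]
    rfl
  · intro h
    refine Ref.exists_hom hX hG (Ref.isCoh_ddual hF) (Ref.isReflexive_ddual hF) _ fun x hx => ?_
    rintro _ ⟨g, rfl⟩
    obtain ⟨f, hf⟩ := h x ((coheight_eq_one_iff x).2 hx) ⟨g, rfl⟩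
    refine ⟨RefHull.stalkMapₗ (RefHull.bidualMap F) x f, ?_⟩
    rw [← Ref.toGen_natural]
    exact congrArg (RefHull.stalkMapₗ (RefHull.bidualMap F) (genericPoint X)) hf

end Groth.Agent.S16083
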