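import Groth.Statements.S16085
import Groth.Agent.Div86.Ref.Divisor
-- import your own Groth.Agent.* helpers here

set_option autoImplicit false
set_option backward.isDefEq.respectTransparency false
set_option backward.isDefEq.respectTransparency.types false
universe u
open CategoryTheory CategoryTheory.Limits AlgebraicGeometry TopologicalSpace
open SDiv

namespace Groth.Agent.S16085

theorem iso_of_cl_eq {Y : Scheme.{u}} {A B : Y.Modules} (h : PicF.cl A = PicF.cl B) : Nonempty (A ≅ B) := by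
  have h' := Quot.eqvGen_exact h
  clear h
  induction h' with
  | rel _ _ h => exact h
  | refl _ => exact ⟨Iso.refl _⟩
  | symm _ _ _ ih => exact ih.map Iso.symm
  | trans _ _ _ _ _ ih₁ ih₂ =>
    obtain ⟨a⟩ := ih₁
    obtain ⟨b⟩ := ih₂
    exact ⟨a ≪≫ b⟩

/-- Let X be an integral locally Noetherian normal scheme. Sending (F, G) to the reflexive hull (F
⊗_{O_X} G)^** makes the isomorphism classes of rank one coherent reflexive O_X-modules into an
abelian group: on that set there are a commutative and associative composition law, a neutral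
element and inverses, such that the product of the classes of F and G is the class of the reflexive
hull of F ⊗_{O_X} G, the neutral element is the class of O_X, and the inverse of the class of F is
the class of its dual 𝓗om_{O_X}(F, O_X). -/
theorem result (X : Scheme.{u}) [IsIntegral X] [IsLocallyNoetherian X] (hX : Pi1.IsNormalScheme X) :
    ∃ (mul : {c : PicF.Cl X // ∃ F : X.Modules, PicF.cl F = c ∧ RefHull.IsRef1 F} →
          {c : PicF.Cl X // ∃ F : X.Modules, PicF.cl F = c ∧ RefHull.IsRef1 F} →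
            {c : PicF.Cl X // ∃ F : X.Modules, PicF.cl F = c ∧ RefHull.IsRef1 F})
      (one : {c : PicF.Cl X // ∃ F : X.Modules, PicF.cl F = c ∧ RefHull.IsRef1 F})
      (inv : {c : PicF.Cl X // ∃ F : X.Modules, PicF.cl F = c ∧ RefHull.IsRef1 F} →
          {c : PicF.Cl X // ∃ F : X.Modules, PicF.cl F = c ∧ RefHull.IsRef1 F}),
      (∀ a b, mul a b = mul b a) ∧ (∀ a b c, mul (mul a b) c = mul a (mul b c)) ∧ (∀ a, mul one a = a) ∧
        (∀ a, mul (inv a) a = one) ∧
        (∀ (F G : X.Modules) (hF : RefHull.IsRef1 F) (hG : RefHull.IsRef1 G),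
          (mul ⟨PicF.cl F, F, rfl, hF⟩ ⟨PicF.cl G, G, rfl, hG⟩).1 = PicF.cl (RefHull.ddual (CohB1.tensorMod F G))) ∧
        one.1 = PicF.cl (Coh.structureModule X) ∧
        (∀ (F : X.Modules) (hF : RefHull.IsRef1 F), (inv ⟨PicF.cl F, F, rfl, hF⟩).1 = PicF.cl (RefHull.dual F)) := by
  open Groth.Agent.Div86 in
  choose rep hrep hrep1 using fun a : {c : PicF.Cl X // ∃ F : X.Modules, PicF.cl F = c ∧ RefHull.IsRef1 F} => a.2
  let mul : {c : PicF.Cl X // ∃ F : X.Modules, PicF.cl F = c ∧ RefHull.IsRef1 F} →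
      {c : PicF.Cl X // ∃ F : X.Modules, PicF.cl F = c ∧ RefHull.IsRef1 F} →
      {c : PicF.Cl X // ∃ F : X.Modules, PicF.cl F = c ∧ RefHull.IsRef1 F} := fun a b =>
    ⟨_, RefHull.ddual (CohB1.tensorMod (rep a) (rep b)), rfl, Ref.isRef1_ddual_tensor (hrep1 a) (hrep1 b)⟩
  let inv : {c : PicF.Cl X // ∃ F : X.Modules, PicF.cl F = c ∧ RefHull.IsRef1 F} →
      {c : PicF.Cl X // ∃ F : X.Modules, PicF.cl F = c ∧ RefHull.IsRef1 F} := fun a =>
    ⟨_, RefHull.dual (rep a), rfl, Ref.isRef1_dual (hrep1 a)⟩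
  let one : {c : PicF.Cl X // ∃ F : X.Modules, PicF.cl F = c ∧ RefHull.IsRef1 F} :=
    ⟨_, Coh.structureModule X, rfl, Ref.isRef1_unit⟩
  let Has : {c : PicF.Cl X // ∃ F : X.Modules, PicF.cl F = c ∧ RefHull.IsRef1 F} → (↥X → ℤ) → Prop := fun a D =>
    ∀ F : X.Modules, RefHull.IsRef1 F → PicF.cl F = a.1 → ∃ m, m ≠ 0 ∧
      ∀ x, Order.coheight x = 1 → Ref.sord F x m = D x
  -- it suffices to give the divisor on one representative
  have has_of : ∀ (a : {c : PicF.Cl X // ∃ F : X.Modules, PicF.cl F = c ∧ RefHull.IsRef1 F}) (F : X.Modules)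
      (_ : RefHull.IsRef1 F), PicF.cl F = a.1 → ∀ (D : ↥X → ℤ) m, m ≠ 0 →
      (∀ x, Order.coheight x = 1 → Ref.sord F x m = D x) → Has a D := by
    intro a F hF hFa D m hm hD G hG hGa
    obtain ⟨e⟩ := iso_of_cl_eq (hFa.trans hGa.symm)
    refine ⟨RefHull.stalkMapₗ e.hom (genericPoint ↥X) m, fun h0 => hm ?_, fun x hx => ?_⟩
    · obtain ⟨U, hU, q, rfl⟩ := TopCat.Presheaf.exists_germ_eq F.presheaf m
      have h1 := congrArg (RefHull.stalkMapₗ e.inv (genericPoint ↥X)) h0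
      rw [RefHull.stalkMapₗ_germ, RefHull.stalkMapₗ_germ, map_zero] at h1
      exact (congrArg (F.presheaf.germ U _ hU).hom (congrArg (fun p : F ⟶ F => p.app U q) e.hom_inv_id)).symm.trans h1
    · rw [Ref.sord_iso hX hF e hx hm, hD x hx]
  have has_ex : ∀ a, ∃ D, Has a D := fun a => by
    obtain ⟨g, hg⟩ := Ref.exists_isGen_generic (hrep1 a).2.2
    have hg0 : g ≠ 0 := fun h => one_ne_zero (α := X.functionField) (hg.2 1 (by rw [h, smul_zero]))
    exact ⟨_, has_of a _ (hrep1 a) (hrep a) (fun x => Ref.sord (rep a) x g) g hg0 fun _ _ => rfl⟩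
  have has_inj : ∀ a b D D', Has a D → Has b D' → (∀ x, Order.coheight x = 1 → D x = D' x) → a = b := by
    intro a b D D' ha hb h
    obtain ⟨m, hm, hm'⟩ := ha _ (hrep1 a) (hrep a)
    obtain ⟨n, hn, hn'⟩ := hb _ (hrep1 b) (hrep b)
    obtain ⟨e⟩ := Ref.nonempty_iso_of_sord hX (hrep1 a) (hrep1 b) hm hn fun x hx => by
      rw [hm' x hx, hn' x hx, h x hx]
    exact Subtype.ext ((hrep a).symm.trans ((Quot.sound ⟨e⟩).trans (hrep b)))
  have has_mul : ∀ a b D D', Has a D → Has b D' → Has (mul a b) (fun x => D x + D' x) := by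
    intro a b D D' ha hb
    obtain ⟨m, hm, hm'⟩ := ha _ (hrep1 a) (hrep a)
    obtain ⟨n, hn, hn'⟩ := hb _ (hrep1 b) (hrep b)
    obtain ⟨w, hw, hw'⟩ := Ref.exists_sord_add hX (hrep1 a) (hrep1 b) hm hn
    exact has_of _ _ (Ref.isRef1_ddual_tensor (hrep1 a) (hrep1 b)) rfl _ w hw fun x hx => by
      rw [hw' x hx, hm' x hx, hn' x hx]
  have has_inv : ∀ a D, Has a D → Has (inv a) (fun x => - D x) := by
    intro a D ha
    obtain ⟨m, hm, hm'⟩ := ha _ (hrep1 a) (hrep a)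
    obtain ⟨w, hw, hw'⟩ := Ref.exists_sord_dual hX (hrep1 a) hm
    exact has_of _ _ (Ref.isRef1_dual (hrep1 a)) rfl _ w hw fun x hx => by rw [hw' x hx, hm' x hx]
  have has_one : Has one (fun _ => 0) :=
    has_of _ _ Ref.isRef1_unit rfl _ _
      (fun h => one_ne_zero (α := X.functionField) ((Groth.Agent.RefX.unitStalk (genericPoint ↥X)).injective
        (h.trans (map_zero _).symm)))
      fun x hx => Ref.sord_unit hx
  refine ⟨mul, one, inv, fun a b => ?_, fun a b c => ?_, fun a => ?_, fun a => ?_, fun F G hF hG => ?_, rfl,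
    fun F hF => ?_⟩
  · obtain ⟨A, hA⟩ := has_ex a
    obtain ⟨B, hB⟩ := has_ex b
    exact has_inj _ _ _ _ (has_mul _ _ _ _ hA hB) (has_mul _ _ _ _ hB hA) fun x _ => add_comm _ _
  · obtain ⟨A, hA⟩ := has_ex a
    obtain ⟨B, hB⟩ := has_ex b
    obtain ⟨C, hC⟩ := has_ex c
    exact has_inj _ _ _ _ (has_mul _ _ _ _ (has_mul _ _ _ _ hA hB) hC)
      (has_mul _ _ _ _ hA (has_mul _ _ _ _ hB hC)) fun x _ => add_assoc _ _ _
  · obtain ⟨A, hA⟩ := has_ex a
    exact has_inj _ _ _ _ (has_mul _ _ _ _ has_one hA) hA fun x _ => zero_add _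
  · obtain ⟨A, hA⟩ := has_ex a
    exact has_inj _ _ _ _ (has_mul _ _ _ _ (has_inv _ _ hA) hA) has_one fun x _ => neg_add_cancel _
  · obtain ⟨A, hA⟩ := has_ex ⟨PicF.cl F, F, rfl, hF⟩
    obtain ⟨B, hB⟩ := has_ex ⟨PicF.cl G, G, rfl, hG⟩
    obtain ⟨m, hm, hm'⟩ := hA F hF rfl
    obtain ⟨n, hn, hn'⟩ := hB G hG rfl
    obtain ⟨w, hw, hw'⟩ := Ref.exists_sord_add hX hF hG hm hn
    exact congrArg Subtype.val (has_inj _ ⟨_, _, rfl, Ref.isRef1_ddual_tensor hF hG⟩ _ _ (has_mul _ _ _ _ hA hB)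
      (has_of _ _ (Ref.isRef1_ddual_tensor hF hG) rfl _ w hw fun x hx => by rw [hw' x hx, hm' x hx, hn' x hx])
      fun x _ => rfl)
  · obtain ⟨A, hA⟩ := has_ex ⟨PicF.cl F, F, rfl, hF⟩
    obtain ⟨m, hm, hm'⟩ := hA F hF rfl
    obtain ⟨w, hw, hw'⟩ := Ref.exists_sord_dual hX hF hm
    exact congrArg Subtype.val (has_inj _ ⟨_, _, rfl, Ref.isRef1_dual hF⟩ _ _ (has_inv _ _ hA)
      (has_of _ _ (Ref.isRef1_dual hF) rfl _ w hw fun x hx => by rw [hw' x hx, hm' x hx])
      fun x _ => rfl)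

end Groth.Agent.S16085
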