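import Groth.Statements.S16086
import Groth.Agent.Div86.Ref.Ord
-- import your own Groth.Agent.* helpers here

set_option autoImplicit false
set_option backward.isDefEq.respectTransparency false
set_option backward.isDefEq.respectTransparency.types false
universe u
open CategoryTheory CategoryTheory.Limits AlgebraicGeometry TopologicalSpace
open SDiv

namespace Groth.Agent.S16086

/-- The class map is well defined and injective: fix a scheme X that is integral, normal and locally
Noetherian, and write η for its generic point; suppose F and G are rank one coherent reflexive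
O_X-modules and let s ∈ F_η and t ∈ G_η be nonzero rational sections. At a point x of codimension 1
the stalks F_x, G_x are free of rank one over the discrete valuation ring O_{X,x}, so s and t have
orders ord_{x,F}(s), ord_{x,G}(t). Then F ≅ G if and only if the Weil divisors of s and t are
linearly equivalent: for some nonzero rational function f one has ord_{x,F}(s) = ord_{x,G}(t) +
ord_x(f) at every point x of codimension 1. -/
theorem result (X : Scheme.{u}) [IsIntegral X] [IsLocallyNoetherian X]
    (hX : Pi1.IsNormalScheme X) (F G : X.Modules) (hF : RefHull.IsRef1 F) (hG : RefHull.IsRef1 G)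
    (s : Cyc.secFibre F (genericPoint ↥X)) (hs : s ≠ 0) (t : Cyc.secFibre G (genericPoint ↥X)) (ht : t ≠ 0) :
    Nonempty (F ≅ G) ↔
      ∃ f : ↑X.functionField, f ≠ 0 ∧
        ∀ (x : ↥X), Order.coheight x = 1 →
          Cyc.secOrdAt F (genericPoint ↥X) x ((genericPoint_spec ↥X).specializes (Set.mem_univ x)) s =
            Cyc.secOrdAt G (genericPoint ↥X) x ((genericPoint_spec ↥X).specializes (Set.mem_univ x)) t +
              Scheme.ord f x := by
  open Groth.Agent.Div86 Groth.Agent.H23 in
  obtain ⟨m, rfl⟩ := Submodule.Quotient.mk_surjective _ s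
  obtain ⟨n, rfl⟩ := Submodule.Quotient.mk_surjective _ t
  obtain ⟨g, hg⟩ := Ref.exists_isGen_generic hF.2.2
  obtain ⟨g', hg'⟩ := Ref.exists_isGen_generic hG.2.2
  have hm : m ≠ 0 := (Ref.cls_ne_zero_iff hg m).1 hs
  have hn : n ≠ 0 := (Ref.cls_ne_zero_iff hg' n).1 ht
  show _ ↔ ∃ f : ↑X.functionField, f ≠ 0 ∧ ∀ x : ↥X, Order.coheight x = 1 →
    Ref.sord F x m = Ref.sord G x n + Scheme.ord f x
  have hn' := Ref.isGen_of_ne_zero hg' hn
  constructor
  · rintro ⟨e⟩
    obtain ⟨f, hf⟩ := Ref.exists_coord_gen hn' (RefHull.stalkMapₗ e.hom (genericPoint ↥X) m)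
    have he : RefHull.stalkMapₗ e.hom (genericPoint ↥X) m ≠ 0 := by
      intro h0
      have h1 : RefHull.stalkMapₗ e.inv (genericPoint ↥X) (RefHull.stalkMapₗ e.hom (genericPoint ↥X) m) = m := by
        obtain ⟨U, hU, q, rfl⟩ := TopCat.Presheaf.exists_germ_eq F.presheaf m
        rw [RefHull.stalkMapₗ_germ, RefHull.stalkMapₗ_germ]
        exact congrArg (F.presheaf.germ U _ hU).hom (congrArg (fun p : F ⟶ F => p.app U q) e.hom_inv_id)
      exact hm (by rw [← h1, h0, map_zero])
    have hf0 : f ≠ 0 := fun h0 => he (by rw [← hf, h0]; exact zero_smul _ _)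
    refine ⟨f, hf0, fun x hx => ?_⟩
    rw [← Ref.sord_iso hX hF e hx hm, ← hf, Ref.sord_smul hX hG hx hf0 hn]
    ring
  · rintro ⟨f, hf0, hf⟩
    have hfn : f • n ≠ 0 := fun h0 => hf0 (hn'.2 f h0)
    refine Ref.nonempty_iso_of_sord hX hF hG hm hfn fun x hx => ?_
    rw [hf x hx, Ref.sord_smul hX hG hx hf0 hn]
    ring

end Groth.Agent.S16086
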