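import Groth.Statements.S16087
import Groth.Agent.Div86.Ref.Divisor
-- import your own Groth.Agent.* helpers here

set_option autoImplicit false
set_option backward.isDefEq.respectTransparency false
set_option backward.isDefEq.respectTransparency.types false
universe u
open CategoryTheory CategoryTheory.Limits AlgebraicGeometry TopologicalSpace
open SDiv

namespace Groth.Agent.S16087

/-- The class map takes values in Weil divisor classes and is surjective: suppose X is a normal scheme
that is integral and locally Noetherian, and denote its generic point by η. For a rank one coherent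
reflexive O_X-module F and a nonzero rational section s ∈ F_η write ord_{x,F}(s) for the order of s
with respect to a generator of the free rank one O_{X,x}-module F_x at a point x of codimension 1.
Then (1) the function sending a codimension-1 point x to ord_{x,F}(s) and every other point to 0 has
locally finite support, so it is a Weil divisor; and (2) every Weil divisor D on X (an
integer-valued function with locally finite support vanishing outside the codimension-1 points)
arises this way: D(x) = ord_{x,F}(s) at all codimension-1 points x for some rank one coherent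
reflexive F and nonzero s ∈ F_η. -/
theorem result (X : Scheme.{u}) [IsIntegral X] [IsLocallyNoetherian X]
    (hX : Pi1.IsNormalScheme X) :
    (∀ (F : X.Modules) (hF : RefHull.IsRef1 F) (s : Cyc.secFibre F (genericPoint ↥X)), s ≠ 0 →
        ∃ D : AlgebraicCycle X ℤ, (∀ x : ↥X, Order.coheight x ≠ 1 → D x = 0) ∧
          ∀ (x : ↥X), Order.coheight x = 1 →
            D x = Cyc.secOrdAt F (genericPoint ↥X) x ((genericPoint_spec ↥X).specializes (Set.mem_univ x)) s) ∧
      ∀ D : AlgebraicCycle X ℤ, (∀ x : ↥X, Order.coheight x ≠ 1 → D x = 0) →
        ∃ (F : X.Modules) (_ : RefHull.IsRef1 F) (s : Cyc.secFibre F (genericPoint ↥X)), s ≠ 0 ∧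
          ∀ (x : ↥X), Order.coheight x = 1 →
            D x = Cyc.secOrdAt F (genericPoint ↥X) x ((genericPoint_spec ↥X).specializes (Set.mem_univ x)) s := by
  open Groth.Agent.Div86 Groth.Agent.H23 in
  constructor
  · intro F hF s hs
    obtain ⟨m, rfl⟩ := Submodule.Quotient.mk_surjective _ s
    obtain ⟨g, hg⟩ := Ref.exists_isGen_generic hF.2.2
    exact Ref.exists_cycle hX hF ((Ref.cls_ne_zero_iff hg m).1 hs)
  · intro D hD
    obtain ⟨G, hG, w, hw, hw'⟩ := Ref.exists_ref1 hX (fun x => D x)
      (fun x hx => by_contra fun h => hx (hD x h)) fun p => D.supportLocallyFiniteWithinDomain' p trivial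
    obtain ⟨g, hg⟩ := Ref.exists_isGen_generic hG.2.2
    exact ⟨G, hG, RatSec.cls _ _ w, (Ref.cls_ne_zero_iff hg w).2 hw, fun x hx => (hw' x hx).symm⟩

end Groth.Agent.S16087
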