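import Groth.Statements.S16089
import Groth.Agent.Div86.Ref.ModifDet
import Groth.Agent.Div86.Ref.RegTwo

set_option autoImplicit false
set_option linter.style.haveILetI false
set_option backward.isDefEq.respectTransparency false
set_option backward.isDefEq.respectTransparency.types false
universe u
open CategoryTheory CategoryTheory.Limits AlgebraicGeometry TopologicalSpace
open SDiv

namespace Groth.Agent.S16089

open Groth.Agent.Div86 in
/-- Orders of the determinant of the modification at the points of codimension one. -/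
theorem exists_sord_diff {X : Scheme.{u}} [IsIntegral X] [IsLocallyNoetherian X] (hX : Pi1.IsNormalScheme X)
    (𝓓 : X.IdealSheafData) (hD : BlowUp.IsEffCartierIdeal 𝓓) (hDi : IsIntegral 𝓓.subscheme) {s : ℕ}
    {G : (𝓓.subscheme).Modules} (hG : FlatMod.IsFinLocFreeOfRank s G) {F F' : X.Modules} (hF : Coh.IsCoh F)
    (hF' : Coh.IsCoh F') {a : F ⟶ F'} {b : F' ⟶ (Scheme.Modules.pushforward 𝓓.subschemeι).obj G} {w : a ≫ b = 0}
    (hex : (ShortComplex.mk a b w).Exact) (hb : Epi b) {r : ℕ} {L L' : X.Modules}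
    (hL : ExtPow.IsExtPow r F L) (hL' : ExtPow.IsExtPow r F' L')
    (bF : Module.Basis (Fin r) X.functionField (F.presheaf.stalk (genericPoint X)))
    (bF' : Module.Basis (Fin r) X.functionField (F'.presheaf.stalk (genericPoint X))) :
    ∃ (m : (RefHull.ddual L).presheaf.stalk (genericPoint X))
      (m' : (RefHull.ddual L').presheaf.stalk (genericPoint X)), m ≠ 0 ∧ m' ≠ 0 ∧
      ∀ x : X, Order.coheight x = 1 → ∃ d : ℕ, d ≤ r ∧
        Ref.sord (RefHull.ddual L') x m' = Ref.sord (RefHull.ddual L) x m + d ∧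
        (x ∉ 𝓓.support → d = 0) ∧ (x ∈ 𝓓.support → d ≤ s) := by
  classical
  let N := (Scheme.Modules.pushforward 𝓓.subschemeι).obj G
  have hexx : ∀ (x : X) (v : F'.presheaf.stalk x), RefHull.stalkMapₗ b x v = 0 →
      ∃ u, RefHull.stalkMapₗ a x u = v := fun x v hv =>
    (ShortComplex.moduleCat_exact_iff _).1 ((KFlatLib.exact_iff_stalk _).1 hex x) v hv
  have hsurj : ∀ x : X, Function.Surjective (RefHull.stalkMapₗ b x) := fun x =>
    (ModuleCat.epi_iff_surjective ((DerSch.stalkFunctor X x).map b)).1 inferInstance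
  have hba : ∀ (x : X) (u : F.presheaf.stalk x), RefHull.stalkMapₗ b x (RefHull.stalkMapₗ a x u) = 0 := by
    intro x u
    obtain ⟨U, hU, q, rfl⟩ := TopCat.Presheaf.exists_germ_eq F.presheaf u
    rw [RefHull.stalkMapₗ_germ, RefHull.stalkMapₗ_germ]
    exact (congrArg (N.presheaf.germ U x hU).hom
      (congrArg (fun p : F ⟶ N => p.app U q) w)).trans (map_zero _)
  -- the map at the generic point
  haveI : Module.Finite X.functionField (F.presheaf.stalk (genericPoint X)) := Ref.finite_stalk hF _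
  haveI : Module.Finite X.functionField (F'.presheaf.stalk (genericPoint X)) := Ref.finite_stalk hF' _
  have haη : Function.Surjective (RefHull.stalkMapₗ a (genericPoint X)) := fun v =>
    hexx _ v (Modif.stalk_eq_zero G (Modif.generic_notMem_support hD) _)
  let aη : F.presheaf.stalk (genericPoint X) →ₗ[X.functionField] F'.presheaf.stalk (genericPoint X) :=
    RefHull.stalkMapₗ a (genericPoint X)
  have hbij : Function.Bijective aη := by
    refine ⟨(LinearMap.injective_iff_surjective_of_finrank_eq_finrank ?_).2 haη, haη⟩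
    rw [Module.finrank_eq_card_basis bF, Module.finrank_eq_card_basis bF']
  let e := LinearEquiv.ofBijective aη hbij
  refine ⟨ExtP.hull hL hF _ bF, ExtP.hull hL' hF' _ (bF.map e), fun h => ?_, fun h => ?_, fun x hx => ?_⟩
  · exact one_ne_zero (α := X.functionField) ((ExtP.isGen_hull hL hF bF).2 1 (by rw [h]; exact smul_zero _))
  · exact one_ne_zero (α := X.functionField)
      ((ExtP.isGen_hull hL' hF' (bF.map e)).2 1 (by rw [h]; exact smul_zero _))
  obtain ⟨v, bv, hbv, hv⟩ := ExtP.exists_generic_basis hX hF hx bF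
  obtain ⟨v', bv', hbv', hv'⟩ := ExtP.exists_generic_basis hX hF' hx bF'
  let O := X.presheaf.stalk x
  have halg : Function.Injective (algebraMap O X.functionField) := IsFractionRing.injective _ _
  choose co hco using hv'
  let A : Matrix (Fin r) (Fin r) O := Matrix.of fun i j => co (RefHull.stalkMapₗ a x (v j)) i
  have hcol : ∀ j, (e (bv j) : F'.presheaf.stalk (genericPoint X)) =
      ∑ i, algebraMap O X.functionField (A i j) • bv' i := fun j => by
    show RefHull.stalkMapₗ a (genericPoint X) (bv j) = _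
    rw [hbv j, Ref.toGen_natural, hco]
    rfl
  have hdetA : bv'.det (bv.map e) = algebraMap O X.functionField A.det := by
    rw [Module.Basis.det_apply, RingHom.map_det]
    refine congrArg Matrix.det (Matrix.ext fun i j => ?_)
    rw [Module.Basis.toMatrix_apply, Module.Basis.map_apply, hcol j, Module.Basis.repr_sum_self]
    rfl
  have hA0 : A.det ≠ 0 := fun h => (bv'.isUnit_det (bv.map e)).ne_zero (by rw [hdetA, h, map_zero])
  have hb0 : bv.det bF ≠ 0 := (bv.isUnit_det bF).ne_zero
  have hb0' : bv'.det (bF.map e) ≠ 0 := (bv'.isUnit_det (bF.map e)).ne_zero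
  -- coordinates of the elements of the kernel of `b` lie in the image of `A`
  have hrange : ∀ (z : F'.presheaf.stalk x) (c : Fin r → O), RefHull.stalkMapₗ b x z = 0 →
      Ref.toGen F' x z = ∑ i, algebraMap O X.functionField (c i) • bv' i → c ∈ LinearMap.range A.mulVecLin := by
    intro z c hz hc
    obtain ⟨u, rfl⟩ := hexx x z hz
    obtain ⟨d, hd⟩ := hv u
    refine ⟨d, funext fun i => halg ?_⟩
    have h1 := congrArg (fun z => bv'.repr z i) hc
    simp only [Module.Basis.repr_sum_self] at h1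
    refine Eq.trans ?_ h1
    rw [← Ref.toGen_natural, hd]
    show _ = bv'.repr (aη (∑ j, algebraMap O X.functionField (d j) • bv j)) i
    rw [map_sum, map_sum, Finsupp.finsetSum_apply, Matrix.mulVecLin_apply, Matrix.mulVec, dotProduct, map_sum]
    refine Finset.sum_congr rfl fun j _ => ?_
    rw [map_smul, map_smul, Finsupp.smul_apply, show aη (bv j) = e (bv j) from rfl, hcol j,
      Module.Basis.repr_sum_self, smul_eq_mul, map_mul, mul_comm]
  have hsum : ∀ c : Fin r → O, Ref.toGen F' x (∑ i, c i • v' i) =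
      ∑ i, algebraMap O X.functionField (c i) • bv' i := fun c => by
    rw [map_sum]
    exact Finset.sum_congr rfl fun i _ => by rw [Ref.toGen_smul, hbv' i]
  have hkillN : ∀ π ∈ IsLocalRing.maximalIdeal O, ∀ z : N.presheaf.stalk x, π • z = 0 := by
    intro π hπ z
    by_cases hxs : x ∈ 𝓓.support
    · obtain rfl := (Modif.eq_of_mem_support hD hx hxs).symm
      obtain ⟨U, hU, hξ, f, hf, hIf⟩ := CT.exists_chart hD (𝓓.subschemeι (genericPoint 𝓓.subscheme))
      obtain ⟨c, hc⟩ := Ideal.mem_span_singleton'.1 ((Modif.maximalIdeal_eq_span hU hIf hξ).le hπ)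
      rw [← hc, mul_smul, Modif.smul_eq_zero_of_mem G hU (hIf ▸ Ideal.mem_span_singleton_self f) hξ, smul_zero]
    · rw [Modif.stalk_eq_zero G hxs (π • z)]
  have hkill : ∀ π ∈ IsLocalRing.maximalIdeal O, ∀ c : Fin r → O, π • c ∈ LinearMap.range A.mulVecLin := by
    intro π hπ c
    refine hrange _ _ ?_ (hsum (π • c))
    rw [show (∑ i, (π • c) i • v' i) = π • ∑ i, c i • v' i by
      rw [Finset.smul_sum]; exact Finset.sum_congr rfl fun i _ => mul_smul _ _ _, map_smul]
    exact hkillN π hπ _
  haveI := CDiv6.isDVR_of_coheight_one hX hx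
  haveI := krullDimLE_one hx
  have hle : ∀ n : ℕ, Ring.ord O A.det ≤ n → (Ring.ord O A.det).toNat ≤ n := fun n h =>
    (ENat.toNat_le_toNat h (ENat.natCast_ne_top n)).trans (le_of_eq (ENat.toNat_natCast n))
  refine ⟨(Ring.ord O A.det).toNat, ?_, ?_, fun hxs => ?_, fun hxs => ?_⟩
  · refine hle r (Modif.ord_det_le A hA0 (fun k => Pi.single k 1) (fun c => ⟨c, ?_⟩) hkill)
    rw [show c - ∑ k, c k • Pi.single k (1 : O) = 0 by rw [sub_eq_zero]; exact pi_eq_sum_univ' c]
    exact zero_mem _
  · rw [ExtP.sord_hull hL hF hX hx bv hbv hv bF hb0,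
      ExtP.sord_hull hL' hF' hX hx bv' hbv' (fun m => ⟨co m, hco m⟩) (bF.map e) hb0',
      ← Modif.det_mul_det bv' (bv.map e) (bF.map e),
      show (bv.map e).det (bF.map e) = bv.det bF by
        rw [Module.Basis.det_map]
        exact congrArg bv.det (funext fun j => by simp [Module.Basis.map_apply]),
      hdetA, Scheme.ord_mul ((map_ne_zero_iff _ halg).2 hA0) hb0, ord_algebraMap hx hA0, add_comm]
  · -- off the divisor the map is surjective
    refine Nat.le_zero.1 (hle 0 (Modif.ord_det_le (s := 0) A hA0 Fin.elim0 (fun c => ⟨Fin.elim0, ?_⟩) hkill))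
    rw [Finset.univ_eq_empty, Finset.sum_empty, sub_zero]
    exact hrange _ _ (Modif.stalk_eq_zero G hxs _) (hsum c)
  · -- on the divisor the cokernel has `s` generators
    have h := Modif.exists_stalk_gens hG
    obtain ⟨z, rfl⟩ : ∃ z, 𝓓.subschemeι z = x := ⟨_, Modif.eq_of_mem_support hD hx hxs⟩
    obtain ⟨γ, hγ⟩ := h z
    choose u hu using fun k => hsurj _ (γ k)
    refine hle s (Modif.ord_det_le A hA0 (fun k => co (u k)) (fun c => ?_) hkill)
    obtain ⟨d, hd⟩ := hγ (RefHull.stalkMapₗ b _ (∑ i, c i • v' i))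
    refine ⟨d, hrange (∑ i, c i • v' i - ∑ k, d k • u k) _ ?_ ?_⟩
    · rw [map_sub, map_sum (RefHull.stalkMapₗ b _) (fun k => d k • u k), hd, sub_eq_zero]
      exact Finset.sum_congr rfl fun k _ => by rw [map_smul, hu]
    · rw [map_sub, hsum, map_sum]
      simp only [Pi.sub_apply, map_sub, sub_smul, Finset.sum_sub_distrib]
      congr 1
      simp only [Finset.sum_apply, Pi.smul_apply, smul_eq_mul, map_sum, map_mul, Finset.sum_smul]
      rw [Finset.sum_comm]
      refine Finset.sum_congr rfl fun k _ => ?_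
      rw [Ref.toGen_smul, hco (u k), Finset.smul_sum]
      exact Finset.sum_congr rfl fun i _ => (mul_smul _ _ _).symm

/-- Suppose X is an integral regular scheme (locally Noetherian, with every local ring regular) whose
dimension is at most 2. Consider an effective Cartier divisor D ⊆ X with ideal sheaf 𝓓, whose
associated closed subscheme is integral, and write i : D ⟶ X for the closed immersion. Take G to be
a finite locally free O_D-module of rank s, and assume F ⟶ F' ⟶ i_*G ⟶ 0 is exact, where F and F'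
are coherent O_X-modules that are both locally free of rank r on some common nonempty open subset.
Then, for any r-th exterior power L of F and L' of F', the reflexive hulls L^** and L'^** are
invertible O_X-modules, and there is an integer k with 0 ≤ k ≤ min(s, r) such that L'^** ≅ L^** ⊗
O_X(D)^{⊗ k}, where O_X(D) = 𝓗om(𝓓, O_X). Although the published version assumes X has dimension
exactly 2, the proof only needs dimension at most 2. -/
theorem result (X : Scheme.{u}) [IsIntegral X] [IsLocallyNoetherian X]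
    (hreg : ∀ x : ↥X, IsRegularLocalRing ↑(X.presheaf.stalk x)) (hdim : topologicalKrullDim ↥X ≤ 2)
    (𝓓 : X.IdealSheafData) (hD : BlowUp.IsEffCartierIdeal 𝓓) (hDi : IsIntegral 𝓓.subscheme) (s : ℕ)
    (G : (𝓓.subscheme).Modules) (hG : FlatMod.IsFinLocFreeOfRank s G) (F F' : X.Modules) (hF : Coh.IsCoh F)
    (hF' : Coh.IsCoh F') (a : F ⟶ F') (b : F' ⟶ (Scheme.Modules.pushforward 𝓓.subschemeι).obj G) (w : a ≫ b = 0)
    (hex : (ShortComplex.mk a b w).Exact) (hb : Epi b) (r : ℕ)
    (hU : ∃ U : X.Opens, (U : Set ↥X).Nonempty ∧ FlatMod.IsFinLocFreeOfRank r (F.restrict U.ι) ∧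
      FlatMod.IsFinLocFreeOfRank r (F'.restrict U.ι))
    (L L' : X.Modules) (hL : ExtPow.IsExtPow r F L) (hL' : ExtPow.IsExtPow r F' L') :
    PicF.IsInvertible (RefHull.ddual L) ∧ PicF.IsInvertible (RefHull.ddual L') ∧
      ∃ k : ℕ, k ≤ min s r ∧
        Nonempty (RefHull.ddual L' ≅
          CohB1.tensorMod (RefHull.ddual L) (CohB1.tensorPow (RefHull.dual (ClSub.idealMod 𝓓)) k)) := by
  open Groth.Agent.Div86 in
  classical
  have hX := Ref.isNormal_of_regular hreg
  obtain ⟨U, hne, hUF, hUF'⟩ := hU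
  obtain ⟨bF⟩ := Modif.nonempty_basis hF hne hUF
  obtain ⟨bF'⟩ := Modif.nonempty_basis hF' hne hUF'
  have hR := ExtP.isRef1_ddual hL hF bF
  have hR' := ExtP.isRef1_ddual hL' hF' bF'
  have hI := Ref.isInvertible_of_ref1 hreg hdim hR
  refine ⟨hI, Ref.isInvertible_of_ref1 hreg hdim hR', ?_⟩
  obtain ⟨m, m', hm, hm', hord⟩ := exists_sord_diff hX 𝓓 hD hDi hG hF hF' hex hb hL hL' bF bF'
  set ξ := 𝓓.subschemeι (genericPoint 𝓓.subscheme)
  have hξs : ξ ∈ 𝓓.support := by
    have h : ξ ∈ Set.range 𝓓.subschemeι := ⟨_, rfl⟩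
    rwa [Scheme.IdealSheafData.range_subschemeι] at h
  -- the multiplicity
  obtain ⟨k, hk, hk'⟩ : ∃ k : ℕ, k ≤ min s r ∧ ∀ x : X, Order.coheight x = 1 →
      Ref.sord (RefHull.ddual L') x m' = Ref.sord (RefHull.ddual L) x m + (if x ∈ 𝓓.support then (k : ℤ) else 0) := by
    by_cases hξ : Order.coheight ξ = 1
    · obtain ⟨d, hdr, hde, -, hds⟩ := hord ξ hξ
      refine ⟨d, le_min (hds hξs) hdr, fun x hx => ?_⟩
      split_ifs with hxs
      · obtain rfl := Modif.eq_of_mem_support hD hx hxs
        exact hde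
      · obtain ⟨d', -, hde', hd0, -⟩ := hord x hx
        rw [hde', hd0 hxs, Nat.cast_zero]
    · refine ⟨0, zero_le, fun x hx => ?_⟩
      have hxs : x ∉ 𝓓.support := fun hxs => hξ (by rw [show ξ = x from Modif.eq_of_mem_support hD hx hxs]; exact hx)
      obtain ⟨d', -, hde', hd0, -⟩ := hord x hx
      rw [hde', hd0 hxs, if_neg hxs, Nat.cast_zero]
  refine ⟨k, hk, ?_⟩
  -- the module of the divisor
  have hJc := CT.isCoh 𝓓
  have hJR := CT.isRef1_of_isInvertible (CT.isInvertible hD) hJc
  obtain ⟨j, hj, hjord⟩ := CT.exists_sord_one hD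
  obtain ⟨t, ht, htord⟩ := Ref.exists_sord_dual hX hJR hj
  have hte : ∀ x : X, Order.coheight x = 1 →
      Ref.sord (RefHull.dual (ClSub.idealMod 𝓓)) x t = if x ∈ 𝓓.support then 1 else 0 := by
    intro x hx
    obtain ⟨V, hV, hxV, f, hf, hIf⟩ := CT.exists_chart hD x
    rw [htord x hx, hjord x hx V hV hxV f hf hIf, neg_neg]
    haveI : Nonempty V := ⟨⟨x, hxV⟩⟩
    have hne : X.presheaf.germ V x hxV f ≠ 0 := fun h =>
      hf (germ_injective_of_isIntegral X x hxV (h.trans (map_zero _).symm))
    split_ifs with hxs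
    · haveI := CDiv6.isDVR_of_coheight_one hX hx
      haveI := krullDimLE_one hx
      obtain rfl := Modif.eq_of_mem_support hD hx hxs
      rw [ord_algebraMap hx hne, Ring.ord_of_irreducible
        ((IsDiscreteValuationRing.irreducible_iff_uniformizer _).2 (Modif.maximalIdeal_eq_span hV hIf hxV))]
      rfl
    · refine ord_unit ?_
      rw [𝓓.mem_support_iff_of_mem (U := ⟨V, hV⟩) hxV, Scheme.mem_zeroLocus_iff] at hxs
      push Not at hxs
      obtain ⟨g, hg, hgx⟩ := hxs
      obtain ⟨c, rfl⟩ := Ideal.mem_span_singleton'.1 (hIf ▸ hg)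
      have hu := (X.mem_basicOpen _ x hxV).1 hgx
      rw [map_mul] at hu
      exact (IsUnit.mul_iff.1 hu).2
  have hTinv : PicF.IsInvertible (RefHull.dual (ClSub.idealMod 𝓓)) :=
    Ref.isInvertible_of_ref1 hreg hdim (Ref.isRef1_dual hJR)
  have hTc : Coh.IsCoh (RefHull.dual (ClSub.idealMod 𝓓)) := (Ref.isRef1_dual hJR).1
  -- its powers
  have hpow : ∀ n : ℕ, ∃ p : (CohB1.tensorPow (RefHull.dual (ClSub.idealMod 𝓓)) n).presheaf.stalk (genericPoint X),
      p ≠ 0 ∧ ∀ x : X, Order.coheight x = 1 →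
        Ref.sord (CohB1.tensorPow (RefHull.dual (ClSub.idealMod 𝓓)) n) x p =
          if x ∈ 𝓓.support then (n : ℤ) else 0 := by
    intro n
    induction n with
    | zero =>
      refine ⟨RefX.unitStalk (genericPoint X) (1 : X.functionField), fun h => ?_, fun x hx => ?_⟩
      · exact one_ne_zero (α := X.functionField) ((RefX.unitStalk (genericPoint X)).map_eq_zero_iff.1 h)
      · refine (Ref.sord_unit hx).trans ?_
        simp
    | succ n ih =>
      obtain ⟨p, hp, hpord⟩ := ih
      have hPinv := Groth.Agent.InvX.isInvertible_tensorPow hTinv n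
      obtain ⟨q, hq, hqord⟩ := CT.exists_sord_tensor hX hPinv hTinv
        (QCoh.isCoh_iff_isFP.2 (QCoh.isFP_of_isFinLocFree (H23.PullPush.isFinLocFree_of_isInvertible hPinv))) hTc hp ht
      refine ⟨q, hq, fun x hx => ?_⟩
      refine (hqord x hx).trans ?_
      rw [hpord x hx, hte x hx]
      split_ifs <;> simp
  obtain ⟨p, hp, hpord⟩ := hpow k
  have hPinv := Groth.Agent.InvX.isInvertible_tensorPow hTinv k
  have hPc := QCoh.isCoh_iff_isFP.2 (QCoh.isFP_of_isFinLocFree (H23.PullPush.isFinLocFree_of_isInvertible hPinv))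
  obtain ⟨n, hn, hnord⟩ := CT.exists_sord_tensor hX hI hPinv hR.1 hPc hm hp
  refine Ref.nonempty_iso_of_sord hX hR'
    (CT.isRef1_of_isInvertible (Groth.Agent.InvX.isInvertible_tensorMod hI hPinv) (Ref.isCoh_tensor hR.1 hPc))
    hm' hn fun x hx => ?_
  rw [hnord x hx, hk' x hx, hpord x hx]

end Groth.Agent.S16089
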