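import Groth.Statements.S16105
import Groth.Agent.ComodLib.Invariants
import Groth.Agent.ComodLib.Integral
import Groth.Agent.GITChev.Limit
import Mathlib.RingTheory.Filtration
-- import your own Groth.Agent.* helpers here

set_option autoImplicit false
universe u v w w'
open LunaSt

namespace Groth.Agent.S16105

/-- The key claim of its proof. Let k be a field and H a commutative Hopf algebra of finite type over k
all of whose finite-dimensional comodules are semisimple (a linearly reductive affine group G = Spec
H). Let A be a Noetherian commutative k-algebra with a coaction of H that is an algebra map (an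
action of G on Spec A), let m be a maximal ideal of A stable under the coaction (for instance the
ideal of a closed point fixed by G), and assume that the ring of invariants A^G is a Noetherian
local ring, complete with respect to its maximal ideal. Let M be a finite A-module with a compatible
H-coaction (a coherent G-module on Spec A). Then (i) an invariant element of M which lies in m^n M
for every n is zero, and (ii) for every sequence of invariants x_0, x_1, … with x_(n+1) − x_n ∈ m^n
M there is an invariant x with x − x_n ∈ m^n M for all n. In other words M^G → lim_n M^G/(m^n M)^G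
is bijective: the m-adic filtration and the filtration by powers of the maximal ideal of A^G induce
the same topology on M^G. (The ring of invariants is assumed Noetherian here; this also follows from
linear reductivity.) -/
theorem result
    (k : Type u) [Field k] (H : Type v) [CommRing H] [HopfAlgebra k H] [Algebra.FiniteType k H]
    (hG : HopfRep.IsLinearlyReductive k H)
    (A : Type w) [CommRing A] [Algebra k A] [IsNoetherianRing A]
    [HopfRep.Comod k H A] [GLin.IsCoactAlg k H A]
    (m : Ideal A) [m.IsMaximal] (hm : HopfRep.IsSubcomod (k := k) (A := H) (m.restrictScalars k))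
    [IsLocalRing ↥(GLin.invariants k H A)] [IsNoetherianRing ↥(GLin.invariants k H A)]
    [IsAdicComplete (IsLocalRing.maximalIdeal ↥(GLin.invariants k H A)) ↥(GLin.invariants k H A)]
    (M : Type w') [AddCommGroup M] [Module k M] [Module A M] [IsScalarTower k A M] [Module.Finite A M]
    [HopfRep.Comod k H M] [TameAct.IsHopfMod k H A M] :
    (∀ x ∈ HopfRep.fixedPts k H M, (∀ n : ℕ, x ∈ (m ^ n • ⊤ : Submodule A M)) → x = 0) ∧
      ∀ x : ℕ → M, (∀ n, x n ∈ HopfRep.fixedPts k H M) →
        (∀ n, x (n + 1) - x n ∈ (m ^ n • ⊤ : Submodule A M)) →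
          ∃ y ∈ HopfRep.fixedPts k H M, ∀ n, y - x n ∈ (m ^ n • ⊤ : Submodule A M) := by
  classical
  obtain ⟨β, hβ, hβ1⟩ := Groth.Agent.ComodLib.exists_integral_of_isLinearlyReductive hG
  open Groth.Agent.ComodLib in
  let A₀ := GLin.invariants k H A
  set m₀ := IsLocalRing.maximalIdeal ↥(GLin.invariants k H A)
  -- the maximal ideal of the invariants is the trace of `m`
  have hm₀ : ∀ x : A₀, x ∈ m₀ ↔ (x : A) ∈ m := by
    have hle : m.comap (GLin.invariants k H A).val.toRingHom ≤ m₀ :=
      IsLocalRing.le_maximalIdeal (Ideal.comap_ne_top _ (Ideal.IsMaximal.ne_top inferInstance))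
    intro x
    refine ⟨fun hx => ?_, fun hx => hle hx⟩
    by_contra hxm
    obtain ⟨y, i, hi, e⟩ := (inferInstance : m.IsMaximal).exists_inv hxm
    let r : A₀ := ⟨Groth.Agent.ComodLib.rey β y, Groth.Agent.ComodLib.rey_mem_fixedPts hβ y⟩
    have h1 : (1 : A₀) - r * x ∈ m₀ := hle (by
      show (1 : A) - Groth.Agent.ComodLib.rey β y * (x : A) ∈ m
      have h2 : Groth.Agent.ComodLib.rey β i ∈ m := Groth.Agent.ComodLib.rey_mem_of_isSubcomod hm hi
      have h3 := congrArg (Groth.Agent.ComodLib.rey β) e
      rw [map_add, Groth.Agent.ComodLib.rey_mul_invariant y x.2,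
        Groth.Agent.ComodLib.rey_of_fixed (v := (1 : A)) hβ1 (Subalgebra.one_mem (GLin.invariants k H A))] at h3
      rw [show (1 : A) - Groth.Agent.ComodLib.rey β y * (x : A) = Groth.Agent.ComodLib.rey β i from
        sub_eq_of_eq_add' h3.symm]
      exact h2)
    exact (IsLocalRing.maximalIdeal.isMaximal A₀).ne_top ((Ideal.eq_top_iff_one _).mpr (by
      have := m₀.add_mem h1 (m₀.mul_mem_left r hx)
      rwa [sub_add_cancel] at this))
  refine ⟨fun x hx hxn => ?_, fun x hx hxn => ?_⟩
  · have hmem : x ∈ (⨅ n : ℕ, m ^ n • (⊤ : Submodule A M)) := (Submodule.mem_iInf _).mpr hxn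
    obtain ⟨⟨a, ha⟩, hax⟩ := (m.mem_iInf_smul_pow_eq_bot_iff x).mp hmem
    have h1 := congrArg (Groth.Agent.ComodLib.rey β) hax
    rw [Groth.Agent.ComodLib.rey_smul_fixed a hx, Groth.Agent.ComodLib.rey_of_fixed hβ1 hx] at h1
    let r : A₀ := ⟨Groth.Agent.ComodLib.rey β a, Groth.Agent.ComodLib.rey_mem_fixedPts hβ a⟩
    have hr : r ∈ m₀ := (hm₀ r).mpr (Groth.Agent.ComodLib.rey_mem_of_isSubcomod hm ha)
    obtain ⟨u, hu⟩ := IsLocalRing.isUnit_one_sub_self_of_mem_nonunits r hr
    have h2 : ((u : A₀) : A) • x = 0 := by
      rw [hu, show ((1 - r : A₀) : A) = 1 - Groth.Agent.ComodLib.rey β a from rfl, sub_smul, one_smul, h1, sub_self]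
    calc x = ((((u⁻¹ : A₀ˣ) : A₀) * (u : A₀) : A₀) : A) • x := by rw [Units.inv_mul]; exact (one_smul A x).symm
      _ = 0 := by rw [Subalgebra.coe_mul, mul_smul, h2, smul_zero]
  · have hsmul : ∀ (a : A₀) (y : M), y ∈ HopfRep.fixedPts k H M → (a : A) • y ∈ HopfRep.fixedPts k H M := by
      intro a y hy
      show HopfRep.Comod.coact (k := k) (A := H) ((a : A) • y) = _
      rw [TameAct.IsHopfMod.coact_smul,
        show HopfRep.Comod.coact (k := k) (A := H) (a : A) = (a : A) ⊗ₜ[k] (1 : H) from a.2,
        show HopfRep.Comod.coact (k := k) (A := H) y = y ⊗ₜ[k] (1 : H) from hy, TameAct.hmSMul_tmul, one_mul]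
    let N : Submodule A₀ M :=
      { carrier := HopfRep.fixedPts k H M
        add_mem' := fun {a b} ha hb => (HopfRep.fixedPts k H M).add_mem ha hb
        zero_mem' := (HopfRep.fixedPts k H M).zero_mem
        smul_mem' := fun a y hy => hsmul a y hy }
    haveI : Module.Finite A₀ N := by
      haveI : IsNoetherian A M := isNoetherian_of_isNoetherianRing_of_finite A M
      obtain ⟨s, hs, hgen⟩ := Groth.Agent.ComodLib.exists_finset_fixedPts (R := A) (M := M) hβ hβ1
      refine Module.Finite.iff_fg.mpr ⟨s, le_antisymm (Submodule.span_le.mpr hs) fun y hy => ?_⟩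
      obtain ⟨c, hc, rfl⟩ := hgen y hy
      exact Submodule.sum_mem _ fun z hz =>
        Submodule.smul_mem (Submodule.span A₀ (s : Set M)) (⟨c z, hc z hz⟩ : A₀) (Submodule.subset_span hz)
    let P : ℕ → Submodule A₀ N := fun n => ((m ^ n • ⊤ : Submodule A M).restrictScalars A₀).comap N.subtype
    have hP : Antitone P := fun a b hab =>
      Submodule.comap_mono fun y hy => Submodule.smul_mono (Ideal.pow_le_pow_right hab) le_rfl hy
    obtain ⟨y, hy⟩ := Groth.Agent.GITChev.exists_mem_all (R := A₀) P hP (fun n => (⟨x n, hx n⟩ : N)) hxn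
    exact ⟨y.1, y.2, hy⟩

end Groth.Agent.S16105
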