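import Groth.Statements.S16107
import Groth.Agent.ComodLib.Invariants
import Groth.Agent.ComodLib.Tame
import Groth.Agent.ComodLib.Integral
import Groth.Prelude.Def_ComodTens
-- import your own Groth.Agent.* helpers here

set_option autoImplicit false
universe u v w
open LunaSt

namespace Groth.Agent.S16107

/-- Let k be a field and H a commutative Hopf algebra of finite type over k all of whose
finite-dimensional comodules are semisimple (a linearly reductive affine group G = Spec H of finite
type). Let A be a Noetherian commutative k-algebra with a coaction of H that is an algebra map (an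
action of G on Spec A). Then A is of finite type as an algebra over its subring of invariants A^G.
(The published statement is that a good moduli space with affine diagonal of a Noetherian algebraic
stack is of finite type; this row is its case [Spec A/G] → Spec A^G.) -/
theorem result
    (k : Type u) [Field k] (H : Type v) [CommRing H] [HopfAlgebra k H] [Algebra.FiniteType k H]
    (hG : HopfRep.IsLinearlyReductive k H)
    (A : Type w) [CommRing A] [Algebra k A] [IsNoetherianRing A]
    [HopfRep.Comod k H A] [GLin.IsCoactAlg k H A] :
    Algebra.FiniteType ↥(GLin.invariants k H A) A := by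
  obtain ⟨β, hβ, hβ1⟩ := Groth.Agent.ComodLib.exists_integral_of_isLinearlyReductive hG
  letI cT : HopfRep.Comod k H (TensorProduct k A H) :=
    ComodTens.Comod.tensor (inferInstance : HopfRep.Comod k H A) (HopfRep.Comod.regular k H)
  let C := TensorProduct k A H
  have hco : ∀ (a : A) (h : H), HopfRep.Comod.coact (k := k) (A := H) (a ⊗ₜ[k] h) =
      TensorProduct.map LinearMap.id (LinearMap.mul' k H)
        (TensorProduct.AlgebraTensorModule.tensorTensorTensorComm k k k k A H H H
          (HopfRep.Comod.coact (k := k) (A := H) a ⊗ₜ[k] Coalgebra.comul (R := k) h)) :=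
    fun a h => ComodTens.tensor_coact_tmul (inferInstance : HopfRep.Comod k H A) (HopfRep.Comod.regular k H) a h
  let P : TensorProduct k A H →ₐ[k] TensorProduct k (TensorProduct k A H) H :=
    Algebra.TensorProduct.lift
      ((Algebra.TensorProduct.map (Algebra.TensorProduct.includeLeft : A →ₐ[k] TensorProduct k A H) (AlgHom.id k H)).comp
        (GLin.coactAlgHom k H A))
      ((Algebra.TensorProduct.map (Algebra.TensorProduct.includeRight : H →ₐ[k] TensorProduct k A H) (AlgHom.id k H)).comp
        (Bialgebra.comulAlgHom k H)) (fun _ _ => .all _ _)
  have hP : ∀ z, HopfRep.Comod.coact (k := k) (A := H) z = P z := by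
    intro z
    induction z using TensorProduct.induction_on with
    | zero => simp
    | add p q hp hq => simp only [map_add, hp, hq]
    | tmul a h =>
      rw [hco]
      simp only [P, Algebra.TensorProduct.lift_tmul, AlgHom.comp_apply, GLin.coactAlgHom_apply,
        Bialgebra.comulAlgHom_apply]
      generalize HopfRep.Comod.coact (k := k) (A := H) a = s
      generalize Coalgebra.comul (R := k) h = t
      induction s using TensorProduct.induction_on with
      | zero => simp
      | add p q hp hq => simp only [TensorProduct.add_tmul, map_add, add_mul, hp, hq]
      | tmul a₀ a₁ =>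
        induction t using TensorProduct.induction_on with
        | zero => simp
        | add p q hp hq => simp only [TensorProduct.tmul_add, map_add, mul_add, hp, hq]
        | tmul h₀ h₁ => simp
  haveI : GLin.IsCoactAlg k H (TensorProduct k A H) :=
    ⟨by rw [hP, map_one], fun f g => by simp only [hP, map_mul]⟩
  have hincl : Hoch.IsComodHom H (IsScalarTower.toAlgHom k A (TensorProduct k A H)).toLinearMap := by
    refine LinearMap.ext fun a => ?_
    show HopfRep.Comod.coact (k := k) (A := H) (a ⊗ₜ[k] (1 : H)) = _
    rw [hP]
    simp only [P, Algebra.TensorProduct.lift_tmul, map_one, mul_one, AlgHom.comp_apply, GLin.coactAlgHom_apply]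
    show _ = (IsScalarTower.toAlgHom k A (TensorProduct k A H)).toLinearMap.rTensor H
      (HopfRep.Comod.coact (k := k) (A := H) a)
    generalize HopfRep.Comod.coact (k := k) (A := H) a = s
    induction s using TensorProduct.induction_on with
    | zero => simp
    | add p q hp hq => simp only [map_add, hp, hq]
    | tmul a₀ a₁ => rfl
  obtain ⟨s, hs⟩ := Groth.Agent.ComodLib.exists_finset_invariants_eq_adjoin (R := A) (C := TensorProduct k A H)
    hincl hβ hβ1
  -- every element of `A` is the evaluation at the unit of an invariant of `A ⊗ H`
  let e : TensorProduct k A H →ₐ[k] A :=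
    (Algebra.TensorProduct.rid k k A).toAlgHom.comp
      (Algebra.TensorProduct.map (AlgHom.id k A) (Bialgebra.counitAlgHom k H))
  have hsurj : ∀ a : A, ∃ z ∈ GLin.invariants k H (TensorProduct k A H), e z = a := by
    intro a
    let S := HopfAlgebra.antipode k (A := H)
    refine ⟨S.lTensor A (HopfRep.Comod.coact (k := k) (A := H) a), ?_, ?_⟩
    · rw [GLin.mem_invariants_iff]
      set ρ := HopfRep.Comod.coact (k := k) (A := H) (V := A)
      -- both sides as linear maps of `(A ⊗ H) ⊗ H` evaluated at the iterated coaction
      let F : TensorProduct k A (TensorProduct k H H) →ₗ[k] TensorProduct k (TensorProduct k A H) H :=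
        (TensorProduct.assoc k A H H).symm.toLinearMap ∘ₗ (Groth.Agent.ComodLib.antipodeTwist (k := k)).lTensor A
      have h1 : HopfRep.Comod.coact (k := k) (A := H) (S.lTensor A (ρ a)) =
          F (TensorProduct.assoc k A H H (ρ.rTensor H (ρ a))) := by
        generalize ρ a = x
        induction x using TensorProduct.induction_on with
        | zero => simp
        | add p q hp hq => simp only [map_add, hp, hq]
        | tmul a₀ b =>
          rw [LinearMap.lTensor_tmul, LinearMap.rTensor_tmul, hco]
          show TensorProduct.map LinearMap.id (LinearMap.mul' k H)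
            (TensorProduct.AlgebraTensorModule.tensorTensorTensorComm k k k k A H H H
              (ρ a₀ ⊗ₜ[k] Coalgebra.comul (R := k) (S b))) = _
          generalize ρ a₀ = y
          induction y using TensorProduct.induction_on with
          | zero => simp
          | add p q hp hq => simp only [TensorProduct.add_tmul, map_add, hp, hq]
          | tmul a₁ b₁ =>
            simp only [F, S, TensorProduct.assoc_tmul, LinearMap.comp_apply, LinearMap.lTensor_tmul,
              LinearEquiv.coe_coe, Groth.Agent.ComodLib.antipodeTwist_tmul]
            generalize Coalgebra.comul (R := k) (HopfAlgebra.antipode k b) = t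
            induction t using TensorProduct.induction_on with
            | zero => simp
            | add p q hp hq => simp only [TensorProduct.tmul_add, map_add, mul_add, hp, hq]
            | tmul h₀ h₁ => simp
      have hca := LinearMap.congr_fun (HopfRep.Comod.coassoc (k := k) (A := H) (V := A)) a
      simp only [LinearMap.comp_apply, LinearEquiv.coe_coe] at hca
      rw [h1, hca]
      generalize ρ a = x
      induction x using TensorProduct.induction_on with
      | zero => simp
      | add p q hp hq => simp only [map_add, TensorProduct.add_tmul, hp, hq]
      | tmul a₀ b =>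
        simp [F, S, Groth.Agent.ComodLib.antipodeTwist_comul]
    · have h2 := congrArg (TensorProduct.rid k A)
        (LinearMap.congr_fun (HopfRep.Comod.counit_comp (k := k) (A := H) (V := A)) a)
      simp only [LinearMap.comp_apply, LinearMap.flip_apply, TensorProduct.mk_apply, TensorProduct.rid_tmul, one_smul] at h2
      refine Eq.trans ?_ h2
      generalize HopfRep.Comod.coact (k := k) (A := H) a = x
      induction x using TensorProduct.induction_on with
      | zero => simp
      | add p q hp hq => simp only [map_add, hp, hq]
      | tmul a₀ b => simp [e, S]
  classical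
  refine ⟨⟨s.image e, ?_⟩⟩
  rw [eq_top_iff]
  intro a _
  obtain ⟨z, hz, rfl⟩ := hsurj a
  have h3 : e z ∈ (GLin.invariants k H (TensorProduct k A H)).map e := ⟨z, hz, rfl⟩
  rw [hs, AlgHom.map_adjoin] at h3
  refine Algebra.adjoin_le (S := (Algebra.adjoin ↥(GLin.invariants k H A) (↑(s.image e) : Set A)).restrictScalars k) ?_ h3
  rintro _ ⟨w, hw | hw, rfl⟩
  · obtain ⟨i, hi, rfl⟩ := hw
    have : e (algebraMap A (TensorProduct k A H) i) = i := by simp [e, Algebra.TensorProduct.algebraMap_apply]
    rw [this]
    exact Subalgebra.algebraMap_mem (Algebra.adjoin ↥(GLin.invariants k H A) (↑(s.image e) : Set A)) ⟨i, hi⟩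
  · have hm : e w ∈ (↑(s.image e) : Set A) := by
      rw [Finset.coe_image]; exact ⟨w, hw, rfl⟩
    exact (Algebra.subset_adjoin hm : e w ∈ Algebra.adjoin ↥(GLin.invariants k H A) (↑(s.image e) : Set A))

end Groth.Agent.S16107
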