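import Groth.Statements.S16150
import Groth.Agent.Div86.Ref.Powers
import Groth.Agent.KFlatLib.Scheme.Exact
import Groth.Agent.ZClosLib.Basic
import Mathlib.CategoryTheory.Limits.Preserves.Filtered
-- import your own Groth.Agent.* helpers here

set_option autoImplicit false
set_option linter.style.haveILetI false
set_option backward.isDefEq.respectTransparency false
set_option backward.isDefEq.respectTransparency.types false
universe u
open CategoryTheory CategoryTheory.Limits AlgebraicGeometry TopologicalSpace
open SDiv

namespace Groth.Agent.S16150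

/-- Let X be an integral locally Noetherian normal scheme, F a rank one coherent reflexive O_X-module
and s : O_X → F a global section of F. Let U be the open subscheme of X whose points are those x at
which the stalk map (O_X)_x → F_x of s is bijective, and j : U → X its inclusion. Consider the
system O_X → F → F^[2] → F^[3] → ⋯ of reflexive powers (F^[0] = O_X, F^[1] = F, F^[n+1] the
reflexive hull of F^[n] ⊗ F), each map being multiplication by s. Then j_*(O_X|_U) is the colimit of
this system in the category of O_X-modules; precisely, there is a cocone from the system to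
j_*(O_X|_U) whose leg in degree 0 is the restriction map O_X → j_*(O_X|_U) (the unit of the
adjunction between restriction to U and direct image along j) and which is a colimit cocone. -/
theorem result (X : Scheme.{u}) [IsIntegral X] [IsLocallyNoetherian X]
    (hX : Pi1.IsNormalScheme X) (F : X.Modules) (hF : RefHull.IsRef1 F) (s : Coh.structureModule X ⟶ F)
    (U : X.Opens) (hU : (U : Set X) = RefPow.isoLocus s) :
    ∃ ι : RefPow.diagram F s ⟶ (Functor.const ℕ).obj ((Scheme.Modules.pushforward U.ι).obj ((Coh.structureModule X).restrict U.ι)),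
      ι.app 0 = (Scheme.Modules.restrictAdjunction U.ι).unit.app (Coh.structureModule X) ∧
        Nonempty (IsColimit (Cocone.mk _ ι)) := by
  open Groth.Agent in open Groth.Agent.Div86 in
  have hC : ∀ n, Coh.IsCoh (RefPow.refPow F n) := fun n => (Ref.isRef1_refPow hF n).1
  refine ⟨Ref.legs s hC hU, Ref.leg_zero s hC hU, ⟨?_⟩⟩
  let D := RefPow.diagram F s
  let c : Cocone D := Cocone.mk (Ref.puncMod U) (Ref.legs s hC hU)
  let c₀ := colimit.cocone D
  let φ : colimit D ⟶ Ref.puncMod U := colimit.desc D c
  have hc₀ : IsColimit c₀ := colimit.isColimit D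
  haveI : PreservesFilteredColimitsOfSize.{0, 0} (forget AddCommGrpCat.{u}) :=
    preservesFilteredColimitsOfSize_shrink.{0, u, 0, u} _
  -- every stalk element of the colimit has representatives of large degree
  have hrep : ∀ (x : ↥X) (z : (colimit D).presheaf.stalk x),
      ∃ (n : ℕ) (v : (RefPow.refPow F n).presheaf.stalk x), RefHull.stalkMapₗ (colimit.ι D n) x v = z := fun x z =>
    Concrete.isColimit_exists_rep _ (isColimitOfPreserves (KFlatLib.stalkAb x) hc₀) z
  have hfac : ∀ (x : ↥X) (n : ℕ) (v : (RefPow.refPow F n).presheaf.stalk x),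
      RefHull.stalkMapₗ φ x (RefHull.stalkMapₗ (colimit.ι D n) x v) = RefHull.stalkMapₗ (Ref.leg s hC hU n) x v := by
    intro x n v
    refine (Ref.stalkMapₗ_comp (colimit.ι D n) φ x v).symm.trans ?_
    exact LinearMap.congr_fun (congrArg (fun p => RefHull.stalkMapₗ p x) (colimit.ι_desc c n)) v
  have hlift : ∀ (x : ↥X) (n : ℕ) (v : (RefPow.refPow F n).presheaf.stalk x),
      RefHull.stalkMapₗ (colimit.ι D (n + 1)) x (RefHull.stalkMapₗ (RefPow.mulBy s n) x v) =
        RefHull.stalkMapₗ (colimit.ι D n) x v := by
    intro x n v
    refine (Ref.stalkMapₗ_comp (RefPow.mulBy s n) (colimit.ι D (n + 1)) x v).symm.trans ?_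
    refine LinearMap.congr_fun (congrArg (fun p => RefHull.stalkMapₗ p x) ?_) v
    rw [← colimit.w D (homOfLE (Nat.le_succ n)), ← RefPow.diagram_map]
  by_cases hη : genericPoint ↥X ∈ U
  swap
  · haveI : IsIso φ := by
      refine ZClosLib.isIso_of_stalkMap_bijective φ fun x => ⟨fun a b _ => ?_, fun w => ⟨0, ?_⟩⟩
      · suffices h0 : ∀ z : (colimit D).presheaf.stalk x, z = 0 from (h0 a).trans (h0 b).symm
        intro z
        obtain ⟨n, v, rfl⟩ := hrep x z
        rw [← hlift x n v]
        suffices hz : RefHull.stalkMapₗ (RefPow.mulBy s n) x v = 0 by rw [hz, map_zero]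
        obtain ⟨W, hW, m, rfl⟩ := TopCat.Presheaf.exists_germ_eq (RefPow.refPow F n).presheaf v
        rw [RefHull.stalkMapₗ_germ]
        suffices hm : (RefPow.mulBy s n).app W m = 0 by rw [hm, map_zero]
        have h0 := Ref.val_eq_zero_of_notMem s hF hU hη
        cases n with
        | zero =>
          have hm1 : m = (show Γ(X, W) from m) • (show Γ(Coh.structureModule X, W) from (1 : Γ(X, W))) :=
            (mul_one (show Γ(X, W) from m)).symm
          refine (congrArg (s.app W) hm1).trans ((Scheme.Modules.Hom.app_smul s _ _).trans ?_)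
          rw [show s.app W (show Γ(Coh.structureModule X, W) from (1 : Γ(X, W))) = SecTwist.val s W from rfl, h0 W]
          exact smul_zero _
        | succ n =>
          rw [RefPow.mulBy_succ_app, h0 W]
          have : Groth.Agent.InvX.tmul m (0 : Γ(F, W)) = 0 := by
            rw [← zero_smul Γ(X, W) (0 : Γ(F, W)), Groth.Agent.InvX.tmul_smul_right]
            exact zero_smul _ _
          exact (congrArg _ this).trans (map_zero _)
      · obtain ⟨W, hW, t, rfl⟩ := TopCat.Presheaf.exists_germ_eq (Ref.puncMod U).presheaf w
        haveI := Ref.subsingleton_puncMod hη W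
        rw [Subsingleton.elim t 0, map_zero, map_zero]
    exact hc₀.ofIsoColimit (Cocone.ext (asIso φ) fun n => colimit.ι_desc c n)
  haveI : IsIso φ := by
    refine ZClosLib.isIso_of_stalkMap_bijective φ fun x => ⟨?_, fun w => ?_⟩
    · refine (injective_iff_map_eq_zero _).2 fun z hz => ?_
      obtain ⟨n, v, rfl⟩ := hrep x z
      change RefHull.stalkMapₗ φ x (RefHull.stalkMapₗ (colimit.ι D n) x v) = 0 at hz
      rw [hfac] at hz
      have htf := Ref.isTorsionFree_of_reflexive (Ref.isRef1_refPow hF n).1 (Ref.isRef1_refPow hF n).2.1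
      haveI := htf x
      have hv : v = 0 := by
        refine Ref.toGen_injective (Ref.isRef1_refPow hF n).1.1 x ?_
        refine (Ref.leg_bijective_generic s hC hU hη n).1 ?_
        rw [Ref.toGen_natural, hz, map_zero, map_zero, map_zero]
      rw [hv, map_zero]
    · obtain ⟨N, hN⟩ := Ref.exists_leg_eq s hX hF hU hη w
      obtain ⟨v, hv⟩ := hN N le_rfl
      exact ⟨RefHull.stalkMapₗ (colimit.ι D (N + 1)) x v, (hfac x (N + 1) v).trans hv⟩
  exact hc₀.ofIsoColimit (Cocone.ext (asIso φ) fun n => colimit.ι_desc c n)

end Groth.Agent.S16150
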