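import Groth.Statements.S16151
import Groth.Agent.Div86.Ref.Powers
import Mathlib.AlgebraicGeometry.Morphisms.Affine
-- import your own Groth.Agent.* helpers here

set_option autoImplicit false
set_option linter.style.haveILetI false
set_option backward.isDefEq.respectTransparency false
set_option backward.isDefEq.respectTransparency.types false
universe u
open CategoryTheory CategoryTheory.Limits AlgebraicGeometry TopologicalSpace
open SDiv

namespace Groth.Agent.S16151

/-- Let X be an integral locally Noetherian normal scheme, F a rank one coherent reflexive O_X-module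
and s : O_X → F a global section of F; let U be the open subscheme of X whose points are those x at
which the stalk map (O_X)_x → F_x of s is bijective, and let F^[n] denote the reflexive powers of F
(F^[0] = O_X, F^[1] = F, F^[n+1] the reflexive hull of F^[n] ⊗ F) with s^n ∈ Γ(X, F^[n]) the n-th
power of s. Then the following are equivalent: (1) the inclusion morphism U → X is affine; (2) for
every point x of X not in U there is an integer n > 0 such that the germ of s^n at x lies in m_x ·
(F^[n])_x, where m_x is the maximal ideal of the local ring at x. -/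
theorem result (X : Scheme.{u}) [IsIntegral X] [IsLocallyNoetherian X]
    (hX : Pi1.IsNormalScheme X) (F : X.Modules) (hF : RefHull.IsRef1 F) (s : Coh.structureModule X ⟶ F)
    (U : X.Opens) (hU : (U : Set X) = RefPow.isoLocus s) :
    IsAffineHom U.ι ↔
      ∀ x : X, x ∉ U → ∃ n : ℕ, 0 < n ∧
        RefPow.sPowGerm s n x ∈ IsLocalRing.maximalIdeal (X.presheaf.stalk x) •
          (⊤ : Submodule (X.presheaf.stalk x) ((RefPow.refPow F n).presheaf.stalk x)) := by
  open Groth.Agent in open Groth.Agent.Div86 in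
  have hC : ∀ n, Coh.IsCoh (RefPow.refPow F n) := fun n => (Ref.isRef1_refPow hF n).1
  have htfn : ∀ n, TorSh.IsTorsionFree (RefPow.refPow F n) := fun n =>
    Ref.isTorsionFree_of_reflexive (hC n) (Ref.isRef1_refPow hF n).2.1
  have hprime : ∀ {V : X.Opens} (hV : IsAffineOpen V) {y : ↥X} (hy : y ∈ V) (a : Γ(X, V)),
      a ∈ (hV.primeIdealOf ⟨y, hy⟩).asIdeal ↔ X.presheaf.germ V y hy a ∈ IsLocalRing.maximalIdeal (X.presheaf.stalk y) := by
    intro V hV y hy a
    letI := QCoh.stalkAlg (X := X) hy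
    haveI := QCoh.isLocalization_stalk' hV hy
    exact (IsLocalization.AtPrime.to_map_mem_maximal_iff (X.presheaf.stalk y)
      (hV.primeIdealOf ⟨y, hy⟩).asIdeal a).symm
  constructor
  · intro haff x hx
    by_cases hη : genericPoint ↥X ∈ U
    swap
    · refine ⟨1, one_pos, ?_⟩
      have h0 := Ref.val_eq_zero_of_notMem s hF hU hη (⊤ : X.Opens)
      show (RefPow.refPow F 1).presheaf.germ ⊤ x trivial (SecTwist.val (RefPow.sPow s 1) ⊤) ∈ _
      rw [Ref.val_sPow_one, h0]
      exact (congrArg (· ∈ _) (map_zero _)).mpr (zero_mem _)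
    obtain ⟨V, hV, hxV, -⟩ := exists_isAffineOpen_mem_and_subset (x := x) (U := ⊤) trivial
    have hW : IsAffineOpen (V ⊓ U) := by
      have h := (haff.isAffine_preimage V hV).image_of_isOpenImmersion U.ι
      rwa [Scheme.Hom.image_preimage_eq_opensRange_inf, Scheme.Opens.opensRange_ι, inf_comm] at h
    let p := (hV.primeIdealOf ⟨x, hxV⟩).asIdeal
    let ρ : Γ(X, V) →+* Γ(X, V ⊓ U) := (X.presheaf.map (homOfLE (inf_le_left : V ⊓ U ≤ V)).op).hom
    have htop : Ideal.map ρ p = ⊤ := by
      by_contra hne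
      obtain ⟨𝔫, h𝔫, hle⟩ := Ideal.exists_le_maximal _ hne
      obtain ⟨y, hy, hyq⟩ := QCoh.exists_point hW ⟨𝔫, h𝔫.isPrime⟩
      have hyV : y ∈ V := hy.1
      refine hx ((((AssPtX.primeIdealOf_le_iff hV hxV hyV).1 fun a ha => ?_)).mem_open U.2 hy.2)
      rw [hprime hV hyV]
      have h1 : ρ a ∈ (hW.primeIdealOf ⟨y, hy⟩).asIdeal := by
        rw [congrArg PrimeSpectrum.asIdeal hyq]
        exact hle (Ideal.mem_map_of_mem ρ ha)
      rw [hprime hW hy] at h1
      rwa [← X.presheaf.germ_res_apply (homOfLE (inf_le_left : V ⊓ U ≤ V)) y hy a]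
    have hηW : genericPoint ↥X ∈ V ⊓ U := ⟨Ref.generic_mem hxV, hη⟩
    let g : Γ(X, V ⊓ U) → X.functionField := fun z => X.presheaf.germ (V ⊓ U) (genericPoint ↥X) hηW z
    have key : ∀ z ∈ Ideal.map ρ p, ∀ c : Γ(X, V ⊓ U), ∃ N, ∀ n, N ≤ n →
        ∃ v ∈ IsLocalRing.maximalIdeal (X.presheaf.stalk x) •
            (⊤ : Submodule (X.presheaf.stalk x) ((RefPow.refPow F (n + 1)).presheaf.stalk x)),
          Ref.toGen (RefPow.refPow F (n + 1)) x v = g (c * z) • Ref.pw s (n + 1) := by
      intro z hz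
      induction hz using Submodule.span_induction with
      | mem z hz =>
        obtain ⟨a, ha, rfl⟩ := hz
        intro c
        obtain ⟨N, hN⟩ := Ref.exists_pw_mem s hX hF hU hη (g c) (x := x) fun y hy hyU =>
          ⟨X.presheaf.germ (V ⊓ U) y ⟨hy.mem_open V.2 hxV, hyU⟩ c,
            TopCat.Presheaf.germ_stalkSpecializes_apply X.presheaf _ (Ref.spec y) c⟩
        refine ⟨N, fun n hn => ?_⟩
        obtain ⟨v, hv⟩ := hN n hn
        refine ⟨X.presheaf.germ V x hxV a • v,
          Submodule.smul_mem_smul ((hprime hV hxV a).1 ha) Submodule.mem_top, ?_⟩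
        rw [Ref.toGen_smul, hv, smul_smul, mul_comm]
        refine congrArg (· • Ref.pw s (n + 1)) ?_
        show g c * _ = X.presheaf.germ (V ⊓ U) (genericPoint ↥X) hηW (c * ρ a)
        rw [map_mul]
        refine congrArg (g c * ·) ?_
        exact (TopCat.Presheaf.germ_stalkSpecializes_apply X.presheaf hxV (Ref.spec x) a).trans
          (X.presheaf.germ_res_apply (homOfLE (inf_le_left : V ⊓ U ≤ V)) _ hηW a).symm
      | zero =>
        exact fun c => ⟨0, fun n _ => ⟨0, zero_mem _, by
          rw [map_zero, mul_zero, show g 0 = (0 : X.functionField) from map_zero _]; exact (zero_smul _ _).symm⟩⟩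
      | add z z' _ _ hz hz' =>
        intro c
        obtain ⟨N, hN⟩ := hz c
        obtain ⟨N', hN'⟩ := hz' c
        refine ⟨max N N', fun n hn => ?_⟩
        obtain ⟨v, hv, hv'⟩ := hN n ((le_max_left _ _).trans hn)
        obtain ⟨w, hw, hw'⟩ := hN' n ((le_max_right _ _).trans hn)
        refine ⟨v + w, add_mem hv hw, ?_⟩
        rw [map_add, hv', hw', ← add_smul, mul_add,
          show g (c * z + c * z') = g (c * z) + g (c * z') from map_add _ _ _]
      | smul d z _ hz =>
        intro c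
        obtain ⟨N, hN⟩ := hz (c * d)
        refine ⟨N, fun n hn => ?_⟩
        obtain ⟨v, hv, hv'⟩ := hN n hn
        exact ⟨v, hv, by rw [hv', smul_eq_mul, mul_assoc]⟩
    obtain ⟨N, hN⟩ := key 1 (htop ▸ Submodule.mem_top) 1
    obtain ⟨v, hv, hv'⟩ := hN N le_rfl
    refine ⟨N + 1, Nat.succ_pos _, ?_⟩
    haveI := htfn (N + 1) x
    have hveq : RefPow.sPowGerm s (N + 1) x = v := by
      refine Ref.toGen_injective (hC (N + 1)).1 x ?_
      rw [Ref.toGen_sPowGerm, hv', one_mul, show g 1 = (1 : X.functionField) from map_one _]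
      exact (one_smul _ _).symm
    rw [hveq]
    exact hv
  · intro h
    refine ⟨fun V hV => ?_⟩
    rw [← Scheme.Hom.isAffineOpen_iff_of_isOpenImmersion U.ι, Scheme.Hom.image_preimage_eq_opensRange_inf,
      Scheme.Opens.opensRange_ι, inf_comm]
    let ρ : Γ(X, V) →+* Γ(X, V ⊓ U) := (X.presheaf.map (homOfLE (inf_le_left : V ⊓ U ≤ V)).op).hom
    refine isAffineOpen_of_isAffineOpen_basicOpen _ (ρ '' {f | X.basicOpen f ≤ U}) ?_ ?_
    swap
    · rintro _ ⟨f, hf, rfl⟩
      show IsAffineOpen (X.basicOpen ((X.presheaf.map _).hom f))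
      rw [Scheme.basicOpen_res, inf_eq_right.2 (le_inf (X.basicOpen_le f) hf)]
      exact hV.basicOpen f
    by_contra hne
    obtain ⟨𝔫, h𝔫, hle⟩ := Ideal.exists_le_maximal _ hne
    haveI := h𝔫.isPrime
    obtain ⟨x, hxV, hxq⟩ := QCoh.exists_point hV ⟨𝔫.comap ρ, Ideal.comap_isPrime ρ 𝔫⟩
    have hp : (hV.primeIdealOf ⟨x, hxV⟩).asIdeal = 𝔫.comap ρ := congrArg PrimeSpectrum.asIdeal hxq
    have hxU : x ∉ U := fun hxU => by
      obtain ⟨f, hfU, hxf⟩ := hV.exists_basicOpen_le (V := U) ⟨x, hxU⟩ hxV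
      refine (hprime hV hxV f).1 (hp.ge (hle (Ideal.subset_span ⟨f, hfU, rfl⟩))) ?_
      exact (X.mem_basicOpen f x hxV).1 hxf
    obtain ⟨n, -, hmem⟩ := h x hxU
    let M := RefPow.refPow F n
    letI := QCoh.stalkAlg (X := X) hxV
    letI := QCoh.stalkModule M hxV
    haveI := QCoh.isScalarTower_stalk M hxV
    haveI := QCoh.isLocalization_stalk' hV hxV
    haveI := QCoh.isLocalizedModule_germLin (hC n).1 hV hxV
    let p := (hV.primeIdealOf ⟨x, hxV⟩).asIdeal
    have hclear : ∀ z ∈ IsLocalRing.maximalIdeal (X.presheaf.stalk x) •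
          (⊤ : Submodule (X.presheaf.stalk x) (M.presheaf.stalk x)),
        ∃ t ∉ p, ∃ v ∈ p • (⊤ : Submodule Γ(X, V) Γ(M, V)),
          X.presheaf.germ V x hxV t • z = M.presheaf.germ V x hxV v := by
      intro z hz
      refine Submodule.smul_induction_on (p := fun z => ∃ t ∉ p, ∃ v ∈ p • (⊤ : Submodule Γ(X, V) Γ(M, V)),
          X.presheaf.germ V x hxV t • z = M.presheaf.germ V x hxV v) hz ?_ ?_
      · intro a ha z _
        obtain ⟨⟨b, t₁⟩, hb⟩ := IsLocalization.surj p.primeCompl a
        obtain ⟨⟨w, t₂⟩, hw⟩ := IsLocalizedModule.surj p.primeCompl (QCoh.germLin M hxV) z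
        have hb' : a * X.presheaf.germ V x hxV t₁.1 = X.presheaf.germ V x hxV b := hb
        have hw' : X.presheaf.germ V x hxV t₂.1 • z = M.presheaf.germ V x hxV w :=
          (algebraMap_smul (X.presheaf.stalk x) t₂.1 z).trans hw
        have hbp : b ∈ p := (hprime hV hxV b).2 (hb' ▸ Ideal.mul_mem_right _ _ ha)
        refine ⟨t₁.1 * t₂.1, (t₁ * t₂).2, b • w, Submodule.smul_mem_smul hbp Submodule.mem_top, ?_⟩
        rw [QCoh.germ_smul', ← hb', ← hw', map_mul, smul_smul, smul_smul]
        congr 1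
        ring
      · intro z z' hz hz'
        obtain ⟨t, ht, v, hv, e⟩ := hz
        obtain ⟨t', ht', v', hv', e'⟩ := hz'
        refine ⟨t * t', fun hh => ((Ideal.IsPrime.mem_or_mem inferInstance hh).elim ht ht'), t' • v + t • v',
          add_mem (Submodule.smul_mem _ _ hv) (Submodule.smul_mem _ _ hv'), ?_⟩
        rw [map_add, QCoh.germ_smul', QCoh.germ_smul', ← e, ← e', map_mul, smul_add, smul_smul, smul_smul,
          mul_comm (X.presheaf.germ V x hxV t') (X.presheaf.germ V x hxV t)]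
    obtain ⟨t, ht, v, hv, e⟩ := hclear _ hmem
    -- `t • s ^ n = v` over `V`
    let sn : Γ(M, V) := SecTwist.val (RefPow.sPow s n) V
    have heq : t • sn = v := by
      refine Ref.sect_ext (hC n).1 (htfn n) (Ref.generic_mem hxV) ?_
      rw [← Ref.toGen_germ hxV (t • sn), ← Ref.toGen_germ hxV v, ← e, QCoh.germ_smul', Ref.germ_val]
    -- coordinates in the frame on `V ⊓ U`
    have he := Ref.isFrame_val_sPow s hC hU n
    have hΦ : ∀ w ∈ p • (⊤ : Submodule Γ(X, V) Γ(M, V)), ∃ c ∈ 𝔫,
        AModX.res M (inf_le_left : V ⊓ U ≤ V) w =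
          c • AModX.res M (inf_le_right : V ⊓ U ≤ U) (SecTwist.val (RefPow.sPow s n) U) := by
      intro w hw
      refine Submodule.smul_induction_on (p := fun w => ∃ c ∈ 𝔫,
        AModX.res M (inf_le_left : V ⊓ U ≤ V) w =
          c • AModX.res M (inf_le_right : V ⊓ U ≤ U) (SecTwist.val (RefPow.sPow s n) U)) hw ?_ ?_
      · intro a ha w _
        obtain ⟨c, hc⟩ := he.exists_coord (inf_le_right : V ⊓ U ≤ U) (AModX.res M (inf_le_left : V ⊓ U ≤ V) w)
        refine ⟨ρ a * c, Ideal.mul_mem_right _ _ (hp.le ha), ?_⟩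
        rw [AModX.res_smul, hc, smul_smul]
        rfl
      · intro w w' hw hw'
        obtain ⟨c, hc, ec⟩ := hw
        obtain ⟨c', hc', ec'⟩ := hw'
        exact ⟨c + c', add_mem hc hc', by rw [map_add, ec, ec', add_smul]⟩
    obtain ⟨c, hc, ec⟩ := hΦ v hv
    rw [← heq, AModX.res_smul, Ref.res_val', ← Ref.res_val' (RefPow.sPow s n) (inf_le_right : V ⊓ U ≤ U)] at ec
    have hct := he.coord_unique (inf_le_right : V ⊓ U ≤ U) ec
    exact ht (hp.ge (show ρ t ∈ 𝔫 from hct ▸ hc))

end Groth.Agent.S16151
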