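import Groth.Statements.S16152
-- import your own Groth.Agent.* helpers here

set_option autoImplicit false
universe u
open WGauss

namespace Groth.Agent.S16152

open MvPolynomial in
theorem exists_le_degree {σ : Type} (μ : σ →₀ ℕ) : ∀ m, m ≤ μ.degree → ∃ δ, δ ≤ μ ∧ δ.degree = m := by
  classical
  intro m
  induction m with
  | zero => exact fun _ => ⟨0, by simp, by simp⟩
  | succ m ih =>
    intro hm
    obtain ⟨δ, hδ, hdeg⟩ := ih (by omega)
    obtain ⟨i, hi⟩ : ∃ i, δ i < μ i := by
      by_contra hne
      push Not at hne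
      have : δ = μ := le_antisymm hδ hne
      rw [this] at hdeg
      omega
    refine ⟨δ + Finsupp.single i 1, fun j => ?_, by rw [map_add, Finsupp.degree_single, hdeg]⟩
    rcases eq_or_ne i j with rfl | hne
    · simp only [Finsupp.add_apply, Finsupp.single_eq_same]; omega
    · simp only [Finsupp.add_apply, Finsupp.single_eq_of_ne' hne, add_zero]; exact hδ j

open MvPolynomial in
theorem exchange_mem {k : Type*} [Field k] [CharZero k] {n e a b : ℕ} (he : 0 < e) (ha : 0 < a) (hb : 0 < b)
    (S : Submodule k (Fin (n + 1) → MvPolynomial (Fin (n + 1)) k))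
    (hS : ∀ σ τ : MvPolynomial (Fin (n + 1)) k, σ.IsHomogeneous (a * e) → τ.IsHomogeneous (b * e) →
      (fun i => (b : k) • (τ * pderiv i σ) - (a : k) • (σ * pderiv i τ)) ∈ S)
    (γ : Fin (n + 1) →₀ ℕ) (hγ : γ.degree = (a + b) * e) (i j : Fin (n + 1)) (hi : γ i ≠ 0) (hj : γ j ≠ 0) :
    Pi.single i (monomial (γ - Finsupp.single i 1) (1 : k)) -
      Pi.single j (monomial (γ - Finsupp.single j 1) (1 : k)) ∈ S := by
  classical
  by_cases hij : i = j
  · subst hij; simp
  let μ := γ - Finsupp.single i 1 - Finsupp.single j 1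
  have hμ : γ = μ + Finsupp.single i 1 + Finsupp.single j 1 := by
    ext l
    simp only [μ, Finsupp.add_apply, Finsupp.tsub_apply, Finsupp.single_apply]
    split_ifs with h1 h2 h3 <;> subst_vars <;> first | omega | exact absurd rfl hij
  have hdeg : μ.degree + 2 = (a + b) * e := by
    rw [← hγ]
    conv_rhs => rw [hμ]
    simp [map_add]
  have hae : 0 < a * e := Nat.mul_pos ha he
  have hbe : 0 < b * e := Nat.mul_pos hb he
  have hN : (a + b) * e = a * e + b * e := add_mul a b e
  obtain ⟨δ, hδ, hδd⟩ := exists_le_degree μ (a * e - 1) (by omega)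
  obtain ⟨ε, hε⟩ : ∃ ε, μ = δ + ε := ⟨μ - δ, (add_tsub_cancel_of_le hδ).symm⟩
  have hεd : δ.degree + ε.degree = μ.degree := by rw [hε, map_add]
  let D : MvPolynomial (Fin (n + 1)) k := monomial δ 1
  let E : MvPolynomial (Fin (n + 1)) k := monomial ε 1
  have hDX : ∀ l, (D * X l).IsHomogeneous (a * e) := fun l => by
    have := (isHomogeneous_monomial (1 : k) (d := δ) rfl).mul (isHomogeneous_X k l)
    rwa [show δ.degree + 1 = a * e by omega] at this
  have hEX : ∀ l, (E * X l).IsHomogeneous (b * e) := fun l => by
    have := (isHomogeneous_monomial (1 : k) (d := ε) rfl).mul (isHomogeneous_X k l)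
    rwa [show ε.degree + 1 = b * e by omega] at this
  have hmem := S.sub_mem (hS _ _ (hDX j) (hEX i)) (hS _ _ (hDX i) (hEX j))
  have h1 : (monomial (γ - Finsupp.single i 1) (1 : k)) = D * E * X j := by
    simp only [D, E, X, monomial_mul, mul_one]
    rw [← hε, show γ - Finsupp.single i 1 = μ + Finsupp.single j 1 by
      conv_lhs => rw [hμ, add_right_comm, add_tsub_cancel_right]]
  have h2 : (monomial (γ - Finsupp.single j 1) (1 : k)) = D * E * X i := by
    simp only [D, E, X, monomial_mul, mul_one]
    rw [← hε, show γ - Finsupp.single j 1 = μ + Finsupp.single i 1 by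
      conv_lhs => rw [hμ, add_tsub_cancel_right]]
  have hab0 : ((a : k) + b) ≠ 0 := by exact_mod_cast (show a + b ≠ 0 by omega)
  rw [h1, h2, ← S.smul_mem_iff hab0]
  refine (Submodule.neg_mem_iff S).mp ?_
  convert hmem using 1
  funext l
  simp only [Pi.neg_apply, Pi.smul_apply, Pi.sub_apply, Pi.single_apply, Derivation.leibniz, smul_eq_mul,
    pderiv_X, MvPolynomial.smul_eq_C_mul, map_add]
  rcases eq_or_ne l i with rfl | hli <;> rcases eq_or_ne l j with h' | hlj <;>
    subst_vars <;> simp_all [Pi.single_apply, eq_comm (b := l), Ne.symm] <;> ring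

open MvPolynomial in
/-- Over a field k of characteristic zero, for e, a, b positive integers with a < b, the weighted
Gaussian map of the line bundle O(e) on projective n-space is surjective. Concretely, identifying
global sections of O(m) with homogeneous polynomials of degree m in X_0, ..., X_n and global
sections of the twisted cotangent sheaf Omega^1(t) with the (n+1)-tuples of homogeneous polynomials
of degree t - 1 killed by the Euler map (f_i) to sum_i X_i f_i, every such tuple with t = (a+b)e is
a k-linear combination of the tuples (b tau (d sigma / d X_i) - a sigma (d tau / d X_i))_i with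
sigma homogeneous of degree ae and tau homogeneous of degree be. (The source works over the complex
numbers; the statement is one of linear algebra and is given here over any field of characteristic
zero.) -/
theorem result
    (k : Type u) [Field k] [CharZero k] (n e a b : ℕ) (he : 0 < e) (ha : 0 < a) (hab : a < b)
    (f : Fin (n + 1) → MvPolynomial (Fin (n + 1)) k)
    (hf : ∀ i, (f i).IsHomogeneous ((a + b) * e - 1))
    (hEuler : ∑ i, X i * f i = 0) :
    f ∈ Submodule.span k
      {g : Fin (n + 1) → MvPolynomial (Fin (n + 1)) k |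
        ∃ σ τ : MvPolynomial (Fin (n + 1)) k, σ.IsHomogeneous (a * e) ∧ τ.IsHomogeneous (b * e) ∧
          g = fun i => (b : k) • (τ * pderiv i σ) - (a : k) • (σ * pderiv i τ)} := by
  classical
  set S := Submodule.span k
      {g : Fin (n + 1) → MvPolynomial (Fin (n + 1)) k |
        ∃ σ τ : MvPolynomial (Fin (n + 1)) k, σ.IsHomogeneous (a * e) ∧ τ.IsHomogeneous (b * e) ∧
          g = fun i => (b : k) • (τ * pderiv i σ) - (a : k) • (σ * pderiv i τ)} with hSdef
  let q := S.mkQ
  let T : Fin (n + 1) → (Fin (n + 1) →₀ ℕ) → (Fin (n + 1) → MvPolynomial (Fin (n + 1)) k) :=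
    fun i μ => Pi.single i (monomial μ (1 : k))
  let pick : (Fin (n + 1) →₀ ℕ) → Fin (n + 1) := fun γ =>
    if h : ∃ i, γ i ≠ 0 then h.choose else 0
  let L := (basisMonomials (Fin (n + 1)) k).constr k fun γ => q (T (pick γ) (γ - Finsupp.single (pick γ) 1))
  have hT : ∀ i μ, μ.degree = (a + b) * e - 1 → q (T i μ) = L (X i * monomial μ 1) := by
    intro i μ hμ
    have hN : 0 < (a + b) * e := Nat.mul_pos (by omega) he
    have hmul : X i * monomial μ (1 : k) = basisMonomials (Fin (n + 1)) k (μ + Finsupp.single i 1) := by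
      rw [coe_basisMonomials, X, monomial_mul, mul_one, add_comm (Finsupp.single i 1)]
    rw [hmul, Module.Basis.constr_basis]
    have hi : (μ + Finsupp.single i 1 : Fin (n + 1) →₀ ℕ) i ≠ 0 := by simp
    have hp : (μ + Finsupp.single i 1 : Fin (n + 1) →₀ ℕ) (pick (μ + Finsupp.single i 1)) ≠ 0 := by
      have hex : ∃ j, (μ + Finsupp.single i 1 : Fin (n + 1) →₀ ℕ) j ≠ 0 := ⟨i, hi⟩
      simp only [pick, dif_pos hex]
      exact hex.choose_spec
    rw [Submodule.mkQ_apply, Submodule.mkQ_apply, Submodule.Quotient.eq]
    have := exchange_mem he ha (by omega) S (fun σ τ hσ hτ => Submodule.subset_span ⟨σ, τ, hσ, hτ, rfl⟩)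
      (μ + Finsupp.single i 1) (by rw [map_add, Finsupp.degree_single, hμ]; omega) i _ hi hp
    rwa [add_tsub_cancel_right] at this
  rw [← Submodule.Quotient.mk_eq_zero]
  show q f = 0
  calc q f = ∑ i, q (Pi.single i (f i)) := by rw [← map_sum, Finset.univ_sum_single]
    _ = ∑ i, L (X i * f i) := Finset.sum_congr rfl fun i _ => by
        conv_lhs => rw [(f i).as_sum]
        conv_rhs => rw [(f i).as_sum]
        have hs : ∀ g : MvPolynomial (Fin (n + 1)) k, Pi.single i g =
            LinearMap.single k (fun _ : Fin (n + 1) => MvPolynomial (Fin (n + 1)) k) i g := fun _ => rfl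
        rw [Finset.mul_sum, map_sum, hs, map_sum, map_sum]
        refine Finset.sum_congr rfl fun μ hμ => ?_
        rw [← mul_one (coeff μ (f i)), ← smul_eq_mul, ← smul_monomial, map_smul, map_smul, mul_smul_comm, map_smul,
          LinearMap.single_apply]
        exact congrArg _ (hT i μ ((hf i).degree_eq_sum_deg_support hμ).symm)
    _ = 0 := by rw [← map_sum, hEuler, map_zero]

end Groth.Agent.S16152
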