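import Groth.Statements.S16185
import Groth.Agent.Dual349.GorMor
-- import your own Groth.Agent.* helpers here

set_option autoImplicit false
universe u
open CategoryTheory CategoryTheory.Limits AlgebraicGeometry
open Dual3

namespace Groth.Agent.S16185

/-- Let A be an Artinian local ring with maximal ideal m and let f : P → Spec A be a flat morphism of
schemes whose closed fibre X = P ×_{Spec A} Spec (A/m) is a Gorenstein scheme (locally Noetherian,
all local rings Gorenstein). Then f is a Gorenstein morphism: flat at every point with Gorenstein
local rings on its fibres. (The source takes A to be a local Artinian algebra over a field k with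
residue field k and X a k-scheme deformed flatly over A; the k-algebra structure plays no role, so
the residue field of A is used directly.) -/
theorem result
    {A : Type u} [CommRing A] [IsArtinianRing A] [IsLocalRing A]
    {P X : Scheme.{u}} (f : P ⟶ Spec (CommRingCat.of A)) [Flat f]
    (i : X ⟶ P) (q : X ⟶ Spec (CommRingCat.of (IsLocalRing.ResidueField A)))
    (hsq : IsPullback i q f (Spec.map (CommRingCat.ofHom (IsLocalRing.residue A))))
    (hX : Dual3.IsGorenstein X) : Dual3.IsGorensteinMor f := by
  intro x
  let g := Spec.map (CommRingCat.ofHom (IsLocalRing.residue A))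
  haveI : IsClosedImmersion g :=
    IsClosedImmersion.spec_of_surjective _ IsLocalRing.residue_surjective
  haveI : IsNoetherianRing (CommRingCat.of (IsLocalRing.ResidueField A)) :=
    inferInstanceAs (IsNoetherianRing (IsLocalRing.ResidueField A))
  let t : Spec (CommRingCat.of (IsLocalRing.ResidueField A)) := (⟨⊥, Ideal.isPrime_bot⟩ : PrimeSpectrum _)
  haveI : Subsingleton ↑(Spec (CommRingCat.of A)) := inferInstanceAs (Subsingleton (PrimeSpectrum A))
  obtain ⟨x', hx', -⟩ := Scheme.exists_preimage_of_isPullback hsq (x := x) (y := t) (Subsingleton.elim _ _)
  subst hx'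
  haveI : Flat q := MorphismProperty.of_isPullback (P := (@Flat : MorphismProperty Scheme.{u})) hsq ‹Flat f›
  haveI := hX.2 x'
  exact (Dual349.isGorensteinAt_iff_of_isPullback hsq x' (.inl inferInstance)
    (isNoetherianRing_of_surjective _ _ (Ideal.Quotient.mk _) Ideal.Quotient.mk_surjective)
    (Flat.stalkMap f _)).1 (Dual349.isGorensteinAt_of_gorenstein_stalk q x' (Flat.stalkMap q x') (hX.2 x')).1

end Groth.Agent.S16185
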