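import Groth.Statements.S16204
import Groth.Agent.RatRes42.Through
import Groth.Agent.RatRes42.CurveModel
import Groth.Agent.H23.EquidimFibres
import Groth.Agent.FibDim.BaseField
import Mathlib.AlgebraicGeometry.Morphisms.Proper
import Mathlib.Analysis.Complex.Polynomial.Basic

set_option autoImplicit false
open CategoryTheory MonoidalCategory CartesianMonoidalCategory AlgebraicGeometry
open RatCurv CategoryTheory.Limits
set_option linter.style.haveILetI false

namespace Groth.Agent.S16204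

theorem isClosed_point {k : Type} [Field k] {X : Scheme.{0}} (f : X ⟶ Spec (CommRingCat.of k)) [IsSeparated f]
    (p : Spec (CommRingCat.of k) ⟶ X) (hp : p ≫ f = 𝟙 _) (a : Spec (CommRingCat.of k)) :
    IsClosed ({p a} : Set X) := by
  haveI := isClosedImmersion_of_comp_eq_id f p hp
  have h := p.isClosedEmbedding.isClosed_range
  haveI : Subsingleton ↥(Spec (CommRingCat.of k)) := inferInstanceAs (Subsingleton (PrimeSpectrum k))
  rwa [Set.range_eq_singleton (fun b => congrArg p (Subsingleton.elim b a))] at h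

/-- A morphism from a proper integral variety into an affine open is constant. -/
theorem apply_eq_of_mem_affine {k : Type} [Field k] {Y X : Scheme.{0}} [IsIntegral Y]
    (q : Y ⟶ Spec (CommRingCat.of k)) [IsProper q] (g : Y ⟶ X) {V : X.Opens} (hV : IsAffineOpen V)
    (hg : ∀ y, g y ∈ V) (y y' : Y) : g y = g y' := by
  have hr : Set.range g ⊆ Set.range hV.fromSpec := by
    rw [hV.range_fromSpec]
    rintro _ ⟨y, rfl⟩
    exact hg y
  let l := IsOpenImmersion.lift hV.fromSpec g hr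
  have hl : ∀ z, g z = hV.fromSpec (l z) := fun z => by
    rw [← Scheme.Hom.comp_apply, IsOpenImmersion.lift_fac]
  have h1 : Y.toSpecΓ y = Y.toSpecΓ y' := by
    haveI : Subsingleton ↥(Spec Γ(Y, ⊤)) := by
      letI := (isField_of_universallyClosed k q).toField
      exact inferInstanceAs (Subsingleton (PrimeSpectrum Γ(Y, ⊤)))
    exact Subsingleton.elim _ _
  have h2 : ∀ z, (Spec Γ(X, V)).toSpecΓ (l z) = Spec.map l.appTop (Y.toSpecΓ z) := fun z => by
    rw [← Scheme.Hom.comp_apply, ← Scheme.Hom.comp_apply, Scheme.toSpecΓ_naturality]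
  rw [hl, hl]
  refine congrArg hV.fromSpec ((Spec Γ(X, V)).toSpecΓ.homeomorph.injective ?_)
  show (Spec Γ(X, V)).toSpecΓ (l y) = (Spec Γ(X, V)).toSpecΓ (l y')
  rw [h2, h2, h1]


/-- Let X be a projective variety over ℂ, C a smooth projective curve, c₀ a point of C and p a point of
X. Suppose the pointed curve (C, c₀) moves in X keeping c₀ at p: there are an integral curve B
(separated, of finite type over ℂ, not necessarily complete) and a morphism F : C × B → X over ℂ
with F(c₀, b) = p for every b, such that F does not factor through the projection C × B → C. Then X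
contains a rational curve passing through p: a nonconstant ℂ-morphism from the projective line to X
whose image contains p. Products, points and the projection are taken in the cartesian monoidal
category of ℂ-schemes. (The published statement also assumes X smooth; smoothness is not used and is
not assumed here.) -/
theorem result
    (X C B : Over (Spec (CommRingCat.of ℂ))) [IsIntegral X.left]
    (hX : (∃ (n : ℕ) (ι : X.left ⟶ CohB1.ProjSpace n ℂ), IsClosedImmersion ι ∧ ι ≫ CohB1.ProjSpace.toSpec n ℂ = X.hom))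
    [IsIntegral C.left] [IsProper C.hom] [Smooth C.hom] (hC : topologicalKrullDim C.left = 1)
    [IsIntegral B.left] [IsSeparated B.hom] [LocallyOfFiniteType B.hom] [QuasiCompact B.hom]
    (hB : topologicalKrullDim B.left = 1)
    (F : C ⊗ B ⟶ X) (c₀ : 𝟙_ (Over (Spec (CommRingCat.of ℂ))) ⟶ C) (p : 𝟙_ (Over (Spec (CommRingCat.of ℂ))) ⟶ X)
    (hfix : lift (toUnit B ≫ c₀) (𝟙 B) ≫ F = toUnit B ≫ p)
    (hvar : ¬ ∃ G : C ⟶ X, F = fst C B ≫ G) :
    ∃ (g : Over.mk (CohB1.ProjSpace.toSpec 1 ℂ) ⟶ X) (t : 𝟙_ (Over (Spec (CommRingCat.of ℂ))) ⟶ Over.mk (CohB1.ProjSpace.toSpec 1 ℂ)),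
      t ≫ g = p ∧ ¬ ∃ x : X.left, Set.range g.left.base ⊆ {x} := by
  classical
  obtain ⟨n, ι, hι, hιX⟩ := hX
  haveI := hι
  have hιX' : ι ≫ CohB1.ProjSpace.toSpec n ℂ = X.hom := hιX
  haveI : IsProper (CohB1.ProjSpace.toSpec n ℂ) := Groth.Agent.PnCoh.Chow.isProper_toSpec n ℂ
  haveI : IsProper (ι ≫ CohB1.ProjSpace.toSpec n ℂ) := inferInstance
  haveI : IsProper X.hom := by rw [← hιX']; infer_instance
  haveI : X.left.IsSeparated := ⟨by
    rw [show terminal.from X.left = X.hom ≫ terminal.from _ from terminal.hom_ext _ _]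
    infer_instance⟩
  haveI : B.left.IsSeparated := ⟨by
    rw [show terminal.from B.left = B.hom ≫ terminal.from _ from terminal.hom_ext _ _]
    infer_instance⟩
  haveI : Subsingleton ↥(Spec (CommRingCat.of ℂ)) := inferInstanceAs (Subsingleton (PrimeSpectrum ℂ))
  -- the smooth proper model of the parameter curve
  letI : B.left.Over (Spec (CommRingCat.of ℂ)) := ⟨B.hom⟩
  haveI : LocallyOfFiniteType (B.left ↘ Spec (CommRingCat.of ℂ)) := (inferInstance : LocallyOfFiniteType B.hom)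
  obtain ⟨Y, q, hY, hq, hqs, hdimY, W₁, u, hgW₁, hu, hu'⟩ :=
    Groth.Agent.RatRes42.exists_proper_model ℂ B.left hB
  have hu'' : u ≫ B.hom = W₁.ι ≫ q := hu'
  haveI := hY; haveI := hq; haveI := hqs; haveI := hu
  haveI : GeometricallyIntegral q := by
    haveI : IsIntegral (Over.mk q).left := hY
    exact Groth.Agent.H23.EquidimFibres.geometricallyIntegral_of_isAlgClosed (V := Over.mk q)
  let S := pullback C.hom q
  let f : S ⟶ Spec (CommRingCat.of ℂ) := pullback.fst C.hom q ≫ C.hom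
  haveI : IsLocallyNoetherian C.left := LocallyOfFiniteType.isLocallyNoetherian C.hom
  haveI : IsIntegral S := inferInstanceAs (IsIntegral (pullback C.hom q))
  haveI : Smooth f := inferInstance
  haveI : QuasiCompact f := inferInstance
  have hdim : topologicalKrullDim S = 2 := by
    show topologicalKrullDim ↥(pullback C.hom q) = 2
    rw [Groth.Agent.FibDim.topologicalKrullDim_pullback, hC, hdimY]
    norm_num
  let c₀L : Spec (CommRingCat.of ℂ) ⟶ C.left := c₀.left
  let pL : Spec (CommRingCat.of ℂ) ⟶ X.left := p.left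
  have hc₀ : c₀L ≫ C.hom = 𝟙 (Spec (CommRingCat.of ℂ)) := Over.w c₀
  have hp : pL ≫ X.hom = 𝟙 (Spec (CommRingCat.of ℂ)) := Over.w p
  have hp' : pL ≫ ι ≫ CohB1.ProjSpace.toSpec n ℂ = 𝟙 _ := by rw [hιX']; exact hp
  -- the contracted curve
  let σ : Y ⟶ S := pullback.lift (q ≫ c₀L) (𝟙 Y)
    (by rw [Category.assoc, hc₀, Category.comp_id, Category.id_comp])
  have hσsnd : σ ≫ pullback.snd C.hom q = 𝟙 Y := pullback.lift_snd _ _ _
  have hσfst : σ ≫ pullback.fst C.hom q = q ≫ c₀L := pullback.lift_fst _ _ _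
  haveI : IsClosedImmersion σ := by
    haveI : IsClosedImmersion (σ ≫ pullback.snd C.hom q) := by rw [hσsnd]; infer_instance
    exact IsClosedImmersion.of_comp σ (pullback.snd C.hom q)
  have hσf : σ ≫ f = q := by
    simp only [f, reassoc_of% hσfst, hc₀, Category.comp_id]
  haveI : Smooth (σ ≫ f) := by rw [hσf]; infer_instance
  -- the rational map
  let W₀ : S.Opens := pullback.snd C.hom q ⁻¹ᵁ W₁
  let v : W₀.toScheme ⟶ W₁.toScheme := pullback.snd C.hom q ∣_ W₁
  let Λ : W₀.toScheme ⟶ (C ⊗ B).left := pullback.lift (W₀.ι ≫ pullback.fst C.hom q) (v ≫ u)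
    (by
      rw [Category.assoc, Category.assoc, hu'', morphismRestrict_ι_assoc, pullback.condition])
  have hΛfst : Λ ≫ pullback.fst C.hom B.hom = W₀.ι ≫ pullback.fst C.hom q := pullback.lift_fst _ _ _
  have hΛsnd : Λ ≫ pullback.snd C.hom B.hom = v ≫ u := pullback.lift_snd _ _ _
  let F₀ : W₀.toScheme ⟶ X.left := Λ ≫ F.left
  have hF₀ : F₀ ≫ X.hom = W₀.ι ≫ f := by
    show (Λ ≫ F.left) ≫ X.hom = _
    rw [Category.assoc, Over.w F]
    show Λ ≫ pullback.fst C.hom B.hom ≫ C.hom = _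
    rw [reassoc_of% hΛfst]
  have hσmem : ∀ y : Y, σ y ∈ W₀ ↔ y ∈ W₁ := fun y => by
    show pullback.snd C.hom q (σ y) ∈ W₁ ↔ _
    rw [← Scheme.Hom.comp_apply, hσsnd]
    rfl
  have hσgen : σ (genericPoint Y) ∈ W₀ := (hσmem _).2 hgW₁
  have hgen : genericPoint S ∈ W₀ := Groth.Agent.H23.RatExtend.genericPoint_mem W₀ hσgen
  let φ₀ : Spec S.functionField ⟶ X.left := W₀.fromSpecStalkOfMem (genericPoint S) hgen ≫ F₀
  have hφ₀ : φ₀ ≫ ι ≫ CohB1.ProjSpace.toSpec n ℂ = S.fromSpecStalk (genericPoint S) ≫ f := by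
    show (W₀.fromSpecStalkOfMem (genericPoint S) hgen ≫ F₀) ≫ _ = _
    rw [Category.assoc, hιX', hF₀, Scheme.Opens.fromSpecStalkOfMem_ι_assoc]
  have hHσ : σ ∣_ W₀ ≫ F₀ = (σ ⁻¹ᵁ W₀).ι ≫ (σ ≫ f) ≫ pL := by
    have hfix' := congrArg CommaMorphism.left hfix
    simp only [Over.comp_left, Over.lift_left, Over.id_left, Over.toUnit_left] at hfix'
    have hvι : (σ ∣_ W₀ ≫ v) ≫ W₁.ι = (σ ⁻¹ᵁ W₀).ι := by
      rw [Category.assoc, morphismRestrict_ι, morphismRestrict_ι_assoc, hσsnd, Category.comp_id]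
    have hvu : ((σ ∣_ W₀ ≫ v) ≫ u) ≫ B.hom = (σ ⁻¹ᵁ W₀).ι ≫ q := by
      rw [Category.assoc, hu'', ← Category.assoc _ W₁.ι, hvι]
    have hfac : σ ∣_ W₀ ≫ Λ = ((σ ∣_ W₀ ≫ v) ≫ u) ≫ pullback.lift (B.hom ≫ c₀L) (𝟙 B.left)
        (by rw [Category.assoc, hc₀, Category.comp_id, Category.id_comp]) := by
      refine pullback.hom_ext ?_ ?_
      · rw [Category.assoc, hΛfst, morphismRestrict_ι_assoc, hσfst, Category.assoc _ (pullback.lift _ _ _),
          pullback.lift_fst, ← Category.assoc _ B.hom, hvu, Category.assoc]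
      · rw [Category.assoc, hΛsnd, Category.assoc _ (pullback.lift _ _ _), pullback.lift_snd, Category.comp_id,
          Category.assoc]
    show σ ∣_ W₀ ≫ Λ ≫ F.left = _
    rw [← Category.assoc, hfac, Category.assoc, hσf, ← Category.assoc _ q, ← hvu, Category.assoc _ B.hom]
    exact congrArg (((σ ∣_ W₀ ≫ v) ≫ u) ≫ ·) hfix'
  by_cases hbad : ∃ y, IsClosed ({y} : Set Y) ∧ Groth.Agent.RatRes42.IsUndefAt f ι φ₀ (σ y)
  · obtain ⟨y, hy, hund⟩ := hbad
    obtain ⟨g, hg, ⟨z₀, hz₀⟩, hgn⟩ := Groth.Agent.RatRes42.exists_line_through_of_undef f ι hdim φ₀ hφ₀ σ hdimY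
      pL hp' W₀ hgen hσgen F₀ rfl hHσ y hy hund
    let a₀ : Spec (CommRingCat.of ℂ) := IsLocalRing.closedPoint ℂ
    haveI : IsProper (CohB1.ProjSpace.toSpec 1 ℂ) := Groth.Agent.PnCoh.Chow.isProper_toSpec 1 ℂ
    haveI : JacobsonSpace ↥(CohB1.ProjSpace 1 ℂ) := LocallyOfFiniteType.jacobsonSpace (CohB1.ProjSpace.toSpec 1 ℂ)
    obtain ⟨z, hz, hzc⟩ := nonempty_inter_closedPoints (Z := g ⁻¹' {pL a₀}) ⟨z₀, hz₀⟩
      ((isClosed_point X.hom pL hp a₀).preimage g.continuous).isLocallyClosed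
    have hgX : g ≫ X.hom = CohB1.ProjSpace.toSpec 1 ℂ := by rw [← hιX']; exact hg
    refine ⟨Over.homMk g hgX,
      Over.homMk (pointOfClosedPoint (CohB1.ProjSpace.toSpec 1 ℂ) z hzc) (pointOfClosedPoint_comp _ _ _), ?_, hgn⟩
    refine Over.OverMorphism.ext (ext_of_apply_closedPoint_eq X.hom ?_ hp ?_)
    · show (pointOfClosedPoint _ z hzc ≫ g) ≫ X.hom = _
      rw [Category.assoc, hgX, pointOfClosedPoint_comp]
    · show (pointOfClosedPoint _ z hzc ≫ g) a₀ = pL a₀
      rw [Scheme.Hom.comp_apply, pointOfClosedPoint_apply]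
      exact hz
  exfalso
  push Not at hbad
  obtain ⟨W, hW, H, hTW, hH, hH₀⟩ := Groth.Agent.RatRes42.exists_morphism_of_defined f ι φ₀ hφ₀
    (σ '' {y | IsClosed ({y} : Set Y)}) (by rintro _ ⟨y, hy, rfl⟩; exact hbad y hy)
  have hσW : ∀ y : Y, σ y ∈ W := fun y => by
    obtain ⟨c, hyc, hc⟩ := Groth.Agent.VarDim.exists_closed_specialization q y
    exact (hyc.map σ.continuous).mem_open W.2 (hTW ⟨c, hc, rfl⟩)
  -- the extension agrees with the given map
  have hagree : S.homOfLE (inf_le_left : W ⊓ W₀ ≤ W) ≫ H = S.homOfLE (inf_le_right : W ⊓ W₀ ≤ W₀) ≫ F₀ := by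
    have hmem : genericPoint S ∈ W ⊓ W₀ := ⟨hW, hgen⟩
    haveI := Groth.Agent.H23.RatExtend.isDominant_fromSpecStalkOfMem (W ⊓ W₀) hmem
    refine ext_of_isDominant ((W ⊓ W₀).fromSpecStalkOfMem (genericPoint S) hmem) ?_
    have e1 : (W ⊓ W₀).fromSpecStalkOfMem (genericPoint S) hmem ≫ S.homOfLE inf_le_left =
        W.fromSpecStalkOfMem (genericPoint S) hW := by
      rw [← cancel_mono W.ι, Category.assoc, Scheme.homOfLE_ι, Scheme.Opens.fromSpecStalkOfMem_ι,
        Scheme.Opens.fromSpecStalkOfMem_ι]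
    have e2 : (W ⊓ W₀).fromSpecStalkOfMem (genericPoint S) hmem ≫ S.homOfLE inf_le_right =
        W₀.fromSpecStalkOfMem (genericPoint S) hgen := by
      rw [← cancel_mono W₀.ι, Category.assoc, Scheme.homOfLE_ι, Scheme.Opens.fromSpecStalkOfMem_ι,
        Scheme.Opens.fromSpecStalkOfMem_ι]
    rw [reassoc_of% e1, reassoc_of% e2, hH₀]
  have hagree' : ∀ (s : S) (h1 : s ∈ W) (h2 : s ∈ W₀), H ⟨s, h1⟩ = F₀ ⟨s, h2⟩ := fun s h1 h2 => by
    have h := congrArg (fun m => m ⟨s, h1, h2⟩) hagree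
    simp only [Scheme.Hom.comp_apply] at h
    have e : ∀ {U V : S.Opens} (hUV : U ≤ V) (x : U.toScheme), S.homOfLE hUV x = ⟨x.1, hUV x.2⟩ := fun hUV x =>
      Subtype.ext (congr($(Scheme.homOfLE_ι S hUV) x))
    rwa [e, e] at h
  -- the extension contracts the curve
  let a₀ : Spec (CommRingCat.of ℂ) := IsLocalRing.closedPoint ℂ
  have hpc := isClosed_point X.hom pL hp a₀
  have hHp : ∀ y : Y, H ⟨σ y, hσW y⟩ = pL a₀ := by
    have hcont : Continuous fun y : Y => H ⟨σ y, hσW y⟩ :=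
      H.continuous.comp (Continuous.subtype_mk σ.continuous hσW)
    have h1 : (W₁ : Set Y) ⊆ (fun y : Y => H ⟨σ y, hσW y⟩) ⁻¹' {pL a₀} := fun y hy => by
      have hy' : σ y ∈ W₀ := (hσmem y).2 hy
      show H ⟨σ y, hσW y⟩ = pL a₀
      rw [hagree' _ _ hy']
      have h2 := congrArg (fun m => m ⟨y, hy'⟩) hHσ
      simp only [Scheme.Hom.comp_apply] at h2
      refine (Eq.trans ?_ h2).trans (congrArg pL (Subsingleton.elim _ _))
      exact congrArg F₀ (Subtype.ext (congr($(morphismRestrict_ι σ W₀) ⟨y, hy'⟩)).symm)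
    intro y
    exact (hpc.preimage hcont).closure_subset_iff.2 h1 (W₁.2.dense ⟨_, hgW₁⟩ y)
  -- the points whose fibres go into an affine neighbourhood of `p`
  obtain ⟨_, ⟨V, hV, rfl⟩, hpV, -⟩ := X.left.isBasis_affineOpens.exists_subset_of_mem_open
    (Set.mem_univ (pL a₀)) isOpen_univ
  let Ω : S.Opens := W.ι ''ᵁ (H ⁻¹ᵁ V)
  have hΩ : ∀ s : S, s ∈ Ω → ∃ h : s ∈ W, H ⟨s, h⟩ ∈ V := by
    rintro _ ⟨⟨s, hs⟩, hsV, rfl⟩
    exact ⟨hs, hsV⟩
  let U₁ : C.left.Opens := ⟨(pullback.fst C.hom q '' (Ω : Set S)ᶜ)ᶜ,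
    ((pullback.fst C.hom q).isClosedMap _ Ω.2.isClosed_compl).isOpen_compl⟩
  have hU₁ : c₀L a₀ ∈ U₁ := by
    rintro ⟨s, hs, hsc⟩
    refine hs ?_
    obtain ⟨w, hw, -⟩ := Scheme.Pullback.exists_preimage_pullback (f := pullback.fst C.hom q) (g := c₀L) s a₀ hsc
    let π₁ := pullback.fst (pullback.fst C.hom q) c₀L
    let π₂ := pullback.snd (pullback.fst C.hom q) c₀L
    have hcond : π₁ ≫ pullback.fst C.hom q = π₂ ≫ c₀L := pullback.condition
    have hπ : π₂ = π₁ ≫ pullback.snd C.hom q ≫ q := by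
      rw [← pullback.condition, ← Category.assoc, hcond, Category.assoc, hc₀, Category.comp_id]
    have hπσ : π₁ = (π₁ ≫ pullback.snd C.hom q) ≫ σ := by
      refine pullback.hom_ext ?_ ?_
      · rw [Category.assoc, hσfst, hcond, hπ]
        simp only [Category.assoc]
      · rw [Category.assoc, hσsnd, Category.comp_id]
    obtain ⟨y, hy⟩ : ∃ y, σ y = s := ⟨(π₁ ≫ pullback.snd C.hom q) w, by
      rw [← Scheme.Hom.comp_apply, ← hπσ]
      exact hw⟩
    rw [← hy]
    exact ⟨⟨σ y, hσW y⟩, (show H ⟨σ y, hσW y⟩ ∈ V by rw [hHp]; exact hpV), rfl⟩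
  -- a rational point of the parameter curve
  haveI : JacobsonSpace ↥Y := LocallyOfFiniteType.jacobsonSpace q
  obtain ⟨y₀, hy₀W, hy₀⟩ := nonempty_inter_closedPoints (Z := (W₁ : Set Y)) ⟨_, hgW₁⟩ W₁.2.isLocallyClosed
  let yp : Spec (CommRingCat.of ℂ) ⟶ Y := pointOfClosedPoint q y₀ hy₀
  have hyp : ∀ a, yp a = y₀ := fun a => pointOfClosedPoint_apply _ _ _ a
  let yW : Spec (CommRingCat.of ℂ) ⟶ W₁.toScheme := IsOpenImmersion.lift W₁.ι yp (by
    rw [Scheme.Opens.range_ι]
    rintro _ ⟨a, rfl⟩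
    rw [hyp]
    exact hy₀W)
  have hyW : yW ≫ W₁.ι = yp := IsOpenImmersion.lift_fac _ _ _
  let b₀ : 𝟙_ (Over (Spec (CommRingCat.of ℂ))) ⟶ B := Over.homMk (yW ≫ u) (by
    show (yW ≫ u) ≫ B.hom = 𝟙 _
    rw [Category.assoc, hu'', reassoc_of% hyW, pointOfClosedPoint_comp])
  let G : C ⟶ X := lift (𝟙 C) (toUnit C ≫ b₀) ≫ F
  refine hvar ⟨G, Over.OverMorphism.ext ?_⟩
  have hΛd : IsDominant Λ := by
    refine ⟨?_⟩
    haveI : UniversallyOpen (pullback.snd C.hom B.hom) := inferInstance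
    refine Dense.mono ?_ (Dense.preimage (show DenseRange u from u.denseRange) (pullback.snd C.hom B.hom).isOpenMap)
    rintro s ⟨w, hw⟩
    obtain ⟨z, hz, -⟩ := Scheme.Pullback.exists_preimage_pullback (f := pullback.snd C.hom B.hom) (g := u) s w hw.symm
    let π₁ := pullback.fst (pullback.snd C.hom B.hom) u
    let π₂ := pullback.snd (pullback.snd C.hom B.hom) u
    have hcond : π₁ ≫ pullback.snd C.hom B.hom = π₂ ≫ u := pullback.condition
    let m : pullback (pullback.snd C.hom B.hom) u ⟶ S := pullback.lift (π₁ ≫ pullback.fst C.hom B.hom) (π₂ ≫ W₁.ι) (by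
      rw [Category.assoc, pullback.condition, reassoc_of% hcond, hu'', Category.assoc])
    have hm : Set.range m ⊆ Set.range W₀.ι := by
      rw [Scheme.Opens.range_ι]
      rintro _ ⟨z, rfl⟩
      show pullback.snd C.hom q (m z) ∈ W₁
      rw [← Scheme.Hom.comp_apply, pullback.lift_snd, Scheme.Hom.comp_apply]
      exact (π₂ z).2
    let m' := IsOpenImmersion.lift W₀.ι m hm
    have hm' : m' ≫ Λ = π₁ := by
      refine pullback.hom_ext ?_ ?_
      · rw [Category.assoc, hΛfst, IsOpenImmersion.lift_fac_assoc, pullback.lift_fst]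
      · rw [Category.assoc, hΛsnd, hcond, ← Category.assoc]
        congr 1
        rw [← cancel_mono W₁.ι, Category.assoc, morphismRestrict_ι, IsOpenImmersion.lift_fac_assoc,
          pullback.lift_snd]
    exact ⟨m' z, by rw [← Scheme.Hom.comp_apply, hm']; exact hz⟩
  haveI := hΛd
  haveI : IsReduced (C ⊗ B).left := by
    haveI : GeometricallyIntegral B.hom := Groth.Agent.H23.EquidimFibres.geometricallyIntegral_of_isAlgClosed
    haveI : IsIntegral (C ⊗ B).left := inferInstanceAs (IsIntegral (pullback C.hom B.hom))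
    infer_instance
  refine ext_of_isDominant Λ ?_
  haveI : LocallyOfFiniteType ((Λ ≫ F.left) ≫ X.hom) := by
    show LocallyOfFiniteType (F₀ ≫ X.hom)
    rw [hF₀]
    infer_instance
  haveI : JacobsonSpace ↥W₀.toScheme := LocallyOfFiniteType.jacobsonSpace (W₀.ι ≫ f)
  let E : W₀.toScheme.Opens := W₀.ι ⁻¹ᵁ pullback.fst C.hom q ⁻¹ᵁ U₁
  have hE : (E : Set W₀.toScheme).Nonempty := by
    refine ⟨⟨σ y₀, (hσmem y₀).2 hy₀W⟩, ?_⟩
    show pullback.fst C.hom q (σ y₀) ∈ U₁
    rw [← Scheme.Hom.comp_apply, hσfst, Scheme.Hom.comp_apply, Subsingleton.elim (q y₀) a₀]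
    exact hU₁
  haveI : IrreducibleSpace ↥W₀.toScheme := by
    haveI : Nonempty W₀ := ⟨⟨_, hgen⟩⟩
    infer_instance
  refine ext_of_apply_eq X.hom (E : Set W₀.toScheme) E.2.isLocallyClosed (E.2.dense hE) (fun x hxE hx => ?_) ?_
  · -- at a closed point
    let xp : Spec (CommRingCat.of ℂ) ⟶ W₀.toScheme := pointOfClosedPoint (W₀.ι ≫ f) x hx
    have hxp : xp ≫ W₀.ι ≫ f = 𝟙 _ := pointOfClosedPoint_comp _ _ _
    have hxa : ∀ a, xp a = x := fun a => pointOfClosedPoint_apply _ _ _ a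
    let c : Spec (CommRingCat.of ℂ) ⟶ C.left := xp ≫ W₀.ι ≫ pullback.fst C.hom q
    have hc : c ≫ C.hom = 𝟙 _ := by simpa [c, f] using hxp
    let τ : Y ⟶ S := pullback.lift (q ≫ c) (𝟙 Y) (by rw [Category.assoc, hc, Category.comp_id, Category.id_comp])
    have hτfst : τ ≫ pullback.fst C.hom q = q ≫ c := pullback.lift_fst _ _ _
    have hτsnd : τ ≫ pullback.snd C.hom q = 𝟙 Y := pullback.lift_snd _ _ _
    have hτΩ : ∀ y : Y, τ y ∈ Ω := fun y => by
      by_contra hn
      have hx1 : pullback.fst C.hom q (W₀.ι x) ∈ U₁ := hxE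
      refine hx1 ⟨τ y, hn, ?_⟩
      rw [← Scheme.Hom.comp_apply, hτfst, Scheme.Hom.comp_apply]
      show (xp ≫ W₀.ι ≫ pullback.fst C.hom q) (q y) = _
      rw [Scheme.Hom.comp_apply, Scheme.Hom.comp_apply, hxa]
    let τ' : Y ⟶ W.toScheme := IsOpenImmersion.lift W.ι τ (by
      rw [Scheme.Opens.range_ι]
      rintro _ ⟨y, rfl⟩
      exact (hΩ _ (hτΩ y)).fst)
    have hτ' : ∀ y, τ' y = ⟨τ y, (hΩ _ (hτΩ y)).fst⟩ := fun y =>
      Subtype.ext (congr($(IsOpenImmersion.lift_fac W.ι τ _) y))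
    have hconst := apply_eq_of_mem_affine q (τ' ≫ H) hV (fun y => by
      rw [Scheme.Hom.comp_apply, hτ']
      exact (hΩ _ (hτΩ y)).snd)
    -- the point itself
    have hxτ : τ (pullback.snd C.hom q (W₀.ι x)) = W₀.ι x := by
      have h : (xp ≫ W₀.ι ≫ pullback.snd C.hom q) ≫ τ = xp ≫ W₀.ι := by
        refine pullback.hom_ext ?_ ?_
        · simp only [Category.assoc, hτfst]
          rw [show pullback.snd C.hom q ≫ q ≫ c = f ≫ c from by rw [← pullback.condition_assoc]; simp [f]]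
          rw [← Category.assoc W₀.ι, ← Category.assoc, hxp, Category.id_comp]
        · simp only [Category.assoc, hτsnd, Category.comp_id]
      have h' := congrArg (fun m => m a₀) h
      simpa only [Scheme.Hom.comp_apply, hxa] using h'
    have hy₀τ : τ y₀ ∈ W₀ := by
      show pullback.snd C.hom q (τ y₀) ∈ W₁
      rw [← Scheme.Hom.comp_apply, hτsnd]
      exact hy₀W
    have hkey : ∀ (s : S) (hs : s ∈ W₀) (y : Y), τ y = s → F₀ ⟨s, hs⟩ = (τ' ≫ H) y := by
      rintro _ hs y rfl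
      rw [Scheme.Hom.comp_apply τ' H, hτ', ← hagree' _ _ hs]
    show F₀ x = (Λ ≫ (fst C B ≫ G).left) x
    refine (hkey _ x.2 _ hxτ).trans ((hconst _ y₀).trans ((hkey _ hy₀τ y₀ rfl).symm.trans ?_))
    -- compute the other side
    have hΛG : (xp ≫ W₀.ι ≫ pullback.fst C.hom q) ≫ (lift (𝟙 C) (toUnit C ≫ b₀)).left =
        IsOpenImmersion.lift W₀.ι (yp ≫ τ) (by
          rw [Scheme.Opens.range_ι]
          rintro _ ⟨a, rfl⟩
          rw [Scheme.Hom.comp_apply, hyp]
          exact hy₀τ) ≫ Λ := by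
      refine pullback.hom_ext ?_ ?_
      · rw [Category.assoc _ Λ, hΛfst, IsOpenImmersion.lift_fac_assoc]
        simp only [Category.assoc, Over.lift_left, pullback.lift_fst, Over.id_left, hτfst]
        show _ = yp ≫ q ≫ c
        rw [pointOfClosedPoint_comp_assoc]
        simp [c]
      · rw [Category.assoc _ Λ, hΛsnd]
        simp only [Category.assoc, Over.lift_left, Over.comp_left, Over.toUnit_left, pullback.lift_snd]
        rw [show pullback.fst C.hom q ≫ C.hom ≫ b₀.left = f ≫ b₀.left from by simp [f], reassoc_of% hxp]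
        show yW ≫ u = _
        rw [← Category.assoc]
        congr 1
        rw [← cancel_mono W₁.ι, Category.assoc, morphismRestrict_ι, IsOpenImmersion.lift_fac_assoc, hyW,
          Category.assoc, hτsnd, Category.comp_id]
    have h1 : (Λ ≫ (fst C B ≫ G).left) x =
        F.left (((xp ≫ W₀.ι ≫ pullback.fst C.hom q) ≫ (lift (𝟙 C) (toUnit C ≫ b₀)).left) a₀) := by
      have e : Λ ≫ (fst C B ≫ G).left =
          (W₀.ι ≫ pullback.fst C.hom q) ≫ (lift (𝟙 C) (toUnit C ≫ b₀)).left ≫ F.left := by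
        show Λ ≫ pullback.fst C.hom B.hom ≫ _ = _
        rw [reassoc_of% hΛfst]
        simp [G]
      rw [e]
      simp only [Scheme.Hom.comp_apply, hxa]
    rw [h1, hΛG, Scheme.Hom.comp_apply]
    show F.left (Λ ⟨τ y₀, hy₀τ⟩) = _
    refine congrArg (fun w => F.left (Λ w)) (Subtype.ext ?_)
    refine Eq.trans ?_ (congr($(IsOpenImmersion.lift_fac W₀.ι (yp ≫ τ) _) a₀)).symm
    rw [Scheme.Hom.comp_apply, hyp]
  · rw [Category.assoc, Category.assoc, Over.w, Over.w]

end Groth.Agent.S16204
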