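import Groth.Statements.S16205
import Groth.Agent.RatRes42.Glue
import Groth.Agent.H23.EquidimFibres
import Groth.Agent.FibDim.BaseField
import Mathlib.Analysis.Complex.Polynomial.Basic

set_option autoImplicit false
open CategoryTheory MonoidalCategory CartesianMonoidalCategory AlgebraicGeometry
open RatCurv CategoryTheory.Limits
set_option linter.style.haveILetI false

namespace Groth.Agent.S16205

/-- Let X be a projective variety over ℂ and let C and B be smooth integral curves over ℂ (separated, of
finite type, not necessarily complete). If a rational map from the surface C × B to X, that is a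
ℂ-morphism φ defined on a nonempty open subset U of C × B, does not extend to a morphism defined on
all of C × B, then X contains a rational curve: there is a nonconstant ℂ-morphism from the
projective line to X. The product is taken in the cartesian monoidal category of ℂ-schemes. (The
published statement allows C and B singular, C even reducible, and X any variety; for C an elliptic
curve with two points glued to a node, B a curve and X that elliptic curve, the rational map induced
by the normalisation coordinate does not extend although X has no rational curve, and for smooth C,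
B the open immersion of the punctured affine plane into itself does not extend to the product of two
projective lines although the punctured plane has no complete or affine rational curves; so C and B
are taken smooth and X projective, the case the argument treats.) -/
theorem result
    (X C B : Over (Spec (CommRingCat.of ℂ))) [IsIntegral X.left]
    (hX : (∃ (n : ℕ) (ι : X.left ⟶ CohB1.ProjSpace n ℂ), IsClosedImmersion ι ∧ ι ≫ CohB1.ProjSpace.toSpec n ℂ = X.hom))
    [IsIntegral C.left] [Smooth C.hom] [IsSeparated C.hom] [QuasiCompact C.hom]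
    (hC : topologicalKrullDim C.left = 1)
    [IsIntegral B.left] [Smooth B.hom] [IsSeparated B.hom] [QuasiCompact B.hom]
    (hB : topologicalKrullDim B.left = 1)
    (U : (C ⊗ B).left.Opens) (hU : (U : Set (C ⊗ B).left).Nonempty)
    (φ : (U : Scheme.{0}) ⟶ X.left) (hφ : φ ≫ X.hom = U.ι ≫ (C ⊗ B).hom)
    (hne : ¬ ∃ ψ : (C ⊗ B).left ⟶ X.left, U.ι ≫ ψ = φ) :
    ∃ g : Over.mk (CohB1.ProjSpace.toSpec 1 ℂ) ⟶ X, ¬ ∃ x : X.left, Set.range g.left.base ⊆ {x} := by
  obtain ⟨n, ι, hι, hιX⟩ := hX
  haveI := hι
  haveI : GeometricallyIntegral B.hom := Groth.Agent.H23.EquidimFibres.geometricallyIntegral_of_isAlgClosed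
  let S := (C ⊗ B).left
  let f : S ⟶ Spec (CommRingCat.of ℂ) := (C ⊗ B).hom
  have hf : f = pullback.fst C.hom B.hom ≫ C.hom := rfl
  haveI : IsLocallyNoetherian C.left := LocallyOfFiniteType.isLocallyNoetherian C.hom
  haveI : IsIntegral S := inferInstanceAs (IsIntegral (pullback C.hom B.hom))
  haveI : Smooth f := by rw [hf]; infer_instance
  haveI : QuasiCompact f := by rw [hf]; infer_instance
  have hdim : topologicalKrullDim S = 2 := by
    show topologicalKrullDim ↥(pullback C.hom B.hom) = 2
    haveI : Subsingleton ↥(Spec (CommRingCat.of ℂ)) := inferInstanceAs (Subsingleton (PrimeSpectrum ℂ))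
    rw [Groth.Agent.FibDim.topologicalKrullDim_pullback, hC, hB]
    norm_num
  have hιX' : ι ≫ CohB1.ProjSpace.toSpec n ℂ = X.hom := hιX
  haveI : IsProper X.hom := by
    haveI : IsProper (CohB1.ProjSpace.toSpec n ℂ) := Groth.Agent.PnCoh.Chow.isProper_toSpec n ℂ
    rw [← hιX']; infer_instance
  haveI : IsProper (ι ≫ CohB1.ProjSpace.toSpec n ℂ) := by rw [hιX']; infer_instance
  have hgen : genericPoint S ∈ U := Groth.Agent.H23.RatExtend.genericPoint_mem U hU.choose_spec
  let φ₀ : Spec S.functionField ⟶ X.left := U.fromSpecStalkOfMem (genericPoint S) hgen ≫ φ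
  have hφ₀ : φ₀ ≫ ι ≫ CohB1.ProjSpace.toSpec n ℂ = S.fromSpecStalk (genericPoint S) ≫ f := by
    show (U.fromSpecStalkOfMem (genericPoint S) hgen ≫ φ) ≫ _ = _
    rw [Category.assoc, hιX', hφ, Scheme.Opens.fromSpecStalkOfMem_ι_assoc]
  by_cases hbad : ∃ x, IsClosed ({x} : Set S) ∧ Groth.Agent.RatRes42.IsUndefAt f ι φ₀ x
  · obtain ⟨x, hx, hu⟩ := hbad
    obtain ⟨g, hg, hgn⟩ := Groth.Agent.RatRes42.exists_line_of_undef f ι hdim φ₀ hφ₀ x hx hu
    exact ⟨Over.homMk g (by show g ≫ X.hom = _; rw [← hιX']; exact hg), hgn⟩
  · exfalso
    push Not at hbad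
    obtain ⟨W, hW, H, hTW, hH, hH₀⟩ := Groth.Agent.RatRes42.exists_morphism_of_defined f ι φ₀ hφ₀
      {x | IsClosed ({x} : Set S)} fun x hx => hbad x hx
    have hWtop : W = ⊤ := top_unique fun y _ => by
      obtain ⟨c, hyc, hc⟩ := Groth.Agent.VarDim.exists_closed_specialization f y
      exact hyc.mem_open W.2 (hTW hc)
    subst hWtop
    refine hne ⟨S.topIso.inv ≫ H, ?_⟩
    haveI : X.left.IsSeparated := ⟨by
      rw [show terminal.from X.left = X.hom ≫ terminal.from _ from terminal.hom_ext _ _]
      infer_instance⟩
    haveI := Groth.Agent.H23.RatExtend.isDominant_fromSpecStalkOfMem U hgen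
    refine ext_of_isDominant (U.fromSpecStalkOfMem (genericPoint S) hgen) ?_
    rw [Scheme.Opens.fromSpecStalkOfMem_ι_assoc,
      ← Scheme.Opens.fromSpecStalkOfMem_ι_assoc (U := (⊤ : S.Opens)) (x := genericPoint S) (hxU := hW),
      ← Scheme.topIso_hom, Iso.hom_inv_id_assoc]
    exact hH₀

end Groth.Agent.S16205
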