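import Groth.Statements.S16206
import Mathlib.Combinatorics.SimpleGraph.Acyclic
import Mathlib.Tactic

set_option autoImplicit false
open RatCurv

namespace Groth.Agent.S16206

open W4c3cyccovratcurv SimpleGraph

variable {k n : ℕ}

theorem contract_adj {G : SimpleGraph (Fin n)} {u w : Fin n} (a b : {v : Fin n // v ≠ w}) :
    (contract G u w).Adj a b ↔
      a ≠ b ∧ ((G.Adj a.1 b.1 ∨ (a.1 = u ∧ G.Adj w b.1)) ∨ (G.Adj b.1 a.1 ∨ (b.1 = u ∧ G.Adj w a.1))) :=
  SimpleGraph.fromRel_adj _ _ _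

theorem conicAdj_symm {T₁ T₂ : MarkedTree k} (h : ConicAdj T₁ T₂) : ConicAdj T₂ T₁ := by
  obtain ⟨u₁, w₁, u₂, w₂, h₁, h₂, φ, hu, hm⟩ := h
  exact ⟨u₂, w₂, u₁, w₁, h₂, h₁, φ.symm, by rw [← hu, RelIso.symm_apply_apply],
    fun i => by rw [← hm, RelIso.symm_apply_apply]⟩

/-- Isomorphic marked trees with an edge are one step apart. -/
theorem conicAdj_of_iso {G G' : SimpleGraph (Fin n)} (hG : G.IsTree) (hG' : G'.IsTree) {m m' : Fin k → Fin n}
    (σ : G ≃g G') (hm : ∀ i, σ (m i) = m' i) {u w : Fin n} (h : G.Adj u w) :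
    ConicAdj ⟨n, G, hG, m⟩ ⟨n, G', hG', m'⟩ := by
  refine ⟨u, w, σ u, σ w, h, σ.map_adj_iff.2 h,
    ⟨σ.toEquiv.subtypeEquiv fun a => not_congr σ.injective.eq_iff.symm, ?_⟩, rfl, fun i => ?_⟩
  · intro a b
    simp only [contract_adj, Equiv.subtypeEquiv_apply, RelIso.coe_fn_toEquiv, ne_eq, Subtype.ext_iff,
      σ.map_adj_iff, σ.injective.eq_iff]
  · show (σ.toEquiv.subtypeEquiv (q := fun b => b ≠ σ w) fun a => not_congr σ.injective.eq_iff.symm) (contractMark m u w h.ne i) = contractMark m' (σ u) (σ w) _ i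
    simp only [contractMark, ← hm, σ.injective.eq_iff]
    split_ifs <;> rfl

/-- Moving one neighbour along an edge. -/
theorem exists_slide {G : SimpleGraph (Fin n)} (hG : G.IsTree) (m : Fin k → Fin n) {u w x : Fin n}
    (huw : G.Adj u w) (hux : G.Adj u x) (hxw : x ≠ w) :
    ∃ (G' : SimpleGraph (Fin n)) (hG' : G'.IsTree), (∀ a, G.Adj w a → G'.Adj w a) ∧ G'.Adj w x ∧
      ConicAdj ⟨n, G, hG, m⟩ ⟨n, G', hG', m⟩ := by
  classical
  have hnwx : ¬ G.Adj w x := fun h => by
    have hp : (Walk.cons huw (Walk.cons h Walk.nil) : G.Walk u x).IsPath := by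
      simp [Walk.isPath_def, huw.ne, hux.ne, hxw.symm]
    have := congrArg (fun p : G.Path u x => p.1.length) ((hG.isAcyclic.subsingleton_path u x).elim ⟨_, hp⟩ (Path.singleton hux))
    simp [Path.singleton] at this
  let G' := fromEdgeSet (insert s(w, x) (G.edgeSet \ {s(u, x)}))
  have hadj : ∀ a b, G'.Adj a b ↔ a ≠ b ∧ (s(a, b) = s(w, x) ∨ (G.Adj a b ∧ s(a, b) ≠ s(u, x))) := fun a b => by
    simp only [G', fromEdgeSet_adj, Set.mem_insert_iff, Set.mem_diff, mem_edgeSet, Set.mem_singleton_iff]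
    tauto
  have hedge : G'.edgeSet = insert s(w, x) (G.edgeSet \ {s(u, x)}) := by
    ext z
    induction z with
    | _ a b =>
      simp only [mem_edgeSet, hadj, Set.mem_insert_iff, Set.mem_diff, Set.mem_singleton_iff]
      constructor
      · exact fun h => h.2
      · rintro (h | h)
        · refine ⟨?_, Or.inl h⟩
          rintro rfl
          rcases Sym2.eq_iff.1 h with ⟨rfl, rfl⟩ | ⟨rfl, rfl⟩ <;> exact hxw rfl
        · exact ⟨h.1.ne, Or.inr h⟩
  have hwx' : G'.Adj w x := (hadj _ _).2 ⟨hxw.symm, Or.inl rfl⟩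
  have huw' : G'.Adj u w := (hadj _ _).2 ⟨huw.ne, Or.inr ⟨huw, fun h => by
    rcases Sym2.eq_iff.1 h with ⟨-, rfl⟩ | ⟨rfl, -⟩
    exacts [hxw rfl, hux.ne rfl]⟩⟩
  have hconn : G'.Connected := by
    have : Nonempty (Fin n) := ⟨u⟩
    refine ⟨fun a b => ?_⟩
    obtain ⟨p⟩ := hG.connected.preconnected a b
    induction p with
    | nil => exact Reachable.refl _
    | @cons a c b hac _ ih =>
      refine Reachable.trans ?_ ih
      by_cases h : s(a, c) = s(u, x)
      · rcases Sym2.eq_iff.1 h with ⟨rfl, rfl⟩ | ⟨rfl, rfl⟩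
        · exact huw'.reachable.trans hwx'.reachable
        · exact hwx'.symm.reachable.trans huw'.symm.reachable
      · exact ((hadj _ _).2 ⟨hac.ne, Or.inr ⟨hac, h⟩⟩).reachable
  have htree : G'.IsTree := by
    rw [isTree_iff_connected_and_card]
    refine ⟨hconn, ?_⟩
    have h := (isTree_iff_connected_and_card.1 hG).2
    rw [hedge, Nat.card_coe_set_eq, Set.ncard_exchange (a := s(w, x)) (b := s(u, x)) hnwx hux,
      ← Nat.card_coe_set_eq]
    exact h
  have hwa : ∀ a, G.Adj w a → G'.Adj w a := fun a h => (hadj _ _).2 ⟨h.ne, Or.inr ⟨h, fun e => by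
    rcases Sym2.eq_iff.1 e with ⟨rfl, -⟩ | ⟨rfl, -⟩
    exacts [huw.ne rfl, hxw rfl]⟩⟩
  refine ⟨G', htree, hwa, hwx', u, w, u, w, huw, huw', ⟨Equiv.refl _, ?_⟩, rfl, fun i => rfl⟩
  rintro ⟨a, ha⟩ ⟨b, hb⟩
  simp only [Equiv.refl_apply, contract_adj, hadj, Sym2.eq_iff, ne_eq, Subtype.ext_iff]
  have := huw.symm
  have := hux.symm
  constructor
  · rintro ⟨hab, h⟩
    refine ⟨hab, ?_⟩
    rcases h with (⟨-, (⟨rfl, -⟩ | ⟨-, rfl⟩) | ⟨h, -⟩⟩ | ⟨rfl, -, (⟨-, rfl⟩ | ⟨rfl, -⟩) | ⟨h, -⟩⟩) |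
        (⟨-, (⟨rfl, -⟩ | ⟨-, rfl⟩) | ⟨h, -⟩⟩ | ⟨rfl, -, (⟨-, rfl⟩ | ⟨rfl, -⟩) | ⟨h, -⟩⟩)
    all_goals first
      | exact absurd rfl ha
      | exact absurd rfl hb
      | exact absurd rfl hxw
      | exact Or.inl (Or.inl h)
      | exact Or.inr (Or.inl h)
      | exact Or.inl (Or.inr ⟨rfl, h⟩)
      | exact Or.inr (Or.inr ⟨rfl, h⟩)
      | exact Or.inl (Or.inl hux)
      | exact Or.inr (Or.inl hux)
  · rintro ⟨hab, h⟩
    refine ⟨hab, ?_⟩
    rcases h with (h | ⟨rfl, h⟩) | (h | ⟨rfl, h⟩)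
    · by_cases e : (a = u ∧ b = x) ∨ (a = x ∧ b = u)
      · rcases e with ⟨rfl, rfl⟩ | ⟨rfl, rfl⟩
        · exact Or.inl (Or.inr ⟨rfl, fun e => hb e.symm, Or.inl (by simp)⟩)
        · exact Or.inr (Or.inr ⟨rfl, fun e => ha e.symm, Or.inl (by simp)⟩)
      · exact Or.inl (Or.inl ⟨hab, Or.inr ⟨h, e⟩⟩)
    · exact Or.inl (Or.inr ⟨rfl, h.ne, Or.inr ⟨h, by
        rintro (⟨rfl, -⟩ | ⟨rfl, -⟩)
        exacts [ha rfl, hxw rfl]⟩⟩)
    · by_cases e : (b = u ∧ a = x) ∨ (b = x ∧ a = u)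
      · rcases e with ⟨rfl, rfl⟩ | ⟨rfl, rfl⟩
        · exact Or.inr (Or.inr ⟨rfl, fun e => ha e.symm, Or.inl (by simp)⟩)
        · exact Or.inl (Or.inr ⟨rfl, fun e => hb e.symm, Or.inl (by simp)⟩)
      · exact Or.inr (Or.inl ⟨fun e => hab e.symm, Or.inr ⟨h, e⟩⟩)
    · exact Or.inr (Or.inr ⟨rfl, h.ne, Or.inr ⟨h, by
        rintro (⟨rfl, -⟩ | ⟨rfl, -⟩)
        exacts [hb rfl, hxw rfl]⟩⟩)

/-- Every tree reaches a star. -/
theorem exists_star (c : Fin n) (m : Fin k → Fin n) :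
    ∀ (N : ℕ) (G : SimpleGraph (Fin n)) (hG : G.IsTree), {y | y ≠ c ∧ ¬ G.Adj c y}.ncard ≤ N →
      ∃ (G' : SimpleGraph (Fin n)) (hG' : G'.IsTree), (∀ y, y ≠ c → G'.Adj c y) ∧
        Relation.ReflTransGen ConicAdj (⟨n, G, hG, m⟩ : MarkedTree k) ⟨n, G', hG', m⟩ := by
  intro N
  induction N with
  | zero =>
    intro G hG h
    refine ⟨G, hG, fun y hy => ?_, Relation.ReflTransGen.refl⟩
    by_contra hn
    rw [Nat.le_zero, Set.ncard_eq_zero] at h
    exact (Set.eq_empty_iff_forall_notMem.1 h) y ⟨hy, hn⟩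
  | succ N ih =>
    intro G hG h
    by_cases hall : ∀ y, y ≠ c → G.Adj c y
    · exact ⟨G, hG, hall, Relation.ReflTransGen.refl⟩
    · push Not at hall
      obtain ⟨y, hy, hy'⟩ := hall
      obtain ⟨p⟩ := hG.connected.preconnected c y
      obtain ⟨⟨⟨b, x⟩, hbx⟩, -, hb, hx⟩ := p.exists_boundary_dart {z | z = c ∨ G.Adj c z} (Or.inl rfl)
        (by rintro (h | h) <;> contradiction)
      simp only [Set.mem_setOf_eq, not_or] at hb hx
      rcases hb with rfl | hb
      · exact absurd hbx hx.2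
      obtain ⟨G', hG', hmono, hnew, hstep⟩ := exists_slide hG m hb.symm hbx hx.1
      obtain ⟨G'', hG'', hstar, hpath⟩ := ih G' hG' (by
        have hlt : {y | y ≠ c ∧ ¬ G'.Adj c y}.ncard < {y | y ≠ c ∧ ¬ G.Adj c y}.ncard := by
          refine Set.ncard_lt_ncard ⟨fun z hz => ⟨hz.1, fun h => hz.2 (hmono z h)⟩, fun hsub => ?_⟩
          exact (hsub (show x ∈ {y | y ≠ c ∧ ¬ G.Adj c y} from hx)).2 hnew
        omega)
      exact ⟨G'', hG'', hstar, Relation.ReflTransGen.head hstep hpath⟩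

/-- In a star all marks move to the centre. -/
theorem reach_centre (c : Fin n) {G : SimpleGraph (Fin n)} (hG : G.IsTree) (hstar : ∀ y, y ≠ c → G.Adj c y)
    (m : Fin k → Fin n) :
    Relation.ReflTransGen ConicAdj (⟨n, G, hG, m⟩ : MarkedTree k) ⟨n, G, hG, fun _ => c⟩ := by
  classical
  suffices ∀ s : Finset (Fin k), Relation.ReflTransGen ConicAdj (⟨n, G, hG, m⟩ : MarkedTree k)
      ⟨n, G, hG, fun i => if i ∈ s then c else m i⟩ by
    simpa using this Finset.univ
  intro s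
  induction s using Finset.induction_on with
  | empty => simp only [Finset.notMem_empty, if_false]; exact Relation.ReflTransGen.refl
  | insert i s his ih =>
    by_cases hi : m i = c
    · have : (fun j => if j ∈ insert i s then c else m j) = fun j => if j ∈ s then c else m j := by
        funext j
        by_cases hj : j = i
        · subst hj; simp [hi]
        · simp [hj]
      rw [this]
      exact ih
    · have hcv := hstar _ hi
      refine ih.tail ⟨c, m i, c, m i, hcv, hcv, RelIso.refl _, rfl, fun j => ?_⟩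
      apply Subtype.ext
      by_cases hj : j = i
      · subst hj; simp [contractMark, his, hcv.ne, apply_dite Subtype.val]
      · simp [contractMark, hj, apply_dite Subtype.val]

/-- Let G₁ and G₂ be dual graphs of linear trees of the same total degree e and with k marked points
each, that is finite trees with e vertices, every vertex of degree one, together with a list of k
marked vertices (repetitions allowed). Then a finite chain of conic deformations leads from G₁ to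
G₂. Here a conic deformation of such a graph is the marked graph obtained by contracting one edge
(the contracted vertex being the unique vertex of degree two), two marked trees are one step apart
when they have isomorphic conic deformations, the isomorphism matching the contracted vertices and
the i-th marked vertices, and the conclusion is that G₁ and G₂ are related by the
reflexive-transitive closure of this one-step relation. -/
theorem result (k : ℕ) (T₁ T₂ : W4c3cyccovratcurv.MarkedTree k)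
    (h : T₁.n = T₂.n) :
    Relation.ReflTransGen W4c3cyccovratcurv.ConicAdj T₁ T₂ := by
  obtain ⟨n, G₁, hG₁, m₁⟩ := T₁
  obtain ⟨n₂, G₂, hG₂, m₂⟩ := T₂
  obtain rfl : n = n₂ := h
  obtain ⟨c⟩ := hG₁.connected.nonempty
  obtain ⟨S₁, hS₁, hs₁, p₁⟩ := exists_star c m₁ _ G₁ hG₁ le_rfl
  obtain ⟨S₂, hS₂, hs₂, p₂⟩ := exists_star c m₂ _ G₂ hG₂ le_rfl
  have q₁ := p₁.trans (reach_centre c hS₁ hs₁ m₁)
  have q₂ := p₂.trans (reach_centre c hS₂ hs₂ m₂)
  have hadj : ∀ {S : SimpleGraph (Fin n)}, S.IsTree → (∀ y, y ≠ c → S.Adj c y) →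
      ∀ a b, S.Adj a b ↔ a ≠ b ∧ (a = c ∨ b = c) := by
    intro S hS hs a b
    refine ⟨fun h => ⟨h.ne, ?_⟩, ?_⟩
    · by_contra hne
      push Not at hne
      have hp : (Walk.cons (hs a hne.1) (Walk.cons h Walk.nil) : S.Walk c b).IsPath := by
        simp [Walk.isPath_def, hne.1.symm, hne.2.symm, h.ne]
      have := congrArg (fun p : S.Path c b => p.1.length)
        ((hS.isAcyclic.subsingleton_path c b).elim ⟨_, hp⟩ (Path.singleton (hs b hne.2)))
      simp [Path.singleton] at this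
    · rintro ⟨hab, rfl | rfl⟩
      exacts [hs b hab.symm, (hs a hab).symm]
  have hSS : S₁ = S₂ := by
    ext a b
    rw [hadj hS₁ hs₁, hadj hS₂ hs₂]
  subst hSS
  have : Std.Symm (ConicAdj (k := k)) := ⟨fun _ _ => conicAdj_symm⟩
  exact q₁.trans (Std.Symm.symm _ _ q₂)

end Groth.Agent.S16206
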