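import Groth.Statements.S16214
import Groth.Agent.S16720
import Groth.Agent.AlgStkX.BGGerbe
import Groth.Agent.AlgStkX.Artin
import Groth.Agent.AlgStLib.DiagCover

set_option autoImplicit false
set_option backward.isDefEq.respectTransparency false
set_option backward.isDefEq.respectTransparency.types false
universe u
open CategoryTheory AlgebraicGeometry
open AlgSt

namespace Groth.Agent.S16214

/-- Let k be an algebraically closed field and Δ a finite diagonalizable group scheme over k, written Δ
= D(M) = Spec k[M] for a finite abelian group M. Then the classifying stack BΔ (whose objects over a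
k-scheme T are the fppf-locally trivial Δ_T-torsors) is smooth over k, in the chart form: there are
schemes U, V over k, a smooth surjective chart (Sch/U) ⟶ BΔ, a smooth chart (Sch/V) of Spec k and a
smooth U ⟶ V making the chart square commute up to isomorphism. (Δ itself need not be smooth, e.g.
μ_p in characteristic p.) The published statement allows any diagonalizable Δ; this row takes Δ
finite, i.e. M finite, the case its proof treats. -/
theorem result (k : Type u) [Field k] [IsAlgClosed k]
    (M : Type) [AddCommGroup M] [Finite M] :
    AlgSt.LocQ (AlgSp.LocP @Smooth)
      (FibCat.toSelf (AlgSt.BG Scheme.fppfPrecoverage (Red.diag k M))) := by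
  have : IsAffine (Red.diag k M).left := isAffine_Spec _
  have : IsAffineHom (Red.diag k M).hom := isAffineHom_of_isAffine _
  have : Flat (Red.diag k M).hom := by
    refine (HasRingHomProperty.Spec_iff (P := @Flat)).mpr ?_
    exact RingHom.flat_algebraMap_iff.mpr (inferInstance : Module.Flat k (MonoidAlgebra k (Multiplicative M)))
  have : LocallyOfFinitePresentation (Red.diag k M).hom := by
    refine (HasRingHomProperty.Spec_iff (P := @LocallyOfFinitePresentation)).mpr ?_
    exact RingHom.finitePresentation_algebraMap.mpr
      (Algebra.FinitePresentation.of_finiteType.mp (inferInstance : Algebra.FiniteType k _))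
  exact (Groth.Agent.S16720.result _ _ _
    (Groth.Agent.AlgStkX.isAlgStack_quotSt (AlgSt.trivAction _))
    (Groth.Agent.AlgStLib.isDM_of_repByAlgSp Groth.Agent.AlgStLib.repByAlgSp_selfOver).1
    (FibCat.toSelf _) (Groth.Agent.AlgStkX.bg_isGerbeOver_self _)).2

end Groth.Agent.S16214
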