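import Groth.Statements.S16219
import Groth.Agent.LimDomLib.Basic
-- import your own Groth.Agent.* helpers here

set_option autoImplicit false
universe u
open Lim

namespace Groth.Agent.S16219


namespace Aux
open CategoryTheory AlgebraicGeometry
set_option linter.style.haveILetI false

variable {ι : Type u} {A C : Type u} [CommRing A] [CommRing C] [Algebra A C] (S : ι → Subalgebra A C)

/-- The index poset: the subalgebras of the family. -/
def P : Type u := {T : Subalgebra A C // ∃ i, S i = T}

instance : PartialOrder (P S) := inferInstanceAs (PartialOrder {T : Subalgebra A C // ∃ i, S i = T})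

noncomputable def ringDiag : P S ⥤ CommRingCat.{u} where
  obj T := CommRingCat.of T.1
  map h := CommRingCat.ofHom (Subalgebra.inclusion (leOfHom h : (_ : Subalgebra A C) ≤ _)).toRingHom

noncomputable def ringCocone : Limits.Cocone (ringDiag S) where
  pt := CommRingCat.of C
  ι := { app := fun T => CommRingCat.ofHom T.1.val.toRingHom, naturality := fun T T' h => rfl }

theorem nonempty_isColimit (hdir : Directed (· ≤ ·) S) (hcov : ∀ c : C, ∃ i, c ∈ S i) :
    Nonempty (Limits.IsColimit (ringCocone S)) := by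
  haveI : Nonempty (P S) := ⟨⟨S (hcov 0).choose, _, rfl⟩⟩
  haveI : IsDirectedOrder (P S) := ⟨fun T T' => by
    obtain ⟨i, hi⟩ := T.2
    obtain ⟨j, hj⟩ := T'.2
    obtain ⟨k, h1, h2⟩ := hdir i j
    exact ⟨⟨S k, k, rfl⟩, (hi ▸ h1 : T.1 ≤ S k), (hj ▸ h2 : T'.1 ≤ S k)⟩⟩
  haveI : Limits.ReflectsColimit (ringDiag S) (forget CommRingCat.{u}) :=
    Limits.reflectsColimit_of_reflectsIsomorphisms _ _
  refine ⟨Limits.isColimitOfReflects (forget CommRingCat.{u}) (Limits.Types.FilteredColimit.isColimitOf _ _ ?_ ?_)⟩
  · intro x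
    obtain ⟨i, hi⟩ := hcov x
    exact ⟨⟨S i, i, rfl⟩, ⟨x, hi⟩, rfl⟩
  · intro T T' x y h
    obtain ⟨k, hk, hk'⟩ := directed_of (· ≤ ·) T T'
    exact ⟨k, homOfLE hk, homOfLE hk', Subtype.ext h⟩

end Aux


open AlgebraicGeometry CategoryTheory in
/-- Let A be a commutative ring, X a scheme of finite type over Spec A (quasi-compact and locally of
finite type), C an A-algebra that is an integral domain and the union of a directed family of
A-subalgebras C_i, and g : Spec C → X an A-morphism. Then for some index i there is an A-morphism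
Spec C_i → X whose composite with the morphism Spec C → Spec C_i induced by the inclusion is g. The
published statement asserts that the map from the colimit of the sets of A-morphisms Spec C_i → X to
the set of A-morphisms Spec C → X is bijective; this row states only that it is surjective
(injectivity holds for every filtered colimit of A-algebras). -/
theorem result
    {ι : Type u} (A C : Type u) [CommRing A] [CommRing C] [Algebra A C] [IsDomain C]
    (S : ι → Subalgebra A C) (hdir : Directed (· ≤ ·) S) (hcov : ∀ c : C, ∃ i, c ∈ S i)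
    (X : Scheme.{u}) (f : X ⟶ Spec (CommRingCat.of A))
    [LocallyOfFiniteType f] [QuasiCompact f]
    (g : Spec (CommRingCat.of C) ⟶ X)
    (hg : g ≫ f = Spec.map (CommRingCat.ofHom (algebraMap A C))) :
    ∃ (i : ι) (g' : Spec (CommRingCat.of (S i)) ⟶ X),
      g' ≫ f = Spec.map (CommRingCat.ofHom (algebraMap A (S i))) ∧
      Spec.map (CommRingCat.ofHom (S i).val.toRingHom) ≫ g' = g := by
  obtain ⟨hcol⟩ := Aux.nonempty_isColimit S hdir hcov
  haveI : Nonempty (Aux.P S) := ⟨⟨S (hcov 0).choose, _, rfl⟩⟩
  haveI : IsDirectedOrder (Aux.P S) := ⟨fun T T' => by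
    obtain ⟨i, hi⟩ := T.2
    obtain ⟨j, hj⟩ := T'.2
    obtain ⟨k, h1, h2⟩ := hdir i j
    exact ⟨⟨S k, k, rfl⟩, (hi ▸ h1 : T.1 ≤ S k), (hj ▸ h2 : T'.1 ≤ S k)⟩⟩
  let D : (Aux.P S)ᵒᵖ ⥤ Scheme.{u} := (Aux.ringDiag S).op ⋙ Scheme.Spec
  let c : Limits.Cone D := Scheme.Spec.mapCone (Aux.ringCocone S).op
  have hc : Limits.IsLimit c := Limits.isLimitOfPreserves Scheme.Spec hcol.op
  haveI : ∀ {i j : (Aux.P S)ᵒᵖ} (f : i ⟶ j), IsAffineHom (D.map f) := fun f => by dsimp [D]; infer_instance
  haveI : ∀ i, CompactSpace (D.obj i) := fun i => by dsimp [D]; infer_instance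
  haveI : ∀ i, QuasiSeparatedSpace (D.obj i) := fun i => by dsimp [D]; infer_instance
  let t : D ⟶ (Functor.const _).obj (Spec (CommRingCat.of A)) :=
    { app := fun T => Spec.map (CommRingCat.ofHom (algebraMap A T.unop.1))
      naturality := fun T T' h => ((Spec.map_comp _ _).symm.trans (congrArg Spec.map
        (CommRingCat.hom_ext (RingHom.ext fun a => Subtype.ext rfl)))).trans (Category.comp_id _).symm }
  have hπ : ∀ T, IsSchemeTheoreticallyDominant (c.π.app T) := fun T => by
    show IsSchemeTheoreticallyDominant (Spec.map (CommRingCat.ofHom T.unop.1.val.toRingHom))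
    haveI : IsDomain (CommRingCat.of T.unop.1) := inferInstanceAs (IsDomain T.unop.1)
    haveI : IsDominant (Spec.map (CommRingCat.ofHom T.unop.1.val.toRingHom)) := by
      refine ⟨?_⟩
      show DenseRange (PrimeSpectrum.comap T.unop.1.val.toRingHom)
      rw [PrimeSpectrum.denseRange_comap_iff_ker_le_nilRadical,
        (RingHom.injective_iff_ker_eq_bot _).1 Subtype.val_injective]
      exact bot_le
    exact IsSchemeTheoreticallyDominant.of_isDominant _
  obtain ⟨T, g', h1, h2⟩ := LimDomLib.exists_π_app_comp_eq_of_locallyOfFiniteType D t f c hc hπ g (by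
    ext T
    exact ((Spec.map_comp _ _).symm.trans (congrArg Spec.map
      (CommRingCat.hom_ext (RingHom.ext fun a => rfl)))).trans hg.symm)
  obtain ⟨⟨_, i, rfl⟩⟩ := T
  exact ⟨i, g', h2, h1⟩


end Groth.Agent.S16219
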