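import Groth.Statements.S1622
import Groth.Agent.ResolveLib.BlowTwo.Global

set_option autoImplicit false
universe u
open CategoryTheory CategoryTheory.Limits AlgebraicGeometry
open Resolve

namespace Groth.Agent.S1622

/-- The blow-up of a two-dimensional regular local ring at its closed point is irreducible and regular. -/
theorem result (A : Type u) [CommRing A] [IsRegularLocalRing A] (hA : ringKrullDim A = 2)
    (X : Scheme.{u}) (b : X ⟶ Spec (CommRingCat.of A)) (hb : BlowUp.IsBlowUp b (Curv2.idealSheaf A (IsLocalRing.maximalIdeal A))) :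
    IrreducibleSpace X ∧ ∀ x : X, IsRegularLocalRing (X.presheaf.stalk x) := by
  haveI := RegLoc6.isDomain_of_isRegularLocalRing A
  obtain ⟨s, t, hgen, hs, ht, -⟩ := ResolveLib.BlowTwo.exists_params A hA
  obtain ⟨c⟩ := ResolveLib.BlowTwo.nonempty_charts b hb hgen
  haveI := c.isIntegral hs ht (by rw [hgen]; exact Ideal.subset_span (by simp))
  exact ⟨inferInstance, fun x => ResolveLib.BlowTwo.isRegularLocalRing_stalk hA hb x⟩

end Groth.Agent.S1622
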