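import Groth.Statements.S1624
import Groth.Agent.ResolveLib.BlowTwo.Cohom
-- import your own Groth.Agent.* helpers here

set_option autoImplicit false
universe u
open CategoryTheory CategoryTheory.Limits AlgebraicGeometry
open Resolve

set_option backward.isDefEq.respectTransparency false
set_option backward.isDefEq.respectTransparency.types false
set_option linter.style.haveILetI false

namespace Groth.Agent.S1624

/-- Let A be a regular local ring of dimension two and b : X → Spec A the blowing up in the maximal
ideal. If F is a quasi-coherent O_X-module which is globally generated, then H¹(X, F) = 0. -/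
theorem result (A : Type u) [CommRing A] [IsRegularLocalRing A] (hA : ringKrullDim A = 2)
    (X : Scheme.{u}) (b : X ⟶ Spec (CommRingCat.of A)) (hb : BlowUp.IsBlowUp b (Curv2.idealSheaf A (IsLocalRing.maximalIdeal A)))
    (F : X.Modules) (hF : Coh.IsQCoh F) (hgg : Curv2.IsGloballyGenerated F) : Subsingleton (Coh.HH X F 1) := by
  
  obtain ⟨hsep, U, V, hU, hV, hcov, hr⟩ := ResolveLib.BlowTwo.exists_split_cover hA hb
  haveI := hsep
  refine QCoh.Ab.subsingleton_H_of_HU_top (X := X.toPresheafedSpace.carrier) (QCoh.abSheaf F) 1 ?_
  rw [← hcov]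
  exact ResolveLib.TwoCover.subsingleton_HU_one_sup _ U V
    (QCoh.subsingleton_HU_of_isAffineOpen hF hU 0) (QCoh.subsingleton_HU_of_isAffineOpen hF hV 0)
    (ResolveLib.BlowTwo.decompose_mod (hU.inf hV) hF hgg hr)

end Groth.Agent.S1624
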