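import Groth.Statements.S1627
import Groth.Agent.VarPicOne.NoProper
-- import your own Groth.Agent.* helpers here

set_option autoImplicit false
universe u
open CategoryTheory CategoryTheory.Limits AlgebraicGeometry
open Variety

namespace Groth.Agent.S1627

/-- A curve X over k (integral, separated, of finite type, of dimension one) is either affine or
H-projective, i.e. admits a closed immersion into some P^d_k over k. -/
theorem result (k : Type u) [Field k] (X : Scheme.{u}) [X.Over (Spec (CommRingCat.of k))] [IsIntegral X] [IsSeparated (X ↘ (Spec (CommRingCat.of k)))] [LocallyOfFiniteType (X ↘ (Spec (CommRingCat.of k)))] [QuasiCompact (X ↘ (Spec (CommRingCat.of k)))] (hdim : topologicalKrullDim X = 1) :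
    IsAffine X ∨ ∃ (d : ℕ) (c : X ⟶ CohB1.ProjSpace d k), IsClosedImmersion c ∧ c ≫ CohB1.ProjSpace.toSpec d k = X ↘ (Spec (CommRingCat.of k)) := by
  haveI : IsLocallyNoetherian X := LocallyOfFiniteType.isLocallyNoetherian (X ↘ Spec (CommRingCat.of k))
  haveI : CompactSpace X := QuasiCompact.compactSpace_of_compactSpace (X ↘ Spec (CommRingCat.of k))
  haveI : IsNoetherian X := {}
  by_cases hp : IsProper (X ↘ (Spec (CommRingCat.of k)))
  · exact .inr (Groth.Agent.VarAmp.exists_closedImmersion_projSpace k hdim.le)
  · refine .inl (Groth.Agent.VarPicOne.isAffine_of_no_proper (f := X ↘ (Spec (CommRingCat.of k))) hdim.le fun C hC _ hC' => hp ?_)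
    let I := (X.irreducibleComponentIdeal C hC).radical
    have hsupp : (I.support : Set X) = Set.univ := by
      refine top_le_iff.1 ?_
      have hCuniv : C = Set.univ := by
        have h := irreducibleComponents_eq_singleton (X := X)
        rw [h] at hC
        exact hC
      have hI : I = Scheme.IdealSheafData.vanishingIdeal
          (⟨C, isClosed_of_mem_irreducibleComponents C hC⟩ : TopologicalSpace.Closeds X) := by
        show (X.irreducibleComponentIdeal C hC).radical = _
        rw [← Scheme.IdealSheafData.vanishingIdeal_support]; rfl
      rw [← I.range_subschemeι, hI]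
      exact ((Groth.Agent.H23.RedSub.range_vanishingIdeal
        (⟨C, isClosed_of_mem_irreducibleComponents C hC⟩ : TopologicalSpace.Closeds X)).trans hCuniv).ge
    haveI : Surjective I.subschemeι :=
      ⟨Set.range_eq_univ.1 (I.range_subschemeι.trans hsupp)⟩
    haveI : IsIso I.subschemeι := isIso_of_isClosedImmersion_of_surjective _
    exact (MorphismProperty.cancel_left_of_respectsIso @IsProper I.subschemeι _).1 hC'

end Groth.Agent.S1627
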