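import Groth.Statements.S16297
import Groth.Agent.Curves16.EmbedH1
import Groth.Agent.VarAmp.Curve

set_option autoImplicit false
universe u
open CategoryTheory CategoryTheory.Limits AlgebraicGeometry
open Curves

set_option backward.isDefEq.respectTransparency false
set_option backward.isDefEq.respectTransparency.types false

namespace Groth.Agent.S16297

/-- Let k be a field and X a proper scheme over k of dimension one (not assumed reduced or irreducible)
with H^1(X, O_X) = 0, and let L be an ample invertible O_X-module. Then L is very ample: for some n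
there is a closed immersion i : X → P^n_k over k with i^*O(1) isomorphic to L (existence of an
isomorphism only). -/
theorem result (k : Type u) [Field k] (X : Scheme.{u}) [X.Over (Spec (CommRingCat.of k))]
    [IsProper (X ↘ (Spec (CommRingCat.of k)))] (hdim : topologicalKrullDim X = 1)
    (h1 : Subsingleton (Coh.HH X (Coh.structureModule X) 1))
    (L : X.Modules) (hA : CohB1.IsAmple L) :
    ∃ (n : ℕ) (i : X ⟶ CohB1.ProjSpace n k), IsClosedImmersion i ∧
      i ≫ CohB1.ProjSpace.toSpec n k = X ↘ (Spec (CommRingCat.of k)) ∧
      Nonempty ((Scheme.Modules.pullback i).obj (Twist.twistProjSpace n k 1) ≅ L) := by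
  haveI := Groth.Agent.CurveCohLib.isNoetherian_of_proper (k := k) (X := X)
  haveI : X.IsSeparated := ⟨by
    rw [← terminal.comp_from (X ↘ Spec (CommRingCat.of k))]
    infer_instance⟩
  have h2 : ∀ {M : X.Modules}, Coh.IsCoh M → Subsingleton (Coh.HH X M 2) := fun hM =>
    Groth.Agent.Snapper.subsingleton_HH_of_dim_le (d := 1) (by exact_mod_cast hdim.le) hM.1 (by omega)
  have hgg : Curv2.IsGloballyGenerated L := Groth.Agent.Curves16.gg_of_nef k hdim.le h1 hA.1 fun J hJ hJd => by
    letI : J.subscheme.Over (Spec (CommRingCat.of k)) := ⟨J.subschemeι ≫ (X ↘ Spec (CommRingCat.of k))⟩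
    haveI : IsProper (J.subscheme ↘ Spec (CommRingCat.of k)) :=
      (inferInstance : IsProper (J.subschemeι ≫ (X ↘ Spec (CommRingCat.of k))))
    haveI : CompactSpace J.subscheme := J.subschemeι.isClosedEmbedding.compactSpace
    exact (Groth.Agent.VarAmp.deg_pos_of_isAmple k hJd
      (Groth.Agent.AbTors.isAmple_pullback_of_isAffineHom J.subschemeι hA)).le
  exact Groth.Agent.Curves16.exists_embedding_of_h1 k h2 h1 hA hgg

end Groth.Agent.S16297
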