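import Groth.Statements.S16298
import Groth.Agent.S1585
import Groth.Agent.S0019
import Groth.Agent.CurveCohLib.Proper
import Groth.Agent.Lib.CurveVanish
import Groth.Agent.Lib.CurveSlope
import Groth.Agent.QCoh.AffineCohom
-- import your own Groth.Agent.* helpers here

set_option autoImplicit false
universe u
open CategoryTheory CategoryTheory.Limits AlgebraicGeometry
open Curves

namespace Groth.Agent.S16298

/-- Let k be a field and X a genus-zero curve over k, that is, an integral scheme proper over k of
dimension one with H^1(X, O_X) = 0. Then the normalization Y of X again satisfies H^1(Y, O_Y) = 0,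
so Y is again a genus-zero curve. (The two instance binders on the morphism from the generic point
always hold; they are only needed to form the normalization.) -/
theorem result (k : Type u) [Field k] (X : Scheme.{u}) [X.Over (Spec (CommRingCat.of k))]
    [IsIntegral X] [IsProper (X ↘ (Spec (CommRingCat.of k)))] (hdim : topologicalKrullDim X = 1)
    (h1 : Subsingleton (Coh.HH X (Coh.structureModule X) 1))
    [QuasiCompact (X.fromSpecStalk (genericPoint X))] [QuasiSeparated (X.fromSpecStalk (genericPoint X))] :
    Subsingleton (Coh.HH (Curv2.normalization X) (Coh.structureModule (Curv2.normalization X)) 1) := by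
  haveI := Groth.Agent.CurveCohLib.isNoetherian_of_proper (k := k) (X := X)
  obtain ⟨hfin, -, -, -, -⟩ := Groth.Agent.S1585.result k X
  haveI := hfin
  let ν := Curv2.normalizationι X
  haveI : IsLocallyNoetherian (Curv2.normalization X) := LocallyOfFiniteType.isLocallyNoetherian ν
  haveI : IsNoetherian (Curv2.normalization X) :=
    { toCompactSpace := QuasiCompact.compactSpace_of_compactSpace ν }
  have hM : Coh.IsCoh ((Scheme.Modules.pushforward ν).obj (Coh.structureModule (Curv2.normalization X))) :=
    Groth.Agent.S0019.result ν _ Groth.Agent.QCoh.isCoh_structureModule'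
  let φ := ClSub.unitToPush ν
  haveI : Mono φ := Groth.Agent.NormCurve.mono_unitToPush X
  have hQ : Coh.IsCoh (cokernel φ) := Groth.Agent.QCoh.isCoh_cokernel
    Groth.Agent.QCoh.isCoh_structureModule'.1 hM φ
  have hcl : ∀ x ∈ CohB1.support (cokernel φ), IsClosed ({x} : Set X) := fun x hx => by
    by_contra hxc
    refine hx ((Module.length_eq_zero_iff (R := X.presheaf.stalk x)).1 ?_)
    rw [Groth.Agent.NormCurve.length_cokernel_stalk X x, Groth.Agent.NormCurve.deltaInv_of_isField
      (Groth.Agent.NormCurve.isField_stalk_of_not_isClosed X hdim x hxc)]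
  haveI := Groth.Agent.CurveVanish.subsingleton_HH_of_finite (M := cokernel φ)
    (Groth.Agent.CurveCohLib.finite_of_closedPoints (Groth.Agent.QCoh.isClosed_support_of_isFT hQ.1 hQ.2) hcl)
    hcl (fun x hx => not_not.1 hx) 0
  have h2 : Subsingleton (Coh.HH X ((Scheme.Modules.pushforward ν).obj
      (Coh.structureModule (Curv2.normalization X))) 1) :=
    Groth.Agent.QCoh.subsingleton_HH_X₂ (Groth.Agent.CurveSlope.shortExact_cokernel_of_mono φ) 1 h1 this
  obtain ⟨e⟩ := Groth.Agent.QCoh.HH_push_of_isAffineHom ν
    (M := Coh.structureModule (Curv2.normalization X)) Groth.Agent.QCoh.isCoh_structureModule'.1 1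
  exact e.toEquiv.subsingleton

end Groth.Agent.S16298
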