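import Groth.Statements.S16304
import Groth.Agent.S1297
import Groth.Agent.Triage.NormInX
import Groth.Agent.ModPairLib.Basic
import Groth.Agent.OmegaLib.IdealMod

set_option autoImplicit false
set_option backward.isDefEq.respectTransparency false
set_option backward.isDefEq.respectTransparency.types false
set_option linter.style.haveILetI false
universe u
open CategoryTheory CategoryTheory.Limits AlgebraicGeometry TopologicalSpace Opposite
open Resolve

namespace Groth.Agent.S16304

/-- Functions on the preimage of an affine open of a normal scheme under a proper birational morphism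
come from the base. -/
theorem app_surjective {X Y : Scheme.{u}} [IsIntegral X] [IsIntegral Y] [IsLocallyNoetherian X]
    (hnorm : Pi1.IsNormalScheme X) (f : Y ⟶ X) [IsProper f] {O : X.Opens} (hO : (O : Set X).Nonempty)
    (hiso : IsIso (f ∣_ O)) {W : X.Opens} (hW : IsAffineOpen W) :
    Function.Surjective (f.app W) := by
  intro g
  rcases (W : Set X).eq_empty_or_nonempty with he | hne
  · obtain rfl : W = ⊥ := Opens.ext he
    haveI : Subsingleton Γ(Y, f ⁻¹ᵁ ⊥) := by
      rw [Scheme.Hom.preimage_bot]; infer_instance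
    exact ⟨0, Subsingleton.elim _ _⟩
  have hξW : genericPoint X ∈ W :=
    ((genericPoint_spec X).mem_open_set_iff W.isOpen).2 (by simpa using hne)
  have hξO : genericPoint X ∈ O :=
    ((genericPoint_spec X).mem_open_set_iff O.isOpen).2 (by simpa using hO)
  obtain ⟨y₀, hy₀⟩ := (f ∣_ O).homeomorph.surjective ⟨genericPoint X, hξO⟩
  have hy₀' : f y₀.1 = genericPoint X := by
    have := congrArg Subtype.val (show (f ∣_ O) y₀ = ⟨genericPoint X, hξO⟩ from hy₀)
    rwa [morphismRestrict_base] at this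
  have hfη : f (genericPoint Y) = genericPoint X := by
    have h1 : f (genericPoint Y) ⤳ f y₀.1 := (genericPoint_specializes y₀.1).map f.continuous
    rw [hy₀'] at h1
    exact (h1.antisymm (genericPoint_specializes _)).eq
  have hηO : genericPoint Y ∈ f ⁻¹ᵁ O := show f (genericPoint Y) ∈ O by rw [hfη]; exact hξO
  have hηW : genericPoint Y ∈ f ⁻¹ᵁ W := show f (genericPoint Y) ∈ W by rw [hfη]; exact hξW
  let γ := Y.presheaf.germ (f ⁻¹ᵁ W) (genericPoint Y) hηW
  have hγ : Function.Injective γ := germ_injective_of_isIntegral Y _ hηW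
  haveI hstalk : IsIso (f.stalkMap (genericPoint Y)) :=
    ((MorphismProperty.isomorphisms CommRingCat).arrow_mk_iso_iff
      (morphismRestrictStalkMap f O ⟨genericPoint Y, hηO⟩)).1
      (inferInstance : IsIso ((f ∣_ O).stalkMap ⟨genericPoint Y, hηO⟩))
  let ε : X.functionField ⟶ Y.presheaf.stalk (genericPoint Y) :=
    (X.presheaf.stalkCongr (Inseparable.of_eq hfη.symm)).hom ≫ f.stalkMap (genericPoint Y)
  haveI : IsIso ε := inferInstance
  let α := X.presheaf.germ W (genericPoint X) hξW
  have hαγ : α ≫ ε = f.app W ≫ γ := by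
    simp only [α, ε, γ, TopCat.Presheaf.stalkCongr_hom, ← Category.assoc,
      TopCat.Presheaf.germ_stalkSpecializes]
    exact Scheme.Hom.germ_stalkMap f W (genericPoint Y) hηW
  have hεbij : Function.Bijective ε := (ConcreteCategory.isIso_iff_bijective ε).1 inferInstance
  obtain ⟨x, hx⟩ := hεbij.2 (γ g)
  have hint : α.hom.IsIntegralElem x := by
    obtain ⟨P, hP, hPg⟩ := (Groth.Agent.S1297.finite_app f hW).to_isIntegral g
    refine ⟨P, hP, hεbij.1 ?_⟩
    show ε.hom _ = ε.hom 0
    rw [map_zero, Polynomial.hom_eval₂]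
    have := congrArg γ.hom hPg
    rw [map_zero, Polynomial.hom_eval₂] at this
    rw [← this]
    congr 1
    exact congrArg CommRingCat.Hom.hom hαγ
  obtain ⟨h, hh⟩ := Groth.Agent.Triage.NormInX.exists_section (fun p => (hnorm p).2) hξW x hint
  refine ⟨h, hγ ?_⟩
  rw [← hx, ← hh]
  exact (ConcreteCategory.congr_hom hαγ h).symm

/-- An f-free ideal sheaf vanishing over a point is contained in the ideal of the fibre. -/
theorem result (k : Type u) [Field k] (X : Scheme.{u}) [X.Over (Spec (CommRingCat.of k))]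
    [IsIntegral X] [IsSeparated (X ↘ (Spec (CommRingCat.of k)))] [LocallyOfFiniteType (X ↘ (Spec (CommRingCat.of k)))]
    [CompactSpace X] (hdim : topologicalKrullDim X = 2) (hnorm : Pi1.IsNormalScheme X)
    (P : X) (hPc : IsClosed ({P} : Set X)) (hP : ¬ IsRegularLocalRing (X.presheaf.stalk P))
    (hreg : ∀ x : X, x ≠ P → IsRegularLocalRing (X.presheaf.stalk x))
    (Y : Scheme.{u}) (f : Y ⟶ X) [IsIntegral Y] (hdimY : topologicalKrullDim Y = 2)
    (hregY : ∀ y : Y, IsRegularLocalRing (Y.presheaf.stalk y)) [IsProper f]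
    (hiso : IsIso (f ∣_ ⟨({P} : Set X)ᶜ, hPc.isOpen_compl⟩))
    (V : Y.IdealSheafData) (hV : PicF.IsInvertible (ClSub.idealMod V)) (hPV : P ∈ f.base '' (V.support : Set Y))
    (hfree : Epi ((Scheme.Modules.pullbackPushforwardAdjunction f).counit.app (ClSub.idealMod V))) :
    V ≤ (Scheme.IdealSheafData.vanishingIdeal ⟨{P}, hPc⟩).comap f := by
  haveI : IsLocallyNoetherian X := LocallyOfFiniteType.isLocallyNoetherian (X ↘ Spec (CommRingCat.of k))
  have hO : ((⟨({P} : Set X)ᶜ, hPc.isOpen_compl⟩ : X.Opens) : Set X).Nonempty := by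
    refine ⟨genericPoint X, fun h => hP ?_⟩
    rw [← show genericPoint X = P from h]
    exact (inferInstance : IsRegularLocalRing X.functionField)
  obtain ⟨y₁, hy₁, hy₁P⟩ := hPV
  let 𝔪 := Scheme.IdealSheafData.vanishingIdeal ⟨{P}, hPc⟩
  let J := 𝔪.comap f
  -- sections of `V` over preimages of opens die on the fibre
  have key : ∀ (W : X.Opens) (g : Γ(Y, f ⁻¹ᵁ W)), V.subschemeι.app (f ⁻¹ᵁ W) g = 0 →
      J.subschemeι.app (f ⁻¹ᵁ W) g = 0 := by
    intro W g hg
    refine J.subscheme.IsSheaf.section_ext fun z hz => ?_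
    obtain ⟨_, ⟨W', hW', rfl⟩, hzW', hW'W⟩ := X.isBasis_affineOpens.exists_subset_of_mem_open
      (show f (J.subschemeι z) ∈ W from hz) W.isOpen
    obtain ⟨_, ⟨U, hU, rfl⟩, hzU, hUW'⟩ := Y.isBasis_affineOpens.exists_subset_of_mem_open
      (show J.subschemeι z ∈ f ⁻¹ᵁ W' from hzW') (f ⁻¹ᵁ W').isOpen
    have hle : f ⁻¹ᵁ W' ≤ f ⁻¹ᵁ W := fun a ha => hW'W ha
    have hUW : U ≤ f ⁻¹ᵁ W := le_trans hUW' hle
    refine ⟨J.subschemeι ⁻¹ᵁ U, fun a ha => hUW ha, hzU, ?_⟩
    rw [map_zero]
    let g' := Y.presheaf.map (homOfLE hle).op g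
    obtain ⟨h, hh⟩ := app_surjective hnorm f hO hiso hW' g'
    have hnat : ∀ {A B : Y.Opens} (hAB : B ≤ A) (I : Y.IdealSheafData) (a : Γ(Y, A)),
        I.subschemeι.app B (Y.presheaf.map (homOfLE hAB).op a) =
          I.subscheme.presheaf.map (homOfLE (fun x hx => hAB hx)).op (I.subschemeι.app A a) :=
      fun hAB I a => ConcreteCategory.congr_hom (I.subschemeι.naturality (homOfLE hAB).op) a
    have hhP : h ∈ 𝔪.ideal ⟨W', hW'⟩ := by
      rw [Scheme.IdealSheafData.vanishingIdeal_ideal, PrimeSpectrum.mem_vanishingIdeal]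
      intro q hq
      by_contra hqh
      have hPh : P ∈ X.basicOpen h := by
        have h1 : q ∈ hW'.fromSpec ⁻¹ᵁ X.basicOpen h := by
          rw [hW'.fromSpec_preimage_basicOpen]; exact hqh
        rw [← show hW'.fromSpec q = P from hq]
        exact h1
      have hy₁W : y₁ ∈ f ⁻¹ᵁ W' := show f y₁ ∈ W' from hy₁P ▸ X.basicOpen_le h hPh
      have hy₁g : y₁ ∈ Y.basicOpen g' := by
        rw [← hh, ← Scheme.preimage_basicOpen]
        exact show f y₁ ∈ X.basicOpen h from hy₁P ▸ hPh
      obtain ⟨w, rfl⟩ : y₁ ∈ Set.range V.subschemeι := by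
        rw [Scheme.IdealSheafData.range_subschemeι]; exact hy₁
      have h2 : w ∈ V.subscheme.basicOpen (V.subschemeι.app (f ⁻¹ᵁ W') g') := by
        rw [← Scheme.preimage_basicOpen]; exact hy₁g
      rw [hnat hle V g, hg, map_zero, Scheme.basicOpen_zero] at h2
      exact h2
    have hmem : (f.appLE W' U hUW').hom h ∈ J.ideal ⟨U, hU⟩ := by
      rw [ModPairLib.ideal_comap 𝔪 f ⟨W', hW'⟩ ⟨U, hU⟩ hUW']
      exact Ideal.mem_map_of_mem _ hhP
    rw [← Scheme.IdealSheafData.ker_subschemeι_app, RingHom.mem_ker] at hmem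
    refine (hnat hUW J g).symm.trans (Eq.trans ?_ hmem)
    show J.subschemeι.app U _ = J.subschemeι.app U ((f.app W' ≫ Y.presheaf.map (homOfLE hUW').op) h)
    rw [CommRingCat.comp_apply, hh, ← CommRingCat.comp_apply (Y.presheaf.map (homOfLE hle).op),
      ← Functor.map_comp]
    rfl
  let χ : ClSub.idealMod V ⟶ ClSub.quotMod J := ClSub.idealModι V ≫ ClSub.toSubscheme J
  have hpush : (Scheme.Modules.pushforward f).map χ = 0 := by
    ext W s
    exact key W (OmegaSh.idealSect V (f ⁻¹ᵁ W) s) (OmegaLib.subschemeι_app_idealSect V _ s)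
  have hχ : χ = 0 := by
    refine (cancel_epi ((Scheme.Modules.pullbackPushforwardAdjunction f).counit.app (ClSub.idealMod V))).1 ?_
    have h := (Scheme.Modules.pullbackPushforwardAdjunction f).counit.naturality χ
    dsimp only [Functor.comp_map, Functor.id_map] at h
    rw [← h, hpush, comp_zero]
    simp
  rw [Scheme.IdealSheafData.le_def]
  intro U v hv
  obtain ⟨s, rfl⟩ := OmegaLib.exists_of_mem V U v hv
  rw [← Scheme.IdealSheafData.ker_subschemeι_app, RingHom.mem_ker]
  exact congr(($hχ).app U.1 s)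

end Groth.Agent.S16304
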