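import Groth.Statements.S16305
import Groth.Agent.ProjSp90.TwoSurj
import Groth.Agent.Pn90.Basic

set_option autoImplicit false
universe u
open CategoryTheory CategoryTheory.Limits AlgebraicGeometry
open ProjSp

set_option backward.isDefEq.respectTransparency false
set_option backward.isDefEq.respectTransparency.types false

namespace Groth.Agent.S16305

/-- Let k be a field and Z a zero-dimensional closed subscheme of projective N-space P^N_k, with closed
immersion i : Z → P^N_k. For an integer n write ρ_n : H^0(P^N_k, O(n)) → H^0(P^N_k, i_* i^* O(n)) =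
H^0(Z, O(n)|_Z) for the map induced on global sections by the unit O(n) → i_* i^* O(n) (restriction
of sections to Z). If the image of ρ_1 has codimension at most one in H^0(Z, O(1)|_Z), in the sense
that for some v every element is of the form ρ_1(s) + c v with c in k, then ρ_2 is surjective. -/
theorem result (k : Type u) [Field k] (N : ℕ)
    (Z : (CohB1.ProjSpace N k).IdealSheafData)
    (hZ : topologicalKrullDim (Z.support : Set (CohB1.ProjSpace N k)) ≤ 0) :
    letI : (CohB1.ProjSpace N k).Over (Spec (CommRingCat.of k)) := ⟨CohB1.ProjSpace.toSpec N k⟩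
    (∃ v : (Coh.HH (CohB1.ProjSpace N k) ((Scheme.Modules.pushforward Z.subschemeι).obj
        ((Scheme.Modules.pullback Z.subschemeι).obj (Twist.twistProjSpace N k 1))) 0),
      ∀ t : (Coh.HH (CohB1.ProjSpace N k) ((Scheme.Modules.pushforward Z.subschemeι).obj
        ((Scheme.Modules.pullback Z.subschemeι).obj (Twist.twistProjSpace N k 1))) 0),
        ∃ (s : Coh.HH (CohB1.ProjSpace N k) (Twist.twistProjSpace N k 1) 0) (c : k),
        t = @id (Coh.HH (CohB1.ProjSpace N k) ((Scheme.Modules.pushforward Z.subschemeι).obj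
        ((Scheme.Modules.pullback Z.subschemeι).obj (Twist.twistProjSpace N k 1))) 0)
          (Sheaf.H.map ((SheafOfModules.toSheaf (CohB1.ProjSpace N k).ringCatSheaf).map
            ((Scheme.Modules.pullbackPushforwardAdjunction Z.subschemeι).unit.app (Twist.twistProjSpace N k 1))) 0 s) + c • v) →
    Function.Surjective (fun s : Coh.HH (CohB1.ProjSpace N k) (Twist.twistProjSpace N k 2) 0 =>
      @id (Coh.HH (CohB1.ProjSpace N k) ((Scheme.Modules.pushforward Z.subschemeι).obj
        ((Scheme.Modules.pullback Z.subschemeι).obj (Twist.twistProjSpace N k 2))) 0)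
          (Sheaf.H.map ((SheafOfModules.toSheaf (CohB1.ProjSpace N k).ringCatSheaf).map
            ((Scheme.Modules.pullbackPushforwardAdjunction Z.subschemeι).unit.app (Twist.twistProjSpace N k 2))) 0 s)) := by
  letI : (CohB1.ProjSpace N k).Over (Spec (CommRingCat.of k)) := ⟨CohB1.ProjSpace.toSpec N k⟩
  rintro ⟨v, hv⟩ t
  haveI : IsNoetherian (CohB1.ProjSpace N k) := Groth.Agent.Pn90.isNoetherian (k := k) (n := N)
  haveI : IsLocallyNoetherian Z.subscheme := LocallyOfFiniteType.isLocallyNoetherian Z.subschemeι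
  haveI : CompactSpace Z.subscheme := QuasiCompact.compactSpace_of_compactSpace Z.subschemeι
  have hd : topologicalKrullDim Z.subscheme ≤ 0 := by
    rw [← Z.range_subschemeι] at hZ
    exact le_of_eq_of_le (IsHomeomorph.topologicalKrullDim_eq _
      Z.subschemeι.isClosedEmbedding.isEmbedding.toHomeomorph.isHomeomorph) hZ
  haveI : IsLocallyArtinian Z.subscheme := IsLocallyArtinian.of_topologicalKrullDim_le_zero hd
  haveI : Finite Z.subscheme := finite_of_compact_of_discrete
  haveI : IsAffine Z.subscheme := inferInstance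
  let ι := Z.subschemeι
  let M : ℤ → (CohB1.ProjSpace N k).Modules := fun d =>
    (Scheme.Modules.pushforward ι).obj ((Scheme.Modules.pullback ι).obj (Twist.twistProjSpace N k d))
  let eM : ∀ d : ℤ, Coh.HH (CohB1.ProjSpace N k) (M d) 0 ≃+ Γ(M d, ⊤) := fun d =>
    Sheaf.H.equiv₀ (Coh.toAb (M d)) isTerminalTop
  let eO : ∀ d : ℤ, Coh.HH (CohB1.ProjSpace N k) (Twist.twistProjSpace N k d) 0 ≃+
      Γ(Twist.twistProjSpace N k d, ⊤) := fun d =>
    Sheaf.H.equiv₀ (Coh.toAb (Twist.twistProjSpace N k d)) isTerminalTop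
  obtain ⟨s, hs⟩ := Groth.Agent.ProjSp90.main (k := k) (N := N) ι
    (eM 1 v) (fun t' => by
      obtain ⟨s, c, h⟩ := hv ((eM 1).symm t')
      refine ⟨eO 1 s, c, ?_⟩
      have h' := congrArg (eM 1) h
      rw [AddEquiv.apply_symm_apply] at h'
      refine h'.trans ((map_add (eM 1) _ _).trans (congrArg₂ (· + ·) ?_ ?_))
      · exact (Sheaf.H.equiv₀_naturality isTerminalTop _ s).symm
      · exact (Sheaf.H.equiv₀_naturality isTerminalTop _ v).symm)
    (eM 2 t)
  refine ⟨(eO 2).symm s, (eM 2).injective ?_⟩
  refine (Sheaf.H.equiv₀_naturality isTerminalTop _ _).symm.trans ?_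
  refine (congrArg _ ((eO 2).apply_symm_apply s)).trans ?_
  exact hs

end Groth.Agent.S16305
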