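import Groth.Statements.S16309
import Groth.Agent.Curves16.MulSurj
import Groth.Agent.AbTors.Deg
import Groth.Agent.VarAmp.Curve

set_option autoImplicit false
universe u
open CategoryTheory CategoryTheory.Limits AlgebraicGeometry
open Curves

set_option backward.isDefEq.respectTransparency false
set_option backward.isDefEq.respectTransparency.types false

namespace Groth.Agent.S16309

/-- Let k be a field and X a proper scheme over k of dimension one (not assumed reduced or irreducible)
with H^1(X, O_X) = 0 and H^0(X, O_X) = k, and let L be an ample invertible O_X-module. Then the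
section ring ⊕_{n ≥ 0} H^0(X, L^{⊗ n}) is generated by H^0(X, L) as a k-algebra: for every n, the
global sections of L^{⊗ n} ⊗ L = L^{⊗ (n+1)} are spanned over H^0(X, O_X) = k by the sections a ⊗ b
with a a global section of L^{⊗ n} and b a global section of L. -/
theorem result (k : Type u) [Field k] (X : Scheme.{u}) [X.Over (Spec (CommRingCat.of k))]
    [IsProper (X ↘ (Spec (CommRingCat.of k)))] (hdim : topologicalKrullDim X = 1)
    (h1 : Subsingleton (Coh.HH X (Coh.structureModule X) 1))
    (h0 : Module.finrank k (Coh.HH X (Coh.structureModule X) 0) = 1)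
    (L : X.Modules) (hA : CohB1.IsAmple L) (n : ℕ) :
    Submodule.span (X.ringCatSheaf.obj.obj (Opposite.op ⊤))
        (Set.range (fun p : (CohB1.tensorPow L n).val.obj (Opposite.op ⊤) × L.val.obj (Opposite.op ⊤) =>
          SecTwist.tmul (CohB1.tensorPow L n) L ⊤ p.1 p.2)) = ⊤ := by
  haveI := Groth.Agent.CurveCohLib.isNoetherian_of_proper (k := k) (X := X)
  haveI : X.IsSeparated := ⟨by
    rw [← terminal.comp_from (X ↘ Spec (CommRingCat.of k))]
    infer_instance⟩
  have h2 : ∀ {M : X.Modules}, Coh.IsCoh M → Subsingleton (Coh.HH X M 2) := fun hM =>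
    Groth.Agent.Snapper.subsingleton_HH_of_dim_le (d := 1) (by exact_mod_cast hdim.le) hM.1 (by omega)
  cases n with
  | zero => exact Groth.Agent.Curves16.span_tmul_eq_top_zero k hA.1
  | succ n =>
    refine Groth.Agent.Curves16.span_tmul_eq_top k h2 hA.1 ?_ 0 h1 (n + 1) (by omega)
    refine Groth.Agent.Curves16.gg_of_nef k hdim.le h1 hA.1 fun J hJ hJd => ?_
    letI : J.subscheme.Over (Spec (CommRingCat.of k)) := ⟨J.subschemeι ≫ (X ↘ Spec (CommRingCat.of k))⟩
    haveI : IsProper (J.subscheme ↘ Spec (CommRingCat.of k)) :=
      (inferInstance : IsProper (J.subschemeι ≫ (X ↘ Spec (CommRingCat.of k))))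
    haveI : CompactSpace J.subscheme := J.subschemeι.isClosedEmbedding.compactSpace
    exact (Groth.Agent.VarAmp.deg_pos_of_isAmple k hJd
      (Groth.Agent.AbTors.isAmple_pullback_of_isAffineHom J.subschemeι hA)).le

end Groth.Agent.S16309
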