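import Groth.Statements.S1633
import Groth.Agent.ResolveLib.N1Gen
import Groth.Agent.NormCurve.Branches
import Mathlib.AlgebraicGeometry.Morphisms.Etale
import Mathlib.AlgebraicGeometry.Morphisms.Finite

set_option autoImplicit false
set_option backward.isDefEq.respectTransparency false
set_option backward.isDefEq.respectTransparency.types false
set_option linter.style.haveILetI false
universe u
open CategoryTheory CategoryTheory.Limits AlgebraicGeometry TopologicalSpace
open Resolve

namespace Groth.Agent.S1633

/-- On an affine open on which the morphism to an affine scheme is étale, so is the ring map. -/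
theorem etale_appLE {X : Scheme.{u}} {R : CommRingCat.{u}} (f : X ⟶ Spec R) {D : X.Opens}
    (hD : IsAffineOpen D) [Etale (D.ι ≫ f)] : (f.appLE ⊤ D le_top).hom.Etale := by
  haveI : IsAffine D.toScheme := hD
  have h1 : (D.ι ≫ f).appTop.hom.Etale :=
    (HasRingHomProperty.iff_of_isAffine (P := @Etale)).1 inferInstance
  have h2 : f.appLE ⊤ D le_top = (D.ι ≫ f).appTop ≫ D.topIso.hom := by
    rw [Scheme.Hom.comp_appTop, Category.assoc, Scheme.Opens.ι_appTop, Scheme.Opens.topIso_hom,
      Scheme.Hom.appTop, Scheme.Hom.app_eq_appLE, ← Functor.map_comp]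
    exact (Scheme.Hom.appLE_map f le_rfl _).symm
  rw [h2]
  exact RingHom.Etale.respectsIso.1 _ D.topIso.commRingCatIsoToRingEquiv h1

/-- Normalization is finite when analytically unramified and generically étale. -/
theorem result (A : Type u) [CommRing A] [IsLocalRing A] [IsNoetherianRing A]
    [IsReduced (AdicCompletion (IsLocalRing.maximalIdeal A) A)]
    (X : Scheme.{u}) [IsIntegral X] (f : X ⟶ Spec (CommRingCat.of A)) [LocallyOfFiniteType f]
    (U : X.Opens) (hU : genericPoint X ∈ U) [Etale (U.ι ≫ f)]
    [QuasiCompact (X.fromSpecStalk (genericPoint X))] [QuasiSeparated (X.fromSpecStalk (genericPoint X))] :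
    IsFinite (Curv2.normalizationι X) := by
  haveI : IsAffineHom (Curv2.normalizationι X) :=
    inferInstanceAs (IsAffineHom (X.fromSpecStalk (genericPoint X)).fromNormalization)
  refine ⟨fun W hW => ?_⟩
  rcases (W : Set X).eq_empty_or_nonempty with he | hne
  · have e : W = ⊥ := Opens.ext he
    subst e
    haveI : Subsingleton Γ(Curv2.normalization X, Curv2.normalizationι X ⁻¹ᵁ ⊥) := by
      rw [Scheme.Hom.preimage_bot]; infer_instance
    exact RingHom.Finite.of_surjective _ fun z => ⟨0, Subsingleton.elim _ _⟩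
  haveI : Nonempty (W : X.Opens) := hne.to_subtype
  have hξW : genericPoint X ∈ W :=
    ((genericPoint_spec X).mem_open_set_iff W.isOpen).2 (by simpa using hne)
  obtain ⟨b, hbU, hξb⟩ := hW.exists_basicOpen_le ⟨genericPoint X, hU⟩ hξW
  have hbW : X.basicOpen b ≤ W := X.basicOpen_le b
  haveI : Nonempty (X.basicOpen b) := ⟨⟨_, hξb⟩⟩
  have hb : b ≠ 0 := by
    rintro rfl
    simp at hξb
  let φ : ∀ V : X.Opens, A →+* Γ(X, V) := fun V =>
    (f.appLE ⊤ V le_top).hom.comp (Scheme.ΓSpecIso (CommRingCat.of A)).inv.hom
  letI := (φ W).toAlgebra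
  letI := (φ (X.basicOpen b)).toAlgebra
  haveI : IsScalarTower A Γ(X, W) Γ(X, X.basicOpen b) := IsScalarTower.of_algebraMap_eq fun a => by
    show _ = (f.appLE ⊤ W le_top ≫ X.presheaf.map (homOfLE hbW).op).hom _
    rw [Scheme.Hom.appLE_map]
    rfl
  haveI : Algebra.FiniteType A Γ(X, W) :=
    (f.finiteType_appLE (isAffineOpen_top _) hW le_top).comp (RingHom.FiniteType.of_surjective _
      (Scheme.ΓSpecIso (CommRingCat.of A)).symm.commRingCatIsoToRingEquiv.surjective)
  haveI : Etale ((X.basicOpen b).ι ≫ f) := by
    rw [← X.homOfLE_ι hbU, Category.assoc]; infer_instance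
  haveI : Algebra.Etale A Γ(X, X.basicOpen b) :=
    RingHom.Etale.respectsIso.2 (f.appLE ⊤ (X.basicOpen b) le_top).hom
      (Scheme.ΓSpecIso (CommRingCat.of A)).symm.commRingCatIsoToRingEquiv
      (etale_appLE f (hW.basicOpen b))
  haveI := hW.isLocalization_basicOpen b
  haveI : Algebra.Etale A (Localization.Away b) :=
    Algebra.Etale.of_equiv
      ((IsLocalization.algEquiv (Submonoid.powers b) Γ(X, X.basicOpen b) (Localization.Away b)).restrictScalars A)
  let L := FractionRing Γ(X, W)
  obtain ⟨e, he⟩ := NormCurve.exists_normalizationEquiv X hW hne L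
  haveI : IsReduced (EGA4.Cpl A) :=
    ‹IsReduced (AdicCompletion (IsLocalRing.maximalIdeal A) A)›
  haveI := ResolveLib.finite_integralClosure_of_etale_away A Γ(X, W) b hb
  have h1 : (algebraMap Γ(X, W) (integralClosure Γ(X, W) L)).Finite := RingHom.finite_algebraMap.2 inferInstance
  have h2 : ((Curv2.normalizationι X).app W).hom =
      e.symm.toRingHom.comp (algebraMap Γ(X, W) (integralClosure Γ(X, W) L)) :=
    RingHom.ext fun a => by
      show _ = e.symm _
      rw [← he, e.symm_apply_apply]
  show ((Curv2.normalizationι X).app W).hom.Finite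
  rw [h2]
  exact (RingHom.Finite.of_surjective _ e.symm.surjective).comp h1

end Groth.Agent.S1633
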