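import Groth.Statements.S16344
-- import your own Groth.Agent.* helpers here

set_option autoImplicit false
universe u v
open IdeleMod

namespace Groth.Agent.S16344

/-- Let (G_i) be an inverse system, indexed by a directed preorder, of compact Hausdorff topological
abelian groups with continuous surjective transition maps, let G be its limit (the group of
compatible families) and let m be a natural number. Then the canonical map G/mG → lim G_i/mG_i is
bijective: a compatible family that lies in mG_i at every index is m times a compatible family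
(injectivity), and every family that is compatible modulo m agrees modulo m, index by index, with a
compatible family (surjectivity). -/
theorem result
    {ι : Type u} [Preorder ι] [IsDirected ι (· ≤ ·)]
    (G : ι → Type v) [∀ i, AddCommGroup (G i)] [∀ i, TopologicalSpace (G i)]
    [∀ i, IsTopologicalAddGroup (G i)] [∀ i, CompactSpace (G i)] [∀ i, T2Space (G i)]
    (f : ∀ ⦃i j : ι⦄, i ≤ j → (G j →+ G i)) (hf : ∀ i j (h : i ≤ j), Continuous (f h))
    (hid : ∀ i (x : G i), f (le_refl i) x = x)
    (hcomp : ∀ i j k (hij : i ≤ j) (hjk : j ≤ k) (x : G k), f hij (f hjk x) = f (hij.trans hjk) x)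
    (hsurj : ∀ i j (h : i ≤ j), Function.Surjective (f h)) (m : ℕ) :
    (∀ x : ∀ i, G i, (∀ i j (h : i ≤ j), f h (x j) = x i) → (∀ i, ∃ y : G i, m • y = x i) →
        ∃ z : ∀ i, G i, (∀ i j (h : i ≤ j), f h (z j) = z i) ∧ ∀ i, m • z i = x i) ∧
    (∀ y : ∀ i, G i, (∀ i j (h : i ≤ j), ∃ w : G i, f h (y j) - y i = m • w) →
        ∃ x : ∀ i, G i, (∀ i j (h : i ≤ j), f h (x j) = x i) ∧ ∀ i, ∃ w : G i, x i - y i = m • w) := by
  have key : ∀ S : ∀ i, Set (G i), (∀ i, IsClosed (S i)) → (∀ i, (S i).Nonempty) →
      (∀ i j (h : i ≤ j), ∀ z ∈ S j, f h z ∈ S i) →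
      ∃ z : ∀ i, G i, (∀ i j (h : i ≤ j), f h (z j) = z i) ∧ ∀ i, z i ∈ S i := by
    intro S hS hne hmap
    rcases isEmpty_or_nonempty ι with hι | hι
    · exact ⟨fun i => isEmptyElim i, fun i => isEmptyElim i, fun i => isEmptyElim i⟩
    classical
    let C : ι → Set (∀ i, G i) := fun j =>
      Set.pi Set.univ S ∩ ⋂ (i : ι) (h : i ≤ j), {z | f h (z j) = z i}
    have hC : ∀ j, IsClosed (C j) := fun j => IsClosed.inter (isClosed_set_pi fun i _ => hS i)
      (isClosed_iInter fun i => isClosed_iInter fun h =>
        isClosed_eq ((hf _ _ h).comp (continuous_apply j)) (continuous_apply i))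
    have hCne : ∀ j, (C j).Nonempty := by
      intro j
      obtain ⟨z, hz⟩ := hne j
      refine ⟨fun i => if h : i ≤ j then f h z else (hne i).choose, ?_, ?_⟩
      · intro i _
        by_cases h : i ≤ j
        · simp only [dif_pos h]; exact hmap i j h z hz
        · simp only [dif_neg h]; exact (hne i).choose_spec
      · simp only [Set.mem_iInter, Set.mem_setOf_eq]
        intro i h
        rw [dif_pos h, dif_pos (le_refl j), hid]
    have hdir : Directed (· ⊇ ·) C := by
      intro i j
      obtain ⟨l, hil, hjl⟩ := directed_of (· ≤ ·) i j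
      have aux : ∀ {i}, i ≤ l → C l ⊆ C i := by
        intro i hil z hz
        refine ⟨hz.1, ?_⟩
        have h2 := hz.2
        simp only [Set.mem_iInter, Set.mem_setOf_eq] at h2 ⊢
        intro a h
        rw [← h2 i hil, hcomp a i l h hil, h2 a (h.trans hil)]
      exact ⟨l, aux hil, aux hjl⟩
    obtain ⟨z, hz⟩ := IsCompact.nonempty_iInter_of_directed_nonempty_isCompact_isClosed C hdir hCne
      (fun j => (hC j).isCompact) hC
    rw [Set.mem_iInter] at hz
    refine ⟨z, fun i j h => ?_, fun i => (hz i).1 i trivial⟩
    have h2 := (hz j).2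
    simp only [Set.mem_iInter, Set.mem_setOf_eq] at h2
    exact h2 i h
  constructor
  · intro x hx hex
    obtain ⟨z, hz1, hz2⟩ := key (fun i => {y | m • y = x i})
      (fun i => isClosed_eq (continuous_nsmul m) continuous_const) hex
      (fun i j h z hz => by
        show m • f h z = x i
        rw [← map_nsmul, hz, hx])
    exact ⟨z, hz1, hz2⟩
  · intro y hy
    obtain ⟨z, hz1, hz2⟩ := key (fun i => (fun w => y i + m • w) '' Set.univ)
      (fun i => (isCompact_univ.image (continuous_const.add (continuous_nsmul m))).isClosed)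
      (fun i => Set.univ_nonempty.image _)
      (fun i j h z hz => by
        obtain ⟨w, _, rfl⟩ := hz
        obtain ⟨v, hv⟩ := hy i j h
        refine ⟨v + f h w, trivial, ?_⟩
        show y i + m • (v + f h w) = f h (y j + m • w)
        rw [map_add, map_nsmul, nsmul_add, ← hv]
        abel)
    refine ⟨z, hz1, fun i => ?_⟩
    obtain ⟨w, _, hw⟩ := hz2 i
    exact ⟨w, by rw [← hw]; exact add_sub_cancel_left _ _⟩

end Groth.Agent.S16344
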