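import Groth.Statements.S16348
import Groth.Agent.Cubic27.FivePoints

set_option autoImplicit false
universe u
open Cubic

namespace Groth.Agent.S16348

/-- Let k be a field of characteristic zero and S = V(F) ⊂ P^3 the cubic surface of a homogeneous cubic
F ∈ k[x_0, …, x_3] which is geometrically irreducible and not a cone, and let a be a k-rational
point of S which is not a T-point. Then S has five k-rational points in general position (no four of
them coplanar, i.e. any four representing vectors linearly independent), one of which is a. Here ℓ =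
Σ_i ∂F/∂x_i(a) · x_i is the linear form of the tangent plane at a (zero when a is singular), and a
is called a T-point when a is a smooth point of S and the plane cubic T_a S ∩ S is set-theoretically
a union of lines, i.e. when F agrees modulo ℓ with a product of three linear forms over the
algebraic closure; the hypothesis is that a is not a T-point (automatic for a singular point, F
being irreducible). S is not a cone: no nonzero vector v has Σ_i v_i ∂F/∂x_i = 0. -/
theorem result (k : Type u) [Field k] [CharZero k]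
    (F : MvPolynomial (Fin 4) k) (hF : F.IsHomogeneous 3)
    (hirr : Irreducible (MvPolynomial.map (algebraMap k (AlgebraicClosure k)) F))
    (hcone : ¬ ∃ v : Fin 4 → k, v ≠ 0 ∧ ∑ i : Fin 4, v i • MvPolynomial.pderiv i F = 0)
    (a : Fin 4 → k) (ha : a ≠ 0) (hFa : MvPolynomial.eval a F = 0)
    (ℓ : MvPolynomial (Fin 4) (AlgebraicClosure k))
    (hℓ : ℓ = ∑ i : Fin 4, MvPolynomial.C (algebraMap k (AlgebraicClosure k) (MvPolynomial.eval a (MvPolynomial.pderiv i F))) * MvPolynomial.X i)
    (hT : ¬ ∃ L₁ L₂ L₃ : MvPolynomial (Fin 4) (AlgebraicClosure k), L₁.IsHomogeneous 1 ∧ L₂.IsHomogeneous 1 ∧ L₃.IsHomogeneous 1 ∧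
      MvPolynomial.map (algebraMap k (AlgebraicClosure k)) F - L₁ * L₂ * L₃ ∈ Ideal.span {ℓ}) :
    ∃ p : Fin 5 → (Fin 4 → k), p 0 = a ∧ (∀ j : Fin 5, MvPolynomial.eval (p j) F = 0) ∧
      ∀ j : Fin 5, LinearIndependent k (fun i : Fin 4 => p (j.succAbove i)) := by
  classical
  obtain ⟨G, hG, hG₁, -⟩ := Groth.Agent.CubicLib.exists_cubic F hF
  obtain ⟨G', hG', hG'₁, -⟩ := Groth.Agent.CubicLib.exists_cubic
    (MvPolynomial.map (algebraMap k (AlgebraicClosure k)) F) (hF.map _)
  have hFF : ∀ v, G'.F (Groth.Agent.Cubic27.ext' v) = algebraMap k (AlgebraicClosure k) (G.F v) := fun v => by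
    rw [← hG', ← hG, MvPolynomial.eval_map, ← MvPolynomial.coe_eval₂Hom]
    exact MvPolynomial.map_eval₂Hom (RingHom.id k) v (algebraMap k (AlgebraicClosure k)) F |>.symm
  have hG0 : G.F a = 0 := by rw [← hG]; exact hFa
  suffices hR : ∀ (N : Finset ((Fin 4 → k) →ₗ[k] k)), (∀ g ∈ N, g ≠ 0) → ∃ x, G.F x = 0 ∧ ∀ g ∈ N, g x ≠ 0 by
    obtain ⟨p, hp0, hpF, hpli⟩ := Groth.Agent.Cubic27.exists_five ha hG0 hR
    exact ⟨p, hp0, fun j => by rw [hG]; exact hpF j, hpli⟩
  by_cases hsm : ∃ v, G.T a a v ≠ 0
  · refine Groth.Agent.Cubic27.dense_smooth hFF hG0 hsm ha fun h => hT ?_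
    have hsm' : ∃ v, G'.T (Groth.Agent.Cubic27.ext' a) (Groth.Agent.Cubic27.ext' a) v ≠ 0 :=
      hsm.elim fun v hv => ⟨_, by rw [Groth.Agent.Cubic27.T_ext' hFF _ _ v]; simpa using hv⟩
    obtain ⟨L₁, L₂, L₃, h1, h2, h3, h4⟩ :=
      (Groth.Agent.Cubic27.Tpt_iff hG' hG'₁ (Groth.Agent.Cubic27.ext' a) hsm').2 h
    refine ⟨L₁, L₂, L₃, h1, h2, h3, ?_⟩
    rw [hℓ]
    convert h4 using 6 with i
    rw [hG'₁, ← Groth.Agent.Cubic27.ext'_single, Groth.Agent.Cubic27.T_ext' hFF, hG₁, map_mul, map_ofNat]
  · push Not at hsm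
    refine Groth.Agent.Cubic27.dense_singular ha hsm (fun h => ?_) fun L B h => ?_
    · refine hcone ⟨a, ha, MvPolynomial.funext fun v => ?_⟩
      rw [Groth.Agent.Cubic27.sum_smul_pderiv_eval hG₁ a v, map_zero, G.symm₁₃, h]
      simp
    · let PL : MvPolynomial (Fin 4) k := ∑ i, MvPolynomial.C (L (Pi.single i 1)) * MvPolynomial.X i
      let PB : MvPolynomial (Fin 4) k := ∑ i, ∑ j,
        MvPolynomial.C (B (Pi.single i 1) (Pi.single j 1)) * MvPolynomial.X i * MvPolynomial.X j
      have hF' : F = PL * PB := MvPolynomial.funext fun v => by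
        rw [map_mul, hG, h]
        congr 1
        · conv_lhs => rw [pi_eq_sum_univ' v]
          simp [PL, mul_comm]
        · conv_lhs => rw [pi_eq_sum_univ' v]
          simp [PB, Finset.mul_sum]
          rw [Finset.sum_comm]
          exact Finset.sum_congr rfl fun i _ => Finset.sum_congr rfl fun j _ => by ring
      rw [hF', map_mul] at hirr
      rcases hirr.isUnit_or_isUnit rfl with hu | hu
      · simpa [PL] using hu.map (MvPolynomial.eval (0 : Fin 4 → AlgebraicClosure k))
      · simpa [PB] using hu.map (MvPolynomial.eval (0 : Fin 4 → AlgebraicClosure k))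

end Groth.Agent.S16348
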