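import Groth.Statements.S16352
import Groth.Agent.Cubic27.TPoint

set_option autoImplicit false
universe u
open Cubic

namespace Groth.Agent.S16352

/-- Let K be an algebraically closed field of characteristic zero and S = V(F) ⊂ P^3_K a cubic surface
which is irreducible and not a cone (no nonzero vector v has Σ_i v_i ∂F/∂x_i = 0). Let a be a smooth
point of S which is not a T-point: with ℓ = Σ_i ∂F/∂x_i(a) · x_i the (nonzero) linear form of the
tangent plane T_a S, F is not congruent modulo ℓ to a product of three linear forms (i.e. T_a S ∩ S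
is not set-theoretically a union of lines). Let P = Σ_i a_i ∂F/∂x_i be the first polar of a. Then
V(P) ∩ T_a S is a union of at most two lines through a, and every line through a lying on S lies in
V(P) ∩ T_a S; lines are 2-dimensional subspaces of K^4 and T_a S is the 3-dimensional subspace where
ℓ vanishes. -/
theorem result (K : Type u) [Field K] [IsAlgClosed K] [CharZero K]
    (F : MvPolynomial (Fin 4) K) (hF : F.IsHomogeneous 3) (hirr : Irreducible F)
    (hcone : ¬ ∃ v : Fin 4 → K, v ≠ 0 ∧ ∑ i : Fin 4, v i • MvPolynomial.pderiv i F = 0)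
    (a : Fin 4 → K) (ha : a ≠ 0) (hFa : MvPolynomial.eval a F = 0)
    (hsm : ∃ i : Fin 4, MvPolynomial.eval a (MvPolynomial.pderiv i F) ≠ 0)
    (ℓ : MvPolynomial (Fin 4) K)
    (hℓ : ℓ = ∑ i : Fin 4, MvPolynomial.C (MvPolynomial.eval a (MvPolynomial.pderiv i F)) * MvPolynomial.X i)
    (hT : ¬ ∃ L₁ L₂ L₃ : MvPolynomial (Fin 4) K, L₁.IsHomogeneous 1 ∧ L₂.IsHomogeneous 1 ∧ L₃.IsHomogeneous 1 ∧
      F - L₁ * L₂ * L₃ ∈ Ideal.span {ℓ})
    (P : MvPolynomial (Fin 4) K) (hP : P = ∑ i : Fin 4, a i • MvPolynomial.pderiv i F)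
    (H : Submodule K (Fin 4 → K)) (hH : ∀ x : Fin 4 → K, x ∈ H ↔ MvPolynomial.eval x ℓ = 0) :
    (∃ U₁ U₂ : Submodule K (Fin 4 → K), Module.finrank K ↥U₁ = 2 ∧ Module.finrank K ↥U₂ = 2 ∧ a ∈ U₁ ∧ a ∈ U₂ ∧
        U₁ ≤ H ∧ U₂ ≤ H ∧ {x : Fin 4 → K | x ∈ H ∧ MvPolynomial.eval x P = 0} = (U₁ : Set (Fin 4 → K)) ∪ (U₂ : Set (Fin 4 → K))) ∧
      ∀ U : Submodule K (Fin 4 → K), a ∈ U → Module.finrank K ↥U = 2 → (∀ u ∈ U, MvPolynomial.eval u F = 0) →
        U ≤ H ∧ ∀ u ∈ U, MvPolynomial.eval u P = 0 := by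
  obtain ⟨G, hG, hG₁, -⟩ := Groth.Agent.CubicLib.exists_cubic F hF
  have hG0 : G.F a = 0 := by rw [← hG]; exact hFa
  have hsm' : ∃ v, G.T a a v ≠ 0 := by
    obtain ⟨i, hi⟩ := hsm
    exact ⟨Pi.single i 1, fun h => hi (by rw [hG₁, h, mul_zero])⟩
  have hnT : ¬ Groth.Agent.Cubic27.Tpt G a := fun h =>
    hT (hℓ ▸ (Groth.Agent.Cubic27.Tpt_iff hG hG₁ a hsm').2 h)
  have hH' : ∀ x, x ∈ H ↔ G.T a a x = 0 := fun x => by
    rw [hH, hℓ]
    have : MvPolynomial.eval x (∑ i : Fin 4, MvPolynomial.C (MvPolynomial.eval a (MvPolynomial.pderiv i F)) *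
        MvPolynomial.X i) = 3 * G.T a a x := by
      conv_rhs => rw [pi_eq_sum_univ' x]
      simp only [map_sum, map_mul, MvPolynomial.eval_C, MvPolynomial.eval_X, hG₁, map_smul, smul_eq_mul, Finset.mul_sum]
      exact Finset.sum_congr rfl fun i _ => by ring
    rw [this]; simp
  have hP' : ∀ x, MvPolynomial.eval x P = 3 * G.T x x a := fun x => by
    rw [hP]; exact Groth.Agent.Cubic27.sum_smul_pderiv_eval hG₁ a x
  obtain ⟨U₁, U₂, r₁, r₂, m₁, m₂, t₁, t₂, hU⟩ :=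
    Groth.Agent.Cubic27.firstPolar_section hG0 hsm' ha hnT
  refine ⟨⟨U₁, U₂, r₁, r₂, m₁, m₂, fun x hx => (hH' x).2 (t₁ x hx), fun x hx => (hH' x).2 (t₂ x hx),
    Set.ext fun x => ?_⟩, fun U haU hU hFU => ?_⟩
  · rw [Set.mem_union, SetLike.mem_coe, SetLike.mem_coe, ← hU, Set.mem_setOf_eq, hH', hP']
    simp
  · have hz : ∀ u ∈ U, G.F u = 0 := fun u hu => by rw [← hG]; exact hFU u hu
    exact ⟨fun u hu => (hH' u).2 (Groth.Agent.CubicLib.Cubic.T_eq_zero_of_F G hz haU haU hu),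
      fun u hu => by rw [hP', Groth.Agent.CubicLib.Cubic.T_eq_zero_of_F G hz hu hu haU, mul_zero]⟩

end Groth.Agent.S16352
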