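import Groth.Statements.S16354
import Groth.Agent.Cubic27.Ext

set_option autoImplicit false
universe u
open Cubic

namespace Groth.Agent.S16354

/-- A real cubic has a root. -/
theorem exists_real_root_of_cubic (P : Polynomial ℝ) (hP : P.natDegree = 3) : ∃ x : ℝ, P.eval x = 0 := by
  by_contra! h
  have hirr : ∀ x : ℝ, ¬ P.IsRoot x := h
  obtain ⟨p, hp, hpP⟩ := WfDvdMonoid.exists_irreducible_factor (a := P)
    (fun hu => by rw [Polynomial.natDegree_eq_zero_of_isUnit hu] at hP; omega)
    (fun h0 => by simp [h0] at hP)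
  obtain ⟨q, rfl⟩ := hpP
  have hp0 := hp.ne_zero
  have hq0 : q ≠ 0 := fun h0 => by simp [h0] at hP
  rw [Polynomial.natDegree_mul hp0 hq0] at hP
  have h2 := hp.natDegree_le_two
  have h1 : p.natDegree = 1 ∨ q.natDegree = 1 := by
    have := hp.natDegree_pos
    omega
  rcases h1 with h1 | h1
  · obtain ⟨x, hx⟩ := Polynomial.exists_root_of_degree_eq_one (Polynomial.degree_eq_iff_natDegree_eq hp0 |>.2 h1)
    exact hirr x (Polynomial.root_mul_right_of_isRoot q hx)
  · obtain ⟨x, hx⟩ := Polynomial.exists_root_of_degree_eq_one (Polynomial.degree_eq_iff_natDegree_eq hq0 |>.2 h1)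
    exact hirr x (Polynomial.root_mul_left_of_isRoot p hx)

/-- Let k be a subfield of ℝ (a field equipped with an embedding into the reals) and S = V(F) ⊂ P^3 the
cubic surface of a homogeneous cubic F ∈ k[x_0, …, x_3] which is geometrically irreducible and not a
cone (no nonzero vector v has Σ_i v_i ∂F/∂x_i = 0). Then S admits a linear Pfaffian representation
over a real intermediate field k ⊆ E ⊆ ℝ of degree [E : k] ≤ 3. A linear Pfaffian representation
over E is a 6 × 6 alternating matrix M of linear forms in E[x_0, …, x_3] whose Pfaffian is a nonzero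
constant multiple of F; since the determinant of an alternating matrix is the square of its Pfaffian
and the polynomial ring is factorial with no nonconstant units, this is the same as det M = c · F^2
for a nonzero constant c, which is how it is written here. -/
theorem result (k : Type u) [Field k] [Algebra k ℝ]
    (F : MvPolynomial (Fin 4) k) (hF : F.IsHomogeneous 3)
    (hirr : Irreducible (MvPolynomial.map (algebraMap k (AlgebraicClosure k)) F))
    (hcone : ¬ ∃ v : Fin 4 → k, v ≠ 0 ∧ ∑ i : Fin 4, v i • MvPolynomial.pderiv i F = 0) :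
    ∃ E : IntermediateField k ℝ, FiniteDimensional k ↥E ∧ Module.finrank k ↥E ≤ 3 ∧
      ∃ M : Matrix (Fin 6) (Fin 6) (MvPolynomial (Fin 4) ↥E), (∀ i j, (M i j).IsHomogeneous 1) ∧ M.transpose = -M ∧ (∀ i, M i i = 0) ∧
        ∃ c : ↥E, c ≠ 0 ∧ M.det = MvPolynomial.C c * (MvPolynomial.map (algebraMap k ↥E) F) ^ 2 := by
  haveI : CharZero k := ⟨fun m n h => Nat.cast_injective (R := ℝ) (by simpa using congrArg (algebraMap k ℝ) h)⟩
  obtain ⟨P, hP, hrep⟩ := Groth.Agent.Cubic27.exists_cubic_root_rep F hF hirr hcone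
  obtain ⟨r, hr⟩ : ∃ r : ℝ, Polynomial.aeval r P = 0 := by
    obtain ⟨x, hx⟩ := Groth.Agent.S16354.exists_real_root_of_cubic (P.map (algebraMap k ℝ))
      (by rw [Polynomial.natDegree_map, hP])
    exact ⟨x, by rwa [Polynomial.aeval_def, ← Polynomial.eval_map]⟩
  obtain ⟨h1, h2, h3⟩ := Groth.Agent.Cubic27.exists_field P hP r hr
  exact ⟨_, h1, h2, hrep _ h1 _ h3⟩

end Groth.Agent.S16354
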