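import Groth.Statements.S16355
import Groth.Agent.Incid42.Forms
import Mathlib.LinearAlgebra.Matrix.NonsingularInverse
import Mathlib.Tactic

set_option autoImplicit false
universe u
open DegLoci

namespace Groth.Agent.S16355

open MvPolynomial W4c3degenlocivb

theorem map_pf {R S : Type*} [CommRing R] [CommRing S] (φ : R →+* S) :
    ∀ (n : ℕ) (T : Matrix (Fin n) (Fin n) R), φ (pf n T) = pf n (T.map φ)
  | 0, T => by simp [pf]
  | 1, T => by simp [pf]
  | n + 2, T => by
    simp only [pf, map_sum, map_mul, map_pow, map_neg, map_one, Matrix.map_apply, map_pf φ n]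
    rfl

theorem isHomogeneous_pf {R : Type*} [CommRing R] {σ : Type*} :
    ∀ (m : ℕ) (T : Matrix (Fin (2 * m)) (Fin (2 * m)) (MvPolynomial σ R)),
      (∀ i j, (T i j).IsHomogeneous 1) → (pf (2 * m) T).IsHomogeneous m
  | 0, _, _ => isHomogeneous_one _ _
  | m + 1, T, h => by
    show (pf (2 * m + 2) T).IsHomogeneous (m + 1)
    simp only [pf]
    refine IsHomogeneous.sum _ _ _ fun j _ => ?_
    rw [mul_assoc, show m + 1 = 0 + (1 + m) by omega]
    refine IsHomogeneous.mul ?_ ((h _ _).mul (isHomogeneous_pf m _ fun a b => h _ _))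
    simpa using (isHomogeneous_one σ R).neg.pow (j.1 + 1)

/-- A skew tridiagonal matrix. -/
def tri {R : Type*} [CommRing R] (a : ℕ → R) (n : ℕ) : Matrix (Fin n) (Fin n) R :=
  Matrix.of fun i j => (if i.1 + 1 = j.1 then a i.1 else 0) - (if j.1 + 1 = i.1 then a j.1 else 0)

theorem pf_tri {R : Type*} [CommRing R] (a : ℕ → R) :
    ∀ m : ℕ, pf (2 * m) (tri a (2 * m)) = ∏ l ∈ Finset.range m, a (2 * l)
  | 0 => by simp [pf]
  | m + 1 => by
    show pf (2 * m + 2) (tri a (2 * m + 2)) = _
    simp only [pf]
    rw [Finset.sum_eq_single (Fin.last (2 * m))]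
    · have hsub : (tri a (2 * m + 2)).submatrix (Fin.castSucc ∘ (Fin.last (2 * m)).succAbove)
          (Fin.castSucc ∘ (Fin.last (2 * m)).succAbove) = tri a (2 * m) := by
        ext i j
        simp [tri, Fin.succAbove_last]
      have he : (-1 : R) ^ ((Fin.last (2 * m) : ℕ) + 1) = -1 := Odd.neg_one_pow ⟨m, by simp⟩
      rw [hsub, pf_tri a m, Finset.prod_range_succ, he]
      simp [tri]
      rw [if_neg (by omega)]
      ring
    · intro j _ hj
      have : j.1 ≠ 2 * m := fun h => hj (Fin.ext h)
      simp [tri]
      rw [if_neg (by omega), if_neg (by omega)]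
      ring
    · simp

/-- The weights of the path. -/
noncomputable def wt (R : Type*) [CommRing R] (l : ℕ) : MvPolynomial (Fin 2) R :=
  if l % 2 = 0 then X 0 else X 1

/-- The exponent `(j, r - j)`. -/
noncomputable def expo (r : ℕ) (j : Fin (r + 1)) : Fin 2 →₀ ℕ :=
  Finsupp.single 0 j.1 + Finsupp.single 1 (r - j.1)

/-- The matrix of linear forms. -/
noncomputable def mat (r : ℕ) {R : Type*} [CommRing R] (c : Fin (2 * r + 1) → Fin (2 * r + 1) → Fin 2 → R) :
    Matrix (Fin (2 * r + 1)) (Fin (2 * r + 1)) (MvPolynomial (Fin 2) R) :=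
  Matrix.of fun a b => ∑ l : Fin 2, MvPolynomial.C (c a b l) * MvPolynomial.X l

/-- The even vertices. -/
def idx (r : ℕ) (j : Fin (r + 1)) : Fin (2 * r + 1) := ⟨2 * j.1, by omega⟩

/-- The coefficient matrix of the even sub-Pfaffians. -/
noncomputable def coeffMat (r : ℕ) {R : Type*} [CommRing R] (c : Fin (2 * r + 1) → Fin (2 * r + 1) → Fin 2 → R) :
    Matrix (Fin (r + 1)) (Fin (r + 1)) R :=
  Matrix.of fun e j => MvPolynomial.coeff (expo r e)
    (pf (2 * r) ((mat r c).submatrix (idx r j).succAbove (idx r j).succAbove))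

theorem expo_injective (r : ℕ) : Function.Injective (expo r) := fun i j h => by
  have := congrArg (fun e : Fin 2 →₀ ℕ => e 0) h
  simp [expo] at this
  exact Fin.ext this


/-- Let k be an algebraically closed field of characteristic zero and n = 2r + 1 ≥ 3 odd. For a general
n × n alternating matrix N of linear forms in k[y_0, y_1], the n principal sub-Pfaffians of size n −
1 (delete row i and column i, take the Pfaffian) span the whole space k[y_0, y_1]_r of binary forms
of degree r. Here such matrices are parametrised by antisymmetric coefficient arrays c (entry (i, j)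
of N is Σ_l c_{i j l} y_l with c_{j i l} = −c_{i j l}), and 'general' means: outside the zero set of
some polynomial Φ in the coefficients which does not vanish at every antisymmetric array. -/
theorem result (k : Type u) [Field k] [IsAlgClosed k] [CharZero k]
    (r : ℕ) (hr : 1 ≤ r) :
    ∃ Φ : MvPolynomial (Fin (2 * r + 1) × Fin (2 * r + 1) × Fin 2) k,
      (∃ c : Fin (2 * r + 1) → Fin (2 * r + 1) → Fin 2 → k, (∀ i j l, c j i l = -c i j l) ∧
        MvPolynomial.eval (fun p : Fin (2 * r + 1) × Fin (2 * r + 1) × Fin 2 => c p.1 p.2.1 p.2.2) Φ ≠ 0) ∧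
      ∀ c : Fin (2 * r + 1) → Fin (2 * r + 1) → Fin 2 → k, (∀ i j l, c j i l = -c i j l) →
        MvPolynomial.eval (fun p : Fin (2 * r + 1) × Fin (2 * r + 1) × Fin 2 => c p.1 p.2.1 p.2.2) Φ ≠ 0 →
        Submodule.span k (Set.range fun i : Fin (2 * r + 1) =>
            W4c3degenlocivb.pf (2 * r) ((Matrix.of fun a b => ∑ l : Fin 2, MvPolynomial.C (c a b l) * MvPolynomial.X l).submatrix i.succAbove i.succAbove)) =
          MvPolynomial.homogeneousSubmodule (Fin 2) k r := by
  classical
  let gen : Fin (2 * r + 1) → Fin (2 * r + 1) → Fin 2 →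
      MvPolynomial (Fin (2 * r + 1) × Fin (2 * r + 1) × Fin 2) k := fun a b l => MvPolynomial.X (a, b, l)
  have heval : ∀ c : Fin (2 * r + 1) → Fin (2 * r + 1) → Fin 2 → k,
      MvPolynomial.eval (fun p : Fin (2 * r + 1) × Fin (2 * r + 1) × Fin 2 => c p.1 p.2.1 p.2.2) (coeffMat r gen).det = (coeffMat r c).det := by
    intro c
    rw [RingHom.map_det]
    congr 1
    ext e j
    show MvPolynomial.eval (fun p : Fin (2 * r + 1) × Fin (2 * r + 1) × Fin 2 => c p.1 p.2.1 p.2.2) (MvPolynomial.coeff _ _) = MvPolynomial.coeff _ _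
    rw [← MvPolynomial.coeff_map, map_pf]
    congr 2
    ext1 a b
    simp [mat, gen]
  refine ⟨(coeffMat r gen).det, ?_, fun c _ hc => ?_⟩
  · -- the path
    let c₀ : Fin (2 * r + 1) → Fin (2 * r + 1) → Fin 2 → k := fun a b l =>
      (if a.1 + 1 = b.1 ∧ a.1 % 2 = l.1 then 1 else 0) - (if b.1 + 1 = a.1 ∧ b.1 % 2 = l.1 then 1 else 0)
    refine ⟨c₀, fun i j l => by simp [c₀], ?_⟩
    rw [heval]
    have hN : mat r c₀ = tri (wt k) (2 * r + 1) := by
      ext1 a b
      simp only [mat, c₀, tri, Matrix.of_apply, Fin.sum_univ_two, wt]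
      rcases Nat.mod_two_eq_zero_or_one a.1 with ha | ha <;>
        rcases Nat.mod_two_eq_zero_or_one b.1 with hb | hb <;>
        by_cases h1 : a.1 + 1 = b.1 <;> by_cases h2 : b.1 + 1 = a.1 <;>
        simp [ha, hb, h1, h2] <;> first | ring | omega
    have hD : coeffMat r c₀ = 1 := by
      ext e j
      show MvPolynomial.coeff (expo r e) (pf (2 * r) ((mat r c₀).submatrix (idx r j).succAbove (idx r j).succAbove)) = _
      let a : ℕ → MvPolynomial (Fin 2) k := fun l =>
        if l + 1 = 2 * j.1 then 0 else if l < 2 * j.1 then wt k l else wt k (l + 1)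
      have hs : (mat r c₀).submatrix (idx r j).succAbove (idx r j).succAbove = tri a (2 * r) := by
        ext1 x y
        have hval : ∀ x : Fin (2 * r), ((idx r j).succAbove x).1 = if x.1 < 2 * j.1 then x.1 else x.1 + 1 := fun x => by
          simp only [idx, Fin.succAbove, Fin.lt_def, Fin.val_castSucc]
          split_ifs <;> simp
        simp only [hN, tri, a, Matrix.submatrix_apply, Matrix.of_apply, hval]
        split_ifs <;> first | rfl | omega | simp | ring
      rw [hs, pf_tri]
      have hprod : ∏ l ∈ Finset.range r, a (2 * l) = MvPolynomial.monomial (expo r j) 1 := by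
        have h1 : ∀ l ∈ Finset.range r, a (2 * l) =
            if l < j.1 then MvPolynomial.X 0 else MvPolynomial.X 1 := fun l _ => by
          simp only [a, wt, Nat.mul_mod_right, show (2 * l + 1) % 2 = 1 by omega, if_true, one_ne_zero, if_false]
          split_ifs <;> first | rfl | omega
        rw [Finset.prod_congr rfl h1, Finset.prod_ite, Finset.prod_const, Finset.prod_const,
          Finset.filter_not, Finset.card_sdiff_of_subset (Finset.filter_subset _ _),
          show (Finset.range r).filter (fun l => l < j.1) = Finset.range j.1 by ext l; simp; omega,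
          Finset.card_range, Finset.card_range, MvPolynomial.X_pow_eq_monomial, MvPolynomial.X_pow_eq_monomial,
          MvPolynomial.monomial_mul, one_mul, expo]
      rw [hprod, MvPolynomial.coeff_monomial, Matrix.one_apply]
      simp [(expo_injective r).eq_iff, eq_comm]
    rw [hD, Matrix.det_one]
    exact one_ne_zero
  · rw [heval] at hc
    set v : Fin (2 * r + 1) → MvPolynomial (Fin 2) k :=
      fun i => pf (2 * r) ((mat r c).submatrix i.succAbove i.succAbove)
    have hmem : ∀ i, v i ∈ MvPolynomial.homogeneousSubmodule (Fin 2) k r := fun i =>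
      (MvPolynomial.mem_homogeneousSubmodule _ _).2 (isHomogeneous_pf r _ fun a b =>
        show (∑ l : Fin 2, MvPolynomial.C (c (i.succAbove a) (i.succAbove b) l) * MvPolynomial.X l).IsHomogeneous 1 from
          MvPolynomial.IsHomogeneous.sum _ _ _ fun l _ => (MvPolynomial.isHomogeneous_X k l).C_mul _)
    have hli : LinearIndependent k (v ∘ idx r) := by
      refine LinearIndependent.of_comp
        (LinearMap.pi fun e => MvPolynomial.lcoeff k (expo r e) : MvPolynomial (Fin 2) k →ₗ[k] Fin (r + 1) → k) ?_
      exact Matrix.linearIndependent_cols_iff_isUnit.2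
        ((Matrix.isUnit_iff_isUnit_det (coeffMat r c)).2 (isUnit_iff_ne_zero.2 hc))
    have : FiniteDimensional k ↥(MvPolynomial.homogeneousSubmodule (Fin 2) k r) :=
      (Incid42.formEquiv k 1 r).symm.finiteDimensional
    have hle : Submodule.span k (Set.range v) ≤ MvPolynomial.homogeneousSubmodule (Fin 2) k r :=
      Submodule.span_le.2 (Set.range_subset_iff.2 hmem)
    refine Submodule.eq_of_le_of_finrank_le hle ?_
    have h1 : Submodule.span k (Set.range (v ∘ idx r)) ≤ Submodule.span k (Set.range v) :=
      Submodule.span_mono (Set.range_comp_subset_range _ _)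
    have : FiniteDimensional k ↥(Submodule.span k (Set.range v)) :=
      FiniteDimensional.span_of_finite k (Set.finite_range v)
    have h2 := Submodule.finrank_mono h1
    rw [finrank_span_eq_card hli, Fintype.card_fin] at h2
    refine le_trans (le_of_eq ?_) h2
    rw [show Module.finrank k ↥(MvPolynomial.homogeneousSubmodule (Fin 2) k r) = Module.finrank k (LefPen.Form 1 k r) from rfl,
      Incid42.finrank_form, Nat.add_comm, Nat.choose_succ_self_right]

end Groth.Agent.S16355
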