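import Groth.Statements.S16358
import Mathlib.RingTheory.WittVector.DiscreteValuationRing
import Mathlib.RingTheory.Flat.Equalizer
import Mathlib.RingTheory.Flat.TorsionFree
-- import your own Groth.Agent.* helpers here

set_option autoImplicit false
universe u v w
open OrdAV

namespace Groth.Agent.S16358

/-- Let k be a perfect field of characteristic p > 0 and W = W(k); let M be a finitely generated free
W-module on which a finite group G acts W-linearly, with invariant submodule M^G. Then the map
(W/pW) ⊗ M^G → (W/pW) ⊗ M induced by the inclusion is injective. Since M^G is free, this implies
rank_W M^G ≤ dim_k (M/pM)^G; the published statement is that inequality, and this row states the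
stronger injectivity. -/
theorem result (p : ℕ) [Fact p.Prime]
    (k : Type u) [Field k] [CharP k p] [PerfectRing k p]
    (M : Type v) [AddCommGroup M] [Module (WittVector p k) M]
    [Module.Free (WittVector p k) M] [Module.Finite (WittVector p k) M]
    (G : Type w) [Group G] [Finite G] (ρ : Representation (WittVector p k) G M) :
    Function.Injective
      (LinearMap.lTensor (WittVector p k ⧸ Ideal.span {(p : WittVector p k)}) ρ.invariants.subtype) := by
  haveI : IsPrincipalIdealRing (WittVector p k) := inferInstance
  haveI : Module.Flat (WittVector p k) (M ⧸ ρ.invariants) := by
    haveI : Module.IsTorsionFree (WittVector p k) (M ⧸ ρ.invariants) := by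
      rw [Module.isTorsionFree_iff_smul_eq_zero]
      intro r x hx
      induction x using Submodule.Quotient.induction_on with
      | _ x => ?_
      rcases eq_or_ne r 0 with hr | hr
      · exact Or.inl hr
      refine Or.inr ((Submodule.Quotient.mk_eq_zero _).2 fun g => ?_)
      rw [← Submodule.Quotient.mk_smul, Submodule.Quotient.mk_eq_zero] at hx
      have h := hx g
      rw [map_smul] at h
      exact smul_right_injective M hr h
    infer_instance
  exact LinearMap.lTensor_injective_of_exact_of_flat ρ.invariants.mkQ
    (Submodule.mkQ_surjective _) _ (Submodule.injective_subtype _) (LinearMap.exact_subtype_mkQ _) _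

end Groth.Agent.S16358
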