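import Groth.Statements.S16387
import Groth.Agent.AVTors2.Card
import Groth.Agent.AVTors2.Tate

set_option autoImplicit false
set_option backward.isDefEq.respectTransparency false
set_option backward.isDefEq.respectTransparency.types false
set_option linter.style.haveILetI false
universe u
open CategoryTheory MonoidalCategory CartesianMonoidalCategory MonObj GrpObj AlgebraicGeometry
open AbVar

namespace Groth.Agent.S16387

/-- Let k be a finite field with algebraic closure Ω, l a prime number invertible in k, and A, B abelian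
varieties over k (proper, geometrically integral commutative group schemes over k). If the
homomorphism i : A → B is injective (a closed immersion), then the induced ℤ_l-linear map between
the l-adic Tate modules of Ω-points T_l(i) : T_l A → T_l B is injective with torsion-free, hence
free, cokernel: the quotient of T_l B by the image of T_l A is a free ℤ_l-module. -/
theorem result (k Ω : Type u) [Field k] [Finite k]
    [Field Ω] [Algebra k Ω] [IsAlgClosure k Ω] (l : ℕ) [Fact l.Prime] (hl : (l : k) ≠ 0)
    (A B : Over (Spec (CommRingCat.of k))) [GrpObj A] [IsCommMonObj A] [IsProper A.hom] [GeometricallyIntegral A.hom]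
    [GrpObj B] [IsCommMonObj B] [IsProper B.hom] [GeometricallyIntegral B.hom]
    (i : A ⟶ B) [IsMonHom i] [IsClosedImmersion i.left] :
    Function.Injective (AbDual.tateMapₗ (l := l) (T := SGA7.pt Ω) i) ∧
      Module.Free ℤ_[l] (AbDual.TateMod B l (SGA7.pt Ω) ⧸
        LinearMap.range (AbDual.tateMapₗ (l := l) (T := SGA7.pt Ω) i)) := by
  haveI : IsAlgClosed Ω := IsAlgClosure.isAlgClosed k
  haveI : Mono i.left := inferInstance
  haveI : Mono i := Over.mono_of_mono_left i
  have hinj : Function.Injective (AbDual.tateMapₗ (l := l) (T := SGA7.pt Ω) i) := fun x y h =>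
    AbDual.TateMod.ext fun n => by
      have := congrArg (fun z => (AbDual.TateMod.component B l (SGA7.pt Ω) n z).toMul) h
      exact congrArg Additive.ofMul ((cancel_mono i).1 this)
  refine ⟨hinj, ?_⟩
  haveI : IsIntegral B.left := GeometricallyIntegral.isIntegral_of_subsingleton B.hom
  obtain ⟨g, hg⟩ : ∃ g : ℕ, topologicalKrullDim B.left = g :=
    ⟨_, Groth.Agent.VarDim.topologicalKrullDim_eq_deg_genericPoint B.hom⟩
  have hc : ∀ m : ℕ, Nat.card (AbDual.torsPts B (l ^ m) (SGA7.pt Ω)) = (l ^ m) ^ (2 * g) := fun m =>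
    Groth.Agent.AVTors2.card_torsPts hg (by rw [Nat.cast_pow]; exact pow_ne_zero _ hl) Ω
  obtain ⟨h1, h2⟩ := Groth.Agent.AVTors2.finite_free (A := B) (l := l) (T := SGA7.pt Ω)
    (by simpa using Groth.Agent.AVTors2.finite_tors hc 1)
  set R := LinearMap.range (AbDual.tateMapₗ (l := l) (T := SGA7.pt Ω) i)
  have key : ∀ y : AbDual.TateMod B l (SGA7.pt Ω), (l : ℤ_[l]) • y ∈ R → y ∈ R := by
    rintro y ⟨x, hx⟩
    let z : ℕ → Additive (SGA7.pt Ω ⟶ A) := fun n => Groth.Agent.AVTors2.cp (n + 1) x
    have hz : ∀ n, (z n).toMul ≫ i = (Groth.Agent.AVTors2.cp n y).toMul := fun n => by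
      have := congrArg (fun w => (Groth.Agent.AVTors2.cp (n + 1) w).toMul) hx
      simp only [Groth.Agent.AVTors2.cp_natCast_smul] at this
      exact this.trans (congrArg Additive.toMul (AbDual.TateMod.compat y n))
    refine ⟨⟨z, ⟨fun n => ?_, fun n => AbDual.TateMod.compat x (n + 1)⟩⟩, AbDual.TateMod.ext fun n =>
      congrArg Additive.ofMul (hz n)⟩
    apply (cancel_mono i).1
    show _ = (1 : SGA7.pt Ω ⟶ A) ≫ i
    rw [MonObj.one_comp]
    have h4 := AbDual.nsmul_comp i (l ^ n) (z n)
    rw [hz n] at h4
    exact (congrArg Additive.toMul h4).trans (congrArg Additive.toMul (AbDual.TateMod.torsion y n))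
  haveI : Module.Finite ℤ_[l] (AbDual.TateMod B l (SGA7.pt Ω) ⧸ R) := inferInstance
  haveI : Module.IsTorsionFree ℤ_[l] (AbDual.TateMod B l (SGA7.pt Ω) ⧸ R) := by
    refine Module.IsTorsionFree.of_smul_eq_zero fun a q hq => ?_
    obtain ⟨y, rfl⟩ := Submodule.Quotient.mk_surjective R q
    by_cases ha : a = 0
    · exact Or.inl ha
    right
    rw [PadicInt.unitCoeff_spec ha, mul_smul, (PadicInt.unitCoeff ha).isUnit.smul_eq_zero,
      ← Submodule.Quotient.mk_smul, Submodule.Quotient.mk_eq_zero] at hq
    rw [Submodule.Quotient.mk_eq_zero]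
    generalize a.valuation = m at hq
    induction m with
    | zero => simpa using hq
    | succ m ih => exact ih (key _ (by rwa [smul_smul, ← pow_succ']))
  exact Module.free_of_finite_type_torsion_free'

end Groth.Agent.S16387
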