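import Groth.Statements.S16389
import Groth.Agent.AVTors2.Cat
import Mathlib.GroupTheory.FiniteAbelian.Basic
-- import your own Groth.Agent.* helpers here

set_option autoImplicit false
set_option backward.isDefEq.respectTransparency false
set_option backward.isDefEq.respectTransparency.types false
set_option linter.style.haveILetI false
set_option synthInstance.maxHeartbeats 400000
universe u
open CategoryTheory MonoidalCategory CartesianMonoidalCategory MonObj GrpObj AlgebraicGeometry
open AbVar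

namespace Groth.Agent.S16389

set_option maxHeartbeats 2000000 in
/-- (b) ⇒ (c₂): let k be a finite field with q elements and fix a polynomial P with integer
coefficients. Work with abelian varieties over k (proper, geometrically integral commutative group
schemes over k) together with their q-Frobenius endomorphism π (the identity on points, the q-th
power map on sections; a homomorphism) such that P(π) = 0 in the endomorphism ring (for suitable P:
the abelian varieties with Weil support in a given finite set of Weil q-numbers), and let A be one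
of them. Assume (b₁): for every such Z and every finite closed subgroup scheme H ⊆ Z, a T-valued
point of Z over k that is sent to the unit by every homomorphism Z → A killing H factors through H
(H is the common kernel of the homomorphisms vanishing on it); and (b₂): for every such Z and every
additive subgroup M of Hom(Z, A) of finite index which is stable under postcomposition with
endomorphisms of A (an End(A)-submodule), a homomorphism f : Z → A belongs to M as soon as it kills
the common kernel of M, i.e. every T-valued point of Z sent to the unit by all members of M is sent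
to the unit by f. Then (c₂) holds: for such X and Y and a homomorphism φ : X → Y which is a closed
immersion, every homomorphism X → A extends along φ to a homomorphism Y → A. -/
theorem result
    (k : Type u) [Field k] [Finite k]
    (P : Polynomial ℤ) (A : Over (Spec (CommRingCat.of k))) [GrpObj A] [IsCommMonObj A] [IsProper A.hom] [GeometricallyIntegral A.hom]
    (πA : A ⟶ A) [IsMonHom πA] (hπAb : πA.left.base = 𝟙 _)
    (hπAle : ∀ U : A.left.Opens, U ≤ πA.left ⁻¹ᵁ U)
    (hπAapp : ∀ (U : A.left.Opens) (s : Γ(A.left, U)), (πA.left.appLE U U (hπAle U)).hom s = s ^ Nat.card k)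
    (hPA : Polynomial.eval₂ (Int.castRingHom (EndAV.End A)) (EndAV.End.of πA) P = 0)
    (hb1 : ∀ (Z : Over (Spec (CommRingCat.of k))) [GrpObj Z] [IsCommMonObj Z] [IsProper Z.hom] [GeometricallyIntegral Z.hom]
      (πZ : Z ⟶ Z) [IsMonHom πZ] (hπZb : πZ.left.base = 𝟙 _) (hπZle : ∀ U : Z.left.Opens, U ≤ πZ.left ⁻¹ᵁ U)
      (hπZapp : ∀ (U : Z.left.Opens) (s : Γ(Z.left, U)), (πZ.left.appLE U U (hπZle U)).hom s = s ^ Nat.card k)
      (hPZ : Polynomial.eval₂ (Int.castRingHom (EndAV.End Z)) (EndAV.End.of πZ) P = 0)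
      (H : Over (Spec (CommRingCat.of k))) [GrpObj H] [IsFinite H.hom] (i : H ⟶ Z) [IsMonHom i] [IsClosedImmersion i.left]
      (T : Over (Spec (CommRingCat.of k))) (x : T ⟶ Z), (∀ r : EndAV.Hom Z A, i ≫ r.toHom = 1 → x ≫ r.toHom = 1) → ∃ y : T ⟶ H, y ≫ i = x)
    (hrec : ∀ (Z : Over (Spec (CommRingCat.of k))) [GrpObj Z] [IsCommMonObj Z] [IsProper Z.hom] [GeometricallyIntegral Z.hom]
      (πZ : Z ⟶ Z) [IsMonHom πZ] (hπZb : πZ.left.base = 𝟙 _) (hπZle : ∀ U : Z.left.Opens, U ≤ πZ.left ⁻¹ᵁ U)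
      (hπZapp : ∀ (U : Z.left.Opens) (s : Γ(Z.left, U)), (πZ.left.appLE U U (hπZle U)).hom s = s ^ Nat.card k)
      (hPZ : Polynomial.eval₂ (Int.castRingHom (EndAV.End Z)) (EndAV.End.of πZ) P = 0)
      (M : AddSubgroup (EndAV.Hom Z A)), M.FiniteIndex → (∀ r ∈ M, ∀ s : EndAV.Hom A A, r ≫ s ∈ M) →
      ∀ f : EndAV.Hom Z A,
        (∀ (T : Over (Spec (CommRingCat.of k))) (x : T ⟶ Z), (∀ r ∈ M, x ≫ EndAV.Hom.toHom r = 1) →
          x ≫ f.toHom = 1) → f ∈ M)
    (X Y : Over (Spec (CommRingCat.of k))) [GrpObj X] [IsCommMonObj X] [IsProper X.hom] [GeometricallyIntegral X.hom]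
    [GrpObj Y] [IsCommMonObj Y] [IsProper Y.hom] [GeometricallyIntegral Y.hom]
    (πX : X ⟶ X) [IsMonHom πX] (hπXb : πX.left.base = 𝟙 _)
    (hπXle : ∀ U : X.left.Opens, U ≤ πX.left ⁻¹ᵁ U)
    (hπXapp : ∀ (U : X.left.Opens) (s : Γ(X.left, U)), (πX.left.appLE U U (hπXle U)).hom s = s ^ Nat.card k)
    (hPX : Polynomial.eval₂ (Int.castRingHom (EndAV.End X)) (EndAV.End.of πX) P = 0)
    (πY : Y ⟶ Y) [IsMonHom πY] (hπYb : πY.left.base = 𝟙 _)
    (hπYle : ∀ U : Y.left.Opens, U ≤ πY.left ⁻¹ᵁ U)
    (hπYapp : ∀ (U : Y.left.Opens) (s : Γ(Y.left, U)), (πY.left.appLE U U (hπYle U)).hom s = s ^ Nat.card k)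
    (hPY : Polynomial.eval₂ (Int.castRingHom (EndAV.End Y)) (EndAV.End.of πY) P = 0)
    (φ : EndAV.Hom X Y) [IsClosedImmersion φ.toHom.left] (f : EndAV.Hom X A) :
    ∃ g : EndAV.Hom Y A, φ ≫ g = f := by
  classical
  have hX := Groth.Agent.AVTors2.InCat.mk' πX hπXb hπXle hπXapp hPX
  let M₀ : AddSubgroup (EndAV.Hom X A) :=
    AddSubgroup.map (AddMonoidHom.mk' (fun g : EndAV.Hom Y A => φ ≫ g) fun a b => Preadditive.comp_add _ _ _ _ _ _) ⊤
  obtain ⟨dX, hdX⟩ : ∃ g : ℕ, topologicalKrullDim X.left = g := by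
    haveI : IsIntegral X.left := GeometricallyIntegral.isIntegral_of_subsingleton X.hom
    exact ⟨_, Groth.Agent.VarDim.topologicalKrullDim_eq_deg_genericPoint X.hom⟩
  obtain ⟨dA, hdA⟩ : ∃ g : ℕ, topologicalKrullDim A.left = g := by
    haveI : IsIntegral A.left := GeometricallyIntegral.isIntegral_of_subsingleton A.hom
    exact ⟨_, Groth.Agent.VarDim.topologicalKrullDim_eq_deg_genericPoint A.hom⟩
  obtain ⟨hfree, hfin, -⟩ := Groth.Agent.AVTors2.hom_finite_free (A := X) (B := A) hdX hdA
  have hsep : ∀ (T : Over (Spec (CommRingCat.of k))) (x : T ⟶ X),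
      (∀ r ∈ M₀, x ≫ EndAV.Hom.toHom r = 1) → x = 1 := by
    intro T x hx
    have h1 : x ≫ φ.toHom = 1 := by
      haveI : IsFinite (𝟙_ (Over (Spec (CommRingCat.of k)))).hom :=
        inferInstanceAs (IsFinite (𝟙 (Spec (CommRingCat.of k))))
      haveI : IsClosedImmersion η[Y].left := by
        haveI : IsClosedImmersion (η[Y].left ≫ Y.hom) := by
          rw [Over.w η[Y]]; exact inferInstanceAs (IsClosedImmersion (𝟙 (Spec (CommRingCat.of k))))
        exact IsClosedImmersion.of_comp η[Y].left Y.hom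
      haveI : IsMonHom η[Y] := by
        refine ⟨by rw [CartesianMonoidalCategory.toUnit_unique η[𝟙_ (Over (Spec (CommRingCat.of k)))] (𝟙 _), Category.id_comp], ?_⟩
        rw [MonoidalCategory.tensorHom_def', Category.assoc, MonObj.one_mul, MonoidalCategory.leftUnitor_naturality,
          CartesianMonoidalCategory.toUnit_unique μ[𝟙_ (Over (Spec (CommRingCat.of k)))] (λ_ (𝟙_ _)).hom]
      obtain ⟨y, hy⟩ := hb1 Y πY hπYb hπYle hπYapp hPY (𝟙_ _) η[Y] T (x ≫ φ.toHom) fun r _ => by
        have := hx (φ ≫ r) ⟨r, trivial, rfl⟩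
        simpa only [EndAV.Hom.toHom_comp, Category.assoc] using this
      rw [← hy, CartesianMonoidalCategory.toUnit_unique y (toUnit T), ← Hom.one_def]
    haveI : Mono φ.toHom.left := inferInstance
    haveI : Mono φ.toHom := Over.mono_of_mono_left _
    rw [← cancel_mono φ.toHom, h1, MonObj.one_comp]
  let mH : ℕ → AddSubgroup (EndAV.Hom X A) := fun m => (nsmulAddMonoidHom (α := EndAV.Hom X A) m).range
  have hall : ∀ m : ℕ, m ≠ 0 → f ∈ M₀ ⊔ mH m := by
    intro m hm
    refine hrec X πX hπXb hπXle hπXapp hPX (M₀ ⊔ mH m) ?_ ?_ f fun T x hx => ?_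
    · haveI : Module.Finite ℤ (EndAV.Hom X A ⧸ mH m) :=
        Module.Finite.of_surjective (QuotientAddGroup.mk' (mH m)).toIntLinearMap (QuotientAddGroup.mk'_surjective _)
      haveI : Finite (EndAV.Hom X A ⧸ mH m) := by
        haveI : AddGroup.FG (EndAV.Hom X A ⧸ mH m) := Module.Finite.iff_addGroup_fg.mp inferInstance
        refine AddCommGroup.finite_of_fg_torsion _ fun q => ?_
        obtain ⟨z, rfl⟩ := QuotientAddGroup.mk'_surjective (mH m) q
        refine isOfFinAddOrder_iff_nsmul_eq_zero.2 ⟨m, Nat.pos_of_ne_zero hm, ?_⟩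
        rw [← map_nsmul]
        exact (QuotientAddGroup.eq_zero_iff _).2 ⟨z, rfl⟩
      haveI : (mH m).FiniteIndex := AddSubgroup.finiteIndex_of_finite_quotient
      exact AddSubgroup.finiteIndex_of_le le_sup_right
    · intro r hr s
      obtain ⟨a, ha, b, hb, rfl⟩ := AddSubgroup.mem_sup.1 hr
      obtain ⟨g, -, rfl⟩ := ha
      obtain ⟨c, rfl⟩ := hb
      rw [Preadditive.add_comp]
      refine AddSubgroup.add_mem _ (AddSubgroup.mem_sup_left ⟨g ≫ s, trivial, ?_⟩)
        (AddSubgroup.mem_sup_right ⟨c ≫ s, ?_⟩)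
      · exact (Category.assoc φ g s).symm
      · exact (Preadditive.nsmul_comp (f := c) (g := s) (n := m)).symm
    · rw [hsep T x fun r hr => hx r (AddSubgroup.mem_sup_left hr), MonObj.one_comp]
  haveI : Module.Finite ℤ (EndAV.Hom X A ⧸ M₀) :=
    Module.Finite.of_surjective (QuotientAddGroup.mk' M₀).toIntLinearMap (QuotientAddGroup.mk'_surjective _)
  let Nq := EndAV.Hom X A ⧸ M₀
  let z : Nq := QuotientAddGroup.mk f
  have hz : ∀ m : ℕ, m ≠ 0 → ∃ y : Nq, m • y = z := by
    intro m hm
    obtain ⟨a, ha, b, ⟨c, rfl⟩, hab⟩ := AddSubgroup.mem_sup.1 (hall m hm)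
    refine ⟨QuotientAddGroup.mk c, ?_⟩
    show _ = (QuotientAddGroup.mk f : Nq)
    rw [← hab, QuotientAddGroup.mk_add, (QuotientAddGroup.eq_zero_iff a).2 ha]
    simp
  suffices hz0 : z = 0 by
    obtain ⟨g, -, hg⟩ := (QuotientAddGroup.eq_zero_iff f).1 hz0
    exact ⟨g, hg⟩
  let T0 := Submodule.torsion ℤ Nq
  haveI : Module.Finite ℤ T0 := inferInstance
  haveI : Finite T0 := Module.finite_of_fg_torsion _ (Submodule.torsion_isTorsion (R := ℤ) (M := Nq))
  haveI : Module.Free ℤ (Nq ⧸ T0) := Module.free_of_finite_type_torsion_free'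
  let B := Module.Free.chooseBasis ℤ (Nq ⧸ T0)
  have hzT : z ∈ T0 := by
    rw [← Submodule.Quotient.mk_eq_zero]
    refine B.ext_elem fun i => ?_
    rw [map_zero, Finsupp.zero_apply]
    obtain ⟨y, hy⟩ := hz ((B.repr (Submodule.Quotient.mk z) i).natAbs + 1) (Nat.succ_ne_zero _)
    by_contra hne
    have e : B.repr (Submodule.Quotient.mk z) i =
        (((B.repr (Submodule.Quotient.mk z) i).natAbs + 1 : ℕ) : ℤ) * B.repr (Submodule.Quotient.mk y) i := by
      conv_lhs => rw [← hy]
      rw [Submodule.Quotient.mk_smul, map_nsmul, Finsupp.smul_apply, nsmul_eq_mul]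
    have := Int.natAbs_le_of_dvd_ne_zero ⟨_, e⟩ hne
    simp only [Int.natAbs_natCast] at this
    omega
  obtain ⟨y, hy⟩ := hz (Nat.card T0) Nat.card_pos.ne'
  have hyT : y ∈ T0 := by
    obtain ⟨a, ha⟩ := hzT
    refine ⟨⟨a.1 * (Nat.card T0 : ℤ), mem_nonZeroDivisors_of_ne_zero
      (mul_ne_zero (nonZeroDivisors.ne_zero a.2) (by exact_mod_cast Nat.card_pos.ne'))⟩, ?_⟩
    show (a.1 * (Nat.card T0 : ℤ)) • y = 0
    rw [mul_smul, natCast_zsmul, hy]
    exact ha
  rw [← hy]
  exact congrArg Subtype.val (card_nsmul_eq_zero' (x := (⟨y, hyT⟩ : T0)))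

end Groth.Agent.S16389
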