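import Groth.Statements.S16391
import Groth.Agent.AVTors2.Cat
import Groth.Agent.AVTors2.RedComp
-- import your own Groth.Agent.* helpers here

set_option autoImplicit false
set_option backward.isDefEq.respectTransparency false
set_option backward.isDefEq.respectTransparency.types false
set_option linter.style.haveILetI false
set_option synthInstance.maxHeartbeats 400000
universe u
open CategoryTheory CategoryTheory.Limits MonoidalCategory CartesianMonoidalCategory MonObj GrpObj AlgebraicGeometry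
open AbVar

namespace Groth.Agent.S16391

set_option maxHeartbeats 4000000 in
/-- (c) ⇒ (a₂): let k be a finite field with q elements and fix a polynomial P with integer
coefficients. Work with abelian varieties over k (proper, geometrically integral commutative group
schemes over k) together with their q-Frobenius endomorphism π (the identity on points, the q-th
power map on sections; a homomorphism) such that P(π) = 0 in the endomorphism ring (for suitable P:
the abelian varieties with Weil support in a given finite set of Weil q-numbers); let A be one of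
them and S = End(A) (product = composition). Assume that A is an injective cogenerator: (c₁) every
such Z admits finitely many homomorphisms Z → A which are jointly monomorphic on T-valued points
over k, and (c₂) for such X, Y and every homomorphism X → Y which is a closed immersion, the
restriction map Hom(Y, A) → Hom(X, A) is surjective. Then the functor X ↦ Hom(X, A) is essentially
surjective onto left S-modules that are free of finite rank over ℤ: for every such module M there
are such an abelian variety X (with its Frobenius and P(π_X) = 0) and an additive bijection M ≅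
Hom(X, A) carrying the action of s ∈ S to postcomposition with s. -/
theorem result
    (k : Type u) [Field k] [Finite k]
    (P : Polynomial ℤ) (A : Over (Spec (CommRingCat.of k))) [GrpObj A] [IsCommMonObj A] [IsProper A.hom] [GeometricallyIntegral A.hom]
    (πA : A ⟶ A) [IsMonHom πA] (hπAb : πA.left.base = 𝟙 _)
    (hπAle : ∀ U : A.left.Opens, U ≤ πA.left ⁻¹ᵁ U)
    (hπAapp : ∀ (U : A.left.Opens) (s : Γ(A.left, U)), (πA.left.appLE U U (hπAle U)).hom s = s ^ Nat.card k)
    (hPA : Polynomial.eval₂ (Int.castRingHom (EndAV.End A)) (EndAV.End.of πA) P = 0)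
    (hcog : ∀ (Z : Over (Spec (CommRingCat.of k))) [GrpObj Z] [IsCommMonObj Z] [IsProper Z.hom] [GeometricallyIntegral Z.hom]
      (πZ : Z ⟶ Z) [IsMonHom πZ] (hπZb : πZ.left.base = 𝟙 _) (hπZle : ∀ U : Z.left.Opens, U ≤ πZ.left ⁻¹ᵁ U)
      (hπZapp : ∀ (U : Z.left.Opens) (s : Γ(Z.left, U)), (πZ.left.appLE U U (hπZle U)).hom s = s ^ Nat.card k)
      (hPZ : Polynomial.eval₂ (Int.castRingHom (EndAV.End Z)) (EndAV.End.of πZ) P = 0),
      ∃ (n : ℕ) (ψ : Fin n → EndAV.Hom Z A), ∀ (T : Over (Spec (CommRingCat.of k))) (x y : T ⟶ Z),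
        (∀ i, x ≫ (ψ i).toHom = y ≫ (ψ i).toHom) → x = y)
    (hext : ∀ (X Y : Over (Spec (CommRingCat.of k))) [GrpObj X] [IsCommMonObj X] [IsProper X.hom] [GeometricallyIntegral X.hom]
      [GrpObj Y] [IsCommMonObj Y] [IsProper Y.hom] [GeometricallyIntegral Y.hom]
      (πX : X ⟶ X) [IsMonHom πX] (hπXb : πX.left.base = 𝟙 _) (hπXle : ∀ U : X.left.Opens, U ≤ πX.left ⁻¹ᵁ U)
      (hπXapp : ∀ (U : X.left.Opens) (s : Γ(X.left, U)), (πX.left.appLE U U (hπXle U)).hom s = s ^ Nat.card k)
      (hPX : Polynomial.eval₂ (Int.castRingHom (EndAV.End X)) (EndAV.End.of πX) P = 0)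
      (πY : Y ⟶ Y) [IsMonHom πY] (hπYb : πY.left.base = 𝟙 _) (hπYle : ∀ U : Y.left.Opens, U ≤ πY.left ⁻¹ᵁ U)
      (hπYapp : ∀ (U : Y.left.Opens) (s : Γ(Y.left, U)), (πY.left.appLE U U (hπYle U)).hom s = s ^ Nat.card k)
      (hPY : Polynomial.eval₂ (Int.castRingHom (EndAV.End Y)) (EndAV.End.of πY) P = 0)
      (φ : EndAV.Hom X Y) [IsClosedImmersion φ.toHom.left] (f : EndAV.Hom X A), ∃ g : EndAV.Hom Y A, φ ≫ g = f)
    (M : Type u) [AddCommGroup M] [Module (EndAV.End A) M] [Module.Finite ℤ M] [Module.Free ℤ M] :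
    ∃ (X : Over (Spec (CommRingCat.of k))) (_ : GrpObj X) (_ : IsCommMonObj X) (_ : IsProper X.hom)
      (_ : GeometricallyIntegral X.hom) (πX : X ⟶ X) (_ : IsMonHom πX) (_ : πX.left.base = 𝟙 _)
      (hπXle : ∀ U : X.left.Opens, U ≤ πX.left ⁻¹ᵁ U)
      (_ : ∀ (U : X.left.Opens) (s : Γ(X.left, U)), (πX.left.appLE U U (hπXle U)).hom s = s ^ Nat.card k)
      (_ : Polynomial.eval₂ (Int.castRingHom (EndAV.End X)) (EndAV.End.of πX) P = 0)
      (e : M ≃+ EndAV.Hom X A), ∀ (s : EndAV.End A) (m : M), (e (s • m)).toHom = (e m).toHom ≫ s.toHom := by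
  classical
  have hA := Groth.Agent.AVTors2.InCat.mk' πA hπAb hπAle hπAapp hPA
  haveI : PerfectField k := PerfectField.ofFinite
  obtain ⟨dA, hdA⟩ : ∃ g : ℕ, topologicalKrullDim A.left = g := by
    haveI : IsIntegral A.left := GeometricallyIntegral.isIntegral_of_subsingleton A.hom
    exact ⟨_, Groth.Agent.VarDim.topologicalKrullDim_eq_deg_genericPoint A.hom⟩
  haveI : Module.Finite ℤ (EndAV.End A) := (Groth.Agent.AVTors2.hom_finite_free (A := A) (B := A) hdA hdA).2.1
  -- a presentation of `M`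
  obtain ⟨b, gens, hgens⟩ := Module.Finite.exists_fin (R := ℤ) (M := M)
  let pres : (Fin b → EndAV.End A) →+ M :=
    AddMonoidHom.mk' (fun v => ∑ i, v i • gens i) fun v w => by
      simp only [Pi.add_apply, add_smul, Finset.sum_add_distrib]
  have hpres : ∀ v, pres v = ∑ i, v i • gens i := fun _ => rfl
  have hsurj : Function.Surjective pres := fun m => by
    obtain ⟨c, hc⟩ := (Submodule.mem_span_range_iff_exists_fun ℤ).1 (hgens ▸ Submodule.mem_top : m ∈ Submodule.span ℤ (Set.range gens))
    refine ⟨fun i => (c i : EndAV.End A), ?_⟩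
    rw [hpres, ← hc]
    simp only [Int.cast_smul_eq_zsmul]
  obtain ⟨a, rel, hrel⟩ := Module.Finite.exists_fin (R := ℤ) (M := LinearMap.ker pres.toIntLinearMap)
  obtain ⟨W, _, _, _, _, pr, inc, hW, hj, hl, hdec, hcoord⟩ := Groth.Agent.AVTors2.exists_pow hA b
  let hv : (Fin b → EndAV.End A) → EndAV.Hom W A := fun v => ∑ i, pr i ≫ (v i : EndAV.Hom A A)
  have hv_add : ∀ v w, hv (v + w) = hv v + hv w := fun v w => by
    simp only [hv, ← Finset.sum_add_distrib, Pi.add_apply]
    exact Finset.sum_congr rfl fun i _ => Preadditive.comp_add _ _ _ _ _ _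
  have hv_comp : ∀ v (s : EndAV.End A), hv (fun i => s * v i) = hv v ≫ (s : EndAV.Hom A A) := fun v s => by
    simp only [hv]
    rw [Preadditive.sum_comp]
    exact Finset.sum_congr rfl fun i _ => (Category.assoc _ _ _).symm
  -- the common kernel of the relations
  obtain ⟨K, _, κ, hκ, hκc, hK⟩ := Groth.Agent.AVTors2.exists_commonKernel
    (fun j : Fin a => (hv (rel j).1).toHom) fun j => inferInstance
  haveI := hκ
  haveI := hκc
  haveI : IsProper K.hom := by rw [← Over.w κ]; infer_instance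
  haveI : Mono κ.left := inferInstance
  haveI : Mono κ := Over.mono_of_mono_left _
  haveI : IsCommMonObj K := ⟨by
    rw [← cancel_mono κ, Category.assoc, IsMonHom.mul_hom (f := κ), ← BraidedCategory.braiding_naturality_assoc,
      IsCommMonObj.mul_comm]⟩
  obtain ⟨X, _, j, hjm, hjc, hXp, hXi, r, hr0, hr⟩ := Groth.Agent.AVTors2.exists_kills_mod K
  haveI := hjm
  haveI := hjc
  haveI : IsCommMonObj X := isCommMonObj_of_isProper_of_geometricallyIntegral X
  let ι' : EndAV.Hom X W := EndAV.Hom.of (j ≫ κ)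
  haveI : IsClosedImmersion ι'.toHom.left := by
    show IsClosedImmersion (j.left ≫ κ.left)
    infer_instance
  haveI : Mono j.left := inferInstance
  haveI : Mono j := Over.mono_of_mono_left _
  have hX : Groth.Agent.AVTors2.InCat P X :=
    Groth.Agent.AVTors2.InCat.of_family (fun _ : PUnit.{1} => W) (fun _ => hW) (fun _ => ι'.toHom)
      fun T x y h => (cancel_mono (j ≫ κ)).1 (h PUnit.unit)
  obtain ⟨πX, _, h1, h2, h3, h4⟩ := hX.data
  refine ⟨X, inferInstance, inferInstance, inferInstance, inferInstance, πX, inferInstance, h1, h2, h3, h4, ?_⟩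
  let L : (Fin b → EndAV.End A) →+ EndAV.Hom X A :=
    AddMonoidHom.mk' (fun v => ι' ≫ hv v) fun v w => by rw [hv_add, Preadditive.comp_add]
  have hL : ∀ v, L v = ι' ≫ hv v := fun _ => rfl
  let Hv : (Fin b → EndAV.End A) →+ EndAV.Hom W A := AddMonoidHom.mk' hv hv_add
  have hKkill : ∀ v, pres v = 0 → ∀ (T : Over (Spec (CommRingCat.of k))) (x : T ⟶ K), (x ≫ κ) ≫ (hv v).toHom = 1 := by
    intro v hv0 T x
    obtain ⟨c, hc⟩ := (Submodule.mem_span_range_iff_exists_fun ℤ).1
      (hrel ▸ Submodule.mem_top : (⟨v, LinearMap.mem_ker.2 hv0⟩ : LinearMap.ker pres.toIntLinearMap) ∈ Submodule.span ℤ (Set.range rel))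
    have hc' : v = ∑ i, c i • (rel i).1 := by
      have := congrArg Subtype.val hc
      simpa using this.symm
    rw [hc', show hv (∑ i, c i • (rel i).1) = Hv (∑ i, c i • (rel i).1) from rfl, map_sum]
    refine Groth.Agent.AVTors2.comp_sum_eq_one _ _ _ fun i _ => ?_
    rw [map_zsmul]
    exact Groth.Agent.AVTors2.comp_zsmul_eq_one _ _ _ ((hK T (x ≫ κ)).2 ⟨x, rfl⟩ i)
  have hker1 : ∀ v, pres v = 0 → L v = 0 := by
    intro v hv0
    rw [hL]
    apply EndAV.Hom.ext
    show (j ≫ κ) ≫ (hv v).toHom = 1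
    exact hKkill v hv0 X j
  have hLsurj : Function.Surjective L := by
    intro f
    obtain ⟨πW, _, g1, g2, g3, g4⟩ := hW.data
    obtain ⟨g, hg⟩ := hext X W πX h1 h2 h3 h4 πW g1 g2 g3 g4 ι' f
    refine ⟨fun i => (inc i ≫ g : EndAV.Hom A A), ?_⟩
    rw [hL, ← hg]
    exact congrArg (ι' ≫ ·) (hdec g).symm
  -- the quotient by the common kernel
  obtain ⟨B, _, _, _, _, q, _, hs, hfl, hqc, hepi, hq⟩ := Groth.Agent.AVTors2.exists_quotient κ
  haveI := hs
  haveI := hfl
  haveI := hqc
  haveI := hepi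
  obtain ⟨U, _, _, _, _, pr', inc', hU, hj', hl', hdec', -⟩ := Groth.Agent.AVTors2.exists_pow hA a
  obtain ⟨Φ, hΦ⟩ := hl' W fun i => (hv (rel i).1).toHom
  haveI : IsMonHom Φ :=
    { one_hom := hj' _ _ _ fun i => by rw [Category.assoc, hΦ, IsMonHom.one_hom, IsMonHom.one_hom]
      mul_hom := hj' _ _ _ fun i => by
        rw [Category.assoc, hΦ, IsMonHom.mul_hom, Category.assoc, IsMonHom.mul_hom (f := (pr' i).toHom),
          ← Category.assoc, tensorHom_comp_tensorHom, hΦ] }
  have hqΦ : ∀ (T : Over (Spec (CommRingCat.of k))) (x : T ⟶ W), x ≫ Φ = 1 ↔ x ≫ q = 1 := by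
    intro T x
    rw [hq, ← hK]
    refine ⟨fun h i => by rw [← hΦ i, ← Category.assoc, h, MonObj.one_comp], fun h => hj' _ _ _ fun i => ?_⟩
    rw [Category.assoc, hΦ, MonObj.one_comp, h]
  obtain ⟨ψ, ⟨_, hψ⟩, -⟩ := Groth.Agent.AbTors.exists_unique_factor q Φ fun T x hx => (hqΦ T x).2 hx
  have hψinj : ∀ (T : Over (Spec (CommRingCat.of k))) (w : T ⟶ B), w ≫ ψ = 1 → w = 1 := by
    intro T w hw
    let T' : Over (Spec (CommRingCat.of k)) := Over.mk (pullback.snd q.left w.left ≫ T.hom)
    let c : T' ⟶ T := Over.homMk (pullback.snd q.left w.left) rfl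
    let x : T' ⟶ W := Over.homMk (pullback.fst q.left w.left) (by
      show _ = pullback.snd q.left w.left ≫ T.hom
      rw [← Over.w w, ← pullback.condition_assoc, Over.w q])
    have hxw : x ≫ q = c ≫ w := Over.OverMorphism.ext pullback.condition
    haveI : Epi c.left := inferInstanceAs (Epi (pullback.snd q.left w.left))
    haveI : Epi c := (Over.forget _).epi_of_epi_map (inferInstanceAs (Epi c.left))
    rw [← cancel_epi c, MonObj.comp_one, ← hxw]
    refine (hqΦ T' x).1 ?_
    rw [← hψ, ← Category.assoc, hxw, Category.assoc, hw, MonObj.comp_one]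
  haveI : Mono ψ := ⟨fun u v huv => by
    have h1 := hψinj _ (u⁻¹ * v) (by rw [MonObj.mul_comp, GrpObj.inv_comp, huv, inv_mul_cancel])
    rwa [inv_mul_eq_one] at h1⟩
  haveI : IsProper (ψ.left ≫ U.hom) := by rw [Over.w ψ]; infer_instance
  haveI : IsProper ψ.left := IsProper.of_comp ψ.left U.hom
  haveI : Mono ψ.left := inferInstanceAs (Mono ((Over.forget _).map ψ))
  haveI : IsClosedImmersion ψ.left :=
    (IsClosedImmersion.iff_isProper_and_mono (f := ψ.left)).mpr ⟨inferInstance, inferInstance⟩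
  have hker2 : ∀ v, L v = 0 → pres v = 0 := by
    intro v hv0
    have hh : ∀ (T : Over (Spec (CommRingCat.of k))) (x : T ⟶ W), x ≫ q = 1 → x ≫ ((r : ℤ) • hv v).toHom = 1 := by
      intro T x hx
      obtain ⟨y, rfl⟩ := (hq T x).1 hx
      obtain ⟨z, hz⟩ := hr T y
      rw [EndAV.Hom.toHom_zsmul, GrpObj.comp_zpow, zpow_natCast, ← MonObj.pow_comp, ← MonObj.pow_comp, ← hz,
        Category.assoc, Category.assoc, ← Category.assoc j κ]
      have h0 : (j ≫ κ) ≫ (hv v).toHom = 1 := congrArg EndAV.Hom.toHom hv0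
      rw [h0, MonObj.comp_one]
    obtain ⟨ρ, ⟨_, hρ⟩, -⟩ := Groth.Agent.AbTors.exists_unique_factor q ((r : ℤ) • hv v).toHom hh
    obtain ⟨πB, _, f1, f2, f3, f4⟩ := (Groth.Agent.AVTors2.InCat.of_epi q hW).data
    obtain ⟨πU, _, g1, g2, g3, g4⟩ := hU.data
    haveI : IsClosedImmersion (EndAV.Hom.of ψ).toHom.left := by
      show IsClosedImmersion ψ.left
      infer_instance
    obtain ⟨g, hg⟩ := hext B U πB f1 f2 f3 f4 πU g1 g2 g3 g4 (EndAV.Hom.of ψ) (EndAV.Hom.of ρ)
    have hsum : Hv ((r : ℤ) • v) = Hv (∑ i, fun l => (show EndAV.End A from (inc' i ≫ g : EndAV.Hom A A)) * (rel i).1 l) := by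
      rw [map_zsmul, map_sum]
      have e1 : (r : ℤ) • Hv v = EndAV.Hom.of Φ ≫ g := by
        apply EndAV.Hom.ext
        show ((r : ℤ) • hv v).toHom = Φ ≫ g.toHom
        rw [← hψ, Category.assoc, ← hρ]
        exact congrArg (q ≫ ·) (congrArg EndAV.Hom.toHom hg).symm
      rw [e1]
      conv_lhs => rw [hdec' g, Preadditive.comp_sum]
      refine Finset.sum_congr rfl fun i _ => ?_
      rw [show Hv (fun l => (show EndAV.End A from (inc' i ≫ g : EndAV.Hom A A)) * (rel i).1 l) = hv (rel i).1 ≫ (inc' i ≫ g) from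
        hv_comp _ _, ← Category.assoc]
      congr 1
      exact EndAV.Hom.ext (hΦ i)
    have hinj : ∀ v w, Hv v = Hv w → v = w := fun v w h => funext fun i => by
      have := congrArg (inc i ≫ ·) h
      simp only [Hv, AddMonoidHom.mk'_apply, hv] at this
      rwa [hcoord, hcoord] at this
    have e2 := congrArg pres (hinj _ _ hsum)
    rw [map_zsmul, map_sum, Finset.sum_eq_zero] at e2
    · exact (smul_eq_zero.1 e2).resolve_left (by exact_mod_cast hr0)
    · intro i _
      have : pres (rel i).1 = 0 := LinearMap.mem_ker.1 (rel i).2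
      rw [hpres] at this ⊢
      simp only [mul_smul, ← Finset.smul_sum, this, smul_zero]
  choose sec hsec using hsurj
  have hwd : ∀ v, L (sec (pres v)) = L v := fun v => by
    have h0 := hker1 (sec (pres v) - v) (by rw [map_sub, hsec, sub_self])
    rwa [map_sub, sub_eq_zero] at h0
  let e : M ≃+ EndAV.Hom X A :=
    AddEquiv.ofBijective (AddMonoidHom.mk' (fun m => L (sec m)) fun m n => by
      have h0 := hwd (sec m + sec n)
      rwa [map_add, map_add, hsec, hsec] at h0) ⟨fun m n h => by
      have h0 := hker2 (sec m - sec n) (by rw [map_sub]; exact sub_eq_zero.2 h)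
      rwa [map_sub, hsec, hsec, sub_eq_zero] at h0, fun f => by
      obtain ⟨v, rfl⟩ := hLsurj f
      exact ⟨pres v, hwd v⟩⟩
  refine ⟨e, fun s m => ?_⟩
  show (L (sec (s • m))).toHom = (L (sec m)).toHom ≫ s.toHom
  have hsm : pres (fun i => s * sec m i) = s • m := by
    rw [hpres]
    simp only [mul_smul, ← Finset.smul_sum]
    rw [← hpres, hsec]
  rw [← hsm, hwd, hL, hL, hv_comp, ← Category.assoc]
  rfl

end Groth.Agent.S16391
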