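import Groth.Statements.S16395
import Groth.Agent.AVTors2.Cat
-- import your own Groth.Agent.* helpers here

set_option autoImplicit false
set_option backward.isDefEq.respectTransparency false
set_option backward.isDefEq.respectTransparency.types false
set_option linter.style.haveILetI false
set_option synthInstance.maxHeartbeats 400000
universe u
open CategoryTheory CategoryTheory.Limits MonoidalCategory CartesianMonoidalCategory MonObj GrpObj AlgebraicGeometry
open AbVar

namespace Groth.Agent.S16395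

set_option maxHeartbeats 4000000 in
/-- (a) ⇒ (b₂): let k be a finite field with q elements and fix a polynomial P with integer
coefficients. Work with abelian varieties over k (proper, geometrically integral commutative group
schemes over k) with their q-Frobenius endomorphism π (identity on points, q-th power on sections; a
homomorphism) such that P(π) = 0 in the endomorphism ring (for suitable P: the abelian varieties
with Weil support in a given finite set of Weil q-numbers); let A be one of them and S = End(A)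
(product = composition), acting on each Hom(X, A) by postcomposition. Assume (a): the functor X ↦
Hom(X, A) is an anti-equivalence from these abelian varieties onto left S-modules free of finite
rank over ℤ — (a₁) for such X, Y, homomorphisms X → Y agreeing after composition with every
homomorphism Y → A are equal and every additive S-linear map Hom(Y, A) → Hom(X, A) is precomposition
with a homomorphism X → Y; (a₂) every left S-module whose additive group is free of finite rank over
ℤ is additively and S-linearly isomorphic to Hom(Y, A) for some such Y. Then (b₂): for every such X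
and every additive subgroup M ⊆ Hom(X, A) of finite index stable under postcomposition with
endomorphisms of A, a homomorphism f : X → A lies in M as soon as it kills the common kernel of M,
i.e. every T-valued point of X over k sent to the unit by all members of M is sent to the unit by f. -/
theorem result
    (k : Type u) [Field k] [Finite k]
    (P : Polynomial ℤ) (A : Over (Spec (CommRingCat.of k))) [GrpObj A] [IsCommMonObj A] [IsProper A.hom] [GeometricallyIntegral A.hom]
    (πA : A ⟶ A) [IsMonHom πA] (hπAb : πA.left.base = 𝟙 _) (hπAle : ∀ U : A.left.Opens, U ≤ πA.left ⁻¹ᵁ U)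
      (hπAapp : ∀ (U : A.left.Opens) (s : Γ(A.left, U)), (πA.left.appLE U U (hπAle U)).hom s = s ^ Nat.card k)
    (hPA : Polynomial.eval₂ (Int.castRingHom (EndAV.End A)) (EndAV.End.of πA) P = 0)
    (hff : ∀ (X Y : Over (Spec (CommRingCat.of k))) [GrpObj X] [IsCommMonObj X] [IsProper X.hom] [GeometricallyIntegral X.hom]
      [GrpObj Y] [IsCommMonObj Y] [IsProper Y.hom] [GeometricallyIntegral Y.hom]
      (πX : X ⟶ X) [IsMonHom πX] (hπXb : πX.left.base = 𝟙 _) (hπXle : ∀ U : X.left.Opens, U ≤ πX.left ⁻¹ᵁ U)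
      (hπXapp : ∀ (U : X.left.Opens) (s : Γ(X.left, U)), (πX.left.appLE U U (hπXle U)).hom s = s ^ Nat.card k)
      (hPX : Polynomial.eval₂ (Int.castRingHom (EndAV.End X)) (EndAV.End.of πX) P = 0)
      (πY : Y ⟶ Y) [IsMonHom πY] (hπYb : πY.left.base = 𝟙 _) (hπYle : ∀ U : Y.left.Opens, U ≤ πY.left ⁻¹ᵁ U)
      (hπYapp : ∀ (U : Y.left.Opens) (s : Γ(Y.left, U)), (πY.left.appLE U U (hπYle U)).hom s = s ^ Nat.card k)
      (hPY : Polynomial.eval₂ (Int.castRingHom (EndAV.End Y)) (EndAV.End.of πY) P = 0),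
      (∀ f g : EndAV.Hom X Y, (∀ φ : EndAV.Hom Y A, f ≫ φ = g ≫ φ) → f = g) ∧
        (∀ g : EndAV.Hom Y A →+ EndAV.Hom X A,
          (∀ (φ : EndAV.Hom Y A) (s : EndAV.Hom A A), g (φ ≫ s) = g φ ≫ s) →
            ∃ f : EndAV.Hom X Y, ∀ φ : EndAV.Hom Y A, g φ = f ≫ φ))
    (hes : ∀ (M : Type u) [AddCommGroup M] [Module (EndAV.End A) M] [Module.Finite ℤ M] [Module.Free ℤ M],
      ∃ (Y : Over (Spec (CommRingCat.of k))) (_ : GrpObj Y) (_ : IsCommMonObj Y) (_ : IsProper Y.hom)
        (_ : GeometricallyIntegral Y.hom) (πY : Y ⟶ Y) (_ : IsMonHom πY) (_ : πY.left.base = 𝟙 _)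
        (hπYle : ∀ U : Y.left.Opens, U ≤ πY.left ⁻¹ᵁ U)
        (_ : ∀ (U : Y.left.Opens) (s : Γ(Y.left, U)), (πY.left.appLE U U (hπYle U)).hom s = s ^ Nat.card k)
        (_ : Polynomial.eval₂ (Int.castRingHom (EndAV.End Y)) (EndAV.End.of πY) P = 0)
        (e : M ≃+ EndAV.Hom Y A), ∀ (s : EndAV.End A) (m : M), (e (s • m)).toHom = (e m).toHom ≫ s.toHom)
    (X : Over (Spec (CommRingCat.of k))) [GrpObj X] [IsCommMonObj X] [IsProper X.hom] [GeometricallyIntegral X.hom]
    (πX : X ⟶ X) [IsMonHom πX] (hπXb : πX.left.base = 𝟙 _) (hπXle : ∀ U : X.left.Opens, U ≤ πX.left ⁻¹ᵁ U)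
      (hπXapp : ∀ (U : X.left.Opens) (s : Γ(X.left, U)), (πX.left.appLE U U (hπXle U)).hom s = s ^ Nat.card k)
    (hPX : Polynomial.eval₂ (Int.castRingHom (EndAV.End X)) (EndAV.End.of πX) P = 0)
    (M : AddSubgroup (EndAV.Hom X A)) (hM : M.FiniteIndex) (hMS : ∀ r ∈ M, ∀ s : EndAV.Hom A A, r ≫ s ∈ M)
    (f : EndAV.Hom X A)
    (hf : ∀ (T : Over (Spec (CommRingCat.of k))) (x : T ⟶ X), (∀ r ∈ M, x ≫ EndAV.Hom.toHom r = 1) → x ≫ f.toHom = 1) :
    f ∈ M := by
  classical
  have hX := Groth.Agent.AVTors2.InCat.mk' πX hπXb hπXle hπXapp hPX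
  obtain ⟨dX, hdX⟩ : ∃ g : ℕ, topologicalKrullDim X.left = g := by
    haveI : IsIntegral X.left := GeometricallyIntegral.isIntegral_of_subsingleton X.hom
    exact ⟨_, Groth.Agent.VarDim.topologicalKrullDim_eq_deg_genericPoint X.hom⟩
  obtain ⟨dA, hdA⟩ : ∃ g : ℕ, topologicalKrullDim A.left = g := by
    haveI : IsIntegral A.left := GeometricallyIntegral.isIntegral_of_subsingleton A.hom
    exact ⟨_, Groth.Agent.VarDim.topologicalKrullDim_eq_deg_genericPoint A.hom⟩
  obtain ⟨hfree, hfin, -⟩ := Groth.Agent.AVTors2.hom_finite_free (A := X) (B := A) hdX hdA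
  letI : SMul (EndAV.End A) M := ⟨fun s r => ⟨r.1 ≫ s, hMS r.1 r.2 s⟩⟩
  have hsmul : ∀ (s : EndAV.End A) (r : M), ((s • r : M) : EndAV.Hom X A) = r.1 ≫ s := fun _ _ => rfl
  letI : Module (EndAV.End A) M :=
    { one_smul := fun r => Subtype.ext (Category.comp_id r.1)
      mul_smul := fun s t r => Subtype.ext (Category.assoc r.1 t s).symm
      smul_zero := fun s => Subtype.ext (by rw [hsmul]; exact zero_comp)
      smul_add := fun s a b => Subtype.ext (by
        show (a + b : M).1 ≫ s = (s • a : M).1 + (s • b : M).1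
        rw [AddSubgroup.coe_add, Preadditive.add_comp, hsmul, hsmul])
      add_smul := fun s t r => Subtype.ext (by
        rw [AddSubgroup.coe_add, hsmul, hsmul, hsmul]
        exact Preadditive.comp_add _ _ _ r.1 s t)
      zero_smul := fun r => Subtype.ext (by rw [hsmul]; exact comp_zero) }
  haveI : Module.Finite ℤ M := inferInstanceAs (Module.Finite ℤ (AddSubgroup.toIntSubmodule M))
  haveI : Module.Free ℤ M := inferInstanceAs (Module.Free ℤ (AddSubgroup.toIntSubmodule M))
  obtain ⟨Y, _, _, _, _, πY, _, hπYb, hπYle, hπYapp, hPY, e, he⟩ := hes M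
  have hY := Groth.Agent.AVTors2.InCat.mk' πY hπYb hπYle hπYapp hPY
  have hff' : ∀ (X Y : Over (Spec (CommRingCat.of k))) [GrpObj X] [IsCommMonObj X] [IsProper X.hom]
      [GeometricallyIntegral X.hom] [GrpObj Y] [IsCommMonObj Y] [IsProper Y.hom] [GeometricallyIntegral Y.hom],
      Groth.Agent.AVTors2.InCat P X → Groth.Agent.AVTors2.InCat P Y →
      (∀ f g : EndAV.Hom X Y, (∀ φ : EndAV.Hom Y A, f ≫ φ = g ≫ φ) → f = g) ∧
        (∀ g : EndAV.Hom Y A →+ EndAV.Hom X A,
          (∀ (φ : EndAV.Hom Y A) (s : EndAV.Hom A A), g (φ ≫ s) = g φ ≫ s) →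
            ∃ f : EndAV.Hom X Y, ∀ φ : EndAV.Hom Y A, g φ = f ≫ φ) := by
    intro X Y _ _ _ _ _ _ _ _ hX' hY'
    obtain ⟨π1, _, h1, h2, h3, h4⟩ := hX'.data
    obtain ⟨π2, _, g1, g2, g3, g4⟩ := hY'.data
    exact hff X Y π1 h1 h2 h3 h4 π2 g1 g2 g3 g4
  have he' : ∀ (φ : EndAV.Hom Y A) (s : EndAV.Hom A A), e.symm (φ ≫ s) = (show EndAV.End A from s) • e.symm φ := by
    intro φ s
    apply e.injective
    rw [AddEquiv.apply_symm_apply]
    apply EndAV.Hom.ext
    rw [he, AddEquiv.apply_symm_apply]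
    rfl
  obtain ⟨j, hj⟩ := (hff' X Y hX hY).2
    (AddMonoidHom.mk' (fun φ => (e.symm φ).1) fun a b => by rw [map_add]; rfl) (fun φ s => by
      show (e.symm (φ ≫ s)).1 = (e.symm φ).1 ≫ s
      rw [he', hsmul])
  simp only [AddMonoidHom.mk'_apply] at hj
  obtain ⟨K, _, ι', _, hic, -, hker⟩ := Groth.Agent.GrpSchLib.exists_kernel j.toHom
  haveI := hic
  obtain ⟨W, _, _, _, _, q, _, hs, hfl, hqc, hepi, hq⟩ := Groth.Agent.AVTors2.exists_quotient ι'
  haveI := hs
  haveI := hfl
  haveI := hqc
  haveI := hepi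
  have hqj : ∀ (T : Over (Spec (CommRingCat.of k))) (x : T ⟶ X), x ≫ q = 1 ↔ x ≫ j.toHom = 1 := by
    intro T x
    rw [hq T x]
    constructor
    · rintro ⟨y, rfl⟩
      rw [Category.assoc, hker.w, ← Category.assoc, CartesianMonoidalCategory.toUnit_unique (y ≫ toUnit K) (toUnit T), Hom.one_def]
    · intro hx
      exact ⟨hker.lift x (toUnit T) (by rw [hx, Hom.one_def]), hker.lift_fst _ _ _⟩
  obtain ⟨j', ⟨_, hj'⟩, -⟩ := Groth.Agent.AbTors.exists_unique_factor q j.toHom fun T x hx => (hqj T x).1 hx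
  obtain ⟨f', ⟨_, hf'⟩, -⟩ := Groth.Agent.AbTors.exists_unique_factor q f.toHom fun T x hx =>
    hf T x fun r hr => by
      have e1 : (⟨r, hr⟩ : M).1 = j ≫ e ⟨r, hr⟩ := by rw [← hj, AddEquiv.symm_apply_apply]
      rw [show r = j ≫ e ⟨r, hr⟩ from e1, EndAV.Hom.toHom_comp, ← Category.assoc, (hqj T x).1 hx, MonObj.one_comp]
  -- `j'` has trivial kernel
  haveI : IsProper (j'.left ≫ Y.hom) := by rw [Over.w j']; infer_instance
  haveI : IsProper j'.left := IsProper.of_comp j'.left Y.hom
  have hj'inj : ∀ (T : Over (Spec (CommRingCat.of k))) (w : T ⟶ W), w ≫ j' = 1 → w = 1 := by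
    intro T w hw
    let T' : Over (Spec (CommRingCat.of k)) := Over.mk (pullback.snd q.left w.left ≫ T.hom)
    let c : T' ⟶ T := Over.homMk (pullback.snd q.left w.left) rfl
    let x : T' ⟶ X := Over.homMk (pullback.fst q.left w.left) (by
      show _ = pullback.snd q.left w.left ≫ T.hom
      rw [← Over.w w, ← pullback.condition_assoc, Over.w q])
    have hxw : x ≫ q = c ≫ w := Over.OverMorphism.ext pullback.condition
    haveI : Epi c.left := inferInstanceAs (Epi (pullback.snd q.left w.left))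
    haveI : Epi c := (Over.forget _).epi_of_epi_map (inferInstanceAs (Epi c.left))
    rw [← cancel_epi c, MonObj.comp_one, ← hxw]
    refine (hqj T' x).2 ?_
    rw [← hj', ← Category.assoc, hxw, Category.assoc, hw, MonObj.comp_one]
  haveI : Mono j' := ⟨fun a b hab => by
    have h1 := hj'inj _ (a⁻¹ * b) (by rw [MonObj.mul_comp, GrpObj.inv_comp, hab, inv_mul_cancel])
    rwa [inv_mul_eq_one] at h1⟩
  haveI : Mono j'.left := inferInstanceAs (Mono ((Over.forget _).map j'))
  haveI : IsClosedImmersion j'.left :=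
    (IsClosedImmersion.iff_isProper_and_mono (f := j'.left)).mpr ⟨inferInstance, inferInstance⟩
  obtain ⟨C, _, _, _, _, r, _, _, _, _, hrepi, hr⟩ := Groth.Agent.AVTors2.exists_quotient j'
  haveI := hrepi
  have hC : Groth.Agent.AVTors2.InCat P C := Groth.Agent.AVTors2.InCat.of_epi r hY
  have hjr : j.toHom ≫ r = 1 := by
    rw [← hj', Category.assoc, (hr W j').2 ⟨𝟙 W, Category.id_comp _⟩, MonObj.comp_one]
  have hC0 : (𝟙 (CommGrp.mk C) : EndAV.Hom C C) = 0 := (hff' C C hC hC).1 _ _ fun φ => by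
    have h1 : e.symm (EndAV.Hom.of r ≫ φ) = 0 := Subtype.ext (by
      rw [hj]
      apply EndAV.Hom.ext
      show j.toHom ≫ r ≫ φ.toHom = 1
      rw [← Category.assoc, hjr, MonObj.one_comp])
    have h2 : EndAV.Hom.of r ≫ φ = 0 := (AddEquiv.map_eq_zero_iff e.symm).1 h1
    have h3 : φ = 0 := EndAV.Hom.ext ((cancel_epi r).1 ((congrArg EndAV.Hom.toHom h2).trans (MonObj.comp_one r).symm))
    rw [h3, Category.id_comp, zero_comp]
  obtain ⟨v, hv⟩ := (hr Y (𝟙 Y)).1 (by
    rw [Category.id_comp]
    calc r = r ≫ 𝟙 C := (Category.comp_id r).symm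
      _ = 1 := by rw [show (𝟙 C : C ⟶ C) = 1 from congrArg EndAV.Hom.toHom hC0, MonObj.comp_one])
  haveI : IsMonHom v :=
    { one_hom := by rw [← cancel_mono j', Category.assoc, hv, Category.comp_id, IsMonHom.one_hom]
      mul_hom := by
        rw [← cancel_mono j', Category.assoc, hv, Category.comp_id, Category.assoc, IsMonHom.mul_hom (f := j'),
          ← Category.assoc, tensorHom_comp_tensorHom, hv]
        simp }
  have hfeq : f = j ≫ (EndAV.Hom.of v ≫ EndAV.Hom.of f') := EndAV.Hom.ext (by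
    have hvj : j' ≫ v = 𝟙 W := by rw [← cancel_mono j', Category.assoc, hv, Category.comp_id, Category.id_comp]
    show f.toHom = j.toHom ≫ v ≫ f'
    rw [← hj', Category.assoc, reassoc_of% hvj, hf'])
  rw [hfeq, ← hj]
  exact (e.symm _).2

end Groth.Agent.S16395
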