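import Groth.Statements.S16419
import Mathlib
-- import your own Groth.Agent.* helpers here

set_option autoImplicit false
universe u v
open CAlg

namespace Groth.Agent.S16419

lemma exists_compl_of_free {R : Type u} [CommRing R] {M : Type v} [AddCommGroup M] [Module R M]
    (N : Submodule R M) [Module.Free R (M ⧸ N)] : ∃ C, IsCompl N C := by
  obtain ⟨s, hs⟩ := Module.projective_lifting_property N.mkQ LinearMap.id N.mkQ_surjective
  refine ⟨LinearMap.ker (LinearMap.codRestrict N (LinearMap.id - s.comp N.mkQ) fun x => ?_),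
    LinearMap.isCompl_of_proj fun x => ?_⟩
  · rw [← Submodule.Quotient.mk_eq_zero]
    have := LinearMap.congr_fun hs (N.mkQ x)
    simp only [LinearMap.comp_apply, LinearMap.id_apply] at this
    rw [LinearMap.sub_apply, LinearMap.id_apply, LinearMap.comp_apply, ← Submodule.mkQ_apply, map_sub, this, sub_self]
  · apply Subtype.ext
    have : N.mkQ (x : M) = 0 := (Submodule.Quotient.mk_eq_zero N).mpr x.2
    simp [this]

open TensorProduct in
/-- For a commutative local Artinian ring R and an exact sequence 0 → H₁ → H → H₂ → 0 of finite free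
R-modules, let F₁ ⊆ H₁ and F₂ ⊆ H₂ be submodules with H₁/F₁ and H₂/F₂ free; let 𝔫 be an ideal of R
of square zero, R̄ = R/𝔫, and F̄ an R̄-submodule of H̄ = R̄ ⊗ H with free quotient such that F̄
meets the image of R̄ ⊗ H₁ in the image of R̄ ⊗ F₁ and the image of F̄ in R̄ ⊗ H₂ is the image of R̄
⊗ F₂. Then there is a direct summand F of H with F ∩ H₁ = F₁, whose image in H̄ is F̄ and whose
image in H₂ is F₂. -/
theorem result
    (R : Type u) [CommRing R] [IsArtinianRing R] [IsLocalRing R]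
    (H₁ : Type v) (H : Type v) (H₂ : Type v)
    [AddCommGroup H₁] [Module R H₁] [AddCommGroup H] [Module R H] [AddCommGroup H₂] [Module R H₂]
    [Module.Free R H₁] [Module.Finite R H₁] [Module.Free R H] [Module.Finite R H]
    [Module.Free R H₂] [Module.Finite R H₂]
    (f : H₁ →ₗ[R] H) (g : H →ₗ[R] H₂) (hf : Function.Injective f) (hg : Function.Surjective g)
    (hfg : Function.Exact f g)
    (F₁ : Submodule R H₁) (F₂ : Submodule R H₂) [Module.Free R (H₁ ⧸ F₁)] [Module.Free R (H₂ ⧸ F₂)]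
    (𝔫 : Ideal R) (hn : 𝔫 * 𝔫 = ⊥)
    (Fb : Submodule (R ⧸ 𝔫) ((R ⧸ 𝔫) ⊗[R] H))
    [Module.Free (R ⧸ 𝔫) (((R ⧸ 𝔫) ⊗[R] H) ⧸ Fb)]
    (h1 : Fb ⊓ LinearMap.range (f.baseChange (R ⧸ 𝔫)) =
      Submodule.map (f.baseChange (R ⧸ 𝔫)) (F₁.baseChange (R ⧸ 𝔫)))
    (h2 : Submodule.map (g.baseChange (R ⧸ 𝔫)) Fb = F₂.baseChange (R ⧸ 𝔫)) :
    ∃ F : Submodule R H, (∃ C : Submodule R H, IsCompl F C) ∧
      F ⊓ LinearMap.range f = Submodule.map f F₁ ∧
      F.baseChange (R ⧸ 𝔫) = Fb ∧ Submodule.map g F = F₂ := by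
  classical
  obtain ⟨C₁, hC₁⟩ := exists_compl_of_free F₁
  obtain ⟨C₂, hC₂⟩ := exists_compl_of_free F₂
  haveI : Module.Projective R F₂ :=
    Module.Projective.of_split F₂.subtype (Submodule.projectionOnto F₂ C₂ hC₂)
      (LinearMap.ext fun x => Submodule.projectionOnto_apply_left hC₂ x)
  have hsurj : Function.Surjective (algebraMap R (R ⧸ 𝔫)) := Ideal.Quotient.mk_surjective
  let mH : H →ₗ[R] (R ⧸ 𝔫) ⊗[R] H := TensorProduct.mk R (R ⧸ 𝔫) H 1
  have hmH : Function.Surjective mH := TensorProduct.mk_surjective R H (R ⧸ 𝔫) hsurj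
  let T : Submodule R H := F₂.comap g ⊓ (Fb.restrictScalars R).comap mH
  let gT : T →ₗ[R] F₂ := g.restrict fun x hx => hx.1
  have hgT : Function.Surjective gT := by
    rintro ⟨e, he⟩
    have h1' : ((1 : R ⧸ 𝔫) ⊗ₜ[R] e) ∈ Submodule.map (g.baseChange (R ⧸ 𝔫)) Fb := by
      rw [h2]; exact Submodule.tmul_mem_baseChange_of_mem _ he
    obtain ⟨y, hy, hye⟩ := h1'
    obtain ⟨y, rfl⟩ := hmH y
    rw [show g.baseChange (R ⧸ 𝔫) (mH y) = (1 : R ⧸ 𝔫) ⊗ₜ[R] g y from rfl, ← sub_eq_zero,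
      ← TensorProduct.tmul_sub] at hye
    have hk : g y - e ∈ 𝔫 • (⊤ : Submodule R H₂) := by
      rw [← Submodule.Quotient.mk_eq_zero]
      have := congrArg (TensorProduct.quotTensorEquivQuotSMul H₂ 𝔫) hye
      rw [map_zero] at this
      rwa [← map_one (Ideal.Quotient.mk 𝔫), TensorProduct.quotTensorEquivQuotSMul_mk_tmul, one_smul] at this
    rw [← LinearMap.range_eq_top.mpr hg, LinearMap.range_eq_map, ← Submodule.map_smul''] at hk
    obtain ⟨n, hn', hne⟩ := hk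
    have h0 : mH n = 0 := by
      refine Submodule.smul_induction_on hn' (fun r hr x _ => ?_) (fun a b ha hb => by rw [map_add, ha, hb, add_zero])
      show (1 : R ⧸ 𝔫) ⊗ₜ[R] (r • x) = 0
      rw [← TensorProduct.smul_tmul, Algebra.smul_def, mul_one, Ideal.Quotient.algebraMap_eq,
        Ideal.Quotient.eq_zero_iff_mem.mpr hr, TensorProduct.zero_tmul]
    refine ⟨⟨y - n, ?_, ?_⟩, Subtype.ext ?_⟩
    · show g (y - n) ∈ F₂
      rw [map_sub, hne, sub_sub_cancel]; exact he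
    · show mH (y - n) ∈ Fb
      rw [map_sub, h0, sub_zero]; exact hy
    · show g (y - n) = e
      rw [map_sub, hne, sub_sub_cancel]
  obtain ⟨σ, hσ⟩ := Module.projective_lifting_property gT LinearMap.id hgT
  let x : F₂ →ₗ[R] H := T.subtype.comp σ
  have hx : ∀ e : F₂, g (x e) = e := fun e => congrArg Subtype.val (LinearMap.congr_fun hσ e)
  have hxF : ∀ e : F₂, mH (x e) ∈ Fb := fun e => (σ e).2.2
  have hgf : ∀ a, g (f a) = 0 := fun a => hfg.apply_apply_eq_zero a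
  let F : Submodule R H := Submodule.map f F₁ ⊔ LinearMap.range x
  have hgF : Submodule.map g F = F₂ := by
    refine le_antisymm (Submodule.map_le_iff_le_comap.mpr (sup_le ?_ ?_)) fun e he => ?_
    · rintro _ ⟨a, _, rfl⟩; show g (f a) ∈ F₂; rw [hgf]; exact zero_mem _
    · rintro _ ⟨e, rfl⟩; show g (x e) ∈ F₂; rw [hx]; exact e.2
    · exact ⟨x ⟨e, he⟩, Submodule.mem_sup_right ⟨_, rfl⟩, hx _⟩
  have hFker : ∀ z ∈ F, g z = 0 → z ∈ Submodule.map f F₁ := by
    intro z hz hgz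
    obtain ⟨a, ⟨a, ha, rfl⟩, b, ⟨e, rfl⟩, rfl⟩ := Submodule.mem_sup.mp hz
    rw [map_add, hgf, zero_add, hx] at hgz
    rw [show e = 0 from Subtype.ext hgz, map_zero, add_zero]
    exact ⟨a, ha, rfl⟩
  have hinter : F ⊓ LinearMap.range f = Submodule.map f F₁ := by
    refine le_antisymm ?_ (le_inf le_sup_left (Submodule.map_le_iff_le_comap.mpr fun a _ => ⟨a, rfl⟩))
    rintro z ⟨hz, a, rfl⟩
    exact hFker _ hz (hgf a)
  refine ⟨F, ?_, hinter, ?_, hgF⟩
  · obtain ⟨s, hs⟩ := Module.projective_lifting_property g LinearMap.id hg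
    have hs' : ∀ c, g (s c) = c := LinearMap.congr_fun hs
    refine ⟨Submodule.map f C₁ ⊔ Submodule.map s C₂, IsCompl.of_eq ?_ ?_⟩
    · rw [Submodule.eq_bot_iff]
      rintro z ⟨hzF, hzC⟩
      obtain ⟨_, ⟨b, hb, rfl⟩, _, ⟨c, hc, rfl⟩, rfl⟩ := Submodule.mem_sup.mp hzC
      have h0 : g (f b + s c) ∈ F₂ := hgF.le ⟨_, hzF, rfl⟩
      rw [map_add, hgf, zero_add, hs'] at h0
      have hc0 : c = 0 := (Submodule.mem_bot R).mp (hC₂.inf_eq_bot.le ⟨h0, hc⟩)
      subst hc0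
      rw [map_zero, add_zero] at hzF ⊢
      obtain ⟨a, ha, hab⟩ := hFker _ hzF (hgf b)
      rw [hf hab] at ha
      rw [show b = 0 from (Submodule.mem_bot R).mp (hC₁.inf_eq_bot.le ⟨ha, hb⟩), map_zero]
    · rw [eq_top_iff]
      rintro h -
      obtain ⟨e, he, c, hc, hec⟩ := Submodule.mem_sup.mp (hC₂.sup_eq_top.ge (Submodule.mem_top (x := g h)))
      obtain ⟨a, ha⟩ := (hfg (h - x ⟨e, he⟩ - s c)).mp (by rw [map_sub, map_sub, hx, hs', ← hec]; abel)
      obtain ⟨a₁, ha₁, b, hb, rfl⟩ := Submodule.mem_sup.mp (hC₁.sup_eq_top.ge (Submodule.mem_top (x := a)))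
      rw [show h = (f a₁ + x ⟨e, he⟩) + (f b + s c) by rw [map_add] at ha; rw [eq_sub_iff_add_eq, eq_sub_iff_add_eq] at ha; rw [← ha]; abel]
      exact add_mem (Submodule.mem_sup_left (add_mem (Submodule.mem_sup_left ⟨a₁, ha₁, rfl⟩) (Submodule.mem_sup_right ⟨_, rfl⟩)))
        (Submodule.mem_sup_right (add_mem (Submodule.mem_sup_left ⟨b, hb, rfl⟩) (Submodule.mem_sup_right ⟨c, hc, rfl⟩)))
  · have hle : F.baseChange (R ⧸ 𝔫) ≤ Fb := by
      rw [Submodule.baseChange_eq_span, Submodule.span_le]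
      rintro _ ⟨z, hz, rfl⟩
      obtain ⟨_, ⟨a, ha, rfl⟩, _, ⟨e, rfl⟩, rfl⟩ := Submodule.mem_sup.mp hz
      rw [SetLike.mem_coe, map_add]
      refine add_mem ?_ (hxF e)
      exact (h1.ge ⟨(1 : R ⧸ 𝔫) ⊗ₜ[R] a, Submodule.tmul_mem_baseChange_of_mem _ ha, rfl⟩).1
    refine le_antisymm hle fun y hy => ?_
    have hgF' : F₂.baseChange (R ⧸ 𝔫) = Submodule.map (g.baseChange (R ⧸ 𝔫)) (F.baseChange (R ⧸ 𝔫)) := by
      rw [← hgF, Submodule.baseChange_eq_span, Submodule.baseChange_eq_span, Submodule.map_span]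
      congr 1
      ext w
      simp [Submodule.mem_map]
    obtain ⟨z, hz, hzy⟩ : g.baseChange (R ⧸ 𝔫) y ∈ Submodule.map (g.baseChange (R ⧸ 𝔫)) (F.baseChange (R ⧸ 𝔫)) := by
      rw [← hgF', ← h2]; exact ⟨y, hy, rfl⟩
    have hex : Function.Exact (f.baseChange (R ⧸ 𝔫)) (g.baseChange (R ⧸ 𝔫)) := lTensor_exact _ hfg hg
    obtain ⟨w, hw⟩ := (hex (y - z)).mp (by rw [map_sub, hzy, sub_self])
    have hw' : y - z ∈ Submodule.map (f.baseChange (R ⧸ 𝔫)) (F₁.baseChange (R ⧸ 𝔫)) :=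
      h1.le ⟨sub_mem hy (hle hz), w, hw⟩
    have hsub : Submodule.map (f.baseChange (R ⧸ 𝔫)) (F₁.baseChange (R ⧸ 𝔫)) ≤ F.baseChange (R ⧸ 𝔫) := by
      rw [Submodule.baseChange_eq_span, Submodule.map_span, Submodule.span_le]
      rintro _ ⟨_, ⟨a, ha, rfl⟩, rfl⟩
      exact Submodule.tmul_mem_baseChange_of_mem _ (Submodule.mem_sup_left ⟨a, ha, rfl⟩)
    simpa using add_mem (hsub hw') hz

end Groth.Agent.S16419
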