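import Groth.Statements.S16433
import Groth.Agent.E4Loc.Normal

set_option autoImplicit false
universe u
open EGA4loc

namespace Groth.Agent.S16433

/-- Let A be an excellent normal local domain and S a strict henselization of A; let D be an
A-subalgebra of S which is a local ring dominated by S (the inclusion is a local homomorphism) and
an integrally closed domain. Then D is a directed union of local etale extensions of A: every finite
subset of D is contained in an A-subalgebra D' of S with D' contained in D, D' a local ring whose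
inclusion into S is local, and D' an essentially etale local A-algebra (a localization of an etale
A-algebra at a prime over the maximal ideal). -/
theorem result
    (A S : Type u) [CommRing A] [IsLocalRing A] [IsDomain A] [IsIntegrallyClosed A]
    (hA : EGA4.IsExcellent A) [CommRing S] [IsLocalRing S] [Algebra A S] [IsLocalHom (algebraMap A S)]
    [Hensel.IsStrictHenselization A S] (D : Subalgebra A S) [IsLocalRing D]
    [IsLocalHom (algebraMap D S)] [IsDomain D] [IsIntegrallyClosed D]
    (s : Finset S) (hs : (s : Set S) ⊆ (D : Set S)) :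
    ∃ D' : Subalgebra A S, D' ≤ D ∧ (s : Set S) ⊆ (D' : Set S) ∧
      ∃ _ : IsLocalRing D', IsLocalHom (algebraMap D' S) ∧ EGA4loc.IsEssentiallyEtale A D' := by
  classical
  haveI := hA.1
  haveI := E4Loc.isDomain_strictHenselization A S
  let j := algebraMap D (FractionRing D)
  have hj : Function.Injective j := IsFractionRing.injective D (FractionRing D)
  let sD : Finset D := s.attach.image fun x => ⟨x.1, hs x.2⟩
  let L : Subfield (FractionRing D) :=
    Subfield.closure (Set.range (algebraMap A (FractionRing D)) ∪ j '' (sD : Set D))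
  have hLA : ∀ a : A, algebraMap A (FractionRing D) a ∈ L := fun a => Subfield.subset_closure (Or.inl ⟨a, rfl⟩)
  let D₁ : Subalgebra A D :=
    { L.toSubring.comap j with
      algebraMap_mem' := fun a => by
        show j (algebraMap A D a) ∈ L
        rw [← IsScalarTower.algebraMap_apply]
        exact hLA a }
  let D' : Subalgebra A S := D₁.map D.val
  have hmem : ∀ x : S, x ∈ D' ↔ ∃ hx : x ∈ D, j ⟨x, hx⟩ ∈ L := by
    intro x
    constructor
    · rintro ⟨d, hd, rfl⟩
      exact ⟨d.2, hd⟩
    · rintro ⟨hx, h⟩
      exact ⟨⟨x, hx⟩, h, rfl⟩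
  have hle : D' ≤ D := fun x hx => ((hmem x).1 hx).1
  have hLinc : ∀ d : D', j (Subalgebra.inclusion hle d) ∈ L := fun d => ((hmem d).1 d.2).2
  have hunit : ∀ d : D', IsUnit (d : S) → IsUnit d := by
    intro d hd
    obtain ⟨v, hv⟩ := (isUnit_of_map_unit (algebraMap D S) (Subalgebra.inclusion hle d) hd).exists_right_inv
    have hvL : j v ∈ L := by
      have h1 : j (Subalgebra.inclusion hle d) * j v = 1 := by rw [← map_mul, hv, map_one]
      rw [eq_inv_of_mul_eq_one_right h1]
      exact L.inv_mem (hLinc d)
    exact IsUnit.of_mul_eq_one ⟨v, (hmem v).2 ⟨v.2, hvL⟩⟩ (Subtype.ext (congrArg (fun w : D => (w : S)) hv))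
  haveI : IsLocalRing D' := by
    refine IsLocalRing.of_nonunits_add fun {a b} ha hb hab => ?_
    rcases IsLocalRing.isUnit_or_isUnit_of_isUnit_add
      (show IsUnit ((a : S) + (b : S)) from hab.map (algebraMap D' S)) with h | h
    · exact ha (hunit a h)
    · exact hb (hunit b h)
  haveI : IsLocalHom (algebraMap D' S) := ⟨hunit⟩
  haveI : IsDomain D' := Subalgebra.isDomain D'
  have hinc : Function.Injective (Subalgebra.inclusion hle) := Subalgebra.inclusion_injective hle
  let g : FractionRing D' →ₐ[A] FractionRing D := IsLocalization.liftAlgHom (M := nonZeroDivisors D')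
    (f := (IsScalarTower.toAlgHom A D (FractionRing D)).comp (Subalgebra.inclusion hle)) fun y =>
      IsUnit.mk0 _ ((map_ne_zero_iff _ hj).2 ((map_ne_zero_iff _ hinc).2 (nonZeroDivisors.ne_zero y.2)))
  have hg : ∀ d : D', g (algebraMap D' _ d) = j (Subalgebra.inclusion hle d) := fun d => IsLocalization.lift_eq _ d
  have hgL : ∀ x, g x ∈ L := fun x => by
    obtain ⟨⟨d, e⟩, hde⟩ := IsLocalization.surj (nonZeroDivisors D') x
    have h1 := congrArg g hde
    rw [map_mul, hg, hg] at h1
    have hne : j (Subalgebra.inclusion hle e) ≠ 0 :=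
      (map_ne_zero_iff _ hj).2 ((map_ne_zero_iff _ hinc).2 (nonZeroDivisors.ne_zero e.2))
    rw [eq_div_of_mul_eq hne h1]
    exact L.div_mem (hLinc d) (hLinc e)
  haveI : IsIntegrallyClosed D' := by
    refine (isIntegrallyClosed_iff (FractionRing D')).2 fun {x} hx => ?_
    obtain ⟨p, hp, hpx⟩ := hx
    have hint : IsIntegral D (g x) := ⟨p.map (Subalgebra.inclusion hle).toRingHom, hp.map _, by
      rw [Polynomial.eval₂_map]
      have h1 := Polynomial.hom_eval₂ p (algebraMap D' (FractionRing D')) g.toRingHom x
      rw [hpx, map_zero] at h1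
      rw [show j.comp (Subalgebra.inclusion hle).toRingHom = g.toRingHom.comp (algebraMap D' (FractionRing D')) from
        RingHom.ext fun d => (hg d).symm]
      exact h1.symm⟩
    obtain ⟨d, hd⟩ := (isIntegrallyClosed_iff (FractionRing D)).1 ‹_› hint
    refine ⟨⟨d, (hmem d).2 ⟨d.2, ?_⟩⟩, g.toRingHom.injective ((hg _).trans hd)⟩
    show j d ∈ L
    rw [show j d = g x from hd]
    exact hgL x
  have hsD : ∀ x ∈ s, x ∈ D' := fun x hx => (hmem x).2 ⟨hs hx, Subfield.subset_closure (Or.inr
    ⟨⟨x, hs hx⟩, Finset.mem_image.2 ⟨⟨x, hx⟩, Finset.mem_attach _ _, rfl⟩, rfl⟩)⟩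
  have hfg : ∃ t : Finset D', Subfield.closure (Set.range (algebraMap A (FractionRing D')) ∪
      (algebraMap D' (FractionRing D')) '' (t : Set D')) = ⊤ := by
    refine ⟨s.attach.image fun x => ⟨x.1, hsD x.1 x.2⟩, eq_top_iff.2 fun x _ => ?_⟩
    have h1 : (Subfield.closure (Set.range (algebraMap A (FractionRing D')) ∪
        (algebraMap D' (FractionRing D')) '' (↑(s.attach.image fun x => (⟨x.1, hsD x.1 x.2⟩ : D')) : Set D'))).map
          g.toRingHom = L := by
      rw [RingHom.map_field_closure]
      refine congrArg Subfield.closure ?_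
      rw [Set.image_union, ← Set.range_comp, Set.image_image, Finset.coe_image, Finset.coe_image, Set.image_image,
        Set.image_image]
      congr 1
      · exact congrArg Set.range (funext fun a => g.commutes a)
      · exact Set.image_congr fun y _ => hg _
    obtain ⟨y, hy, hyx⟩ := h1 ▸ hgL x
    rwa [← g.toRingHom.injective hyx]
  obtain ⟨E, hDE, _, _, hE⟩ := E4Loc.exists_le_of_field_fg A S D' hfg
  exact ⟨D', hle, fun x hx => hsD x hx, ‹IsLocalRing D'›, ‹IsLocalHom (algebraMap D' S)›,
    E4Loc.isEssentiallyEtale_of_le A S D' E hDE hE⟩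

end Groth.Agent.S16433
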