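import Groth.Statements.S16442
import Groth.Agent.E4Loc.Basic

set_option autoImplicit false
universe u
open EGA4loc

namespace Groth.Agent.S16442

/-- Let A be a reduced local ring with finitely many minimal prime ideals, S a strict henselization of
A, and D an A-subalgebra of S which is a local ring dominated by S (local inclusion) and essentially
of finite type over A. Then D is contained in some A-subalgebra E of S which is a local ring and an
essentially etale local A-algebra. -/
theorem result
    (A S : Type u) [CommRing A] [IsLocalRing A] [IsReduced A] (hmin : (minimalPrimes A).Finite)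
    [CommRing S] [IsLocalRing S] [Algebra A S] [IsLocalHom (algebraMap A S)]
    [Hensel.IsStrictHenselization A S] (D : Subalgebra A S) [IsLocalRing D]
    [IsLocalHom (algebraMap D S)] [Algebra.EssFiniteType A D] :
    ∃ E : Subalgebra A S, D ≤ E ∧ ∃ _ : IsLocalRing E, EGA4loc.IsEssentiallyEtale A E := by
  classical
  obtain ⟨E, hsub, hEl, hES, hE⟩ := E4Loc.exists_subalgebra A S
    ((Algebra.EssFiniteType.finset A D).image (fun d : D => (d : S)))
  refine ⟨E, fun d hd => ?_, hEl, hE⟩
  have hgen : ∀ z ∈ Algebra.EssFiniteType.subalgebra A D, (z : S) ∈ E := by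
    intro z hz
    induction hz using Algebra.adjoin_induction with
    | mem x hx => exact hsub (Finset.mem_image.2 ⟨x, hx, rfl⟩)
    | algebraMap a => exact E.algebraMap_mem a
    | add x y _ _ hx hy => exact E.add_mem hx hy
    | mul x y _ _ hx hy => exact E.mul_mem hx hy
  obtain ⟨⟨c', c⟩, hz⟩ := IsLocalization.surj (Algebra.EssFiniteType.submonoid A D) (⟨d, hd⟩ : D)
  have hc : (c : D) ∈ Algebra.EssFiniteType.subalgebra A D := c.1.2
  have hu : IsUnit (⟨((c : D) : S), hgen _ hc⟩ : E) := by
    refine isUnit_of_map_unit (algebraMap E S) _ ?_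
    exact ((c.2 : IsUnit (algebraMap _ D (c : Algebra.EssFiniteType.subalgebra A D))).map (algebraMap D S))
  obtain ⟨v, hv⟩ := hu.exists_left_inv
  have h1 : (v : S) * ((c : D) : S) = 1 := congrArg Subtype.val hv
  have h2 : (d : S) * ((c : D) : S) = ((c' : D) : S) := congrArg Subtype.val hz
  have : d = (v : S) * ((c' : D) : S) := by rw [← h2, mul_comm d, ← mul_assoc, h1, one_mul]
  rw [this]
  exact E.mul_mem v.2 (hgen _ c'.2)

end Groth.Agent.S16442
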