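import Groth.Statements.S16446
import Groth.Agent.Hensel93.TraceInter

set_option autoImplicit false
universe u
open Hensel

namespace Groth.Agent.S16446

/-- Let A be an excellent henselian reduced local ring, S a strict henselization of A and Q a minimal
prime ideal of S with contraction q to A; let K be the fraction field of S/Q and L the subfield of K
generated over the image of A by a finite subset t of K. Then there is an A-subalgebra E of S, a
local ring and an essentially etale local A-algebra, such that (i) every minimal prime ideal of S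
over the ideal qS is generated by its contraction to E, and (ii) every element of S/Q whose image in
K lies in L is the class of an element of E — so that the intersection of L with S/Q equals its
intersection with the image of E. -/
theorem result
    (A S : Type u) [CommRing A] [HenselianLocalRing A] [IsReduced A] (hA : EGA4.IsExcellent A)
    [CommRing S] [IsLocalRing S] [Algebra A S] [IsLocalHom (algebraMap A S)]
    [Hensel.IsStrictHenselization A S] (Q : Ideal S) (hQ : Q ∈ minimalPrimes S) [Q.IsPrime]
    (t : Finset (FractionRing (S ⧸ Q))) :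
    ∃ E : Subalgebra A S, ∃ _ : IsLocalRing E, EGA4loc.IsEssentiallyEtale A E ∧
      (∀ Q' ∈ ((Q.comap (algebraMap A S)).map (algebraMap A S)).minimalPrimes,
        Q' = Ideal.map (algebraMap E S) (Q'.comap (algebraMap E S))) ∧
      ∀ x : S, algebraMap (S ⧸ Q) (FractionRing (S ⧸ Q)) (Ideal.Quotient.mk Q x) ∈
          Subfield.closure (Set.range (algebraMap A (FractionRing (S ⧸ Q))) ∪
            (t : Set (FractionRing (S ⧸ Q)))) →
        ∃ e ∈ E, Ideal.Quotient.mk Q e = Ideal.Quotient.mk Q x := by
  classical
  haveI : IsNoetherianRing A := hA.1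
  haveI : IsNoetherianRing S := (S0540.result A S).1 inferInstance
  haveI := S0539.result A S
  obtain ⟨s, G, hGs, hG, hts⟩ := Hensel93.exists_reps A S Q t
  let J := (Q.comap (algebraMap A S)).map (algebraMap A S)
  have hfin : J.minimalPrimes.Finite := Ideal.finite_minimalPrimes_of_isNoetherianRing S J
  have hgen : ∀ P : Ideal S, ∃ H : Finset S, Ideal.span (H : Set S) = P := fun P => IsNoetherian.noetherian P
  choose gens hgens using hgen
  obtain ⟨E, hsub, hEloc, hES, hE⟩ := E4Loc.exists_subalgebra A S (s ∪ hfin.toFinset.biUnion gens)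
  haveI := hES
  haveI := EtAlg7.formallyUnramified hE
  haveI := EtAlg7.essFiniteType hE
  haveI := E4Loc.faithfullyFlat_of_unramified (A := A) (E := E) (T := S)
  refine ⟨E, hEloc, hE, fun Q' hQ' => ?_, fun x hx => ?_⟩
  · exact Hensel93.map_comap_eq_of_subset_range (algebraMap E S) Q' (gens Q') (hgens Q') fun y hy =>
      ⟨⟨y, hsub (Finset.mem_coe.2 (Finset.mem_union_right _
        (Finset.mem_biUnion.2 ⟨Q', hfin.mem_toFinset.2 hQ', hy⟩)))⟩, rfl⟩
  let K := FractionRing (S ⧸ Q)
  let π : E →ₐ[A] K := (IsScalarTower.toAlgHom A (S ⧸ Q) K).comp ((Ideal.Quotient.mkₐ A Q).comp E.val)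
  have hQext : Q = (Q.comap (algebraMap E S)).map (algebraMap E S) :=
    Hensel93.map_comap_eq_of_subset_range (algebraMap E S) Q G hG fun y hy =>
      ⟨⟨y, hsub (Finset.mem_coe.2 (Finset.mem_union_left _ (hGs hy)))⟩, rfl⟩
  have hgenL : (t : Set K) ⊆ Subfield.closure (Set.range π) := fun z hz => by
    obtain ⟨a, ha, b, hb, rfl⟩ := hts z hz
    exact div_mem (Subfield.subset_closure ⟨⟨a, hsub (Finset.mem_coe.2 (Finset.mem_union_left _ ha))⟩, rfl⟩)
      (Subfield.subset_closure ⟨⟨b, hsub (Finset.mem_coe.2 (Finset.mem_union_left _ hb))⟩, rfl⟩)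
  obtain ⟨e, f, hf, hef⟩ := Hensel93.mem_closure_range π (t : Set K) hgenL hx
  have h1 : x * algebraMap E S f - algebraMap E S e ∈ Q := by
    rw [← Ideal.Quotient.eq]
    refine IsFractionRing.injective (S ⧸ Q) K ?_
    rw [map_mul, map_mul]
    exact hef
  obtain ⟨c, hc⟩ := Hensel93.exists_sub_mem_of_mul_sub_mem Q hQext (fun h => hf (by
    show algebraMap (S ⧸ Q) K (Ideal.Quotient.mk Q (algebraMap E S f)) = 0
    rw [Ideal.Quotient.eq_zero_iff_mem.2 h, map_zero])) h1
  exact ⟨_, c.2, Ideal.Quotient.eq.2 hc⟩

end Groth.Agent.S16446
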