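import Groth.Statements.S16447
import Groth.Agent.E4Loc.NormLoc

set_option autoImplicit false
universe u
open EGA4loc

namespace Groth.Agent.S16447

/-- Let A be a Noetherian reduced local ring, E a local ring which is an essentially etale local
A-algebra with local structure map, K_E the total ring of fractions of E, E' the integral closure of
E in K_E (viewed as an A-subalgebra of K_E), and L an A-subalgebra of K_E containing an inverse of
the image of every non-zero-divisor of A. Let C be the A-subalgebra L ⊓ E' of K_E. Then C is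
integrally closed in L, C has only finitely many maximal ideals, the maximal ideals of C are exactly
the contractions of the maximal ideals of E', and every element of L is an element of C times the
inverse of the image of a non-zero-divisor of A. (The published statement assumes only that A is
reduced; its proof uses that the integral closure of E in K_E has finitely many maximal ideals,
which holds when A is Noetherian and can fail otherwise, so A is taken Noetherian here.) -/
theorem result
    (A E : Type u) [CommRing A] [IsLocalRing A] [IsReduced A] [IsNoetherianRing A]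
    [CommRing E] [IsLocalRing E] [Algebra A E] [IsLocalHom (algebraMap A E)]
    (hE : EGA4loc.IsEssentiallyEtale A E) (L : Subalgebra A (FractionRing E))
    (hL : ∀ s ∈ nonZeroDivisors A, ∃ y ∈ L, algebraMap A (FractionRing E) s * y = 1)
    (C : Subalgebra A (FractionRing E))
    (hC : C = L ⊓ (integralClosure E (FractionRing E)).restrictScalars A) :
    (∀ x ∈ L, IsIntegral C x → x ∈ C) ∧
      {N : Ideal C | N.IsMaximal}.Finite ∧
      (∀ N : Ideal C, N.IsMaximal ↔ ∃ M : Ideal ((integralClosure E (FractionRing E)).restrictScalars A),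
          M.IsMaximal ∧ N = M.comap (Subalgebra.inclusion (hC.trans_le inf_le_right))) ∧
      ∀ l ∈ L, ∃ c ∈ C, ∃ s ∈ nonZeroDivisors A, ∃ y ∈ L,
        algebraMap A (FractionRing E) s * y = 1 ∧ l = c * y := by
  classical
  subst hC
  let KE := FractionRing E
  let E' := (integralClosure E KE).restrictScalars A
  obtain ⟨hfin, hres⟩ := E4Loc.finite_residue_normalization A E hE
  obtain ⟨hinv, hint⟩ := E4Loc.inv_mem_and_integral_multiple A E hE L hL
  have hle : L ⊓ E' ≤ E' := inf_le_right
  have hmax : ∀ M : Ideal E', M.IsMaximal → (M.comap (Subalgebra.inclusion hle)).IsMaximal := by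
    intro M hM
    haveI : Module.Finite A (E' ⧸ M) := hres M hM
    letI : Field (E' ⧸ M) := Ideal.Quotient.field M
    let f := (Ideal.Quotient.mkₐ A M).comp (Subalgebra.inclusion hle)
    let N := RingHom.ker f.toRingHom
    haveI : N.IsPrime := RingHom.ker_isPrime f.toRingHom
    have hN : N = M.comap (Subalgebra.inclusion hle) := Ideal.ext fun x =>
      RingHom.mem_ker.trans Ideal.Quotient.eq_zero_iff_mem
    let g := Ideal.Quotient.liftₐ N f fun x hx => hx
    letI : Algebra ((L ⊓ E' : Subalgebra A KE) ⧸ N) (E' ⧸ M) := g.toRingHom.toAlgebra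
    haveI : Algebra.IsIntegral A (E' ⧸ M) := Algebra.IsIntegral.of_finite A _
    haveI : Algebra.IsIntegral ((L ⊓ E' : Subalgebra A KE) ⧸ N) (E' ⧸ M) := ⟨fun z => by
      obtain ⟨p, hp, hpz⟩ := Algebra.IsIntegral.isIntegral (R := A) z
      refine ⟨p.map (algebraMap A ((L ⊓ E' : Subalgebra A KE) ⧸ N)), hp.map _, ?_⟩
      rw [Polynomial.eval₂_map]
      convert hpz using 2
      exact RingHom.ext fun a => g.commutes a⟩
    have hinj : Function.Injective g := (injective_iff_map_eq_zero g).2 fun x hx => by
      obtain ⟨x, rfl⟩ := Ideal.Quotient.mk_surjective x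
      exact Ideal.Quotient.eq_zero_iff_mem.2 hx
    rw [← hN]
    exact Ideal.Quotient.maximal_of_isField N
      (by exact isField_of_isIntegral_of_isField (R := (L ⊓ E' : Subalgebra A KE) ⧸ N) (S := E' ⧸ M) hinj (Field.toIsField _))
  have hsurj : ∀ N : Ideal (L ⊓ E' : Subalgebra A KE), N.IsMaximal →
      ∃ M : Ideal E', M.IsMaximal ∧ N = M.comap (Subalgebra.inclusion hle) := by
    intro N hN
    by_contra hne
    push Not at hne
    haveI : Finite {M : Ideal E' // M.IsMaximal} := hfin.to_subtype
    haveI := Fintype.ofFinite {M : Ideal E' // M.IsMaximal}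
    obtain ⟨M₀, hM₀⟩ := Ideal.exists_maximal E'
    obtain ⟨c, hcN, hc⟩ : ∃ c ∈ N, ∀ M : Ideal E', M.IsMaximal → Subalgebra.inclusion hle c ∉ M := by
      by_contra h
      push Not at h
      obtain ⟨⟨M, hM⟩, -, hle'⟩ := (Ideal.subset_union_prime (s := (Finset.univ : Finset {M : Ideal E' // M.IsMaximal}))
        (f := fun M => M.1.comap (Subalgebra.inclusion hle)) ⟨M₀, hM₀⟩ ⟨M₀, hM₀⟩
        fun M _ _ _ => (hmax M.1 M.2).isPrime).1 fun x hx => by
          obtain ⟨M, hM, hxM⟩ := h x hx
          exact Set.mem_biUnion (x := (⟨M, hM⟩ : {M : Ideal E' // M.IsMaximal})) (Finset.mem_coe.2 (Finset.mem_univ _)) hxM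
      exact hne M hM (hN.eq_of_le (hmax M hM).ne_top hle')
    have hu : IsUnit (Subalgebra.inclusion hle c) := by
      by_contra hu
      obtain ⟨M, hM, hcM⟩ := exists_max_ideal_of_mem_nonunits hu
      exact hc M hM hcM
    obtain ⟨v, hv⟩ := hu.exists_right_inv
    have hv' : (c : KE) * (v : KE) = 1 := congrArg Subtype.val hv
    have hvL : (v : KE) ∈ L := hinv c c.2.1 v hv'
    exact hN.ne_top (Ideal.eq_top_of_isUnit_mem _ hcN
      (IsUnit.of_mul_eq_one ⟨v, hvL, v.2⟩ (Subtype.ext hv')))
  refine ⟨?_, ?_, fun N => ⟨hsurj N, fun ⟨M, hM, h⟩ => h ▸ hmax M hM⟩, ?_⟩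
  · intro x hx hxC
    refine ⟨hx, ?_⟩
    let E'' := integralClosure E KE
    let i : (L ⊓ E' : Subalgebra A KE) →+* E'' := (Subalgebra.inclusion hle).toRingHom
    obtain ⟨p, hp, hpx⟩ := hxC
    have hx'' : IsIntegral E'' x := ⟨p.map i, hp.map i, by
      rw [Polynomial.eval₂_map]
      exact hpx⟩
    exact isIntegral_trans x hx''
  · refine ((hfin.image fun M => M.comap (Subalgebra.inclusion hle))).subset fun N hN => ?_
    obtain ⟨M, hM, rfl⟩ := hsurj N hN
    exact ⟨M, hM, rfl⟩
  · intro l hl
    obtain ⟨a, ha, hal⟩ := hint l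
    obtain ⟨y, hy, hay⟩ := hL a ha
    refine ⟨algebraMap A KE a * l, ⟨L.mul_mem (L.algebraMap_mem a) hl, hal.tower_top⟩, a, ha, y, hy, hay, ?_⟩
    rw [mul_right_comm, hay, one_mul]

end Groth.Agent.S16447
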