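import Groth.Statements.S1645
import Groth.Agent.VarPicOne.Gg
import Groth.Agent.VarPicOne.Chart

set_option autoImplicit false
universe u
open CategoryTheory CategoryTheory.Limits AlgebraicGeometry
open Variety

namespace Groth.Agent.S1645

/-- Let X be integral and separated and U a nonempty affine open outside of which there are only
finitely many points, each with a one-dimensional Noetherian local ring. Then there are a globally
generated invertible module L and a global section s with U equal to the locus where s generates L. -/
theorem result (X : Scheme.{u}) [IsIntegral X] [X.IsSeparated]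
    (U : X.Opens) (hU : IsAffineOpen U) (hne : (U : Set X).Nonempty) (hfin : ((U : Set X)ᶜ).Finite)
    (hloc : ∀ x : X, x ∉ U → IsNoetherianRing (X.presheaf.stalk x) ∧ ringKrullDim (X.presheaf.stalk x) = 1) :
    ∃ (L : X.Modules) (s : Coh.structureModule X ⟶ L), PicF.IsInvertible L ∧ Curv2.IsGloballyGenerated L ∧
      CohB1.genLocus L s = U := by
  have hgen : genericPoint X ∈ U :=
    ((genericPoint_spec X).mem_open_set_iff U.2).2 (by simpa using hne)
  have hsub : Groth.Agent.VarPicOne.genPts X ⊆ {genericPoint X} := fun η hη =>
    (hη (genericPoint X) ((genericPoint_spec X).specializes trivial)).symm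
  have hG : Groth.Agent.VarPicOne.genPts X ⊆ U := fun η hη => (hsub hη).symm ▸ hgen
  have hclosed : ∀ x : X, x ∉ U → IsClosed ({x} : Set X) := fun x hx => by
    rw [← closure_eq_iff_isClosed]
    refine subset_antisymm (fun y hy => ?_) subset_closure
    by_contra hne'
    have hxy : x ⤳ y := specializes_iff_mem_closure.2 hy
    have hyU : y ∉ U := fun h => hx (hxy.mem_open U.2 h)
    have := (hloc y hyU).1
    have h1 : genericPoint X = x := Groth.Agent.VarPicOne.eq_of_specializes_genF (hloc y hyU).2.le
      ⟨(genericPoint_spec X).specializes trivial, fun h => hyU (h ▸ hgen)⟩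
      ⟨hxy, fun h => hne' h.symm⟩ ((genericPoint_spec X).specializes trivial)
    exact hx (h1 ▸ hgen)
  obtain ⟨a, ha⟩ := Groth.Agent.VarPicOne.exists_pole ((Set.finite_singleton _).subset hsub) hU hG
    hfin hclosed fun x hx => ⟨(hloc x hx).1, (hloc x hx).2.le⟩
  exact Groth.Agent.VarPicOne.exists_gg_of_pole a ha

end Groth.Agent.S1645
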