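import Groth.Statements.S16452
import Mathlib
-- import your own Groth.Agent.* helpers here

set_option autoImplicit false
universe u
open CAlg

namespace Groth.Agent.S16452

lemma formallyEtale_quot {R S : Type u} [CommRing R] [CommRing S] [Algebra R S] [Algebra.FormallyEtale R S]
    (J : Ideal S) (hJ : Function.Surjective (algebraMap R (S ⧸ J))) (N : ℕ) (hN : 1 ≤ N) :
    (J ^ N).comap (algebraMap R S) = (J.comap (algebraMap R S)) ^ N ∧
      ∀ s : S, ∃ r : R, algebraMap R S r - s ∈ J ^ N := by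
  classical
  set I := J.comap (algebraMap R S) with hI
  have hIJ : ∀ r, algebraMap R (S ⧸ J) r = Ideal.Quotient.mk J (algebraMap R S r) := fun r => rfl
  have hle : I ^ N ≤ I := Ideal.pow_le_self (by omega)
  let e₀ : (R ⧸ I) →ₐ[R] S ⧸ J := Ideal.Quotient.liftₐ I (Algebra.ofId R (S ⧸ J)) fun r hr => by
    show algebraMap R (S ⧸ J) r = 0
    rw [hIJ]; exact Ideal.Quotient.eq_zero_iff_mem.mpr hr
  have he₀ : Function.Bijective e₀ := by
    refine ⟨(injective_iff_map_eq_zero e₀).mpr fun z hz => ?_, fun y => ?_⟩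
    · obtain ⟨r, rfl⟩ := Ideal.Quotient.mk_surjective z
      exact Ideal.Quotient.eq_zero_iff_mem.mpr (show algebraMap R S r ∈ J from Ideal.Quotient.eq_zero_iff_mem.mp ((hIJ r).symm.trans hz))
    · obtain ⟨r, rfl⟩ := hJ y
      exact ⟨Ideal.Quotient.mk I r, rfl⟩
  let π : (R ⧸ I ^ N) →ₐ[R] R ⧸ I := Ideal.Quotient.factorₐ R hle
  have hπ : Function.Surjective π := Ideal.Quotient.factor_surjective hle
  have hkπ : ∀ z, π z = 0 → z ∈ I.map (Ideal.Quotient.mk (I ^ N)) := fun z hz => by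
    obtain ⟨r, rfl⟩ := Ideal.Quotient.mk_surjective z
    exact Ideal.mem_map_of_mem _ (Ideal.Quotient.eq_zero_iff_mem.mp hz)
  have hnil : IsNilpotent (RingHom.ker π) := ⟨N, by
    rw [Ideal.zero_eq_bot, eq_bot_iff]
    calc (RingHom.ker π) ^ N ≤ (I.map (Ideal.Quotient.mk (I ^ N))) ^ N := Ideal.pow_right_mono (fun z hz => hkπ z hz) N
      _ = ⊥ := by rw [← Ideal.map_pow, Ideal.map_quotient_self]⟩
  let g₀ : S →ₐ[R] R ⧸ I := (AlgEquiv.ofBijective e₀ he₀).symm.toAlgHom.comp (Ideal.Quotient.mkₐ R J)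
  obtain ⟨θ₁, hθ₁⟩ := Algebra.FormallySmooth.exists_lift (R := R) (A := S) (RingHom.ker π) hnil
    ((Ideal.quotientKerAlgEquivOfSurjective hπ).symm.toAlgHom.comp g₀)
  have hθ : ∀ s, π (θ₁ s) = g₀ s := fun s => by
    have h := congrArg (Ideal.quotientKerAlgEquivOfSurjective hπ) (AlgHom.congr_fun hθ₁ s)
    refine Eq.trans ?_ (h.trans (AlgEquiv.apply_symm_apply _ _))
    rfl
  have hθJ : ∀ s ∈ J, θ₁ s ∈ I.map (Ideal.Quotient.mk (I ^ N)) := fun s hs => hkπ _ (by
    rw [hθ]
    show (AlgEquiv.ofBijective e₀ he₀).symm (Ideal.Quotient.mk J s) = 0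
    rw [Ideal.Quotient.eq_zero_iff_mem.mpr hs, map_zero])
  have hθN : ∀ s ∈ J ^ N, θ₁ s = 0 := fun s hs => by
    have h : J ≤ (I.map (Ideal.Quotient.mk (I ^ N))).comap θ₁ := hθJ
    have h' := (Ideal.pow_right_mono h N).trans (Ideal.le_comap_pow _ N) hs
    rw [Ideal.mem_comap, ← Ideal.map_pow, Ideal.map_quotient_self, Ideal.mem_bot] at h'
    exact h'
  have hinj : (J ^ N).comap (algebraMap R S) = I ^ N := by
    refine le_antisymm (fun r hr => ?_) ?_
    · have := hθN _ hr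
      rw [AlgHom.commutes] at this
      exact Ideal.Quotient.eq_zero_iff_mem.mp this
    · exact Ideal.le_comap_pow _ N
  refine ⟨hinj, fun s => ?_⟩
  let ψ : (R ⧸ I ^ N) →ₐ[R] S ⧸ J ^ N := Ideal.Quotient.liftₐ (I ^ N) (Algebra.ofId R (S ⧸ J ^ N)) fun r hr =>
    Ideal.Quotient.eq_zero_iff_mem.mpr (hinj.ge hr)
  have hcomp : ψ.comp θ₁ = Ideal.Quotient.mkₐ R (J ^ N) := by
    refine Algebra.FormallyUnramified.ext (J.map (Ideal.Quotient.mk (J ^ N))) ⟨N, by
      rw [← Ideal.map_pow, Ideal.map_quotient_self]; rfl⟩ fun x => ?_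
    rw [Ideal.Quotient.eq]
    obtain ⟨r, hr⟩ := Ideal.Quotient.mk_surjective (θ₁ x)
    show ψ (θ₁ x) - Ideal.Quotient.mk (J ^ N) x ∈ _
    rw [← hr, show ψ (Ideal.Quotient.mk (I ^ N) r) = Ideal.Quotient.mk (J ^ N) (algebraMap R S r) from rfl, ← map_sub]
    refine Ideal.mem_map_of_mem _ ?_
    have h1 : Ideal.Quotient.mk J (algebraMap R S r) = Ideal.Quotient.mk J x := by
      have h2 : π (Ideal.Quotient.mk (I ^ N) r) = g₀ x := by rw [hr, hθ]
      have h3 := congrArg e₀ h2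
      refine Eq.trans ?_ (h3.trans ((AlgEquiv.ofBijective e₀ he₀).apply_symm_apply _))
      rfl
    exact Ideal.Quotient.eq.mp h1
  obtain ⟨r, hr⟩ := Ideal.Quotient.mk_surjective (θ₁ s)
  refine ⟨r, Ideal.Quotient.eq.mp ?_⟩
  have h := AlgHom.congr_fun hcomp s
  rw [AlgHom.comp_apply, ← hr] at h
  exact h

/-- Let R → S be formally étale and J an ideal of S such that the composite R → S → S/J is surjective;
let I ⊆ R be its kernel, the preimage of J in R. Then the homomorphism of associated graded rings ⊕ₙ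
Iⁿ/Iⁿ⁺¹ → ⊕ₙ Jⁿ/Jⁿ⁺¹ induced by R → S (which carries I into J) is bijective. -/
theorem result (R : Type u) [CommRing R] (S : Type u)
    [CommRing S] [Algebra R S] [Algebra.FormallyEtale R S] (J : Ideal S)
    (hJ : Function.Surjective (algebraMap R (S ⧸ J))) :
    Function.Bijective (AssocGr.map (AssocGr.IsFiltHom.adic
      (Ideal.map_comap_le : (J.comap (algebraMap R S)).map (algebraMap R S) ≤ J))) := by
  classical
  set I := J.comap (algebraMap R S) with hI
  set h := AssocGr.IsFiltHom.adic (Ideal.map_comap_le : (J.comap (algebraMap R S)).map (algebraMap R S) ≤ J)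
  refine ⟨(injective_iff_map_eq_zero _).mpr fun x hx => ?_, fun y => ?_⟩
  · obtain ⟨f, rfl⟩ := AssocGr.mkG_surjective _ x
    rw [AssocGr.map_mkG, AssocGr.mkG_eq_zero_iff] at hx
    refine (AssocGr.mkG_eq_zero_iff _ _).mpr fun n => ?_
    have h1 := hx n
    rw [AssocGr.coe_reesMap, Polynomial.coeff_map] at h1
    exact (formallyEtale_quot J hJ (n + 1) (Nat.le_add_left 1 n)).1.le h1
  · obtain ⟨f, rfl⟩ := AssocGr.mkG_surjective _ y
    rw [← AssocGr.sum_term _ f, map_sum]
    suffices hmem : ∀ n, AssocGr.mkG _ (AssocGr.term _ f n) ∈ Set.range (AssocGr.map h) by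
      choose g hg using hmem
      exact ⟨∑ n ∈ (f : Polynomial S).support, g n, by rw [map_sum]; exact Finset.sum_congr rfl fun n _ => hg n⟩
    intro n
    obtain ⟨r, hr⟩ := (formallyEtale_quot J hJ (n + 1) (Nat.le_add_left 1 n)).2 ((f : Polynomial S).coeff n)
    have hfn : (f : Polynomial S).coeff n ∈ J ^ n := f.2 n
    have hrn : r ∈ I ^ n := by
      rcases Nat.eq_zero_or_pos n with rfl | hn
      · simp
      · refine (formallyEtale_quot J hJ n hn).1.le ?_
        have := add_mem (Ideal.pow_le_pow_right (Nat.le_succ n) hr) hfn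
        rwa [sub_add_cancel] at this
    refine ⟨AssocGr.mkG _ (AssocGr.monom (FiltBl.IdealFiltration.adic I) n ⟨r, hrn⟩ : (FiltBl.IdealFiltration.adic I).rees), ?_⟩
    rw [AssocGr.map_mkG, AssocGr.reesMap_monom, AssocGr.term_eq_monom, ← sub_eq_zero, ← map_sub, AssocGr.mkG_eq_zero_iff]
    intro m
    rw [AddSubgroupClass.coe_sub, Polynomial.coeff_sub, AssocGr.coe_coe_monom, AssocGr.coe_coe_monom,
      Polynomial.coeff_monomial, Polynomial.coeff_monomial]
    split_ifs with hnm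
    · subst hnm; exact hr
    · simp

end Groth.Agent.S16452
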