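import Groth.Statements.S16492
import Groth.Agent.VBCurvesLib.WeilDual
-- import your own Groth.Agent.* helpers here

set_option autoImplicit false
set_option linter.style.haveILetI false
set_option linter.unusedVariables false
set_option backward.isDefEq.respectTransparency false
set_option backward.isDefEq.respectTransparency.types false
universe u
open CategoryTheory CategoryTheory.Limits AlgebraicGeometry
open VBCurve

namespace Groth.Agent.S16492

open Groth.Agent Groth.Agent.CurveBundle Groth.Agent.CurveSlope Groth.Agent.CurveStable Groth.Agent.VBCurvesLib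

/-- Let X be a smooth proper integral curve (integral, smooth and proper of dimension one) over an
algebraically closed field k, and E a finite locally free O_X-module of rank r. Say that a module M
is finite in the sense of Weil when there are distinct polynomials P ≠ Q with natural-number
coefficients and an isomorphism P(M) ≅ Q(M), where P(M) is the direct sum over i of P_i copies of
the i-th tensor power of M (the 0-th power being O_X). Then E is finite in this sense if and only if
its dual E^* = 𝓗om_{O_X}(E, O_X) is. -/
theorem result (k : Type u) [Field k] [IsAlgClosed k] (X : Scheme.{u}) [X.Over (Spec (CommRingCat.of k))]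
    [IsIntegral X] [IsProper (X ↘ Spec (CommRingCat.of k))] [Smooth (X ↘ Spec (CommRingCat.of k))]
    (hdim : topologicalKrullDim X = 1)
    (r : ℕ) (E : X.Modules) (hE : FlatMod.IsFinLocFreeOfRank r E) :
    (∃ P Q : Polynomial ℕ, P ≠ Q ∧ Nonempty ((∐ fun i : Fin (P.natDegree + 1) => ∐ fun _ : Fin (P.coeff ↑i) => CohB1.tensorPow E ↑i) ≅
        (∐ fun i : Fin (Q.natDegree + 1) => ∐ fun _ : Fin (Q.coeff ↑i) => CohB1.tensorPow E ↑i))) ↔
      (∃ P Q : Polynomial ℕ, P ≠ Q ∧ Nonempty ((∐ fun i : Fin (P.natDegree + 1) => ∐ fun _ : Fin (P.coeff ↑i) => CohB1.tensorPow (RefHull.dual E) ↑i) ≅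
        (∐ fun i : Fin (Q.natDegree + 1) => ∐ fun _ : Fin (Q.coeff ↑i) => CohB1.tensorPow (RefHull.dual E) ↑i))) := by
  have hf := isFinLocFree_of_rank hE
  haveI := isLocallyNoetherian' k (X := X)
  constructor
  · rintro ⟨P, Q, hPQ, ⟨e⟩⟩
    exact weilFinite_dual k hdim hf P Q hPQ e
  · rintro ⟨P, Q, hPQ, ⟨e⟩⟩
    obtain ⟨P', Q', h', ⟨e'⟩⟩ := weilFinite_dual k hdim (isFinLocFree_dual hf) P Q hPQ e
    haveI := isIso_bidualMap hf
    obtain ⟨N, hN⟩ := span_of_weilFinite k hdim (isFinLocFree_dual (isFinLocFree_dual hf)) P' Q' h' e'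
    exact weilFinite_of_span k hdim hf _
      (fun i : Fin N => isFinLocFree_tensorPow k (isFinLocFree_dual (isFinLocFree_dual hf)) i)
      fun n => (hN n).of_retract (retractPow (Retract.ofIso (asIso (RefHull.bidualMap E))) n)

end Groth.Agent.S16492
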