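import Groth.Statements.S16501
import Groth.Agent.Krasner7.Approx

set_option autoImplicit false
universe u
open Hensel

open Polynomial

namespace Groth.Agent.S16501

set_option maxHeartbeats 800000 in
/-- An isomorphism modulo a high power of the uniformizer lifts. -/
theorem equiv_of_quotient {A B C : Type u} [CommRing A] [IsDomain A] [IsDiscreteValuationRing A] {ϖ : A}
    (hϖ : Irreducible ϖ) [IsAdicComplete (Ideal.span {ϖ}) A] [CommRing B] [IsDomain B] [Algebra A B] [Module.Finite A B]
    [CommRing C] [IsDomain C] [Algebra A C] [Module.Finite A C] (hABinj : Function.Injective (algebraMap A B))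
    (θ : B) (f : A[X]) (hf : f.Monic) (ε : AdjoinRoot f ≃ₐ[A] Algebra.adjoin A ({θ} : Set B))
    (hfθ : aeval θ f = 0) {k s : ℕ} (hk : aeval θ (derivative f) ∣ algebraMap A B ϖ ^ k)
    (hs : ∀ b : B, algebraMap A B ϖ ^ s * b ∈ Algebra.adjoin A ({θ} : Set B)) {m : ℕ} (hm : k + k + s + 3 < m)
    (e : (B ⧸ Ideal.span {algebraMap A B (ϖ ^ m)}) ≃ₐ[A] (C ⧸ Ideal.span {algebraMap A C (ϖ ^ m)}))
    (hε : ε (AdjoinRoot.root f) = ⟨θ, Algebra.self_mem_adjoin_singleton A θ⟩) :
    Nonempty (B ≃ₐ[A] C) := by
  classical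
  -- `A → C` is injective
  have hϖB : ¬ IsUnit (algebraMap A B ϖ) := fun hu => by
    haveI : Algebra.IsIntegral A B := Algebra.IsIntegral.of_finite A B
    haveI : FaithfulSMul A B := (faithfulSMul_iff_algebraMap_injective A B).2 hABinj
    exact hϖ.not_isUnit ((Algebra.IsIntegral.isLocalHom (R := A) (S := B)).map_nonunit ϖ hu)
  have hϖC : algebraMap A C ϖ ≠ 0 := fun h => by
    have h1 : e (Ideal.Quotient.mk _ (algebraMap A B ϖ)) = 0 := by
      rw [Ideal.Quotient.mk_algebraMap, AlgEquiv.commutes, ← Ideal.Quotient.mk_algebraMap, h, map_zero]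
    rw [map_eq_zero_iff e e.injective, Ideal.Quotient.eq_zero_iff_mem, Ideal.mem_span_singleton, map_pow] at h1
    obtain ⟨z, hz⟩ := h1
    refine hϖB (isUnit_iff_exists_inv.2 ⟨algebraMap A B ϖ ^ (m - 2) * z,
      mul_left_cancel₀ ((map_ne_zero_iff _ hABinj).2 hϖ.ne_zero) ?_⟩)
    rw [mul_one]
    conv_rhs => rw [hz, show m = 2 + (m - 2) by omega]
    ring
  have hACinj : Function.Injective (algebraMap A C) := by
    rw [injective_iff_map_eq_zero]
    intro x hx
    by_contra hx0
    obtain ⟨j, u, rfl⟩ := IsDiscreteValuationRing.eq_unit_mul_pow_irreducible hx0 hϖ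
    rw [map_mul, map_pow, mul_eq_zero] at hx
    rcases hx with hx | hx
    · exact not_isUnit_zero (hx ▸ u.isUnit.map (algebraMap A C))
    · exact hϖC (eq_zero_of_pow_eq_zero hx)
  haveI : IsAdicComplete (Ideal.span {ϖ}) C := Adic7.isAdicComplete_of_finite _ _
  haveI : IsAdicComplete (Ideal.span {algebraMap A C ϖ}) C := by
    have := (IsAdicComplete.map_algebraMap_iff (S := C) (Ideal.span {ϖ}) C).mpr inferInstance
    rwa [Ideal.map_span, Set.image_singleton] at this
  set t := algebraMap A C ϖ with ht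
  have hspan : ∀ j, Ideal.span {algebraMap A C (ϖ ^ j)} = Ideal.span {t} ^ j := fun j => by
    rw [map_pow, Ideal.span_singleton_pow]
  -- lift `θ`
  obtain ⟨c, hc⟩ := Ideal.Quotient.mk_surjective (e (Ideal.Quotient.mk _ θ))
  have hmk : ∀ P : A[X], Ideal.Quotient.mk (Ideal.span {algebraMap A C (ϖ ^ m)}) (aeval c P) =
      e (Ideal.Quotient.mk _ (aeval θ P)) := fun P => by
    rw [← Ideal.Quotient.mkₐ_eq_mk A, ← aeval_algHom_apply, ← Ideal.Quotient.mkₐ_eq_mk A, ← aeval_algHom_apply,
      ← aeval_algHom_apply, Ideal.Quotient.mkₐ_eq_mk, hc]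
    rfl
  have hfc : t ^ m ∣ aeval c f := by
    rw [← Ideal.mem_span_singleton, ← map_pow, ← Ideal.Quotient.eq_zero_iff_mem, hmk, hfθ, map_zero, map_zero]
  have hfc' : aeval c (derivative f) ∣ t ^ k := by
    obtain ⟨w, hw⟩ := hk
    obtain ⟨w', hw'⟩ := Ideal.Quotient.mk_surjective (e (Ideal.Quotient.mk _ w))
    have h1 : Ideal.Quotient.mk (Ideal.span {algebraMap A C (ϖ ^ m)}) (aeval c (derivative f) * w' - t ^ k) = 0 := by
      rw [map_sub, map_mul, hmk, hw', ← map_mul, ← map_mul, ← hw, sub_eq_zero, ← map_pow, ← map_pow,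
        Ideal.Quotient.mk_algebraMap, AlgEquiv.commutes, Ideal.Quotient.mk_algebraMap]
    rw [Ideal.Quotient.eq_zero_iff_mem, Ideal.mem_span_singleton, map_pow] at h1
    obtain ⟨z, hz⟩ := h1
    have hu : IsUnit (1 + t ^ (m - k) * z) := by
      have h2 : t ^ (m - k) * z ∈ Ideal.jacobson (⊥ : Ideal C) := IsAdicComplete.le_jacobson_bot (Ideal.span {t})
        (Ideal.mul_mem_right _ _ (Ideal.pow_mem_of_mem _ (Ideal.mem_span_singleton_self t) _ (by omega)))
      simpa [add_comm] using Ideal.mem_jacobson_bot.mp h2 1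
    obtain ⟨u, hu⟩ := hu
    refine ⟨w' * (↑u⁻¹ : C), ?_⟩
    have h3 : t ^ k * (u : C) = aeval c (derivative f) * w' := by
      rw [hu, show t ^ k * (1 + t ^ (m - k) * z) = t ^ k + t ^ m * z by
        rw [mul_add, mul_one, ← mul_assoc, ← pow_add, Nat.add_sub_cancel' (by omega : k ≤ m)]]
      linear_combination -hz
    rw [← mul_assoc, ← h3, Units.mul_inv_cancel_right]
  -- the root near `c`
  obtain ⟨β, hβ, hβc⟩ := Krasner7.exists_root_near t (f.map (algebraMap A C) - Polynomial.C (aeval c f)) c
    (by rw [eval_sub, eval_map_algebraMap, eval_C, sub_self]) k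
    (by rw [derivative_sub, derivative_C, sub_zero, derivative_map, eval_map_algebraMap]; exact hfc')
    (m - (k + k + 1)) (f.map (algebraMap A C)) (fun i => by
      rw [sub_sub_cancel, coeff_C]
      split_ifs
      · exact (pow_dvd_pow t (by omega)).trans hfc
      · exact dvd_zero _)
  rw [eval_map_algebraMap] at hβ
  let T := Algebra.adjoin A ({θ} : Set B)
  let h : T →ₐ[A] C := (AdjoinRoot.liftAlgHom f (Algebra.ofId A C) β hβ).comp
    ε.symm.toAlgHom
  have hhP : ∀ (P : A[X]) (hP : aeval θ P ∈ T), h ⟨aeval θ P, hP⟩ = aeval β P := fun P hP => by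
    have h1 : (⟨aeval θ P, hP⟩ : T) = aeval ⟨θ, Algebra.self_mem_adjoin_singleton A θ⟩ P := Subtype.ext (by
      have h3 := aeval_algHom_apply T.val (⟨θ, Algebra.self_mem_adjoin_singleton A θ⟩ : T) P
      exact h3)
    have h2 : h ⟨θ, Algebra.self_mem_adjoin_singleton A θ⟩ = β := by
      show AdjoinRoot.liftAlgHom f _ β hβ (ε.symm _) = β
      rw [show ε.symm ⟨θ, Algebra.self_mem_adjoin_singleton A θ⟩ = AdjoinRoot.root f from
        (AlgEquiv.symm_apply_eq _).2 hε.symm]
      exact AdjoinRoot.liftAlgHom_root _ _ _ _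
    rw [h1, ← aeval_algHom_apply, h2]
  have hstep : ∀ b : B, ∃ y : C, t ^ s * y = h ⟨_, hs b⟩ ∧
      ∀ x : C, Ideal.Quotient.mk (Ideal.span {algebraMap A C (ϖ ^ m)}) x = e (Ideal.Quotient.mk _ b) → t ∣ x - y := by
    intro b
    obtain ⟨P, hP⟩ := (SetLike.ext_iff.1 (Algebra.adjoin_singleton_eq_range_aeval A θ) _).1 (hs b)
    obtain ⟨x₀, hx₀⟩ := Ideal.Quotient.mk_surjective (e (Ideal.Quotient.mk (Ideal.span {algebraMap A B (ϖ ^ m)}) b))
    have hhb : h ⟨_, hs b⟩ = aeval β P := by
      rw [show (⟨_, hs b⟩ : T) = ⟨aeval θ P, by rw [show aeval θ P = _ from hP]; exact hs b⟩ from Subtype.ext hP.symm,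
        hhP]
    have hP2 : t ^ (m - (k + k + 1)) ∣ aeval β P - t ^ s * x₀ := by
      rw [show aeval β P - t ^ s * x₀ = (aeval β P - aeval c P) + (aeval c P - t ^ s * x₀) by ring]
      refine dvd_add (dvd_trans (Ideal.mem_span_singleton.1 hβc) ?_) (dvd_trans (pow_dvd_pow t (Nat.sub_le m _)) ?_)
      · rw [← eval_map_algebraMap, ← eval_map_algebraMap]; exact sub_dvd_eval_sub _ _ _
      · rw [← Ideal.mem_span_singleton, ← map_pow, ← Ideal.Quotient.eq_zero_iff_mem, map_sub, map_mul, hmk, hx₀,
          sub_eq_zero, show aeval θ P = algebraMap A B ϖ ^ s * b from hP, map_mul, map_mul, ← map_pow, ← map_pow,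
          Ideal.Quotient.mk_algebraMap, AlgEquiv.commutes, Ideal.Quotient.mk_algebraMap]
    obtain ⟨z, hz⟩ := hP2
    obtain ⟨j, hj⟩ := Nat.exists_eq_add_of_le (show s + 1 ≤ m - (k + k + 1) by omega)
    refine ⟨x₀ + t * t ^ j * z, ?_, fun x hx => ?_⟩
    · rw [hhb, eq_add_of_sub_eq hz, hj]; ring
    · have h1 : t ^ m ∣ x - x₀ := by
        rw [← Ideal.mem_span_singleton, ← map_pow]
        exact Ideal.Quotient.eq.1 (hx.trans hx₀.symm)
      rw [show x - (x₀ + t * t ^ j * z) = (x - x₀) - t * (t ^ j * z) by ring]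
      exact dvd_sub ((dvd_pow_self t (by omega)).trans h1) (dvd_mul_right _ _)
  choose ψ hψ hψmod using hstep
  have hts : t ^ s ≠ 0 := pow_ne_zero _ hϖC
  let Ψ : B →ₐ[A] C :=
    { toFun := ψ
      map_one' := mul_left_cancel₀ hts (by
        rw [hψ, mul_one (t ^ s), show (⟨_, hs 1⟩ : T) = algebraMap A T ϖ ^ s from Subtype.ext (by simp), map_pow,
          AlgHom.commutes])
      map_mul' := fun x y => mul_left_cancel₀ hts (mul_left_cancel₀ hts (by
        rw [hψ, show t ^ s * (t ^ s * (ψ x * ψ y)) = (t ^ s * ψ x) * (t ^ s * ψ y) by ring, hψ, hψ, ← map_mul,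
          show t ^ s = h (algebraMap A T ϖ ^ s) by rw [map_pow, AlgHom.commutes], ← map_mul]
        exact congrArg h (Subtype.ext (by simp; ring))))
      map_zero' := mul_left_cancel₀ hts (by
        rw [hψ, mul_zero (t ^ s), show (⟨_, hs 0⟩ : T) = 0 from Subtype.ext (by simp), map_zero])
      map_add' := fun x y => mul_left_cancel₀ hts (by
        rw [hψ, mul_add (t ^ s), hψ, hψ, ← map_add]
        exact congrArg h (Subtype.ext (by simp [mul_add])))
      commutes' := fun a => mul_left_cancel₀ hts (by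
        rw [hψ, show (⟨_, hs (algebraMap A B a)⟩ : T) = algebraMap A T ϖ ^ s * algebraMap A T a from
          Subtype.ext (by simp), map_mul, map_pow, AlgHom.commutes, AlgHom.commutes]) }
  haveI : Algebra.IsIntegral A B := Algebra.IsIntegral.of_finite A B
  have hinj : Function.Injective Ψ := (RingHom.injective_iff_ker_eq_bot _).2
    (Ideal.eq_bot_of_comap_eq_bot (R := A) (eq_bot_iff.2 fun a ha => by
      have h2 : Ψ (algebraMap A B a) = 0 := ha
      rw [AlgHom.commutes] at h2
      exact hACinj (h2.trans (map_zero _).symm)))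
  have hsurj : Function.Surjective Ψ := by
    have hle : (⊤ : Submodule A C) ≤ LinearMap.range Ψ.toLinearMap ⊔ Ideal.span {ϖ} • (⊤ : Submodule A C) := fun y _ => by
      obtain ⟨b, hb⟩ := Ideal.Quotient.mk_surjective (e.symm (Ideal.Quotient.mk _ y))
      obtain ⟨z, hz⟩ := hψmod b y (by rw [hb, AlgEquiv.apply_symm_apply])
      rw [show y = Ψ b + ϖ • z by rw [Algebra.smul_def, ← ht, ← hz]; show y = ψ b + (y - ψ b); ring]
      exact add_mem (Submodule.mem_sup_left ⟨b, rfl⟩)
        (Submodule.mem_sup_right (Submodule.smul_mem_smul (Ideal.mem_span_singleton_self ϖ) Submodule.mem_top))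
    have := Submodule.le_of_le_smul_of_le_jacobson_bot Module.Finite.fg_top
      (IsAdicComplete.le_jacobson_bot _) hle
    exact fun y => this Submodule.mem_top
  exact ⟨AlgEquiv.ofBijective Ψ ⟨hinj, hsurj⟩⟩

/-- Let A be a complete discrete valuation ring with uniformizer ϖ and fraction field K, let L be a
finite separable extension of K and B the integral closure of A in L. There is a positive integer m₀
such that for every discrete valuation ring C that is a module-finite A-algebra, B ≅ C as A-algebras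
if and only if B/ϖ^m B ≅ C/ϖ^m C as A-algebras for some m > m₀. (Finiteness of L over K is implicit
in the source, which takes a primitive element.) -/
theorem result
    (A : Type u) [CommRing A] [IsDomain A] [IsDiscreteValuationRing A]
    [IsAdicComplete (IsLocalRing.maximalIdeal A) A] (ϖ : A) (hϖ : Irreducible ϖ)
    (K : Type u) [Field K] [Algebra A K] [IsFractionRing A K]
    (L : Type u) [Field L] [Algebra K L] [Algebra A L] [IsScalarTower A K L]
    [FiniteDimensional K L] [Algebra.IsSeparable K L]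
    (B : Type u) [CommRing B] [Algebra A B] [Algebra B L] [IsScalarTower A B L]
    [IsIntegralClosure B A L] :
    ∃ m₀ : ℕ, 0 < m₀ ∧ ∀ (C : Type u) [CommRing C] [IsDomain C] [IsDiscreteValuationRing C]
      [Algebra A C] [Module.Finite A C],
      Nonempty (B ≃ₐ[A] C) ↔ ∃ m : ℕ, m₀ < m ∧
        Nonempty ((B ⧸ Ideal.span {algebraMap A B (ϖ ^ m)}) ≃ₐ[A]
          (C ⧸ Ideal.span {algebraMap A C (ϖ ^ m)})) := by
  classical
  have hmA : IsLocalRing.maximalIdeal A = Ideal.span {ϖ} := hϖ.maximalIdeal_eq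
  haveI : IsAdicComplete (Ideal.span {ϖ}) A := hmA ▸ inferInstance
  haveI hBfin : Module.Finite A B := IsIntegralClosure.finite A K L B
  have hBinj : Function.Injective (algebraMap B L) := IsIntegralClosure.algebraMap_injective B A L
  haveI : IsDomain B := hBinj.isDomain (algebraMap B L)
  have hABinj : Function.Injective (algebraMap A B) := fun x y h => IsFractionRing.injective A K
    ((algebraMap K L).injective (by
      rw [← IsScalarTower.algebraMap_apply, ← IsScalarTower.algebraMap_apply, IsScalarTower.algebraMap_apply A B L, h,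
        ← IsScalarTower.algebraMap_apply]))
  haveI : FaithfulSMul A B := (faithfulSMul_iff_algebraMap_injective A B).2 hABinj
  -- a primitive element in `B`
  obtain ⟨γ, hγ⟩ := Field.exists_primitive_element K L
  obtain ⟨y, hy0, hy⟩ := exists_integral_multiples A K ({γ} : Finset L)
  obtain ⟨θ, hθ⟩ := (IsIntegralClosure.isIntegral_iff (A := B)).1 (hy γ (Finset.mem_singleton_self _))
  have hyL : algebraMap A L y ≠ 0 := by
    rw [IsScalarTower.algebraMap_apply A K L, ne_eq, FaithfulSMul.algebraMap_eq_zero_iff,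
      FaithfulSMul.algebraMap_eq_zero_iff]
    exact hy0
  have hθgen : IntermediateField.adjoin K {algebraMap B L θ} = ⊤ := by
    refine le_antisymm le_top (hγ ▸ IntermediateField.adjoin_le_iff.2 ?_)
    intro x hx
    obtain rfl : x = γ := hx
    have h1 : x = (algebraMap K L (algebraMap A K y))⁻¹ * algebraMap B L θ := by
      rw [hθ, Algebra.smul_def, ← IsScalarTower.algebraMap_apply, inv_mul_cancel_left₀ hyL]
    rw [h1]
    exact mul_mem (inv_mem (IntermediateField.algebraMap_mem _ _)) (IntermediateField.mem_adjoin_simple_self K _)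
  have hθint : IsIntegral A θ := IsIntegral.of_finite A θ
  let f : A[X] := minpoly A θ
  have hf : f.Monic := minpoly.monic hθint
  -- `ϖ ^ k` is divisible by `f'(θ)`
  have hd : aeval θ (derivative f) ≠ 0 := fun h => by
    have hsep : (minpoly K (algebraMap B L θ)).Separable := Algebra.IsSeparable.isSeparable K _
    refine hsep.aeval_derivative_ne_zero (x := algebraMap B L θ) (minpoly.aeval K (algebraMap B L θ)) ?_
    rw [minpoly.isIntegrallyClosed_eq_field_fractions' K (hθint.algebraMap), minpoly.algebraMap_eq hBinj,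
      derivative_map, aeval_map_algebraMap, aeval_algebraMap_apply, h, map_zero]
  have hdvd : ∀ d : B, d ≠ 0 → ∃ k, d ∣ algebraMap A B ϖ ^ k := fun d hd => by
    have hint : IsIntegral A d := IsIntegral.of_finite A d
    have hc0 : (minpoly A d).coeff 0 ≠ 0 := fun hc => by
      have h1 := X_mul_divX_add (minpoly A d)
      rw [hc, map_zero, add_zero] at h1
      have h2 : aeval d (minpoly A d).divX = 0 := by
        have h3 := minpoly.aeval A d
        rw [← h1, map_mul, aeval_X] at h3
        exact (mul_eq_zero.mp h3).resolve_left hd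
      have hm : (minpoly A d).divX.Monic := (monic_X.of_mul_monic_left (h1.symm ▸ minpoly.monic hint))
      have h4 := natDegree_le_natDegree (minpoly.min A d hm h2)
      have h5 : (minpoly A d).natDegree = (minpoly A d).divX.natDegree + 1 := by
        conv_lhs => rw [← h1, natDegree_X_mul hm.ne_zero]
      omega
    obtain ⟨k, u, hu⟩ := IsDiscreteValuationRing.eq_unit_mul_pow_irreducible hc0 hϖ
    refine ⟨k, ?_⟩
    have h0 : d ∣ algebraMap A B ((minpoly A d).coeff 0) := by
      have := minpoly.aeval A d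
      rw [← X_mul_divX_add (minpoly A d), map_add, map_mul, aeval_X, aeval_C] at this
      exact ⟨-aeval d (minpoly A d).divX, by linear_combination this⟩
    rw [hu, map_mul, map_pow] at h0
    exact (IsUnit.dvd_mul_left (u.isUnit.map (algebraMap A B))).mp h0
  obtain ⟨k, hk⟩ := hdvd _ hd
  -- `ϖ ^ s` carries `B` into `A[θ]`
  let T := Algebra.adjoin A ({θ} : Set B)
  have hs1 : ∀ b : B, ∃ s, algebraMap A B ϖ ^ s * b ∈ T := fun b => by
    have hb : algebraMap B L b ∈ IntermediateField.adjoin K {algebraMap B L θ} := hθgen ▸ IntermediateField.mem_top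
    rw [← IntermediateField.mem_toSubalgebra, IntermediateField.adjoin_simple_toSubalgebra_of_isAlgebraic
      (Algebra.IsAlgebraic.isAlgebraic _), Algebra.adjoin_singleton_eq_range_aeval] at hb
    obtain ⟨P, hP⟩ := hb
    obtain ⟨⟨a, ha⟩, hPa⟩ := IsLocalization.integerNormalization_map_to_map (nonZeroDivisors A) P
    obtain ⟨s, u, hu⟩ := IsDiscreteValuationRing.eq_unit_mul_pow_irreducible (nonZeroDivisors.ne_zero ha) hϖ
    refine ⟨s, ?_⟩
    have h1 : algebraMap A B a * b = aeval θ (IsLocalization.integerNormalization (nonZeroDivisors A) P) := by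
      refine hBinj ?_
      rw [← aeval_algebraMap_apply, ← aeval_map_algebraMap K (algebraMap B L θ), hPa, map_mul,
        ← IsScalarTower.algebraMap_apply, ← algebraMap_smul K a P, map_smul,
        show (aeval (algebraMap B L θ)) P = algebraMap B L b from hP, Algebra.smul_def,
        ← IsScalarTower.algebraMap_apply]
    have h2 : algebraMap A B ϖ ^ s * b = algebraMap A B (↑u⁻¹ : A) * (algebraMap A B a * b) := by
      rw [← mul_assoc, ← map_mul, hu, Units.inv_mul_cancel_left, map_pow]
    rw [h2, h1]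
    exact mul_mem (Subalgebra.algebraMap_mem _ _) (aeval_mem_adjoin_singleton A θ)
  obtain ⟨G, hG⟩ := Module.Finite.fg_top (R := A) (M := B)
  choose sf hsf using hs1
  let s := G.sup sf
  have hs : ∀ b : B, algebraMap A B ϖ ^ s * b ∈ T := fun b => by
    have hb : b ∈ Submodule.span A (G : Set B) := hG ▸ Submodule.mem_top
    induction hb using Submodule.span_induction with
    | mem x hx =>
      obtain ⟨e, he⟩ := Nat.exists_eq_add_of_le (Finset.le_sup (f := sf) hx)
      rw [show s = sf x + e from he, pow_add, mul_comm (_ ^ sf x), mul_assoc]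
      exact mul_mem (pow_mem (Subalgebra.algebraMap_mem _ _) _) (hsf x)
    | zero => rw [mul_zero]; exact zero_mem _
    | add x y _ _ hx hy => rw [mul_add]; exact add_mem hx hy
    | smul c x _ hx => rw [mul_smul_comm]; exact Subalgebra.smul_mem _ hx c
  refine ⟨k + k + s + 3, by omega, fun C _ _ _ _ _ => ⟨fun ⟨e⟩ => ⟨k + k + s + 4, by omega,
    ⟨Ideal.quotientEquivAlg _ _ e (by rw [Ideal.map_span, Set.image_singleton]; congr 2; exact (e.commutes _).symm)⟩⟩, ?_⟩⟩
  rintro ⟨m, hm, ⟨e⟩⟩
  exact equiv_of_quotient hϖ hABinj θ f hf (minpoly.equivAdjoin hθint) (minpoly.aeval A θ) hk hs hm e (Subtype.ext AdjoinRoot.Minpoly.coe_toAdjoin_mk_X)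

end Groth.Agent.S16501
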