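import Groth.Statements.S16516
import Groth.Agent.Incid42.BinarySeries

set_option autoImplicit false
universe u
open RatCurv

namespace Groth.Agent.S16516

/-- A smooth nondegenerate rational quintic curve C ⊂ P^4 has exactly one 3-secant line. Stated for C
given as the image of P^1 under a 5-dimensional linear series V of binary quintic forms which
separates every length-2 subscheme of P^1 (for every nonzero quadratic form e the forms of V
together with the multiples of e span all quintic forms), so that P^1 → P(V^*) = P^4 is a closed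
embedding with nondegenerate image; the linear forms on P^4 are the elements of V, a line L ⊂ P^4 is
recorded by the 3-dimensional space of linear forms vanishing on it, and L ∩ C has length at least 3
exactly when that space consists of the multiples g · K[s,t]_2 of a cubic form g. The conclusion: a
nonzero cubic g with g · K[s,t]_2 ⊆ V exists and is unique up to a scalar. (That such a line meets C
in length exactly 3, i.e. is not 4-secant, is immediate in this description and is not restated; the
ground field is algebraically closed of characteristic zero in place of the complex numbers.) -/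
theorem result (K : Type u) [Field K] [IsAlgClosed K]
    [CharZero K] (V : Submodule K (MvPolynomial (Fin 2) K))
    (hV : V ≤ MvPolynomial.homogeneousSubmodule (Fin 2) K 5) (hdim : Module.finrank K ↥V = 5)
    (hsep : ∀ e ∈ MvPolynomial.homogeneousSubmodule (Fin 2) K 2, e ≠ 0 →
      ∀ F ∈ MvPolynomial.homogeneousSubmodule (Fin 2) K 5, ∃ v ∈ V,
        ∃ h ∈ MvPolynomial.homogeneousSubmodule (Fin 2) K 3, F = v + e * h) :
    ∃ g ∈ MvPolynomial.homogeneousSubmodule (Fin 2) K 3, g ≠ 0 ∧
      (∀ h ∈ MvPolynomial.homogeneousSubmodule (Fin 2) K 2, g * h ∈ V) ∧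
      ∀ g' ∈ MvPolynomial.homogeneousSubmodule (Fin 2) K 3,
        (∀ h ∈ MvPolynomial.homogeneousSubmodule (Fin 2) K 2, g' * h ∈ V) → ∃ c : K, g' = c • g := by
  classical
  open Groth.Agent.Incid42 in
  have hF5 : FiniteDimensional K ↥(MvPolynomial.homogeneousSubmodule (Fin 2) K 5) := finiteDimensional_binary 5
  have hF3 : FiniteDimensional K ↥(MvPolynomial.homogeneousSubmodule (Fin 2) K 3) := Incid42.finiteDimensional_binary 3
  have hF2 : FiniteDimensional K ↥(MvPolynomial.homogeneousSubmodule (Fin 2) K 2) := Incid42.finiteDimensional_binary 2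
  -- a functional with kernel `V` on the quintics
  obtain ⟨v₀, hv₀, hv₀V⟩ : ∃ v₀ ∈ MvPolynomial.homogeneousSubmodule (Fin 2) K 5, v₀ ∉ V := by
    by_contra! h
    rw [show V = MvPolynomial.homogeneousSubmodule (Fin 2) K 5 from le_antisymm hV h, Incid42.finrank_binary] at hdim
    omega
  obtain ⟨φ, hφv₀, hφV⟩ := Submodule.exists_dual_map_eq_bot_of_notMem hv₀V inferInstance
  have hVφ : ∀ x ∈ MvPolynomial.homogeneousSubmodule (Fin 2) K 5, (x ∈ V ↔ φ x = 0) := fun x hx => by
    refine ⟨fun h => ?_, fun h => ?_⟩
    · have : φ x ∈ V.map φ := ⟨x, h, rfl⟩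
      rw [hφV] at this
      exact (Submodule.mem_bot K).1 this
    · by_contra hxV
      have htop : V ⊔ Submodule.span K {v₀} = MvPolynomial.homogeneousSubmodule (Fin 2) K 5 := by
        haveI : FiniteDimensional K ↥V := FiniteDimensional.of_finrank_pos (by omega)
        refine Submodule.eq_of_le_of_finrank_le (sup_le hV (Submodule.span_le.2 (Set.singleton_subset_iff.2 hv₀))) ?_
        have hlt : V < V ⊔ Submodule.span K {v₀} := lt_of_le_of_ne le_sup_left
          fun e => hv₀V (e ▸ Submodule.mem_sup_right (Submodule.mem_span_singleton_self v₀))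
        have := Submodule.finrank_lt_finrank_of_lt hlt
        rw [Incid42.finrank_binary]
        omega
      rw [← htop] at hx
      obtain ⟨v, hv, w, hw, rfl⟩ := Submodule.mem_sup.1 hx
      obtain ⟨c, rfl⟩ := Submodule.mem_span_singleton.1 hw
      have hv0 : φ v = 0 := by
        have : φ v ∈ V.map φ := ⟨v, hv, rfl⟩
        rw [hφV] at this
        exact (Submodule.mem_bot K).1 this
      rw [map_add, hv0, zero_add, map_smul, smul_eq_mul, mul_eq_zero, or_iff_left hφv₀] at h
      exact hxV (by rw [h, zero_smul, add_zero]; exact hv)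
  have hmul : ∀ {g h}, g ∈ MvPolynomial.homogeneousSubmodule (Fin 2) K 3 → h ∈ MvPolynomial.homogeneousSubmodule (Fin 2) K 2 →
      g * h ∈ MvPolynomial.homogeneousSubmodule (Fin 2) K 5 := fun hg hh =>
    (MvPolynomial.mem_homogeneousSubmodule _ _).2
      (((MvPolynomial.mem_homogeneousSubmodule _ _).1 hg).mul ((MvPolynomial.mem_homogeneousSubmodule _ _).1 hh))
  obtain ⟨g, hg, hg0, hgker⟩ := Incid42.exists_ker_contractBy φ
  refine ⟨g, hg, hg0, fun h hh => (hVφ _ (hmul hg hh)).2 (hgker h hh), fun g' hg' hg'V => ?_⟩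
  set f := Incid42.contractBy φ 3 2 with hf
  have hinj : Function.Injective (Incid42.contractBy φ 2 3) := by
    rw [← LinearMap.ker_eq_bot, LinearMap.ker_eq_bot']
    intro e he
    by_contra hne
    obtain ⟨v, hv, h, hh, hsum⟩ := hsep e.1 e.2 (fun h0 => hne (Subtype.ext h0)) v₀ hv₀
    apply hφv₀
    rw [hsum, map_add, (hVφ v (hV hv)).1 hv, zero_add]
    exact LinearMap.congr_fun he ⟨h, hh⟩
  have hsurj : Function.Surjective f := by
    intro ψ
    have hflip : Function.Surjective ((Incid42.contractBy φ 2 3).dualMap) :=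
      LinearMap.dualMap_surjective_of_injective hinj
    obtain ⟨Ψ, hΨ⟩ := hflip ψ
    obtain ⟨x, hx⟩ := (Module.evalEquiv K ↥(MvPolynomial.homogeneousSubmodule (Fin 2) K 3)).surjective Ψ
    refine ⟨x, LinearMap.ext fun e => ?_⟩
    rw [← hΨ, ← hx]
    show φ (x.1 * e.1) = φ (e.1 * x.1)
    rw [mul_comm]
  have hker1 : Module.finrank K ↥(LinearMap.ker f) = 1 := by
    have := LinearMap.finrank_range_add_finrank_ker f
    rw [LinearMap.range_eq_top.2 hsurj, finrank_top, Subspace.dual_finrank_eq, Incid42.finrank_binary,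
      Incid42.finrank_binary] at this
    omega
  have hmem : (⟨g, hg⟩ : ↥(MvPolynomial.homogeneousSubmodule (Fin 2) K 3)) ∈ LinearMap.ker f :=
    LinearMap.ext fun h => hgker h.1 h.2
  have hmem' : (⟨g', hg'⟩ : ↥(MvPolynomial.homogeneousSubmodule (Fin 2) K 3)) ∈ LinearMap.ker f :=
    LinearMap.ext fun h => (hVφ _ (hmul hg' h.2)).1 (hg'V h.1 h.2)
  obtain ⟨c, hc⟩ := exists_smul_eq_of_finrank_eq_one hker1
    (x := (⟨_, hmem⟩ : ↥(LinearMap.ker f))) (fun h0 => hg0 (congrArg (fun y : ↥(LinearMap.ker f) => y.1.1) h0))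
    (⟨_, hmem'⟩ : ↥(LinearMap.ker f))
  exact ⟨c, (congrArg (fun y : ↥(LinearMap.ker f) => y.1.1) hc).symm⟩

end Groth.Agent.S16516
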