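import Groth.Statements.S16517
import Mathlib
import Groth.Agent.CA2H40.GorResidual
import Groth.Agent.FlatLoc6.Miracle
import Groth.Agent.FlatLoc6.DimEq
-- import your own Groth.Agent.* helpers here

set_option autoImplicit false
universe u
open CAlg

namespace Groth.Agent.S16517

lemma regular_map {R A : Type u} [CommRing R] [CommRing A] [Algebra R A] [Module.Flat R A] {rs : List R}
    (h : RingTheory.Sequence.IsWeaklyRegular R rs) :
    RingTheory.Sequence.IsWeaklyRegular A (rs.map (algebraMap R A)) :=
  h.of_flat_of_isBaseChange (IsBaseChange.linearMap R A)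

/-- Let R be a regular local ring, A a Gorenstein local ring which is a flat R-algebra through a local
homomorphism, I ⊂ A an ideal of codimension zero (the Krull dimension of A/I equals that of A) with
A/I Cohen–Macaulay, and J = (0 : I) the annihilator of I in A (the ideal of the residual subscheme).
Then A/I and A/J are flat over R. -/
theorem result (R A : Type u)
    [CommRing R] [IsRegularLocalRing R] [CommRing A] [Algebra R A] [LocCoh.IsGorensteinLocalRing A]
    [IsLocalHom (algebraMap R A)] [Module.Flat R A] (I : Ideal A)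
    (hI : ringKrullDim (A ⧸ I) = ringKrullDim A) [LocCoh.IsCohenMacaulayLocalRing (A ⧸ I)] :
    Module.Flat R (A ⧸ I) ∧ Module.Flat R (A ⧸ (Submodule.annihilator I)) := by
  classical
  haveI : IsNoetherianRing A := inferInstance
  obtain ⟨rs, hreg, hm⟩ := RegLoc6.exists_regularSequence_maximalIdeal R
  have hA := regular_map (A := A) hreg.toIsWeaklyRegular
  refine ⟨?_, ?_⟩
  · -- `A/I` is maximal Cohen–Macaulay
    haveI : IsLocalHom (algebraMap R (A ⧸ I)) := by
      rw [IsScalarTower.algebraMap_eq R A (A ⧸ I)]
      haveI : IsLocalHom (algebraMap A (A ⧸ I)) := IsLocalHom.of_surjective _ Ideal.Quotient.mk_surjective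
      infer_instance
    refine FlatLoc6.flat_of_isCM (B := A ⧸ I) LocCoh.IsCohenMacaulayLocalRing.supportDim_eq_depth ?_
    have hmN : FlatLoc6.mN R (A ⧸ I) (A ⧸ I) = (IsLocalRing.maximalIdeal R).map (algebraMap R (A ⧸ I)) := by
      show (IsLocalRing.maximalIdeal R).map (algebraMap R (A ⧸ I)) • (⊤ : Submodule (A ⧸ I) (A ⧸ I)) = _
      rw [smul_eq_mul, Ideal.mul_top]
    rw [Module.supportDim_eq_of_equiv (Submodule.quotEquivOfEq _ _ hmN),
      Module.supportDim_eq_ringKrullDim_quotient_annihilator (R := A ⧸ I) (M := (A ⧸ I) ⧸ (IsLocalRing.maximalIdeal R).map (algebraMap R (A ⧸ I))), Ideal.annihilator_quotient,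
      Module.supportDim_self_eq_ringKrullDim]
    refine le_antisymm FlatLoc6.ringKrullDim_le_add_fibre ?_
    have hmem : ∀ r ∈ rs.map (algebraMap R A), r ∈ IsLocalRing.maximalIdeal A := fun r hr => by
      obtain ⟨s, hs, rfl⟩ := List.mem_map.mp hr
      exact map_nonunit (algebraMap R A) s (hm ▸ Ideal.subset_span hs)
    have h1 := Module.supportDim_add_length_eq_supportDim_of_isRegular (rs.map (algebraMap R A))
      (RingTheory.Sequence.IsRegular.of_isWeaklyRegular_of_mem_maximalIdeal A hmem hA)
    have hk : (Ideal.ofList (rs.map (algebraMap R A)) • ⊤ : Submodule A A) = (IsLocalRing.maximalIdeal R).map (algebraMap R A) := by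
      rw [smul_eq_mul, Ideal.mul_top, ← Ideal.map_ofList, hm]
    rw [Module.supportDim_eq_of_equiv (Submodule.quotEquivOfEq _ _ hk),
      Module.supportDim_eq_ringKrullDim_quotient_annihilator (R := A) (M := A ⧸ (IsLocalRing.maximalIdeal R).map (algebraMap R A)), Ideal.annihilator_quotient,
      Module.supportDim_self_eq_ringKrullDim, ← hI] at h1
    have hdR : ((rs.length : ℕ) : WithBot ℕ∞) = ringKrullDim R := by
      have h := Module.supportDim_add_length_eq_supportDim_of_isRegular rs hreg
      rw [Module.supportDim_eq_of_equiv (Submodule.quotEquivOfEq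
          (Ideal.ofList rs • ⊤ : Submodule R R) (IsLocalRing.maximalIdeal R)
          (by rw [hm, Ideal.smul_eq_mul, Ideal.mul_top])),
        Module.supportDim_self_eq_ringKrullDim, Module.supportDim_eq_ringKrullDim_quotient_annihilator,
        Ideal.annihilator_quotient] at h
      letI := Ideal.Quotient.field (IsLocalRing.maximalIdeal R)
      rwa [ringKrullDim_eq_zero_of_field, zero_add] at h
    rw [← h1, List.length_map, ← hdR, add_comm]
    gcongr
    refine ringKrullDim_le_of_surjective (Ideal.quotientMap ((IsLocalRing.maximalIdeal R).map (algebraMap R (A ⧸ I)))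
      (Ideal.Quotient.mk I) ?_) ?_
    · rw [IsScalarTower.algebraMap_eq R A (A ⧸ I), ← Ideal.map_map]
      exact Ideal.le_comap_map
    · exact Ideal.quotientMap_surjective Ideal.Quotient.mk_surjective
  · -- the residual quotient
    have h := (CA2H40.GorResidual.residual_main I (fun j hj => CA2H40.GorResidual.ext_vanish_quot I hI j hj)
      (rs.map (algebraMap R A)) hA).2.2.2
    rw [RingTheory.Sequence.isWeaklyRegular_map_algebraMap_iff] at h
    refine LocalCrit.flat_of_le_jacobson (B := A) (IsLocalRing.maximalIdeal R)
      ((IsLocalRing.map_maximalIdeal_le (algebraMap R A)).trans (IsLocalRing.maximalIdeal_le_jacobson ⊥)) ?_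
      (LocalCrit.keepsInjective_of_isMaximal _ _)
    rw [← hm]
    exact FlatLoc6.rTensor_ofList_injective rs h

end Groth.Agent.S16517
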