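import Groth.Statements.S1653
import Groth.Agent.VarKleiman.LocalDim
import Groth.Agent.FibDim.Semicont
-- import your own Groth.Agent.* helpers here

set_option autoImplicit false
universe u
open CategoryTheory CategoryTheory.Limits AlgebraicGeometry
open Variety

namespace Groth.Agent.S1653

/-- Let f : X → Y be a k-morphism of schemes locally of finite type over a field k, with X irreducible
of dimension a, and let the closure of the image of f have dimension b. Then the local fibre
dimension of f at every point of X is at least a - b, and the set of points where it equals a - b is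
open and dense. -/
theorem result (k : Type u) [Field k] (X Y : Scheme.{u}) [X.Over (Spec (CommRingCat.of k))] [Y.Over (Spec (CommRingCat.of k))]
    [LocallyOfFiniteType (X ↘ (Spec (CommRingCat.of k)))] [LocallyOfFiniteType (Y ↘ (Spec (CommRingCat.of k)))] [IrreducibleSpace X]
    (f : X ⟶ Y) (hf : f ≫ (Y ↘ (Spec (CommRingCat.of k))) = X ↘ (Spec (CommRingCat.of k))) (a b : ℕ) (ha : topologicalKrullDim X = a)
    (hb : topologicalKrullDim (closure (Set.range f.base)) = b) :
    (∀ x : X, ((a - b : ℕ) : WithBot ℕ∞) ≤ FlatMor.fibreDimAt f x) ∧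
      IsOpen {x : X | FlatMor.fibreDimAt f x = (a - b : ℕ)} ∧ Dense {x : X | FlatMor.fibreDimAt f x = (a - b : ℕ)} := by
  haveI : LocallyOfFiniteType f := by
    haveI : LocallyOfFiniteType (f ≫ (Y ↘ (Spec (CommRingCat.of k)))) := by rw [hf]; infer_instance
    exact locallyOfFiniteType_of_comp f (Y ↘ (Spec (CommRingCat.of k)))
  let η : X := genericPoint X
  let p := X ↘ (Spec (CommRingCat.of k))
  let q := Y ↘ (Spec (CommRingCat.of k))
  haveI : Subsingleton ↥(Spec (CommRingCat.of k)) := Groth.Agent.FibDim.subsingleton_spec_field k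
  have hmax : Groth.Agent.FibDim.FibMax f η := Groth.Agent.FibDim.fibMax_of_maximal f fun z hz =>
    (hz.antisymm (genericPoint_specializes z)).eq
  have hmaxp : Groth.Agent.FibDim.FibMax p η := Groth.Agent.FibDim.fibMax_of_maximal p fun z hz =>
    (hz.antisymm (genericPoint_specializes z)).eq
  have hsum := Groth.Agent.CycLib.rd_comp f q η
  have hA : Groth.Agent.FibDim.rd (f ≫ q) η = a := by
    have h1 : Groth.Agent.FibDim.rd p η = a := by
      have h := Groth.Agent.VarKleiman.fd_eq_dim p η
      rw [ha, Groth.Agent.FibDim.fibreDimAt_eq_rd p hmaxp] at h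
      exact_mod_cast h
    have h2 := Groth.Agent.VarDim.rdeg_congr hf η
    rw [← Groth.Agent.FibDim.rd_eq_rdeg, ← Groth.Agent.FibDim.rd_eq_rdeg] at h2
    rw [← h1]
    exact_mod_cast h2
  have hB : Groth.Agent.FibDim.rd q (f η) = b := by
    have hcl : closure (Set.range f.base) = closure ({f η} : Set Y) := by
      refine subset_antisymm (isClosed_closure.closure_subset_iff.2 ?_)
        (closure_mono (Set.singleton_subset_iff.2 ⟨η, rfl⟩))
      rintro _ ⟨x, rfl⟩
      exact ((genericPoint_specializes x).map f.continuous).mem_closure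
    rw [hcl, Groth.Agent.FibDim.topologicalKrullDim_closure q (f η)] at hb
    exact_mod_cast hb
  rw [hA, hB] at hsum
  have hd : FlatMor.fibreDimAt f η = ((a - b : ℕ) : WithBot ℕ∞) := by
    rw [Groth.Agent.FibDim.fibreDimAt_eq_rd f hmax, show Groth.Agent.FibDim.rd f η = a - b by omega]
    rfl
  have hge : ∀ x : X, ((a - b : ℕ) : WithBot ℕ∞) ≤ FlatMor.fibreDimAt f x := fun x => by
    rw [← hd, Groth.Agent.FibDim.fibreDimAt_eq_rd f hmax]
    exact Groth.Agent.FibDim.fibreDimAt_ge_rd f (genericPoint_specializes x)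
  have hset : {x : X | FlatMor.fibreDimAt f x = (a - b : ℕ)} = {x : X | FlatMor.fibreDimAt f x ≤ (a - b : ℕ)} :=
    Set.ext fun x => ⟨fun h => le_of_eq h, fun h => le_antisymm h (hge x)⟩
  have hopen : IsOpen {x : X | FlatMor.fibreDimAt f x = (a - b : ℕ)} :=
    hset ▸ Groth.Agent.FibDim.isOpen_fibreDimAt_le f (a - b)
  exact ⟨hge, hopen, hopen.dense ⟨η, hd⟩⟩

end Groth.Agent.S1653
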