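import Groth.Statements.S16547
import Mathlib
import Groth.Agent.CA2H40.Eakin
-- import your own Groth.Agent.* helpers here

set_option autoImplicit false
universe u
open CAlg

namespace Groth.Agent.S16547

section
variable {A B : Type u} [CommRing A] [CommRing B] [Algebra B A]

/-- Along a list of elements with trivial residue extension, `A` is spanned up to `q`-units. -/
lemma exists_span_mod_prod (q : Ideal B) [q.IsPrime] : ∀ L : List A,
    (∀ l ∈ L, ∀ a : A, ∃ b c : B, c ∉ q ∧ algebraMap B A c * a - algebraMap B A b ∈ Ideal.span {l}) →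
    ∃ E : Finset A, E.card ≤ L.length ∧ ∀ a : A, ∃ s ∉ q, ∃ u ∈ Submodule.span B (E : Set A), ∃ w : A,
      s • a = u + L.prod * w := by
  classical
  intro L
  induction L with
  | nil =>
    exact fun _ => ⟨∅, by simp, fun a => ⟨1, fun h => ‹q.IsPrime›.ne_top ((Ideal.eq_top_iff_one q).mpr h), 0,
      Submodule.zero_mem _, a, by simp⟩⟩
  | cons l L ih =>
    intro hres
    obtain ⟨E, hE, hEs⟩ := ih fun l' hl' => hres l' (List.mem_cons_of_mem _ hl')
    refine ⟨insert 1 (E.image (l * ·)), ?_, fun a => ?_⟩
    · refine (Finset.card_insert_le _ _).trans ?_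
      simpa using Finset.card_image_le.trans hE
    obtain ⟨b, c, hc, hbc⟩ := hres l List.mem_cons_self a
    obtain ⟨w₀, hw₀⟩ := Ideal.mem_span_singleton'.mp hbc
    obtain ⟨s, hs, u, hu, w, hw⟩ := hEs w₀
    refine ⟨s * c, fun h => (‹q.IsPrime›.mem_or_mem h).elim hs hc, (s * b) • (1 : A) + l * u, ?_, w, ?_⟩
    · refine add_mem (Submodule.smul_mem _ _ (Submodule.subset_span (Finset.mem_insert_self _ _))) ?_
      have hle : (Submodule.span B (E : Set A)).map (LinearMap.mulLeft B l) ≤
          Submodule.span B ((insert 1 (E.image (l * ·)) : Finset A) : Set A) := by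
        rw [Submodule.map_span]
        refine Submodule.span_mono ?_
        rintro _ ⟨e, he, rfl⟩
        exact Finset.mem_coe.mpr (Finset.mem_insert_of_mem (Finset.mem_image_of_mem _ he))
      exact hle ⟨u, hu, rfl⟩
    · have h1 : algebraMap B A c * a = algebraMap B A b + w₀ * l := by rw [hw₀]; ring
      simp only [Algebra.smul_def, map_mul, List.prod_cons] at hw ⊢
      linear_combination algebraMap B A s * h1 + l * hw

/-- Distinct prime divisors have product dividing. -/
lemma prod_dvd_of_primes [IsDomain A] {ι : Type*} (O : Finset ι) (π : ι → A)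
    (hp : ∀ i ∈ O, Prime (π i)) (hne : ∀ i ∈ O, ∀ j ∈ O, π i ∣ π j → i = j) {y : A}
    (hy : ∀ i ∈ O, π i ∣ y) : ∏ i ∈ O, π i ∣ y := by
  classical
  induction O using Finset.induction_on generalizing y with
  | empty => simp
  | @insert i O hi ih =>
    obtain ⟨z, rfl⟩ := hy i (Finset.mem_insert_self i O)
    rw [Finset.prod_insert hi]
    refine mul_dvd_mul_left _ (ih (fun j hj => hp j (Finset.mem_insert_of_mem hj))
      (fun j hj k hk => hne j (Finset.mem_insert_of_mem hj) k (Finset.mem_insert_of_mem hk)) fun j hj => ?_)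
    refine ((hp j (Finset.mem_insert_of_mem hj)).dvd_mul.mp (hy j (Finset.mem_insert_of_mem hj))).resolve_left fun h => ?_
    exact hi (hne j (Finset.mem_insert_of_mem hj) i (Finset.mem_insert_self i O) h ▸ hj)

end

/-- Let A be a Noetherian factorial local domain and G a finite group acting faithfully on A by ring
automorphisms; let B be a ring with an injective ring map to A whose image is exactly the ring of
invariants of G, and assume A is a finite B-module. Let q be a prime ideal of B of height one and p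
a prime ideal of A lying over q such that the extension of residue fields of the local rings B_q and
A_p is trivial (every element of A is congruent modulo p to some c⁻¹b with b, c in B, c outside q).
Then q is a principal ideal; and if moreover B/q is a regular local ring, then B is a regular local
ring. -/
theorem result
    {A B G : Type u} [CommRing A] [IsDomain A] [IsNoetherianRing A] [IsLocalRing A]
    [UniqueFactorizationMonoid A]
    [CommRing B] [Algebra B A] [FaithfulSMul B A] [Module.Finite B A]
    [Group G] [Finite G] [MulSemiringAction G A] [FaithfulSMul G A] [SMulCommClass G B A]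
    [Algebra.IsInvariant B A G]
    (q : Ideal B) [q.IsPrime] (hq : q.height = 1) (p : Ideal A) [p.IsPrime] [p.LiesOver q]
    (hres : ∀ a : A, ∃ b c : B, c ∉ q ∧ algebraMap B A c * a - algebraMap B A b ∈ p) :
    Submodule.IsPrincipal q ∧ (IsRegularLocalRing (B ⧸ q) → IsRegularLocalRing B) := by
  classical
  haveI : IsGaloisGroup G B A := ⟨inferInstance, inferInstance, inferInstance⟩
  haveI : IsDomain B := (FaithfulSMul.algebraMap_injective B A).isDomain (algebraMap B A)
  haveI : Fintype G := Fintype.ofFinite G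
  let σ : G → (A →+* A) := fun g => MulSemiringAction.toRingHom G A g
  have hσ : ∀ g a, σ g a = g • a := fun g a => rfl
  have hσB : ∀ g (b : B), σ g (algebraMap B A b) = algebraMap B A b := fun g b => smul_algebraMap g b
  have hqne : q ≠ ⊥ := fun h => by
    rw [h, Ideal.height_bot] at hq
    exact zero_ne_one hq
  haveI : Algebra.IsIntegral B A := Algebra.IsIntegral.of_finite B A
  have hpq : p.comap (algebraMap B A) = q := (Ideal.LiesOver.over (P := p) (p := q)).symm
  -- `p` is principal
  have hpne : p ≠ ⊥ := fun h => hqne (by rw [← hpq, h]; exact Ideal.comap_bot_of_injective _ (FaithfulSMul.algebraMap_injective B A))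
  obtain ⟨ρ, hρp, hρ⟩ := Ideal.IsPrime.exists_mem_prime_of_ne_bot ‹p.IsPrime› hpne
  haveI : (Ideal.span {ρ}).IsPrime := (Ideal.span_singleton_prime hρ.ne_zero).mpr hρ
  have hspan : p = Ideal.span {ρ} := by
    refine eq_comm.mp (by_contra fun hne => ?_)
    have hlt : Ideal.span {ρ} < p := lt_of_le_of_ne ((Ideal.span_singleton_le_iff_mem p).mpr hρp) hne
    have h1 : (Ideal.span {ρ}).comap (algebraMap B A) < q := hpq ▸ Ideal.IsIntegral.comap_lt_comap hlt
    have h2 : (Ideal.span {ρ}).comap (algebraMap B A) ≠ ⊥ :=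
      Ideal.comap_ne_bot_of_integral_mem hρ.ne_zero (Ideal.mem_span_singleton_self ρ) (Algebra.IsIntegral.isIntegral ρ)
    haveI : ((Ideal.span {ρ}).comap (algebraMap B A)).IsPrime := Ideal.IsPrime.comap _
    haveI : ((Ideal.span {ρ}).comap (algebraMap B A)).FiniteHeight := (Ideal.finiteHeight_iff _).mpr
      (Or.inr (lt_of_le_of_lt (Ideal.height_mono h1.le) (hq ▸ ENat.natCast_lt_top 1)).ne)
    have h4 := Ideal.height_strict_mono_of_isPrime h1
    rw [hq] at h4
    have h5 : ((Ideal.span {ρ}).comap (algebraMap B A)).height = 0 := by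
      by_contra h
      exact absurd (Order.one_le_iff_ne_zero.mpr h) (not_le.mpr h4)
    rw [Ideal.height_eq_zero_iff, IsDomain.minimalPrimes_eq_singleton_bot, Set.mem_singleton_iff] at h5
    exact h2 h5
  -- the orbit of `p`
  let O : Finset (Ideal A) := Finset.univ.image fun g : G => p.comap (σ g)
  have hO : ∀ P ∈ O, ∃ g : G, p.comap (σ g) = P := fun P hP => by simpa [O] using hP
  choose! gO hgO using hO
  let gen : Ideal A → A := fun P => σ (gO P)⁻¹ ρ
  have hgen : ∀ P ∈ O, P = Ideal.span {gen P} ∧ Prime (gen P) := fun P hP => by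
    refine ⟨?_, ?_⟩
    · ext a
      nth_rw 1 [← hgO P hP]
      rw [Ideal.mem_comap, hspan, Ideal.mem_span_singleton, Ideal.mem_span_singleton]
      refine ⟨fun h => ?_, fun h => ?_⟩
      · have := map_dvd (σ (gO P)⁻¹) h
        rwa [hσ (gO P), hσ _ (gO P • a), inv_smul_smul] at this
      · have := map_dvd (σ (gO P)) h
        rwa [show σ (gO P) (gen P) = ρ from smul_inv_smul _ ρ] at this
    · show Prime (MulSemiringAction.toRingEquiv G A (gO P)⁻¹ ρ)
      exact (MulEquiv.prime_iff _).mpr hρ
  have hgenne : ∀ i ∈ O, ∀ j ∈ O, gen i ∣ gen j → i = j := fun i hi j hj h => by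
    rw [(hgen i hi).1, (hgen j hj).1]
    exact Ideal.span_singleton_eq_span_singleton.mpr
      ((hgen i hi).2.irreducible.associated_of_dvd (hgen j hj).2.irreducible h)
  let a₁ : A := ∏ P ∈ O, gen P
  have ha₁ : a₁ ≠ 0 := Finset.prod_ne_zero_iff.mpr fun P hP => (hgen P hP).2.ne_zero
  have hσO : ∀ g : G, ∀ P ∈ O, P.comap (σ g) ∈ O := fun g P hP => by
    refine Finset.mem_image.mpr ⟨gO P * g, Finset.mem_univ _, ?_⟩
    conv_rhs => rw [← hgO P hP]
    ext a
    simp only [Ideal.mem_comap, hσ, mul_smul]
  have hinv : ∀ g : G, a₁ ∣ σ g a₁ := fun g => prod_dvd_of_primes O gen (fun P hP => (hgen P hP).2) hgenne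
    fun P hP => by
      have h1 : a₁ ∈ P.comap (σ g) := by
        rw [(hgen _ (hσO g P hP)).1, Ideal.mem_span_singleton]
        exact Finset.dvd_prod_of_mem gen (hσO g P hP)
      rwa [Ideal.mem_comap, (hgen P hP).1, Ideal.mem_span_singleton] at h1
  -- residue extensions are trivial along the orbit
  have hresO : ∀ P ∈ O, ∀ a : A, ∃ b c : B, c ∉ q ∧ algebraMap B A c * a - algebraMap B A b ∈ P := fun P hP a => by
    obtain ⟨b, c, hc, h⟩ := hres (σ (gO P) a)
    refine ⟨b, c, hc, ?_⟩
    rw [← hgO P hP, Ideal.mem_comap, map_sub, map_mul, hσB, hσB]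
    exact h
  let N : A := ∏ g : G, σ g ρ
  have hfix : ∀ z : A, (∀ g : G, g • z = z) → ∃ b : B, algebraMap B A b = z := fun z hz =>
    Algebra.IsInvariant.isInvariant z hz
  have hnorm : ∀ z : A, ∀ h : G, h • (∏ g : G, σ g z) = ∏ g : G, σ g z := fun z h => by
    rw [Finset.smul_prod']
    exact Fintype.prod_equiv (Equiv.mulLeft h) _ _ fun g => by simp [hσ, mul_smul]
  obtain ⟨β, hβ⟩ := hfix N (hnorm ρ)
  have hβq : β ∈ q := by
    rw [← hpq, Ideal.mem_comap, hβ]
    refine Ideal.mem_of_dvd _ (Finset.dvd_prod_of_mem (fun g => σ g ρ) (Finset.mem_univ 1)) ?_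
    rw [hσ, one_smul]; exact hρp
  have hN0 : N ≠ 0 := Finset.prod_ne_zero_iff.mpr fun g _ h => hρ.ne_zero (by
    rwa [hσ, smul_eq_zero_iff_eq] at h)
  have hcard : Nat.card G = Module.finrank B A := IsGaloisGroup.card_eq_finrank' G B A
  -- every element of `q` is divisible by the norm
  have hmain : ∀ x ∈ q, ∃ b : B, β * b = x := by
    intro x hx
    rcases eq_or_ne x 0 with rfl | hx0
    · exact ⟨0, mul_zero β⟩
    have hxA : algebraMap B A x ≠ 0 := fun h => hx0 (FaithfulSMul.algebraMap_injective B A (by rw [h, map_zero]))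
    have hu : ¬ IsUnit a₁ := fun h => by
      have hP : p.comap (σ 1) ∈ O := Finset.mem_image_of_mem _ (Finset.mem_univ 1)
      exact (hgen _ hP).2.not_unit (isUnit_of_dvd_unit (Finset.dvd_prod_of_mem gen hP) h)
    have hfm : FiniteMultiplicity a₁ (algebraMap B A x) := FiniteMultiplicity.of_not_isUnit hu hxA
    obtain ⟨y, hy, hy'⟩ := hfm.exists_eq_pow_mul_and_not_dvd
    set n := multiplicity a₁ (algebraMap B A x)
    -- `y` avoids the whole orbit
    obtain ⟨P₀, hP₀, hyP₀⟩ : ∃ P ∈ O, y ∉ P := by
      by_contra h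
      push Not at h
      exact hy' (prod_dvd_of_primes O gen (fun P hP => (hgen P hP).2) hgenne fun P hP => by
        have := h P hP
        rwa [(hgen P hP).1, Ideal.mem_span_singleton] at this)
    have hyg : ∀ g : G, σ g y ∉ P₀ := fun g h => hyP₀ (by
      obtain ⟨d, hd⟩ := hinv g
      have h1 := congrArg (σ g) hy
      rw [hσB, map_mul, map_pow, hd, mul_pow, mul_assoc] at h1
      rw [mul_left_cancel₀ (pow_ne_zero n ha₁) (hy.symm.trans h1)]
      exact P₀.mul_mem_left _ h)
    haveI : P₀.IsPrime := by rw [← hgO P₀ hP₀]; exact Ideal.IsPrime.comap _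
    obtain ⟨sy, hsy⟩ := hfix (∏ g : G, σ g y) (hnorm y)
    have hsyq : sy ∉ q := fun h => by
      have h1 : algebraMap B A sy ∈ P₀ := by
        rw [← hgO P₀ hP₀, Ideal.mem_comap, hσB, ← Ideal.mem_comap, hpq]; exact h
      rw [hsy] at h1
      obtain ⟨g, -, hg⟩ := (Ideal.IsPrime.prod_mem_iff).mp h1
      exact hyg g hg
    obtain ⟨y', hy''⟩ : y ∣ algebraMap B A sy := by
      rw [hsy]
      simpa [hσ] using Finset.dvd_prod_of_mem (fun g => σ g y) (Finset.mem_univ (1 : G))
    -- `n * #O` elements span up to `q`-units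
    let L : List A := (List.replicate n (O.toList.map gen)).flatten
    have hLlen : L.length = n * O.card := by simp [L]
    have hLprod : L.prod = a₁ ^ n := by
      simp only [L, List.prod_flatten, List.map_replicate, List.prod_replicate, a₁, Finset.prod_map_toList]
    obtain ⟨E, hE, hEs⟩ := exists_span_mod_prod q L fun l hl a => by
      simp only [L, List.mem_flatten, List.mem_replicate] at hl
      obtain ⟨_, ⟨-, rfl⟩, hl⟩ := hl
      obtain ⟨P, hP, rfl⟩ := List.mem_map.mp hl
      rw [← (hgen P (Finset.mem_toList.mp hP)).1]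
      exact hresO P (Finset.mem_toList.mp hP) a
    let U := Submodule.span B (E : Set A)
    have hs : ∀ a : A, ∃ s : B, s ∉ q ∧ U.mkQ (s • a) ∈ q • (⊤ : Submodule B (A ⧸ U)) := fun a => by
      obtain ⟨s, hs, u, hu', w, hw⟩ := hEs a
      refine ⟨sy * s, fun h => (‹q.IsPrime›.mem_or_mem h).elim hsyq hs, ?_⟩
      rw [mul_smul, hw, smul_add, map_add, Submodule.mkQ_apply, (Submodule.Quotient.mk_eq_zero U).mpr (U.smul_mem sy hu'),
        zero_add, hLprod]
      have h1 : sy • (a₁ ^ n * w) = x • (y' * w) := by
        rw [Algebra.smul_def, Algebra.smul_def, hy'', hy]; ring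
      rw [h1, map_smul]
      exact Submodule.smul_mem_smul hx Submodule.mem_top
    choose s hsq hsm using hs
    obtain ⟨F, hF⟩ := (Module.finite_def.mp ‹_› : (⊤ : Submodule B A).FG)
    let S : B := ∏ a ∈ F, s a
    have hSq : S ∈ q.primeCompl := prod_mem fun a _ => hsq a
    have hrange : LinearMap.range (LinearMap.lsmul B (A ⧸ U) S) ≤ q • ⊤ := by
      rintro _ ⟨z, rfl⟩
      obtain ⟨z, rfl⟩ := U.mkQ_surjective z
      have hle : Submodule.span B (F : Set A) ≤ (q • (⊤ : Submodule B (A ⧸ U))).comap (U.mkQ.comp (LinearMap.lsmul B A S)) :=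
        Submodule.span_le.mpr fun a ha => by
          obtain ⟨d, hd⟩ := Finset.dvd_prod_of_mem s ha
          show U.mkQ (S • a) ∈ q • (⊤ : Submodule B (A ⧸ U))
          rw [show S = d * s a from hd.trans (mul_comm _ _), mul_smul, map_smul]
          exact Submodule.smul_mem _ d (hsm a)
      have := hle (hF ▸ Submodule.mem_top : z ∈ Submodule.span B (F : Set A))
      exact (map_smul U.mkQ S z) ▸ this
    obtain ⟨pol, hmonic, -, hcoeff, haev⟩ :=
      LinearMap.exists_monic_and_natDegree_eq_and_coeff_mem_pow_and_aeval_eq_zero B (LinearMap.lsmul B (A ⧸ U) S) q hrange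
    let t : B := Polynomial.eval S pol
    have htq : t ∉ q := fun h => by
      refine hSq (‹q.IsPrime›.mem_of_pow_mem pol.natDegree ?_)
      have hsum : t = ∑ i ∈ Finset.range pol.natDegree, pol.coeff i * S ^ i + S ^ pol.natDegree := by
        show Polynomial.eval S pol = _
        rw [Polynomial.eval_eq_sum_range, Finset.sum_range_succ, hmonic.coeff_natDegree, one_mul]
      have hlow : ∑ i ∈ Finset.range pol.natDegree, pol.coeff i * S ^ i ∈ q := Ideal.sum_mem _ fun i hi =>
        q.mul_mem_right _ (Ideal.pow_le_self (Nat.sub_ne_zero_of_lt (Finset.mem_range.mp hi)) (hcoeff i))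
      rw [hsum] at h
      exact (add_mem_cancel_left hlow).mp h
    have ht : ∀ a : A, t • a ∈ U := fun a => by
      have h1 := LinearMap.congr_fun haev (U.mkQ a)
      rw [show LinearMap.lsmul B (A ⧸ U) S = algebraMap B (Module.End B (A ⧸ U)) S from rfl,
        Polynomial.aeval_algebraMap_apply, Module.algebraMap_end_apply, LinearMap.zero_apply,
        Polynomial.coe_aeval_eq_eval, ← map_smul] at h1
      exact (Submodule.Quotient.mk_eq_zero U).mp h1
    have ht0 : algebraMap B A t ≠ 0 := fun h => htq (by
      rw [← hpq, Ideal.mem_comap, h]; exact p.zero_mem)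
    have hn : Nat.card G ≤ n * O.card := by
      rw [hcard, ← hLlen]
      haveI : Module.Finite B U := Module.Finite.span_of_finite B E.finite_toSet
      refine le_trans ?_ ((finrank_span_finset_le_card (R := B) E).trans hE)
      exact LinearMap.finrank_le_finrank_of_injective (f := (LinearMap.lsmul B A t).codRestrict U ht) fun a b h => by
        have h1 : t • a = t • b := congrArg Subtype.val h
        rw [Algebra.smul_def, Algebra.smul_def] at h1
        exact mul_left_cancel₀ ht0 h1
    -- the fibres of the orbit map all have the same size, at most `n`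
    have hfib : ∀ P ∈ O, (Finset.univ.filter fun g : G => (Ideal.span {σ g⁻¹ ρ} : Ideal A) = P).card ≤ n := by
      have hspang : ∀ g : G, Ideal.span {σ g⁻¹ ρ} = p.comap (σ g) := fun g => by
        ext a
        rw [Ideal.mem_comap, hspan, Ideal.mem_span_singleton, Ideal.mem_span_singleton]
        refine ⟨fun h => ?_, fun h => ?_⟩
        · have := map_dvd (σ g) h
          rwa [show σ g (σ g⁻¹ ρ) = ρ from smul_inv_smul g ρ] at this
        · have := map_dvd (σ g⁻¹) h
          rwa [show σ g⁻¹ (σ g a) = a from inv_smul_smul g a] at this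
      simp only [hspang]
      intro P hP
      have hconst : ∀ Q ∈ O, (Finset.univ.filter fun g : G => p.comap (σ g) = Q).card =
          (Finset.univ.filter fun g : G => p.comap (σ g) = P).card := fun Q hQ => by
        refine Finset.card_bij (fun g _ => g * ((gO Q)⁻¹ * gO P)) ?_ (fun _ _ _ _ h => mul_right_cancel h) ?_
        · intro g hg
          rw [Finset.mem_filter] at hg ⊢
          refine ⟨Finset.mem_univ _, ?_⟩
          conv_rhs => rw [← hgO P hP]
          ext a
          have h2 : ((gO Q)⁻¹ * gO P) • a ∈ p.comap (σ g) ↔ ((gO Q)⁻¹ * gO P) • a ∈ p.comap (σ (gO Q)) := by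
            rw [hg.2, hgO Q hQ]
          simp only [Ideal.mem_comap, hσ, mul_smul, smul_inv_smul] at h2 ⊢
          exact h2
        · intro g hg
          refine ⟨g * ((gO P)⁻¹ * gO Q), ?_, by group⟩
          rw [Finset.mem_filter] at hg ⊢
          refine ⟨Finset.mem_univ _, ?_⟩
          conv_rhs => rw [← hgO Q hQ]
          ext a
          have h2 : ((gO P)⁻¹ * gO Q) • a ∈ p.comap (σ g) ↔ ((gO P)⁻¹ * gO Q) • a ∈ p.comap (σ (gO P)) := by
            rw [hg.2, hgO P hP]
          simp only [Ideal.mem_comap, hσ, mul_smul, smul_inv_smul] at h2 ⊢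
          exact h2
      have hsum := Finset.card_eq_sum_card_image (fun g : G => p.comap (σ g)) Finset.univ
      rw [show Finset.univ.image (fun g : G => p.comap (σ g)) = O from rfl, Finset.sum_congr rfl hconst,
        Finset.sum_const, smul_eq_mul, Finset.card_univ, ← Nat.card_eq_fintype_card] at hsum
      have hOpos : 0 < O.card := Finset.card_pos.mpr ⟨P, hP⟩
      have h3 : O.card * (Finset.univ.filter fun g : G => p.comap (σ g) = P).card ≤ O.card * n := by
        rw [← hsum, mul_comm O.card n]; exact hn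
      exact Nat.le_of_mul_le_mul_left h3 hOpos
    have hNdvd : N ∣ algebraMap B A x := by
      have hre : N = ∏ g : G, σ g⁻¹ ρ := Fintype.prod_equiv (Equiv.inv G) _ _ fun g => by simp
      have hmaps : ∀ g ∈ (Finset.univ : Finset G), (Ideal.span {σ g⁻¹ ρ} : Ideal A) ∈ O := fun g _ => by
        refine Finset.mem_image.mpr ⟨g, Finset.mem_univ _, ?_⟩
        ext a
        rw [Ideal.mem_comap, hspan, Ideal.mem_span_singleton, Ideal.mem_span_singleton]
        refine ⟨fun h => ?_, fun h => ?_⟩
        · have := map_dvd (σ g⁻¹) h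
          rwa [show σ g⁻¹ (σ g a) = a from inv_smul_smul g a] at this
        · have := map_dvd (σ g) h
          rwa [show σ g (σ g⁻¹ ρ) = ρ from smul_inv_smul g ρ] at this
      rw [hre, ← Finset.prod_fiberwise_of_maps_to hmaps, hy]
      refine Dvd.dvd.mul_right ?_ y
      show _ ∣ (∏ P ∈ O, gen P) ^ n
      rw [← Finset.prod_pow]
      refine Finset.prod_dvd_prod_of_dvd _ _ fun P hP => ?_
      refine (Finset.prod_dvd_prod_of_dvd _ (fun _ => gen P) fun g hg => ?_).trans ?_
      · have h2 := (Finset.mem_filter.mp hg).2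
        rw [(hgen P hP).1, Ideal.span_singleton_eq_span_singleton] at h2
        exact h2.dvd
      · rw [Finset.prod_const]
        exact pow_dvd_pow _ (hfib P hP)
    obtain ⟨z, hz⟩ := hNdvd
    obtain ⟨b, hb⟩ := hfix z fun g => by
      have h1 := congrArg (fun a => g • a) hz
      simp only [smul_mul'] at h1
      rw [smul_algebraMap, hnorm ρ g] at h1
      exact mul_left_cancel₀ hN0 (h1.symm.trans hz)
    exact ⟨b, FaithfulSMul.algebraMap_injective B A (by rw [map_mul, hβ, hb, hz])⟩
  have hqspan : q = Ideal.span {β} := le_antisymm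
    (fun x hx => by obtain ⟨b, hb⟩ := hmain x hx; exact Ideal.mem_span_singleton.mpr ⟨b, hb.symm⟩)
    ((Ideal.span_singleton_le_iff_mem q).mpr hβq)
  refine ⟨⟨⟨β, hqspan.trans (Ideal.submodule_span_eq).symm⟩⟩, fun hreg => ?_⟩
  haveI := CA2H40.isNoetherianRing_of_finite_ext (FaithfulSMul.algebraMap_injective B A)
  haveI : IsLocalHom (algebraMap B A) :=
    RingHom.IsIntegral.isLocalHom (Algebra.IsIntegral.isIntegral) (FaithfulSMul.algebraMap_injective B A)
  haveI : IsLocalRing B := RingHom.domain_isLocalRing (algebraMap B A)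
  have hmem : β ∈ IsLocalRing.maximalIdeal B := IsLocalRing.le_maximalIdeal ‹q.IsPrime›.ne_top hβq
  have hβ0 : β ≠ 0 := fun h => hqne (by rw [hqspan, h, Ideal.span_singleton_eq_bot.mpr rfl])
  have hreg' : IsSMulRegular B β := fun a b h => mul_left_cancel₀ hβ0 h
  refine IsRegularLocalRing.of_spanFinrank_maximalIdeal_le _ ?_
  have hdimB := ringKrullDim_quotient_span_singleton_succ_eq_ringKrullDim hreg' hmem
  rw [← hdimB, ← hqspan, ← IsRegularLocalRing.spanFinrank_maximalIdeal (R := B ⧸ q)]
  have hsur : Function.Surjective (Ideal.Quotient.mk q) := Ideal.Quotient.mk_surjective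
  obtain ⟨s, hscard, hsspan⟩ := Submodule.FG.exists_span_finset_card_eq_spanFinrank
    (IsNoetherian.noetherian (IsLocalRing.maximalIdeal (B ⧸ q)))
  choose lift hlift using hsur
  have hle : IsLocalRing.maximalIdeal B ≤ Ideal.span ((insert β (s.image lift) : Finset B) : Set B) := by
    intro a ha
    have h1 : Ideal.Quotient.mk q a ∈ Ideal.span (s : Set (B ⧸ q)) := by
      change Ideal.Quotient.mk q a ∈ Submodule.span (B ⧸ q) (s : Set (B ⧸ q))
      rw [hsspan, ← IsLocalRing.map_maximalIdeal_of_surjective (Ideal.Quotient.mk q) Ideal.Quotient.mk_surjective]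
      exact Ideal.mem_map_of_mem _ ha
    have h2 : Ideal.span (s : Set (B ⧸ q)) ≤ (Ideal.span ((s.image lift : Finset B) : Set B)).map (Ideal.Quotient.mk q) := by
      rw [Ideal.span_le]
      intro z hz
      exact hlift z ▸ Ideal.mem_map_of_mem _ (Ideal.subset_span (Finset.mem_coe.mpr (Finset.mem_image_of_mem _ hz)))
    obtain ⟨z, hz, hza⟩ := (Ideal.mem_map_iff_of_surjective _ Ideal.Quotient.mk_surjective).mp (h2 h1)
    have h3 : a - z ∈ Ideal.span {β} := hqspan ▸ Ideal.Quotient.eq.mp hza.symm
    rw [Finset.coe_insert, Ideal.span_insert, ← sub_add_cancel a z]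
    exact add_mem (Submodule.mem_sup_left h3) (Submodule.mem_sup_right hz)
  have hmax : IsLocalRing.maximalIdeal B = Ideal.span ((insert β (s.image lift) : Finset B) : Set B) := by
    refine le_antisymm hle (Ideal.span_le.mpr fun z hz => ?_)
    rcases Finset.mem_insert.mp hz with rfl | hz
    · exact hmem
    · obtain ⟨w, hw, rfl⟩ := Finset.mem_image.mp hz
      by_contra hu
      have hu' := (IsLocalRing.notMem_maximalIdeal.mp hu).map (Ideal.Quotient.mk q)
      rw [hlift] at hu'
      exact (IsLocalRing.mem_maximalIdeal w).mp (hsspan.le (Submodule.subset_span hw)) hu'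
  have hcnt : (IsLocalRing.maximalIdeal B).spanFinrank ≤ (IsLocalRing.maximalIdeal (B ⧸ q)).spanFinrank + 1 := by
    rw [hmax, ← hscard]
    refine (Submodule.spanFinrank_span_le_ncard_of_finite (Finset.finite_toSet _)).trans ?_
    rw [Set.ncard_coe_finset]
    exact (Finset.card_insert_le _ _).trans (Nat.add_le_add_right Finset.card_image_le 1)
  exact_mod_cast hcnt

end Groth.Agent.S16547
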