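import Groth.Statements.S16551
import Groth.Agent.ModX56.FiniteNormal
-- import your own Groth.Agent.* helpers here

set_option autoImplicit false
universe u
open CategoryTheory CategoryTheory.Limits AlgebraicGeometry
open Models

namespace Groth.Agent.S16551

/-- Let R be a discrete valuation ring, W and Z integral normal schemes which are flat, of finite type
and of dimension 2 over Spec R, and ψ : W -> Z a finite surjective R-morphism. Let z be a closed
point of Z lying in the special fibre, w a point of W with ψ(w) = z, and Δ an irreducible component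
of the special fibre of Z with z ∈ Δ. Then some irreducible component Γ of the special fibre of W
contains w and satisfies ψ(Γ) = Δ. (The published statement asks W and Z only to be normal; they are
taken integral as well here.) -/
theorem result
    (R : Type u) [CommRing R] [IsDomain R] [IsDiscreteValuationRing R]
    (W Z : Over (Spec (CommRingCat.of R))) [IsIntegral W.left] [IsIntegral Z.left]
    (hWn : Pi1.IsNormalScheme W.left) (hZn : Pi1.IsNormalScheme Z.left)
    [Flat W.hom] [LocallyOfFiniteType W.hom] [QuasiCompact W.hom]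
    [Flat Z.hom] [LocallyOfFiniteType Z.hom] [QuasiCompact Z.hom]
    (hdW : topologicalKrullDim W.left = 2) (hdZ : topologicalKrullDim Z.left = 2)
    (ψ : W ⟶ Z) [IsFinite ψ.left] [Surjective ψ.left]
    (z : Z.left) (hzc : IsClosed ({z} : Set Z.left)) (hz : z ∈ Models.specialFibreSet R Z)
    (w : W.left) (hw : ψ.left.base w = z)
    (Δ : Set Z.left) (hΔ : Δ ∈ Models.fibreComponents R Z) (hzΔ : z ∈ Δ) :
    ∃ Γ ∈ Models.fibreComponents R W, w ∈ Γ ∧ ψ.left.base '' Γ = Δ := by
  have hψ : ∀ a : W.left, Z.hom.base (ψ.left.base a) = W.hom.base a := fun a => by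
    show (ψ.left ≫ Z.hom) a = _
    rw [Over.w]
  obtain ⟨δ, hδ⟩ := QuasiSober.sober hΔ.1.1 (by
    rw [← closure_eq_iff_isClosed]
    exact (hΔ.2 ⟨hΔ.1.1.closure, (Models.isClosed_specialFibreSet R Z).closure_subset_iff.2 hΔ.1.2⟩
      subset_closure).antisymm subset_closure)
  have hδz : δ ⤳ ψ.left.base w := by rw [hw]; exact hδ.specializes hzΔ
  obtain ⟨γ, hγw, hγ⟩ := Groth.Agent.ModX56.exists_specializes_lift ψ.left hZn w hδz
  have hγs : γ ∈ Models.specialFibreSet R W := by
    show W.hom.base γ ∈ ({IsLocalRing.closedPoint R} : Set (Spec (CommRingCat.of R)))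
    rw [← hψ, hγ]
    exact hΔ.1.2 hδ.mem
  have himg : ψ.left.base '' closure {γ} = Δ := by
    rw [← ψ.left.isClosedMap.closure_image_eq_of_continuous ψ.left.continuous, Set.image_singleton, hγ]
    exact hδ
  refine ⟨closure {γ}, ⟨⟨isIrreducible_singleton.closure,
    (Models.isClosed_specialFibreSet R W).closure_subset_iff.2 (Set.singleton_subset_iff.2 hγs)⟩,
    fun S hS hle => ?_⟩, specializes_iff_mem_closure.1 hγw, himg⟩
  have hScl : IsIrreducible (closure S) ∧ closure S ⊆ Models.specialFibreSet R W :=
    ⟨hS.1.closure, (Models.isClosed_specialFibreSet R W).closure_subset_iff.2 hS.2⟩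
  obtain ⟨σ, hσ⟩ := QuasiSober.sober hScl.1 isClosed_closure
  have hσγ : σ ⤳ γ := hσ.specializes (subset_closure (hle (subset_closure rfl)))
  have hσim : ψ.left.base σ = δ := by
    have h1 : IsIrreducible (ψ.left.base '' closure S) := hScl.1.image _ ψ.left.continuous.continuousOn
    have h2 : ψ.left.base '' closure S ⊆ Models.specialFibreSet R Z := by
      rintro _ ⟨a, ha, rfl⟩
      show Z.hom.base (ψ.left.base a) ∈ ({IsLocalRing.closedPoint R} : Set (Spec (CommRingCat.of R)))
      rw [hψ]
      exact hScl.2 ha
    have h3 : Δ ⊆ ψ.left.base '' closure S := by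
      rw [← himg]
      exact Set.image_mono (closure_minimal (Set.singleton_subset_iff.2 (subset_closure (hle (subset_closure rfl)))) isClosed_closure)
    have h4 : ψ.left.base '' closure S = Δ := (hΔ.2 ⟨h1, h2⟩ h3).antisymm h3
    exact ((hσ.image ψ.left.continuous).eq (by rwa [ψ.left.isClosedMap.closure_image_eq_of_continuous ψ.left.continuous, closure_closure, h4]))
  have : σ = γ := Groth.Agent.ModX56.eq_of_specializes_of_isIntegralHom ψ.left hσγ (hσim.trans hγ.symm)
  subst this
  exact fun a ha => hσ.specializes (subset_closure ha) |> specializes_iff_mem_closure.1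

end Groth.Agent.S16551
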