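import Groth.Statements.S16572
import Mathlib
-- import your own Groth.Agent.* helpers here

set_option autoImplicit false
universe u
open CAlg

namespace Groth.Agent.S16572

open Polynomial in
lemma residue_aux {A T : Type u} [CommRing A] [CommRing T] [Algebra A T] [Algebra.IsIntegral A T]
    (hroot : ∀ q : A[X], q.Monic → 0 < q.natDegree → ∃ t : T, aeval t q = 0)
    (Q : Ideal T) [Q.IsPrime] :
    IsAlgClosed Q.ResidueField ∧
      (Ideal.ResidueField.map (Q.comap (algebraMap A T)) Q (algebraMap A T) rfl).IsIntegral := by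
  classical
  set p := Q.comap (algebraMap A T) with hp
  set F := p.ResidueField
  set E := Q.ResidueField
  set ρ := Ideal.ResidueField.map p Q (algebraMap A T) rfl with hρ
  letI : Algebra F E := ρ.toAlgebra
  haveI : IsScalarTower A F E := IsScalarTower.of_algebraMap_eq fun a => by
    rw [RingHom.algebraMap_toAlgebra, hρ, Ideal.ResidueField.map_algebraMap]
    exact IsScalarTower.algebraMap_apply A T E a
  have hT : ∀ t : T, IsIntegral F (algebraMap T E t) := fun t =>
    IsIntegral.tower_top ((Algebra.IsIntegral.isIntegral (R := A) t).algebraMap)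
  have hE : Algebra.IsIntegral F E := ⟨fun x => by
    obtain ⟨a, b, hb, rfl⟩ := IsFractionRing.div_surjective (T ⧸ Q) x
    obtain ⟨a, rfl⟩ := Ideal.Quotient.mk_surjective a
    obtain ⟨b, rfl⟩ := Ideal.Quotient.mk_surjective b
    rw [div_eq_mul_inv]
    exact (hT a).mul ((hT b).inv)⟩
  haveI : Algebra.IsAlgebraic F E := Algebra.IsIntegral.isAlgebraic
  refine ⟨?_, hE.isIntegral⟩
  suffices h : ∀ g : F[X], g.Monic → Irreducible g → ∃ x : E, aeval x g = 0 from
    (IsAlgClosure.of_exists_root h).isAlgClosed
  intro g hg hirr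
  obtain ⟨⟨s, hs⟩, hint⟩ := IsLocalization.exist_integer_multiples_of_finset (nonZeroDivisors (A ⧸ p))
    ((Finset.range g.natDegree).image g.coeff)
  obtain ⟨s, rfl⟩ := Ideal.Quotient.mk_surjective s
  set S : F := algebraMap A F s with hS
  have hS' : algebraMap (A ⧸ p) F (Ideal.Quotient.mk p s) = S := rfl
  have hS0 : S ≠ 0 := by
    rw [← hS']; exact IsFractionRing.to_map_ne_zero_of_mem_nonZeroDivisors hs
  have hlift : g.scaleRoots S ∈ lifts (algebraMap A F) := by
    rw [lifts_iff_coeff_lifts]
    intro i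
    rw [coeff_scaleRoots]
    rcases lt_trichotomy i g.natDegree with hi | hi | hi
    · obtain ⟨b, hb⟩ := hint (g.coeff i) (Finset.mem_image.mpr ⟨i, Finset.mem_range.mpr hi, rfl⟩)
      obtain ⟨b, rfl⟩ := Ideal.Quotient.mk_surjective b
      refine ⟨b * s ^ (g.natDegree - i - 1), ?_⟩
      have hb' : algebraMap A F b = S * g.coeff i := by
        refine (show algebraMap A F b = algebraMap (A ⧸ p) F (Ideal.Quotient.mk p b) from rfl).trans (hb.trans ?_)
        rw [Algebra.smul_def]; rfl
      rw [map_mul, map_pow, hb', ← hS, show g.natDegree - i = (g.natDegree - i - 1) + 1 by omega,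
        Nat.add_sub_cancel, pow_succ]
      ring
    · exact ⟨1, by rw [hi, hg.coeff_natDegree]; simp⟩
    · exact ⟨0, by rw [coeff_eq_zero_of_natDegree_lt hi]; simp⟩
  obtain ⟨q, hq, hdeg, hqm⟩ := lifts_and_degree_eq_and_monic hlift ((monic_scaleRoots_iff S).mpr hg)
  have hn : 0 < q.natDegree := by
    rw [natDegree_eq_of_degree_eq hdeg, natDegree_scaleRoots]
    exact hirr.natDegree_pos
  obtain ⟨t, ht⟩ := hroot q hqm hn
  have h0 : aeval (algebraMap T E t) (g.scaleRoots S) = 0 := by
    rw [← hq, aeval_map_algebraMap, aeval_algebraMap_apply, ht, map_zero]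
  have hSE : algebraMap F E S ≠ 0 := (_root_.map_ne_zero _).mpr hS0
  refine ⟨(algebraMap F E S)⁻¹ * algebraMap T E t, ?_⟩
  rw [aeval_def, ← mul_right_inj' (pow_ne_zero g.natDegree hSE), mul_zero, ← scaleRoots_eval₂_mul,
    ← mul_assoc, mul_inv_cancel₀ hSE, one_mul]
  exact h0

/-- Let A be a commutative ring and T the quotient of the polynomial ring over A in indeterminates X_P,
one for each monic polynomial P over A of positive degree, by the ideal generated by the elements
P(X_P). Then the map on prime spectra Spec T → Spec A is surjective, and for every prime ideal Q of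
T, with p its contraction to A, the residue field of Q is algebraically closed and integral over the
residue field of p under the induced map of residue fields (so it is an algebraic closure of it). -/
theorem result (A : Type u) [CommRing A] :
    Function.Surjective (PrimeSpectrum.comap (algebraMap A (MvPolynomial {P : Polynomial A // P.Monic ∧ 0 < P.natDegree} A ⧸
      Ideal.span (Set.range fun P : {P : Polynomial A // P.Monic ∧ 0 < P.natDegree} =>
        Polynomial.aeval (MvPolynomial.X (R := A) P) P.1)))) ∧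
    ∀ (Q : Ideal (MvPolynomial {P : Polynomial A // P.Monic ∧ 0 < P.natDegree} A ⧸
      Ideal.span (Set.range fun P : {P : Polynomial A // P.Monic ∧ 0 < P.natDegree} =>
        Polynomial.aeval (MvPolynomial.X (R := A) P) P.1))) [Q.IsPrime],
      IsAlgClosed Q.ResidueField ∧
      (Ideal.ResidueField.map (Q.comap (algebraMap A (MvPolynomial {P : Polynomial A // P.Monic ∧ 0 < P.natDegree} A ⧸
      Ideal.span (Set.range fun P : {P : Polynomial A // P.Monic ∧ 0 < P.natDegree} =>
        Polynomial.aeval (MvPolynomial.X (R := A) P) P.1)))) Q (algebraMap A (MvPolynomial {P : Polynomial A // P.Monic ∧ 0 < P.natDegree} A ⧸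
      Ideal.span (Set.range fun P : {P : Polynomial A // P.Monic ∧ 0 < P.natDegree} =>
        Polynomial.aeval (MvPolynomial.X (R := A) P) P.1))) rfl).IsIntegral := by
  classical
  let ι := {P : Polynomial A // P.Monic ∧ 0 < P.natDegree}
  let J : Ideal (MvPolynomial ι A) := Ideal.span (Set.range fun P : ι => Polynomial.aeval (MvPolynomial.X (R := A) P) P.1)
  have hX : ∀ P : ι, Polynomial.aeval (Ideal.Quotient.mkₐ A J (MvPolynomial.X P)) P.1 = 0 := fun P => by
    rw [Polynomial.aeval_algHom_apply]
    exact Ideal.Quotient.eq_zero_iff_mem.mpr (Ideal.subset_span ⟨P, rfl⟩)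
  haveI : Algebra.IsIntegral A (MvPolynomial ι A ⧸ J) := ⟨fun x => by
    obtain ⟨f, rfl⟩ := Ideal.Quotient.mk_surjective x
    induction f using MvPolynomial.induction_on with
    | C a => exact isIntegral_algebraMap
    | add f g hf hg => rw [map_add]; exact hf.add hg
    | mul_X f P hf => rw [map_mul]; exact hf.mul ⟨P.1, P.2.1, hX P⟩⟩
  refine ⟨fun p => ?_, fun Q _ => residue_aux (fun q hq hd => ⟨_, hX ⟨q, hq, hd⟩⟩) Q⟩
  haveI : Nontrivial A := PrimeSpectrum.nonempty_iff_nontrivial.mp ⟨p⟩
  let K := AlgebraicClosure p.asIdeal.ResidueField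
  have hz : ∀ P : ι, ∃ z : K, Polynomial.aeval z P.1 = 0 := fun P => by
    obtain ⟨z, hz⟩ := IsAlgClosed.exists_root (P.1.map (algebraMap A K)) (by
      rw [P.2.1.degree_map, Polynomial.degree_eq_natDegree P.2.1.ne_zero]
      exact_mod_cast P.2.2.ne')
    exact ⟨z, by rwa [Polynomial.IsRoot, Polynomial.eval_map, ← Polynomial.aeval_def] at hz⟩
  choose z hz using hz
  let ψ : MvPolynomial ι A →ₐ[A] K := MvPolynomial.aeval z
  have hψ : ∀ f ∈ J, ψ f = 0 := by
    intro f hf
    have : J ≤ RingHom.ker ψ := Ideal.span_le.mpr (by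
      rintro _ ⟨P, rfl⟩
      rw [SetLike.mem_coe, RingHom.mem_ker, ← Polynomial.aeval_algHom_apply]
      simpa [ψ] using hz P)
    exact this hf
  let φ : MvPolynomial ι A ⧸ J →ₐ[A] K := Ideal.Quotient.liftₐ J ψ hψ
  refine ⟨⟨RingHom.ker φ, RingHom.ker_isPrime φ⟩, PrimeSpectrum.ext ?_⟩
  show Ideal.comap (algebraMap A (MvPolynomial ι A ⧸ J)) (RingHom.ker φ.toRingHom) = p.asIdeal
  rw [RingHom.comap_ker, AlgHom.toRingHom_eq_coe, AlgHom.comp_algebraMap,
    IsScalarTower.algebraMap_eq A p.asIdeal.ResidueField K,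
    RingHom.ker_comp_of_injective _ (algebraMap p.asIdeal.ResidueField K).injective,
    Ideal.ker_algebraMap_residueField]

end Groth.Agent.S16572
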