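import Groth.Statements.S16574
import Groth.Agent.CohH33.FiniteExtend

set_option autoImplicit false
universe u
open CategoryTheory AlgebraicGeometry
open AffSch

namespace Groth.Agent.S16574

/-- Let A be a commutative ring, U a quasi-compact open subscheme of Spec A and U' → U a finite
morphism. Then there exist a finite A-algebra B and a morphism U' → Spec B such that the square
formed by U' → U, U' → Spec B, Spec B → Spec A and the inclusion of U is cartesian; in particular U'
→ Spec B is the open immersion of the preimage of U. (If U contains the complement of the closed set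
of an ideal I then this preimage contains the complement of the closed set of IB; that clause is
automatic and omitted.) -/
theorem result
    (A : Type u) [CommRing A] (U : (Spec (CommRingCat.of A)).Opens) (hU : IsCompact (U : Set (Spec (CommRingCat.of A))))
    (U' : Scheme.{u}) (g : U' ⟶ (U : Scheme.{u})) [IsFinite g] :
    ∃ (B : Type u) (_ : CommRing B) (_ : Algebra A B) (i : U' ⟶ Spec (CommRingCat.of B)),
      Module.Finite A B ∧ IsPullback i g (Spec.map (CommRingCat.ofHom (algebraMap A B))) U.ι := by
  classical
  obtain ⟨B, _, _, i, hB, hpb⟩ := Groth.Agent.CohH33.exists_finite_extend hU g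
  letI : Algebra A Γ(Spec (CommRingCat.of A), ⊤) := (Scheme.ΓSpecIso (CommRingCat.of A)).inv.hom.toAlgebra
  letI : Algebra A B := ((algebraMap Γ(Spec (CommRingCat.of A), ⊤) B).comp
    (Scheme.ΓSpecIso (CommRingCat.of A)).inv.hom).toAlgebra
  haveI : IsScalarTower A Γ(Spec (CommRingCat.of A), ⊤) B := IsScalarTower.of_algebraMap_eq fun _ => rfl
  haveI : Module.Finite A Γ(Spec (CommRingCat.of A), ⊤) :=
    (RingHom.Finite.of_surjective _ (ConcreteCategory.bijective_of_isIso (Scheme.ΓSpecIso (CommRingCat.of A)).inv).2 :
      (Scheme.ΓSpecIso (CommRingCat.of A)).inv.hom.Finite)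
  refine ⟨B, inferInstance, inferInstance, i, Module.Finite.trans Γ(Spec (CommRingCat.of A), ⊤) B, ?_⟩
  convert hpb using 2
  rw [Scheme.isoSpec_Spec_inv, ← Spec.map_comp]
  rfl

end Groth.Agent.S16574
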