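import Groth.Statements.S16612
import Groth.Agent.Sga3xB.Subtori
-- import your own Groth.Agent.* helpers here

set_option autoImplicit false
open CategoryTheory MonoidalCategory CartesianMonoidalCategory MonObj GrpObj AlgebraicGeometry
universe u
open SGA3x

set_option linter.style.haveILetI false

namespace Groth.Agent.S16612

/-- Let S be a connected scheme and G an S-group of finite multiplicative type. Then G admits a unique
maximal split subtorus; equivalently, since split subtori form a directed family, a greatest one: a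
monomorphism T ⟶ G from a split torus T ≅ D_S(ℤ^r) through which every split subtorus T' ⟶ G of G
factors. -/
theorem result {S : Scheme.{u}} [ConnectedSpace ↥S]
    {G : Over S} [GrpObj G] (hG : SGA3x.IsMultTypeFT G) :
    ∃ (T : Over S) (_ : GrpObj T) (j : T ⟶ G) (r : ℕ), IsMonHom j ∧ Mono j ∧ Red.IsSplitTorusWith (Fin r → ℤ) T ∧
      ∀ (T' : Over S) [GrpObj T'] (j' : T' ⟶ G) [IsMonHom j'] [Mono j'] (r' : ℕ),
        Red.IsSplitTorusWith (Fin r' → ℤ) T' → ∃ g : T' ⟶ T, g ≫ j = j' := by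
  classical
  let s0 : S := Classical.arbitrary _
  obtain ⟨N, hN⟩ := Sga3xB.exists_rank_bound hG s0
  let R : ℕ → Prop := fun r => ∃ (T : Over S) (_ : GrpObj T) (j : T ⟶ G), IsMonHom j ∧ Mono j ∧
    Red.IsSplitTorusWith (Fin r → ℤ) T
  obtain ⟨j0, hj0, hm0, hT0⟩ := Sga3xB.exists_trivial_subtorus G
  have hR0 : R 0 := ⟨_, inferInstance, j0, hj0, hm0, hT0⟩
  obtain ⟨T, sT, j, hj, hm, hT⟩ : R (Nat.findGreatest R N) := Nat.findGreatest_spec (Nat.zero_le N) hR0
  refine ⟨T, sT, j, _, hj, hm, hT, fun T' _ j' _ _ r' hT' => ?_⟩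
  obtain ⟨E, sE, k, g₁, g₂, q, hk, hkm, hg₁, hE, e₁, e₂⟩ := Sga3xB.exists_split_ge_of_two hG j j' hT hT'
  letI := sE
  haveI := hk
  haveI := hkm
  haveI := hg₁
  haveI : Mono (g₁ ≫ k) := e₁ ▸ hm
  haveI : Mono g₁ := mono_of_mono g₁ k
  have hE' := Sga3xB.locSplit_of_isSplit hE
  have hle : q ≤ Nat.findGreatest R N :=
    Nat.le_findGreatest (hN E k q hE' (Sga3xB.hasRank_of_isSplit hE s0)) ⟨E, sE, k, hk, hkm, hE⟩
  haveI := Sga3xB.isIso_of_mono_of_rank_le (Sga3xB.locSplit_of_isSplit hT) hE' g₁ fun s r r'' h h' => by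
    rw [Sga3xB.hasRank_unique h (Sga3xB.hasRank_of_isSplit hT s),
      Sga3xB.hasRank_unique h' (Sga3xB.hasRank_of_isSplit hE s)]
    exact hle
  exact ⟨g₂ ≫ inv g₁, by rw [Category.assoc, IsIso.inv_comp_eq g₁ |>.mpr e₁.symm, e₂]⟩

end Groth.Agent.S16612
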