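import Groth.Statements.S16614
import Groth.Agent.Sga3xB.Subtori
-- import your own Groth.Agent.* helpers here

set_option autoImplicit false
open CategoryTheory MonoidalCategory CartesianMonoidalCategory MonObj GrpObj AlgebraicGeometry
universe u
open SGA3x

set_option linter.style.haveILetI false

namespace Groth.Agent.S16614

/-- Over an arbitrary scheme S, an S-group G of finite multiplicative type admits a maximal split
subtorus: a monomorphism T ⟶ G from a split torus T ≅ D_S(ℤ^r) which is maximal among split subtori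
(if T factors through a split subtorus T' ⟶ G then the factoring morphism is an isomorphism). -/
theorem result {S : Scheme.{u}} {G : Over S} [GrpObj G]
    (hG : SGA3x.IsMultTypeFT G) :
    ∃ (T : Over S) (_ : GrpObj T) (j : T ⟶ G) (r : ℕ), IsMonHom j ∧ Mono j ∧ Red.IsSplitTorusWith (Fin r → ℤ) T ∧
      ∀ (T' : Over S) [GrpObj T'] (j' : T' ⟶ G) [IsMonHom j'] [Mono j'] (r' : ℕ) (g : T ⟶ T'),
        Red.IsSplitTorusWith (Fin r' → ℤ) T' → g ≫ j' = j → IsIso g := by
  classical
  let R : ℕ → Prop := fun r => ∃ (T : Over S) (_ : GrpObj T) (j : T ⟶ G), IsMonHom j ∧ Mono j ∧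
    Red.IsSplitTorusWith (Fin r → ℤ) T
  obtain ⟨j0, hj0, hm0, hT0⟩ := Sga3xB.exists_trivial_subtorus G
  have hR0 : R 0 := ⟨_, inferInstance, j0, hj0, hm0, hT0⟩
  rcases isEmpty_or_nonempty ↥S with hS | ⟨⟨s0⟩⟩
  · refine ⟨_, inferInstance, j0, 0, hj0, hm0, hT0, fun T' _ j' _ _ r' g _ hg => ?_⟩
    haveI : IsEmpty ↥T'.left := Function.isEmpty T'.hom
    haveI : IsIso g.left := isIso_of_isEmpty g.left
    haveI : IsIso ((Over.forget S).map g) := ‹IsIso g.left›
    exact isIso_of_reflects_iso g (Over.forget S)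
  obtain ⟨N, hN⟩ := Sga3xB.exists_rank_bound hG s0
  obtain ⟨T, sT, j, hj, hm, hT⟩ : R (Nat.findGreatest R N) := Nat.findGreatest_spec (Nat.zero_le N) hR0
  refine ⟨T, sT, j, _, hj, hm, hT, fun T' _ j' _ _ r' g hT' hg => ?_⟩
  haveI : Mono (g ≫ j') := hg ▸ hm
  haveI : Mono g := mono_of_mono g j'
  haveI := hj
  haveI : IsMonHom g := Sga3xB.isMonHom_of_comp_mono g j' (hg ▸ hj)
  have hT'' := Sga3xB.locSplit_of_isSplit hT'
  have hle : r' ≤ Nat.findGreatest R N :=
    Nat.le_findGreatest (hN T' j' r' hT'' (Sga3xB.hasRank_of_isSplit hT' s0))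
      ⟨T', inferInstance, j', inferInstance, inferInstance, hT'⟩
  exact Sga3xB.isIso_of_mono_of_rank_le (Sga3xB.locSplit_of_isSplit hT) hT'' g fun s r r'' h h' => by
    rw [Sga3xB.hasRank_unique h (Sga3xB.hasRank_of_isSplit hT s),
      Sga3xB.hasRank_unique h' (Sga3xB.hasRank_of_isSplit hT' s)]
    exact hle

end Groth.Agent.S16614
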