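import Groth.Statements.S16620
import Groth.Agent.Sga3xB.Subtori
-- import your own Groth.Agent.* helpers here

set_option autoImplicit false
open CategoryTheory MonoidalCategory CartesianMonoidalCategory MonObj GrpObj AlgebraicGeometry
universe u
open SGA3x

set_option linter.style.haveILetI false

namespace Groth.Agent.S16620

/-- Let S be a connected, normal, locally Noetherian scheme, T an S-torus and T₀ ⟶ T its unique maximal
split subtorus, i.e. a split subtorus through which every split subtorus of T factors. Then every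
cocharacter λ : 𝔾_m ⟶ T over S factors through T₀; this is the equality X_*(T₀)(S) = X_*(T)(S) of
groups of cocharacters defined over S. -/
theorem result {S : Scheme.{u}} [ConnectedSpace ↥S]
    [IsLocallyNoetherian S] (hnorm : ∀ x : ↥S, IsDomain (S.presheaf.stalk x) ∧ IsIntegrallyClosed (S.presheaf.stalk x))
    {T T₀ : Over S} [GrpObj T] [GrpObj T₀] (hT : Red.IsTorus T) (j₀ : T₀ ⟶ T) [IsMonHom j₀] [Mono j₀] (r₀ : ℕ)
    (hT₀ : Red.IsSplitTorusWith (Fin r₀ → ℤ) T₀)
    (hmax : ∀ (T' : Over S) [GrpObj T'] (j' : T' ⟶ T) [IsMonHom j'] [Mono j'] (r' : ℕ),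
      Red.IsSplitTorusWith (Fin r' → ℤ) T' → ∃ g : T' ⟶ T₀, g ≫ j₀ = j')
    (lam : Red.Gm S ⟶ T) [IsMonHom lam] : ∃ mu : Red.Gm S ⟶ T₀, mu ≫ j₀ = lam := by
  have hM := Sga3xB.isMultTypeFT_of_isTorus hT
  haveI := Sga3xB.isAffineHom_of_isMultTypeFT hM
  haveI := MultTransp18.lfp_multTypeFT hM
  obtain ⟨V, hsV, hVc, L, h, hh, hhm, hfac⟩ := Sga3xB.exists_clopen_image lam (Classical.arbitrary _)
  have hV : V = ⊤ := SetLike.coe_injective
    ((IsClopen.eq_univ ⟨hVc, V.2⟩ ⟨_, hsV⟩).trans (TopologicalSpace.Opens.coe_top).symm)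
  obtain ⟨h', hh', hhm', hfac'⟩ := Sga3xB.descend_top hV L h hfac
  haveI := Sga3xB.addGroupFG_subgroup L
  haveI : Module.Finite ℤ L := Module.Finite.iff_addGroup_fg.mpr inferInstance
  obtain ⟨e⟩ := Sga3xB.dsGrpIso (S := S) (Module.finBasis ℤ L).equivFun.toAddEquiv.symm
  obtain ⟨g, hg⟩ := hmax (Red.DS S L) h' _ ⟨e⟩
  exact ⟨Red.DSmap S L.subtype ≫ g, by rw [Category.assoc, hg, hfac']⟩

end Groth.Agent.S16620
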