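import Groth.Statements.S16621
import Groth.Agent.Sga3xB.CocharNormal
-- import your own Groth.Agent.* helpers here

set_option autoImplicit false
open CategoryTheory MonoidalCategory CartesianMonoidalCategory MonObj GrpObj AlgebraicGeometry
universe u
open SGA3x

set_option linter.style.haveILetI false

namespace Groth.Agent.S16621

/-- Let S be a connected, normal, locally Noetherian scheme, T an S-torus and T₀ ⟶ T its unique maximal
split subtorus (a split subtorus through which every split subtorus of T factors). Then T₀ is also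
the unique maximal locally split subtorus of T: every subtorus T₁ ⟶ T which is split Zariski-locally
on S factors through T₀. (Without normality this fails.) -/
theorem result {S : Scheme.{u}} [ConnectedSpace ↥S]
    [IsLocallyNoetherian S] (hnorm : ∀ x : ↥S, IsDomain (S.presheaf.stalk x) ∧ IsIntegrallyClosed (S.presheaf.stalk x))
    {T T₀ T₁ : Over S} [GrpObj T] [GrpObj T₀] [GrpObj T₁] (hT : Red.IsTorus T) (j₀ : T₀ ⟶ T) [IsMonHom j₀] [Mono j₀]
    (r₀ : ℕ) (hT₀ : Red.IsSplitTorusWith (Fin r₀ → ℤ) T₀)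
    (hmax : ∀ (T' : Over S) [GrpObj T'] (j' : T' ⟶ T) [IsMonHom j'] [Mono j'] (r' : ℕ),
      Red.IsSplitTorusWith (Fin r' → ℤ) T' → ∃ g : T' ⟶ T₀, g ≫ j₀ = j')
    (j₁ : T₁ ⟶ T) [IsMonHom j₁] [Mono j₁]
    (hT₁ : ∀ s : ↥S, ∃ U : S.Opens, s ∈ U ∧ ∃ r : ℕ, Red.IsSplitTorusWith (Fin r → ℤ) (Red.bc U.ι T₁)) :
    ∃ g : T₁ ⟶ T₀, g ≫ j₀ = j₁ := by
  haveI := Sga3xB.isIntegral_of_connected_locallyNoetherian (S := S) (fun x => (hnorm x).1)
  have hM := Sga3xB.isMultTypeFT_of_isTorus hT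
  refine Sga3xB.exists_lift_of_local j₀ j₁ fun s => ?_
  obtain ⟨U, hs, r, ⟨e⟩⟩ := hT₁ s
  haveI : Nonempty (U : Scheme.{u}) := ⟨⟨s, hs⟩⟩
  haveI : IsMonHom e.inv.hom.hom := e.inv.hom.isMonHom_hom
  haveI := Sga3xB.isMonHom_bcHom (S := S) (M := Fin r → ℤ) U.ι
  obtain ⟨v, hv, hvw⟩ := Sga3xB.exists_extension_of_open hnorm hM U
    (Sga3xB.bcHom U.ι (Fin r → ℤ) ≫ e.inv.hom.hom ≫ (Over.pullback U.ι).map j₁)
  haveI := hv
  obtain ⟨v₀, hv₀⟩ := Sga3xB.exists_lift_greatest hM j₀ hmax v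
  refine ⟨U, hs, e.hom.hom.hom ≫ Sga3xB.bcInv U.ι (Fin r → ℤ) ≫ (Over.pullback U.ι).map v₀, ?_⟩
  have e3 : e.hom.hom.hom ≫ e.inv.hom.hom = 𝟙 _ := ((Grp.forget _).mapIso e).hom_inv_id
  rw [Category.assoc, Category.assoc, ← Functor.map_comp, hv₀, hvw, Sga3xB.bcInv_bcHom_assoc, ← Category.assoc, e3,
    Category.id_comp]

end Groth.Agent.S16621
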