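import Groth.Statements.S16638
import Groth.Agent.RedCell22.NoTorus

set_option autoImplicit false
open CategoryTheory MonoidalCategory CartesianMonoidalCategory MonObj GrpObj AlgebraicGeometry
universe u
open RedSub

namespace Groth.Agent.S16638

/-- Let G be a reductive group scheme over a scheme S with a splitting D, and let Ψ be a closed set of
roots (a, b ∈ Ψ with a + b a root forces a + b ∈ Ψ) containing no pair of opposite roots. Then the
root groups U_a, a ∈ Ψ, directly span, in any order, one and the same closed subgroup scheme U_Ψ of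
G: U_Ψ is smooth over S with connected geometric fibres containing no non-trivial subtorus, it is
normalised by the torus of the splitting, and for every enumeration of Ψ the ordered product of the
root homomorphisms is an isomorphism from a power of the additive group onto U_Ψ. -/
theorem result {S : Scheme.{u}} {G : Over S} [GrpObj G]
    (D : Red.SplitRed G) (Ψ : Set D.idx)
    (hcl : ∀ a b c : D.idx, a ∈ Ψ → b ∈ Ψ → D.P.root a + D.P.root b = D.P.root c → c ∈ Ψ)
    (hneg : ∀ a b : D.idx, a ∈ Ψ → D.P.root b = -D.P.root a → b ∉ Ψ) :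
    ∃ (U : Over S) (_ : GrpObj U) (v : U ⟶ G), IsMonHom v ∧ IsClosedImmersion v.left ∧ Smooth U.hom ∧
      (∀ s : S, ConnectedSpace (Red.geomFibre s U).left ∧
        Red.HasNoSubtorus (AlgebraicClosure (S.residueField s)) (Red.geomFibre s U)) ∧
      (∀ (X : Over S) (t : X ⟶ D.T) (x : X ⟶ U), ∃ x' : X ⟶ U, (t ≫ D.i) * (x ≫ v) * (t ≫ D.i)⁻¹ = x' ≫ v) ∧
      ∀ {m : ℕ} (e : Fin m → D.idx), RedSub.Enumerates Ψ e →
        ∃ ψ : RedSub.pow (Red.Ga S) m ≅ U, ψ.hom ≫ v = RedSub.prodMap (Red.Ga S) m (fun k => D.u (e k)) := by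
  classical
  haveI : IsAffineHom G.hom := Groth.Agent.RedCell22.isAffineHom_of_split D
  have h : Groth.Agent.RedCell22.IsClosedSet D.P Ψ := ⟨hcl, hneg⟩
  let g := Fintype.equivFin Ψ
  let e₀ : Fin (Fintype.card Ψ) → D.idx := fun k => (g.symm k).1
  have he : RedSub.Enumerates Ψ e₀ := by
    refine ⟨Subtype.val_injective.comp g.symm.injective, Set.ext fun a => ⟨?_, fun ha => ⟨g ⟨a, ha⟩, by simp [e₀]⟩⟩⟩
    rintro ⟨k, rfl⟩
    exact (g.symm k).2
  obtain ⟨inst, hW⟩ := Groth.Agent.RedCell22.exists_grpObj_of_closed h he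
  exact ⟨RedSub.pow (Red.Ga S) _, inst, RedSub.prodMap (Red.Ga S) _ fun k => D.u (e₀ k), hW,
    Groth.Agent.RedCell22.isClosedImmersion_prodMap_of_closed h he, inferInstance,
    fun s => ⟨Groth.Agent.RedCell22.connectedSpace_pow _ _, Groth.Agent.RedCell22.hasNoSubtorus_pow h he hW _⟩,
    fun X t x => Groth.Agent.RedCell22.exists_conj_torus h he X t x,
    fun {m} e hE => Groth.Agent.RedCell22.exists_iso_prodMap h he hE⟩

end Groth.Agent.S16638
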