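import Groth.Statements.S16652
import Groth.Agent.RedCell22.Levels

set_option autoImplicit false
open CategoryTheory MonoidalCategory CartesianMonoidalCategory MonObj GrpObj AlgebraicGeometry
universe u
open RedSub

namespace Groth.Agent.S16652

/-- With G a reductive group scheme over a scheme S with splitting D, Ψ a closed set of roots without
opposite pairs, λ ∈ M^∨ non-vanishing on the roots and positive on Ψ, and n ≥ 1, let U₁ ⊃ U₂ be the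
closed subgroups directly spanned by the root groups U_a (a ∈ Ψ) with λ(a) ≥ n, resp. λ(a) ≥ n + 1.
Then U₂ is normal in U₁, root groups U_a, U_b with λ(a) = λ(b) = n commute modulo U₂, and
multiplication (∏_{λ(a) = n} U_a) × U₂ → U₁ (product in any order) is an isomorphism of schemes;
thus U₁/U₂ is the vector group ∏_{λ(a)=n} U_a. -/
theorem result {S : Scheme.{u}} {G : Over S} [GrpObj G]
    (D : Red.SplitRed G) (Ψ : Set D.idx)
    (hcl : ∀ a b c : D.idx, a ∈ Ψ → b ∈ Ψ → D.P.root a + D.P.root b = D.P.root c → c ∈ Ψ)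
    (hneg : ∀ a b : D.idx, a ∈ Ψ → D.P.root b = -D.P.root a → b ∉ Ψ)
    (lam : Module.Dual ℤ D.M) (hlam : ∀ a : D.idx, lam (D.P.root a) ≠ 0) (hpos : ∀ a ∈ Ψ, 0 < lam (D.P.root a))
    (n : ℕ) (hn : 1 ≤ n)
    {U₁ U₂ : Over S} [GrpObj U₁] [GrpObj U₂] (v₁ : U₁ ⟶ G) (v₂ : U₂ ⟶ G) [IsMonHom v₁] [IsMonHom v₂]
    (hv₁ : IsClosedImmersion v₁.left) (hv₂ : IsClosedImmersion v₂.left)
    (hU₁ : ∀ {m : ℕ} (e : Fin m → D.idx), RedSub.Enumerates {a | a ∈ Ψ ∧ (n : ℤ) ≤ lam (D.P.root a)} e →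
      ∃ ψ : RedSub.pow (Red.Ga S) m ≅ U₁, ψ.hom ≫ v₁ = RedSub.prodMap (Red.Ga S) m (fun k => D.u (e k)))
    (hU₂ : ∀ {m : ℕ} (e : Fin m → D.idx), RedSub.Enumerates {a | a ∈ Ψ ∧ (n : ℤ) + 1 ≤ lam (D.P.root a)} e →
      ∃ ψ : RedSub.pow (Red.Ga S) m ≅ U₂, ψ.hom ≫ v₂ = RedSub.prodMap (Red.Ga S) m (fun k => D.u (e k))) :
    (∃ f : U₂ ⟶ U₁, f ≫ v₁ = v₂ ∧ IsMonHom f ∧ AlgGrp.IsNormalHom f) ∧
    (∀ (a b : D.idx), a ∈ Ψ → b ∈ Ψ → lam (D.P.root a) = n → lam (D.P.root b) = n →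
      ∀ (X : Over S) (x y : X ⟶ Red.Ga S), ∃ w : X ⟶ U₂,
        (x ≫ D.u a) * (y ≫ D.u b) * (x ≫ D.u a)⁻¹ * (y ≫ D.u b)⁻¹ = w ≫ v₂) ∧
    ∀ {m : ℕ} (e : Fin m → D.idx), RedSub.Enumerates {a | a ∈ Ψ ∧ lam (D.P.root a) = n} e →
      ∃ ψ : RedSub.pow (Red.Ga S) m ⊗ U₂ ≅ U₁,
        ψ.hom ≫ v₁ = (fst _ _ ≫ RedSub.prodMap (Red.Ga S) m (fun k => D.u (e k))) * (snd _ _ ≫ v₂) := by
  classical
  haveI : IsAffineHom G.hom := Groth.Agent.RedCell22.isAffineHom_of_split D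
  let f : D.M →+ ℤ := lam.toAddMonoidHom
  have h : Groth.Agent.RedCell22.IsClosedSet D.P Ψ := ⟨hcl, hneg⟩
  have hn' : (1 : ℤ) ≤ n := by omega
  obtain ⟨p, e₁, he₁⟩ := Groth.Agent.RedCell22.exists_enumerates
    (Groth.Agent.RedCell22.levelSet Ψ f (n : ℤ))
  obtain ⟨q, d, hd⟩ := Groth.Agent.RedCell22.exists_enumerates
    (Groth.Agent.RedCell22.levelSet Ψ f ((n : ℤ) + 1))
  have hc₁ := h.level (f := f) (n := (n : ℤ)) (by omega)
  have hc₂ := h.level (f := f) (n := (n : ℤ) + 1) (by omega)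
  haveI := Groth.Agent.RedCell22.mono_prodMap_of_closed hc₁ he₁
  haveI := Groth.Agent.RedCell22.mono_prodMap_of_closed hc₂ hd
  obtain ⟨ψ₁, hψ₁⟩ := hU₁ e₁ he₁
  obtain ⟨ψ₂, hψ₂⟩ := hU₂ d hd
  have hv₁' : v₁ = ψ₁.inv ≫ RedSub.prodMap (Red.Ga S) p (fun k => D.u (e₁ k)) := by rw [← hψ₁, Iso.inv_hom_id_assoc]
  have hv₂' : v₂ = ψ₂.inv ≫ RedSub.prodMap (Red.Ga S) q (fun k => D.u (d k)) := by rw [← hψ₂, Iso.inv_hom_id_assoc]
  haveI : Mono v₁ := hv₁' ▸ mono_comp _ _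
  haveI : Mono v₂ := hv₂' ▸ mono_comp _ _
  refine ⟨?_, fun a c ha hc hla hlc X x y => ?_, fun {m} e he => ?_⟩
  · obtain ⟨g, hg⟩ := Groth.Agent.RedCell22.exists_lift_of_tests v₁ v₂ fun A _ b φ => by
      obtain ⟨⟨z, hz⟩, -⟩ := Groth.Agent.RedCell22.exists_word_of_word (b := b) hc₁ he₁ d
        (fun k => ⟨((Set.ext_iff.mp hd.2 _).mp ⟨k, rfl⟩).1,
          by have := ((Set.ext_iff.mp hd.2 _).mp ⟨k, rfl⟩).2; omega⟩)
        (Groth.Agent.RedCell22.powCoord (φ ≫ ψ₂.inv))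
      refine ⟨Groth.Agent.RedCell22.powPt z ≫ ψ₁.hom, ?_⟩
      rw [Category.assoc, hψ₁, Groth.Agent.RedCell22.powPt_prodMap, hz, hv₂', ← Groth.Agent.RedCell22.powPt_prodMap,
        Groth.Agent.RedCell22.powPt_powCoord, Category.assoc]
    haveI hgm : IsMonHom g := by
      refine GrpSchLib.RankOne.isMonHom_of_comp g fun Y a c => ?_
      rw [← cancel_mono v₁, Category.assoc, hg, MonObj.mul_comp, MonObj.mul_comp, Category.assoc, hg,
        Category.assoc, hg]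
    refine ⟨g, hg, hgm, fun T t s => ?_⟩
    obtain ⟨w, hw⟩ := Groth.Agent.RedCell22.exists_lift_of_tests v₂ ((t ≫ v₁) * (s ≫ v₂) * (t ≫ v₁)⁻¹)
      fun A _ b φ => by
        obtain ⟨z, hz⟩ := Groth.Agent.RedCell22.exists_conj_level (b := b) h (f := f) hpos hn' he₁ hd
          (Groth.Agent.RedCell22.powCoord (φ ≫ t ≫ ψ₁.inv)) (Groth.Agent.RedCell22.powCoord (φ ≫ s ≫ ψ₂.inv))
        refine ⟨Groth.Agent.RedCell22.powPt z ≫ ψ₂.hom, ?_⟩
        rw [Category.assoc, hψ₂, Groth.Agent.RedCell22.powPt_prodMap, hz, hv₁', hv₂']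
        rw [← Groth.Agent.RedCell22.powPt_prodMap, ← Groth.Agent.RedCell22.powPt_prodMap,
          Groth.Agent.RedCell22.powPt_powCoord, Groth.Agent.RedCell22.powPt_powCoord, MonObj.comp_mul,
          MonObj.comp_mul, GrpObj.comp_inv]
        simp only [Category.assoc]
    refine ⟨w, ?_⟩
    rw [← cancel_mono v₁, MonObj.mul_comp, MonObj.mul_comp, GrpObj.inv_comp, Category.assoc, hg,
      Category.assoc, hg, hw]
  · obtain ⟨m', e', he'⟩ := Groth.Agent.RedCell22.exists_enumerates {a | a ∈ Ψ ∧ f (D.P.root a) = (n : ℤ)}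
    obtain ⟨w, hw⟩ := Groth.Agent.RedCell22.exists_lift_of_tests v₂
      ((x ≫ D.u a) * (y ≫ D.u c) * (x ≫ D.u a)⁻¹ * (y ≫ D.u c)⁻¹) fun A _ b φ => by
        obtain ⟨z, hz⟩ := Groth.Agent.RedCell22.exists_commutator_level (b := b) h (f := f) hpos hn' he' hd
          (a := a) (c := c) ⟨ha, (le_of_eq hla.symm)⟩ ⟨hc, (le_of_eq hlc.symm)⟩
          (Groth.Agent.RedCell22.gs (Red.gaFn (φ ≫ x))) (Groth.Agent.RedCell22.gs (Red.gaFn (φ ≫ y)))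
        refine ⟨Groth.Agent.RedCell22.powPt z ≫ ψ₂.hom, ?_⟩
        rw [Category.assoc, hψ₂, Groth.Agent.RedCell22.powPt_prodMap, hz]
        simp only [Groth.Agent.RedCell22.ua, Groth.Agent.RedCell22.gaPt_gaFn, MonObj.comp_mul, GrpObj.comp_inv,
          Category.assoc]
    exact ⟨w, hw.symm⟩
  · obtain ⟨j, hj⟩ := Groth.Agent.RedCell22.exists_iso_level h (f := f) (n := (n : ℤ)) (by omega) he hd
    obtain ⟨ψ, hψ⟩ := hU₁ _ (Groth.Agent.RedCell22.enumerates_append he hd)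
    refine ⟨whiskerLeftIso _ ψ₂.symm ≪≫ j ≪≫ ψ, ?_⟩
    simp only [Iso.trans_hom, Category.assoc, hψ, hj, MonObj.comp_mul, whiskerLeftIso_hom, Iso.symm_hom,
      whiskerLeft_fst_assoc, whiskerLeft_snd_assoc, ← hv₂']

end Groth.Agent.S16652
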