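import Groth.Statements.S16667
import Mathlib
import Groth.Agent.CDiv6.Basic
-- import your own Groth.Agent.* helpers here

set_option autoImplicit false
universe u
open CAlg

namespace Groth.Agent.S16667

/-- Let A be a Noetherian integral domain satisfying Serre's condition (S_2), with fraction field K. An
element of K which lies in the localization A_p for every prime p of A with depth(A_p) = 1 lies in
A. -/
theorem result {A : Type u} [CommRing A] [IsDomain A]
    [IsNoetherianRing A] (hS2 : LocCoh.HasSk 2 A A) (x : FractionRing A)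
    (hx : ∀ (p : Ideal A) [p.IsPrime],
      LocCoh.depth (Localization.AtPrime p) (Localization.AtPrime p) = 1 →
        x ∈ Set.range (algebraMap (Localization.AtPrime p) (FractionRing A))) :
    x ∈ Set.range (algebraMap A (FractionRing A)) := by
  by_contra hxr
  let K := FractionRing A
  let C : Ideal A := Submodule.comap (LinearMap.toSpanSingleton A K x) (LinearMap.range (Algebra.linearMap A K))
  have hC : C ≠ ⊤ := by
    intro h
    have : (1 : A) ∈ C := h ▸ Submodule.mem_top
    obtain ⟨a, ha⟩ := this
    exact hxr ⟨a, ha.trans (one_smul A x)⟩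
  obtain ⟨P, hP, hCP⟩ := Ideal.exists_le_maximal C hC
  obtain ⟨q, -, hdepth, hq⟩ := CDiv6.exists_depth_one_prime (K := K) P x (fun c hc a h => hc (hCP ⟨a, by
    show algebraMap A K a = c • x
    rw [Algebra.smul_def, h]⟩))
  have hd : LocCoh.depth (Localization.AtPrime q.asIdeal) (Localization.AtPrime q.asIdeal) = 1 :=
    (Alg6.depth_localized_eq q.asIdeal _ (Algebra.linearMap A (Localization.AtPrime q.asIdeal))).trans hdepth
  obtain ⟨y, hy⟩ := hx q.asIdeal hd
  obtain ⟨⟨a, c⟩, hac⟩ := IsLocalization.surj q.asIdeal.primeCompl y
  refine hq c.1 c.2 a ?_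
  rw [IsScalarTower.algebraMap_apply A (Localization.AtPrime q.asIdeal) K,
    IsScalarTower.algebraMap_apply A (Localization.AtPrime q.asIdeal) K, ← hy, ← map_mul, ← hac, mul_comm]

end Groth.Agent.S16667
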