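import Groth.Statements.S16673
import Groth.Agent.AVTors2.PtsFinite
-- import your own Groth.Agent.* helpers here

set_option autoImplicit false
set_option backward.isDefEq.respectTransparency false
set_option backward.isDefEq.respectTransparency.types false
set_option linter.style.haveILetI false
universe u
open CategoryTheory CategoryTheory.Limits MonoidalCategory CartesianMonoidalCategory MonObj GrpObj AlgebraicGeometry
open AbVar

namespace Groth.Agent.S16673

/-- Let k be a field of characteristic p > 0 with an algebraic closure k̄, let X and Y be abelian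
varieties over k (proper, geometrically integral, commutative k-group schemes) and let h : X → Y be
a homomorphism which is finite and surjective (an isogeny). If i and j are natural numbers such that
for every m ≥ 0 the group X[p^m](k̄) of k̄-valued points of X killed by p^m (k̄-valued points being
the k-morphisms Spec k̄ → X, a group under the group law of X) is isomorphic to (ℤ/p^m)^i and the
group Y[p^m](k̄) is isomorphic to (ℤ/p^m)^j (groups of points written multiplicatively), then i = j:
the p-rank is an isogeny invariant. -/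
theorem result (k : Type u) [Field k] (p : ℕ) [Fact p.Prime] [CharP k p]
    (X Y : Over (Spec (CommRingCat.of k)))
    [GrpObj X] [IsCommMonObj X] [IsProper X.hom] [GeometricallyIntegral X.hom]
    [GrpObj Y] [IsCommMonObj Y] [IsProper Y.hom] [GeometricallyIntegral Y.hom]
    (h : X ⟶ Y) [IsMonHom h] [IsFinite h.left] [Surjective h.left]
    (i j : ℕ)
    (hi : ∀ m : ℕ, Nonempty (AbDual.torsPts X (p ^ m)
      (Over.mk (Spec.map (CommRingCat.ofHom (algebraMap k (AlgebraicClosure k))))) ≃*
      Multiplicative (Fin i → ZMod (p ^ m))))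
    (hj : ∀ m : ℕ, Nonempty (AbDual.torsPts Y (p ^ m)
      (Over.mk (Spec.map (CommRingCat.ofHom (algebraMap k (AlgebraicClosure k))))) ≃*
      Multiplicative (Fin j → ZMod (p ^ m)))) :
    i = j := by
  classical
  let s : Spec (CommRingCat.of (AlgebraicClosure k)) ⟶ Spec (CommRingCat.of k) :=
    Spec.map (CommRingCat.ofHom (algebraMap k (AlgebraicClosure k)))
  haveI hF : Finite {x : Over.mk s ⟶ X // x ≫ h = 1} := Groth.Agent.AVTors2.finite_fibre h s 1
  have hsurj : ∀ y : Over.mk s ⟶ Y, ∃ x, x ≫ h = y := Groth.Agent.AVTors2.exists_lift h s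
  choose sec hsec using hsurj
  let f := IsMonHom.monoidHom h (Over.mk s)
  have hf : ∀ x, f x = x ≫ h := fun _ => rfl
  have hp : p.Prime := Fact.out
  have hcX : ∀ m, Nat.card (AbDual.torsPts X (p ^ m) (Over.mk s)) = (p ^ m) ^ i := fun m => by
    haveI : NeZero (p ^ m) := ⟨pow_ne_zero _ hp.ne_zero⟩
    rw [Nat.card_congr (hi m).some.toEquiv, Nat.card_congr Multiplicative.toAdd, Nat.card_fun, Nat.card_zmod,
      Nat.card_eq_fintype_card, Fintype.card_fin]
  have hcY : ∀ m, Nat.card (AbDual.torsPts Y (p ^ m) (Over.mk s)) = (p ^ m) ^ j := fun m => by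
    haveI : NeZero (p ^ m) := ⟨pow_ne_zero _ hp.ne_zero⟩
    rw [Nat.card_congr (hj m).some.toEquiv, Nat.card_congr Multiplicative.toAdd, Nat.card_fun, Nat.card_zmod,
      Nat.card_eq_fintype_card, Fintype.card_fin]
  let M := Nat.card {x : Over.mk s ⟶ X // x ≫ h = 1}
  have key : ∀ m, (p ^ m) ^ i ≤ M * (p ^ m) ^ j ∧ (p ^ m) ^ j ≤ M * (p ^ m) ^ i := by
    intro m
    haveI : Finite (AbDual.torsPts X (p ^ m) (Over.mk s)) :=
      Nat.finite_of_card_ne_zero (by rw [hcX]; exact pow_ne_zero _ (pow_ne_zero _ hp.ne_zero))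
    haveI : Finite (AbDual.torsPts Y (p ^ m) (Over.mk s)) :=
      Nat.finite_of_card_ne_zero (by rw [hcY]; exact pow_ne_zero _ (pow_ne_zero _ hp.ne_zero))
    have hto : ∀ x ∈ AbDual.torsPts X (p ^ m) (Over.mk s), x ≫ h ∈ AbDual.torsPts Y (p ^ m) (Over.mk s) :=
      fun x hx => by
        rw [AbDual.mem_torsPts, ← hf, ← map_pow, show x ^ (p ^ m) = 1 from hx, map_one]
    refine ⟨?_, ?_⟩
    · rw [← hcX, ← hcY, ← Nat.card_prod]
      refine Nat.card_le_card_of_injective (fun x => (⟨x.1 / sec (x.1 ≫ h), by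
        rw [← hf, map_div, hf, hf, hsec, div_self']⟩, ⟨x.1 ≫ h, hto _ x.2⟩)) fun x x' e => ?_
      simp only [Prod.mk.injEq, Subtype.mk.injEq] at e
      rw [e.2] at e
      exact Subtype.ext (div_left_inj.1 e.1)
    · rw [← hcX, ← hcY, ← Nat.card_prod]
      let v : AbDual.torsPts Y (p ^ m) (Over.mk s) → {x : Over.mk s ⟶ X // x ≫ h = 1} := fun y =>
        ⟨sec y.1 ^ (p ^ m), by rw [← hf, map_pow, hf, hsec]; exact y.2⟩
      let base : {x : Over.mk s ⟶ X // x ≫ h = 1} → (Over.mk s ⟶ X) := fun c =>
        if hc : ∃ y, v y = c then sec hc.choose.1 else 1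
      have hbase : ∀ y, base (v y) ^ (p ^ m) = sec y.1 ^ (p ^ m) := fun y => by
        have hc : ∃ y', v y' = v y := ⟨y, rfl⟩
        simp only [base, dif_pos hc]
        exact congrArg Subtype.val hc.choose_spec
      refine Nat.card_le_card_of_injective (fun y => (v y, ⟨sec y.1 / base (v y), by
        rw [AbDual.mem_torsPts, div_pow, hbase, div_self']⟩)) fun y y' e => ?_
      simp only [Prod.mk.injEq, Subtype.mk.injEq] at e
      rw [e.1] at e
      have := div_left_inj.1 e.2
      exact Subtype.ext (by rw [← hsec y.1, this, hsec])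
  obtain ⟨m, hm⟩ := pow_unbounded_of_one_lt M hp.one_lt
  rcases lt_trichotomy i j with hlt | heq | hgt
  · exfalso
    have h1 := (key m).2
    have h2 : (p ^ m) ^ (i + 1) ≤ (p ^ m) ^ j := Nat.pow_le_pow_right (Nat.pow_pos hp.pos) hlt
    have h3 : M * (p ^ m) ^ i < p ^ m * (p ^ m) ^ i :=
      Nat.mul_lt_mul_of_pos_right hm (Nat.pow_pos (Nat.pow_pos hp.pos))
    rw [← pow_succ'] at h3
    omega
  · exact heq
  · exfalso
    have h1 := (key m).1
    have h2 : (p ^ m) ^ (j + 1) ≤ (p ^ m) ^ i := Nat.pow_le_pow_right (Nat.pow_pos hp.pos) hgt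
    have h3 : M * (p ^ m) ^ j < p ^ m * (p ^ m) ^ j :=
      Nat.mul_lt_mul_of_pos_right hm (Nat.pow_pos (Nat.pow_pos hp.pos))
    rw [← pow_succ'] at h3
    omega

end Groth.Agent.S16673
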