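import Groth.Statements.S16677
import Groth.Agent.AVTors2.Infinitesimal
import Groth.Agent.AVTors2.Dense
import Groth.Agent.AbTors.BaseChange
-- import your own Groth.Agent.* helpers here

set_option autoImplicit false
set_option backward.isDefEq.respectTransparency false
set_option backward.isDefEq.respectTransparency.types false
set_option linter.style.haveILetI false
universe u
open CategoryTheory CategoryTheory.Limits MonoidalCategory CartesianMonoidalCategory MonObj GrpObj AlgebraicGeometry
open AbVar

namespace Groth.Agent.S16677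

/-- Let X be an abelian variety over a field k (a proper, geometrically integral k-group scheme) and p a
prime number, not necessarily different from the characteristic of k. For m ≥ 1 let X[p^m] → X be
the kernel of multiplication by p^m (the p^m-th power of the identity in the group of endomorphisms
of X), realised as the fibre product of the unit section with that endomorphism. Then the family of
closed subgroup schemes X[p^m], m ≥ 1, is scheme-theoretically dense in X: if c : Z → X is a closed
immersion through which every inclusion X[p^m] → X factors, then c is an isomorphism. -/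
theorem result (k : Type u) [Field k]
    (X : Over (Spec (CommRingCat.of k))) [GrpObj X] [IsProper X.hom] [GeometricallyIntegral X.hom]
    (p : ℕ) (hp : p.Prime) (Z : Scheme.{u}) (c : Z ⟶ X.left) [IsClosedImmersion c]
    (hc : ∀ m : ℕ, 0 < m →
      ∃ t : pullback η[X].left ((𝟙 X ^ (p ^ m)).left) ⟶ Z,
        t ≫ c = pullback.snd η[X].left ((𝟙 X ^ (p ^ m)).left)) :
    IsIso c := by
  haveI : IsIntegral X.left := GeometricallyIntegral.isIntegral_of_subsingleton X.hom
  haveI : IsCommMonObj X := isCommMonObj_of_isProper_of_geometricallyIntegral X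
  have hlift : ∀ (N : ℕ) {T : Over (Spec (CommRingCat.of k))} (t : T ⟶ X), t ^ (p ^ N) = 1 →
      ∃ s, s ≫ c = t.left := by
    intro N T t ht
    obtain ⟨tm, htm⟩ := hc (N + 1) (Nat.succ_pos N)
    let t' := Groth.Agent.H23.TorsRed.ptsEquiv X (p ^ (N + 1)) T ⟨t, by rw [pow_succ, pow_mul, ht, one_pow]⟩
    refine ⟨t'.1 ≫ tm, ?_⟩
    rw [Category.assoc, htm]
    exact pullback.lift_snd _ _ _
  suffices Surjective c from isIso_of_isClosedImmersion_of_surjective c
  by_cases hpk : (p : k) = 0
  · haveI := Fact.mk hp
    haveI : CharP k p := CharP.charP_iff_prime_eq_zero hp |>.2 hpk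
    exact Groth.Agent.AVTors2.surjective_of_contains p c hlift
  · let Ω := AlgebraicClosure k
    let X' := Red.bc (Groth.Agent.AbTors.ext k Ω) X
    haveI : IsProper X'.hom := (Groth.Agent.AbTors.bc_props k Ω X).1
    haveI : GeometricallyIntegral X'.hom := (Groth.Agent.AbTors.bc_props k Ω X).2
    haveI : IsCommMonObj X' := isCommMonObj_of_isProper_of_geometricallyIntegral X'
    haveI := Fact.mk hp
    have hpΩ : (p : Ω) ≠ 0 := fun h => hpk ((algebraMap k Ω).injective (by rw [map_natCast, h, map_zero]))
    let π : X'.left ⟶ X.left := pullback.fst X.hom (Groth.Agent.AbTors.ext k Ω)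
    have hsub : Groth.Agent.AVTors2.torsClosure (A := X') p ⊆ π ⁻¹' Set.range c := by
      refine closure_minimal ?_ (c.isClosedEmbedding.isClosed_range.preimage π.continuous)
      rintro _ ⟨b, ⟨n, hn⟩, rfl⟩
      obtain ⟨a, rfl⟩ := (Groth.Agent.AbTors.ptMul (k := k) (Ω := Ω) (A := X)).surjective b
      have ha : a ^ (p ^ n) = 1 := (Groth.Agent.AbTors.ptMul (k := k) (Ω := Ω) (A := X)).injective
        ((map_pow _ a _).trans (hn.trans (map_one _).symm))
      obtain ⟨s, hs⟩ := hlift n a ha
      refine ⟨s (IsLocalRing.closedPoint Ω), ?_⟩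
      show _ = ((Groth.Agent.AbTors.ptHom a).left ≫ π) (IsLocalRing.closedPoint Ω)
      rw [Groth.Agent.AbTors.ptHom_left, ← hs]
      rfl
    rw [Groth.Agent.AVTors2.torsClosure_eq_univ p hpΩ] at hsub
    haveI : Surjective (Groth.Agent.AbTors.ext k Ω) :=
      ⟨fun x => ⟨IsLocalRing.closedPoint Ω, Subsingleton.elim (α := PrimeSpectrum k) _ _⟩⟩
    haveI : Surjective π := MorphismProperty.pullback_fst _ _ inferInstance
    refine ⟨fun x => ?_⟩
    obtain ⟨z, rfl⟩ := π.surjective x
    exact hsub (Set.mem_univ z)

end Groth.Agent.S16677
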