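import Groth.Statements.S16698
import Groth.Statements.S16698
import Groth.Agent.AlgStLib.Stack
import Groth.Agent.AlgStLib.SpProps
import Groth.Agent.AlgStLib.LocEss
import Groth.Agent.AlgSpDec.AffineRep
import Groth.Agent.AlgSpDec.MonoQuot

set_option backward.isDefEq.respectTransparency false
set_option backward.isDefEq.respectTransparency.types false

set_option autoImplicit false
universe u
open AlgSt AlgSt.IsWellNighAffine

open CategoryTheory CategoryTheory.Limits AlgebraicGeometry AlgSp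
open Groth.Agent.FibBase Groth.Agent.AlgStLib Groth.Agent.AlgSpLib Groth.Agent.AlgSpDec

namespace Groth.Agent.S16698

variable {S : Scheme.{u}}

theorem stableBC_isFiniteMor : StableBC (IsFiniteMor (S := S)) :=
  fun _ _ _ _ _ _ _ _ _ _ _ _ sq h => isFiniteMor_iff_repWith.2 (repWith_of_isPullback sq (isFiniteMor_iff_repWith.1 h))

/-- An algebraic space with a finite locally free surjection from an affine scheme is affine. -/
theorem exists_affine_iso {G : Sp S} (hG : IsAlgSpace G) {V : Over S} [IsAffine V.left]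
    (a : (yon S).obj V ⟶ G)
    (ha : RepBySpWith (IsSurjectiveMor ⊓ LocP @Flat ⊓ IsFiniteMor ⊓ LocP @LocallyOfFinitePresentation) a.hom) :
    ∃ (W : Over S) (m : (yon S).obj W ⟶ G), IsAffine W.left ∧ IsIso m := by
  have hs : IsSurjectiveMor a := isSurjectiveMor_of_repBySpWith hG a
    fun T ξ H fst snd sq => ⟨(ha ξ fst snd sq).choose, (ha ξ fst snd sq).choose_spec.1,
      (ha ξ fst snd sq).choose_spec.2.1.1.1⟩
  have hfl : LocP @Flat a := locP_of_repBySpWith hG a
    fun T ξ H fst snd sq => ⟨(ha ξ fst snd sq).choose, (ha ξ fst snd sq).choose_spec.1,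
      (ha ξ fst snd sq).choose_spec.2.1.1.2⟩
  have hlp : LocP @LocallyOfFinitePresentation a := locP_of_repBySpWith hG a
    fun T ξ H fst snd sq => ⟨(ha ξ fst snd sq).choose, (ha ξ fst snd sq).choose_spec.1,
      (ha ξ fst snd sq).choose_spec.2.2⟩
  have hfin : IsFiniteMor a := fun Z hZ g => by
    obtain ⟨-, h⟩ := (repBySpWith_hom_iff _ a).1 ha g _ _ (IsPullback.of_hasPullback a g)
    obtain ⟨W, i, fst, sq, hW, hi⟩ := h.1.2 hZ (𝟙 _)
    refine ⟨W, i, fst ≫ pullback.fst a g, ?_, hW, hi⟩
    simpa using sq.paste_horiz (IsPullback.of_hasPullback a g)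
  have hr := isFiniteMor_iff_repWith.1 hfin
  have h1 := repWith_of_locP (P := @Flat) hG hr.rep hfl
  have h2 := repWith_of_locP (P := @LocallyOfFinitePresentation) hG hr.rep hlp
  have h3 := repWith_surjective_of_surjective hr.rep hs
  let s := hr.rep.snd a
  have : IsFinite s.left := hr.property_snd a
  have : Flat s.left := h1.property _ _ _ (hr.rep.isPullback a)
  have : LocallyOfFinitePresentation s.left := h2.property _ _ _ (hr.rep.isPullback a)
  obtain ⟨W, q, m, hW, -, hm, hqm⟩ :=
    exists_quot_of_finite_relation (t := hr.rep.fst' a) (s := s) (hr.rep.isPullback' a)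
  have hfppf : RepWith fppf a := ⟨hr.rep, fun T U g fst snd sq =>
    ⟨⟨h3.property g fst snd sq, h1.property g fst snd sq⟩, h2.property g fst snd sq⟩⟩
  have := isLocallySurjective_of_repWith hfppf
  have : Epi a := Sheaf.epi_of_isLocallySurjective a
  have : Epi m := epi_of_epi_fac hqm
  exact ⟨W, m, hW, isIso_of_mono_of_epi m⟩

open CategoryTheory AlgebraicGeometry in
/-- A well-nigh affine algebraic stack which is an algebraic space is an affine scheme. -/
theorem result (S : Scheme.{u}) (𝒳 : AlgSt.Cat S)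
    (h𝒳 : AlgSt.IsAlgStack Scheme.fppfPrecoverage 𝒳) (hw : AlgSt.IsWellNighAffine 𝒳)
    (hsp : AlgSt.RepByAlgSp 𝒳) :
    ∃ (U : Over S) (e : AlgSt.ofSch U ⥤ᵇ 𝒳), IsAffine U.left ∧ FibCat.IsEquivOver e := by
  obtain ⟨U, x, hU, hx⟩ := hw
  obtain ⟨F, e, he⟩ := hsp
  obtain ⟨g, hg, -, ⟨ige⟩⟩ := isEquivOver_inv he
  let P : MorphismProperty (Sp S) :=
    IsSurjectiveMor ⊓ LocP @Flat ⊓ IsFiniteMor ⊓ LocP @LocallyOfFinitePresentation
  have hx' : AlgSt.RepByAlgSpWith P (BasedFunctor.comp x g) :=
    (repByAlgSpWith_iff_of_square (f := x) (f' := BasedFunctor.comp x g) (a := BasedFunctor.id _) (b := e)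
      isEquivOver_id he (show BasedFunctor.comp (BasedFunctor.comp x g) e ≅ x from whiskerLeftIso x ige)).1 hx
  let k : AlgSt.ofSch U ⥤ᵇ AlgSt.ofSp F.obj :=
    BasedFunctor.comp (AlgSt.toOverCat U) (BasedFunctor.comp x g)
  have hP : StableBC P := stableBC_inf (stableBC_inf (stableBC_inf stableBC_isSurjectiveMor stableBC_locP)
    stableBC_isFiniteMor) stableBC_locP
  have ha : RepBySpWith P (spHom k).hom :=
    repBySpWith_of_repByAlgSpWith (BasedFunctor.comp x g) (AlgSt.toOverCat U) hP (isEquivOver_toOverCat U) hx'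
      (isoOfPshMap k)
  obtain ⟨W, m, hW, hm⟩ := exists_affine_iso F.property (spHom k) ha
  exact ⟨W, BasedFunctor.comp (AlgSt.ofSpMap m) e, hW,
    isEquivOver_comp (isEquivOver_ofSpMap m) he⟩

end Groth.Agent.S16698
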