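import Groth.Statements.S16710
import Groth.Agent.VarAmp.NoCurves
import Groth.Agent.SurfInt.Push
import Groth.Agent.AmpleX.Pow
-- import your own Groth.Agent.* helpers here

set_option autoImplicit false
universe u
open CategoryTheory CategoryTheory.Limits AlgebraicGeometry TopologicalSpace
open Variety

namespace Groth.Agent.S16710

/-- Let X be a proper scheme over a field k and L an invertible O_X-module. Then L is ample if and only
if (i) L is strictly nef, meaning χ(O_C ⊗ L) - χ(O_C) > 0 for every integral closed subscheme C ⊆ X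
of dimension one, and (ii) L is semiample, meaning some positive tensor power of L is generated by
its global sections (is a quotient of a free O_X-module). -/
theorem result (k : Type u) [Field k] (X : Scheme.{u})
    [X.Over (Spec (CommRingCat.of k))] [IsProper (X ↘ (Spec (CommRingCat.of k)))]
    (L : X.Modules) (hL : PicF.IsInvertible L) :
    CohB1.IsAmple L ↔
      ((∀ C : X.IdealSheafData, IsIntegral C.subscheme →
          topologicalKrullDim (C.support : Set X) = 1 →
            0 < Curv2.euler k X (CohB1.tensorMod (ClSub.quotMod C) L) - Curv2.euler k X (ClSub.quotMod C)) ∧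
        ∃ m : ℕ, Curv2.IsGloballyGenerated (CohB1.tensorPow L (m + 1))) := by
  haveI := Groth.Agent.CurveCohLib.isNoetherian_of_proper (k := k) (X := X)
  haveI : X.IsSeparated := Groth.Agent.AmpleVan.isSeparated_of_proper (A := k)
  have key : ∀ C : X.IdealSheafData, IsIntegral C.subscheme → topologicalKrullDim (C.support : Set X) = 1 →
      (CohB1.IsAmple ((Scheme.Modules.pullback C.subschemeι).obj L) ↔
        0 < Curv2.euler k X (CohB1.tensorMod (ClSub.quotMod C) L) - Curv2.euler k X (ClSub.quotMod C)) := by
    intro C hC hd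
    haveI := hC
    letI := Groth.Agent.SurfInt.overComp k C.subschemeι
    haveI := Groth.Agent.SurfInt.isProper_comp k C.subschemeι rfl
    have hdim : topologicalKrullDim C.subscheme = 1 := by
      rw [← hd, ← C.range_subschemeι]
      exact C.subschemeι.isClosedEmbedding.isEmbedding.toHomeomorph.isHomeomorph.topologicalKrullDim_eq
    have h := Groth.Agent.SurfInt.degOn_push k C.subschemeι rfl hL
    have hLC := PicLoc.isInvertible_pullback C.subschemeι hL
    refine ⟨fun ha => ?_, fun hp => Groth.Agent.VarAmp.isAmple_of_deg_pos k hdim hLC ?_⟩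
    · exact lt_of_lt_of_eq (Groth.Agent.VarAmp.deg_pos_of_isAmple k hdim ha) h.symm
    · exact lt_of_lt_of_eq hp h
  constructor
  · intro ha
    refine ⟨fun C hC hd => (key C hC hd).1 ?_, ?_⟩
    · haveI : CompactSpace C.subscheme := C.subschemeι.isClosedEmbedding.compactSpace
      exact Groth.Agent.AmpleVan.isAmple_pullback_of_isEmbedding C.subschemeι
        C.subschemeι.isClosedEmbedding.isEmbedding ha
    · obtain ⟨b, hb⟩ := Groth.Agent.AmpleX.eventually_isGloballyGenerated ha (Groth.Agent.QCoh.isCoh_structureModule' (X := X)).1 (Groth.Agent.QCoh.isCoh_structureModule' (X := X)).2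
      refine ⟨b, Groth.Agent.AmpleX.isGloballyGenerated_of_iso ?_ (hb (b + 1) (Nat.le_succ b))⟩
      exact (Groth.Agent.H23.PicMul.cl_eq_iff.1 (by
        open scoped Groth.Agent.H23.PicMul in
        rw [Groth.Agent.H23.PicMul.cl_tensor, ← Groth.Agent.H23.PicMul.one_def, one_mul])).some
  · rintro ⟨hpos, m, hgg⟩
    refine Groth.Agent.AmpleX.isAmple_of_tensorPow hL (Nat.succ_pos m)
      (Groth.Agent.VarAmp.isAmple_of_curves k (Groth.Agent.InvX.isInvertible_tensorPow hL (m + 1)) hgg fun C hC hd => ?_)
    refine Groth.Agent.AmpleX.isAmple_of_iso ?_ (Groth.Agent.AmpleX.isAmple_tensorPow ((key C hC hd).2 (hpos C hC hd)) (Nat.succ_pos m))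
    open Groth.Agent in
    refine (H23.PicMul.cl_eq_iff.1 ?_).some
    open scoped Groth.Agent.H23.PicMul in
    open Groth.Agent in
    show PicF.cl _ = PicF.pullCl C.subschemeι (PicF.cl (CohB1.tensorPow L (m + 1)))
    open scoped Groth.Agent.H23.PicMul in
    open Groth.Agent in
    rw [H23.PicMul.cl_tensorPow, H23.PicMul.cl_tensorPow]
    open scoped Groth.Agent.H23.PicMul in
    open Groth.Agent in
    exact (H23.PicMul.pullCl_pow C.subschemeι (PicF.cl L) (m + 1)).symm


end Groth.Agent.S16710
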