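import Groth.Statements.S16711
import Groth.Agent.VarAmp.NakaiMain
import Groth.Agent.VarAmp.NoCurves
import Groth.Agent.SurfInt.Push
import Groth.Agent.AmpleVan.Pull
-- import your own Groth.Agent.* helpers here

set_option autoImplicit false
universe u
open CategoryTheory CategoryTheory.Limits AlgebraicGeometry TopologicalSpace
open Variety

namespace Groth.Agent.S16711

/-- The implication from the fourth condition to ampleness. Fix an algebraically closed field k, a
proper k-scheme X and an invertible O_X-module L. Assume that L is strictly nef, meaning χ(O_C ⊗ L)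
- χ(O_C) > 0 for every integral closed subscheme C ⊆ X of dimension one, and that for every integral
closed subscheme Z ⊆ X some positive tensor power of the pullback L|_Z has a nonzero global section
O_Z → L|_Z^{⊗ m}. Then L is ample. -/
theorem result (k : Type u) [Field k] [IsAlgClosed k]
    (X : Scheme.{u}) [X.Over (Spec (CommRingCat.of k))] [IsProper (X ↘ (Spec (CommRingCat.of k)))]
    (L : X.Modules) (hL : PicF.IsInvertible L)
    (hnef : ∀ C : X.IdealSheafData, IsIntegral C.subscheme →
      topologicalKrullDim (C.support : Set X) = 1 →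
        0 < Curv2.euler k X (CohB1.tensorMod (ClSub.quotMod C) L) - Curv2.euler k X (ClSub.quotMod C))
    (heff : ∀ Z : X.IdealSheafData, IsIntegral Z.subscheme →
      ∃ (m : ℕ) (s : Coh.structureModule Z.subscheme ⟶
          CohB1.tensorPow ((Scheme.Modules.pullback Z.subschemeι).obj L) (m + 1)), s ≠ 0) :
    CohB1.IsAmple L := by
  open Groth.Agent in
  haveI := CurveCohLib.isNoetherian_of_proper (k := k) (X := X)
  suffices H : ∀ (C : TopologicalSpace.Closeds X) (I : X.IdealSheafData), IsIntegral I.subscheme →
      I.support = C → CohB1.IsAmple ((Scheme.Modules.pullback I.subschemeι).obj L) by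
    open Groth.Agent in
    refine VarAmp.isAmple_of_integral k hL fun Z i hi hZ => ?_
    haveI := hi
    haveI := hZ
    open Groth.Agent in
    obtain ⟨e, he⟩ := SurfInt.exists_iso_subscheme i
    haveI : Nonempty i.ker.subscheme := Nonempty.map e.hom inferInstance
    haveI : IsIntegral i.ker.subscheme := isIntegral_of_isOpenImmersion e.inv
    haveI : CompactSpace Z := i.isClosedEmbedding.compactSpace
    open Groth.Agent in
    exact AmpleX.isAmple_of_iso ((Scheme.Modules.pullbackComp e.hom i.ker.subschemeι).app L ≪≫
        eqToIso (congrArg (fun q => (Scheme.Modules.pullback q).obj L) he))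
      (AmpleVan.isAmple_pullback_of_isEmbedding e.hom e.hom.isClosedEmbedding.isEmbedding (H _ i.ker inferInstance rfl))
  intro C
  induction C using WellFoundedLT.induction with
  | ind C IH =>
    intro I hI hIC
    haveI := hI
    open Groth.Agent in
    letI : I.subscheme.Over (Spec (CommRingCat.of k)) := SurfInt.overComp k I.subschemeι
    open Groth.Agent in
    haveI := SurfInt.isProper_comp k I.subschemeι rfl
    haveI : IsLocallyNoetherian I.subscheme := LocallyOfFiniteType.isLocallyNoetherian I.subschemeι
    haveI : IsNoetherian I.subscheme := Groth.Agent.CurveCohLib.isNoetherian_of_proper (k := k)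
    let M := (Scheme.Modules.pullback I.subschemeι).obj L
    have hM : PicF.IsInvertible M := Groth.Agent.PicClLib.isInvertible_pullback I.subschemeι hL
    obtain ⟨m, s, hs⟩ := heff I hI
    have hW : ∀ (W : Scheme.{u}) (i' : W ⟶ I.subscheme), IsClosedImmersion i' → IsIntegral W →
        Set.range i' ≠ Set.univ → CohB1.IsAmple ((Scheme.Modules.pullback i').obj M) := by
      intro W i' hi' hW' hne
      haveI := hi'
      haveI := hW'
      open Groth.Agent in
      obtain ⟨e, he⟩ := SurfInt.exists_iso_subscheme (i' ≫ I.subschemeι)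
      haveI : Nonempty (i' ≫ I.subschemeι).ker.subscheme := Nonempty.map e.hom inferInstance
      haveI : IsIntegral (i' ≫ I.subschemeι).ker.subscheme := isIntegral_of_isOpenImmersion e.inv
      have hlt : (i' ≫ I.subschemeι).ker.support < C := by
        refine SetLike.coe_ssubset_coe.1 ?_
        rw [← hIC, Scheme.Hom.support_ker, (i' ≫ I.subschemeι).isClosedEmbedding.isClosed_range.closure_eq,
          ← I.range_subschemeι, Scheme.Hom.comp_base, TopCat.coe_comp, Set.range_comp]
        exact Set.ssubset_iff_subset_ne.2 ⟨Set.image_subset_range _ _, fun he' =>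
          hne (I.subschemeι.isClosedEmbedding.injective.image_injective (he'.trans Set.image_univ.symm))⟩
      haveI : CompactSpace W := i'.isClosedEmbedding.compactSpace
      open Groth.Agent in
      exact AmpleX.isAmple_of_iso ((Scheme.Modules.pullbackComp e.hom (i' ≫ I.subschemeι).ker.subschemeι).app L ≪≫
          eqToIso (congrArg (fun q => (Scheme.Modules.pullback q).obj L) he) ≪≫
          ((Scheme.Modules.pullbackComp i' I.subschemeι).app L).symm)
        (AmpleVan.isAmple_pullback_of_isEmbedding e.hom e.hom.isClosedEmbedding.isEmbedding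
          (IH _ hlt _ inferInstance rfl))
    haveI : JacobsonSpace I.subscheme := LocallyOfFiniteType.jacobsonSpace (I.subscheme ↘ Spec (CommRingCat.of k))
    open Groth.Agent in
    have hpt : ∀ x : I.subscheme, ∃ n : ℕ, 0 < n ∧
        ∃ t : Γ(CohB1.tensorPow M n, ⊤), x ∈ AmpleX.locus t := fun x => by
      obtain ⟨z, hz, hzc⟩ := IsClosed.exists_closed_singleton (isClosed_closure (s := ({x} : Set I.subscheme)))
        ⟨x, subset_closure rfl⟩
      open Groth.Agent in
      obtain ⟨n, hn, t, ht⟩ := VarAmp.exists_mem_locus (k := k) hW hM (Nat.succ_pos m) s hs hzc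
      exact ⟨n, hn, t, (specializes_iff_mem_closure.2 hz).mem_open (Groth.Agent.AmpleX.locus t).isOpen ht⟩
    choose n hn t ht using hpt
    obtain ⟨S, hS⟩ := isCompact_univ.elim_finite_subcover
      (fun x => (Groth.Agent.AmpleX.locus (t x) : Set I.subscheme))
      (fun x => (Groth.Agent.AmpleX.locus (t x)).isOpen) (fun x _ => Set.mem_iUnion.2 ⟨x, ht x⟩)
    have hN : 0 < ∏ x ∈ S, n x := Finset.prod_pos fun x _ => hn x
    have hgen : ∀ x : I.subscheme, ∃ t' : Γ(CohB1.tensorPow M (∏ x ∈ S, n x), ⊤),
        x ∈ Groth.Agent.AmpleX.locus t' := fun x => by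
      obtain ⟨i, hi⟩ := Set.mem_iUnion.1 (hS (Set.mem_univ x))
      obtain ⟨hiS, hxi⟩ := Set.mem_iUnion.1 hi
      obtain ⟨b, hb⟩ := Finset.dvd_prod_of_mem n hiS
      open Groth.Agent in
      obtain ⟨t', ht'⟩ := AmpleX.exists_pow_section hM (t i) (Nat.pos_of_mul_pos_left (hb ▸ hN))
      rw [hb]
      exact ⟨t', ht' ▸ hxi⟩
    refine Groth.Agent.AmpleX.isAmple_of_tensorPow hM hN ?_
    open Groth.Agent in
    refine AVAmple.isAmple_of_nontriv (I.subscheme ↘ Spec (CommRingCat.of k))
      (InvX.isInvertible_tensorPow hM _) (fun x => ?_) fun {D} j hj hD htriv => ?_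
    · obtain ⟨t', ht'⟩ := hgen x
      refine ⟨t', ?_⟩
      show x ∈ CohB1.genLocus _ (Groth.Agent.InvX.ofSect t')
      rw [Groth.Agent.AmpleX.genLocus_eq_locus, Groth.Agent.InvX.one_ofSect]
      exact ht'
    haveI := hj
    haveI := hD
    by_contra hfin
    have hinf : (Set.range j).Infinite := fun hf => hfin
      (haveI := hf.to_subtype; Finite.of_injective_finite_range (f := j) j.isClosedEmbedding.injective)
    open Groth.Agent in
    obtain ⟨η, hη, hη1⟩ := VarAmp.exists_curve_of_infinite k j.isClosedEmbedding.isClosed_range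
      (by rw [← Set.image_univ]
          exact (IrreducibleSpace.isIrreducible_univ D).image _ j.continuous.continuousOn) hinf
    let P := Groth.Agent.VarInt.ptClosure η
    open Groth.Agent in
    obtain ⟨g, hg⟩ := H23.RedSub.exists_lift_closed P.subschemeι j
      (by rw [VarInt.range_ptClosure]
          exact j.isClosedEmbedding.isClosed_range.closure_subset_iff.2 (Set.singleton_subset_iff.2 hη))
    open Groth.Agent in
    obtain ⟨e⟩ := ((H23.TrivBasic.triv_congr hg).1
      ((H23.TrivBasic.triv_comp_iff g j).1 (htriv.pullback g)))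
    let c := P.subschemeι ≫ I.subschemeι
    open Groth.Agent in
    letI : P.subscheme.Over (Spec (CommRingCat.of k)) := SurfInt.overComp k c
    haveI : IsProper (P.subscheme ↘ Spec (CommRingCat.of k)) := Groth.Agent.SurfInt.isProper_comp k c rfl
    have hdimP : topologicalKrullDim P.subscheme = 1 := by
      rw [(P.subschemeι.isClosedEmbedding.isEmbedding.toHomeomorph.trans
        (Homeomorph.setCongr (Groth.Agent.VarInt.range_ptClosure η))).isHomeomorph.topologicalKrullDim_eq, hη1]
    haveI : IsLocallyNoetherian P.subscheme := LocallyOfFiniteType.isLocallyNoetherian c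
    open Groth.Agent in
    obtain ⟨eC, -⟩ := SurfInt.exists_iso_subscheme c
    haveI : Nonempty c.ker.subscheme := Nonempty.map eC.hom inferInstance
    haveI : IsIntegral c.ker.subscheme := isIntegral_of_isOpenImmersion eC.inv
    have hsupp : topologicalKrullDim (c.ker.support : Set X) = 1 := by
      rw [Scheme.Hom.support_ker, c.isClosedEmbedding.isClosed_range.closure_eq,
        ← c.isClosedEmbedding.isEmbedding.toHomeomorph.isHomeomorph.topologicalKrullDim_eq, hdimP]
    have hdeg : 0 < Curv2.deg k P.subscheme ((Scheme.Modules.pullback c).obj L) 1 := by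
      rw [← Groth.Agent.SurfInt.degOn_quot_ker k c rfl hL]
      exact hnef c.ker inferInstance hsupp
    open Groth.Agent in
    have hamp := AmpleX.isAmple_tensorPow
      (VarAmp.isAmple_of_deg_pos k hdimP (PicClLib.isInvertible_pullback c hL) hdeg) hN
    obtain ⟨e1⟩ := Groth.Agent.VarInt.nonempty_pullback_tensorPow P.subschemeι M (∏ x ∈ S, n x)
    open Groth.Agent in
    obtain ⟨e2⟩ : Nonempty (CohB1.tensorPow ((Scheme.Modules.pullback c).obj L) (∏ x ∈ S, n x) ≅
        Coh.structureModule P.subscheme) := by
      open scoped Groth.Agent.H23.PicMul in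
      open Groth.Agent in
      refine H23.PicMul.cl_eq_iff.1 ?_
      open scoped Groth.Agent.H23.PicMul in
      open Groth.Agent in
      rw [← H23.PicMul.cl_eq_iff.2 ⟨e1.symm ≪≫ e⟩, H23.PicMul.cl_tensorPow, H23.PicMul.cl_tensorPow,
        show PicF.cl ((Scheme.Modules.pullback P.subschemeι).obj M) = PicF.cl ((Scheme.Modules.pullback c).obj L) from
          H23.PicMul.cl_eq_iff.2 ⟨(Scheme.Modules.pullbackComp P.subschemeι I.subschemeι).app L⟩]
    open Groth.Agent in
    have h0 := VarAmp.deg_pos_of_isAmple k hdimP (AmpleX.isAmple_of_iso e2 hamp)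
    unfold Curv2.deg at h0
    simp at h0


end Groth.Agent.S16711
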