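import Groth.Statements.S16742
import Mathlib
import Groth.Agent.S6349
-- import your own Groth.Agent.* helpers here

set_option autoImplicit false
universe u
open CAlg

namespace Groth.Agent.S16742

open scoped TensorProduct

/-- The equivalence in affine form, with flatness of the reduction in place of smoothness. Let p be a
prime, A~ a commutative ring flat over Z/p^2 and B~ an A~-algebra such that B~/pB~ is flat over
A~/pA~. Then B~ is flat over A~ if and only if every element of B~ killed by p is a multiple of p;
equivalently multiplication by p identifies B~/pB~ with pB~. (The published statement assumes the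
reduction smooth over A~/pA~ and the schemes noetherian, and phrases (b) as B~ being a lifting, that
is flat over A~; the statement here assumes only that the reduction is flat, where the equivalence
still holds by the local flatness criterion for the square-zero ideal generated by p.) -/
theorem result (p : ℕ) [Fact p.Prime]
    (Al : Type u) [CommRing Al] [Algebra (ZMod (p ^ 2)) Al] [Module.Flat (ZMod (p ^ 2)) Al]
    (Bl : Type u) [CommRing Bl] [Algebra Al Bl]
    (hB : Module.Flat (Al ⧸ Ideal.span {(p : Al)})
      (Bl ⧸ (Ideal.span {(p : Al)}).map (algebraMap Al Bl))) :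
    Module.Flat Al Bl ↔ ∀ b : Bl, (p : Bl) * b = 0 → b ∈ Ideal.span {(p : Bl)} := by
  have hp2 : ((p : Al) ^ 2) = 0 := by
    rw [show (p : Al) ^ 2 = algebraMap (ZMod (p ^ 2)) Al ((p : ZMod (p ^ 2)) ^ 2) by simp,
      ← Nat.cast_pow, ZMod.natCast_self, map_zero]
  constructor
  · intro hfl b hb
    letI : Algebra (ZMod (p ^ 2)) Bl := ((algebraMap Al Bl).comp (algebraMap (ZMod (p ^ 2)) Al)).toAlgebra
    haveI : IsScalarTower (ZMod (p ^ 2)) Al Bl := IsScalarTower.of_algebraMap_eq' rfl
    haveI : Module.Flat (ZMod (p ^ 2)) Bl := Module.Flat.trans (ZMod (p ^ 2)) Al Bl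
    have hpsq : p ≠ 0 := (Fact.out : p.Prime).ne_zero
    have hex : Function.Exact (LinearMap.mulLeft (ZMod (p ^ 2)) (p : ZMod (p ^ 2)))
        (LinearMap.mulLeft (ZMod (p ^ 2)) (p : ZMod (p ^ 2))) := by
      intro x
      constructor
      · intro hx
        obtain ⟨m, rfl⟩ := ZMod.natCast_zmod_surjective (n := p ^ 2) x
        simp only [LinearMap.mulLeft_apply, ← Nat.cast_mul, ZMod.natCast_eq_zero_iff] at hx
        rw [pow_two] at hx
        obtain ⟨d, rfl⟩ := (Nat.mul_dvd_mul_iff_left (Nat.pos_of_ne_zero hpsq)).1 hx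
        exact ⟨(d : ZMod (p ^ 2)), by simp⟩
      · rintro ⟨y, rfl⟩
        simp only [LinearMap.mulLeft_apply, ← mul_assoc, ← pow_two, ← Nat.cast_pow, ZMod.natCast_self,
          zero_mul]
    have hT := Module.Flat.lTensor_exact Bl hex
    have key : ∀ z : Bl ⊗[ZMod (p ^ 2)] ZMod (p ^ 2),
        TensorProduct.rid (ZMod (p ^ 2)) Bl ((LinearMap.mulLeft (ZMod (p ^ 2)) (p : ZMod (p ^ 2))).lTensor Bl z) =
          (p : Bl) * TensorProduct.rid (ZMod (p ^ 2)) Bl z := by
      intro z
      induction z using TensorProduct.induction_on with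
      | zero => simp
      | tmul m r => simp [Algebra.smul_def]; ring
      | add z w hz hw => simp only [map_add, hz, hw, mul_add]
    obtain ⟨z, hz⟩ := (hT ((TensorProduct.rid (ZMod (p ^ 2)) Bl).symm b)).1
      ((TensorProduct.rid (ZMod (p ^ 2)) Bl).injective (by rw [key, map_zero, LinearEquiv.apply_symm_apply, hb]))
    refine Ideal.mem_span_singleton'.2 ⟨TensorProduct.rid (ZMod (p ^ 2)) Bl z, ?_⟩
    have := key z
    rw [hz, LinearEquiv.apply_symm_apply] at this
    rw [this]; ring
  · intro h
    let I : Ideal Al := Ideal.span {(p : Al)}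
    haveI : Module.Flat (Al ⧸ I) ((Al ⧸ I) ⊗[Al] Bl) :=
      Module.Flat.of_linearEquiv (Algebra.TensorProduct.quotIdealMapEquivQuotTensor Bl I).symm.toLinearEquiv
    have htor : Function.Injective ((Submodule.subtype I).rTensor Bl) := by
      refine (injective_iff_map_eq_zero _).2 fun z hz => ?_
      have hex : ∃ b : Bl, z = (⟨(p : Al), Ideal.mem_span_singleton_self _⟩ : I) ⊗ₜ b := by
        clear hz
        induction z using TensorProduct.induction_on with
        | zero => exact ⟨0, by simp⟩
        | tmul i b =>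
          obtain ⟨c, hc⟩ := Ideal.mem_span_singleton'.1 i.2
          refine ⟨c • b, ?_⟩
          rw [← TensorProduct.smul_tmul]
          congr 1
          exact Subtype.ext hc.symm
        | add z w hz hw =>
          obtain ⟨b, rfl⟩ := hz
          obtain ⟨b', rfl⟩ := hw
          exact ⟨b + b', by rw [TensorProduct.tmul_add]⟩
      obtain ⟨b, rfl⟩ := hex
      have hpb : (p : Bl) * b = 0 := by
        simpa [Algebra.smul_def] using congrArg (TensorProduct.lid Al Bl) hz
      obtain ⟨c, rfl⟩ := Ideal.mem_span_singleton'.1 (h b hpb)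
      have : c * (p : Bl) = (p : Al) • c := by rw [Algebra.smul_def]; simp [mul_comm]
      rw [this, ← TensorProduct.smul_tmul]
      have h0 : (p : Al) • (⟨(p : Al), Ideal.mem_span_singleton_self _⟩ : I) = 0 :=
        Subtype.ext (by simpa [pow_two] using hp2)
      rw [h0, TensorProduct.zero_tmul]
    have h2 := Groth.Agent.S6349.result Al I Bl htor 2 (by norm_num)
    have hI2 : I ^ 2 = ⊥ := by rw [Ideal.span_singleton_pow, hp2, Ideal.span_singleton_eq_bot]
    haveI : Module.Flat Al (Al ⧸ I ^ 2) :=
      Module.Flat.of_linearEquiv ((Submodule.quotEquivOfEq _ _ hI2).trans (Submodule.quotEquivOfEqBot ⊥ rfl))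
    haveI := h2
    haveI : Module.Flat Al ((Al ⧸ I ^ 2) ⊗[Al] Bl) := Module.Flat.trans Al (Al ⧸ I ^ 2) _
    exact Module.Flat.of_linearEquiv
      ((TensorProduct.lid Al Bl).symm.trans (LinearEquiv.rTensor Bl
        ((Submodule.quotEquivOfEq _ _ hI2).trans (Submodule.quotEquivOfEqBot ⊥ rfl)).symm))

end Groth.Agent.S16742
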