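import Groth.Statements.S16752
import Groth.Agent.CStk17.H0Open.Main
import Groth.Agent.S0404

set_option autoImplicit false
universe u
open CurvSt

namespace Groth.Agent.S16752

set_option backward.isDefEq.respectTransparency false
set_option backward.isDefEq.respectTransparency.types false

open CategoryTheory CategoryTheory.Limits AlgebraicGeometry in
/-- Let f : X → S be a flat, proper morphism of schemes, locally of finite presentation, all of whose
fibres have dimension at most one (a family of curves whose total space is a scheme). Then the set
of points s of S such that the fibre X_s has dimension one and dim_{κ(s)} H^0(X_s, O_{X_s}) = 1 (the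
conditions under which the genus of X_s is defined) is open in S. The source allows the total space
to be an algebraic space and phrases the result as the existence of an open substack of the stack of
curves with this membership condition. -/
theorem result (X S : Scheme.{u}) (f : X ⟶ S)
    [Flat f] [IsProper f] [LocallyOfFinitePresentation f]
    (hdim : ∀ s : S, topologicalKrullDim ↥(f.fiber s) ≤ 1) :
    IsOpen {s : S | topologicalKrullDim ↥(f.fiber s) = 1 ∧
      Models.hRank ↥(S.residueField s) (f.fiber s) (f.fiberToSpecResidueField s)
        (Coh.structureModule (f.fiber s)) 0 = 1} := by
  haveI : QuasiCompact f := inferInstance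
  have h0 : IsOpen {s : S | (0 : WithBot ℕ∞) < topologicalKrullDim ↥(f.fiber s)} :=
    Groth.Agent.S0404.result f 0
  convert h0.inter (CStk17.H0Open.isOpen_setOf_h0_eq_one f) using 1
  ext s
  refine and_congr_left fun _ => ⟨fun h => by rw [Set.mem_setOf_eq, h]; exact zero_lt_one,
    fun (h : 0 < topologicalKrullDim ↥(f.fiber s)) => le_antisymm (hdim s) ?_⟩
  exact Order.succ_le_of_lt h

end Groth.Agent.S16752
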