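import Groth.Statements.S16754
import Groth.Agent.CurveBC.Main

set_option autoImplicit false
universe u
open CurvSt

set_option backward.isDefEq.respectTransparency false
set_option backward.isDefEq.respectTransparency.types false

namespace Groth.Agent.S16754

open CategoryTheory CategoryTheory.Limits AlgebraicGeometry in
/-- Let k be a field and X a scheme which is proper and smooth over k and of dimension one. Then the
following are equivalent: dim_k H^0(X, O_X) = 1 (the ground field is the ring of global functions);
X is geometrically connected over k; X is geometrically integral over k. (The remaining conditions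
of the source concern membership in an open substack of the stack of curves and are not stated.) -/
theorem result (k : Type u) [Field k]
    (X : Scheme.{u}) [X.Over (Spec (CommRingCat.of k))] [IsProper (X ↘ Spec (CommRingCat.of k))]
    [Smooth (X ↘ Spec (CommRingCat.of k))] (hdim : topologicalKrullDim ↥X = 1) :
    (Module.finrank k (Coh.HH X (Coh.structureModule X) 0) = 1 ↔ GeometricallyConnected (X ↘ Spec (CommRingCat.of k))) ∧
      (GeometricallyConnected (X ↘ Spec (CommRingCat.of k)) ↔ GeometricallyIntegral (X ↘ Spec (CommRingCat.of k))) := by
  let p := X ↘ Spec (CommRingCat.of k)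
  have h1 : GeometricallyConnected p → Module.finrank k (Coh.HH X (Coh.structureModule X) 0) = 1 := fun h =>
    haveI := h
    CurveBC.finrank_h0_of_geometricallyConnected k X
  have h2 : Module.finrank k (Coh.HH X (Coh.structureModule X) 0) = 1 → GeometricallyIntegral p := fun h0 =>
    ⟨fun K _ y Z fst snd hpb => by
      letI : Algebra k K := (Spec.preimage y).hom.toAlgebra
      letI : Z.Over (Spec (CommRingCat.of K)) := ⟨snd⟩
      refine CurveBC.isIntegral (X := X) (X' := Z) k K fst ?_ h0
      have hy : Spec.map (CommRingCat.ofHom (algebraMap k K)) = y := Spec.map_preimage y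
      rw [hy]
      exact hpb⟩
  have h3 : GeometricallyIntegral p → GeometricallyConnected p := fun h =>
    ⟨fun K _ y Z fst snd hpb =>
      haveI : IsIntegral Z := h.geometrically_isIntegral y fst snd hpb
      inferInstance⟩
  exact ⟨⟨fun h => h3 (h2 h), h1⟩, ⟨fun h => h2 (h1 h), h3⟩⟩

end Groth.Agent.S16754
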