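import Groth.Statements.S16794
import Groth.Agent.H44Deriv.Iterate

set_option autoImplicit false
universe v u
open PCurv

namespace Groth.Agent.S16794

open TensorProduct in
/-- Let p be a prime number and B a commutative algebra of characteristic p over a commutative ring A
whose module Ω of Kähler differentials over A is free of rank one on a form ω; let θ₀ be the
A-derivation of B dual to ω (its B-linear functional Ω → B takes the value 1 on ω), and let ∇ be a
connection on a finite free B-module M. Then the p-curvature of ∇ vanishes identically — for every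
A-derivation θ of B and every derivation θ' that agrees with the p-fold iterate of θ, the
endomorphism (∇_θ)^p − ∇_{θ'} of M is zero — if and only if it vanishes for the single derivation
θ₀. -/
theorem result {A : Type v} {B M : Type u} [CommRing A] [CommRing B]
    [Algebra A B] (p : ℕ) [Fact p.Prime] [CharP B p]
    [AddCommGroup M] [Module B M] [Module A M] [IsScalarTower A B M] [Module.Finite B M] [Module.Free B M]
    (bΩ : Module.Basis (Fin 1) B (KaehlerDifferential A B)) (θ₀ : Derivation A B B)
    (hθ₀ : θ₀.liftKaehlerDifferential (bΩ 0) = 1)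
    (nabla : M →ₗ[A] M ⊗[B] KaehlerDifferential A B)
    (hc : Conn.IsConn (KaehlerDifferential.D A B) nabla) :
    (∀ θ θp : Derivation A B B, Conn.IsIterPow θ p θp → Conn.pCurv p nabla θ θp = 0) ↔
      (∀ θp : Derivation A B B, Conn.IsIterPow θ₀ p θp → Conn.pCurv p nabla θ₀ θp = 0) := by
  refine ⟨fun h θp hθp => h θ₀ θp hθp, fun h θ θp hθp => ?_⟩
  have h0 := h (H44Deriv.iterPow p θ₀) (H44Deriv.iterPow_apply p θ₀)
  have key : ∀ (D : Derivation A B B) (b : B) (m : M),
      Conn.alongDer nabla D (b • m) = b • Conn.alongDer nabla D m + D b • m := by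
    intro D b m
    simp only [Conn.alongDer, Conn.along_apply, hc b m, map_add, map_smul, TensorProduct.map_tmul,
      TensorProduct.rid_tmul, LinearMap.id_apply, Derivation.liftKaehlerDifferential_comp_D]
  have hlift : ∀ (D : Derivation A B B), D.liftKaehlerDifferential =
      D.liftKaehlerDifferential (bΩ 0) • θ₀.liftKaehlerDifferential := by
    intro D
    refine bΩ.ext fun i => ?_
    fin_cases i
    simp [hθ₀]
  have halong : ∀ (D : Derivation A B B) (m : M), Conn.alongDer nabla D m =
      D.liftKaehlerDifferential (bΩ 0) • Conn.alongDer nabla θ₀ m := by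
    intro D m
    simp only [Conn.alongDer, Conn.along_apply]
    conv_lhs => rw [hlift D]
    rw [TensorProduct.map_smul_right, LinearMap.smul_apply, map_smul]
  have hθ : ∀ (D : Derivation A B B) (b : B), D b = D.liftKaehlerDifferential (bΩ 0) * θ₀ b := by
    intro D b
    rw [← Derivation.liftKaehlerDifferential_comp_D D b]
    conv_lhs => rw [hlift D]
    simp
  set f : B := θ.liftKaehlerDifferential (bΩ 0) with hf
  set c : B := H44Deriv.coef θ₀ f p 1 with hcdef
  have hθp' : θp = c • θ₀ + f ^ p • H44Deriv.iterPow p θ₀ := by
    ext b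
    rw [hθp b, show (⇑θ : B → B) = fun y => f • θ₀.toLinearMap.toAddMonoidHom y from funext fun y => hθ θ y,
      H44Deriv.pth_iterate_smul p θ₀ f θ₀.toLinearMap.toAddMonoidHom
        (fun b x => by simp [mul_comm (θ₀ b) x]) b]
    simp [H44Deriv.iterPow_apply, hcdef]
  refine LinearMap.ext fun m => ?_
  have hm := LinearMap.congr_fun h0 m
  simp only [Conn.pCurv, LinearMap.sub_apply, LinearMap.zero_apply, sub_eq_zero, Module.End.pow_apply] at hm ⊢
  rw [show (⇑(Conn.alongDer nabla θ) : M → M) = fun y => f • (Conn.alongDer nabla θ₀).toAddMonoidHom y from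
      funext fun y => halong θ y,
    H44Deriv.pth_iterate_smul p θ₀ f _ (key θ₀) m, hθp']
  simp only [LinearMap.toAddMonoidHom_coe]
  rw [hm, halong (c • θ₀ + f ^ p • H44Deriv.iterPow p θ₀), halong (H44Deriv.iterPow p θ₀), smul_smul, ← add_smul,
    ← hcdef]
  congr 1
  have : (c • θ₀ + f ^ p • H44Deriv.iterPow p θ₀).liftKaehlerDifferential =
      c • θ₀.liftKaehlerDifferential + f ^ p • (H44Deriv.iterPow p θ₀).liftKaehlerDifferential := by
    refine Derivation.liftKaehlerDifferential_unique _ _ ?_
    ext b
    simp
  rw [this]
  simp [hθ₀]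

end Groth.Agent.S16794
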