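import Groth.Statements.S16823
import Groth.Agent.AlgStkX.AffineDiag
import Groth.Agent.AlgStkX.EtaleQuot

set_option backward.isDefEq.respectTransparency false
set_option backward.isDefEq.respectTransparency.types false

set_option autoImplicit false
universe u
open AlgSt

namespace Groth.Agent.S16823

open CategoryTheory CategoryTheory.Functor in
open Groth.Agent.FibBase Groth.Agent.AlgStLib in
theorem diag_toSelf_of_isEquivOver {S : AlgebraicGeometry.Scheme.{u}} {P : MorphismProperty (AlgSp.Sp S)}
    {X Y : AlgSt.Cat S} {e : X ⥤ᵇ Y} (he : FibCat.IsEquivOver e)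
    (h : AlgSt.RepByAlgSpWith P (FibCat.diag (FibCat.toSelf Y))) :
    AlgSt.RepByAlgSpWith P (FibCat.diag (FibCat.toSelf X)) := by
  rw [← comp_toSelf e]
  let g := FibCat.toSelf Y
  have : (BasedFunctor.id (FibCat.selfOver (Over S) : AlgSt.Cat S)).toFunctor.Full := inferInstanceAs (𝟭 _).Full
  have : (BasedFunctor.id (FibCat.selfOver (Over S) : AlgSt.Cat S)).toFunctor.Faithful :=
    inferInstanceAs (𝟭 _).Faithful
  let i : BasedFunctor.comp e g ≅
      BasedFunctor.comp (BasedFunctor.comp e g) (BasedFunctor.id (FibCat.selfOver (Over S) : AlgSt.Cat S)) :=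
    Iso.refl _
  exact (repByAlgSpWith_iff_of_square (f := FibCat.diag g) (f' := FibCat.diag (BasedFunctor.comp e g)) (a := e)
    (b := fpMap (F := g) (G := g) (F' := BasedFunctor.comp e g) (G' := BasedFunctor.comp e g) i i.symm) he
    (fpMap_isEquivOver _ _ he he) (diagMapIso e _ i)).1 h

open CategoryTheory AlgebraicGeometry Limits in
/-- Let S be an affine scheme, G a group scheme over S whose structure morphism is smooth and affine,
and X a scheme over S with an action of G whose structure morphism X → S has affine diagonal. Then
the quotient stack [X/G] over (Sch/S) (objects over T: a G-torsor over T locally trivial for the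
etale topology, with an equivariant morphism to X) has affine diagonal over S: the diagonal [X/G] →
[X/G] ×_{(Sch/S)} [X/G] is representable by algebraic spaces and affine. The source allows X to be
an algebraic space and also treats quasi-affine diagonals; X is a scheme here and only the affine
case is stated. -/
theorem result (S : Scheme.{u}) [IsAffine S]
    (G : Over S) [GrpObj G] (hGs : Smooth G.hom) (hGa : IsAffineHom G.hom)
    (X : Over S) (aX : AlgGrp.Action G X) (hX : IsAffineHom (pullback.diagonal X.hom)) :
    AlgSt.RepByAlgSpWith AlgSp.IsAffineMor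
      (FibCat.diag (FibCat.toSelf (AlgSt.QuotSt Scheme.etalePrecoverage G aX))) := by
  have := hGs
  have := hGa
  exact diag_toSelf_of_isEquivOver (Groth.Agent.AlgStkX.EtaleQuot.toFppf_isEquivOver aX)
    (Groth.Agent.AlgStkX.repByAlgSpWith_isAffineMor_diag aX hX)

end Groth.Agent.S16823
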