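import Groth.Statements.S16833
import Groth.Agent.AlgSpDec.AffineClassQuot
import Groth.Agent.AlgSpDec.AffineProps
import Groth.Agent.AlgSpPts.Sep
import Groth.Agent.AlgSpLib.EtaleSmoothLocal
import Mathlib.AlgebraicGeometry.ZariskisMainTheorem
import Groth.Agent.AlgSpLib.AffineDescProps
import Groth.Agent.AlgSpLib.Descends2

set_option autoImplicit false
universe u
open AlgSp

namespace Groth.Agent.S16833

open CategoryTheory AlgebraicGeometry in
/-- Let p : U → X and f : X → Y be morphisms of algebraic spaces over a scheme S with p etale and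
surjective and f separated. If the composite U → Y is finite, then f is finite. -/
theorem result {S : Scheme.{u}}
    {U X Y : AlgSp.Space S} (p : U ⟶ X) (f : X ⟶ Y)
    (hp : AlgSp.IsEtaleMor p.hom) (hps : AlgSp.IsSurjectiveMor p.hom)
    (hf : AlgSp.IsSeparatedMor f.hom) (h : AlgSp.IsFiniteMor (p ≫ f).hom) :
    AlgSp.IsFiniteMor f.hom := by
  intro Z hZ g
  have sqX := IsPullback.of_hasPullback f.hom g
  have hsep' := AlgSpPts.isSeparatedMor_of_isPullback sqX hf
  obtain ⟨W, i, fst, sqW, hW, hi⟩ := h hZ g
  let a : (yon S).obj W ⟶ Limits.pullback f.hom g := Limits.pullback.lift (fst ≫ p.hom) ((yon S).map i)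
    (by rw [Category.assoc]; exact sqW.w)
  have sqa : IsPullback fst a p.hom (Limits.pullback.fst f.hom g) :=
    IsPullback.of_bot (by rw [Limits.pullback.lift_snd]; exact sqW) (Limits.pullback.lift_fst _ _ _).symm sqX
  have hXZ : IsAlgSpace (Limits.pullback f.hom g) :=
    AlgSpLib.isAlgSpace_pullback X.property (IsAlgSpace.yon_obj Z) Y.property _ _
  have haE : RepWith @Etale a := by
    have := AlgSpLib.isEtaleMor_of_isPullback sqa U.property X.property hXZ hp
      (𝟙 _) (repWith_id _ W)
    rwa [Category.id_comp] at this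
  have haS : RepWith @Surjective a :=
    AlgSpLib.repWith_surjective_of_surjective haE.rep (AlgSpLib.surjective_map_of_isPullback sqa hps)
  have haF : RepWith @IsFinite a := by
    refine AlgSpDec.repWith_of_postcomp (g := Limits.pullback.snd f.hom g) (AlgSpLib.repWith_mono
      (fun _ _ e (_ : IsClosedImmersion e) => inferInstanceAs (IsFinite e)) _ hsep') ?_
    rw [Limits.pullback.lift_snd]
    exact (repWith_yon_map_iff _ i).2 hi
  obtain ⟨M, ⟨e⟩⟩ := AlgSpDec.exists_iso_of_affine_finite_etale a haE haF haS
  obtain ⟨k, hk⟩ := (yon S).map_surjective (e.hom ≫ Limits.pullback.snd f.hom g)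
  obtain ⟨q, hq⟩ := (yon S).map_surjective (a ≫ e.inv)
  have hqk : q ≫ k = i := (yon S).map_injective (by
    rw [Functor.map_comp, hq, hk, Category.assoc, e.inv_hom_id_assoc]
    exact Limits.pullback.lift_snd _ _ _)
  have hrw : ∀ (R : MorphismProperty Scheme.{u}) [R.IsStableUnderBaseChange] [R.IsMultiplicative],
      RepWith R a → R q.left := fun R _ _ hR => (repWith_yon_map_iff R q).1
    (hq ▸ AlgSpLib.repWith_comp hR (AlgSpLib.repWith_of_isIso R e.inv))
  have : Surjective q.left := hrw _ haS
  have : Etale q.left := hrw _ haE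
  have : IsSeparated k.left := by
    rw [← isSeparatedMor_yon_map_iff k, hk]
    exact AlgSpPts.isSeparatedMor_comp
      (AlgSpLib.isSeparatedMor_of_repWith (AlgSpLib.repWith_of_isIso @IsSeparated e.hom)) hsep'
  have : IsFinite (q.left ≫ k.left) := by rw [← Over.comp_left, hqk]; exact hi
  have : LocallyOfFiniteType k.left :=
    AlgSpLib.IsEtLocal.of_precomp (P := @LocallyOfFiniteType) q.left k.left inferInstance inferInstance inferInstance
  have : UniversallyClosed k.left := UniversallyClosed.of_comp_surjective q.left k.left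
  have : QuasiCompact k.left := AlgSpLib.quasiCompact_of_comp_surjective q.left k.left
  have : IsProper k.left := { }
  have : LocallyQuasiFinite k.left := by
    refine (locallyQuasiFinite_iff_finite_preimage_singleton).2 fun z => ?_
    refine (((q.left ≫ k.left).finite_preimage_singleton z).image q.left).subset fun m hm => ?_
    obtain ⟨w, rfl⟩ := q.left.surjective m
    exact ⟨w, by simpa [Scheme.Hom.comp_apply] using hm, rfl⟩
  have hkf : IsFinite k.left := IsFinite.of_isProper_of_locallyQuasiFinite _
  refine ⟨M, k, e.hom ≫ Limits.pullback.fst f.hom g, ?_, ?_, hkf⟩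
  · rw [hk]
    exact IsPullback.of_iso sqX e.symm (Iso.refl _) (Iso.refl _) (Iso.refl _) (by simp) (by simp) (by simp) (by simp)
  · exact isAffine_of_isAffineHom k.left

end Groth.Agent.S16833
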