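import Groth.Statements.S16834
import Groth.Agent.S10533
import Groth.Agent.AlgSpPts.Descent
import Groth.Agent.AlgSpDec.AffineRep

set_option autoImplicit false
universe u
open CategoryTheory CategoryTheory.Limits AlgebraicGeometry
open AlgSp Groth.Agent

namespace Groth.Agent.S16834

/-- Let k be a field with algebraic closure k̄ and X an algebraic space over Spec k which is
quasi-separated over k and whose structure morphism is locally of finite type. If the base change X
×_k Spec k̄ (product with h_{Spec k̄} in fppf sheaves over Spec k) is isomorphic to h_T for an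
affine scheme T over k, then X is isomorphic to h_U for an affine scheme U over k. -/
theorem result (k : Type u) [Field k]
    (X : AlgSp.Space (Spec (CommRingCat.of k))) (hqs : AlgSp.IsQuasiSeparatedSp X.obj)
    (hlft : ∀ q : X.obj ⟶ (AlgSp.yon (Spec (CommRingCat.of k))).obj (Over.mk (𝟙 _)),
      AlgSp.LocP @LocallyOfFiniteType q)
    (kbar : Type u) [Field kbar] [Algebra k kbar] [IsAlgClosure k kbar]
    (T : Over (Spec (CommRingCat.of k))) (hT : IsAffine T.left)
    (e : X.obj ⨯ (AlgSp.yon (Spec (CommRingCat.of k))).obj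
        (Over.mk (Spec.map (CommRingCat.ofHom (algebraMap k kbar)))) ≅
      (AlgSp.yon (Spec (CommRingCat.of k))).obj T) :
    ∃ (U : Over (Spec (CommRingCat.of k))), IsAffine U.left ∧
      Nonempty (X.obj ≅ (AlgSp.yon (Spec (CommRingCat.of k))).obj U) := by
  let Sk := Spec (CommRingCat.of k)
  let one : Over Sk := Over.mk (𝟙 _)
  let K : Over Sk := Over.mk (Spec.map (CommRingCat.ofHom (algebraMap k kbar)))
  let c : K ⟶ one := Over.mkIdTerminal.from K
  let f : X.obj ⟶ (AlgSp.yon Sk).obj one := (AlgSpPts.isTerminalYon Sk).from _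
  have sq : IsPullback (prod.fst : X.obj ⨯ (AlgSp.yon Sk).obj K ⟶ _) prod.snd f ((AlgSp.yon Sk).map c) :=
    by
    rw [(AlgSpPts.isTerminalYon Sk).hom_ext ((AlgSp.yon Sk).map c) ((AlgSpPts.isTerminalYon Sk).from _)]
    exact IsPullback.of_is_product' (prodIsProd _ _) (AlgSpPts.isTerminalYon Sk)
  have hcl : c.left = Spec.map (CommRingCat.ofHom (algebraMap k kbar)) :=
    (Category.comp_id _).symm.trans (Over.w c)
  have hflat : Flat c.left := by
    have h : (algebraMap k kbar).Flat := RingHom.Flat.of_isField (Field.toIsField k) _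
    rw [hcl]
    exact (HasRingHomProperty.Spec_iff (P := @Flat)).2 h
  have hsurj : Surjective c.left := by
    rw [hcl]
    exact ⟨fun p => ⟨IsLocalRing.closedPoint kbar, Subsingleton.elim (α := PrimeSpectrum k) _ _⟩⟩
  have hK : IsAffine K.left := inferInstanceAs (IsAffine (Spec _))
  have hcov : AlgSp.IsFpqcCover (fun _ : PUnit.{u + 1} => (AlgSp.yon Sk).obj K)
      (fun _ => (AlgSp.yon Sk).map c) := by
    refine ⟨fun _ => AlgSpLib.locP_of_repWith ((AlgSp.repWith_yon_map_iff _ _).2 hflat), fun Z hZ h => ?_⟩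
    obtain ⟨h, rfl⟩ := (AlgSp.yon Sk).map_surjective h
    have : IsAffine (pullback c.left h.left) := by
      have : IsAffineHom c.left := by
        have : IsAffine one.left := inferInstanceAs (IsAffine (Spec _))
        infer_instance
      exact isAffine_of_isAffineHom (pullback.snd c.left h.left)
    let W : Over Sk := Over.mk (pullback.snd c.left h.left ≫ Z.hom)
    let b : W ⟶ Z := Over.homMk (pullback.snd c.left h.left) rfl
    let a : W ⟶ K := Over.homMk (pullback.fst c.left h.left) (by
      show _ ≫ K.hom = pullback.snd c.left h.left ≫ Z.hom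
      rw [← Over.w c, pullback.condition_assoc, Over.w h])
    refine ⟨1, fun _ => W, fun _ => b, fun _ => this, fun _ => ?_, fun z => ⟨0, ?_⟩,
      fun _ => ⟨PUnit.unit, (AlgSp.yon Sk).map a, ?_⟩⟩
    · exact (inferInstanceAs (Flat (pullback.snd c.left h.left)))
    · exact (pullback.snd c.left h.left).surjective z
    · rw [← Functor.map_comp, ← Functor.map_comp]
      exact congrArg _ (Over.OverMorphism.ext pullback.condition)
  have hp : AlgSp.IsAffineMor (prod.snd : X.obj ⨯ (AlgSp.yon Sk).obj K ⟶ _) := by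
    obtain ⟨t, ht⟩ := (AlgSp.yon Sk).map_surjective (e.inv ≫ prod.snd)
    have : IsAffineHom t.left := inferInstance
    refine AlgSpDec.isAffineMor_of_repWith le_rfl ?_
    rw [show (prod.snd : X.obj ⨯ (AlgSp.yon Sk).obj K ⟶ _) = e.hom ≫ (AlgSp.yon Sk).map t by
      rw [ht]
      exact (e.hom_inv_id_assoc _).symm]
    exact (AlgSp.RepWith _).cancel_left_of_respectsIso e.hom _ |>.2 ((AlgSp.repWith_yon_map_iff _ _).2 this)
  have hP : AlgSp.IsAlgSpace (X.obj ⨯ (AlgSp.yon Sk).obj K) := (AlgSp.IsAlgSpace.yon_obj T).of_iso e.symm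
  have hf := (S10533.result Sk (fun _ : PUnit.{u + 1} => (AlgSp.yon Sk).obj K) _ (AlgSp.IsAlgSpace.yon_obj one)
    (fun _ => AlgSp.IsAlgSpace.yon_obj K) hcov f X.property (fun _ => X.obj ⨯ (AlgSp.yon Sk).obj K)
    (fun _ => prod.snd) (fun _ => prod.fst) (fun _ => hP) (fun _ => sq)).2 fun _ => hp
  obtain ⟨W, i, fst, sqW, hW⟩ := hf (Z := one) (inferInstanceAs (IsAffine (Spec _))) (𝟙 _)
  have : IsIso fst := sqW.isIso_fst_of_isIso
  exact ⟨W, hW, ⟨(asIso fst).symm⟩⟩

end Groth.Agent.S16834
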