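import Groth.Statements.S16840
import Groth.Agent.AVTors2.FrobDeg
import Groth.Agent.AVTors2.DetAeval
import Mathlib.Analysis.Complex.Polynomial.Basic
-- import your own Groth.Agent.* helpers here

set_option autoImplicit false
set_option backward.isDefEq.respectTransparency false
set_option backward.isDefEq.respectTransparency.types false
set_option linter.style.haveILetI false
set_option synthInstance.maxHeartbeats 400000
universe u
open CategoryTheory MonoidalCategory CartesianMonoidalCategory MonObj GrpObj AlgebraicGeometry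
open AbVar

namespace Groth.Agent.S16840

set_option maxHeartbeats 2000000 in
/-- Let k be a finite field with q elements and algebraic closure Ω, ℓ a prime invertible in k, and X an
abelian variety over k (a proper, geometrically integral commutative group scheme over k) of
dimension g, with geometric Frobenius π_X (the endomorphism that is the identity on points and the
q-th power map on sections); assume, as is the case, that the ℓ-adic Tate module of Ω-points T_ℓ X
is free of finite rank over ℤ_ℓ, and let f_X ∈ ℤ[t] be the polynomial mapping to the characteristic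
polynomial of T_ℓ(π_X) (the characteristic polynomial of Frobenius). Let α_1, …, α_{2g} be the
complex roots of f_X with multiplicity. Then for every finite extension field k' of k, of degree n,
the number of k'-valued points of X equals ∏_i (1 − α_i^n). -/
theorem result (k Ω : Type u) [Field k] [Finite k] [Field Ω] [Algebra k Ω] [IsAlgClosure k Ω]
    (l : ℕ) [Fact l.Prime] (hl : (l : k) ≠ 0) (X : Over (Spec (CommRingCat.of k)))
    [GrpObj X] [IsCommMonObj X] [IsProper X.hom] [GeometricallyIntegral X.hom]
    (πX : X ⟶ X) [IsMonHom πX] (hπb : πX.left.base = 𝟙 _)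
    (hπle : ∀ U : X.left.Opens, U ≤ πX.left ⁻¹ᵁ U)
    (hπapp : ∀ (U : X.left.Opens) (s : Γ(X.left, U)), (πX.left.appLE U U (hπle U)).hom s = s ^ Nat.card k)
    [Module.Free ℤ_[l] (AbDual.TateMod X l (SGA7.pt Ω))] [Module.Finite ℤ_[l] (AbDual.TateMod X l (SGA7.pt Ω))]
    (P : Polynomial ℤ) (hP : (AbDual.tateMapₗ (l := l) (T := SGA7.pt Ω) πX).charpoly = P.map (Int.castRingHom ℤ_[l]))
    (k' : Type u) [Field k'] [Algebra k k'] [Finite k'] :
    (Nat.card (Over.mk (Spec.map (CommRingCat.ofHom (algebraMap k k'))) ⟶ X) : ℂ) =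
      (((P.map (Int.castRingHom ℂ)).roots.map (fun α => 1 - α ^ Module.finrank k k')).prod) := by
  haveI : IsAlgClosed Ω := IsAlgClosure.isAlgClosed k
  haveI : Module.Finite k k' := Module.Finite.of_finite
  let n := Module.finrank k k'
  have hn : n ≠ 0 := Module.finrank_pos.ne'
  let a : EndAV.End X := EndAV.End.of πX
  have ha : Groth.Agent.AVTors2.IsQFrob a.toHom := Groth.Agent.AVTors2.IsQFrob.mk' hπb hπle hπapp
  have hpow : Groth.Agent.AVTors2.IsPow (Nat.card k') (a ^ n).toHom := by
    rw [Module.natCard_eq_pow_finrank (K := k) (V := k')]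
    exact Groth.Agent.AVTors2.IsPow.of_qfrob_pow a ha n
  obtain ⟨hfin, hcard⟩ := Groth.Agent.AVTors2.card_fixed_eq_deg a ha hn Ω
  rw [← Groth.Agent.AVTors2.card_fixed k Ω k' _ hpow, hcard]
  obtain ⟨g, Pf, hg, -, hdata, hdeg⟩ :=
    Groth.Agent.AVDegPoly.exists_charpoly_data (Ω := Ω) (1 - a ^ n : EndAV.End X).toHom
  obtain ⟨hrank, hchar⟩ := hdata l hl
  let B := Module.Free.chooseBasis ℤ_[l] (AbDual.TateMod X l (SGA7.pt Ω))
  let Kl := AlgebraicClosure ℚ_[l]
  let ι' : ℤ_[l] →+* Kl := (algebraMap ℚ_[l] Kl).comp PadicInt.Coe.ringHom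
  let Φ : EndAV.End X →+* Matrix _ _ Kl :=
    ι'.mapMatrix.comp ((LinearMap.toMatrixAlgEquiv B).toRingEquiv.toRingHom.comp (EndAV.End.tateRep (A := X) l (SGA7.pt Ω)))
  have hc : ∀ (f : EndAV.End X) (Z : Polynomial ℤ),
      (AbDual.tateMapₗ (l := l) (T := SGA7.pt Ω) f.toHom).charpoly = Z.map (Int.castRingHom ℤ_[l]) →
      (Φ f).charpoly = Z.map (Int.castRingHom Kl) := by
    intro f Z h
    show ((LinearMap.toMatrixAlgEquiv B (EndAV.End.tateRep (A := X) l (SGA7.pt Ω) f)).map ι').charpoly = _
    rw [Matrix.charpoly_map, show (LinearMap.toMatrixAlgEquiv B (EndAV.End.tateRep (A := X) l (SGA7.pt Ω) f)).charpoly = _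
      from (LinearMap.charpoly_toMatrix _ B).trans h, Polynomial.map_map]
    congr 1
  have hPK := hc a P hP
  have hPfK := hc (1 - a ^ n) Pf hchar
  have hq : Φ (1 - a ^ n) = Polynomial.aeval (Φ a) (1 - Polynomial.X ^ n : Polynomial Kl) := by
    rw [map_sub, map_one, map_pow, map_sub, map_one, map_pow, Polynomial.aeval_X]
  have h0 : ((Pf.eval 0 : ℤ) : Kl) = ((P.map (Int.castRingHom Kl)).roots.map fun w => 1 - w ^ n).prod := by
    have h1 := Matrix.det_eq_sign_charpoly_coeff (Φ (1 - a ^ n))
    rw [hPfK, Polynomial.coeff_map] at h1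
    have heven : Even (Fintype.card (Module.Free.ChooseBasisIndex ℤ_[l] (AbDual.TateMod X l (SGA7.pt Ω)))) := by
      rw [← Module.finrank_eq_card_chooseBasisIndex, hrank]; exact even_two_mul g
    rw [heven.neg_one_pow, _root_.one_mul, hq, Groth.Agent.AVTors2.det_aeval, hPK, eq_intCast] at h1
    rw [← Polynomial.coeff_zero_eq_eval_zero, ← h1]
    simp
  let Qb := AlgebraicClosure ℚ
  have hmap : ∀ (L : Type) [Field L] [IsAlgClosed L] (j : Qb →+* L),
      ((P.map (Int.castRingHom L)).roots.map fun w => 1 - w ^ n).prod =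
        j ((P.map (Int.castRingHom Qb)).roots.map fun w => 1 - w ^ n).prod := by
    intro L _ _ j
    rw [map_multiset_prod, Multiset.map_map,
      show P.map (Int.castRingHom L) = (P.map (Int.castRingHom Qb)).map j from by
        rw [Polynomial.map_map]; congr 1; exact RingHom.ext_int _ _,
      Polynomial.Splits.roots_map (IsAlgClosed.splits _) j, Multiset.map_map]
    congr 1
    exact Multiset.map_congr rfl fun w _ => by simp
  let j : Qb →+* Kl := (IsAlgClosed.lift (R := ℚ) (S := Qb) (M := Kl)).toRingHom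
  let j' : Qb →+* ℂ := (IsAlgClosed.lift (R := ℚ) (S := Qb) (M := ℂ)).toRingHom
  rw [hmap Kl j, ← map_intCast j] at h0
  have h2 := hdeg.1 hfin (η[X].left (IsLocalRing.closedPoint k))
  have h3 : ((1 - a ^ n : EndAV.End X).toHom.left.finrank (η[X].left (IsLocalRing.closedPoint k)) : ℤ) = Pf.eval 0 := by
    exact_mod_cast h2
  rw [← Int.cast_natCast (R := ℂ), h3, hmap ℂ j', ← j.injective h0, map_intCast]

end Groth.Agent.S16840
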