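import Groth.Statements.S16846
import Groth.Agent.AVTors2.FrobKills
import Groth.Agent.AVTors2.FrobDeg
import Groth.Agent.AbTors.Factor
-- import your own Groth.Agent.* helpers here

set_option autoImplicit false
set_option backward.isDefEq.respectTransparency false
set_option backward.isDefEq.respectTransparency.types false
set_option linter.style.haveILetI false
set_option synthInstance.maxHeartbeats 400000
universe u
open CategoryTheory MonoidalCategory CartesianMonoidalCategory MonObj GrpObj AlgebraicGeometry
open AbVar

namespace Groth.Agent.S16846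

set_option maxHeartbeats 1000000 in
/-- Fix a finite field k of size q and an abelian variety X over k (a proper, geometrically integral
commutative group scheme over k) and π_X its geometric Frobenius (the identity on points, the q-th
power map on sections; a homomorphism). Then the endomorphism ring End_k(X) contains q/π_X: there is
a homomorphism v : X → X with π_X followed by v, and v followed by π_X, both equal to multiplication
by q (the q-th power of the identity in the group of morphisms X → X). -/
theorem result (k : Type u) [Field k] [Finite k] (X : Over (Spec (CommRingCat.of k)))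
    [GrpObj X] [IsCommMonObj X] [IsProper X.hom] [GeometricallyIntegral X.hom]
    (πX : X ⟶ X) [IsMonHom πX] (hπb : πX.left.base = 𝟙 _)
    (hπle : ∀ U : X.left.Opens, U ≤ πX.left ⁻¹ᵁ U)
    (hπapp : ∀ (U : X.left.Opens) (s : Γ(X.left, U)), (πX.left.appLE U U (hπle U)).hom s = s ^ Nat.card k) :
    ∃ (v : X ⟶ X) (_ : IsMonHom v), πX ≫ v = (𝟙 X) ^ Nat.card k ∧ v ≫ πX = (𝟙 X) ^ Nat.card k := by
  have hq : Groth.Agent.AVTors2.IsQFrob πX := Groth.Agent.AVTors2.IsQFrob.mk' hπb hπle hπapp
  have hP : Groth.Agent.AVTors2.IsPow (Nat.card k) πX := ⟨hq.base, hq.app⟩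
  obtain ⟨N, _, i, hi, hic, -, hker⟩ := Groth.Agent.GrpSchLib.exists_kernel πX
  haveI := hi
  haveI := hic
  haveI : IsProper N.hom := by rw [← Over.w i]; infer_instance
  haveI : Mono i := (Over.forget _).mono_of_mono_map (inferInstanceAs (Mono i.left))
  haveI : IsCommMonObj N := ⟨by
    rw [← cancel_mono i, Category.assoc, IsMonHom.mul_hom (f := i), ← BraidedCategory.braiding_naturality_assoc,
      IsCommMonObj.mul_comm]⟩
  have hiπ : i ≫ πX = 1 := by rw [hker.w, Hom.one_def]
  have sq : IsPullback i.left N.hom πX.left η[X].left := hker.map (Over.forget _)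
  have hsub : Subsingleton N.left := by
    refine ⟨fun a b => i.left.isClosedEmbedding.injective ?_⟩
    have hz : ∀ z : N.left, i.left z = η[X].left (IsLocalRing.closedPoint k) := fun z => by
      have h1 : (i ≫ πX).left z = η[X].left (N.hom z) := by
        rw [hker.w, Over.comp_left, Scheme.Hom.comp_apply]; rfl
      rw [Over.comp_left, Scheme.Hom.comp_apply] at h1
      have h2 : ∀ w : X.left, πX.left w = w := fun w => by
        show πX.left.base w = w
        rw [hπb]; rfl
      rw [h2] at h1
      rw [h1]
      exact congrArg η[X].left (Subsingleton.elim (α := PrimeSpectrum k) _ _)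
    rw [hz a, hz b]
  haveI : LocallyQuasiFinite N.hom := .of_finite_preimage_singleton N.hom fun y => Set.toFinite _
  haveI : IsFinite N.hom :=
    (IsFinite.iff_isProper_and_locallyQuasiFinite (f := N.hom)).mpr ⟨inferInstance, inferInstance⟩
  obtain ⟨πN, hπN⟩ := Groth.Agent.AVTors2.IsPow.exists_pow N 1
  rw [pow_one] at hπN
  have h1 : πN = 1 := by rw [← cancel_mono i, hπN.natural hP i, hiπ, MonObj.one_comp]
  rw [h1] at hπN
  have hkill := Groth.Agent.AVTors2.pow_card_eq_one_of_frob_trivial k N hπN
  haveI : Surjective πX.left := ⟨fun w => ⟨w, by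
    show πX.left.base w = w
    rw [hπb]; rfl⟩⟩
  haveI : IsProper (πX.left ≫ X.hom) := by rw [Over.w πX]; infer_instance
  haveI : IsProper πX.left := IsProper.of_comp πX.left X.hom
  haveI : IsIntegral X.left := GeometricallyIntegral.isIntegral_of_subsingleton X.hom
  haveI : Flat πX.left := Groth.Agent.GrpSchLib.flat_of_surjective_hom πX
  let φ : EndAV.End X := ((Nat.card k : ℕ) : EndAV.End X)
  have hφ : φ.toHom = (𝟙 X) ^ Nat.card k := EndAV.End.toHom_natCast _
  haveI : IsMonHom ((𝟙 X) ^ Nat.card k) := by rw [← hφ]; infer_instance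
  obtain ⟨v, ⟨hv, hπv⟩, -⟩ := Groth.Agent.AbTors.exists_unique_factor πX ((𝟙 X) ^ Nat.card k) fun T x hx => by
    obtain ⟨y, hy⟩ : ∃ y : T ⟶ N, y ≫ i = x :=
      ⟨hker.lift x (toUnit T) (by rw [hx, Hom.one_def]), hker.lift_fst _ _ _⟩
    have h2 : y ^ Nat.card k = 1 := by
      calc y ^ Nat.card k = y ≫ (𝟙 N) ^ Nat.card k := by rw [MonObj.comp_pow, Category.comp_id]
        _ = 1 := by rw [hkill, MonObj.comp_one]
    rw [MonObj.comp_pow, Category.comp_id, ← hy, ← MonObj.pow_comp, h2, MonObj.one_comp]
  refine ⟨v, hv, hπv, ?_⟩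
  haveI : Epi πX.left := inferInstance
  haveI : Epi πX := (Over.forget _).epi_of_epi_map (inferInstanceAs (Epi πX.left))
  rw [← cancel_epi πX, reassoc_of% hπv, MonObj.pow_comp, Category.id_comp, MonObj.comp_pow, Category.comp_id]

end Groth.Agent.S16846
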