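import Groth.Statements.S16847
import Groth.Agent.AVTors2.WeilNum
import Groth.Agent.AVTors2.WeilBound
import Groth.Agent.S16589
-- import your own Groth.Agent.* helpers here

set_option autoImplicit false
set_option backward.isDefEq.respectTransparency false
set_option backward.isDefEq.respectTransparency.types false
set_option linter.style.haveILetI false
set_option synthInstance.maxHeartbeats 400000
universe u
open CategoryTheory MonoidalCategory CartesianMonoidalCategory MonObj GrpObj AlgebraicGeometry
open AbVar

namespace Groth.Agent.S16847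

set_option maxHeartbeats 4000000 in
/-- Let k be a finite field with q elements and algebraic closure Ω, ℓ a prime invertible in k, and X an
abelian variety over k (a proper, geometrically integral commutative group scheme over k) of
dimension g, with geometric Frobenius π_X (the endomorphism that is the identity on points and the
q-th power map on sections); assume, as is the case, that the ℓ-adic Tate module of Ω-points T_ℓ X
is free of finite rank over ℤ_ℓ, and let f_X ∈ ℤ[t] be the polynomial mapping to the characteristic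
polynomial of T_ℓ(π_X) (the characteristic polynomial of Frobenius). Then ℚ[π_X] ⊆ End⁰(X) = ℚ ⊗
End_k(X) is a field (equivalently, X is elementary, i.e. isogenous to a power of a simple abelian
variety — that reformulation is not restated) if and only if f_X = h^n for some irreducible h ∈ ℚ[t]
and some n ≥ 1. -/
theorem result (k Ω : Type u) [Field k] [Finite k] [Field Ω] [Algebra k Ω] [IsAlgClosure k Ω]
    (l : ℕ) [Fact l.Prime] (hl : (l : k) ≠ 0) (X : Over (Spec (CommRingCat.of k)))
    [GrpObj X] [IsCommMonObj X] [IsProper X.hom] [GeometricallyIntegral X.hom]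
    (πX : X ⟶ X) [IsMonHom πX] (hπb : πX.left.base = 𝟙 _)
    (hπle : ∀ U : X.left.Opens, U ≤ πX.left ⁻¹ᵁ U)
    (hπapp : ∀ (U : X.left.Opens) (s : Γ(X.left, U)), (πX.left.appLE U U (hπle U)).hom s = s ^ Nat.card k)
    [Module.Free ℤ_[l] (AbDual.TateMod X l (SGA7.pt Ω))] [Module.Finite ℤ_[l] (AbDual.TateMod X l (SGA7.pt Ω))]
    (P : Polynomial ℤ) (hP : (AbDual.tateMapₗ (l := l) (T := SGA7.pt Ω) πX).charpoly = P.map (Int.castRingHom ℤ_[l])) :
    IsField (EndAV.QAdj (EndAV.End.of πX)) ↔
      ∃ (h : Polynomial ℚ) (n : ℕ), Irreducible h ∧ 0 < n ∧ P.map (Int.castRingHom ℚ) = h ^ n := by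
  obtain ⟨g, hg⟩ : ∃ g : ℕ, topologicalKrullDim X.left = g := by
    haveI : IsIntegral X.left := GeometricallyIntegral.isIntegral_of_subsingleton X.hom
    exact ⟨_, VarDim.topologicalKrullDim_eq_deg_genericPoint X.hom⟩
  obtain ⟨hint, hsf⟩ := Groth.Agent.AVTors2.squarefree_minpoly_frob πX hπb hπle hπapp
  constructor
  · intro hF
    haveI : IsDomain (EndAV.QAdj (EndAV.End.of πX)) := hF.isDomain
    let y : EndAV.QAdj (EndAV.End.of πX) := ⟨EndAV.toEnd0 (EndAV.End.of πX), Algebra.subset_adjoin (Set.mem_singleton _)⟩
    have hmy : minpoly ℚ (EndAV.toEnd0 (EndAV.End.of πX)) = minpoly ℚ y :=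
      minpoly.algHom_eq (EndAV.QAdj (EndAV.End.of πX)).val Subtype.val_injective y
    have hirr : Irreducible (minpoly ℚ (EndAV.toEnd0 (EndAV.End.of πX))) := by
      rw [hmy]
      exact minpoly.irreducible ((isIntegral_algHom_iff (EndAV.QAdj (EndAV.End.of πX)).val Subtype.val_injective).1 hint)
    obtain ⟨P', hP1, hP2⟩ := Groth.Agent.S16589.result k Ω l hl X g hg (EndAV.End.of πX) hirr
    obtain rfl : P = P' := Polynomial.map_injective _ Int.cast_injective (hP.symm.trans hP1)
    refine ⟨_, _, hirr, Nat.pos_of_ne_zero fun h0 => ?_, hP2⟩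
    rw [h0, pow_zero] at hP2
    have hd := (Groth.Agent.AVTors2.charpoly_int_props hl hg hP).1
    have hd0 := congrArg Polynomial.natDegree hP2
    rw [(Groth.Agent.AVTors2.monic_of_charpoly hP).natDegree_map, hd, Polynomial.natDegree_one] at hd0
    obtain ⟨hfree, hfin, hrank⟩ := Groth.Agent.AVTors2.hom_finite_free (A := X) (B := X) hg hg
    haveI : Module.Free ℤ (EndAV.End X) := hfree
    haveI : Module.Finite ℤ (EndAV.End X) := hfin
    rw [show g = 0 by omega, Nat.mul_zero, Nat.le_zero] at hrank
    haveI : Subsingleton (EndAV.End X) := (Module.finrank_zero_iff (R := ℤ)).1 hrank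
    haveI : Subsingleton (EndAV.End0 X) := (Equiv.refl _).subsingleton_congr.1
      (subsingleton_of_zero_eq_one (by rw [← map_zero (EndAV.toEnd0 (A := X)), ← map_one (EndAV.toEnd0 (A := X)),
        Subsingleton.elim (0 : EndAV.End X) 1]))
    obtain ⟨a, b, hab⟩ := hF.exists_pair_ne
    exact hab (Subtype.ext (Subsingleton.elim _ _))
  · rintro ⟨h, n, hh, hn, hPh⟩
    apply Groth.Agent.AVTors2.isField_adjoin
    have h1 := congrArg EndAV.toEnd0 (Groth.Agent.AVTors2.aeval_charpoly_eq_zero hl hP)
    rw [map_zero, ← Polynomial.aeval_algHom_apply, ← Polynomial.aeval_map_algebraMap ℚ, algebraMap_int_eq, hPh] at h1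
    obtain ⟨c, hc⟩ := hsf.isRadical n h (minpoly.dvd ℚ _ h1)
    rcases hh.isUnit_or_isUnit hc with hu | hu
    · haveI : Nontrivial (EndAV.End0 X) := by
        by_contra hnt
        rw [not_nontrivial_iff_subsingleton] at hnt
        have hs : Subsingleton (EndAV.End X) := Groth.Agent.AVTors2.toEnd0_injective.subsingleton
        have h0 : (AbDual.tateMapₗ (l := l) (T := SGA7.pt Ω) πX) = 1 := by
          rw [show AbDual.tateMapₗ (l := l) (T := SGA7.pt Ω) πX = EndAV.End.tateRep l (SGA7.pt Ω) (EndAV.End.of πX) from rfl,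
            Subsingleton.elim (EndAV.End.of πX) 1, map_one]
        have h10 : (1 : Module.End ℤ_[l] (AbDual.TateMod X l (SGA7.pt Ω))) = 0 := by
          rw [← map_one (EndAV.End.tateRep (A := X) l (SGA7.pt Ω)), ← map_zero (EndAV.End.tateRep (A := X) l (SGA7.pt Ω)),
            Subsingleton.elim (1 : EndAV.End X) 0]
        haveI : Subsingleton (AbDual.TateMod X l (SGA7.pt Ω)) :=
          ⟨fun a b => (LinearMap.congr_fun h10 a).trans (LinearMap.congr_fun h10 b).symm⟩
        have hdeg := LinearMap.charpoly_natDegree (AbDual.tateMapₗ (l := l) (T := SGA7.pt Ω) πX)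
        rw [Module.finrank_zero_of_subsingleton, hP, (Groth.Agent.AVTors2.monic_of_charpoly hP).natDegree_map] at hdeg
        have h2 := congrArg Polynomial.natDegree hPh
        rw [(Groth.Agent.AVTors2.monic_of_charpoly hP).natDegree_map, hdeg, Polynomial.natDegree_pow] at h2
        have := hh.natDegree_pos
        exact absurd h2 (by positivity)
      exact absurd hu (minpoly.not_isUnit ℚ _)
    · exact (associated_mul_unit_right _ _ hu).irreducible_iff.2 (hc ▸ hh)

end Groth.Agent.S16847
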