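import Groth.Statements.S16849
import Groth.Agent.S16840
import Groth.Agent.ZetaLib.ZetaProduct
import Groth.Agent.ZetaLib.PointsOfExt
import Mathlib.FieldTheory.Finite.Extension
import Mathlib.FieldTheory.Galois.Infinite
import Mathlib.RingTheory.Polynomial.Vieta
import Mathlib.FieldTheory.IsAlgClosed.AlgebraicClosure
-- import your own Groth.Agent.* helpers here

set_option autoImplicit false
set_option backward.isDefEq.respectTransparency false
set_option backward.isDefEq.respectTransparency.types false
set_option linter.style.haveILetI false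
set_option synthInstance.maxHeartbeats 400000
universe u
open CategoryTheory MonoidalCategory CartesianMonoidalCategory MonObj GrpObj AlgebraicGeometry
open AbVar

namespace Groth.Agent.S16849

set_option maxHeartbeats 2000000 in
/-- Let k be a finite field with q elements and algebraic closure Ω, ℓ a prime invertible in k, and X an
abelian variety over k (a proper, geometrically integral commutative group scheme over k) of
dimension g, with geometric Frobenius π_X (the endomorphism that is the identity on points and the
q-th power map on sections); assume, as is the case, that the ℓ-adic Tate module of Ω-points T_ℓ X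
is free of finite rank over ℤ_ℓ, and let f_X ∈ ℤ[t] be the polynomial mapping to the characteristic
polynomial of T_ℓ(π_X) (the characteristic polynomial of Frobenius). Let α_1, …, α_{2g} be the
complex roots of f_X with multiplicity and, for 0 ≤ j ≤ 2g, P_j(t) = ∏_I (1 − α_I t), the product
over the j-element sub-multisets I of the roots, α_I = ∏_{i ∈ I} α_i (so P_j is the reciprocal
characteristic polynomial of the j-th exterior power of V_ℓ(π_X)). Then every P_j has integer
coefficients, and the zeta function Z(X; t) = exp(Σ_{m ≥ 1} N_m t^m / m) (N_m the number of points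
of X in a degree-m extension of k, counted through closed points) satisfies Z(X; t) · ∏_{j even}
P_j(t) = ∏_{j odd} P_j(t) in ℂ⟦t⟧, i.e. Z(X; t) = P_1 P_3 ⋯ P_{2g−1} / (P_0 P_2 ⋯ P_{2g}). -/
theorem result (k Ω : Type u) [Field k] [Finite k] [Field Ω] [Algebra k Ω] [IsAlgClosure k Ω]
    (l : ℕ) [Fact l.Prime] (hl : (l : k) ≠ 0) (X : Over (Spec (CommRingCat.of k)))
    [GrpObj X] [IsCommMonObj X] [IsProper X.hom] [GeometricallyIntegral X.hom]
    (πX : X ⟶ X) [IsMonHom πX] (hπb : πX.left.base = 𝟙 _)
    (hπle : ∀ U : X.left.Opens, U ≤ πX.left ⁻¹ᵁ U)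
    (hπapp : ∀ (U : X.left.Opens) (s : Γ(X.left, U)), (πX.left.appLE U U (hπle U)).hom s = s ^ Nat.card k)
    [Module.Free ℤ_[l] (AbDual.TateMod X l (SGA7.pt Ω))] [Module.Finite ℤ_[l] (AbDual.TateMod X l (SGA7.pt Ω))]
    (P : Polynomial ℤ) (hP : (AbDual.tateMapₗ (l := l) (T := SGA7.pt Ω) πX).charpoly = P.map (Int.castRingHom ℤ_[l])) :
    (∀ j : ℕ, ∃ Q : Polynomial ℤ, Q.map (Int.castRingHom ℂ) = (((P.map (Int.castRingHom ℂ)).roots.powersetCard j).map
          (fun I => (1 : Polynomial ℂ) - Polynomial.C I.prod * Polynomial.X)).prod) ∧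
      (Zeta.zetaFun X.hom).map (algebraMap ℚ ℂ) *
          ∏ j ∈ (Finset.range (P.natDegree + 1)).filter (fun j => Even j),
            (((((P.map (Int.castRingHom ℂ)).roots.powersetCard j).map
          (fun I => (1 : Polynomial ℂ) - Polynomial.C I.prod * Polynomial.X)).prod : Polynomial ℂ) : PowerSeries ℂ) =
        ∏ j ∈ (Finset.range (P.natDegree + 1)).filter (fun j => Odd j),
          (((((P.map (Int.castRingHom ℂ)).roots.powersetCard j).map
          (fun I => (1 : Polynomial ℂ) - Polynomial.C I.prod * Polynomial.X)).prod : Polynomial ℂ) : PowerSeries ℂ) := by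
  classical
  have hPm : P.Monic := by
    have h1 := LinearMap.charpoly_monic (AbDual.tateMapₗ (l := l) (T := SGA7.pt Ω) πX)
    rw [hP] at h1
    exact Polynomial.monic_of_injective (RingHom.injective_int (Int.castRingHom ℤ_[l])) h1
  let F : ∀ (K : Type) [Field K], ℕ → Polynomial K := fun K _ j =>
    (((P.map (Int.castRingHom K)).roots.powersetCard j).map
      (fun I => (1 : Polynomial K) - Polynomial.C I.prod * Polynomial.X)).prod
  have hFmap : ∀ (K L : Type) [Field K] [Field L] [IsAlgClosed K] (φ : K →+* L) (j : ℕ), (F K j).map φ = F L j := by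
    intro K L _ _ _ φ j
    have hr : (P.map (Int.castRingHom L)).roots = (P.map (Int.castRingHom K)).roots.map φ := by
      rw [← Polynomial.Splits.roots_map (IsAlgClosed.splits _) φ, Polynomial.map_map]
      congr 2
      exact RingHom.ext_int _ _
    simp only [F, hr, Multiset.powersetCard_map, Multiset.map_map, Polynomial.map_multiset_prod]
    congr 1
    refine Multiset.map_congr rfl fun I _ => ?_
    rw [Function.comp_apply, Function.comp_apply, Polynomial.map_sub, Polynomial.map_one, Polynomial.map_mul, Polynomial.map_C, Polynomial.map_X, map_multiset_prod]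
  refine ⟨fun j => ?_, ?_⟩
  · let Qb := AlgebraicClosure ℚ
    let S := (integralClosure ℤ Qb).toSubring
    have hint : F Qb j ∈ Polynomial.lifts S.subtype := by
      refine Submonoid.multiset_prod_mem (S := (Polynomial.lifts S.subtype).toSubmonoid) _ fun x hx => ?_
      obtain ⟨I, hI, rfl⟩ := Multiset.mem_map.1 hx
      have hI' : I.prod ∈ S := S.multiset_prod_mem I fun b hb => by
        have hb' := Multiset.mem_of_le (Multiset.mem_powersetCard.1 hI).1 hb
        refine ⟨P, hPm, ?_⟩
        have := (Polynomial.mem_roots (hPm.map _).ne_zero).1 hb'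
        rw [Polynomial.IsRoot.def, Polynomial.eval_map] at this
        rw [algebraMap_int_eq]
        exact this
      refine (Polynomial.mem_lifts _).2 ⟨1 - Polynomial.C ⟨I.prod, hI'⟩ * Polynomial.X, ?_⟩
      simp
    have hcoef : ∀ i, ∃ z : ℤ, (z : Qb) = (F Qb j).coeff i := by
      intro i
      obtain ⟨⟨c, hc⟩, hci⟩ := (Polynomial.lifts_iff_coeff_lifts _).1 hint i
      change c = _ at hci
      subst hci
      have hbot : (F Qb j).coeff i ∈ (⊥ : IntermediateField ℚ Qb) := by
        rw [InfiniteGalois.mem_bot_iff_fixed]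
        intro σ
        have := congrArg (fun p => p.coeff i) (hFmap Qb Qb (σ : Qb →+* Qb) j)
        rwa [Polynomial.coeff_map] at this
      obtain ⟨r, hr⟩ := IntermediateField.mem_bot.1 hbot
      have h1 : IsIntegral ℤ (algebraMap ℚ Qb r) := hr ▸ hc
      obtain ⟨z, hz⟩ := IsIntegrallyClosed.isIntegral_iff.1 ((isIntegral_algebraMap_iff (algebraMap ℚ Qb).injective).1 h1)
      refine ⟨z, ?_⟩
      rw [← hr, ← hz]
      simp
    obtain ⟨Q, hQ⟩ : F Qb j ∈ Polynomial.lifts (Int.castRingHom Qb) :=
      (Polynomial.lifts_iff_coeff_lifts _).2 fun i => hcoef i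
    refine ⟨Q, ?_⟩
    let j' : Qb →+* ℂ := (IsAlgClosed.lift (R := ℚ) (S := Qb) (M := ℂ)).toRingHom
    show _ = F ℂ j
    rw [← hFmap Qb ℂ j' j, ← hQ, Polynomial.coe_mapRingHom, Polynomial.map_map]
    congr 1
    exact RingHom.ext_int _ _
  -- the point count
  let R := (P.map (Int.castRingHom ℂ)).roots
  have hcardR : R.card = P.natDegree := by
    rw [← (IsAlgClosed.splits (P.map (Int.castRingHom ℂ))).natDegree_eq_card_roots, hPm.natDegree_map]
  have hN : ∀ m : ℕ, 0 < m → (Zeta.nPts X.hom m : ℂ) =
      ∑ j ∈ Finset.range (P.natDegree + 1), (-1) ^ j * ((R.powersetCard j).map (fun I => I.prod ^ m)).sum := by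
    intro m hm
    obtain ⟨p, hp⟩ := CharP.exists k
    haveI : Fact p.Prime := ⟨CharP.char_is_prime k p⟩
    haveI : NeZero m := ⟨hm.ne'⟩
    let L := ULift.{u} (FiniteField.Extension k p m)
    have hfr : Module.finrank k L = m :=
      ULift.moduleEquiv.finrank_eq.trans (FiniteField.finrank_extension k p m)
    haveI : Module.Finite k L := Module.finite_of_finrank_pos (by rw [hfr]; exact hm)
    haveI : Finite L := Module.finite_of_finite k
    have h1 : (Nat.card (Over.mk (Spec.map (CommRingCat.ofHom (algebraMap k L))) ⟶ X) : ℂ) =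
        (R.map (fun a => 1 - a ^ m)).prod := by
      have := Groth.Agent.S16840.result k Ω l hl X πX hπb hπle hπapp P hP L
      rwa [hfr] at this
    have h2 : Nat.card (Over.mk (Spec.map (CommRingCat.ofHom (algebraMap k L))) ⟶ X) = Zeta.nPts X.hom m := by
      conv_rhs => rw [← hfr]
      rw [← Groth.Agent.ZetaLib.pointCount_eq_nPts X.hom L]
      exact Nat.card_congr
        { toFun := fun g => ⟨g.left, Over.w g⟩
          invFun := fun g => Over.homMk g.1 g.2
          left_inv := fun g => rfl
          right_inv := fun g => rfl }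
    rw [← h2, h1]
    have h3 := congrArg (Polynomial.eval (1 : ℂ)) (Multiset.prod_X_add_C_eq_sum_esymm ((R.map (fun a => a ^ m)).map Neg.neg))
    rw [Polynomial.eval_multiset_prod, Multiset.map_map, Multiset.map_map, Multiset.map_map, Polynomial.eval_finset_sum,
      Multiset.card_map, Multiset.card_map, hcardR] at h3
    calc (R.map (fun a => 1 - a ^ m)).prod = _ := by
          refine Eq.trans ?_ h3
          congr 1
          exact Multiset.map_congr rfl fun a _ => by simp [sub_eq_add_neg]
      _ = _ := by
          refine Finset.sum_congr rfl fun j _ => ?_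
          rw [Polynomial.eval_mul, Polynomial.eval_C, Polynomial.eval_pow, Polynomial.eval_X, one_pow, _root_.mul_one,
            Multiset.esymm_neg, Multiset.esymm, Multiset.powersetCard_map, Multiset.map_map]
          congr 2
          refine Multiset.map_congr rfl fun I _ => ?_
          simp [Function.comp_def, Multiset.prod_map_pow]
  -- logarithmic derivatives
  have hlin : ∀ c : ℂ, Groth.Agent.WeilLib.HasLogDeriv (1 - PowerSeries.C c * PowerSeries.X)
      (PowerSeries.mk fun m => -c ^ (m + 1)) := fun c => by
    rw [Groth.Agent.WeilLib.HasLogDeriv, map_sub, Derivation.map_one_eq_zero, zero_sub, Derivation.leibniz,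
      PowerSeries.derivative_X, PowerSeries.derivative_C, smul_zero, add_zero, smul_eq_mul, _root_.mul_one]
    ext m
    rw [sub_mul, _root_.one_mul, map_sub, map_neg, PowerSeries.coeff_C, _root_.mul_assoc, PowerSeries.coeff_C_mul]
    rcases m with - | m
    · rw [PowerSeries.coeff_zero_X_mul, PowerSeries.coeff_mk]
      simp
    · rw [PowerSeries.coeff_succ_X_mul, PowerSeries.coeff_mk,
        PowerSeries.coeff_mk, if_neg (Nat.succ_ne_zero m)]
      ring
  let D : ℕ → PowerSeries ℂ := fun j => PowerSeries.mk fun m => -((R.powersetCard j).map (fun I => I.prod ^ (m + 1))).sum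
  have hD : ∀ j, Groth.Agent.WeilLib.HasLogDeriv ((F ℂ j : Polynomial ℂ) : PowerSeries ℂ) (D j) := by
    intro j
    simp only [F, D, R]
    induction ((P.map (Int.castRingHom ℂ)).roots.powersetCard j) using Multiset.induction_on with
    | empty =>
      simp only [Multiset.map_zero, Multiset.prod_zero, Polynomial.coe_one, Multiset.sum_zero, neg_zero]
      exact Groth.Agent.WeilLib.HasLogDeriv.one
    | cons I s ih =>
      rw [Multiset.map_cons, Multiset.prod_cons, Polynomial.coe_mul, Polynomial.coe_sub, Polynomial.coe_one,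
        Polynomial.coe_mul, Polynomial.coe_C, Polynomial.coe_X]
      convert (hlin I.prod).mul ih using 1
      ext m
      simp [Multiset.map_cons, Multiset.sum_cons]
      ring
  have hZ : Groth.Agent.WeilLib.HasLogDeriv ((Zeta.zetaFun X.hom).map (algebraMap ℚ ℂ))
      (PowerSeries.mk fun m => (Zeta.nPts X.hom (m + 1) : ℂ)) := by
    have h := congrArg (PowerSeries.map (algebraMap ℚ ℂ)) (Groth.Agent.ZetaLib.hasLogDeriv_zetaFun X.hom)
    rw [map_mul] at h
    have h' : PowerSeries.map (algebraMap ℚ ℂ) (PowerSeries.mk fun m => (Zeta.nPts X.hom (m + 1) : ℚ)) =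
        PowerSeries.mk fun m => (Zeta.nPts X.hom (m + 1) : ℂ) := by ext m; simp
    rw [h'] at h
    show _ = _
    rw [← h]
    ext m
    simp [PowerSeries.coeff_derivative, PowerSeries.coeff_map]
  have hE := Groth.Agent.WeilLib.HasLogDeriv.prod ((Finset.range (P.natDegree + 1)).filter (fun j => Even j)) fun j _ => hD j
  have hO := Groth.Agent.WeilLib.HasLogDeriv.prod ((Finset.range (P.natDegree + 1)).filter (fun j => Odd j)) fun j _ => hD j
  have hsum : (PowerSeries.mk fun m => (Zeta.nPts X.hom (m + 1) : ℂ)) +
      ∑ j ∈ (Finset.range (P.natDegree + 1)).filter (fun j => Even j), D j =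
      ∑ j ∈ (Finset.range (P.natDegree + 1)).filter (fun j => Odd j), D j := by
    ext m
    simp only [map_add, map_sum, PowerSeries.coeff_mk, D]
    rw [hN (m + 1) (Nat.succ_pos m), ← Finset.sum_filter_add_sum_filter_not (Finset.range (P.natDegree + 1)) (fun j => Even j)]
    simp only [Nat.not_even_iff_odd]
    rw [Finset.sum_congr rfl (s₂ := (Finset.range (P.natDegree + 1)).filter (fun j => Even j))
      (g := fun j => ((R.powersetCard j).map (fun I => I.prod ^ (m + 1))).sum)
      (fun j hj => by rw [(Finset.mem_filter.1 hj).2.neg_one_pow, _root_.one_mul]),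
      Finset.sum_congr rfl (s₂ := (Finset.range (P.natDegree + 1)).filter (fun j => Odd j))
      (g := fun j => -((R.powersetCard j).map (fun I => I.prod ^ (m + 1))).sum)
      (fun j hj => by rw [(Finset.mem_filter.1 hj).2.neg_one_pow, neg_one_mul]),
      Finset.sum_neg_distrib]
    simp only [Finset.sum_neg_distrib]
    ring
  have h1 := hZ.mul hE
  rw [hsum] at h1
  refine h1.unique hO ?_
  have hc : ∀ j, PowerSeries.constantCoeff ((F ℂ j : Polynomial ℂ) : PowerSeries ℂ) = 1 := fun j => by
    rw [Polynomial.constantCoeff_coe]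
    simp only [F, Polynomial.coeff_zero_eq_eval_zero, Polynomial.eval_multiset_prod, Multiset.map_map]
    exact Multiset.prod_eq_one fun x hx => by
      obtain ⟨I, -, rfl⟩ := Multiset.mem_map.1 hx
      simp
  rw [map_mul, map_prod, map_prod, Finset.prod_eq_one fun j _ => hc j, Finset.prod_eq_one fun j _ => hc j, _root_.mul_one,
    ← PowerSeries.coeff_zero_eq_constantCoeff_apply, PowerSeries.coeff_map,
    PowerSeries.coeff_zero_eq_constantCoeff_apply, Groth.Agent.ZetaLib.constantCoeff_zetaFun, map_one]

end Groth.Agent.S16849
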