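import Groth.Statements.S16856
import Groth.Agent.AVTors2.WeilNum
import Groth.Agent.AVTors2.WeilBound
-- import your own Groth.Agent.* helpers here

set_option autoImplicit false
set_option backward.isDefEq.respectTransparency false
set_option backward.isDefEq.respectTransparency.types false
set_option linter.style.haveILetI false
set_option synthInstance.maxHeartbeats 400000
universe u
open CategoryTheory MonoidalCategory CartesianMonoidalCategory MonObj GrpObj AlgebraicGeometry
open AbVar

namespace Groth.Agent.S16856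

/-- Equality case of the Hasse–Weil–Serre bound: let k be a finite field with q elements and algebraic
closure Ω, ℓ a prime invertible in k, and X an abelian variety over k (a proper, geometrically
integral commutative group scheme over k) of dimension g, with geometric Frobenius π_X (the
endomorphism that is the identity on points and the q-th power map on sections); assume, as is the
case, that the ℓ-adic Tate module of Ω-points T_ℓ X is free of finite rank over ℤ_ℓ, and let f_X ∈
ℤ[t] be the polynomial mapping to the characteristic polynomial of T_ℓ(π_X) (the characteristic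
polynomial of Frobenius). Put m = ⌊2√q⌋. Then |trace(π_X)| = g·m (equality in the bound |trace(π_X)|
≤ g·m; the trace is minus the second-highest coefficient of f_X) if and only if either α + q/α = m
for every root α of f_X or α + q/α = −m for every root, i.e. if and only if f_X = (t² − m t + q)^g
or f_X = (t² + m t + q)^g. -/
theorem result (k Ω : Type u) [Field k] [Finite k] [Field Ω] [Algebra k Ω] [IsAlgClosure k Ω]
    (l : ℕ) [Fact l.Prime] (hl : (l : k) ≠ 0) (X : Over (Spec (CommRingCat.of k)))
    [GrpObj X] [IsCommMonObj X] [IsProper X.hom] [GeometricallyIntegral X.hom]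
    (g : ℕ) (hg : topologicalKrullDim X.left = g)
    (πX : X ⟶ X) [IsMonHom πX] (hπb : πX.left.base = 𝟙 _)
    (hπle : ∀ U : X.left.Opens, U ≤ πX.left ⁻¹ᵁ U)
    (hπapp : ∀ (U : X.left.Opens) (s : Γ(X.left, U)), (πX.left.appLE U U (hπle U)).hom s = s ^ Nat.card k)
    [Module.Free ℤ_[l] (AbDual.TateMod X l (SGA7.pt Ω))] [Module.Finite ℤ_[l] (AbDual.TateMod X l (SGA7.pt Ω))]
    (P : Polynomial ℤ) (hP : (AbDual.tateMapₗ (l := l) (T := SGA7.pt Ω) πX).charpoly = P.map (Int.castRingHom ℤ_[l])) :
    |(P.nextCoeff : ℝ)| = (g : ℝ) * (⌊2 * Real.sqrt (Nat.card k)⌋ : ℝ) ↔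
      (P = (Polynomial.X ^ 2 - Polynomial.C ⌊2 * Real.sqrt (Nat.card k)⌋ * Polynomial.X + Polynomial.C (Nat.card k : ℤ)) ^ g ∨
        P = (Polynomial.X ^ 2 + Polynomial.C ⌊2 * Real.sqrt (Nat.card k)⌋ * Polynomial.X + Polynomial.C (Nat.card k : ℤ)) ^ g) := by
  obtain ⟨hd, h0⟩ := Groth.Agent.AVTors2.charpoly_int_props hl hg hP
  have W : Groth.Agent.AVTors2.IsWeilPoly P g (Nat.card k) :=
    ⟨Groth.Agent.AVTors2.monic_of_charpoly hP, hd, h0, Nat.card_pos, Groth.Agent.AVTors2.frob_props πX hπb hπle hπapp hP⟩
  set m := ⌊2 * Real.sqrt (Nat.card k)⌋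
  have hm0 : (0 : ℤ) ≤ m := Int.floor_nonneg.2 (by positivity)
  have hm : (m : ℝ) ^ 2 ≤ 4 * (Nat.card k) := by
    have h1 := Int.floor_le (2 * Real.sqrt (Nat.card k))
    have h2 := Real.sq_sqrt (Nat.cast_nonneg (α := ℝ) (Nat.card k))
    have h3 : (0 : ℝ) ≤ m := by exact_mod_cast hm0
    nlinarith
  constructor
  · intro he
    rcases le_total (P.nextCoeff : ℝ) 0 with hs | hs
    · left
      rw [abs_of_nonpos hs] at he
      exact W.eq_quadratic_pow hm (by simpa using (W.serre_bound 1 (Or.inl rfl)).2 (by rw [Int.cast_one, _root_.one_mul]; exact he))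
    · right
      rw [abs_of_nonneg hs] at he
      have := W.eq_quadratic_pow (b := -m) (by push_cast; rw [neg_sq]; exact hm)
        (by simpa using (W.serre_bound (-1) (Or.inr rfl)).2 (by push_cast; linarith))
      rw [this, map_neg, neg_mul, sub_neg_eq_add]
  · intro h
    have key : ∀ b : ℤ, (Polynomial.X ^ 2 + Polynomial.C b * Polynomial.X + Polynomial.C (Nat.card k : ℤ)).nextCoeff = b ∧
        (Polynomial.X ^ 2 + Polynomial.C b * Polynomial.X + Polynomial.C (Nat.card k : ℤ)).Monic := fun b => by
      have hd2 : (Polynomial.X ^ 2 + Polynomial.C b * Polynomial.X + Polynomial.C (Nat.card k : ℤ)).natDegree = 2 := by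
        compute_degree!
      refine ⟨?_, by monicity!⟩
      rw [Polynomial.nextCoeff_of_natDegree_pos (by omega), hd2]
      simp [Polynomial.coeff_X_pow, Polynomial.coeff_C]
    rcases h with rfl | rfl
    · have e : Polynomial.X ^ 2 - Polynomial.C m * Polynomial.X + Polynomial.C (Nat.card k : ℤ) =
          Polynomial.X ^ 2 + Polynomial.C (-m) * Polynomial.X + Polynomial.C (Nat.card k : ℤ) := by
        rw [map_neg, neg_mul, ← sub_eq_add_neg]
      rw [e, (key (-m)).2.nextCoeff_pow, (key (-m)).1, nsmul_eq_mul]
      push_cast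
      rw [mul_neg, abs_neg, abs_of_nonneg (by exact_mod_cast mul_nonneg (Int.natCast_nonneg g) hm0)]
    · rw [(key m).2.nextCoeff_pow, (key m).1, nsmul_eq_mul]
      push_cast
      rw [abs_of_nonneg (by exact_mod_cast mul_nonneg (Int.natCast_nonneg g) hm0)]

end Groth.Agent.S16856
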