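import Groth.Statements.S16859
import Groth.Agent.S3020
import Groth.Agent.IsoNatLib.TriRep
import Groth.Agent.AlgStLib.SepUnivClosed
import Groth.Agent.AlgStLib.SepDiag
import Groth.Agent.AlgStLib.SpBGDiag
import Groth.Agent.AlgStkX.QuasiAffineQuot

set_option backward.isDefEq.respectTransparency false
set_option backward.isDefEq.respectTransparency.types false

set_option autoImplicit false
universe u
open CategoryTheory CategoryTheory.Limits AlgebraicGeometry
open AlgSt
open CategoryTheory.Functor Opposite AlgSp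
open Groth.Agent.FibBase Groth.Agent.AlgSpLib Groth.Agent.AlgStLib Groth.Agent.IsoNatLib

namespace Groth.Agent.S16859

/-- Let `𝒳` be an algebraic stack over a scheme `S` (fppf topology) whose diagonal over `S` is
representable by algebraic spaces and quasi-affine. Let `k` be a field with a morphism `Spec k → S`,
let `x : (Sch/Spec k) → 𝒳` be a functor over `(Sch/S)` (a `k`-valued point of `𝒳`), and let `G` be a
group scheme over `Spec k` representing the automorphism presheaf of `x` on schemes over `Spec k`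
(the stabilizer group scheme of `x`). Then `G` is affine and locally of finite type over `k`, i.e.
an affine algebraic group. (The published statement is over the base `Spec ℤ`; the same argument
applies to the diagonal over any base scheme.) -/
theorem result (S : Scheme.{u})
    (𝒳 : AlgSt.Cat S) (h𝒳 : AlgSt.IsAlgStack Scheme.fppfPrecoverage 𝒳)
    (hΔ : AlgSt.RepByAlgSpWith AlgSp.IsQuasiAffineMor (FibCat.diag (FibCat.toSelf 𝒳)))
    (k : Type u) [Field k] (p : Spec (CommRingCat.of k) ⟶ S)
    (x : FibCat.overCat (Over.mk p) ⥤ᵇ 𝒳) (G : Over (Over.mk p).left) [GrpObj G]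
    (hG : Gerb.AutRep x (Gerb.ptsGrp (Over.mk p) G)) :
    IsAffine G.left ∧ LocallyOfFiniteType G.hom := by
  have hf : FibCat.IsFibGrpd 𝒳.p := h𝒳.isStack.1
  obtain ⟨R, ⟨hqa, hlft⟩, -⟩ := exists_autRep_repOver (v := x)
    (repByAlgSpWith_inertiaToBase _ (repByAlgSpWith_and Groth.Agent.AlgStkX.stableBC_isQuasiAffineMor hΔ
      (repByAlgSpWith_lft_diag_toSelf (repByAlgSp1_of_repByAlgSpWith hΔ) h𝒳.atlas)))
  let U : Over S := Over.mk p
  let Gs : Over S := Over.mk (G.hom ≫ U.hom)
  let g0 : Gs ⟶ U := Over.homMk G.hom rfl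
  let T0 : Over U := Over.mk g0
  let a0 : (Gerb.ptsGrp U G).obj (op T0) :=
    (Over.homMk (𝟙 G.left) (Category.id_comp _) : (Over.iteratedSliceForward U).obj T0 ⟶ G)
  let conv : ∀ T : Over U, Gerb.AutO (x.obj T) → AutAt x T := fun T α =>
    fiberIsoMk (a := fib x T) (b := fib x T) (ofFiberIso (a := Gerb.fib (x.obj T)) (b := Gerb.fib (x.obj T)) α)
      (isHomLift_id_congr (x.w_obj T) α.hom.2)
  have hconv : ∀ (T : Over U) (γ : AutAt x T), ∃ α, conv T α = γ := fun T γ =>
    ⟨fiberIsoMk (a := Gerb.fib (x.obj T)) (b := Gerb.fib (x.obj T)) (ofFiberIso (a := fib x T) (b := fib x T) γ)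
      (isHomLift_id_congr (x.w_obj T).symm γ.hom.2), Iso.ext (Subtype.ext rfl)⟩
  let t0 : Tri x x Gs := Tri.ofAut (conv T0 (hG.iso T0 a0))
  let θ : (yon S).obj Gs ⟶ R.F.obj := R.pt t0 rfl
  -- the value of a point of `G` as a restriction of the universal automorphism
  have hres : ∀ {W : Over S} (h : W ⟶ U) (l : W ⟶ Gs) (a : (Gerb.ptsGrp U G).obj (op (Over.mk h))),
      a.left = l.left → t0.res l = Tri.ofAut (conv (Over.mk h) (hG.iso (Over.mk h) a)) := fun {W} h l a ha => by
    have hl : l ≫ g0 = h := Over.OverMorphism.ext (by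
      show l.left ≫ G.hom = h.left
      rw [← ha]
      exact Over.w a)
    let m : Over.mk h ⟶ T0 := Over.homMk l hl
    have hm : (Gerb.ptsGrp U G).map m.op a0 = a := Over.OverMorphism.ext ((Category.comp_id _).trans ha.symm)
    have hn := hG.natural m a0
    rw [hm] at hn
    exact (IsRes.eq (φ := l) ⟨m, m, rfl, rfl, hn⟩).symm
  have : IsIso θ := Groth.Agent.AlgStLib.SpQuot.isIso_of_bijective_points θ fun W τ => by
    obtain ⟨t, e, rfl⟩ := R.pt_surj τ
    obtain ⟨γ, hγ⟩ := t.exists_ofAut e
    obtain ⟨α, hα⟩ := hconv _ γ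
    let a : (Over.iteratedSliceForward U).obj (Over.mk t.h) ⟶ G := (hG.iso (Over.mk t.h)).symm α
    let l : W ⟶ Gs := Over.homMk a.left (by
      show a.left ≫ G.hom ≫ U.hom = W.hom
      rw [← Category.assoc, Over.w a]
      exact Over.w t.h)
    have hl : t0.res l = t := by
      rw [hres t.h l a rfl, show hG.iso (Over.mk t.h) a = α from (hG.iso (Over.mk t.h)).apply_symm_apply α, hα]
      exact hγ.symm
    have hval : ∀ l' : W ⟶ Gs, (yon S).map l' ≫ θ = R.pt (t0.res l') rfl := fun l' => (R.pt_res t0 rfl l').symm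
    have hcongr : ∀ {t₁ t₂ : Tri x x W} (_ : t₁ = t₂) (e₁ : t₁.g = t₁.h) (e₂ : t₂.g = t₂.h),
        R.pt t₁ e₁ = R.pt t₂ e₂ := fun h _ _ => by subst h; rfl
    refine ⟨(yon S).map l, (hval l).trans (hcongr hl rfl e), fun q hq => ?_⟩
    obtain ⟨l', rfl⟩ := (yon S).map_surjective q
    have h' : t0.res l' = t := R.pt_inj ((hval l').symm.trans hq)
    have hh : l' ≫ g0 = t.h := congrArg Tri.h h'
    let a' : (Over.iteratedSliceForward U).obj (Over.mk t.h) ⟶ G :=
      Over.homMk l'.left (congrArg CommaMorphism.left hh)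
    have h'' := ((hres t.h l' a' rfl).symm.trans h').trans (hl.symm.trans (hres t.h l a rfl))
    simp only [Tri.mk.injEq, heq_eq_eq, true_and] at h''
    have h₃ : hG.iso (Over.mk t.h) a' = hG.iso (Over.mk t.h) a := Iso.ext (Subtype.ext
      (congrArg (fun i : AutAt x (Over.mk t.h) => i.hom.1) h''))
    refine congrArg (yon S).map (Over.OverMorphism.ext ?_)
    exact congrArg (fun b : (Over.iteratedSliceForward U).obj (Over.mk t.h) ⟶ G => b.left)
      ((hG.iso (Over.mk t.h)).injective h₃)
  have hθa : θ ≫ R.a = (yon S).map g0 := R.pt_a t0 rfl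
  have sq : IsPullback θ ((yon S).map g0) R.a (𝟙 ((yon S).obj U)) :=
    IsPullback.of_horiz_isIso ⟨by rw [hθa, Category.comp_id]⟩
  have hqa' : IsQuasiAffineMor ((yon S).map g0) :=
    Groth.Agent.AlgStkX.stableBC_isQuasiAffineMor R.F.property (IsAlgSpace.yon_obj U) (IsAlgSpace.yon_obj Gs)
      (IsAlgSpace.yon_obj U) _ _ _ _ sq hqa
  have hlft' : LocallyOfFiniteType g0.left :=
    locP_yon_map (P := @LocallyOfFiniteType) (stableBC_locP R.F.property (IsAlgSpace.yon_obj U) (IsAlgSpace.yon_obj Gs)
      (IsAlgSpace.yon_obj U) _ _ _ _ sq hlft)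
  haveI : LocallyOfFiniteType G.hom := hlft'
  refine ⟨?_, inferInstance⟩
  obtain ⟨W, i, fst, hW, hWqa⟩ := hqa' (Z := U) (inferInstanceAs (IsAffine (Spec (CommRingCat.of k)))) (𝟙 _)
  haveI : IsIso fst := hW.isIso_fst_of_isIso
  haveI : IsIso ((yon S).preimage fst) := by
    have : IsIso ((yon S).map ((yon S).preimage fst)) := by rw [Functor.map_preimage]; infer_instance
    exact isIso_of_fully_faithful (yon S) _
  let j : W.left ⟶ G.left := ((yon S).preimage fst).left
  haveI : IsIso j := inferInstanceAs (IsIso ((Over.forget S).map ((yon S).preimage fst)))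
  haveI := hWqa
  haveI : CompactSpace G.left := (Scheme.Hom.homeomorph j).compactSpace
  haveI : G.left.IsQuasiAffine := Scheme.IsQuasiAffine.of_isImmersion (inv j)
  haveI : IsAffine (Over.mk p).left := inferInstanceAs (IsAffine (Spec (CommRingCat.of k)))
  haveI : QuasiCompact G.hom := (HasAffineProperty.iff_of_isAffine (P := @QuasiCompact)).mpr inferInstance
  exact Groth.Agent.S3020.result k G
end Groth.Agent.S16859
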