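import Groth.Statements.S1689
import Groth.Agent.Div86.Ref.OpenRestrict
import Groth.Agent.Div86.Ref.Codim
import Groth.Agent.S0605
import Groth.Agent.DimFormula.DedekindFlat
import Groth.Agent.RegLoc6.Normal
import Groth.Agent.CurveCohLib.SubBundle
import Groth.Agent.LC.ExtDim
import Groth.Agent.CAlgOdd.Reflexive
-- import your own Groth.Agent.* helpers here

set_option autoImplicit false
set_option linter.style.haveILetI false
set_option backward.isDefEq.respectTransparency false
set_option backward.isDefEq.respectTransparency.types false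
universe u
open CategoryTheory CategoryTheory.Limits AlgebraicGeometry TopologicalSpace
open SDiv

namespace Groth.Agent.S1689

/-- Let X be a locally Noetherian scheme of dimension at most 2 all of whose local rings are regular,
and F a coherent module on X. Then F is reflexive (every stalk is a reflexive module over the local
ring) if and only if F is finite locally free. -/
theorem result (X : Scheme.{u}) [IsLocallyNoetherian X]
    (hreg : ∀ x : ↥X, IsRegularLocalRing (X.presheaf.stalk x)) (hdim : topologicalKrullDim ↥X ≤ 2) (F : X.Modules)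
    (hF : Coh.IsCoh F) : (∀ x : ↥X, Module.IsReflexive (X.presheaf.stalk x) (F.presheaf.stalk x)) ↔ FlatMod.IsFinLocFree F := by
  constructor
  · intro h
    refine Groth.Agent.QCoh.isFinLocFree_iff.2 ⟨Groth.Agent.QCoh.isCoh_iff_isFP.1 hF, fun x => ?_⟩
    haveI := hreg x
    haveI := h x
    haveI := Groth.Agent.QCoh.finite_stalk_of_isFT hF.1 hF.2 x
    haveI := Groth.Agent.RegLoc6.isDomain_of_isRegularLocalRing (X.presheaf.stalk x)
    haveI := Groth.Agent.RegLoc6.isIntegrallyClosed_of_isRegularLocalRing (X.presheaf.stalk x)
    haveI : Module.IsTorsionFree (X.presheaf.stalk x) (F.presheaf.stalk x) :=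
      Groth.Agent.CAlgOdd.Refl.isTorsionFree_of_injective
        (Module.Dual.eval (X.presheaf.stalk x) (F.presheaf.stalk x)) (Module.bijective_dual_eval _ _).1
    by_cases hd : ringKrullDim (X.presheaf.stalk x) ≤ 1
    · haveI := Groth.Agent.DimFormula.isPrincipalIdealRing_of_regular_dim_le_one hd
      exact Module.free_of_finite_type_torsion_free'
    rcases subsingleton_or_nontrivial (F.presheaf.stalk x) with hsub | hnt
    · infer_instance
    have h2 : (2 : WithBot ℕ∞) ≤ ringKrullDim (X.presheaf.stalk x) := by
      rw [not_le, ringKrullDim_stalk_eq_coheight, show (1 : WithBot ℕ∞) = ((1 : ℕ∞) : WithBot ℕ∞) from rfl,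
        WithBot.coe_lt_coe] at hd
      rw [ringKrullDim_stalk_eq_coheight, show (2 : WithBot ℕ∞) = ((2 : ℕ∞) : WithBot ℕ∞) from rfl,
        WithBot.coe_le_coe, ← one_add_one_eq_two]
      exact Order.add_one_le_of_lt hd
    have hle2 := (Groth.Agent.CurveCohLib.ringKrullDim_stalk_le_topologicalKrullDim x).trans hdim
    refine Groth.Agent.S0605.result _ _ (le_antisymm
      ((Groth.Agent.LC.depth_le_supportDim (F.presheaf.stalk x)).trans (Module.supportDim_le_ringKrullDim _ _)) (hle2.trans ?_))
    exact (WithBot.coe_le_coe (a := (2 : ℕ∞))).2 (Groth.Agent.CAlgOdd.Refl.depth_two_of_isReflexive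
      (Groth.Agent.ParaFX.two_le_depth_of_normal _ h2) fun M N _ _ _ _ _ _ hN =>
        (Groth.Agent.S6876.result _ M N).2 hN)
  · intro h x
    haveI := Groth.Agent.QCoh.free_stalk_of_isFinLocFree h x
    haveI := Groth.Agent.QCoh.finite_stalk_of_isFT hF.1 hF.2 x
    infer_instance

end Groth.Agent.S1689
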