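import Groth.Statements.S16894
import Groth.Agent.Posit43.NefAmple
-- import your own Groth.Agent.* helpers here

set_option autoImplicit false
universe u
open CategoryTheory CategoryTheory.Limits AlgebraicGeometry
open Vanish

namespace Groth.Agent.S16894

/-- Let k be an algebraically closed field and X an irreducible proper smooth k-scheme of dimension n
with an ample invertible O_X-module A (a projective manifold), and let L be an invertible
O_X-module. Then L is numerically effective, i.e. the degree of the pullback of L to every integral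
one-dimensional closed subscheme Y ⊆ X is non-negative, if and only if L^⊗ν ⊗ A is ample for every ν
> 0. (The published lemma says 'for an ample sheaf A'; the equivalence is stated here for any given
ample A, which is what the argument gives.) -/
theorem result (k : Type u) [Field k] [IsAlgClosed k]
    (X : Scheme.{u}) [X.Over (Spec (CommRingCat.of k))] [IsProper (X ↘ Spec (CommRingCat.of k))]
    [Smooth (X ↘ Spec (CommRingCat.of k))] [IrreducibleSpace X] (n : ℕ) (hn : topologicalKrullDim X = n)
    (A : X.Modules) (hA : CohB1.IsAmple A) (L : X.Modules) (hL : PicF.IsInvertible L) :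
    (∀ (Y : Scheme.{u}) (i : Y ⟶ X) [IsClosedImmersion i], IsIntegral Y → topologicalKrullDim Y = 1 →
      0 ≤ Pic13.curveDeg k (i ≫ (X ↘ Spec (CommRingCat.of k))) ((Scheme.Modules.pullback i).obj L)) ↔
      ∀ ν : ℕ, 0 < ν → CohB1.IsAmple (CohB1.tensorMod (CohB1.tensorPow L ν) A) := by
  haveI := Groth.Agent.CurveCohLib.isNoetherian_of_proper (k := k) (X := X)
  rw [← Posit43.nefX_iff k hL]
  refine ⟨fun h ν _ => Posit43.isAmple_tensor_nef k hn.le hA hL h ν, fun h Y i _ _ hY => ?_⟩
  have hM := QCoh.isCoh_push_structure (X := X) i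
  have hMd : topologicalKrullDim ↥(CohB1.support ((Coh.push i).obj (Coh.structureModule Y))) = ((1 : ℕ) : WithBot ℕ∞) :=
    (Posit43.push_structure_dim i).trans hY
  set M := (Coh.push i).obj (Coh.structureModule Y)
  by_contra hneg
  rw [not_le] at hneg
  set a := HilbPoly.iterD [A] (Curv2.euler k X) M
  set l := HilbPoly.iterD [L] (Curv2.euler k X) M
  obtain ⟨ν, hν, hlt⟩ : ∃ ν : ℕ, 0 < ν ∧ (ν : ℤ) * l + a ≤ 0 := by
    refine ⟨a.natAbs + 1, Nat.succ_pos _, ?_⟩
    push_cast
    nlinarith [le_abs_self a, abs_nonneg a]
  have hpos := (HilbPoly.mult_nonneg_and_pos k (h ν hν) 1 M hM hMd.le).2 hMd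
  have e : HilbPoly.mult k (CohB1.tensorMod (CohB1.tensorPow L ν) A) 1 M = (ν : ℤ) * l + a := by
    have hd' : HilbPoly.DimLT M (0 + 2) := hMd.le.trans_lt (by norm_num)
    show HilbPoly.iterD (CohB1.tensorMod (CohB1.tensorPow L ν) A :: []) (Curv2.euler k X) M = _
    rw [Posit43.iterD_cons_add (HilbPoly.additive_euler k) (fun _ h => absurd h List.not_mem_nil)
      (InvX.isInvertible_tensorPow hL ν) hA.1 hM hd',
      Posit43.iterD_cons_pow (HilbPoly.additive_euler k) (fun _ h => absurd h List.not_mem_nil) hL hM hd']
  omega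

end Groth.Agent.S16894
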