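import Groth.Statements.S1690
import Groth.Agent.Div86.Ref.Push
import Mathlib.LinearAlgebra.FreeModule.PID
-- import your own Groth.Agent.* helpers here

set_option autoImplicit false
set_option linter.style.haveILetI false
set_option backward.isDefEq.respectTransparency false
set_option backward.isDefEq.respectTransparency.types false
universe u
open CategoryTheory CategoryTheory.Limits AlgebraicGeometry TopologicalSpace
open SDiv

namespace Groth.Agent.S1690

/-- (1) if and only if (3): let X be an integral locally Noetherian normal scheme and F a coherent
module. Then F is reflexive (stalkwise) if and only if there is an open subscheme j : U ⟶ X such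
that every point outside U has local ring of dimension at least 2, the restriction of F to U is
finite locally free, and the canonical map F ⟶ j_* j^* F is an isomorphism. -/
theorem result (X : Scheme.{u}) [IsIntegral X] [IsLocallyNoetherian X] (hX : Pi1.IsNormalScheme X)
    (F : X.Modules) (hF : Coh.IsCoh F) :
    (∀ x : ↥X, Module.IsReflexive (X.presheaf.stalk x) (F.presheaf.stalk x)) ↔
      ∃ U : X.Opens, (∀ x : ↥X, x ∉ U → (2 : WithBot ℕ∞) ≤ ringKrullDim (X.presheaf.stalk x)) ∧
        FlatMod.IsFinLocFree (F.restrict U.ι) ∧ IsIso ((Scheme.Modules.restrictAdjunction U.ι).unit.app F) := by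
  open Groth.Agent in open Groth.Agent.Div86 in
  constructor
  · intro h
    have hr := (RefX.isReflexive_iff hF).2 h
    have htf := Ref.isTorsionFree_of_reflexive hF hr
    let U : X.Opens := ⟨_, Ref.isOpen_free_locus hF⟩
    have hU : ∀ x : ↥X, x ∉ U → (2 : WithBot ℕ∞) ≤ ringKrullDim (X.presheaf.stalk x) := fun x hx => by
      haveI := htf x
      haveI := Ref.finite_stalk hF x
      rcases Ref.point_cases x with h1 | h1 | h1
      · refine absurd ?_ hx
        subst h1
        show Module.Free X.functionField (F.presheaf.stalk (genericPoint ↥X))
        haveI : Module.Finite X.functionField (F.presheaf.stalk (genericPoint ↥X)) := Ref.finite_stalk hF _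
        infer_instance
      · refine absurd ?_ hx
        haveI := Ref.isPID hX h1
        exact Module.free_of_finite_type_torsion_free'
      · exact h1
    exact ⟨U, hU, Ref.isFinLocFree_restrict U hF fun x hx => hx, RefX.isIso_unit_of_extendsAcross
      (RefX.extendsAcross_reflexive hF hr fun x hx => Ref.two_le_depth hX (hU x hx))⟩
  · rintro ⟨U, hU, hfree, hiso⟩ x
    obtain ⟨hc, hr⟩ := Ref.push_reflexive (fun x hx => Ref.two_le_depth hX (hU x hx))
      (F.restrict U.ι) (KZ.Localization.isCoh_restrict U.ι hF) fun u => by
        haveI := QCoh.free_stalk_of_isFinLocFree hfree u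
        haveI := QCoh.finite_stalk_of_isFT (KZ.Localization.isCoh_restrict U.ι hF).1
          (KZ.Localization.isCoh_restrict U.ι hF).2 u
        infer_instance
    haveI := hiso
    obtain ⟨l⟩ := Ref.stalk_equiv_of_iso
      (asIso ((Scheme.Modules.restrictAdjunction U.ι).unit.app F)) x
    haveI : Module.IsReflexive (X.presheaf.stalk x)
        (((Scheme.Modules.restrictFunctor U.ι ⋙ Scheme.Modules.pushforward U.ι).obj F).presheaf.stalk x) :=
      (RefX.isReflexive_iff hc).1 hr x
    exact Module.equiv l.symm

end Groth.Agent.S1690
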