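import Groth.Statements.S16904
import Groth.Agent.Posit43.Semi
import Groth.Agent.Posit43.IntNum
-- import your own Groth.Agent.* helpers here

set_option autoImplicit false
universe u
open CategoryTheory CategoryTheory.Limits AlgebraicGeometry
open Vanish

namespace Groth.Agent.S16904

/-- Let k be an algebraically closed field of characteristic zero and X an irreducible proper smooth
k-scheme of dimension n with an ample invertible O_X-module (a projective manifold); let L be a
semi-ample invertible O_X-module (some L^⊗μ with μ > 0 is globally generated; such L is numerically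
effective) with tensor inverse L⁻¹. Then for every natural number m, c_1(L)^m is numerically trivial
— (L^m · V) = 0 for every integral closed subscheme V ⊆ X of dimension m — if and only if κ(L) < m
in the growth form: there are no ν > 0 and a > 0 with μ^m ≤ a · dim_k H^0(X, L^⊗νμ) for all μ ≥ 1.
(This expresses ν(L) = κ(L) for semi-ample L; characteristic zero only.) -/
theorem result (k : Type u) [Field k] [IsAlgClosed k] [CharZero k]
    (X : Scheme.{u}) [X.Over (Spec (CommRingCat.of k))] [IsProper (X ↘ Spec (CommRingCat.of k))]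
    [Smooth (X ↘ Spec (CommRingCat.of k))] [IrreducibleSpace X] (n : ℕ) (hn : topologicalKrullDim X = n)
    (H : X.Modules) (hH : CohB1.IsAmple H) (L Linv : X.Modules) (hL : PicF.IsInvertible L) (hLinv : ClSub.IsInverseOf Linv L)
    (hsa : ∃ μ : ℕ, 0 < μ ∧ Curv2.IsGloballyGenerated (CohB1.tensorPow L μ))
    (m : ℕ) :
    (∀ (V : Scheme.{u}) (i : V ⟶ X) [IsClosedImmersion i], IsIntegral V → topologicalKrullDim V = (m : ℕ) →
      FGA.intNum k X n (fun _ : Fin m => Linv) ((Scheme.Modules.pushforward i).obj (Coh.structureModule V)) = 0) ↔ ¬ (∃ ν a : ℕ, 0 < ν ∧ 0 < a ∧ ∀ μ : ℕ, 1 ≤ μ →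
        μ ^ m ≤ a * Module.finrank k (Coh.HH X (CohB1.tensorPow L (ν * μ)) 0)) := by
  haveI := Groth.Agent.CurveCohLib.isNoetherian_of_proper (k := k) (X := X)
  have hO := QCoh.isCoh_structureModule' (X := X)
  obtain ⟨μ₀, hμ₀, hgg⟩ := hsa
  have key : ∀ (V : Scheme.{u}) (i : V ⟶ X) [IsClosedImmersion i] [IsIntegral V],
      topologicalKrullDim V = (m : ℕ) →
        FGA.intNum k X n (fun _ : Fin m => Linv) ((Scheme.Modules.pushforward i).obj (Coh.structureModule V)) =
          HilbPoly.iterD (List.replicate m L) (Curv2.euler k X) ((Coh.push i).obj (Coh.structureModule V)) :=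
    fun V i _ _ hV => Posit43.intNum_eq_iterD k hn.le hL hLinv (QCoh.isCoh_push_structure i)
      ((Posit43.push_structure_dim i).trans hV).le
  constructor
  · intro hm
    have hnt : Posit43.NumTriv k L m := fun V i _ _ hV =>
      (key V i hV).symm.trans (hm V i inferInstance hV)
    rintro ⟨ν, a, hν, -, hg⟩
    have hsm := Posit43.smallSections k m (n + 1) X H L hH hL
      (Posit43.nefX_of_semiample hH hL hμ₀ hgg) hnt _ hO
      (HilbPoly.lt_succ_of_le (SurfInt.dim_support_le hn.le _))
    refine Posit43.not_growth_of_growLt hν (a := a) hsm fun μ hμ => (hg μ hμ).trans_eq ?_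
    exact congrArg (a * ·) ((CurveCohLib.hhEquiv (k := k) (CurveTensor.structureTensorIso _) 0).finrank_eq).symm
  · intro hno V i _ hV hVd
    haveI := hV
    rw [key V i hVd]
    by_contra hne
    exact hno (Posit43.growth_of_semiample k hH hL hμ₀ hgg i hVd hne)

end Groth.Agent.S16904
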