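import Groth.Statements.S16919
import Mathlib
-- import your own Groth.Agent.* helpers here

set_option autoImplicit false
universe u
open TensorProduct
open CAlg

namespace Groth.Agent.S16919

/-- `equivOfTranscendenceBasis` is the identity on the base. -/
lemma exists_equiv_fixing {F K L : Type u} [Field F] [Field K] [Field L] [Algebra F K] [Algebra F L]
    [IsAlgClosed K] [IsAlgClosed L] (h : Algebra.trdeg F K = Algebra.trdeg F L) :
    ∃ e : K ≃+* L, ∀ r : F, e (algebraMap F K r) = algebraMap F L r := by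
  obtain ⟨s, hs⟩ := exists_isTranscendenceBasis F K
  obtain ⟨t, ht⟩ := exists_isTranscendenceBasis F L
  obtain ⟨e⟩ := Cardinal.eq.mp ((hs.cardinalMk_eq_trdeg.trans h).trans ht.cardinalMk_eq_trdeg.symm)
  letI := IsAlgClosed.isAlgClosure_of_transcendence_basis _ hs
  letI := IsAlgClosed.isAlgClosure_of_transcendence_basis _ ht
  let ε : Algebra.adjoin F (Set.range ((↑) : s → K)) ≃ₐ[F] Algebra.adjoin F (Set.range ((↑) : t → L)) :=
    hs.1.aevalEquiv.symm.trans ((MvPolynomial.renameEquiv F e).trans ht.1.aevalEquiv)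
  refine ⟨IsAlgClosure.equivOfEquiv K L ε.toRingEquiv, fun r => ?_⟩
  rw [IsScalarTower.algebraMap_apply F (Algebra.adjoin F (Set.range ((↑) : s → K))) K,
    IsAlgClosure.equivOfEquiv_algebraMap, AlgEquiv.toRingEquiv_eq_coe, AlgEquiv.coe_ringEquiv, AlgEquiv.commutes,
    ← IsScalarTower.algebraMap_apply]

/-- Two big algebraically closed extensions of a model are isomorphic over it. -/
lemma exists_equiv_of_embeddings {k₀ R₀ K L : Type u} [Field k₀] [CommRing R₀] [IsDomain R₀] [Algebra k₀ R₀]
    [Algebra.FiniteType k₀ R₀] [Field K] [Field L] [IsAlgClosed K] [IsAlgClosed L] [Algebra k₀ K] [Algebra k₀ L]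
    (f : R₀ →ₐ[k₀] K) (g : R₀ →ₐ[k₀] L) (hf : Function.Injective f) (hg : Function.Injective g)
    (hinf : Cardinal.aleph0 ≤ Algebra.trdeg k₀ K) (h : Algebra.trdeg k₀ L = Algebra.trdeg k₀ K) :
    ∃ e : L ≃+* K, ∀ r, e (g r) = f r := by
  letI : Algebra R₀ K := f.toRingHom.toAlgebra
  letI : Algebra R₀ L := g.toRingHom.toAlgebra
  haveI : IsScalarTower k₀ R₀ K := IsScalarTower.of_algebraMap_eq fun a => (f.commutes a).symm
  haveI : IsScalarTower k₀ R₀ L := IsScalarTower.of_algebraMap_eq fun a => (g.commutes a).symm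
  haveI : FaithfulSMul R₀ K := (faithfulSMul_iff_algebraMap_injective R₀ K).mpr hf
  haveI : FaithfulSMul R₀ L := (faithfulSMul_iff_algebraMap_injective R₀ L).mpr hg
  let F₀ := FractionRing R₀
  letI : Algebra F₀ K := FractionRing.liftAlgebra R₀ K
  letI : Algebra F₀ L := FractionRing.liftAlgebra R₀ L
  haveI : IsScalarTower R₀ F₀ K := FractionRing.isScalarTower_liftAlgebra R₀ K
  haveI : IsScalarTower R₀ F₀ L := FractionRing.isScalarTower_liftAlgebra R₀ L
  haveI : IsScalarTower k₀ F₀ K := IsScalarTower.of_algebraMap_eq fun a => by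
    rw [IsScalarTower.algebraMap_apply k₀ R₀ F₀, ← IsScalarTower.algebraMap_apply R₀ F₀ K, ← IsScalarTower.algebraMap_apply]
  haveI : IsScalarTower k₀ F₀ L := IsScalarTower.of_algebraMap_eq fun a => by
    rw [IsScalarTower.algebraMap_apply k₀ R₀ F₀, ← IsScalarTower.algebraMap_apply R₀ F₀ L, ← IsScalarTower.algebraMap_apply]
  have hF : Algebra.trdeg k₀ F₀ < Cardinal.aleph0 := by
    rw [← trdeg_add_eq k₀ R₀ (A := F₀)]
    haveI : Algebra.IsAlgebraic R₀ F₀ := IsLocalization.isAlgebraic F₀ (nonZeroDivisors R₀)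
    rw [trdeg_eq_zero (R := R₀) (A := F₀), add_zero]
    exact trdeg_lt_aleph0_of_finiteType
  have hK : Algebra.trdeg F₀ K = Algebra.trdeg k₀ K :=
    Cardinal.eq_of_add_eq_of_aleph0_le (trdeg_add_eq k₀ F₀ (A := K)) (hF.trans_le hinf) hinf
  have hL : Algebra.trdeg F₀ L = Algebra.trdeg k₀ K :=
    Cardinal.eq_of_add_eq_of_aleph0_le ((trdeg_add_eq k₀ F₀ (A := L)).trans h) (hF.trans_le hinf) hinf
  obtain ⟨e, he⟩ := exists_equiv_fixing (F := F₀) (K := L) (L := K) (hL.trans hK.symm)
  refine ⟨e, fun r => ?_⟩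
  have := he (algebraMap R₀ F₀ r)
  rw [← IsScalarTower.algebraMap_apply, ← IsScalarTower.algebraMap_apply] at this
  exact this

/-- Let k₀ → k be an extension of fields with k algebraically closed and of infinite transcendence
degree over k₀, R₀ a finitely generated k₀-algebra whose base change R = k ⊗ R₀ is an integral
domain (so Spec R is an integral affine k-scheme of finite type with the model Spec R₀ over k₀), and
P a k-point of Spec R, i.e. a k-algebra homomorphism ev : R → k, lying over the generic point of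
Spec R₀, i.e. with ev injective on R₀. Then there is a field isomorphism e from an algebraic closure
of the fraction field of R (the function field of Spec R) onto k such that e(1 ⊗ r) = ev(1 ⊗ r) for
every r in R₀: e extends evaluation at P on R₀. (The published setting has k algebraically closed of
characteristic zero and of infinite transcendence degree over its prime field, and k₀ the subfield
generated by the coefficients of equations of Spec R, which is finitely generated over the prime
field, so that k has infinite transcendence degree over k₀; only this last property and no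
characteristic assumption enter here. The isomorphism is not canonical.) -/
theorem result (k₀ k : Type u)
    [Field k₀] [Field k] [Algebra k₀ k] [IsAlgClosed k] (hinf : ∃ x : ℕ → k, AlgebraicIndependent k₀ x)
    (R₀ : Type u) [CommRing R₀] [Algebra k₀ R₀] [Algebra.FiniteType k₀ R₀] [IsDomain (k ⊗[k₀] R₀)]
    (ev : k ⊗[k₀] R₀ →ₐ[k] k) (hP : Function.Injective fun r : R₀ => ev (1 ⊗ₜ[k₀] r)) :
    ∃ e : AlgebraicClosure (FractionRing (k ⊗[k₀] R₀)) ≃+* k,
      ∀ r : R₀, e (algebraMap (k ⊗[k₀] R₀) (AlgebraicClosure (FractionRing (k ⊗[k₀] R₀)))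
        (1 ⊗ₜ[k₀] r)) = ev (1 ⊗ₜ[k₀] r) := by
  classical
  let evR : R₀ →ₐ[k₀] k := (ev.restrictScalars k₀).comp Algebra.TensorProduct.includeRight
  have hevR : Function.Injective evR := hP
  haveI : IsDomain R₀ := hevR.isDomain evR.toRingHom
  have hDL : Function.Injective (algebraMap (k ⊗[k₀] R₀) (AlgebraicClosure (FractionRing (k ⊗[k₀] R₀)))) := by
    rw [IsScalarTower.algebraMap_eq (k ⊗[k₀] R₀) (FractionRing (k ⊗[k₀] R₀)) (AlgebraicClosure (FractionRing (k ⊗[k₀] R₀)))]
    exact (algebraMap (FractionRing (k ⊗[k₀] R₀)) _).injective.comp (IsFractionRing.injective (k ⊗[k₀] R₀) (FractionRing (k ⊗[k₀] R₀)))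
  let g : R₀ →ₐ[k₀] AlgebraicClosure (FractionRing (k ⊗[k₀] R₀)) :=
    (IsScalarTower.toAlgHom k₀ (k ⊗[k₀] R₀) _).comp Algebra.TensorProduct.includeRight
  have hg : Function.Injective g := hDL.comp fun a b hab => hP (congrArg ev hab)
  have hinfk : Cardinal.aleph0 ≤ Algebra.trdeg k₀ k := by
    obtain ⟨x, hx⟩ := hinf
    simpa using hx.lift_cardinalMk_le_trdeg
  have htr : Algebra.trdeg k₀ (AlgebraicClosure (FractionRing (k ⊗[k₀] R₀))) = Algebra.trdeg k₀ k := by
    haveI : FaithfulSMul (k ⊗[k₀] R₀) (AlgebraicClosure (FractionRing (k ⊗[k₀] R₀))) :=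
      (faithfulSMul_iff_algebraMap_injective _ _).mpr hDL
    rw [← trdeg_add_eq k₀ k (A := AlgebraicClosure (FractionRing (k ⊗[k₀] R₀)))]
    refine Cardinal.add_eq_left hinfk (le_trans (le_of_lt ?_) hinfk)
    rw [← trdeg_add_eq k (k ⊗[k₀] R₀) (A := AlgebraicClosure (FractionRing (k ⊗[k₀] R₀)))]
    haveI : Algebra.IsAlgebraic (k ⊗[k₀] R₀) (FractionRing (k ⊗[k₀] R₀)) := IsLocalization.isAlgebraic _ (nonZeroDivisors _)
    haveI : Algebra.IsAlgebraic (k ⊗[k₀] R₀) (AlgebraicClosure (FractionRing (k ⊗[k₀] R₀))) :=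
      Algebra.IsAlgebraic.trans (k ⊗[k₀] R₀) (FractionRing (k ⊗[k₀] R₀)) _
    rw [trdeg_eq_zero (R := k ⊗[k₀] R₀) (A := AlgebraicClosure (FractionRing (k ⊗[k₀] R₀))), add_zero]
    exact trdeg_lt_aleph0_of_finiteType
  exact exists_equiv_of_embeddings evR g hevR hg hinfk htr

end Groth.Agent.S16919
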