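import Groth.Statements.S16951
import Groth.Agent.PicfLib.Seesaw.Fibre
import Groth.Agent.PicfLib.Seesaw.Main

set_option backward.isDefEq.respectTransparency false
set_option backward.isDefEq.respectTransparency.types false

set_option autoImplicit false
universe u
open PicF

namespace Groth.Agent.S16951

open AlgebraicGeometry CategoryTheory Scheme.Modules in
/-- Let f : X → S be a proper flat morphism of locally Noetherian schemes whose fibres are geometrically
integral, and let L be an invertible O_X-module with an inverse M (an isomorphism L ⊗ M ≅ O_X). Then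
the following are equivalent: (a) L ≅ f^* L₀ for some invertible O_S-module L₀; (b) for N = L and
for N = M, at every point s of S the space H^0(X_s, N|_{X_s}) of sections over the scheme-theoretic
fibre is nonzero and the degree-0 base change map of the fibre square, κ(s)^* f_* N → (X_s → Spec
κ(s))_* (N|_{X_s}), is an epimorphism. When this holds, dim_{κ(s)} H^0(X_s, N|_{X_s}) = 1 for every
s and both N, the counit f^* f_* L → L is an isomorphism, and any invertible L₀ with L ≅ f^* L₀ is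
isomorphic to f_* L. -/
theorem result
    {X S : Scheme.{u}} (f : X ⟶ S) [IsProper f] [Flat f] [IsLocallyNoetherian X] [IsLocallyNoetherian S]
    [GeometricallyIntegral f] (L M : X.Modules) (hL : PicF.IsInvertible L)
    (hM : Nonempty (CohB1.tensorMod L M ≅ Coh.structureModule X)) :
    ((∃ L₀ : S.Modules, PicF.IsInvertible L₀ ∧ Nonempty (L ≅ (pullback f).obj L₀)) ↔
      ((∀ s : S, Nontrivial (CohIII.fiberH f L s 0)) ∧ (∀ s : S, Nontrivial (CohIII.fiberH f M s 0)) ∧
        (∀ s : S, Epi (CohBC.bc0 f (S.fromSpecResidueField s) (f.fiberToSpecResidueField s) (f.fiberι s) (f.fiber_fac s) L)) ∧ (∀ s : S, Epi (CohBC.bc0 f (S.fromSpecResidueField s) (f.fiberToSpecResidueField s) (f.fiberι s) (f.fiber_fac s) M)))) ∧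
    (((∀ s : S, Nontrivial (CohIII.fiberH f L s 0)) ∧ (∀ s : S, Nontrivial (CohIII.fiberH f M s 0)) ∧
        (∀ s : S, Epi (CohBC.bc0 f (S.fromSpecResidueField s) (f.fiberToSpecResidueField s) (f.fiberι s) (f.fiber_fac s) L)) ∧ (∀ s : S, Epi (CohBC.bc0 f (S.fromSpecResidueField s) (f.fiberToSpecResidueField s) (f.fiberι s) (f.fiber_fac s) M))) →
      (∀ s : S, CohIII.fiberRank f L 0 s = 1 ∧ CohIII.fiberRank f M 0 s = 1) ∧
      IsIso ((pullbackPushforwardAdjunction f).counit.app L) ∧
      ∀ L₀ : S.Modules, PicF.IsInvertible L₀ → Nonempty (L ≅ (pullback f).obj L₀) →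
        Nonempty (L₀ ≅ (pushforward f).obj L)) := by
  obtain ⟨ψ⟩ := hM
  have hbij : ∀ W, Function.Bijective (f.app W) := Groth.Agent.PicfLib.Seesaw.bijective_app f
  have h0 : ∀ s : S, Function.Bijective (f.fiberToSpecResidueField s).appTop := fun s =>
    Groth.Agent.H23.RigidApply.constFibres_of_geometricallyIntegral f s
  have hMi : PicF.IsInvertible M := by
    obtain ⟨D, hD, ⟨φ⟩⟩ := Groth.Agent.H23.PicInv.exists_inverse hL
    exact Groth.Agent.PicfLib.Seesaw.isInvertible_inverse hD φ ψ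
  -- (b) gives frames of `L` near every point
  have hfr : ((∀ s : S, Nontrivial (CohIII.fiberH f L s 0)) ∧ (∀ s : S, Nontrivial (CohIII.fiberH f M s 0)) ∧
        (∀ s : S, Epi (Groth.Agent.PicfLib.Seesaw.bcFibre f L s)) ∧ (∀ s : S, Epi (Groth.Agent.PicfLib.Seesaw.bcFibre f M s))) →
      ∀ y : S, ∃ V : S.Opens, y ∈ V ∧ ∃ t : Γ(L, f ⁻¹ᵁ V), Groth.Agent.InvX.IsFrame t :=
    fun hb y => Groth.Agent.PicfLib.Seesaw.exists_frame_of_conditions f L M hL hMi ψ y (hb.1 y) (hb.2.1 y) (hb.2.2.1 y)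
  refine ⟨⟨?_, fun hb => ?_⟩, fun hb => ?_⟩
  · rintro ⟨L₀, hL₀, ⟨e⟩⟩
    have hloc := Groth.Agent.PicfLib.Seesaw.exists_frame_of_pullback f L L₀ hL₀ e
    have hlocM := Groth.Agent.PicfLib.Seesaw.exists_frame_inverse f L M ψ hloc
    refine ⟨fun s => ?_, fun s => ?_, fun s => ?_, fun s => ?_⟩
    · exact (Groth.Agent.PicfLib.Seesaw.conditions_of_frame f L hloc s (h0 s)).1
    · exact (Groth.Agent.PicfLib.Seesaw.conditions_of_frame f M hlocM s (h0 s)).1
    · exact (Groth.Agent.PicfLib.Seesaw.conditions_of_frame f L hloc s (h0 s)).2.1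
    · exact (Groth.Agent.PicfLib.Seesaw.conditions_of_frame f M hlocM s (h0 s)).2.1
  · obtain ⟨h1, h2⟩ := Groth.Agent.S16759.of_local f hbij L (hfr hb)
    exact ⟨_, h1, ⟨(@asIso _ _ _ _ _ h2).symm⟩⟩
  · obtain ⟨h1, h2⟩ := Groth.Agent.S16759.of_local f hbij L (hfr hb)
    have hlocM := Groth.Agent.PicfLib.Seesaw.exists_frame_inverse f L M ψ (hfr hb)
    refine ⟨fun s => ⟨(Groth.Agent.PicfLib.Seesaw.conditions_of_frame f L (hfr hb) s (h0 s)).2.2,
      (Groth.Agent.PicfLib.Seesaw.conditions_of_frame f M hlocM s (h0 s)).2.2⟩, h2, fun L₀ hL₀ ⟨e⟩ => ?_⟩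
    haveI := Groth.Agent.H23.PullPush.isIso_unit_of_isFinLocFree f hbij L₀
      (Groth.Agent.H23.PullPush.isFinLocFree_of_isInvertible hL₀)
    exact ⟨asIso ((pullbackPushforwardAdjunction f).unit.app L₀) ≪≫ (pushforward f).mapIso e.symm⟩

end Groth.Agent.S16951
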