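import Groth.Statements.S16968
import Groth.Agent.CurveFF.Facts
import Groth.Agent.CurveCohLib.Pencil
import Groth.Agent.CurveCohLib.RegularCurve
-- import your own Groth.Agent.* helpers here

set_option autoImplicit false
universe u
open CategoryTheory CategoryTheory.Limits AlgebraicGeometry Opposite
open Curves

namespace Groth.Agent.S16968

/-- Let X be a smooth projective curve over an algebraically closed field k of characteristic 0
(integral, proper over k, of dimension one, all local rings regular) of genus g ≥ 3 which is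
hyperelliptic, with a g^1_2 given as an invertible module N of degree 2 and two k-linearly
independent global sections t_0, t_1. Then the canonical morphism of X is linearly semistable but
not linearly stable, stated through the criterion by invertible subsheaves: (i) for every invertible
module M and every monomorphism ι : M ⟶ Ω_{X/k} which is not an isomorphism, with dim_k H^0(X, M) ≥
2, one has deg Ω_{X/k} · (h^0(M) - 1) ≤ deg M · (h^0(Ω_{X/k}) - 1); (ii) N admits a monomorphism
into Ω_{X/k} which is not an isomorphism and for which equality holds. Degrees are χ(·) - χ(O_X).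
(The published statement gives no genus bound for the hyperelliptic case; here g ≥ 3 is assumed,
since for g = 2 the module N is the canonical module itself and clause (ii) fails.) -/
theorem result (k : Type u) [Field k] [IsAlgClosed k] [CharZero k] (X : Scheme.{u}) [X.Over (Spec (CommRingCat.of k))]
    [IsIntegral X] [IsProper (X ↘ (Spec (CommRingCat.of k)))] (hdim : topologicalKrullDim X = 1)
    (hreg : ∀ x : X, IsRegularLocalRing (X.presheaf.stalk x))
    (hg : 3 ≤ Curv2.genus k X)
    (N : X.Modules) (t : Fin 2 → LinSer.Sect X N) (hN : LinSer.IsLinSer k X N 2 1 t) :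
    (∀ (M : X.Modules) (ι : M ⟶ Omega.sheaf (X ↘ (Spec (CommRingCat.of k)))), PicF.IsInvertible M → Mono ι → ¬ IsIso ι →
        2 ≤ Module.finrank k (Coh.HH X M 0) →
        Curv2.deg k X (Omega.sheaf (X ↘ (Spec (CommRingCat.of k)))) 1 * ((Module.finrank k (Coh.HH X M 0) : ℤ) - 1) ≤
          Curv2.deg k X M 1 * ((Module.finrank k (Coh.HH X (Omega.sheaf (X ↘ (Spec (CommRingCat.of k)))) 0) : ℤ) - 1)) ∧
      ∃ ι : N ⟶ Omega.sheaf (X ↘ (Spec (CommRingCat.of k))), Mono ι ∧ ¬ IsIso ι ∧
        Curv2.deg k X (Omega.sheaf (X ↘ (Spec (CommRingCat.of k)))) 1 * ((Module.finrank k (Coh.HH X N 0) : ℤ) - 1) =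
          Curv2.deg k X N 1 * ((Module.finrank k (Coh.HH X (Omega.sheaf (X ↘ (Spec (CommRingCat.of k)))) 0) : ℤ) - 1) := by
  haveI := Groth.Agent.CurveCohLib.RegularCurve.smooth_of_regular k (X := X) fun x _ => hreg x
  haveI := Groth.Agent.CurveCohLib.isNoetherian_of_proper (k := k) (X := X)
  obtain ⟨hc0, hcd⟩ := Groth.Agent.CurveFF.canonical_invariants k X hdim
  have hΩ := Groth.Agent.CurveFF.isInvertible_Ωm k X hdim
  have hΩ1 := Groth.Agent.CurveFF.finrank_h1_Ωm k (X := X) hdim
  rw [show Curv2.deg k X (Omega.sheaf (X ↘ Spec (CommRingCat.of k))) 1 = _ from hcd,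
    show Module.finrank k (Coh.HH X (Omega.sheaf (X ↘ Spec (CommRingCat.of k))) 0) = _ from hc0]
  refine ⟨fun M ι hM hmono hι h2 => ?_, ?_⟩
  · haveI := hmono
    obtain ⟨m, hm⟩ := Nat.exists_eq_add_of_le h2
    have hne : ι ≠ 0 := fun h0 => by
      haveI : Nontrivial (Coh.HH X M 0) := Module.nontrivial_of_finrank_pos (R := k) (by omega)
      obtain ⟨t, ht⟩ := exists_ne (0 : Coh.HH X M 0)
      refine Groth.Agent.CurveSpecial.homOfClass_ne_zero ht ((cancel_mono ι).1 ?_)
      rw [h0, comp_zero, zero_comp]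
    haveI := Groth.Agent.CurveCohLib.finite_HH (k := k) (Groth.Agent.CurveDeg.isCoh_of_isInvertible hM) 1
    have h1 : Nontrivial (Coh.HH X M 1) := by
      by_contra hcon
      rw [not_nontrivial_iff_subsingleton] at hcon
      haveI := (Groth.Agent.CurveSpecial.surjective_mapLin_one k hdim hM hΩ ι hne).subsingleton
      rw [Module.finrank_zero_of_subsingleton] at hΩ1
      omega
    have h := Groth.Agent.CurveCohLib.Clifford.h0_add_h1_le k hdim hM
      (Module.nontrivial_of_finrank_pos (R := k) (by omega)) h1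
    have hd := Groth.Agent.CurveCohLib.Clifford.deg_eq k hdim hM
    rw [hm] at h hd ⊢
    push_cast at hd ⊢
    nlinarith [mul_le_mul_of_nonneg_right (show 2 * ((m : ℤ) + 1) ≤ Curv2.deg k X M 1 by omega)
      (show (0 : ℤ) ≤ (Curv2.genus k X : ℤ) - 1 by omega)]
  · obtain ⟨hNi, hNd, hNs⟩ := hN
    have h2 := Groth.Agent.CurveCohLib.Pencil.le_h0_of_linIndep k
      (Groth.Agent.CurveDeg.isCoh_of_isInvertible hNi) t hNs
    have hd := Groth.Agent.CurveCohLib.Clifford.deg_eq k hdim hNi
    rw [hNd] at hd
    have hN0 : Module.finrank k (Coh.HH X N 0) = 2 := by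
      by_contra hne
      have := Groth.Agent.CurveCohLib.Clifford.dichotomy k hdim hNi (m := 2) (by omega)
      omega
    obtain ⟨D, -, -, ⟨e⟩⟩ := Groth.Agent.CurveDuality.exists_inverse_deg k hdim hNi
    have h1 := Groth.Agent.CurveFF.finrank_h1_eq k hdim hNi e
    haveI : Nontrivial (Coh.HH X (CohB1.tensorMod (Omega.sheaf (X ↘ Spec (CommRingCat.of k))) D) 0) :=
      Module.nontrivial_of_finrank_pos (R := k) (by
        change 0 < Module.finrank k (Coh.HH X (CohB1.tensorMod (Groth.Agent.CurveFF.Ωm k X) D) 0)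
        omega)
    haveI : Nontrivial (Coh.HH X ((DCoh.tensorBi.obj (Omega.sheaf (X ↘ Spec (CommRingCat.of k)))).obj D) 0) :=
      (inferInstance : Nontrivial (Coh.HH X (CohB1.tensorMod (Omega.sheaf (X ↘ Spec (CommRingCat.of k))) D) 0))
    haveI : Nontrivial (Coh.HH X ((DCoh.tensorBi.obj D).obj (Omega.sheaf (X ↘ Spec (CommRingCat.of k)))) 0) :=
      (Groth.Agent.CurveCohLib.hhEquiv (k := k) (Groth.Agent.CurveTensor.commIso D
        (Omega.sheaf (X ↘ Spec (CommRingCat.of k)))) 0).toEquiv.nontrivial
    obtain ⟨s, hs⟩ := exists_ne (0 : Coh.HH X ((DCoh.tensorBi.obj D).obj (Omega.sheaf (X ↘ Spec (CommRingCat.of k)))) 0)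
    let φ := Groth.Agent.CurveDuality.homOfTwist e (Omega.sheaf (X ↘ Spec (CommRingCat.of k))) s
    have hφ : φ ≠ 0 := Groth.Agent.CurveDuality.homOfTwist_ne_zero e hs
    refine ⟨φ, Groth.Agent.InvEnd.mono_of_ne_zero hNi hΩ φ hφ, fun hi => ?_, ?_⟩
    · have := Groth.Agent.CurveRR.deg_congr k (asIso φ) 1
      rw [hNd, show Curv2.deg k X (Omega.sheaf (X ↘ Spec (CommRingCat.of k))) 1 = _ from hcd] at this
      omega
    · rw [hN0, hNd]
      push_cast
      ring

end Groth.Agent.S16968
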