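import Groth.Statements.S16980
import Mathlib
-- import your own Groth.Agent.* helpers here

set_option autoImplicit false
universe u
open CAlg

namespace Groth.Agent.S16980

/-- In `A[X,Y]/(XY - t)` the annihilator of `(x, y)` is zero. -/
lemma mem_span_of_mul_X_mem {A : Type u} [CommRing A] (t : A) {h : MvPolynomial (Fin 2) A}
    (hX : h * MvPolynomial.X 0 ∈ Ideal.span {MvPolynomial.X 0 * MvPolynomial.X 1 - MvPolynomial.C t})
    (hY : h * MvPolynomial.X 1 ∈ Ideal.span {MvPolynomial.X 0 * MvPolynomial.X 1 - MvPolynomial.C t}) :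
    h ∈ Ideal.span {MvPolynomial.X 0 * MvPolynomial.X 1 - MvPolynomial.C t} := by
  classical
  set g : MvPolynomial (Fin 2) A := MvPolynomial.X 0 * MvPolynomial.X 1 - MvPolynomial.C t with hg
  have hreg : ∀ q : MvPolynomial (Fin 2) A, g * q = 0 → q = 0 := by
    intro q hq
    by_contra hne
    obtain ⟨d, hd, hmax⟩ := Finset.exists_max_image q.support (fun d => d 0)
      (MvPolynomial.support_nonempty.mpr hne)
    have h1 := congrArg (MvPolynomial.coeff (Finsupp.single 0 1 + (Finsupp.single 1 1 + d))) hq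
    rw [hg, sub_mul, MvPolynomial.coeff_sub, mul_assoc, MvPolynomial.coeff_X_mul, MvPolynomial.coeff_X_mul,
      MvPolynomial.coeff_C_mul, MvPolynomial.coeff_zero,
      show q.coeff (Finsupp.single 0 1 + (Finsupp.single 1 1 + d)) = 0 from by
        by_contra hne'
        have := hmax _ (MvPolynomial.mem_support_iff.mpr hne')
        simp at this, mul_zero, sub_zero] at h1
    exact MvPolynomial.mem_support_iff.mp hd h1
  obtain ⟨u, hu⟩ := Ideal.mem_span_singleton.mp hX
  obtain ⟨w, hw⟩ := Ideal.mem_span_singleton.mp hY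
  have huw : u * MvPolynomial.X 1 = w * MvPolynomial.X 0 :=
    sub_eq_zero.mp (hreg _ (by linear_combination (-(MvPolynomial.X 1 : MvPolynomial (Fin 2) A)) * hu + MvPolynomial.X 0 * hw))
  obtain ⟨v, hv⟩ : MvPolynomial.X 0 ∣ u := by
    rw [MvPolynomial.X_dvd_iff_modMonomial_eq_zero]
    refine MvPolynomial.ext _ _ fun d => ?_
    rw [MvPolynomial.coeff_zero]
    by_cases hd : Finsupp.single 0 1 ≤ d
    · exact MvPolynomial.coeff_modMonomial_of_le _ hd
    · rw [MvPolynomial.coeff_modMonomial_of_not_le _ hd]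
      have h1 := congrArg (MvPolynomial.coeff (Finsupp.single 1 1 + d)) huw
      rw [mul_comm u, MvPolynomial.coeff_X_mul, MvPolynomial.coeff_mul_X'] at h1
      rw [h1, if_neg]
      intro hmem
      apply hd
      intro i
      have h0 : d 0 ≠ 0 := by simpa [Finsupp.mem_support_iff] using hmem
      by_cases hi : i = 0
      · subst hi; simp; omega
      · simp [Finsupp.single_apply, Ne.symm hi]
  refine Ideal.mem_span_singleton.mpr ⟨v, ?_⟩
  have h2 : (MvPolynomial.X 0 : MvPolynomial (Fin 2) A) * (h - g * v) = 0 := by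
    rw [hv] at hu; linear_combination hu
  rw [← sub_eq_zero]
  by_contra hne
  obtain ⟨d, hd⟩ := MvPolynomial.exists_coeff_ne_zero hne
  have h3 := congrArg (MvPolynomial.coeff (Finsupp.single 0 1 + d)) h2
  rw [MvPolynomial.coeff_X_mul, MvPolynomial.coeff_zero] at h3
  exact hd h3

/-- Let A be a commutative ring, J an A-module, A′ = A ⊕ εJ the trivial square-zero extension of A by J,
and τ any element of A′. Let B′ be the A′-algebra A′[x,y]/(xy − τ), presented by two generators x, y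
with the evaluation map from the polynomial ring in two variables over A′ surjective and with kernel
generated by XY − τ. Let I ⊆ B′ be the ideal generated by the square-zero ideal J of A′, so that B =
B′/I is A[x,y]/(xy − t) with t the A-component of τ. Then the first map of the conormal sequence of
B′ → B relative to A, namely I → B ⊗_{B′} Ω_{B′/A}, i ↦ 1 ⊗ di, is injective (so the sequence 0 → I
→ B ⊗_{B′} Ω_{B′/A} → Ω_{B/A} → 0 is exact on the left as well; this is the local computation at a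
node for first-order deformations of nodal curves). -/
theorem result
    (A : Type u) [CommRing A] (J : Type u) [AddCommGroup J] [Module A J] [Module Aᵐᵒᵖ J]
    [IsCentralScalar A J] (τ : TrivSqZeroExt A J)
    (B' : Type u) [CommRing B'] [Algebra (TrivSqZeroExt A J) B'] [Algebra A B']
    [IsScalarTower A (TrivSqZeroExt A J) B'] (x y : B')
    (hsurj : Function.Surjective
      (MvPolynomial.aeval ![x, y] : MvPolynomial (Fin 2) (TrivSqZeroExt A J) →ₐ[TrivSqZeroExt A J] B'))
    (hker : RingHom.ker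
      (MvPolynomial.aeval ![x, y] : MvPolynomial (Fin 2) (TrivSqZeroExt A J) →ₐ[TrivSqZeroExt A J] B') =
      Ideal.span {MvPolynomial.X 0 * MvPolynomial.X 1 - MvPolynomial.C τ}) :
    Function.Injective (KaehlerDifferential.kerToTensor A B'
      (B' ⧸ Ideal.map (algebraMap (TrivSqZeroExt A J) B') (TrivSqZeroExt.kerIdeal A J))) := by
  classical
  let A' := TrivSqZeroExt A J
  let K : Ideal A' := TrivSqZeroExt.kerIdeal A J
  let I : Ideal B' := Ideal.map (algebraMap A' B') K
  have hI2 : ∀ a ∈ I, ∀ b ∈ I, a * b = 0 := by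
    intro a ha b hb
    have : a * b ∈ I ^ 2 := by rw [pow_two]; exact Ideal.mul_mem_mul ha hb
    have hK : K ^ 2 = ⊥ := TrivSqZeroExt.kerIdeal_sq (R := A) (M := J)
    rw [← Ideal.map_pow, hK, Ideal.map_bot] at this
    exact this
  let ψ : MvPolynomial (Fin 2) A' →ₐ[A] B' := (MvPolynomial.aeval ![x, y]).restrictScalars A
  let π : MvPolynomial (Fin 2) A' →ₐ[A] MvPolynomial (Fin 2) A :=
    MvPolynomial.mapAlgHom (TrivSqZeroExt.fstHom A A J)
  let ι : MvPolynomial (Fin 2) A →ₐ[A] MvPolynomial (Fin 2) A' :=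
    MvPolynomial.mapAlgHom (Algebra.ofId A A')
  let g : MvPolynomial (Fin 2) A' := MvPolynomial.X 0 * MvPolynomial.X 1 - MvPolynomial.C τ
  have hπι : ∀ q, π (ι q) = q := fun q => by
    show (π.comp ι) q = AlgHom.id A _ q
    congr 1
    exact MvPolynomial.algHom_ext fun i => by simp [π, ι]
  have hπg : π g = MvPolynomial.X 0 * MvPolynomial.X 1 - MvPolynomial.C τ.fst := by
    simp [g, π]
    rfl
  have hψK : ∀ p, π p = 0 → ψ p ∈ I := by
    intro p hp
    have hp' : p ∈ Ideal.map MvPolynomial.C K := MvPolynomial.mem_map_C_iff.mpr fun d => by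
      have := congrArg (MvPolynomial.coeff d) hp
      simp only [π, MvPolynomial.mapAlgHom_apply, MvPolynomial.coeff_map, MvPolynomial.coeff_zero] at this
      exact this
    have h := Ideal.mem_map_of_mem (MvPolynomial.aeval ![x, y] : MvPolynomial (Fin 2) A' →ₐ[A'] B').toRingHom hp'
    rw [Ideal.map_map] at h
    have he : ((MvPolynomial.aeval ![x, y] : MvPolynomial (Fin 2) A' →ₐ[A'] B').toRingHom.comp MvPolynomial.C) =
        algebraMap A' B' := RingHom.ext fun a => MvPolynomial.aeval_C _ a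
    rw [he] at h
    exact h
  have hlift : ∀ i ∈ I, ∃ p, π p = 0 ∧ ψ p = i := by
    intro i hi
    have he : ((MvPolynomial.aeval ![x, y] : MvPolynomial (Fin 2) A' →ₐ[A'] B').toRingHom.comp MvPolynomial.C) =
        algebraMap A' B' := RingHom.ext fun a => MvPolynomial.aeval_C _ a
    change i ∈ Ideal.map (algebraMap A' B') K at hi
    rw [← he, ← Ideal.map_map] at hi
    obtain ⟨p, hp, rfl⟩ := (Ideal.mem_map_iff_of_surjective _ (show Function.Surjective (MvPolynomial.aeval ![x, y] : MvPolynomial (Fin 2) A' →ₐ[A'] B').toRingHom from hsurj)).mp hi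
    refine ⟨p, MvPolynomial.ext _ _ fun d => ?_, rfl⟩
    simp only [π, MvPolynomial.mapAlgHom_apply, MvPolynomial.coeff_map, MvPolynomial.coeff_zero]
    exact MvPolynomial.mem_map_C_iff.mp hp d
  have hε : ∀ p, ψ p - ψ (ι (π p)) ∈ I := fun p => by
    rw [← map_sub]; exact hψK _ (by rw [map_sub, hπι, sub_self])
  let M₀ := I × (B' ⧸ I) × (B' ⧸ I)
  let qI : B' →ₐ[A] B' ⧸ I := Ideal.Quotient.mkₐ A I
  let δ : MvPolynomial (Fin 2) A' →ₗ[A] M₀ :=
    ((ψ.toLinearMap - (ψ.comp (ι.comp π)).toLinearMap).codRestrict (I.restrictScalars A) hε).prod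
      (((qI.comp (ψ.comp ι)).toLinearMap ∘ₗ (MvPolynomial.pderiv 0).toLinearMap ∘ₗ π.toLinearMap).prod
        ((qI.comp (ψ.comp ι)).toLinearMap ∘ₗ (MvPolynomial.pderiv 1).toLinearMap ∘ₗ π.toLinearMap))
  have hδ1 : ∀ p, ((δ p).1 : B') = ψ p - ψ (ι (π p)) := fun p => rfl
  have hδ2 : ∀ p, (δ p).2 = (qI (ψ (ι (MvPolynomial.pderiv 0 (π p)))), qI (ψ (ι (MvPolynomial.pderiv 1 (π p))))) :=
    fun p => rfl
  have hqsmul : ∀ (b c : B'), b • qI c = qI (b * c) := fun b c => rfl
  have hqI : ∀ p, qI (ψ (ι (π p))) = qI (ψ p) := fun p =>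
    (Ideal.Quotient.eq.mpr (hε p)).symm
  have hleib : ∀ p q, δ (p * q) = ψ p • δ q + ψ q • δ p := by
    intro p q
    refine Prod.ext (Subtype.ext ?_) ?_
    · show ((δ (p * q)).1 : B') = ψ p * ((δ q).1 : B') + ψ q * ((δ p).1 : B')
      rw [hδ1, hδ1, hδ1]
      simp only [map_mul]
      linear_combination -(hI2 _ (hε p) _ (hε q))
    · rw [hδ2, Prod.snd_add, Prod.smul_snd, Prod.smul_snd, hδ2, hδ2, Prod.smul_mk, Prod.smul_mk, Prod.mk_add_mk]
      simp only [hqsmul, map_mul, MvPolynomial.pderiv_mul, map_add, hqI]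
      exact Prod.ext (by ring) (by ring)
  let R₀ : Submodule B' M₀ := B' ∙ δ g
  let Mrel := M₀ ⧸ R₀
  let δ' : MvPolynomial (Fin 2) A' →ₗ[A] Mrel := (R₀.mkQ.restrictScalars A) ∘ₗ δ
  have hψg : ψ g = 0 := by
    have : g ∈ RingHom.ker (MvPolynomial.aeval ![x, y] : MvPolynomial (Fin 2) A' →ₐ[A'] B') := by
      rw [hker]; exact Ideal.subset_span rfl
    exact this
  have hker' : LinearMap.ker ψ.toLinearMap ≤ LinearMap.ker δ' := by
    intro p hp
    have hp' : p ∈ RingHom.ker (MvPolynomial.aeval ![x, y] : MvPolynomial (Fin 2) A' →ₐ[A'] B') := hp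
    rw [hker] at hp'
    obtain ⟨c, rfl⟩ := Ideal.mem_span_singleton.mp hp'
    show R₀.mkQ (δ (g * c)) = 0
    rw [hleib, hψg, zero_smul, zero_add, Submodule.mkQ_apply, Submodule.Quotient.mk_eq_zero]
    exact Submodule.smul_mem _ _ (Submodule.mem_span_singleton_self _)
  let Dl : B' →ₗ[A] Mrel :=
    (LinearMap.ker ψ.toLinearMap).liftQ δ' hker' ∘ₗ (ψ.toLinearMap.quotKerEquivOfSurjective hsurj).symm.toLinearMap
  have hDl : ∀ p, Dl (ψ p) = R₀.mkQ (δ p) := fun p => by
    show (LinearMap.ker ψ.toLinearMap).liftQ δ' hker' ((ψ.toLinearMap.quotKerEquivOfSurjective hsurj).symm (ψ.toLinearMap p)) = _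
    rw [show (ψ.toLinearMap.quotKerEquivOfSurjective hsurj).symm (ψ.toLinearMap p) = Submodule.Quotient.mk p from
      (LinearEquiv.symm_apply_eq _).mpr rfl]
    rfl
  let D : Derivation A B' Mrel := Derivation.mk' Dl fun a b => by
    obtain ⟨p, rfl⟩ := hsurj a
    obtain ⟨q, rfl⟩ := hsurj b
    show Dl (ψ p * ψ q) = ψ p • Dl (ψ q) + ψ q • Dl (ψ p)
    rw [← map_mul, hDl, hDl, hDl, hleib, map_add, map_smul, map_smul]
  refine (injective_iff_map_eq_zero _).mpr ?_
  rintro ⟨i, hi⟩ h0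
  have hiI : i ∈ I := by
    rw [RingHom.mem_ker, Ideal.Quotient.algebraMap_eq, Ideal.Quotient.eq_zero_iff_mem] at hi
    exact hi
  have hdi : KaehlerDifferential.D A B' i ∈ I • (⊤ : Submodule B' (Ω[B'⁄A])) := by
    have h1 := congrArg (TensorProduct.quotTensorEquivQuotSMul (Ω[B'⁄A]) I) h0
    rw [map_zero] at h1
    rw [← Submodule.Quotient.mk_eq_zero, ← h1]
    exact (TensorProduct.quotTensorEquivQuotSMul_mk_one_tmul I (KaehlerDifferential.D A B' i)).symm
  have hIM : ∀ b ∈ I, ∀ m : Mrel, b • m = 0 := by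
    intro b hb m
    obtain ⟨⟨a, c, e⟩, rfl⟩ := Submodule.Quotient.mk_surjective _ m
    rw [← Submodule.Quotient.mk_smul]
    have hz : b • ((a, c, e) : M₀) = 0 := by
      obtain ⟨c, rfl⟩ := Ideal.Quotient.mk_surjective c
      obtain ⟨e, rfl⟩ := Ideal.Quotient.mk_surjective e
      exact Prod.ext (Subtype.ext (hI2 b hb a a.2))
        (Prod.ext (Ideal.Quotient.eq_zero_iff_mem.mpr (I.mul_mem_right c hb)) (Ideal.Quotient.eq_zero_iff_mem.mpr (I.mul_mem_right e hb)))
    rw [hz, Submodule.Quotient.mk_zero]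
  have hDi : D i = 0 := by
    rw [← Derivation.liftKaehlerDifferential_comp_D D i]
    have hle : I • (⊤ : Submodule B' (Ω[B'⁄A])) ≤ LinearMap.ker D.liftKaehlerDifferential :=
      Submodule.smul_le.mpr fun r hr n _ => by rw [LinearMap.mem_ker, map_smul]; exact hIM r hr _
    exact hle hdi
  obtain ⟨p, hp0, rfl⟩ := hlift i hiI
  change Dl (ψ p) = 0 at hDi
  rw [hDl, Submodule.mkQ_apply, Submodule.Quotient.mk_eq_zero, Submodule.mem_span_singleton] at hDi
  obtain ⟨b, hb⟩ := hDi
  obtain ⟨pb, rfl⟩ := hsurj b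
  have hb2 := congrArg Prod.snd hb
  rw [Prod.smul_snd, hδ2, hδ2, hp0, map_zero, map_zero, map_zero, map_zero, Prod.smul_mk, hπg] at hb2
  simp only [map_sub, MvPolynomial.pderiv_mul, MvPolynomial.pderiv_C, MvPolynomial.pderiv_X, map_zero] at hb2
  simp [hqsmul] at hb2
  have hmem : ∀ s : Fin 2, qI (ψ pb * ψ (MvPolynomial.X s)) = 0 →
      π pb * MvPolynomial.X s ∈ Ideal.span {MvPolynomial.X 0 * MvPolynomial.X 1 - MvPolynomial.C τ.fst} := by
    intro s hs
    obtain ⟨r, hr, hre⟩ := hlift _ (Ideal.Quotient.eq_zero_iff_mem.mp hs)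
    have : pb * MvPolynomial.X s - r ∈ RingHom.ker (MvPolynomial.aeval ![x, y] : MvPolynomial (Fin 2) A' →ₐ[A'] B') := by
      rw [RingHom.mem_ker]
      show ψ (pb * MvPolynomial.X s - r) = 0
      rw [map_sub, hre, map_mul, sub_self]
    rw [hker] at this
    obtain ⟨c, hc⟩ := Ideal.mem_span_singleton.mp this
    refine Ideal.mem_span_singleton.mpr ⟨π c, ?_⟩
    have hc' := congrArg π hc
    rw [map_sub, map_mul, map_mul, hr, sub_zero, hπg] at hc'
    simpa [π] using hc'
  have hψX : ∀ s, ψ (ι (MvPolynomial.X s)) = ψ (MvPolynomial.X s) := fun s => by simp [ι]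
  obtain ⟨v, hv⟩ := Ideal.mem_span_singleton.mp (mem_span_of_mul_X_mem τ.fst (hmem 0 (by rw [map_mul, ← hψX 0]; exact hb2.2)) (hmem 1 (by rw [map_mul, ← hψX 1]; exact hb2.1)))
  have hpbI : ψ pb ∈ I := by
    have := hψK (pb - g * ι v) (by rw [map_sub, map_mul, hπι, hπg, hv, sub_self])
    rwa [map_sub, map_mul, hψg, zero_mul, sub_zero] at this
  have hb1 : ψ pb * ((δ g).1 : B') = ((δ p).1 : B') := congrArg Subtype.val (congrArg Prod.fst hb)
  rw [hI2 _ hpbI _ (δ g).1.2, hδ1, hp0, map_zero, map_zero, sub_zero] at hb1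
  exact Subtype.ext hb1.symm

end Groth.Agent.S16980
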