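import Groth.Statements.S16982
import Mathlib
import Groth.Agent.CA2H40.SqZeroComplete
import Groth.Agent.Adic7.Lift
-- import your own Groth.Agent.* helpers here

set_option autoImplicit false
universe u v w w'
open CAlg

namespace Groth.Agent.S16982

/-- Let R be a commutative ring, A a complete Noetherian local R-algebra written as a quotient of a
power series ring over R in finitely many variables by a surjective R-algebra map π, and f : E → A a
surjective R-algebra map whose kernel has square zero and is finitely generated. Then π lifts along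
f to an R-algebra map λ from the power series ring to E with f ∘ λ = π. (The published statement
takes R Artinian local and asks for a lift that is continuous for the adic topologies; this row
allows any commutative R and asks for any lift.) -/
theorem result
    {R : Type u} [CommRing R] {σ : Type v} [Finite σ]
    {A : Type w} {E : Type w'} [CommRing A] [CommRing E] [Algebra R A] [Algebra R E]
    [IsNoetherianRing A] [IsLocalRing A] [IsAdicComplete (IsLocalRing.maximalIdeal A) A]
    (π : MvPowerSeries σ R →ₐ[R] A) (hπ : Function.Surjective π)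
    (f : E →ₐ[R] A) (hf : Function.Surjective f)
    (hsq : RingHom.ker f.toRingHom ^ 2 = ⊥) (hfg : (RingHom.ker f.toRingHom).FG) :
    ∃ l : MvPowerSeries σ R →ₐ[R] E, f.comp l = π := by
  classical
  haveI := Groth.Agent.CA2H40.isAdicComplete_sqzero f.toRingHom hf hsq hfg
  set m := IsLocalRing.maximalIdeal A
  set I := m.comap f.toRingHom with hI
  have hX : ∀ i, π (MvPowerSeries.X i) ∈ m := fun i => by
    have hnu : ¬ IsUnit (π (MvPowerSeries.X i)) := by
      intro h
      obtain ⟨b, hb⟩ := h.exists_right_inv
      obtain ⟨b, rfl⟩ := hπ b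
      have hu : IsUnit (1 - MvPowerSeries.X i * b) := MvPowerSeries.isUnit_iff_constantCoeff.mpr (by simp)
      have := hu.map π
      rw [map_sub, map_one, map_mul, hb, sub_self] at this
      exact not_isUnit_zero this
    exact (IsLocalRing.mem_maximalIdeal _).mpr hnu
  choose e he using fun i => hf (π (MvPowerSeries.X i))
  let P := MvPolynomial σ R
  let J : Ideal P := MvPolynomial.idealOfVars σ R
  have hJ : J = Ideal.span (Set.range MvPolynomial.X) := rfl
  have hJfg : J.FG := Submodule.fg_span (Set.finite_range _)
  let g : P →ₐ[R] E := MvPolynomial.aeval e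
  have hg : J.map g ≤ I := by
    rw [hJ, Ideal.map_span, Ideal.span_le]
    rintro _ ⟨_, ⟨i, rfl⟩, rfl⟩
    show f (g (MvPolynomial.X i)) ∈ m
    rw [MvPolynomial.aeval_X, he]
    exact hX i
  obtain ⟨F, hF⟩ := Groth.Agent.Adic7.exists_lift_completion J I g hg
  let ε : MvPowerSeries σ R ≃ₐ[R] AdicCompletion J P := (MvPowerSeries.toAdicCompletionAlgEquiv σ R).restrictScalars R
  have hε : ∀ p : P, ε (p : MvPowerSeries σ R) = algebraMap P (AdicCompletion J P) p := fun p =>
    MvPowerSeries.toAdicCompletion_coe p
  refine ⟨F.comp ε.toAlgHom, ?_⟩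
  have key : f.comp F = π.comp ε.symm.toAlgHom := by
    have hfg : ∀ p : P, f (g p) = π (p : MvPowerSeries σ R) := fun p => by
      refine AlgHom.congr_fun (MvPolynomial.algHom_ext (f := f.comp g)
        (g := π.comp (MvPolynomial.coeToMvPowerSeries.algHom R)) fun i => ?_) p
      simp [g, he, MvPolynomial.coeToMvPowerSeries.algHom_apply]
    have hsymm : ∀ p : P, ε.symm (algebraMap P (AdicCompletion J P) p) = (p : MvPowerSeries σ R) := fun p => by
      rw [← hε, AlgEquiv.symm_apply_apply]
    have hgen : ∀ i, π (MvPolynomial.X i : P) ∈ m := fun i => by rw [MvPolynomial.coe_X]; exact hX i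
    refine Groth.Agent.Adic7.algHom_ext_completion J hJfg m _ _ ?_ ?_ fun p => ?_
    · rw [Ideal.map_le_iff_le_comap, Ideal.map_le_iff_le_comap]
      refine hJ.le.trans (Ideal.span_le.mpr ?_)
      rintro _ ⟨i, rfl⟩
      show f (F _) ∈ m
      rw [hF, hfg]
      exact hgen i
    · rw [Ideal.map_le_iff_le_comap, Ideal.map_le_iff_le_comap]
      refine hJ.le.trans (Ideal.span_le.mpr ?_)
      rintro _ ⟨i, rfl⟩
      show π (ε.symm _) ∈ m
      rw [hsymm]
      exact hgen i
    · show f (F _) = π (ε.symm _)
      rw [hF, hfg, hsymm]
  refine AlgHom.ext fun x => ?_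
  have := AlgHom.congr_fun key (ε x)
  simpa using this

end Groth.Agent.S16982
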