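import Groth.Statements.S17018
import Groth.Agent.ModX56.Fibre
-- import your own Groth.Agent.* helpers here

set_option autoImplicit false
universe u
open CategoryTheory CategoryTheory.Limits AlgebraicGeometry
open scoped TensorProduct
open Models

namespace Groth.Agent.S17018

/-- Let R be a discrete valuation ring with algebraically closed residue field and f : X → Spec R a
proper flat morphism whose generic fibre (base change to the fraction field of R) is smooth of
relative dimension 1 and connected and whose special fibre (base change to the residue field) is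
connected and reduced; let ξ be the generic point of an irreducible component of the special fibre
and B a discrete valuation ring given with an isomorphism from the local ring of X at ξ under which
R → B is the map induced by f. Then the maximal ideal of B is the extension of the maximal ideal of
R: a uniformizer of R maps to a uniformizer of B. (The published setting takes everything
essentially of finite type over a field of characteristic zero; the printed argument does not use
this and it is not imposed here.) -/
theorem result
    (R : Type u) [CommRing R] [IsDomain R] [IsDiscreteValuationRing R]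
    [IsAlgClosed (IsLocalRing.ResidueField R)]
    (X : Scheme.{u}) (f : X ⟶ Spec (CommRingCat.of R)) [IsProper f] [Flat f]
    (XK : Scheme.{u}) (gK : XK ⟶ X) (fK : XK ⟶ Spec (CommRingCat.of (FractionRing R)))
    (hK : IsPullback gK fK f (Spec.map (CommRingCat.ofHom (algebraMap R (FractionRing R)))))
    [SmoothOfRelativeDimension 1 fK] [ConnectedSpace XK]
    (Xs : Scheme.{u}) (gs : Xs ⟶ X) (fs : Xs ⟶ Spec (CommRingCat.of (IsLocalRing.ResidueField R)))
    (hs : IsPullback gs fs f (Spec.map (CommRingCat.ofHom (IsLocalRing.residue R))))
    [ConnectedSpace Xs] [IsReduced Xs]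
    (ξ : Xs) (hξ : closure ({ξ} : Set Xs) ∈ irreducibleComponents Xs)
    (B : Type u) [CommRing B] [IsDomain B] [IsDiscreteValuationRing B] [Algebra R B]
    (e : X.presheaf.stalk (gs.base ξ) ≅ CommRingCat.of B)
    (he : e.hom.hom.comp ((X.presheaf.germ ⊤ (gs.base ξ) trivial).hom.comp (Coh.toGlobal f)) =
      algebraMap R B) :
    IsLocalRing.maximalIdeal B = Ideal.map (algebraMap R B) (IsLocalRing.maximalIdeal R) := by
  haveI : Subsingleton (PrimeSpectrum (Xs.presheaf.stalk ξ)) := by
    have hone : ∀ q : PrimeSpectrum (Xs.presheaf.stalk ξ), Xs.fromSpecStalk ξ q = ξ := fun q => by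
      have hq : Xs.fromSpecStalk ξ q ⤳ ξ := by
        have : Xs.fromSpecStalk ξ q ∈ Set.range (Xs.fromSpecStalk ξ) := ⟨q, rfl⟩
        rwa [Scheme.range_fromSpecStalk] at this
      have h1 : closure ({ξ} : Set Xs) = closure {Xs.fromSpecStalk ξ q} :=
        (hq.closure_subset).antisymm (hξ.2 isIrreducible_singleton.closure hq.closure_subset)
      exact (inseparable_iff_closure_eq.2 h1.symm).eq
    exact ⟨fun a b => (Xs.fromSpecStalk ξ).isEmbedding.injective ((hone a).trans (hone b).symm)⟩
  have hfield : IsLocalRing.maximalIdeal (Xs.presheaf.stalk ξ) = ⊥ := by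
    rw [← le_bot_iff]
    intro a ha
    refine Submodule.mem_bot _ |>.2 (IsNilpotent.eq_zero ?_)
    rw [← mem_nilradical, nilradical_eq_sInf, Ideal.mem_sInf]
    intro q hq
    have : (⟨q, hq⟩ : PrimeSpectrum (Xs.presheaf.stalk ξ)) = IsLocalRing.closedPoint _ := Subsingleton.elim _ _
    exact (congrArg PrimeSpectrum.asIdeal this).ge ha
  haveI : IsClosedImmersion gs :=
    Groth.Agent.ModX56.isClosedImmersion_closedFibre f IsLocalRing.residue_surjective hs
  have hsurj := Groth.Agent.ModX56.surjective_stalkMap_closedFibre f IsLocalRing.residue_surjective hs ξ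
  have hker := Groth.Agent.ModX56.ker_stalkMap_closedFibre f IsLocalRing.residue_surjective hs ξ
  have hmax : IsLocalRing.maximalIdeal (X.presheaf.stalk (gs.base ξ)) =
      Ideal.map (Groth.Agent.ModX56.strHom f (gs.base ξ)) (IsLocalRing.maximalIdeal R) := by
    rw [← hker]
    refine le_antisymm (fun a ha => RingHom.mem_ker.2 ?_) (IsLocalRing.le_maximalIdeal (RingHom.ker_ne_top _))
    have : (gs.stalkMap ξ).hom a ∈ IsLocalRing.maximalIdeal (Xs.presheaf.stalk ξ) :=
      fun hu => ha (isUnit_of_map_unit _ a hu)
    rwa [hfield, Submodule.mem_bot] at this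
  let E := e.commRingCatIsoToRingEquiv
  have h2 : (IsLocalRing.maximalIdeal (X.presheaf.stalk (gs.base ξ))).map E.toRingHom = IsLocalRing.maximalIdeal B := by
    refine IsLocalRing.eq_maximalIdeal ?_
    exact Ideal.map_isMaximal_of_equiv E
  rw [← h2, hmax, Ideal.map_map, ← he]
  rfl

end Groth.Agent.S17018
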