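import Groth.Statements.S17021
import Groth.Agent.PicfLib.FlatExt
import Groth.Agent.FlatLoc6.SerreNormal
import Groth.Agent.Synt29.SmoothProps

set_option autoImplicit false
universe u
open CategoryTheory CategoryTheory.Limits AlgebraicGeometry
open PicF

namespace Groth.Agent.S17021

/-- Let X be a locally Noetherian scheme all of whose local rings satisfy Serre's condition (S₂), p a
closed point of X whose local ring has Krull dimension 2, U the open complement of p and L an
invertible O_U-module. Suppose L extends to an invertible module over an étale neighbourhood of p: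
there are an étale morphism j : V → X, a point q of V with j(q) = p and an invertible O_V-module M
whose pullback to j⁻¹(U) is isomorphic to the pullback of L along j⁻¹(U) → U. Then L extends to X:
some invertible O_X-module has pullback to U isomorphic to L. (Stated for schemes; the published
statement is for a Deligne–Mumford stack of dimension 2 satisfying (S₂) and its proof passes to a
scheme on an étale chart. Dimension 2 is imposed here on the local ring at p. The published setting
takes everything essentially of finite type over a field of characteristic zero; here X is only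
assumed locally Noetherian.) -/
theorem result {X : Scheme.{u}} [IsLocallyNoetherian X]
    (hS2 : ∀ x : X, LocCoh.HasSk 2 (X.presheaf.stalk x) (X.presheaf.stalk x))
    (p : X) (hp : IsClosed ({p} : Set X)) (hdim : ringKrullDim (X.presheaf.stalk p) = 2)
    (U : X.Opens) (hU : (U : Set X) = {p}ᶜ)
    (L : (U : Scheme.{u}).Modules) (hL : PicF.IsInvertible L)
    {V : Scheme.{u}} (j : V ⟶ X) [Etale j] (q : V) (hq : j.base q = p)
    (M : V.Modules) (hM : PicF.IsInvertible M)
    (e : (Scheme.Modules.pullback (j ⁻¹ᵁ U).ι).obj M ≅ (Scheme.Modules.pullback (j ∣_ U)).obj L) :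
    ∃ N : X.Modules, PicF.IsInvertible N ∧ Nonempty ((Scheme.Modules.pullback U.ι).obj N ≅ L) := by
  have hmem : ∀ x : X, x ∉ U → x = p := fun x hx => by
    by_contra hne
    exact hx (show x ∈ (U : Set X) by rw [hU]; exact hne)
  haveI : IsLocallyNoetherian V := LocallyOfFiniteType.isLocallyNoetherian j
  refine Groth.Agent.PicfLib.FlatExt.exists_extension j U (fun x hx => ?_)
    (fun x hx => ⟨q, hq.trans (hmem x hx).symm⟩) L hL M hM e
  obtain rfl := hmem x hx
  let R := X.presheaf.stalk x
  let m := IsLocalRing.maximalIdeal R
  have h1 := (Groth.Agent.FlatLoc6.hasSk_self_iff 2).1 (hS2 x) m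
  rw [← Groth.Agent.Synt29.SmoothProps.depth_congr_ring
    (IsLocalization.atUnits R m.primeCompl (S := Localization.AtPrime m)
      (fun y hy => IsLocalRing.notMem_maximalIdeal.1 hy)).toRingEquiv] at h1
  have h2 : m.height = 2 := by
    have := (IsLocalRing.maximalIdeal_height_eq_ringKrullDim (R := R)).trans hdim
    exact WithBot.coe_inj.1 (this.trans (rfl : (2 : WithBot ℕ∞) = ((2 : ℕ∞) : WithBot ℕ∞)))
  rw [h2] at h1
  simpa using h1

end Groth.Agent.S17021
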