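import Groth.Statements.S17023
import Groth.Agent.GrSm.EtaleSection

set_option linter.style.haveILetI false
set_option backward.isDefEq.respectTransparency false
set_option backward.isDefEq.respectTransparency.types false
-- import your own Groth.Agent.* helpers here

set_option autoImplicit false
universe u
open FlatMor

namespace Groth.Agent.S17023
open scoped TensorProduct
open IsLocalRing

theorem etale_quot {B P T : Type u} [CommRing B] [CommRing P] [CommRing T] [Algebra B P] [Algebra P T]
    [Algebra B T] [IsScalarTower B P T] [Algebra.FormallyEtale P T] (I : Ideal P)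
    (e : B ≃ₐ[B] P ⧸ I) : Algebra.FormallyEtale B (T ⧸ I.map (algebraMap P T)) := by
  haveI : Algebra.FormallyEtale B (P ⧸ I) := Algebra.FormallyEtale.of_equiv e
  haveI : Algebra.FormallyEtale B ((P ⧸ I) ⊗[P] T) := Algebra.FormallyEtale.comp B (P ⧸ I) _
  let ψ : T ⊗[P] (P ⧸ I) ≃ₐ[P] T ⧸ I.map (algebraMap P T) :=
    (Algebra.TensorProduct.quotIdealMapEquivTensorQuot T I).symm.restrictScalars P
  exact Algebra.FormallyEtale.of_equiv
    (((Algebra.TensorProduct.comm P (P ⧸ I) T).trans ψ).restrictScalars B)

set_option maxHeartbeats 1000000 in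
theorem exists_section {B T : Type u} [CommRing B] [IsDomain B] [IsDiscreteValuationRing B] [CommRing T]
    [IsLocalRing T] [IsNoetherianRing T] [Algebra B T] [IsLocalHom (algebraMap B T)]
    [Algebra.FormallySmooth B T] [Algebra.EssFiniteType B T]
    (hres : Function.Surjective ((residue T).comp (algebraMap B T))) :
    ∃ J : Ideal T, J ≤ maximalIdeal T ∧ IsDomain (T ⧸ J) ∧ (∀ _ : IsDomain (T ⧸ J), IsDiscreteValuationRing (T ⧸ J)) ∧
      Function.Injective (algebraMap B (T ⧸ J)) ∧
      (maximalIdeal B).map (algebraMap B (T ⧸ J)) = (maximalIdeal T).map (Ideal.Quotient.mk J) := by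
  classical
  let κ := ResidueField T
  let w : T → κ ⊗[T] Ω[T⁄B] := fun a => 1 ⊗ₜ KaehlerDifferential.D B T a
  have hw : ⊤ ≤ Submodule.span κ (w '' (maximalIdeal T : Set T)) := by
    intro x hx0
    clear hx0
    induction x using TensorProduct.induction_on with
    | zero => exact zero_mem _
    | add x y hx hy => exact add_mem hx hy
    | tmul c m =>
      have hm : m ∈ Submodule.span T (Set.range (KaehlerDifferential.D B T)) := by
        rw [KaehlerDifferential.span_range_derivation]; trivial
      rw [show c ⊗ₜ[T] m = c • ((1 : κ) ⊗ₜ[T] m) by rw [TensorProduct.smul_tmul', smul_eq_mul, mul_one]]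
      refine Submodule.smul_mem _ c ?_
      induction hm using Submodule.span_induction with
      | mem _ hm =>
        obtain ⟨a, rfl⟩ := hm
        obtain ⟨β, hβ⟩ := hres (residue T a)
        have hd : KaehlerDifferential.D B T (a - algebraMap B T β) = KaehlerDifferential.D B T a := by
          rw [map_sub, Derivation.map_algebraMap, sub_zero]
        rw [← hd]
        exact Submodule.subset_span ⟨_, Ideal.Quotient.eq.1 hβ.symm, rfl⟩
      | zero => rw [TensorProduct.tmul_zero]; exact zero_mem _
      | add _ _ _ _ h1 h2 => rw [TensorProduct.tmul_add]; exact add_mem h1 h2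
      | smul t m _ h1 =>
        rw [← TensorProduct.smul_tmul, show t • (1 : κ) = (algebraMap T κ t) • (1 : κ) by
          rw [Algebra.smul_def, smul_eq_mul], ← TensorProduct.smul_tmul']
        exact Submodule.smul_mem _ _ h1
  have hli : LinearIndepOn κ id (∅ : Set (κ ⊗[T] Ω[T⁄B])) := linearIndependent_empty_type
  let bk := Module.Basis.extendLe hli (Set.empty_subset _) hw
  let ι := hli.extend (Set.empty_subset (w '' (maximalIdeal T : Set T)))
  have hsec : ∀ i : ι, ∃ a ∈ maximalIdeal T, w a = i.1 := fun i => hli.extend_subset _ i.2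
  choose b hbm hb using hsec
  haveI : Finite ι := Module.Finite.finite_basis bk
  have hbk : (TensorProduct.mk T κ Ω[T⁄B] 1 ∘ fun i => KaehlerDifferential.D B T (b i)) = bk := by
    funext i
    simpa [bk, w] using hb i
  haveI : Module.FinitePresentation T Ω[T⁄B] := inferInstance
  obtain ⟨bT, hbT⟩ := Module.exists_basis_of_basis_baseChange
    (fun i => KaehlerDifferential.D B T (b i))
    (by rw [hbk]; exact bk.linearIndependent) (by rw [hbk]; exact bk.span_eq)
    (Module.Flat.rTensor_preserves_injective_linearMap _ Subtype.val_injective)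
  letI := (MvPolynomial.aeval (R := B) b).toRingHom.toAlgebra
  haveI : IsScalarTower B (MvPolynomial ι B) T :=
    IsScalarTower.of_algebraMap_eq fun r => ((MvPolynomial.aeval (R := B) b).commutes r).symm
  haveI : Algebra.FormallyEtale (MvPolynomial ι B) T := by
    refine GrSm.formallyEtale_of_basis (KaehlerDifferential.mvPolynomialBasis B ι) bT fun i => ?_
    rw [KaehlerDifferential.mvPolynomialBasis_apply, KaehlerDifferential.map_D, hbT]
    congr 1
    exact MvPolynomial.aeval_X b i
  let ε : MvPolynomial ι B →ₐ[B] B := MvPolynomial.aeval fun _ => 0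
  let I : Ideal (MvPolynomial ι B) := RingHom.ker ε
  have hε : Function.Surjective ε := fun r => ⟨MvPolynomial.C r, MvPolynomial.aeval_C _ r⟩
  let J : Ideal T := I.map (algebraMap (MvPolynomial ι B) T)
  have hJm : J ≤ maximalIdeal T := by
    have hcomp : ((residue T).comp (algebraMap (MvPolynomial ι B) T)) =
        ((residue T).comp (algebraMap B T)).comp ε.toRingHom := by
      refine MvPolynomial.ringHom_ext (fun r => ?_) fun i => ?_
      · show residue T (MvPolynomial.aeval b (MvPolynomial.C r)) = residue T (algebraMap B T (ε (MvPolynomial.C r)))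
        rw [MvPolynomial.aeval_C, show ε (MvPolynomial.C r) = r from MvPolynomial.aeval_C _ r]
      · show residue T (MvPolynomial.aeval b (MvPolynomial.X i)) = residue T (algebraMap B T (ε (MvPolynomial.X i)))
        rw [MvPolynomial.aeval_X, show ε (MvPolynomial.X i) = 0 from MvPolynomial.aeval_X _ i, map_zero, map_zero]
        exact (residue_eq_zero_iff _).2 (hbm i)
    refine Ideal.map_le_iff_le_comap.2 fun z hz => ?_
    have := RingHom.congr_fun hcomp z
    rw [RingHom.comp_apply, RingHom.comp_apply, show ε.toRingHom z = 0 from hz, map_zero] at this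
    exact (residue_eq_zero_iff _).1 this
  haveI : Algebra.FormallyEtale B (T ⧸ J) :=
    etale_quot I (Ideal.quotientKerAlgEquivOfSurjective hε).symm
  haveI : Nontrivial (T ⧸ J) := Ideal.Quotient.nontrivial_iff.2 fun h => (maximalIdeal.isMaximal T).ne_top (top_le_iff.1 (h ▸ hJm))
  haveI : IsLocalRing (T ⧸ J) := IsLocalRing.of_surjective' _ Ideal.Quotient.mk_surjective
  haveI : IsLocalHom (Ideal.Quotient.mk J) := .of_surjective _ Ideal.Quotient.mk_surjective
  haveI : IsLocalHom (algebraMap B (T ⧸ J)) := by
    rw [IsScalarTower.algebraMap_eq B T (T ⧸ J)]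
    exact RingHom.isLocalHom_comp _ _
  haveI : Algebra.EssFiniteType B (T ⧸ J) := Algebra.EssFiniteType.comp B T _
  have hmax : (maximalIdeal B).map (algebraMap B (T ⧸ J)) = maximalIdeal (T ⧸ J) :=
    Algebra.FormallyUnramified.map_maximalIdeal
  have hmm : (maximalIdeal T).map (Ideal.Quotient.mk J) = maximalIdeal (T ⧸ J) := by
    refine le_antisymm (Ideal.map_le_iff_le_comap.2 fun z hz => mt (isUnit_of_map_unit _ z) hz) ?_
    intro z hz
    obtain ⟨z, rfl⟩ := Ideal.Quotient.mk_surjective z
    exact Ideal.mem_map_of_mem _ (fun hu => hz (hu.map _))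
  obtain ⟨ϖ, hϖ⟩ := IsDiscreteValuationRing.exists_irreducible B
  have hϖm : maximalIdeal B = Ideal.span {ϖ} := hϖ.maximalIdeal_eq
  -- lifts to the truncations of `B`
  have hlift : ∀ n : ℕ, ∀ r : B, algebraMap B (T ⧸ J) r = 0 → r ∈ maximalIdeal B ^ (n + 1) := by
    intro n r hr
    let Q := B ⧸ maximalIdeal B ^ (n + 1)
    let e := RingEquiv.ofBijective (ResidueField.map (algebraMap B T)) ⟨RingHom.injective _,
        (show Function.Surjective (ResidueField.map (algebraMap B T)) from fun z => by
          obtain ⟨β, hβ⟩ := hres z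
          exact ⟨residue B β, hβ⟩)⟩
    let g₀ : (T ⧸ J) →+* ResidueField B := e.symm.toRingHom.comp (Ideal.Quotient.factor hJm)
    have hg₀ : ∀ r, g₀ (algebraMap B (T ⧸ J) r) = residue B r := fun r => by
      apply RingHom.injective (ResidueField.map (algebraMap B T))
      exact e.apply_symm_apply _
    let φ : Q →ₐ[B] ResidueField B := Ideal.Quotient.factorₐ B (Ideal.pow_le_self (by omega))
    let g : (T ⧸ J) →ₐ[B] ResidueField B := { g₀ with commutes' := hg₀ }
    have hφ : Function.Surjective φ := Ideal.Quotient.factor_surjective (Ideal.pow_le_self (by omega))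
    have hnil : IsNilpotent (RingHom.ker φ.toRingHom) := by
      refine ⟨n + 1, ?_⟩
      have hk : RingHom.ker φ.toRingHom ≤ (maximalIdeal B).map (Ideal.Quotient.mk (maximalIdeal B ^ (n + 1))) := by
        intro z hz
        obtain ⟨z, rfl⟩ := Ideal.Quotient.mk_surjective z
        exact Ideal.mem_map_of_mem _ (Ideal.Quotient.eq_zero_iff_mem.1 hz)
      refine le_bot_iff.1 ((Ideal.pow_right_mono hk _).trans ?_)
      rw [← Ideal.map_pow, Ideal.map_quotient_self]
    let l := Algebra.FormallySmooth.liftOfSurjective g φ hφ hnil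
    rw [← Ideal.Quotient.eq_zero_iff_mem]
    rw [← Ideal.Quotient.algebraMap_eq, ← l.commutes r, hr, map_zero]
  have hinj : Function.Injective (algebraMap B (T ⧸ J)) := by
    rw [injective_iff_map_eq_zero]
    intro r hr
    have h1 : r ∈ ⨅ n : ℕ, maximalIdeal B ^ n := Ideal.mem_iInf.2 fun n => by
      cases n with
      | zero => simp
      | succ n => exact hlift n r hr
    rwa [Ideal.iInf_pow_eq_bot_of_isLocalRing _ (maximalIdeal.isMaximal B).ne_top, Ideal.mem_bot] at h1
  have hnil : ¬ IsNilpotent (algebraMap B (T ⧸ J) ϖ) := by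
    rintro ⟨m, hm⟩
    rw [← map_pow, map_eq_zero_iff _ hinj] at hm
    exact pow_ne_zero m hϖ.ne_zero hm
  have hspan : maximalIdeal (T ⧸ J) = Ideal.span {algebraMap B (T ⧸ J) ϖ} := by
    rw [← hmax, hϖm, Ideal.map_span, Set.image_singleton]
  have hform : ∀ z : T ⧸ J, z ≠ 0 → ∃ (m : ℕ) (u : (T ⧸ J)ˣ), z = algebraMap B (T ⧸ J) ϖ ^ m * u := by
    intro z hz
    have hex : ∃ m, z ∉ maximalIdeal (T ⧸ J) ^ m := by
      by_contra! hall
      have h1 : z ∈ ⨅ m : ℕ, maximalIdeal (T ⧸ J) ^ m := Ideal.mem_iInf.2 hall
      rw [Ideal.iInf_pow_eq_bot_of_isLocalRing _ (maximalIdeal.isMaximal (T ⧸ J)).ne_top, Ideal.mem_bot] at h1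
      exact hz h1
    have hfind := Nat.find_spec hex
    obtain ⟨m, hm⟩ : ∃ m, Nat.find hex = m + 1 := Nat.exists_eq_add_one.2 (by
      by_contra h0
      rw [show Nat.find hex = 0 by omega, pow_zero, Ideal.one_eq_top] at hfind
      exact hfind trivial)
    have hm0 : z ∈ maximalIdeal (T ⧸ J) ^ m := by
      by_contra h
      exact absurd (Nat.find_le h : Nat.find hex ≤ m) (by omega)
    rw [hm] at hfind
    rw [hspan, Ideal.span_singleton_pow, Ideal.mem_span_singleton'] at hm0
    obtain ⟨u, rfl⟩ := hm0
    have hu : IsUnit u := by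
      by_contra hu
      refine hfind ?_
      rw [pow_succ']
      exact Ideal.mul_mem_mul hu (by rw [hspan, Ideal.span_singleton_pow]; exact Ideal.mem_span_singleton_self _)
    exact ⟨m, hu.unit, mul_comm _ _⟩
  have hdom : IsDomain (T ⧸ J) := by
    haveI : NoZeroDivisors (T ⧸ J) := ⟨fun {a c} hac => by
      by_contra! hne
      obtain ⟨i, u, rfl⟩ := hform a hne.1
      obtain ⟨j, v, rfl⟩ := hform c hne.2
      refine hnil ⟨i + j, ?_⟩
      have : algebraMap B (T ⧸ J) ϖ ^ (i + j) * ((u * v : (T ⧸ J)ˣ) : T ⧸ J) = 0 := by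
        rw [← hac, Units.val_mul, pow_add]; ring
      exact (Units.mul_left_eq_zero _).1 this⟩
    exact NoZeroDivisors.to_isDomain _
  refine ⟨J, hJm, hdom, ?_, hinj, hmax.trans hmm.symm⟩
  intro
  have hnf : ¬ IsField (T ⧸ J) := fun hF => by
    have h0 := isField_iff_maximalIdeal_eq.1 hF
    rw [hspan, Ideal.span_singleton_eq_bot, map_eq_zero_iff _ hinj] at h0
    exact hϖ.ne_zero h0
  exact ((IsDiscreteValuationRing.TFAE (T ⧸ J) hnf).out 4 0 :
    (maximalIdeal (T ⧸ J)).IsPrincipal ↔ IsDiscreteValuationRing (T ⧸ J)).1 ⟨⟨_, hspan⟩⟩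

/-- Let B be a discrete valuation ring, A a B-algebra of finite type and p a prime ideal of A which lies
over the maximal ideal of B (a point of the special fibre), at which A is smooth over B (the
localization A_p is formally smooth over B), and such that B maps onto the residue field κ(p). Then
there are a discrete valuation ring B' and a ring map ψ : A → B' pulling the maximal ideal of B'
back to p, such that the composite B → A → B' is injective, the maximal ideal of B generates the
maximal ideal of B', and B maps onto the residue field of B'; in other words Spec B' → Spec A → Spec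
B is surjective and unramified with trivial residue field extension. (The published statement does
not say that the closed point of Spec B' goes to p; it is required here. The published setting takes
A essentially of finite type over a field of characteristic zero; here A is taken of finite type
over B, with no ground field.) -/
theorem result
    (B : Type u) [CommRing B] [IsDomain B] [IsDiscreteValuationRing B]
    (A : Type u) [CommRing A] [Algebra B A] [Algebra.FiniteType B A]
    (p : Ideal A) [p.IsPrime] (hp : p.comap (algebraMap B A) = IsLocalRing.maximalIdeal B)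
    [Algebra.IsSmoothAt B p]
    (hres : Function.Surjective ((algebraMap A p.ResidueField).comp (algebraMap B A))) :
    ∃ (B' : Type u) (_ : CommRing B') (_ : IsDomain B') (_ : IsDiscreteValuationRing B') (ψ : A →+* B'),
      Ideal.comap ψ (IsLocalRing.maximalIdeal B') = p ∧
      Function.Injective (ψ.comp (algebraMap B A)) ∧
      Ideal.map (ψ.comp (algebraMap B A)) (IsLocalRing.maximalIdeal B) = IsLocalRing.maximalIdeal B' ∧
      Function.Surjective ((IsLocalRing.residue B').comp (ψ.comp (algebraMap B A))) := by
  let T := Localization.AtPrime p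
  haveI : IsLocalHom (algebraMap B T) := ⟨fun r hr => by
    by_contra h
    rw [IsScalarTower.algebraMap_apply B A T, IsLocalization.AtPrime.isUnit_to_map_iff T p] at hr
    exact hr (hp.ge h : r ∈ p.comap (algebraMap B A))⟩
  haveI : IsNoetherianRing A := Algebra.FiniteType.isNoetherianRing B A
  haveI : IsNoetherianRing T := IsLocalization.isNoetherianRing p.primeCompl T inferInstance
  haveI : Algebra.EssFiniteType A T := Algebra.EssFiniteType.of_isLocalization _ p.primeCompl
  haveI : Algebra.EssFiniteType B T := Algebra.EssFiniteType.comp B A T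
  have hres' : Function.Surjective ((IsLocalRing.residue T).comp (algebraMap B T)) := by
    intro z
    obtain ⟨β, hβ⟩ := hres z
    exact ⟨β, hβ⟩
  obtain ⟨J, hJ, hdom, hdvr, hinj, hmax⟩ := exists_section hres'
  haveI := hdom
  haveI := hdvr hdom
  haveI : IsLocalHom (Ideal.Quotient.mk J) := .of_surjective _ Ideal.Quotient.mk_surjective
  have hmm : (IsLocalRing.maximalIdeal T).map (Ideal.Quotient.mk J) = IsLocalRing.maximalIdeal (T ⧸ J) := by
    refine le_antisymm (Ideal.map_le_iff_le_comap.2 fun z hz => mt (isUnit_of_map_unit _ z) hz) ?_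
    intro z hz
    obtain ⟨z, rfl⟩ := Ideal.Quotient.mk_surjective z
    exact Ideal.mem_map_of_mem _ (fun hu => hz (hu.map _))
  have hcomp : ((Ideal.Quotient.mk J).comp (algebraMap A T)).comp (algebraMap B A) = algebraMap B (T ⧸ J) := by
    ext r; rfl
  refine ⟨T ⧸ J, inferInstance, hdom, inferInstance, (Ideal.Quotient.mk J).comp (algebraMap A T), ?_, ?_, ?_, ?_⟩
  · rw [← Ideal.comap_comap, ← hmm, Ideal.comap_map_of_surjective' _ Ideal.Quotient.mk_surjective,
      Ideal.mk_ker, sup_eq_left.2 hJ]
    exact IsLocalization.AtPrime.under_maximalIdeal T p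
  · rw [hcomp]; exact hinj
  · rw [hcomp, hmax, hmm]
  · intro z
    obtain ⟨z, rfl⟩ := IsLocalRing.residue_surjective z
    obtain ⟨t, rfl⟩ := Ideal.Quotient.mk_surjective z
    obtain ⟨β, hβ⟩ := hres' (IsLocalRing.residue T t)
    refine ⟨β, ?_⟩
    rw [RingHom.comp_apply, hcomp]
    refine Ideal.Quotient.eq.2 ?_
    show Ideal.Quotient.mk J (algebraMap B T β) - Ideal.Quotient.mk J t ∈ _
    rw [← map_sub, ← hmm]
    exact Ideal.mem_map_of_mem _ (Ideal.Quotient.eq.1 hβ)

end Groth.Agent.S17023
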