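import Groth.Statements.S17026
import Groth.Agent.FormalSch78.IndCoh

set_option autoImplicit false
open CategoryTheory CategoryTheory.Limits
universe u
open FSch

namespace Groth.Agent.S17026

/-- On a locally Noetherian formal scheme 𝔛 (an adic system of thickenings with locally Noetherian
levels), the class of O_𝔛-modules that are small filtered colimits of coherent O_𝔛-modules is closed
under arbitrary small colimits computed in the category of all O_𝔛-modules. -/
theorem result (𝔛 : FSch.Sys.{u}) (h𝔛 : 𝔛.IsLocNoethFormal)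
    (J : Type u) [SmallCategory J] :
    (ObjectProperty.ind.{u} fun 𝔊 : FSch.ModF 𝔛 h𝔛.1 => FSch.IsCohF 𝔛 h𝔛.1 𝔊).IsClosedUnderColimitsOfShape J := by
  obtain ⟨hF, hA, hN⟩ := h𝔛
  refine ⟨fun 𝔉 ⟨pres⟩ => (FormalSch78.indCohF_iff hF hA hN).2 ⟨?_, ?_⟩⟩
  · exact FormalSch78.IsAssAll.of_isColimit hF hA hN pres.isColimit fun j =>
      ((FormalSch78.indCohF_iff hF hA hN).1 (pres.prop_diag_obj j)).1
  · exact FormalSch78.IsCohCovered.of_isColimit hF hA hN pres.isColimit fun j =>
      ((FormalSch78.indCohF_iff hF hA hN).1 (pres.prop_diag_obj j)).2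

end Groth.Agent.S17026
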