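import Groth.Statements.S17036
import Groth.Agent.FormalSch78.IndExt
import Groth.Agent.FormalSch78.PushVanish

set_option autoImplicit false
open CategoryTheory CategoryTheory.Limits
universe u
open FSch AlgebraicGeometry

namespace Groth.Agent.S17036

/-- Let g : 𝔛 ⟶ 𝔜 be a morphism of locally Noetherian formal schemes (adic systems of thickenings with
locally Noetherian levels) whose morphism of smallest levels is an affine morphism of schemes. Then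
for every O_𝔛-module M that is a small filtered colimit of coherent O_𝔛-modules, the higher direct
images R^i g_* M vanish for all i > 0. -/
theorem result (𝔛 𝔜 : FSch.Sys.{u}) (h𝔛 : 𝔛.IsLocNoethFormal) (h𝔜 : 𝔜.IsLocNoethFormal)
    (g : 𝔛 ⟶ 𝔜) [AlgebraicGeometry.IsAffineHom ((g : FSch.Hom 𝔛 𝔜).app 0)]
    [HasInjectiveResolutions (FSch.ModF 𝔛 h𝔛.1)]
    (𝔐 : FSch.ModF 𝔛 h𝔛.1) (h𝔐 : (ObjectProperty.ind.{u} fun 𝔊 : FSch.ModF 𝔛 h𝔛.1 => FSch.IsCohF 𝔛 h𝔛.1 𝔊) 𝔐) (i : ℕ) (hi : 0 < i) :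
    IsZero ((FSch.RpushF g h𝔛.1 h𝔜.1 i).obj 𝔐) := by
  obtain ⟨n, rfl⟩ := Nat.exists_eq_succ_of_ne_zero hi.ne'
  refine FormalSch78.isZero_Rpush (FSch.homMor g h𝔛.1 h𝔜.1) (fun W : (𝔜.X 0).Opens => IsAffineOpen W)
    (fun U y hy => ?_) 𝔐 (fun W hW m => ?_) n
  · obtain ⟨W, hW, hyW, hWU⟩ := exists_isAffineOpen_mem_and_subset hy
    exact ⟨W, hWU, hyW, hW⟩
  · have hW' : IsAffineOpen (((g : FSch.Hom 𝔛 𝔜).app 0) ⁻¹ᵁ W) := hW.preimage _
    exact FormalSch78.Ass.HU_subsingleton (FormalSch78.isTBase_formal h𝔛.1 h𝔛.2.1 h𝔛.2.2 hW')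
      (((FormalSch78.indCohF_iff h𝔛.1 h𝔛.2.1 h𝔛.2.2).1 h𝔐).1 _ hW') m

end Groth.Agent.S17036
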