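import Groth.Statements.S17086
import Groth.Agent.DeformNL.PnRing
import Groth.Agent.H23.PnChart
import Groth.Agent.SmoothReg.Scheme
import Groth.Agent.MeroX.EffCartier
import Groth.Agent.PureLib.Supported
import Groth.Agent.S10829

set_option autoImplicit false
universe u
open CategoryTheory CategoryTheory.Limits AlgebraicGeometry
open RatCurve

namespace Groth.Agent.S17086

/-- Let k be an algebraically closed field, X a closed subscheme of P^n_k, Z ⊆ X a closed subscheme and
σ : B → X a blow-up of X along Z (the inverse image ideal of Z is effective Cartier and σ is final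
with this property). Then every k-morphism f : P^1_k → X whose image is not contained in Z lifts
uniquely along σ: there is exactly one morphism g : P^1_k → B with g ≫ σ = f. Equivalently, over the
open locus of morphisms meeting X ∖ Z, the morphism Mor(P^1_k, B) → Mor(P^1_k, X) induced by σ is a
bijection on k-points. -/
theorem result
    {k : Type u} [Field k] [IsAlgClosed k] {n : ℕ} (X : Scheme.{u})
    (c : X ⟶ CohB1.ProjSpace n k) [IsClosedImmersion c]
    (Z : Scheme.{u}) (iZ : Z ⟶ X) [IsClosedImmersion iZ]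
    (B : Scheme.{u}) (σ : B ⟶ X) (hσ : BlowUp.IsBlowUp σ iZ.ker)
    (f : CohB1.ProjSpace 1 k ⟶ X)
    (hf : f ≫ c ≫ CohB1.ProjSpace.toSpec n k = CohB1.ProjSpace.toSpec 1 k)
    (hfZ : ¬ Set.range f ⊆ Set.range iZ) :
    ∃! g : CohB1.ProjSpace 1 k ⟶ B, g ≫ σ = f := by
  letI : (CohB1.ProjSpace 1 k).Over (Spec (CommRingCat.of k)) := ⟨CohB1.ProjSpace.toSpec 1 k⟩
  haveI : IsIntegral (CohB1.ProjSpace 1 k) := Groth.Agent.H23.PnChart.isIntegral_projSpace 1 k
  haveI : IsProper ((CohB1.ProjSpace 1 k) ↘ Spec (CommRingCat.of k)) :=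
    Groth.Agent.PnCoh.Chow.isProper_toSpec 1 k
  haveI : Smooth ((CohB1.ProjSpace 1 k) ↘ Spec (CommRingCat.of k)) :=
    Groth.Agent.DeformNL.PnRing.smooth_toSpec 1 k
  haveI : CompactSpace ↥(CohB1.ProjSpace 1 k) :=
    QuasiCompact.compactSpace_of_compactSpace ((CohB1.ProjSpace 1 k) ↘ Spec (CommRingCat.of k))
  haveI : IsLocallyNoetherian (CohB1.ProjSpace 1 k) :=
    LocallyOfFiniteType.isLocallyNoetherian ((CohB1.ProjSpace 1 k) ↘ Spec (CommRingCat.of k))
  have hP : topologicalKrullDim ↥(CohB1.ProjSpace 1 k) = 1 := by simpa using Groth.Agent.S10829.result k 1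
  set J := iZ.ker.comap f
  have hsup : (J.support : Set ↥(CohB1.ProjSpace 1 k)) = f ⁻¹' Set.range iZ := by
    rw [Scheme.IdealSheafData.support_comap]
    show f ⁻¹' (iZ.ker.support : Set X) = _
    rw [Scheme.Hom.support_ker, iZ.isClosedEmbedding.isClosed_range.closure_eq]
  have hη : genericPoint (CohB1.ProjSpace 1 k) ∉ J.support := fun h => by
    refine hfZ ?_
    rintro _ ⟨y, rfl⟩
    have hy : y ∈ (J.support : Set ↥(CohB1.ProjSpace 1 k)) :=
      ((genericPoint_spec _).specializes (Set.mem_univ y)).mem_closed J.support.isClosed h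
    rwa [hsup] at hy
  refine hσ.2 _ f (Groth.Agent.MeroX.isEffCartier_of_stalk J fun x hx U hxU => ?_)
  have hcl : IsClosed ({x} : Set ↥(CohB1.ProjSpace 1 k)) := by
    by_contra hc
    have e : genericPoint (CohB1.ProjSpace 1 k) = x :=
      Groth.Agent.PureLib.eq_of_specializes (fun W hW => by
        rw [irreducibleComponents_eq_singleton] at hW
        obtain rfl : W = Set.univ := hW
        exact (Homeomorph.Set.univ _).isHomeomorph.topologicalKrullDim_eq.trans hP) hc
        ((genericPoint_spec _).specializes trivial)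
    exact hη (e ▸ hx)
  haveI : IsDiscreteValuationRing ((CohB1.ProjSpace 1 k).presheaf.stalk x) := by
    have hreg : IsRegularLocalRing ((CohB1.ProjSpace 1 k).presheaf.stalk x) :=
      Groth.Agent.SmoothReg.isRegularLocalRing_stalk_of_mem_smoothLocus
        ((CohB1.ProjSpace 1 k) ↘ Spec (CommRingCat.of k)) (by
        rw [(Scheme.Hom.smoothLocus_eq_top_iff (f := (CohB1.ProjSpace 1 k) ↘ Spec (CommRingCat.of k))).2 inferInstance]
        trivial)
    have hd : ringKrullDim ((CohB1.ProjSpace 1 k).presheaf.stalk x) = 1 :=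
      (Groth.Agent.SmoothReg.ringKrullDim_stalk_closedPoint
        ((CohB1.ProjSpace 1 k) ↘ Spec (CommRingCat.of k)) hcl).trans hP
    refine IsLocalRing.finrank_CotangentSpace_eq_one_iff.mp ?_
    rw [IsRegularLocalRing.iff_finrank_cotangentSpace, hd] at hreg
    exact_mod_cast hreg
  obtain ⟨g, hg⟩ := IsPrincipalIdealRing.principal
    ((J.ideal U).map ((CohB1.ProjSpace 1 k).presheaf.germ U x hxU).hom)
  refine ⟨g, mem_nonZeroDivisors_of_ne_zero fun h0 => ?_, hg⟩
  subst h0
  rw [Ideal.submodule_span_eq, Ideal.span_singleton_zero, Ideal.map_eq_bot_iff_le_ker] at hg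
  have hU : genericPoint (CohB1.ProjSpace 1 k) ∈ U.1 :=
    ((genericPoint_spec _).specializes (Set.mem_univ x)).mem_open U.1.2 hxU
  refine hη ((Scheme.IdealSheafData.mem_support_iff_of_mem hU).2 ((Scheme.mem_zeroLocus_iff _ _ _).2 ?_))
  intro a ha hb
  have h0 : a = 0 := germ_injective_of_isIntegral _ x hxU (by
    rw [map_zero]; exact hg ha)
  rw [h0, Scheme.basicOpen_zero] at hb
  exact hb

end Groth.Agent.S17086
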