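import Groth.Statements.S1709
import Groth.Agent.AssPtX.Noeth
-- import your own Groth.Agent.* helpers here

set_option autoImplicit false
set_option backward.isDefEq.respectTransparency false
set_option backward.isDefEq.respectTransparency.types false
universe u
open CategoryTheory CategoryTheory.Limits AlgebraicGeometry TopologicalSpace
open SDiv

namespace Groth.Agent.S1709

/-- Let f : X ⟶ S be an affine morphism with X locally Noetherian and F a quasi-coherent module on X.
Then the following subsets of S coincide: the image of the associated points of F, the associated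
points of f_* F, the weakly associated points of f_* F, and the image of the weakly associated
points of F. -/
theorem result {X S : Scheme.{u}} (f : X ⟶ S) [IsAffineHom f] [IsLocallyNoetherian X] (F : X.Modules)
    (hF : Coh.IsQCoh F) :
    (fun x => f x) '' {x : ↥X | Curv2.IsAssPoint F x} = {s : ↥S | Curv2.IsAssPoint ((Scheme.Modules.pushforward f).obj F) s} ∧
      {s : ↥S | Curv2.IsAssPoint ((Scheme.Modules.pushforward f).obj F) s} =
        {s : ↥S | Curv2.IsWeakAssPoint ((Scheme.Modules.pushforward f).obj F) s} ∧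
      {s : ↥S | Curv2.IsWeakAssPoint ((Scheme.Modules.pushforward f).obj F) s} =
        (fun x => f x) '' {x : ↥X | Curv2.IsWeakAssPoint F x} := by
  have hpush : ∀ s : S, Curv2.IsWeakAssPoint ((Scheme.Modules.pushforward f).obj F) s ↔
      ∃ x : X, f x = s ∧ Curv2.IsWeakAssPoint F x := by
    intro s
    refine ⟨AssPtX.exists_weakAssPoint_of_pushforward f hF s, ?_⟩
    rintro ⟨x, rfl, hx⟩
    obtain ⟨V, hV, hxV, -⟩ := exists_isAffineOpen_mem_and_subset (x := f x) (U := ⊤) trivial
    have hW : IsAffineOpen (f ⁻¹ᵁ V) := hV.preimage f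
    haveI : IsNoetherianRing Γ(X, f ⁻¹ᵁ V) := IsLocallyNoetherian.component_noetherian ⟨_, hW⟩
    obtain ⟨hpr, m, hm⟩ := WeakAss.mem_ass_of_mem_weakAss_of_fg (IsNoetherian.noetherian _)
      ((AssPtX.isWeakAssPoint_iff_sections hF hW (show x ∈ f ⁻¹ᵁ V from hxV)).1 hx)
    let n : Γ((Scheme.Modules.pushforward f).obj F, V) := m
    have hann : WeakAss.annEl Γ(S, V) n = (hV.primeIdealOf ⟨f x, hxV⟩).asIdeal := by
      have h1 := IsAffineOpen.comap_primeIdealOf_appLE V hV (f ⁻¹ᵁ V) hW le_rfl (show x ∈ f ⁻¹ᵁ V from hxV)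
      rw [← h1]
      ext r
      rw [PrimeSpectrum.comap_asIdeal, Ideal.mem_comap, hm, WeakAss.mem_annEl, WeakAss.mem_annEl]
      rw [Scheme.Hom.appLE, show (homOfLE (le_refl (f ⁻¹ᵁ V))).op = 𝟙 _ from rfl, X.presheaf.map_id,
        Category.comp_id]
      exact Iff.rfl
    refine (AssPtX.isWeakAssPoint_iff_sections (QCoh.isQCoh_pushforward f hF) hV hxV).2
      (WeakAss.mem_weakAss_iff.2 ⟨n, ?_⟩)
    rw [hann, Ideal.minimalPrimes_eq_subsingleton_self]
    rfl
  refine ⟨?_, Set.ext fun s => AssPtX.isAssPoint_iff, ?_⟩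
  · ext s
    simp only [Set.mem_image, Set.mem_ofPred_eq, AssPtX.isAssPoint_iff, hpush]
    exact exists_congr fun x => and_comm
  · ext s
    simp only [Set.mem_image, Set.mem_ofPred_eq, hpush]
    exact exists_congr fun x => and_comm

end Groth.Agent.S1709
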