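import Groth.Statements.S17091
import Groth.Agent.AGF27.UniRad
import Groth.Agent.AGF27.Unip.GeomFibre
-- import your own Groth.Agent.* helpers here

set_option autoImplicit false
universe u
open CategoryTheory MonoidalCategory CartesianMonoidalCategory MonObj GrpObj AlgebraicGeometry
open AGF

namespace Groth.Agent.S17091

/-- Let k be an algebraically closed field, G an affine, smooth, connected k-group scheme, u : U ⟶ G its
unipotent radical (the largest normal closed subgroup scheme of G, smooth and quasi-compact over k,
whose geometric fibre is connected and contains no non-trivial subtorus), B a Borel subgroup of G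
and v : V ⟶ B the unipotent radical of B. Then U is contained in V: u factors through v. -/
theorem result (k : Type u) [Field k] [IsAlgClosed k]
    (G : Over (Spec (CommRingCat.of k))) [GrpObj G] [IsAffine G.left] [Smooth G.hom] [ConnectedSpace ↥G.left]
    (U : Over (Spec (CommRingCat.of k))) [GrpObj U] (u : U ⟶ G) (hU : Par.IsUnipotentRadical u)
    (B : Over (Spec (CommRingCat.of k))) [GrpObj B] (iB : B ⟶ G) (hB : Red.IsBorelOver k iB)
    (V : Over (Spec (CommRingCat.of k))) [GrpObj V] (v : V ⟶ B) (hV : Par.IsUnipotentRadical v) :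
    ∃ f : U ⟶ V, f ≫ v ≫ iB = u := by
  obtain ⟨hum, huc, hus, hucon, huno⟩ := Groth.Agent.AGF27.Unip.of_isUnipotentRadical hU
  haveI := hum
  haveI := huc
  haveI := hus
  haveI := hucon
  haveI := hB.1
  haveI := hB.2.1
  obtain ⟨f, hf⟩ := Groth.Agent.AGF27.UniRad.exists_factor_borel u hU.2.2.1 huno iB hB
  haveI : Mono iB := (Over.forget _).mono_of_mono_map (inferInstanceAs (Mono iB.left))
  haveI : IsMonHom f :=
    { one_hom := by
        rw [← cancel_mono iB, Category.assoc, hf, IsMonHom.one_hom u, IsMonHom.one_hom iB]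
      mul_hom := by
        rw [← cancel_mono iB, Category.assoc, hf, IsMonHom.mul_hom u, Category.assoc, IsMonHom.mul_hom iB,
          MonoidalCategory.tensorHom_comp_tensorHom_assoc, hf] }
  haveI : IsClosedImmersion f.left := by
    haveI : IsClosedImmersion (f.left ≫ iB.left) := by rw [← Over.comp_left, hf]; infer_instance
    exact IsClosedImmersion.of_comp f.left iB.left
  have hfn : AlgGrp.IsNormalHom f := fun T g n => by
    obtain ⟨n', hn'⟩ := hU.2.2.1 T (g ≫ iB) n
    refine ⟨n', (cancel_mono iB).mp ?_⟩
    rw [MonObj.mul_comp, MonObj.mul_comp, GrpObj.inv_comp, Category.assoc, Category.assoc, hf]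
    exact hn'
  obtain ⟨-, -, -, -, -, -, hmax⟩ := hV
  obtain ⟨φ, hφ⟩ := hmax U f inferInstance hfn hus hU.2.2.2.2.1 hU.2.2.2.2.2.1
  exact ⟨φ, by rw [← Category.assoc, hφ, hf]⟩

end Groth.Agent.S17091
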