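import Groth.Statements.S17101
import Groth.Agent.H44LogNCD.Free
import Groth.Agent.S17102
import Groth.Agent.QCoh.Extension
import Groth.Agent.QCoh.VanIdeal
import Groth.Agent.Coh32.CechTerm

set_option autoImplicit false
universe u
open CategoryTheory AlgebraicGeometry
open LogNCD CategoryTheory.Limits
set_option linter.style.haveILetI false

namespace Groth.Agent.S17101

/-- Let f : X → S be smooth of relative dimension n, (Ω', d) a universal receptacle for the
differentials of X over S, D = (D_1, …, D_r) a relative strict normal crossing divisor (each point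
of the divisor has an étale chart to affine n-space over S in which the components through it are
coordinate hyperplanes) and Ω¹(log D) the sheaf of differentials with logarithmic poles along D,
pinned with its inclusion of Ω' and its residue maps by the affine-local description. Then Ω¹(log D)
is a finite locally free O_X-module of rank n; locally a basis is dv_1/v_1, …, dv_s/v_s, dv_{s+1},
…, dv_n for the chart coordinates v_i. (Stated relative to an arbitrary base scheme with étale
coordinates in place of local parameters; the published statement is for a manifold over an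
algebraically closed field and also lists the induced bases of the higher exterior powers.) -/
theorem result {X S : Scheme.{u}} (f : X ⟶ S) (n : ℕ)
    [SmoothOfRelativeDimension n f] {Ω' : X.Modules} (d : OmegaSh.Der f Ω') (hd : OmegaSh.IsUniversal d)
    {r : ℕ} (D : Fin r → X.IdealSheafData) (hD : LogNCD.IsNCD D f) (Λ : LogNCD.LogMod d D) :
    FlatMod.IsFinLocFreeOfRank n Λ.L := by
  intro x
  haveI : Smooth f := SmoothOfRelativeDimension.smooth n f
  have h0 : Λ.ι ≫ Pi.lift Λ.res = 0 := Limits.Pi.hom_ext _ _ fun i => by
    rw [Category.assoc, Pi.lift_π, Λ.res_ι, zero_comp]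
  have hS := S17102.result f d hd D hD Λ h0
  have hq : ∀ i, Coh.IsQCoh (ClSub.quotMod (D i)) := fun i =>
    QCoh.isQCoh_pushforward (D i).subschemeι QCoh.isQCoh_structureModule
  have hP : Coh.IsQCoh (∏ᶜ fun i => ClSub.quotMod (D i)) := by
    refine (QCoh.isQCoh_iff_iso (?_ : (∏ᶜ fun i => ClSub.quotMod (D i)) ≅
      ∏ᶜ fun i : ULift.{u} (Fin r) => ClSub.quotMod (D i.down))).2
      (Coh32.isQCoh_pi (fun i : ULift.{u} (Fin r) => ClSub.quotMod (D i.down)) fun i => hq _)
    exact (Pi.whiskerEquiv Equiv.ulift fun _ => Iso.refl _).symm
  have hL : Coh.IsQCoh Λ.L := QCoh.isQCoh_X₂ hS (Synt29.OmegaStalk.isQCoh_of_isUniversal hd) hP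
  obtain ⟨U, hxU, ⟨b⟩⟩ := H44LogNCD.exists_free_nhd n hd hD Λ x
  exact ⟨U.1, hxU, QCoh.exists_free_restrict hL U.2 (b.reindex Equiv.ulift.symm).repr⟩

end Groth.Agent.S17101
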