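import Groth.Statements.S1712
import Groth.Agent.DualityLC.CMLocus
-- import your own Groth.Agent.* helpers here

set_option autoImplicit false
universe u
open CategoryTheory
attribute [local instance] HasDerivedCategory.standard
open Dual

namespace Groth.Agent.S1712

/-- Let A be a Noetherian local ring with a normalized dualizing complex ω, M a finite A-module and E^j
the A-module of maps M → ω[-j] in D(A). A prime p is in the support of one of E^0, …, E^i if and
only if the depth of M_p over A_p plus the dimension of A/p is at most i. -/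
theorem result (A : Type u) [CommRing A] [IsLocalRing A] [IsNoetherianRing A] (ω : Dual.D A) (hω : Dual.IsDualizing A ω) (hn : Dual.IsNormalized A ω) (M : Type u) [AddCommGroup M] [Module A M] [Module.Finite A M] (i : ℕ) (p : PrimeSpectrum A) : (∃ j : ℕ, j ≤ i ∧ p ∈ Module.support A (Dual.inD A M ⟶ ω⟦(-(j : ℤ))⟧)) ↔ ((LocCoh.depth (Localization.AtPrime p.asIdeal) (LocalizedModule p.asIdeal.primeCompl M) : ℕ∞) : WithBot ℕ∞) + ringKrullDim (A ⧸ p.asIdeal) ≤ (i : WithBot ℕ∞) := by
  obtain ⟨n, hnd, -, -, -, hdim⟩ := Groth.Agent.KFlatLib.exists_normalized_degree hω hn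
  obtain ⟨e, he, he'⟩ := hdim p
  rw [he]
  by_cases hP : p ∈ Module.support A M
  · obtain ⟨k, d, hk, hd⟩ := Groth.Agent.DualityLC.exists_depth_dim p M hP
    obtain ⟨hr, -, hend⟩ := Groth.Agent.DualityLC.ext_range_at hω hnd p M hP k d hk hd
    rw [hk]
    constructor
    · rintro ⟨j, hji, hj⟩
      have := (hr _ (Module.mem_support_iff.1 hj)).2
      have h' : k + e ≤ i := by omega
      exact_mod_cast h'
    · intro h
      have h' : k + e ≤ i := by exact_mod_cast h
      refine ⟨k + e, h', Module.mem_support_iff.2 ?_⟩
      rwa [show (-((k + e : ℕ) : ℤ)) = n p - k by omega]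
  · haveI : Subsingleton (LocalizedModule p.asIdeal.primeCompl M) := Module.notMem_support_iff.1 hP
    rw [Groth.Agent.DualityLC.depth_of_subsingleton]
    constructor
    · rintro ⟨j, -, hj⟩
      exact absurd (Groth.Agent.KFlatLib.support_hom_subset M _ hj) hP
    · intro h
      exact absurd h (Groth.Agent.DualityLC.not_top_add_coe_le e i)

end Groth.Agent.S1712
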