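import Groth.Statements.S17181
import Groth.Agent.AssLib.FlatField

set_option autoImplicit false
universe u
open CategoryTheory CategoryTheory.Limits AlgebraicGeometry
open FBase

namespace Groth.Agent.S17181

/-- Let k be a field, C an irreducible k-scheme which is geometrically irreducible over k, and f : X → C
a flat k-morphism locally of finite type with X irreducible. If the generic fibre of f is
geometrically irreducible over the residue field of the generic point of C, then X is geometrically
irreducible over k. (The published setting is a regular proper surface mapping onto a smooth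
projective geometrically irreducible curve with smooth projective geometrically irreducible generic
fibre; the printed argument uses only the hypotheses kept here.) -/
theorem result (k : Type u) [Field k]
    (X C : Scheme.{u}) [X.Over (Spec (CommRingCat.of k))] [C.Over (Spec (CommRingCat.of k))]
    (f : X ⟶ C) [f.IsOver (Spec (CommRingCat.of k))] [IrreducibleSpace X] [IrreducibleSpace C]
    [GeometricallyIrreducible (C ↘ Spec (CommRingCat.of k))] [Flat f] [LocallyOfFiniteType f]
    [GeometricallyIrreducible (f.fiberToSpecResidueField (genericPoint C))] :
    GeometricallyIrreducible (X ↘ Spec (CommRingCat.of k)) := by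
  refine ⟨geometrically_iff_of_isClosedUnderIsomorphisms.mpr fun K _ y => ?_⟩
  let c : C ⟶ Spec (CommRingCat.of k) := C ↘ Spec (CommRingCat.of k)
  haveI : GeometricallyIrreducible c := ‹GeometricallyIrreducible (C ↘ Spec (CommRingCat.of k))›
  have hc : f ≫ c = X ↘ Spec (CommRingCat.of k) := comp_over f (Spec (CommRingCat.of k))
  rw [← hc]
  haveI : Subsingleton ↥(Spec (CommRingCat.of K)) := inferInstanceAs (Subsingleton (PrimeSpectrum K))
  haveI : Nonempty ↥(Spec (CommRingCat.of K)) := inferInstanceAs (Nonempty (PrimeSpectrum K))
  haveI : IrreducibleSpace ↥(pullback c y) :=
    GeometricallyIrreducible.irreducibleSpace_of_subsingleton (f := pullback.snd c y)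
  let b := pullback.fst c y
  haveI : Flat y := AssLib.flat_over_field y
  haveI : Flat b := MorphismProperty.pullback_fst _ _ inferInstance
  have hη : b (genericPoint ↥(pullback c y)) = genericPoint C := by
    obtain ⟨z, hz, hbz⟩ := Flat.generalizingMap b (genericPoint_specializes (b (genericPoint ↥(pullback c y))))
    rw [← hbz, ((genericPoint_specializes z).antisymm hz).eq]
  let f' := pullback.snd f b
  haveI : Flat f' := MorphismProperty.pullback_snd _ _ inferInstance
  let η' := genericPoint ↥(pullback c y)
  have hb : GeometricallyIrreducible (f.fiberToSpecResidueField (b η')) := by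
    rw [show b η' = genericPoint C from hη]; assumption
  haveI : GeometricallyIrreducible (f'.fiberToSpecResidueField η') :=
    MorphismProperty.of_isPullback (P := @GeometricallyIrreducible)
      (isPullback_fiberToSpecResidueField_of_isPullback (IsPullback.of_hasPullback f b) η') hb
  haveI : Subsingleton ↥(Spec ((pullback c y).residueField η')) :=
    inferInstanceAs (Subsingleton (PrimeSpectrum ((pullback c y).residueField η')))
  haveI : IrreducibleSpace ↥(f'.fiber η') :=
    GeometricallyIrreducible.irreducibleSpace_of_subsingleton (f := f'.fiberToSpecResidueField η')
  have hirr : IsIrreducible (closure (Set.range (f'.fiberι η'))) := by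
    rw [← Set.image_univ]
    exact ((IrreducibleSpace.isIrreducible_univ _).image _ (f'.fiberι η').continuous.continuousOn).closure
  have htop : closure (Set.range (f'.fiberι η')) = Set.univ := by
    refine Set.eq_univ_of_forall fun x => ?_
    obtain ⟨z, hz, hfz⟩ := Flat.generalizingMap f' (genericPoint_specializes (f' x))
    refine hz.mem_closed isClosed_closure (subset_closure ?_)
    rw [Scheme.Hom.range_fiberι]
    exact hfz
  haveI : IrreducibleSpace ↥(pullback f b) := by
    rw [irreducibleSpace_def]
    show IsIrreducible (Set.univ : Set ↥(pullback f b))
    rw [← htop]; exact hirr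
  exact (pullbackRightPullbackFstIso c y f).hom.homeomorph.irreducibleSpace_iff.1 inferInstance

end Groth.Agent.S17181
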