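import Groth.Statements.S17277
import Groth.Agent.VarGrow31.Volume
import Groth.Agent.SurfInt.Surface
-- import your own Groth.Agent.* helpers here

set_option autoImplicit false
universe u
open CategoryTheory CategoryTheory.Limits AlgebraicGeometry TopologicalSpace
open Variety

namespace Groth.Agent.S17277

/-- Let X be a proper scheme over a field k of dimension d and L an invertible O_X-module that is big:
there is a real constant c > 0 with dim_k H^0(X, L^{⊗n}) > c·n^d for all sufficiently large n. Then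
for every closed subscheme Z ⊆ X of dimension < d, with quasi-coherent ideal sheaf I_Z, there is an
integer m > 0 with H^0(X, I_Z ⊗ L^{⊗m}) ≠ 0. -/
theorem result (k : Type u) [Field k] (X : Scheme.{u})
    [X.Over (Spec (CommRingCat.of k))] [IsProper (X ↘ (Spec (CommRingCat.of k)))]
    (d : ℕ) (hdim : topologicalKrullDim X = d) (L : X.Modules) (hL : PicF.IsInvertible L)
    (hbig : ∃ c : ℝ, 0 < c ∧ ∀ᶠ n : ℕ in Filter.atTop,
      c * (n : ℝ) ^ d < (Module.finrank k (Coh.HH X (CohB1.tensorPow L n) 0) : ℝ))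
    (Z : X.IdealSheafData) (hZ : topologicalKrullDim (Z.support : Set X) < d) :
    ∃ m : ℕ, 0 < m ∧
      Nontrivial (Coh.HH X (CohB1.tensorMod (ClSub.idealMod Z) (CohB1.tensorPow L m)) 0) := by
  open Groth.Agent Groth.Agent.VarGrow31 in
  haveI := CurveCohLib.isNoetherian_of_proper (k := k) (X := X)
  have hQ := SurfInt.isCoh_quotMod k Z
  have hI := SurfInt.isCoh_idealMod k Z
  have hsmall : Small k L (ClSub.quotMod Z) d := small_of_support k hL hQ
    (lt_of_le_of_lt (H23.TopDim.dim_le_dim_of_subset (fun _ hx =>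
      not_not.1 fun h => hx (ParShLib.subsingleton_stalk_quotMod Z h))) hZ)
  obtain ⟨c, hc, hev⟩ := hbig
  have hsm : ∀ᶠ m : ℕ in Filter.atTop, (hd k L (ClSub.quotMod Z) 0 m : ℝ) < c * (m : ℝ) ^ d := by
    filter_upwards [((exists_bound_succ (hsmall 0)).2 1).eventually (gt_mem_nhds hc), Filter.eventually_ge_atTop 1]
      with m hm hm1
    have hm0 : (0 : ℝ) < (m : ℝ) ^ d := pow_pos (by exact_mod_cast hm1) d
    rw [normSeq, mul_one, div_lt_iff₀ hm0] at hm
    exact hm
  obtain ⟨m, hm1, hm2, hm3⟩ := (hev.and (hsm.and (Filter.eventually_ge_atTop 1))).exists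
  refine ⟨m, hm3, Module.nontrivial_of_finrank_pos (R := k) ?_⟩
  have h : hd k L (Coh.structureModule X) 0 m ≤ hd k L (ClSub.idealMod Z) 0 m + hd k L (ClSub.quotMod Z) 0 m :=
    (twist_bounds k hL (SurfInt.shortExact_ideal Z) hI QCoh.isCoh_structureModule' hQ 0 m).1
  have h' := hp_eq_hd k L 0 m
  have hlt : hd k L (ClSub.quotMod Z) 0 m < hp k L 0 m := by exact_mod_cast hm2.trans hm1
  show 0 < hd k L (ClSub.idealMod Z) 0 m
  omega


end Groth.Agent.S17277
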