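import Groth.Statements.S17278
import Groth.Agent.VarGrow31.Big
import Groth.Agent.AmpleX.Pow
-- import your own Groth.Agent.* helpers here

set_option autoImplicit false
universe u
open CategoryTheory CategoryTheory.Limits AlgebraicGeometry TopologicalSpace
open Variety

namespace Groth.Agent.S17278

/-- Let X be a projective variety over a field k (an integral scheme, proper over k, carrying an ample
invertible module A₀) of dimension d, and L an invertible O_X-module. Then L is big, meaning that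
for some real c > 0 one has dim_k H^0(X, L^{⊗n}) > c·n^d for all sufficiently large n, if and only
if for every ample invertible O_X-module A, with a tensor inverse A' (A' ⊗ A ≅ O_X), there is an
integer m > 0 with H^0(X, A' ⊗ L^{⊗m}) ≠ 0. -/
theorem result (k : Type u) [Field k]
    (X : Scheme.{u}) [X.Over (Spec (CommRingCat.of k))] [IsProper (X ↘ (Spec (CommRingCat.of k)))] [IsIntegral X]
    (A₀ : X.Modules) (hA₀ : CohB1.IsAmple A₀)
    (d : ℕ) (hdim : topologicalKrullDim X = d) (L : X.Modules) (hL : PicF.IsInvertible L) :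
    (∃ c : ℝ, 0 < c ∧ ∀ᶠ n : ℕ in Filter.atTop,
        c * (n : ℝ) ^ d < (Module.finrank k (Coh.HH X (CohB1.tensorPow L n) 0) : ℝ)) ↔
      ∀ (A A' : X.Modules), CohB1.IsAmple A → ClSub.IsInverseOf A' A →
        ∃ m : ℕ, 0 < m ∧ Nontrivial (Coh.HH X (CohB1.tensorMod A' (CohB1.tensorPow L m)) 0) := by
  open Groth.Agent Groth.Agent.VarGrow31 in
  constructor
  · rintro ⟨c, hc, hbig⟩ A A' hA hA'
    obtain ⟨B, hB, ⟨e⟩⟩ := H23.PicInv.exists_inverse hA.1
    obtain ⟨φ⟩ : Nonempty (A' ≅ B) := by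
      open scoped Groth.Agent.H23.PicMul in
      obtain ⟨ψ⟩ := hA'
      have h1 : PicF.cl A' * PicF.cl A = 1 := H23.PicMul.cl_eq_iff.2 ⟨ψ⟩
      have h2 : PicF.cl A * PicF.cl B = 1 := H23.PicMul.cl_eq_iff.2 ⟨e⟩
      exact H23.PicMul.cl_eq_iff.1 (left_inv_eq_right_inv h1 h2)
    exact exists_pos_twist k hL hdim (H23.PicMul.isInvertible_of_iso φ.symm hB) hc hbig.frequently
  · intro h
    obtain ⟨B, hB, ⟨e⟩⟩ := H23.PicInv.exists_inverse hA₀.1
    obtain ⟨c⟩ := H23.PicMul.comm B A₀
    obtain ⟨m, hm, hnt⟩ := h A₀ B hA₀ ⟨c ≪≫ e⟩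
    obtain ⟨t, ht⟩ := exists_mono_of_section hL hA₀.1 hB (c ≪≫ e) hnt
    exact big_of_mono k hL hdim hA₀ hm t


end Groth.Agent.S17278
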