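import Groth.Statements.S17283
import Groth.Agent.VarNef31.Nef
-- import your own Groth.Agent.* helpers here

set_option autoImplicit false
universe u
open CategoryTheory CategoryTheory.Limits AlgebraicGeometry TopologicalSpace
open Variety

namespace Groth.Agent.S17283

/-- Scheme case, curve-test form of nefness: let f : Y → X be a surjective k-morphism of proper schemes
over a field k and E a finite locally free O_X-module. If the pullback f^*E is nef on Y in the
curve-test sense (for every regular projective curve C over k — integral, proper over k, of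
dimension one, all local rings regular — every k-morphism g : C → Y and every invertible quotient M
of g^*(f^*E), deg M = χ(M) - χ(O_C) ≥ 0), then E is nef on X in the same sense. (The source states
this for proper algebraic spaces with nefness of O(1) on P(E); on proper schemes the senses agree by
the Barton–Kleiman criterion.) -/
theorem result (k : Type u) [Field k] (X Y : Scheme.{u})
    [X.Over (Spec (CommRingCat.of k))] [IsProper (X ↘ (Spec (CommRingCat.of k)))] [Y.Over (Spec (CommRingCat.of k))] [IsProper (Y ↘ (Spec (CommRingCat.of k)))]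
    (f : Y ⟶ X) (hf : f ≫ (X ↘ (Spec (CommRingCat.of k))) = Y ↘ (Spec (CommRingCat.of k))) [Surjective f]
    (E : X.Modules) (hE : FlatMod.IsFinLocFree E)
    (hnef : ∀ (C : Scheme.{u}) [C.Over (Spec (CommRingCat.of k))] [IsProper (C ↘ (Spec (CommRingCat.of k)))] [IsIntegral C],
      topologicalKrullDim C = 1 → (∀ x : C, IsRegularLocalRing (C.presheaf.stalk x)) →
      ∀ (g : C ⟶ Y), g ≫ (Y ↘ (Spec (CommRingCat.of k))) = C ↘ (Spec (CommRingCat.of k)) →
      ∀ (M : C.Modules), PicF.IsInvertible M →
      ∀ (q : (Scheme.Modules.pullback g).obj ((Scheme.Modules.pullback f).obj E) ⟶ M), Epi q → 0 ≤ Curv2.deg k C M 1) :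
    ∀ (C : Scheme.{u}) [C.Over (Spec (CommRingCat.of k))] [IsProper (C ↘ (Spec (CommRingCat.of k)))] [IsIntegral C],
    topologicalKrullDim C = 1 → (∀ x : C, IsRegularLocalRing (C.presheaf.stalk x)) →
    ∀ (g : C ⟶ X), g ≫ (X ↘ (Spec (CommRingCat.of k))) = C ↘ (Spec (CommRingCat.of k)) →
    ∀ (M : C.Modules), PicF.IsInvertible M →
    ∀ (q : (Scheme.Modules.pullback g).obj E ⟶ M), Epi q → 0 ≤ Curv2.deg k C M 1 := by
  intro C _ _ _ hdim hreg g hg M hM q hq
  haveI : IsProper f := by
    haveI : IsProper (f ≫ (X ↘ Spec (CommRingCat.of k))) := hf ▸ inferInstance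
    exact IsProper.of_comp f (X ↘ Spec (CommRingCat.of k))
  letI : (pullback g f).Over (Spec (CommRingCat.of k)) :=
    ⟨pullback.fst g f ≫ (C ↘ Spec (CommRingCat.of k))⟩
  haveI : IsProper ((pullback g f) ↘ Spec (CommRingCat.of k)) :=
    inferInstanceAs (IsProper (pullback.fst g f ≫ (C ↘ Spec (CommRingCat.of k))))
  refine Groth.Agent.VarNef31.deg_nonneg_of_cover k (pullback.fst g f) rfl hdim hM
    fun D _ _ _ hdimD hregD h hh => ?_
  let a := h ≫ pullback.fst g f
  let b := h ≫ pullback.snd g f
  have hab : a ≫ g = b ≫ f := by simp only [a, b, Category.assoc]; rw [pullback.condition]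
  have hb : b ≫ (Y ↘ Spec (CommRingCat.of k)) = D ↘ Spec (CommRingCat.of k) := by
    rw [← hf, ← Category.assoc, ← hab, Category.assoc, hg]
    simp only [a, Category.assoc]
    exact hh
  let e := (Scheme.Modules.pullbackComp b f).app E ≪≫
    (Scheme.Modules.pullbackCongr hab.symm).app E ≪≫ ((Scheme.Modules.pullbackComp a g).app E).symm
  haveI := Groth.Agent.VarNef31.epi_pullback a q
  exact hnef D hdimD hregD b hb _ (Groth.Agent.PicClLib.isInvertible_pullback a hM)
    (e.hom ≫ (Scheme.Modules.pullback a).map q) inferInstance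

end Groth.Agent.S17283
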