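import Groth.Statements.S17284
import Groth.Agent.VarNef31.Nef
import Groth.Agent.S17276
-- import your own Groth.Agent.* helpers here

set_option autoImplicit false
universe u
open CategoryTheory CategoryTheory.Limits AlgebraicGeometry TopologicalSpace
open Variety

namespace Groth.Agent.S17284

/-- (iii) ⇒ (ii): let X be a proper scheme over a field k and E a finite locally free O_X-module.
Suppose that for every regular projective curve C over k (integral, proper over k, of dimension one,
all local rings regular), every k-morphism f : C → X and every invertible quotient f^*E → M, deg M =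
χ(M) - χ(O_C) ≥ 0. Then for every proper k-scheme C of dimension one (equivalently projective;
possibly reducible or non-reduced), every k-morphism f : C → X and every invertible quotient f^*E →
M, deg M = χ(M) - χ(O_C) ≥ 0. (The source states this for proper algebraic spaces X; this is the
case of schemes.) -/
theorem result (k : Type u) [Field k]
    (X : Scheme.{u}) [X.Over (Spec (CommRingCat.of k))] [IsProper (X ↘ (Spec (CommRingCat.of k)))] (E : X.Modules) (hE : FlatMod.IsFinLocFree E)
    (hnef : ∀ (C : Scheme.{u}) [C.Over (Spec (CommRingCat.of k))] [IsProper (C ↘ (Spec (CommRingCat.of k)))] [IsIntegral C],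
      topologicalKrullDim C = 1 → (∀ x : C, IsRegularLocalRing (C.presheaf.stalk x)) →
      ∀ (f : C ⟶ X), f ≫ (X ↘ (Spec (CommRingCat.of k))) = C ↘ (Spec (CommRingCat.of k)) →
      ∀ (M : C.Modules), PicF.IsInvertible M →
      ∀ (q : (Scheme.Modules.pullback f).obj E ⟶ M), Epi q → 0 ≤ Curv2.deg k C M 1) :
    ∀ (C : Scheme.{u}) [C.Over (Spec (CommRingCat.of k))] [IsProper (C ↘ (Spec (CommRingCat.of k)))], topologicalKrullDim C = 1 →
    ∀ (f : C ⟶ X), f ≫ (X ↘ (Spec (CommRingCat.of k))) = C ↘ (Spec (CommRingCat.of k)) →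
    ∀ (M : C.Modules), PicF.IsInvertible M →
    ∀ (q : (Scheme.Modules.pullback f).obj E ⟶ M), Epi q → 0 ≤ Curv2.deg k C M 1 := by
  intro C _ _ hdim f hf M hM q hq
  refine Groth.Agent.S17276.result k C hdim M hM fun I hI hd => ?_
  letI : I.subscheme.Over (Spec (CommRingCat.of k)) := ⟨I.subschemeι ≫ (C ↘ Spec (CommRingCat.of k))⟩
  haveI : IsProper (I.subscheme ↘ Spec (CommRingCat.of k)) :=
    inferInstanceAs (IsProper (I.subschemeι ≫ (C ↘ Spec (CommRingCat.of k))))
  haveI := hI
  rw [Groth.Agent.VarNef31.euler_quot_eq_deg k I hM rfl]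
  have hd' : topologicalKrullDim I.subscheme = 1 :=
    (IsHomeomorph.topologicalKrullDim_eq _
      I.subschemeι.isClosedEmbedding.isEmbedding.toHomeomorph.isHomeomorph).trans
      (by rw [I.range_subschemeι]; exact hd)
  have hp : (𝟙 I.subscheme) ≫ (I.subscheme ↘ Spec (CommRingCat.of k)) =
      I.subscheme ↘ Spec (CommRingCat.of k) := Category.id_comp _
  refine Groth.Agent.VarNef31.deg_nonneg_of_cover k (𝟙 I.subscheme) hp hd'
    (Groth.Agent.PicClLib.isInvertible_pullback _ hM) fun D _ _ _ hdimD hregD h hh => ?_
  let a := (h ≫ 𝟙 I.subscheme) ≫ I.subschemeι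
  have ha : (a ≫ f) ≫ (X ↘ Spec (CommRingCat.of k)) = D ↘ Spec (CommRingCat.of k) := by
    simp only [a, Category.assoc, hf, Category.id_comp]
    exact hh
  haveI := Groth.Agent.VarNef31.epi_pullback a q
  haveI := hnef D hdimD hregD (a ≫ f) ha _ (Groth.Agent.PicClLib.isInvertible_pullback a hM)
    (((Scheme.Modules.pullbackComp a f).app E).inv ≫ (Scheme.Modules.pullback a).map q) inferInstance
  refine le_of_le_of_eq this (Groth.Agent.VarNef31.deg_congr' k ?_).symm
  exact (Scheme.Modules.pullbackComp (h ≫ 𝟙 I.subscheme) I.subschemeι).app M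

end Groth.Agent.S17284
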