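import Groth.Statements.S17287
import Groth.Agent.VarDim.Fibre
import Groth.Agent.VarDim.Top
import Groth.Agent.QCoh.Devissage
-- import your own Groth.Agent.* helpers here

set_option autoImplicit false
universe u
open CategoryTheory CategoryTheory.Limits AlgebraicGeometry TopologicalSpace
open Variety

namespace Groth.Agent.S17287

/-- Let f : Y → X be a surjective k-morphism of proper schemes over a field k and C ⊆ X an integral
closed subscheme of dimension one. Then there is an integral closed subscheme C' ⊆ Y of dimension
one with f(C') = C as closed subsets. (The source states this for proper algebraic spaces over k;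
this is the case of schemes.) -/
theorem result (k : Type u) [Field k] (X Y : Scheme.{u})
    [X.Over (Spec (CommRingCat.of k))] [IsProper (X ↘ (Spec (CommRingCat.of k)))] [Y.Over (Spec (CommRingCat.of k))] [IsProper (Y ↘ (Spec (CommRingCat.of k)))]
    (f : Y ⟶ X) (hf : f ≫ (X ↘ (Spec (CommRingCat.of k))) = Y ↘ (Spec (CommRingCat.of k))) [Surjective f]
    (C : X.IdealSheafData) [IsIntegral C.subscheme] (hC : topologicalKrullDim (C.support : Set X) = 1) :
    ∃ C' : Y.IdealSheafData, IsIntegral C'.subscheme ∧ topologicalKrullDim (C'.support : Set Y) = 1 ∧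
      f.base '' (C'.support : Set Y) = (C.support : Set X) := by
  classical
  set pX := X ↘ (Spec (CommRingCat.of k))
  set pY := Y ↘ (Spec (CommRingCat.of k))
  haveI : IsProper f := by
    haveI : IsProper (f ≫ pX) := hf ▸ inferInstance
    exact IsProper.of_comp f pX
  let c : X := C.subschemeι (genericPoint C.subscheme)
  have hsupp : (C.support : Set X) = closure {c} := by
    rw [← C.range_subschemeι, ← Set.image_univ, ← genericPoint_closure,
      ← C.subschemeι.isClosedEmbedding.isClosedMap.closure_image_eq_of_continuous C.subschemeι.continuous,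
      Set.image_singleton]
  have hc : Groth.Agent.VarDim.deg pX c = 1 := by
    rw [hsupp, Groth.Agent.VarDim.topologicalKrullDim_closure_singleton pX c] at hC
    exact_mod_cast hC
  obtain ⟨y, hy, hy0⟩ := Groth.Agent.VarDim.exists_fdeg_eq_zero f
    (show c ∈ Set.range f from f.surjective c)
  have hy1 : Groth.Agent.VarDim.deg pY y = 1 := by
    rw [Groth.Agent.VarDim.deg_eq_add f pX hf y, hy, hy0, hc]
  refine ⟨Scheme.IdealSheafData.vanishingIdeal (Closeds.closure {y}),
    Groth.Agent.QCoh.isIntegral_closure_point y, ?_, ?_⟩
  · show topologicalKrullDim (closure ({y} : Set Y)) = 1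
    rw [Groth.Agent.VarDim.topologicalKrullDim_closure_singleton pY y, hy1]
    rfl
  · show f.base '' closure ({y} : Set Y) = _
    rw [← f.isClosedMap.closure_image_eq_of_continuous f.continuous, Set.image_singleton, hy, hsupp]

end Groth.Agent.S17287
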