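import Groth.Statements.S17294
import Groth.Agent.CStk17.FibBridge
import Groth.Agent.CStk17.GRed

set_option autoImplicit false
universe u
open CurvSt

namespace Groth.Agent.S17294

set_option backward.isDefEq.respectTransparency false
set_option backward.isDefEq.respectTransparency.types false

open CategoryTheory AlgebraicGeometry in
/-- Assume the stack of curves over the base scheme S (families with algebraic-space total space, flat,
proper, of finite presentation and of relative dimension at most 1, no marked points) is an
algebraic stack for the fppf topology. Then, inside it, the families all of whose geometric fibres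
(realised as schemes over an algebraically closed field) are reduced form an open substack for the
fppf topology; moreover this substack has an object over every algebraically closed field point of
S. (The source says the fibres are geometrically reduced; testing all geometric fibres over
algebraically closed fields is the same condition. The source works over the integers; the statement
over S is its form over a base.) -/
theorem result (S : Scheme.{u})
    (hC : AlgSt.IsAlgStack Scheme.fppfPrecoverage (CurvSt.Curves S 0)) :
    AlgSt.IsOpenSubstack (CurvSt.Curves S 0) (fun A => CurvSt.GeomFib (fun _ _ _ X' _ _ => IsReduced X') A.obj) Scheme.fppfPrecoverage ∧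
      ∀ (Ω : Type u) [Field Ω] [IsAlgClosed Ω] (t : Spec (CommRingCat.of Ω) ⟶ S),
        Nonempty ((AlgSt.fullSub (CurvSt.Curves S 0) (fun A => CurvSt.GeomFib (fun _ _ _ X' _ _ => IsReduced X') A.obj)).p.Fiber (Over.mk t)) := by
  have hiff : ∀ (Ω : Type u) [Field Ω] [IsAlgClosed Ω] (X' : Scheme.{u}) (q : X' ⟶ Spec (CommRingCat.of Ω))
      (x : Fin 0 → ↥X'), IsSeparated q → LocallyOfFinitePresentation q → QuasiCompact q →
        (∀ z, FlatMor.fibreDimAt q z ≤ ((1 : ℕ) : WithBot ℕ∞)) →
          (IsReduced X' ↔ ∀ z, Groth.Agent.CStk17.GRed.GRed q z) :=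
    fun Ω _ _ X' q _ _ _ _ _ => (Groth.Agent.CStk17.GRed.forall_gRed_iff q).symm
  refine ⟨Groth.Agent.CStk17.FibBridge.isOpenSubstack_geomFib hC Groth.Agent.CStk17.GRed.isPtCond_gRed _ hiff,
    fun Ω _ _ t => Groth.Agent.CStk17.CurvesBridge.nonempty_fiber Ω _ t ?_⟩
  haveI : IsIntegral (CohB1.ProjSpace 1 Ω) := Groth.Agent.H23.PnChart.isIntegral_projSpace 1 Ω
  exact Groth.Agent.CStk17.FibBridge.geomFib_schObj (T := Over.mk t) (CohB1.ProjSpace.toSpec 1 Ω) _
    Groth.Agent.CStk17.GRed.isPtCond_gRed _ hiff
    ((Groth.Agent.CStk17.GRed.forall_gRed_iff (CohB1.ProjSpace.toSpec 1 Ω)).2 inferInstance)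

end Groth.Agent.S17294
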