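import Groth.Statements.S17298
import Groth.Agent.CStk17.PtConds
import Groth.Agent.CStk17.CurvesBridge

set_option autoImplicit false
universe u
open CurvSt

namespace Groth.Agent.S17298

open CategoryTheory AlgebraicGeometry in
/-- Assume the stack of curves over the base scheme S (families with algebraic-space total space, flat,
proper, of finite presentation and of relative dimension at most 1, no marked points) is an
algebraic stack for the fppf topology. Then, inside it, the families whose structure morphism is a
Cohen–Macaulay morphism (read etale locally on every chart diagram: flat with Cohen–Macaulay fibre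
local rings at every point) and has relative dimension exactly 1 (at every point of the total space
some etale chart diagram through it has fibre of local dimension 1 there) form an open substack for
the fppf topology; moreover this substack has an object over every algebraically closed field point
of S. (The source works over the integers; the statement over S is its form over a base.) -/
theorem result (S : Scheme.{u})
    (hC : AlgSt.IsAlgStack Scheme.fppfPrecoverage (CurvSt.Curves S 0)) :
    AlgSt.IsOpenSubstack (CurvSt.Curves S 0) (fun A => AlgSp.LocP (fun _ _ g => ∀ x, MoreMor.IsCMAt g x) A.obj.f ∧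
          (∀ x : AlgSp.Points A.obj.X,
            AlgSp.HasAtMor (fun _ _ h u => FlatMor.fibreDimAt h u = ((1 : ℕ) : WithBot ℕ∞)) A.obj.f x)) Scheme.fppfPrecoverage ∧
      ∀ (Ω : Type u) [Field Ω] [IsAlgClosed Ω] (t : Spec (CommRingCat.of Ω) ⟶ S),
        Nonempty ((AlgSt.fullSub (CurvSt.Curves S 0) (fun A => AlgSp.LocP (fun _ _ g => ∀ x, MoreMor.IsCMAt g x) A.obj.f ∧
          (∀ x : AlgSp.Points A.obj.X,
            AlgSp.HasAtMor (fun _ _ h u => FlatMor.fibreDimAt h u = ((1 : ℕ) : WithBot ℕ∞)) A.obj.f x))).p.Fiber (Over.mk t)) := by
  have key := fun A => Groth.Agent.CStk17.CurvesBridge.locP_and_dim_iff (S := S) A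
    Groth.Agent.CStk17.PtConds.isPtCond_cm Groth.Agent.CStk17.PtConds.isPtCond_cm_one
  refine ⟨Groth.Agent.CStk17.CurvesBridge.isOpenSubstack_locP hC Groth.Agent.CStk17.PtConds.isPtCond_cm_one _
    (fun g _ _ => Iff.rfl) _ key, fun Ω _ _ t => ?_⟩
  refine Groth.Agent.CStk17.CurvesBridge.nonempty_fiber Ω _ t ((key _).2 ?_)
  exact Groth.Agent.CStk17.CurvesBridge.locP_schObj _ _ Groth.Agent.CStk17.PtConds.isPtCond_cm_one _
    (fun g _ _ => Iff.rfl) (fun x => ⟨Groth.Agent.CStk17.PtConds.isCMAt_of_smooth _ x,
      Groth.Agent.CStk17.CurvesBridge.p1_smooth_one Ω x⟩)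

end Groth.Agent.S17298
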