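import Groth.Statements.S17303
import Groth.Agent.CStk17.FibBridge
import Groth.Agent.CStk17.GRed
import Groth.Agent.CStk17.ReducedCM
import Mathlib.FieldTheory.IsAlgClosed.AlgebraicClosure

set_option autoImplicit false
universe u
open CurvSt

namespace Groth.Agent.S17303

set_option backward.isDefEq.respectTransparency false
set_option backward.isDefEq.respectTransparency.types false

open CategoryTheory AlgebraicGeometry in
/-- For a family of curves (algebraic-space total space, flat, proper, of finite presentation, relative
dimension at most 1, no marked points) over a scheme over S, if all geometric fibres (realised as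
schemes over an algebraically closed field) are reduced then the structure morphism is a
Cohen–Macaulay morphism (etale locally on every chart diagram the morphism of schemes is flat with
Cohen–Macaulay fibre local rings at every point). In the source this is the inclusion of the open
substack of curves with geometrically reduced fibres in the open substack of Cohen–Macaulay curves. -/
theorem result (S : Scheme.{u}) (A : (CurvSt.Curves S 0).obj)
    (h : CurvSt.GeomFib (fun _ _ _ X' _ _ => IsReduced X') A.obj) :
    AlgSp.LocP (fun _ _ g => ∀ x, MoreMor.IsCMAt g x) A.obj.f := by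
  obtain ⟨c⟩ := Groth.Agent.CStk17.FamLocus.nonempty_chart (Groth.Agent.CStk17.CurvesBridge.famOf A)
  haveI := c.flat
  haveI := c.lfp
  refine (c.locP_iff Groth.Agent.CStk17.PtConds.isPtCond_cm (fun _ _ g => ∀ x, MoreMor.IsCMAt g x)
    (fun g _ _ => Iff.rfl)).2 fun u => ?_
  have hu := (Groth.Agent.CStk17.FibBridge.geomFib_iff A c Groth.Agent.CStk17.GRed.isPtCond_gRed
    (fun _ _ _ X' _ _ => IsReduced X')
    (fun Ω _ _ X' q _ _ _ _ _ => (Groth.Agent.CStk17.GRed.forall_gRed_iff q).symm)).1 h u
  obtain ⟨P, hPu⟩ := Groth.Agent.CStk17.GRed.exists_geomPt c.g.left u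
  haveI : Subsingleton ↥(Spec (CommRingCat.of P.Ω)) := inferInstanceAs (Subsingleton (PrimeSpectrum P.Ω))
  haveI : LocallyOfFinitePresentation P.q := MorphismProperty.of_isPullback P.sq c.lfp
  have hred : ∀ z : P.Z, Groth.Agent.CStk17.GRed.GRed P.q z := fun z =>
    (Groth.Agent.CStk17.GRed.isPtCond_gRed.baseChange c.g.left P.t P.q P.fst P.sq z).2
      ((Groth.Agent.CStk17.FibBridge.geomFib_iff A c Groth.Agent.CStk17.GRed.isPtCond_gRed
        (fun _ _ _ X' _ _ => IsReduced X')
        (fun Ω _ _ X' q _ _ _ _ _ => (Groth.Agent.CStk17.GRed.forall_gRed_iff q).symm)).1 h _)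
  haveI : IsReduced P.Z := (Groth.Agent.CStk17.GRed.forall_gRed_iff P.q).1 hred
  have hcm := Groth.Agent.CStk17.ReducedCM.isCMAt_of_isReduced P.q (fun z => by
    rw [Groth.Agent.FibDim.fibreDimAt_baseChange P.sq z]
    exact Groth.Agent.CStk17.FibBridge.Chart.fibreDim_le A c _) P.z
  have := (Groth.Agent.CStk17.PtConds.isPtCond_cm.baseChange c.g.left P.t P.q P.fst P.sq P.z).1 hcm
  rw [← hPu]
  exact this

end Groth.Agent.S17303
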