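import Groth.Statements.S17321
import Mathlib
-- import your own Groth.Agent.* helpers here

set_option autoImplicit false
universe u v
open CAlg

namespace Groth.Agent.S17321

/-- Let k be an algebraically closed field and A a commutative k-algebra which is finite-dimensional as
a k-vector space (the coordinate ring of a finite k-scheme). Then the space Der(A) of k-derivations
A → A is zero if and only if A is reduced. -/
theorem result (k : Type u) [Field k] [IsAlgClosed k]
    (A : Type v) [CommRing A] [Algebra k A] [Module.Finite k A] :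
    Subsingleton (Derivation k A A) ↔ IsReduced A := by
  haveI : IsArtinianRing A := IsArtinianRing.of_finite k A
  have hres : ∀ (M : Ideal A) [M.IsMaximal], ∀ a : A, ∃ c : k, a - algebraMap k A c ∈ M := by
    intro M _ a
    obtain ⟨c, hc⟩ := IsAlgClosed.algebraMap_bijective_of_isIntegral (k := k) (K := A ⧸ M) |>.2
      (Ideal.Quotient.mk M a)
    exact ⟨c, Ideal.Quotient.eq.1 hc.symm⟩
  constructor
  · intro hsub
    by_contra hred
    obtain ⟨x, hx, hx0⟩ : ∃ x : A, IsNilpotent x ∧ x ≠ 0 := by
      simpa [isReduced_iff] using hred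
    obtain ⟨S, hS, hSx⟩ := (eq_bot_or_exists_atom_le (Ideal.span {x})).resolve_left (by simp [hx0])
    obtain ⟨s, hs, hs0⟩ := Submodule.exists_mem_ne_zero_of_ne_bot hS.1
    let M : Ideal A := Submodule.annihilator (Ideal.span {s})
    have hM : ∀ a, a ∈ M ↔ a * s = 0 := fun a => by
      simp [M, Submodule.mem_annihilator_span_singleton, smul_eq_mul]
    have hspan : Ideal.span {s} = S :=
      (hS.le_iff.1 ((Ideal.span_singleton_le_iff_mem _).2 hs)).resolve_left (by simp [hs0])
    have hMmax : M.IsMaximal := by
      refine Ideal.isMaximal_iff.2 ⟨fun h => hs0 (by simpa using (hM 1).1 h), fun J a hle ha haJ => ?_⟩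
      have h1 : a * s ≠ 0 := fun h => ha ((hM a).2 h)
      have h2 : Ideal.span {a * s} = S :=
        (hS.le_iff.1 ((Ideal.span_singleton_le_iff_mem _).2 (Ideal.mul_mem_left _ _ hs))).resolve_left
          (by simp [h1])
      obtain ⟨c, hc⟩ := Ideal.mem_span_singleton'.1 (h2 ▸ hs : s ∈ Ideal.span {a * s})
      have : 1 - c * a ∈ M := by rw [hM]; linear_combination -hc
      simpa using add_mem (hle this) (J.mul_mem_left c haJ)
    have hsN : IsNilpotent s := by
      obtain ⟨c, hc⟩ := Ideal.mem_span_singleton'.1 (hSx hs)
      exact hc ▸ (Commute.all c x).isNilpotent_mul_left hx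
    have hsM : s ∈ M := by
      obtain ⟨n, hn⟩ := hsN
      exact hMmax.isPrime.mem_of_pow_mem n (hn ▸ M.zero_mem)
    have hne : M ^ 2 ≠ M := by
      intro h
      obtain ⟨e, he, hMe⟩ := (Ideal.isIdempotentElem_iff_of_fg M (IsNoetherian.noetherian M)).1
        (show IsIdempotentElem M by rw [IsIdempotentElem, ← pow_two, h])
      rw [hMe] at hsM
      obtain ⟨c, hc⟩ := Ideal.mem_span_singleton'.1 hsM
      have : e * s = 0 := (hM e).1 (hMe ▸ Ideal.mem_span_singleton_self e)
      apply hs0
      have e2 : e * e = e := he
      rw [← hc] at this ⊢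
      rw [← e2, ← this]; ring
    obtain ⟨y, hyM, hy⟩ := Set.exists_of_ssubset
      (SetLike.coe_ssubset_coe.2 (lt_of_le_of_ne (Ideal.pow_le_self two_ne_zero) hne))
    let P : Submodule k A := (M ^ 2).restrictScalars k ⊔ Submodule.span k {1}
    have hyP : y ∉ P := by
      intro h
      obtain ⟨z, hz, w, hw, rfl⟩ := Submodule.mem_sup.1 h
      obtain ⟨c, rfl⟩ := Submodule.mem_span_singleton.1 hw
      by_cases hc : c = 0
      · exact hy (by simpa [hc] using hz)
      · have : c • (1 : A) ∈ M := by
          simpa using sub_mem hyM (Ideal.pow_le_self two_ne_zero hz)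
        refine hMmax.ne_top (M.eq_top_of_isUnit_mem this ?_)
        rw [← Algebra.algebraMap_eq_smul_one]; exact (isUnit_iff_ne_zero.2 hc).map _
    obtain ⟨l, hly, hlP⟩ := Submodule.exists_dual_map_eq_bot_of_notMem hyP inferInstance
    have hlP' : ∀ z ∈ P, l z = 0 := fun z hz => by
      have : l z ∈ P.map l := Submodule.mem_map_of_mem hz
      simpa [hlP] using this
    have hleib : ∀ a b : A, l (a * b) • s = a • (l b • s) + b • (l a • s) := by
      intro a b
      obtain ⟨α, hα⟩ := hres M a
      obtain ⟨β, hβ⟩ := hres M b
      have h0 : l ((a - algebraMap k A α) * (b - algebraMap k A β)) = 0 :=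
        hlP' _ (Submodule.mem_sup_left (show _ ∈ M ^ 2 from (pow_two M).symm ▸ Ideal.mul_mem_mul hα hβ))
      have h1 : l 1 = 0 := hlP' _ (Submodule.mem_sup_right (Submodule.mem_span_singleton_self 1))
      have e : a * b = (a - algebraMap k A α) * (b - algebraMap k A β) + α • b + β • a
          + (-(α * β)) • (1 : A) := by
        simp only [Algebra.smul_def, map_mul, map_neg]; ring
      have has := (hM _).1 hα
      have hbs := (hM _).1 hβ
      rw [e]
      simp only [map_add, map_smul, h0, h1, smul_eq_mul, mul_zero, zero_add, add_zero, add_smul]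
      simp only [Algebra.smul_def, map_mul, smul_eq_mul]
      linear_combination (-algebraMap k A (l b)) * has - algebraMap k A (l a) * hbs
    let D : Derivation k A A :=
      Derivation.mk' ((LinearMap.toSpanSingleton k A s).comp l) (fun a b => hleib a b)
    have h0 : D y = 0 := by rw [Subsingleton.elim D 0]; rfl
    rcases smul_eq_zero.1 (show l y • s = 0 from h0) with h | h
    · exact hly h
    · exact hs0 h
  · intro hred
    refine ⟨fun D D' => Derivation.ext fun a => ?_⟩
    rw [← sub_eq_zero, ← Derivation.sub_apply]
    generalize D - D' = E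
    have key : ∀ (M : Ideal A) [M.IsMaximal], E a ∈ M := by
      intro M hMmax
      obtain ⟨c, hc⟩ := hres M a
      set x := a - algebraMap k A c with hx
      have hEa : E a = E x := by simp [hx]
      haveI : Fintype (MaximalSpectrum A) := Fintype.ofFinite _
      classical
      let others := (Finset.univ : Finset (MaximalSpectrum A)).erase ⟨M, hMmax⟩
      obtain ⟨t, ht, htM⟩ : ∃ t ∈ others.inf (fun N => N.asIdeal), t ∉ M := by
        by_contra h
        push Not at h
        obtain ⟨N, hN, hNM⟩ := (hMmax.isPrime.inf_le').1 h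
        exact (Finset.mem_erase.1 hN).1 (MaximalSpectrum.ext (N.isMaximal.eq_of_le hMmax.ne_top hNM))
      have htx : t * x = 0 := by
        refine IsNilpotent.eq_zero ?_
        rw [← mem_nilradical, nilradical_eq_sInf]
        refine Submodule.mem_sInf.2 fun (Q : Ideal A) hQ => ?_
        by_cases hQM : Q = M
        · subst hQM; exact Ideal.mul_mem_left _ _ hc
        · have hQmax : Q.IsMaximal := (haveI : Q.IsPrime := hQ; IsArtinianRing.isMaximal_of_isPrime Q)
          have hmem : (⟨Q, hQmax⟩ : MaximalSpectrum A) ∈ others :=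
            Finset.mem_erase.2 ⟨fun e => hQM (congrArg MaximalSpectrum.asIdeal e), Finset.mem_univ _⟩
          exact Ideal.mul_mem_right _ _ (SetLike.le_def.1 (Finset.inf_le (f := fun N : MaximalSpectrum A => N.asIdeal) hmem) ht)
      have hE : t * E x + x * E t = 0 := by
        have := congrArg E htx
        rwa [Derivation.leibniz, map_zero, smul_eq_mul, smul_eq_mul] at this
      have : t * E x ∈ M := by
        rw [eq_neg_of_add_eq_zero_left hE]
        exact neg_mem (Ideal.mul_mem_right _ _ hc)
      rw [hEa]
      exact (hMmax.isPrime.mem_or_mem this).resolve_left htM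
    refine IsNilpotent.eq_zero ?_
    rw [← mem_nilradical, nilradical_eq_sInf]
    refine Submodule.mem_sInf.2 fun (Q : Ideal A) hQ => ?_
    exact @key Q ((haveI : Q.IsPrime := hQ; IsArtinianRing.isMaximal_of_isPrime Q))

end Groth.Agent.S17321
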