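import Groth.Statements.S17374
import Groth.Agent.VarNum31.Invariance
import Groth.Agent.VarGrow31.Vol
-- import your own Groth.Agent.* helpers here

set_option autoImplicit false
universe u
open CategoryTheory CategoryTheory.Limits AlgebraicGeometry
open scoped ENNReal
open Variety

namespace Groth.Agent.S17374

/-- Let X be a geometrically integral scheme of dimension d, proper over a field k and admitting an
ample invertible module, and let L, N be invertible modules on X with N numerically trivial (degree
zero on every integral closed one-dimensional subscheme). Then the upper limits of dim_k H^0(X, (L ⊗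
N)^m) / m^d and of dim_k H^0(X, L^m) / m^d as m → ∞, taken in the extended non-negative reals,
agree; that is, the volume of an invertible module depends only on its numerical equivalence class. -/
theorem result (k : Type u) [Field k] (X : Scheme.{u})
    [X.Over (Spec (CommRingCat.of k))] [IsIntegral X] [GeometricallyIntegral (X ↘ Spec (CommRingCat.of k))]
    [IsProper (X ↘ Spec (CommRingCat.of k))]
    (hproj : ∃ A : X.Modules, CohB1.IsAmple A) (d : ℕ) (hd : topologicalKrullDim X = d)
    (L N : X.Modules) (hL : PicF.IsInvertible L) (hN : PicF.IsInvertible N) (hNum : Pic13.IsNumEquivZero k X N) :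
    Filter.limsup (fun m : ℕ => (Module.finrank k (Coh.HH X (CohB1.tensorPow (CohB1.tensorMod L N) m) 0) : ℝ≥0∞) /
        (m : ℝ≥0∞) ^ d) Filter.atTop =
      Filter.limsup (fun m : ℕ => (Module.finrank k (Coh.HH X (CohB1.tensorPow L m) 0) : ℝ≥0∞) /
        (m : ℝ≥0∞) ^ d) Filter.atTop := by
  open Groth.Agent Groth.Agent.VarGrow31 Filter in
  obtain ⟨C₁, hC₁⟩ := exists_bound_hp k (H23.PicMul.isInvertible_tensor hL hN) hd.le 0
  open Groth.Agent Groth.Agent.VarGrow31 Filter in
  obtain ⟨C₂, hC₂⟩ := exists_bound_hp k hL hd.le 0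
  open Groth.Agent Groth.Agent.VarGrow31 in
  have e : ∀ (M : X.Modules) (C : ℕ), (∀ m, hp k M 0 m ≤ C * (m + 1) ^ d) →
      W4c5asymptcohfn.hhat k X d 0 M = (d.factorial : ℝ) * Filter.limsup (normSeq d 1 (hp k M 0)) Filter.atTop := by
    intro M C h
    rw [hhat_eq]
    have hc : (0 : ℝ) < (d.factorial : ℝ) := Nat.cast_pos.2 (Nat.factorial_pos d)
    have he : normSeq d (d.factorial : ℝ) (hp k M 0) =
        fun m => (OrderIso.mulLeft₀ (d.factorial : ℝ) hc) (normSeq d 1 (hp k M 0) m) := by
      funext m
      simp [normSeq, OrderIso.mulLeft₀_apply, mul_div_assoc', mul_comm]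
    have hb := normSeq_bounded (c := (d.factorial : ℝ)) hc.le h
    have hb' := normSeq_isCobounded d hc.le (hp k M 0)
    rw [he] at hb hb' ⊢
    exact ((OrderIso.mulLeft₀ (d.factorial : ℝ) hc).limsup_apply (normSeq_bounded zero_le_one h)
      (normSeq_isCobounded d zero_le_one _) hb hb').symm
  open Groth.Agent Groth.Agent.VarGrow31 in
  have h := VarNum31.hhat_tensor_numTriv hproj hd hL ⟨hN, hNum⟩ 0
  rw [e _ _ hC₁, e _ _ hC₂] at h
  open Groth.Agent Groth.Agent.VarGrow31 in
  show Filter.limsup (fun m : ℕ => (hp k (CohB1.tensorMod L N) 0 m : ℝ≥0∞) / (m : ℝ≥0∞) ^ d) Filter.atTop =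
    Filter.limsup (fun m : ℕ => (hp k L 0 m : ℝ≥0∞) / (m : ℝ≥0∞) ^ d) Filter.atTop
  open Groth.Agent Groth.Agent.VarGrow31 in
  rw [limsup_ennreal hC₁, limsup_ennreal hC₂, mul_left_cancel₀ (Nat.cast_ne_zero.2 (Nat.factorial_ne_zero d)) h]


end Groth.Agent.S17374
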