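import Groth.Statements.S17386
import Groth.Agent.BlowUp95.Strict

set_option autoImplicit false
universe u
open BlowUp

namespace Groth.Agent.S17386

open AlgebraicGeometry CategoryTheory Limits in
/-- Let X be any scheme, J_1, …, J_n quasi-coherent ideals on X with closed subschemes Y_i, and b : X' →
X a blowing up of X in the ideal J_1 + ⋯ + J_n of the intersection of the Y_i. For each i let b_i' :
Y_i' → Y_i be a blowing up of Y_i in the inverse image of J_1 + ⋯ + J_n and k_i : Y_i' → X' the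
morphism with k_i ≫ b = b_i' ≫ (Y_i → X), so that the image of k_i is the strict transform of Y_i.
Then the strict transforms have empty common intersection: no point of X' lies in the image of every
k_i. -/
theorem result
    {X X' : Scheme.{u}} {n : ℕ} (𝓙 : Fin n → X.IdealSheafData) (b : X' ⟶ X)
    (hb : BlowUp.IsBlowUp b (⨆ i, 𝓙 i))
    (Y' : Fin n → Scheme.{u}) (b' : ∀ i, Y' i ⟶ (𝓙 i).subscheme)
    (hb' : ∀ i, BlowUp.IsBlowUp (b' i) ((⨆ j, 𝓙 j).comap (𝓙 i).subschemeι))
    (k : ∀ i, Y' i ⟶ X') (hk : ∀ i, k i ≫ b = b' i ≫ (𝓙 i).subschemeι) :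
    (⋂ i, Set.range (fun y => k i y)) = (∅ : Set X') := by
  classical
  have hE := ModPairLib.isLocPrincipal_of_isEffCartier hb.1
  set E := (⨆ i, 𝓙 i).comap b with hEdef
  let Q : Fin n → X'.IdealSheafData := fun i ↦ ModPairLib.colon ((𝓙 i).comap b) E hE
  have hQE (i) : Q i * E = (𝓙 i).comap b :=
    ModPairLib.colon_mul hb.1 (Groth.Agent.BlowUp95.le_sup_comap b (le_iSup 𝓙 i))
  have htop : ⨆ i, Q i = ⊤ := by
    refine top_le_iff.1 (ModPairLib.le_of_mul_le_mul hb.1 ?_)
    refine le_trans ?_ (le_refl ((⨆ i, Q i) * E))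
    calc ⊤ * E ≤ E := Groth.Agent.BlowUp95.top_mul_le E
      _ = ⨆ i, (𝓙 i).comap b := (Scheme.IdealSheafData.map_gc b).l_iSup
      _ ≤ (⨆ i, Q i) * E := iSup_le fun i ↦ (hQE i).ge.trans
          (Groth.Agent.BlowUp95.mul_le_mul' (le_iSup Q i) le_rfl)
  rw [Set.eq_empty_iff_forall_notMem]
  intro x hx
  have hmem (i) : x ∈ ((Q i).support : Set X') := by
    obtain ⟨y, rfl⟩ := Set.mem_iInter.1 hx i
    refine Groth.Agent.BlowUp95.range_subset_support_of_comap_eq_bot
      (Groth.Agent.BlowUp95.comap_colon_eq_bot hE ?_ ?_) y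
    · rw [hEdef, ← Scheme.IdealSheafData.comap_comp, hk i, Scheme.IdealSheafData.comap_comp]
      exact (hb' i).1
    · rw [← Scheme.IdealSheafData.comap_comp, hk i, Scheme.IdealSheafData.comap_comp,
        Groth.Agent.BlowUp95.comap_subschemeι_self, Scheme.IdealSheafData.comap_bot]
  have h1 : x ∈ ((⨆ i, Q i).support : Set X') := by
    rw [Scheme.IdealSheafData.support_iSup, TopologicalSpace.Closeds.coe_iInf, Set.mem_iInter]
    exact hmem
  rw [htop, Scheme.IdealSheafData.support_top] at h1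
  exact h1

end Groth.Agent.S17386
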