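import Groth.Statements.S17391
import Groth.Agent.BlowUp95.Strict

set_option autoImplicit false
universe u
open BlowUp

namespace Groth.Agent.S17391

open AlgebraicGeometry CategoryTheory Limits in
/-- Let X and Z be schemes, p : Z → X a morphism, U ⊆ V ⊆ X open subschemes, and f : Y → Z a
quasi-compact immersion whose composite with p lands in U. Let I₁ be a quasi-coherent ideal on X
whose support contains V ∖ U and is disjoint from U, and I₂ a quasi-coherent ideal whose support
lies in supp(I₁) ∖ V. Assume that the closed subscheme p⁻¹(V(I₁²)) ∩ Ȳ of Z, where Ȳ is the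
scheme-theoretic image of f, is contained in p⁻¹(V(I₂)) as a closed subscheme: the inverse image
ideal of I₂ on Z lies in the sum of the inverse image ideal of I₁² and the kernel ideal of f. Then
for every blowing up q : X' → X of X in I₁ + I₂, writing Z' = Z ×_X X' → X' and Y' = Y ×_Z Z' → Z'
for the base changes, the closure in Z' of the image of Y' is disjoint from the preimage in Z' of
the closure in X' of q⁻¹(V ∖ U). (The blowing up is an isomorphism over V, since the support of I₁ +
I₂ is that of I₂ and lies in X ∖ V; the point is that the closure of q⁻¹(V ∖ U) in X', which may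
reach over X ∖ V, still misses the closure of Y'.) -/
theorem result
    {X Y Z X' : Scheme.{u}} (p : Z ⟶ X) (U V : X.Opens) (hUV : U ≤ V)
    (f : Y ⟶ Z) [IsImmersion f] [QuasiCompact f] (hY : Set.range (fun y => p (f y)) ⊆ (U : Set X))
    (𝓘₁ 𝓘₂ : X.IdealSheafData)
    (h₁ : (V : Set X) \ (U : Set X) ⊆ (𝓘₁.support : Set X)) (h₁' : Disjoint (𝓘₁.support : Set X) (U : Set X))
    (h₂ : (𝓘₂.support : Set X) ⊆ (𝓘₁.support : Set X) \ (V : Set X))
    (hincl : 𝓘₂.comap p ≤ (𝓘₁ * 𝓘₁).comap p ⊔ f.ker)
    (q : X' ⟶ X) (hq : BlowUp.IsBlowUp q (𝓘₁ ⊔ 𝓘₂)) :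
    Disjoint (closure (Set.range (fun y => (pullback.snd f (pullback.fst p q)) y)))
      ((fun z => (pullback.snd p q) z) ⁻¹'
        closure ((fun x' => q x') ⁻¹' ((V : Set X) \ (U : Set X)))) := by
  have hE := ModPairLib.isLocPrincipal_of_isEffCartier hq.1
  set E := (𝓘₁ ⊔ 𝓘₂).comap q with hEdef
  set π := pullback.fst p q
  set p' := pullback.snd p q
  set Q₁ := ModPairLib.colon (𝓘₁.comap q) E hE
  set Q₂ := ModPairLib.colon (𝓘₂.comap q) E hE
  have e1 : Q₁ * E = 𝓘₁.comap q :=
    ModPairLib.colon_mul hq.1 (Groth.Agent.BlowUp95.le_sup_comap q le_sup_left)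
  have e2 : Q₂ * E = 𝓘₂.comap q :=
    ModPairLib.colon_mul hq.1 (Groth.Agent.BlowUp95.le_sup_comap q le_sup_right)
  have htop : Q₁ ⊔ Q₂ = ⊤ := by
    refine top_le_iff.1 (ModPairLib.le_of_mul_le_mul hq.1 ?_)
    calc ⊤ * E ≤ E := Groth.Agent.BlowUp95.top_mul_le E
      _ = 𝓘₁.comap q ⊔ 𝓘₂.comap q := Scheme.IdealSheafData.comap_sup _ _ _
      _ ≤ (Q₁ ⊔ Q₂) * E := sup_le
          (e1.ge.trans (Groth.Agent.BlowUp95.mul_le_mul' le_sup_left le_rfl))
          (e2.ge.trans (Groth.Agent.BlowUp95.mul_le_mul' le_sup_right le_rfl))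
  have hoff : ∀ x' : X', q x' ∈ V → x' ∉ (E.support : Set X') := by
    intro x' hx' hxE
    rw [hEdef, Scheme.IdealSheafData.support_comap, Scheme.IdealSheafData.support_sup] at hxE
    exact (h₂ hxE.2).2 hx'
  have hcl : closure ((fun x' => q x') ⁻¹' ((V : Set X) \ (U : Set X))) ⊆ (Q₁.support : Set X') := by
    refine closure_minimal (fun x' hx' ↦ ?_) (TopologicalSpace.Closeds.isClosed _)
    have h3 : x' ∈ ((Q₁ * E).support : Set X') := by
      rw [e1, Scheme.IdealSheafData.support_comap]; exact h₁ hx'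
    rw [Scheme.IdealSheafData.support_mul] at h3
    exact h3.resolve_right (hoff x' hx'.1)
  set S := Set.range (fun y => (pullback.snd f π) y)
  set K := Scheme.IdealSheafData.vanishingIdeal ⟨closure S, isClosed_closure⟩
  have hS : ∀ s ∈ S, π s ∈ Set.range f := by
    rintro _ ⟨y, rfl⟩
    refine ⟨pullback.fst f π y, ?_⟩
    rw [← Scheme.Hom.comp_apply, pullback.condition, Scheme.Hom.comp_apply]
  have hd : ∀ s ∈ S, s ∉ ((E.comap p').support : Set _) := by
    intro s hs
    obtain ⟨y, hy⟩ := hS s hs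
    rw [Scheme.IdealSheafData.support_comap]
    refine hoff _ (hUV ?_)
    rw [← Scheme.Hom.comp_apply, ← pullback.condition, Scheme.Hom.comp_apply]
    exact hY ⟨y, by simp only [π, hy]⟩
  have hK : f.ker.comap π ≤ K := Groth.Agent.BlowUp95.le_vanishingIdeal_closure fun s hs ↦ by
    rw [Scheme.IdealSheafData.support_comap]
    exact f.range_subset_ker_support (hS s hs)
  have hpush : ∀ A : X.IdealSheafData, (A.comap p).comap π = (A.comap q).comap p' := fun A ↦ by
    rw [← Scheme.IdealSheafData.comap_comp, ← Scheme.IdealSheafData.comap_comp, pullback.condition]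
  have hineq : Q₂.comap p' * E.comap p' ≤
      (Q₁.comap p' * Q₁.comap p' * E.comap p') * E.comap p' ⊔ K := by
    have h4 := Groth.Agent.BlowUp95.le_sup_comap π hincl
    rw [Scheme.IdealSheafData.comap_sup, hpush, hpush] at h4
    rw [← ModPairLib.ideal_comap_mul, e2]
    refine h4.trans (sup_le_sup (le_of_eq ?_) hK)
    rw [← ModPairLib.ideal_comap_mul, ← ModPairLib.ideal_comap_mul, ← ModPairLib.ideal_comap_mul,
      ModPairLib.ideal_comap_mul 𝓘₁ 𝓘₁, ← e1]
    congr 1
    ac_rfl
  have hcanc := Groth.Agent.BlowUp95.le_sup_of_mul_le_mul_sup (hE.comap p')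
    (Groth.Agent.BlowUp95.colon_vanishingIdeal_le (hE.comap p') _ S le_rfl subset_closure hd) hineq
  rw [Set.disjoint_left]
  intro z hz hz'
  have h5 : z ∈ ((Q₁.comap p').support : Set _) := by
    rw [Scheme.IdealSheafData.support_comap]; exact hcl hz'
  have h6 : z ∈ ((Q₂.comap p').support : Set _) :=
    Scheme.IdealSheafData.support_antitone hcanc (Groth.Agent.BlowUp95.mem_support_sup
      (by rw [Scheme.IdealSheafData.support_mul, Scheme.IdealSheafData.support_mul]
          exact Or.inl (Or.inl h5))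
      (Groth.Agent.BlowUp95.subset_support_vanishingIdeal _ hz))
  rw [Scheme.IdealSheafData.support_comap] at h5 h6
  exact Groth.Agent.BlowUp95.notMem_supports htop h5 h6

end Groth.Agent.S17391
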