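import Groth.Statements.S17392
import Groth.Agent.BlowUp95.Separate

set_option autoImplicit false
universe u
open BlowUp

namespace Groth.Agent.S17392

open AlgebraicGeometry CategoryTheory Limits in
/-- Let X₁ and X₂ be quasi-compact quasi-separated schemes, q : X₂ → X₁ a quasi-compact separated
morphism, V₁ ⊆ X₁ a quasi-compact open subscheme and U ⊆ q⁻¹(V₁) an open subscheme of X₂ on which q
restricts to an open immersion (so U is identified with an open of V₁). Let Z₁ ⊆ X₁ be a closed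
subset whose open complement is quasi-compact, put Y₁ = Z₁ ∩ V₁, and let Z₂ ⊆ X₂ be a closed subset
whose open complement is also quasi-compact, with q⁻¹(Y₁) ⊆ Z₂. Then there is a quasi-coherent ideal
E of finite type on X₁ with support contained in Z₁ ∖ V₁ (so that blowing up E is V₁-admissible)
such that, for every blowing up c : X₁' → X₁ of X₁ in E with base change q' : X₂' = X₂ ×_{X₁} X₁' →
X₁' and c₂ : X₂' → X₂, one has q'⁻¹(closure of c⁻¹(Y₁)) ∩ closure(c₂⁻¹(U)) ⊆ c₂⁻¹(Z₂) as subsets of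
X₂'. -/
theorem result
    {X₁ X₂ : Scheme.{u}} [CompactSpace X₁] [QuasiSeparatedSpace X₁] [CompactSpace X₂] [QuasiSeparatedSpace X₂]
    (q : X₂ ⟶ X₁) [QuasiCompact q] [IsSeparated q]
    (V₁ : X₁.Opens) (hV₁ : IsCompact (V₁ : Set X₁))
    (U : X₂.Opens) (hU : U ≤ q ⁻¹ᵁ V₁) [IsOpenImmersion (U.ι ≫ q)]
    (Z₁ : Set X₁) (hZ₁ : IsClosed Z₁) (hZ₁c : IsCompact Z₁ᶜ)
    (Z₂ : Set X₂) (hZ₂ : IsClosed Z₂) (hZ₂c : IsCompact Z₂ᶜ)
    (hYZ : (fun x => q x) ⁻¹' (Z₁ ∩ (V₁ : Set X₁)) ⊆ Z₂) :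
    ∃ 𝓔 : X₁.IdealSheafData, BlowUp.IsFiniteTypeIdeal 𝓔 ∧ (𝓔.support : Set X₁) ⊆ Z₁ \ (V₁ : Set X₁) ∧
      ∀ (X₁' : Scheme.{u}) (c : X₁' ⟶ X₁), BlowUp.IsBlowUp c 𝓔 →
        (fun z => (pullback.snd q c) z) ⁻¹' closure ((fun x => c x) ⁻¹' (Z₁ ∩ (V₁ : Set X₁))) ∩
            closure ((fun z => (pullback.fst q c) z) ⁻¹' (U : Set X₂)) ⊆
          (fun z => (pullback.fst q c) z) ⁻¹' Z₂ := by
  obtain ⟨I₁, hI₁, hs₁⟩ := Groth.Agent.BlowUp95.exists_fg_ideal_support Z₁ hZ₁ hZ₁c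
  obtain ⟨I₂, hI₂, hs₂⟩ := Groth.Agent.BlowUp95.exists_fg_ideal_support ((V₁ : Set X₁)ᶜ)
    V₁.2.isClosed_compl (by rwa [compl_compl])
  let W₂ : X₂.Opens := ⟨Z₂ᶜ, hZ₂.isOpen_compl⟩
  have : CompactSpace W₂.toScheme := isCompact_iff_compactSpace.mp (show IsCompact (W₂ : Set X₂) from hZ₂c)
  let p : W₂.toScheme ⟶ X₁ := W₂.ι ≫ q
  set S : Set W₂.toScheme := W₂.ι ⁻¹' (U : Set X₂)
  set IG := Scheme.IdealSheafData.vanishingIdeal
    (⟨closure S, isClosed_closure⟩ : TopologicalSpace.Closeds W₂.toScheme)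
  have hIG : (IG.support : Set W₂.toScheme) = closure S := by
    simp [IG, Scheme.IdealSheafData.coe_support_vanishingIdeal]
  have hsupp : ((((I₁.comap p) ⊔ IG).map p).support : Set X₁) ⊆ I₂.support := by
    rw [Scheme.IdealSheafData.support_map, TopologicalSpace.Closeds.coe_closure]
    refine closure_minimal ?_ (TopologicalSpace.Closeds.isClosed _)
    rintro _ ⟨w, hw, rfl⟩
    rw [Scheme.IdealSheafData.support_sup] at hw
    have hw1 : p w ∈ Z₁ := by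
      have := hw.1
      rw [Scheme.IdealSheafData.support_comap] at this
      exact hs₁ ▸ this
    rw [hs₂]
    intro hwV
    exact w.2 (hYZ ⟨hw1, hwV⟩)
  obtain ⟨n, hn⟩ := Groth.Agent.IdSheafPow.exists_pow_le I₂ _ hI₂ hsupp
  have hsE : ((I₁ ⊔ I₂ ^ (n + 1)).support : Set X₁) = Z₁ \ (V₁ : Set X₁) := by
    rw [Scheme.IdealSheafData.support_sup, Scheme.IdealSheafData.support_pow _ _ n.succ_ne_zero,
      TopologicalSpace.Closeds.coe_inf, hs₁, hs₂, Set.sdiff_eq]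
  refine ⟨I₁ ⊔ I₂ ^ (n + 1), fun V ↦ ?_, hsE.le, ?_⟩
  · rw [Scheme.IdealSheafData.ideal_sup, Pi.sup_apply, Scheme.IdealSheafData.ideal_pow, Pi.pow_apply]
    exact Submodule.FG.sup (hI₁ V) (Ideal.FG.pow (hI₂ V))
  intro X₁' c hc z hz
  by_contra hzZ
  let m : pullback p c ⟶ pullback q c :=
    (pullbackRightPullbackFstIso q c W₂.ι).inv ≫ pullback.snd W₂.ι (pullback.fst q c)
  have hm1 : m ≫ pullback.fst q c = pullback.fst p c ≫ W₂.ι := by
    simp only [m, Category.assoc, ← pullback.condition]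
    rw [← pullbackRightPullbackFstIso_hom_fst q c W₂.ι]
    simp [p]
  have hm2 : m ≫ pullback.snd q c = pullback.snd p c := by
    simp [m, p]
  have : IsOpenImmersion m := by infer_instance
  have hzr : z ∈ Set.range m := by
    have h1 : z ∈ Set.range (pullback.snd W₂.ι (pullback.fst q c)) := by
      rw [Scheme.Pullback.range_snd, Scheme.Opens.range_ι]
      exact hzZ
    obtain ⟨w, hw⟩ := h1
    refine ⟨(pullbackRightPullbackFstIso q c W₂.ι).hom w, ?_⟩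
    rw [← Scheme.Hom.comp_apply]
    simp only [m, Iso.hom_inv_id_assoc]
    exact hw
  obtain ⟨w, rfl⟩ := hzr
  refine Groth.Agent.BlowUp95.separate p IG (le_sup_left : I₁ ≤ I₁ ⊔ I₂ ^ (n + 1)) ?_ hc
    (Z₁ ∩ (V₁ : Set X₁)) (fun x hx ↦ hs₁ ▸ hx.1) (fun x hx hxE ↦ (hsE.le hxE).2 hx.2)
    S (hIG ▸ subset_closure) (fun s hs hsE' ↦ (hsE.le hsE').2 (hU hs)) w ?_ ?_
  · rw [Scheme.IdealSheafData.comap_sup]
    exact sup_le le_sup_left (Scheme.IdealSheafData.le_map_iff_comap_le.1 (hn _ n.le_succ))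
  · have h3 : pullback.snd q c (m w) ∈ closure (c ⁻¹' (Z₁ ∩ (V₁ : Set X₁))) := hz.1
    rwa [← Scheme.Hom.comp_apply, hm2] at h3
  · have h4 : w ∈ m ⁻¹' closure (pullback.fst q c ⁻¹' (U : Set X₂)) := hz.2
    rw [m.isOpenEmbedding.isOpenMap.preimage_closure_eq_closure_preimage m.continuous,
      ← Set.preimage_comp] at h4
    have h5 : (pullback.fst q c ∘ m : _ → X₂) = W₂.ι ∘ pullback.fst p c := by
      funext t
      simp only [Function.comp_apply, ← Scheme.Hom.comp_apply, hm1]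
    rw [h5] at h4
    exact h4

end Groth.Agent.S17392
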