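import Groth.Statements.S17396
import Groth.Agent.H44Cyc.Etale

set_option autoImplicit false
universe u
open CycCov

namespace Groth.Agent.S17396

open CategoryTheory AlgebraicGeometry in
/-- For X integral and smooth over an algebraically closed field k, L an invertible module, N ≥ 1
invertible in k, D_1, …, D_r a strict normal crossing divisor on X with multiplicities α_j, s a
global section of the N-th tensor power of L whose divisor of zeros is D = Σ α_j D_j, and π : Y → X
with its root datum the normalised cyclic N-th-root cover of X defined by s, the morphism π is étale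
over every open W of X disjoint from the components D_j with α_j > 0. (The published claim allows
any effective divisor on a manifold; it is stated here for components forming a strict normal
crossing divisor.) -/
theorem result {k : Type u} [Field k] [IsAlgClosed k] {X Y : Scheme.{u}}
    (f : X ⟶ Spec (CommRingCat.of k)) [Smooth f] [IsIntegral X]
    (L : X.Modules) (hL : PicF.IsInvertible L) (N : ℕ) (hN : 0 < N) (hNk : (N : k) ≠ 0)
    {r : ℕ} (D : Fin r → X.IdealSheafData) (α : Fin r → ℕ) (hD : LogNCD.IsNCD D f)
    (s : Coh.structureModule X ⟶ CohB1.tensorPow L N) (hs : CycCov.IsZeroDiv (CohB1.tensorPow L N) s (CycCov.divIdeal D α))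
    (π : Y ⟶ X) (R : CycCov.Root L N s π) (hR : CycCov.IsCover R)
    (W : X.Opens) (hW : ∀ j : Fin r, 0 < α j → Disjoint (W : Set X) ((D j).support : Set X)) :
    Etale (π ∣_ W) := by

  classical
  haveI := hR.1
  refine H44Cyc.etale_of_forall_app π W fun x hx => ?_
  obtain ⟨U, e, hxU, hUW, he⟩ := H44Cyc.exists_frame_le hL hx
  haveI : Nonempty U.1 := ⟨⟨x, hxU⟩⟩
  obtain ⟨g, hg⟩ := H44Cyc.exists_coord_val s he
  have hgu : IsUnit g := by
    rw [← Ideal.span_singleton_eq_top, ← H44Cyc.span_coord hs he hg]
    exact H44Cyc.ideal_divIdeal_eq_top D α fun j hj y hy hyD => Set.disjoint_left.1 (hW j hj) (hUW hy) hyD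
  obtain ⟨hNA, ζ, hζ⟩ := H44Cyc.exists_primitiveRoot f hNk U.1
  haveI := H44Cyc.isIntegrallyClosed_sections f U.2
  exact ⟨U, hxU, hUW, (H44Cyc.covData hL hN hR U he hg).etale hN hNA hζ hgu⟩

end Groth.Agent.S17396
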