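import Groth.Statements.S17397
import Groth.Agent.H44Cyc.BranchScheme
import Groth.Agent.SmoothVarLib.Basic

set_option autoImplicit false
universe u
open CycCov

namespace Groth.Agent.S17397

open CategoryTheory AlgebraicGeometry in
/-- For X integral and smooth over an algebraically closed field k, L an invertible module, N ≥ 1
invertible in k, D_1, …, D_r a strict normal crossing divisor on X with multiplicities α_j, s a
global section of the N-th tensor power of L whose divisor of zeros is D = Σ α_j D_j, and π : Y → X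
with its root datum the normalised cyclic N-th-root cover of X defined by s, the open π⁻¹W of Y is
smooth over k (Y is non-singular there) for every open W of X through each point of which at most
one of the components D_j with α_j > 0 passes, that is, W avoids the singular points of the reduced
divisor of D. (The published claim allows any effective divisor on a manifold; it is stated here for
components forming a strict normal crossing divisor.) -/
theorem result {k : Type u} [Field k] [IsAlgClosed k] {X Y : Scheme.{u}}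
    (f : X ⟶ Spec (CommRingCat.of k)) [Smooth f] [IsIntegral X]
    (L : X.Modules) (hL : PicF.IsInvertible L) (N : ℕ) (hN : 0 < N) (hNk : (N : k) ≠ 0)
    {r : ℕ} (D : Fin r → X.IdealSheafData) (α : Fin r → ℕ) (hD : LogNCD.IsNCD D f)
    (s : Coh.structureModule X ⟶ CohB1.tensorPow L N) (hs : CycCov.IsZeroDiv (CohB1.tensorPow L N) s (CycCov.divIdeal D α))
    (π : Y ⟶ X) (R : CycCov.Root L N s π) (hR : CycCov.IsCover R)
    (W : X.Opens) (hW : ∀ x ∈ W, ∀ j j' : Fin r, 0 < α j → 0 < α j' → x ∈ (D j).support → x ∈ (D j').support → j = j') :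
    Smooth ((π ⁻¹ᵁ W).ι ≫ π ≫ f) := by

  classical
  haveI := hR.1
  let Z := π ⁻¹ᵁ W
  refine (HasRingHomProperty.iff_exists_appLE (P := @Smooth)
    (RingHom.Smooth.stableUnderComposition.stableUnderCompositionWithLocalizationAway
      RingHom.Smooth.holdsForLocalizationAway).1).2 fun z => ?_
  obtain ⟨U, hxU, hUW, hreg, -⟩ := H44Cyc.exists_branch_chart f hL hN hNk hD hs hR (show π z.1 ∈ W from z.2)
    (hW (π z.1) z.2)
  let V : Y.affineOpens := ⟨π ⁻¹ᵁ U.1, U.2.preimage π⟩
  have hVZ : V.1 ≤ Z.ι.opensRange := by rw [Scheme.Opens.opensRange_ι]; exact π.preimage_mono hUW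
  refine ⟨⟨⊤, isAffineOpen_top _⟩, ⟨Z.ι ⁻¹ᵁ V.1, V.2.preimage_of_isOpenImmersion Z.ι hVZ⟩, hxU, le_top, ?_⟩
  rw [← Scheme.Hom.appLE_comp_appLE Z.ι (π ≫ f) ⊤ V.1 (Z.ι ⁻¹ᵁ V.1) le_top le_rfl, CommRingCat.hom_comp]
  refine RingHom.Smooth.comp ?_ ?_
  · let g : Γ(Spec (CommRingCat.of k), ⊤) →+* Γ(Y, V.1) := ((π ≫ f).appLE ⊤ V.1 le_top).hom
    letI : Algebra k Γ(Y, V.1) := (g.comp (Scheme.ΓSpecIso (CommRingCat.of k)).inv.hom).toAlgebra
    haveI : IsRegularRing Γ(Y, V.1) := hreg
    have hft : g.FiniteType :=
      HasRingHomProperty.appLE @LocallyOfFiniteType (π ≫ f) inferInstance ⟨⊤, isAffineOpen_top _⟩ V le_top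
    haveI : Algebra.FiniteType k Γ(Y, V.1) :=
      hft.comp (RingHom.FiniteType.of_surjective _
        (Scheme.ΓSpecIso (CommRingCat.of k)).commRingCatIsoToRingEquiv.symm.surjective)
    have hs : (g.comp (Scheme.ΓSpecIso (CommRingCat.of k)).inv.hom).Smooth :=
      RingHom.smooth_algebraMap.2 (SmoothVarLib.smooth_of_regular k Γ(Y, V.1))
    have h2 := RingHom.Smooth.comp (RingHom.Smooth.of_bijective
      (Scheme.ΓSpecIso (CommRingCat.of k)).commRingCatIsoToRingEquiv.bijective) hs
    convert h2 using 1
    ext a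
    exact congrArg g ((Scheme.ΓSpecIso (CommRingCat.of k)).commRingCatIsoToRingEquiv.symm_apply_apply a).symm
  · rw [← Scheme.Hom.app_eq_appLE]
    haveI := Z.ι.isIso_app V.1 hVZ
    exact RingHom.Smooth.of_bijective (ConcreteCategory.bijective_of_isIso (Z.ι.app V.1))

end Groth.Agent.S17397
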