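import Groth.Statements.S17399
import Groth.Agent.H44Cyc.BranchScheme

set_option autoImplicit false
universe u
open CycCov

namespace Groth.Agent.S17399

open CategoryTheory AlgebraicGeometry in
/-- For X integral and smooth over an algebraically closed field k, L an invertible module, N ≥ 1
invertible in k, D_1, …, D_r a strict normal crossing divisor on X with multiplicities α_j, s a
global section of the N-th tensor power of L whose divisor of zeros is D = Σ α_j D_j, and π : Y → X
with its root datum the normalised cyclic N-th-root cover of X defined by s, write Δ_j for the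
reduced preimage of D_j. Then π^*D = Σ_j (N·α_j / gcd(N, α_j)) Δ_j. This is an equality of divisors
on the normal scheme Y; it is stated here as an equality of ideals over the affine opens V of Y
lying over an open W of X through each point of which at most one component D_j passes (there Y is
regular and Δ_j is Cartier): the pull-back of ∏ 𝓘_{D_j}^{α_j} agrees on V with ∏_j
rad(π^*𝓘_{D_j})^{N α_j / gcd(N, α_j)}. (Where two components meet the ideal-theoretic equality fails
although the divisors agree.) (The published claim allows any effective divisor on a manifold; it is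
stated here for components forming a strict normal crossing divisor.) -/
theorem result {k : Type u} [Field k] [IsAlgClosed k] {X Y : Scheme.{u}}
    (f : X ⟶ Spec (CommRingCat.of k)) [Smooth f] [IsIntegral X]
    (L : X.Modules) (hL : PicF.IsInvertible L) (N : ℕ) (hN : 0 < N) (hNk : (N : k) ≠ 0)
    {r : ℕ} (D : Fin r → X.IdealSheafData) (α : Fin r → ℕ) (hD : LogNCD.IsNCD D f)
    (s : Coh.structureModule X ⟶ CohB1.tensorPow L N) (hs : CycCov.IsZeroDiv (CohB1.tensorPow L N) s (CycCov.divIdeal D α))
    (π : Y ⟶ X) (R : CycCov.Root L N s π) (hR : CycCov.IsCover R)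
    (W : X.Opens) (hW : ∀ x ∈ W, ∀ j j' : Fin r, x ∈ (D j).support → x ∈ (D j').support → j = j')
    (V : Y.affineOpens) (hV : V.1 ≤ π ⁻¹ᵁ W) :
    ((CycCov.divIdeal D α).comap π).ideal V = (∏ j : Fin r, ((D j).comap π).radical ^ (N * α j / Nat.gcd N (α j))).ideal V := by

  haveI := hR.1
  refine H44Cyc.ideal_eq_of_cover V fun y hy => ?_
  obtain ⟨U, hyU, hU, h⟩ := H44Cyc.comap_ideal_eq f hL hN hNk hD hs hR W hW hV hy
  refine ⟨⟨π ⁻¹ᵁ U.1, hU⟩, hyU, ?_⟩
  simp only [H44Cyc.ideal_comap_preimage, H44Cyc.ideal_divIdeal, H44Cyc.ideal_finset_prod,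
    Scheme.IdealSheafData.ideal_pow, Pi.pow_apply] at h ⊢
  rw [← Ideal.mapHom_apply, map_prod]
  refine Finset.prod_congr rfl fun j _ => ?_
  rw [map_pow, Ideal.mapHom_apply, h j (α j), Nat.mul_comm N (α j), Nat.mul_div_assoc (α j) (Nat.gcd_dvd_left N (α j)),
    Nat.mul_comm (α j)]

end Groth.Agent.S17399
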