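import Groth.Statements.S17403
import Groth.Agent.H44Cyc.Irred

set_option autoImplicit false
universe u
open CycCov

namespace Groth.Agent.S17403

open CategoryTheory AlgebraicGeometry Opposite in
/-- For X integral and smooth over an algebraically closed field k, L an invertible module, N ≥ 1
invertible in k, D_1, …, D_r a strict normal crossing divisor on X with multiplicities α_j, s a
global section of the N-th tensor power of L whose divisor of zeros is D = Σ α_j D_j, and π : Y → X
with its root datum the normalised cyclic N-th-root cover of X defined by s, the scheme Y fails to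
be irreducible exactly when, for some divisor μ > 1 of N, s is the μ-th power of a global section s'
of the (N/μ)-th tensor power of L; the power relation is stated frame by frame: on every affine open
with a frame e of L, if s = a · e^{⊗N} and s' = b · e^{⊗(N/μ)} then a = b^μ. (The published claim
allows any effective divisor on a manifold; it is stated here for components forming a strict normal
crossing divisor.) -/
theorem result {k : Type u} [Field k] [IsAlgClosed k] {X Y : Scheme.{u}}
    (f : X ⟶ Spec (CommRingCat.of k)) [Smooth f] [IsIntegral X]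
    (L : X.Modules) (hL : PicF.IsInvertible L) (N : ℕ) (hN : 0 < N) (hNk : (N : k) ≠ 0)
    {r : ℕ} (D : Fin r → X.IdealSheafData) (α : Fin r → ℕ) (hD : LogNCD.IsNCD D f)
    (s : Coh.structureModule X ⟶ CohB1.tensorPow L N) (hs : CycCov.IsZeroDiv (CohB1.tensorPow L N) s (CycCov.divIdeal D α))
    (π : Y ⟶ X) (R : CycCov.Root L N s π) (hR : CycCov.IsCover R) :
    ¬ IrreducibleSpace Y ↔
      ∃ μ : ℕ, 1 < μ ∧ μ ∣ N ∧ ∃ s' : Coh.structureModule X ⟶ CohB1.tensorPow L (N / μ),
        ∀ (U : X.affineOpens) (e : L.val.obj (op U.1)), CycCov.IsGen L U.1 e →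
          ∀ a b : Γ(X, U.1), SecTwist.val s U.1 = a • CycCov.lpow L U.1 e N →
            SecTwist.val s' U.1 = b • CycCov.lpow L U.1 e (N / μ) → a = b ^ μ := by

  classical
  haveI := hR.1
  obtain ⟨x⟩ := (inferInstance : Nonempty X)
  obtain ⟨U, e, hxU, -, he⟩ := H44Cyc.exists_frame_le hL (show x ∈ (⊤ : X.Opens) from trivial)
  haveI : Nonempty U.1 := ⟨⟨x, hxU⟩⟩
  obtain ⟨g, hg⟩ := H44Cyc.exists_coord_val s he
  obtain ⟨hNA, ζ, hζ⟩ := H44Cyc.exists_primitiveRoot f hNk U.1
  haveI := H44Cyc.isIntegrallyClosed_sections f U.2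
  have hc := H44Cyc.covData hL hN hR U he hg
  constructor
  · intro hirr
    by_contra hno
    apply hirr
    haveI := hc.isDomain hN (H44Cyc.irreducible_X_pow_sub_C hN
      (hζ.map_of_injective (IsFractionRing.injective Γ(X, U.1) (FractionRing Γ(X, U.1)))) fun p hp hpN b hb => by
        obtain ⟨b₀, rfl⟩ := IsIntegrallyClosed.exists_algebraMap_eq_of_isIntegral_pow hp.pos
          (R := Γ(X, U.1)) (K := FractionRing Γ(X, U.1)) (x := b) (hb ▸ isIntegral_algebraMap)
        have hb₀ : b₀ ^ p = g := IsFractionRing.injective Γ(X, U.1) (FractionRing Γ(X, U.1))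
          (by rw [map_pow]; exact hb)
        exact hno ⟨p, hp.one_lt, hpN, H44Cyc.exists_root_section f hL U he hg hp.pos
          (Nat.div_mul_cancel hpN).symm hb₀⟩)
    exact H44Cyc.irreducibleSpace_of_isDomain hL hN hR U
  · rintro ⟨μ, hμ, hμN, s1, hs1⟩ hirr
    obtain ⟨b, hb⟩ := H44Cyc.exists_coord_val s1 he
    exact hc.not_isDomain hN hμ hμN (hs1 U e (H44Cyc.isGen_of_isFrame he) g b hg hb).symm
      (H44Cyc.isDomain_of_irreducibleSpace hR (hc.nontrivial hN))

end Groth.Agent.S17403
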