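import Groth.Statements.S17405
import Groth.Agent.H44Cyc.OmegaDecomp
import Groth.Agent.H44Cyc.NCDUp
import Groth.Agent.S17397

set_option autoImplicit false
universe u
open CycCov

namespace Groth.Agent.S17405

open CategoryTheory AlgebraicGeometry Limits in
/-- For X integral and smooth over an algebraically closed field k, L an invertible module, N ≥ 1
invertible in k, D_1, …, D_r a strict normal crossing divisor on X with multiplicities α_j, s a
global section of the N-th tensor power of L whose divisor of zeros is D = Σ α_j D_j, and π : Y → X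
with its root datum the normalised cyclic N-th-root cover of X defined by s, assume every α_j > 0
and the D_j pairwise disjoint (the reduced divisor of D is non-singular). Let (Ω'_Y, d_Y) be a
universal receptacle for the differentials of Y over k with a chosen b-th exterior power Ω^b_Y, d a
universal derivation of X over k, and for 0 ≤ i < N let M_i be a tensor inverse of L^{(i)}, D^{(i)}
the family of the D_j with N not dividing i·α_j (assumed again a strict normal crossing divisor),
Λ_i its pinned module of logarithmic differentials and Ω^b_X(log D^{(i)}) a chosen b-th exterior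
power. Then π_*Ω^b_Y = ⊕_{0 ≤ i < N} Ω^b_X(log D^{(i)}) ⊗ M_i: there are morphisms from these
modules to π_*Ω^b_Y forming a coproduct (existence of such a decomposition only). (The published
claim allows any effective divisor on a manifold; it is stated here for components forming a strict
normal crossing divisor.) -/
theorem result {k : Type u} [Field k] [IsAlgClosed k] {X Y : Scheme.{u}}
    (f : X ⟶ Spec (CommRingCat.of k)) [Smooth f] [IsIntegral X]
    (L : X.Modules) (hL : PicF.IsInvertible L) (N : ℕ) (hN : 0 < N) (hNk : (N : k) ≠ 0)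
    {r : ℕ} (D : Fin r → X.IdealSheafData) (α : Fin r → ℕ) (hD : LogNCD.IsNCD D f)
    (s : Coh.structureModule X ⟶ CohB1.tensorPow L N) (hs : CycCov.IsZeroDiv (CohB1.tensorPow L N) s (CycCov.divIdeal D α))
    (π : Y ⟶ X) (R : CycCov.Root L N s π) (hR : CycCov.IsCover R)
    (hα : ∀ j : Fin r, 0 < α j) (hdisj : ∀ (x : X) (j j' : Fin r), x ∈ (D j).support → x ∈ (D j').support → j = j')
    {ΩX : X.Modules} (dX : OmegaSh.Der f ΩX) (hdX : OmegaSh.IsUniversal dX)
    {ΩY : Y.Modules} (dY : OmegaSh.Der (π ≫ f) ΩY) (hdY : OmegaSh.IsUniversal dY)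
    (b : ℕ) (LbY : Y.Modules) (hLbY : ExtPow.IsExtPow b ΩY LbY)
    (M : Fin N → X.Modules) (hM : ∀ i : Fin N, ClSub.IsInverseOf (CycCov.intPart L D α N i) (M i))
    (hDi : ∀ i : Fin N, LogNCD.IsNCD (CycCov.poleDiv D α N i) f)
    (Λ : ∀ i : Fin N, LogNCD.LogMod dX (CycCov.poleDiv D α N i))
    (Lb : Fin N → X.Modules) (hLb : ∀ i : Fin N, ExtPow.IsExtPow b (Λ i).L (Lb i)) :
    ∃ c : ∀ i : Fin N, CohB1.tensorMod (Lb i) (M i) ⟶ (Scheme.Modules.pushforward π).obj LbY,
      Nonempty (IsColimit (Cofan.mk ((Scheme.Modules.pushforward π).obj LbY) c)) := by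

  classical
  haveI := hR.1
  haveI : NeZero N := ⟨hN.ne'⟩
  have hΔ := H44Cyc.isNCD_radical_comap (R := R) f hL hN hNk hD hs hR fun x j j' _ _ => hdisj x j j'
  haveI : Smooth (π ≫ f) := by
    have h := S17397.result f L hL N hN hNk D α hD s hs π R hR ⊤ fun x _ j j' _ _ => hdisj x j j'
    haveI : Smooth ((⊤ : Y.Opens).ι ≫ π ≫ f) := h
    rw [show π ≫ f = Y.topIso.inv ≫ (⊤ : Y.Opens).ι ≫ π ≫ f by
      rw [← Category.assoc, ← Scheme.topIso_hom, Iso.inv_hom_id, Category.id_comp]]
    infer_instance
  obtain ⟨ΛX⟩ := S17127.result f dX hdX D hD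
  obtain ⟨ΛY⟩ := S17127.result (π ≫ f) dY hdY (fun j : Fin r => ((D j).comap π).radical) hΔ
  obtain ⟨Llog, hLlog⟩ := H44Adj.exists_isExtPow (E := ΛY.L) (i := b) (H44Cyc.isQCoh_logMod hdY hΔ ΛY)
  exact H44Cyc.exists_decomp_omega (R := R) hL hNk hD hs hR hdisj hdX hdY ΛX ΛY hΔ hLbY hLlog M hM Λ Lb hLb

end Groth.Agent.S17405
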