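import Groth.Statements.S17447
import Groth.Agent.Hensel93.FinitePart
import Groth.Agent.S17461
import Groth.Agent.SGA1Q.SigmaFinite

set_option autoImplicit false
universe u
open CategoryTheory CategoryTheory.Limits AlgebraicGeometry
open Hensel

namespace Groth.Agent.S17447

/-- Let R be a henselian local ring and X → Spec R a quasi-finite separated morphism (locally of finite
type, quasi-compact, with discrete fibres). Then X decomposes uniquely as the disjoint union of an
open and closed subscheme finite over Spec R and an open and closed subscheme with empty special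
fibre: there is exactly one open subset W of X which is closed, finite over Spec R (as an open
subscheme) and contains every point lying over the closed point of Spec R. (No Noetherian hypothesis
on R.) -/
theorem result (R : Type u) [CommRing R] [HenselianLocalRing R]
    {X : Scheme.{u}} (f : X ⟶ Spec (CommRingCat.of R))
    [LocallyQuasiFinite f] [LocallyOfFiniteType f] [QuasiCompact f] [IsSeparated f] :
    ∃! W : X.Opens, IsClosed (W : Set X) ∧ IsFinite (W.ι ≫ f) ∧
      ∀ x : X, f.base x = IsLocalRing.closedPoint R → x ∈ W := by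
  haveI : CompactSpace X := QuasiCompact.compactSpace_of_compactSpace f
  choose V hV hxV using fun x : X => exists_isAffineOpen_mem_and_subset (X := X) (U := ⊤) (x := x) trivial
  obtain ⟨s, hs⟩ := (isCompact_univ (X := X)).elim_finite_subcover (fun x => (V x : Set X))
    (fun x => (V x).isOpen) (fun x _ => Set.mem_iUnion.2 ⟨x, (hxV x).1⟩)
  choose W hWle hfin hW using fun x : X => Hensel93.exists_finitePart_affine f (hV x)
  have hcl : ∀ x, IsClosed (W x : Set X) := fun x => by
    haveI : IsFinite (W x).ι := by
      haveI := hfin x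
      exact IsFinite.of_comp _ f
    simpa using (W x).ι.isClosedMap.isClosed_range
  let U : X.Opens := ⨆ x : s, W x
  have hUset : (U : Set X) = ⋃ x : s, (W x : Set X) := TopologicalSpace.Opens.coe_iSup _
  have hUcl : IsClosed (U : Set X) := hUset ▸ isClosed_iUnion_of_finite fun x => hcl x
  have hUmem : ∀ x : X, f.base x = IsLocalRing.closedPoint R → x ∈ U := fun x hx => by
    obtain ⟨i, hi, hxi⟩ := Set.mem_iUnion₂.1 (hs (Set.mem_univ x))
    exact TopologicalSpace.Opens.mem_iSup.2 ⟨⟨i, hi⟩, hW i x hxi hx⟩
  haveI : IsClosedImmersion U.ι := IsClosedImmersion.of_isPreimmersion _ (by simpa using hUcl)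
  have hUfin : IsFinite (U.ι ≫ f) := by
    rw [IsFinite.iff_isProper_and_locallyQuasiFinite]
    refine ⟨?_, inferInstance⟩
    haveI : UniversallyClosed (U.ι ≫ f) := by
      let g : (∐ fun x : s => (W x).toScheme) ⟶ U.toScheme :=
        Sigma.desc fun x => X.homOfLE (le_iSup (fun x : s => W x) x)
      haveI : Surjective g := ⟨fun y => by
        obtain ⟨x, hx⟩ := TopologicalSpace.Opens.mem_iSup.1 y.2
        refine ⟨(Sigma.ι (fun x : s => (W x).toScheme) x).base ⟨y.1, hx⟩, ?_⟩
        refine (Scheme.Hom.comp_apply _ g _).symm.trans ?_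
        have e2 : Sigma.ι (fun x : s => (W x).toScheme) x ≫ g = X.homOfLE (le_iSup (fun x : s => W x) x) :=
          Sigma.ι_desc _ _
        refine (show (Sigma.ι (fun x : s => (W x).toScheme) x ≫ g) ⟨y.1, hx⟩ = _ from
          congrArg (fun h : (W x).toScheme ⟶ U.toScheme => h ⟨y.1, hx⟩) e2).trans ?_
        exact Subtype.ext (by simp)⟩
      haveI : IsFinite (g ≫ U.ι ≫ f) := by
        have e : g ≫ U.ι ≫ f = Sigma.desc fun x : s => (W x).ι ≫ f :=
          Sigma.hom_ext _ _ fun x => by simp [g]
        rw [e]
        exact SGA1Q.isFinite_sigmaDesc _ fun x : s => hfin x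
      exact UniversallyClosed.of_comp_surjective g (U.ι ≫ f)
    constructor
  refine ⟨U, ⟨hUcl, hUfin, hUmem⟩, fun U' h => le_antisymm (fun x hx => ?_) (fun x hx => ?_)⟩
  · exact S17461.result R f f U' h U ⟨hUcl, hUfin, hUmem⟩ (𝟙 X) (Category.id_comp f) x hx
  · exact S17461.result R f f U ⟨hUcl, hUfin, hUmem⟩ U' h (𝟙 X) (Category.id_comp f) x hx

end Groth.Agent.S17447
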