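import Groth.Statements.S17449
import Groth.Agent.CStk17.GeomConn.Lsc

set_option autoImplicit false
universe u
open CategoryTheory CategoryTheory.Limits AlgebraicGeometry
open Stein

namespace Groth.Agent.S17449

set_option backward.isDefEq.respectTransparency false
set_option backward.isDefEq.respectTransparency.types false

/-- Let S be a Noetherian scheme and f : X → S a proper, flat and surjective morphism. Suppose that for
every generic point η of an irreducible component of S the fibre of f at η is geometrically
connected and smooth over the residue field κ(η). Then every fibre of f is geometrically connected. -/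
theorem result {X S : Scheme.{u}}
    (f : X ⟶ S) [IsProper f] [Flat f] [Surjective f] [IsNoetherian S]
    (h : ∀ (Z : Set ↑S) (η : ↑S), Z ∈ irreducibleComponents ↑S → IsGenericPoint η Z →
      GeometricallyConnected (f.fiberToSpecResidueField η) ∧ Smooth (f.fiberToSpecResidueField η)) :
    GeometricallyConnected f := by
  haveI key : ∀ s : S, GeometricallyConnected (f.fiberToSpecResidueField s) := fun s => by
    refine (CStk17.GeomConn.nGeom_eq_one_iff f s).1 (CStk17.GeomConn.nGeom_eq_one_of_generic f s fun η _ hmin => ?_)
    refine (CStk17.GeomConn.nGeom_eq_one_iff f η).2 (h (irreducibleComponent η) η
      (irreducibleComponent_mem_irreducibleComponents η) ?_).1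
    have hirr : IsIrreducible (irreducibleComponent η) := isIrreducible_irreducibleComponent
    have hg := hirr.isGenericPoint_genericPoint isClosed_irreducibleComponent
    have e := hmin _ (hg.specializes mem_irreducibleComponent)
    have hg' : closure ({hirr.genericPoint} : Set S) = irreducibleComponent η := hg
    rw [e] at hg'
    exact hg'
  exact (GeometricallyConnected.iff_geometricallyConnected_fiber f).2 key

end Groth.Agent.S17449
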