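import Groth.Statements.S1745
import Mathlib
-- import your own Groth.Agent.* helpers here

set_option autoImplicit false
universe u
open scoped TensorProduct
open InjHull

namespace Groth.Agent.S1745

variable {A B : Type u} [CommRing A] [CommRing B] [Algebra A B]
  (I : Type u) [AddCommGroup I] [Module A I]

/-- A linear map factoring through a surjection. -/
theorem exists_factor {R M N P : Type*} [CommRing R] [AddCommGroup M] [Module R M] [AddCommGroup N]
    [Module R N] [AddCommGroup P] [Module R P] (π : M →ₗ[R] N) (hπ : Function.Surjective π)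
    (φ : M →ₗ[R] P) (h : LinearMap.ker π ≤ LinearMap.ker φ) :
    ∃ g : N →ₗ[R] P, ∀ x, g (π x) = φ x :=
  ⟨(LinearMap.ker π).liftQ φ h ∘ₗ (π.quotKerEquivOfSurjective hπ).symm.toLinearMap, fun x => by
    have : (π.quotKerEquivOfSurjective hπ).symm (π x) = Submodule.Quotient.mk x :=
      (LinearEquiv.symm_apply_eq _).2 rfl
    simp [this]⟩

theorem extends_map_ideal [IsNoetherianRing A] [Module.Flat A B] [Module.Injective A I]
    (p : Ideal A) (h : p.map (algebraMap A B) →ₗ[B] B ⊗[A] I) :
    ∃ y : B ⊗[A] I, ∀ z : p.map (algebraMap A B), h z = (z : B) • y := by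
  classical
  obtain ⟨n, a, ha⟩ := Submodule.fg_iff_exists_fin_generating_family.1 (IsNoetherian.noetherian p)
  have hap : ∀ j, a j ∈ p := fun j => ha.le (Submodule.subset_span ⟨j, rfl⟩)
  let π : (Fin n → A) →ₗ[A] p :=
    Fintype.linearCombination A (fun j => (⟨a j, hap j⟩ : p))
  have hπval : ∀ r, (π r : A) = ∑ j, r j * a j := fun r => by
    simp [π, Fintype.linearCombination_apply]
  have hπ : Function.Surjective π := fun x => by
    obtain ⟨c, hc⟩ := (Submodule.mem_span_range_iff_exists_fun A).1 (ha.ge x.2)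
    exact ⟨c, Subtype.ext (by rw [hπval]; exact hc)⟩
  obtain ⟨m, ρ, hρ⟩ := Submodule.fg_iff_exists_fin_generating_family.1
    (IsNoetherian.noetherian (LinearMap.ker π))
  let ψ : (Fin n → I) →ₗ[A] (Fin m → I) :=
    LinearMap.pi fun k => ∑ j, ρ k j • LinearMap.proj j
  let e := TensorProduct.piRight A A B (fun _ : Fin n => I)
  let e' := TensorProduct.piRight A A B (fun _ : Fin m => I)
  let aj : Fin n → p.map (algebraMap A B) := fun j =>
    ⟨algebraMap A B (a j), Ideal.mem_map_of_mem _ (hap j)⟩
  let v : Fin n → B ⊗[A] I := fun j => h (aj j)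
  have hrel : ∀ k, ∑ j, ρ k j • v j = 0 := fun k => by
    have hk : π (ρ k) = 0 := hρ.le (Submodule.subset_span ⟨k, rfl⟩)
    have h0 : ∑ j, algebraMap A B (ρ k j) • aj j = 0 := Subtype.ext (by
      rw [Submodule.coe_sum]
      simp only [Submodule.coe_smul, aj, smul_eq_mul, ← map_mul]
      rw [← map_sum, ← hπval, hk]
      simp)
    have := congrArg h h0
    rw [map_sum, map_zero] at this
    simpa [map_smul, v] using this
  have key : ∀ z : B ⊗[A] (Fin n → I), ∀ k,
      e' (ψ.lTensor B z) k = ∑ j, ρ k j • e z j := by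
    intro z k
    induction z using TensorProduct.induction_on with
    | zero => simp
    | add z w hz hw => simp [hz, hw, Finset.sum_add_distrib]
    | tmul b w => simp [e, e', ψ, TensorProduct.tmul_sum, TensorProduct.tmul_smul]
  have hz : ψ.lTensor B (e.symm v) = 0 := e'.injective (funext fun k => by
    rw [key, LinearEquiv.apply_symm_apply, hrel, map_zero]; rfl)
  obtain ⟨u, hu⟩ := (Module.Flat.lTensor_exact B (LinearMap.exact_subtype_ker_map ψ) (e.symm v)).1 hz
  have hY : ∀ u : B ⊗[A] LinearMap.ker ψ, ∃ Y : B ⊗[A] I,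
      ∀ j, a j • Y = e ((LinearMap.ker ψ).subtype.lTensor B u) j := by
    intro u
    induction u using TensorProduct.induction_on with
    | zero => exact ⟨0, fun j => by simp⟩
    | add u w hu hw =>
      obtain ⟨Y, hY⟩ := hu
      obtain ⟨Z, hZ⟩ := hw
      exact ⟨Y + Z, fun j => by simp [smul_add, hY, hZ]⟩
    | tmul b w =>
      let φ : (Fin n → A) →ₗ[A] I := Fintype.linearCombination A (w : Fin n → I)
      have hker : LinearMap.ker π ≤ LinearMap.ker φ := by
        rw [← hρ, Submodule.span_le]
        rintro _ ⟨k, rfl⟩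
        have := congrFun (LinearMap.mem_ker.1 w.2) k
        simpa [φ, ψ, Fintype.linearCombination_apply] using this
      obtain ⟨g, hg⟩ := exists_factor π hπ φ hker
      obtain ⟨g', hg'⟩ := Module.Baer.of_injective (inferInstance : Module.Injective A I) p g
      refine ⟨b ⊗ₜ g' 1, fun j => ?_⟩
      have h1 : g' (a j) = (w : Fin n → I) j := by
        rw [hg' _ (hap j), show (⟨a j, hap j⟩ : p) = π (Pi.single j 1) by
          refine Subtype.ext ?_
          rw [hπval]
          simp [Pi.single_apply], hg]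
        simp [φ, Fintype.linearCombination_apply, Pi.single_apply]
      rw [← TensorProduct.tmul_smul, ← map_smul, smul_eq_mul, mul_one, h1]
      simp [e]
  obtain ⟨Y, hY⟩ := hY u
  refine ⟨Y, ?_⟩
  have hag : ∀ j, h (aj j) = ((aj j : B)) • Y := fun j => by
    change v j = algebraMap A B (a j) • Y
    rw [algebraMap_smul, hY j, hu, LinearEquiv.apply_symm_apply]
  rintro ⟨z, hz⟩
  have hspan : p.map (algebraMap A B) = Submodule.span B (Set.range fun j => algebraMap A B (a j)) := by
    rw [← ha]
    rw [show Submodule.span A (Set.range a) = Ideal.span (Set.range a) from rfl, Ideal.map_span,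
      ← Set.range_comp]
    rfl
  obtain ⟨c, hc⟩ := (Submodule.mem_span_range_iff_exists_fun B).1 (hspan.le hz)
  have hz' : (⟨z, hz⟩ : p.map (algebraMap A B)) = ∑ j, c j • aj j := Subtype.ext (by
    rw [Submodule.coe_sum]
    exact hc.symm)
  rw [hz', map_sum]
  simp only [map_smul, hag, Submodule.coe_sum, Submodule.coe_smul, Finset.sum_smul, smul_smul, smul_eq_mul]

end Groth.Agent.S1745

namespace Groth.Agent.S1745

/-- Let A → B be a flat homomorphism of Noetherian rings such that for every prime q of B with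
contraction p, the ideal p B_q equals the maximal ideal q B_q of B_q (for instance an étale map).
Then for every injective A-module I the B-module B ⊗_A I is injective. -/
theorem result (A B : Type u) [CommRing A] [CommRing B] [Algebra A B] [IsNoetherianRing A] [IsNoetherianRing B] [Module.Flat A B] (h : ∀ q : PrimeSpectrum B, Ideal.map (algebraMap B (Localization.AtPrime q.asIdeal)) ((q.asIdeal.comap (algebraMap A B)).map (algebraMap A B)) = IsLocalRing.maximalIdeal (Localization.AtPrime q.asIdeal)) (I : Type u) [AddCommGroup I] [Module A I] [Module.Injective A I] : Module.Injective B (B ⊗[A] I) := by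
  classical
  refine Module.Baer.injective fun J g => ?_
  suffices key : ∀ (J' : Ideal B) (g' : J' →ₗ[B] B ⊗[A] I), ∃ y, ∀ z : J', g' z = (z : B) • y by
    obtain ⟨y, hy⟩ := key J g
    exact ⟨LinearMap.toSpanSingleton B _ y, fun z hz => by rw [hy ⟨z, hz⟩]; rfl⟩
  intro J'
  induction J' using WellFoundedGT.induction with
  | _ J' ih =>
  intro g'
  rcases eq_or_ne J' ⊤ with rfl | hne
  · refine ⟨g' ⟨1, trivial⟩, fun z => ?_⟩
    rw [← map_smul]
    exact congrArg g' (Subtype.ext (mul_one _).symm)
  let col : B → Ideal B := fun x => Submodule.colon J' {x}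
  have hcol : ∀ x b, b ∈ col x ↔ b * x ∈ J' := fun x b => by
    simp [col, Submodule.mem_colon_singleton]
  have h1 : (1 : B) ∉ J' := (Ideal.ne_top_iff_one J').1 hne
  obtain ⟨q, ⟨x, hx, rfl⟩, hmax⟩ := set_has_maximal_iff_noetherian.mpr
    (inferInstance : IsNoetherian B B) (col '' {x | x ∉ J'}) ⟨_, 1, h1, rfl⟩
  have hprime : (col x).IsPrime := by
    refine ⟨(Ideal.ne_top_iff_one _).2 fun h' => hx (by simpa using (hcol x 1).1 h'), fun {b c} hbc => ?_⟩
    rw [or_iff_not_imp_left]
    intro hb
    have hbx : b * x ∉ J' := fun h' => hb ((hcol x b).2 h')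
    have hle : col x ≤ col (b * x) := fun d hd => (hcol _ d).2 (by
      rw [mul_left_comm]; exact J'.mul_mem_left b ((hcol x d).1 hd))
    rw [eq_of_le_of_not_lt hle (hmax _ ⟨b * x, hbx, rfl⟩), hcol]
    have := (hcol x _).1 hbc
    rwa [← mul_assoc, mul_comm c b]
  set q := col x with hq
  set p : Ideal A := q.comap (algebraMap A B) with hp
  have hpq : p.map (algebraMap A B) ≤ q := Ideal.map_comap_le
  obtain ⟨s, hs, hsq⟩ : ∃ s ∉ q, ∀ b ∈ q, s * b ∈ p.map (algebraMap A B) := by
    have hloc := h ⟨q, hprime⟩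
    have one : ∀ b ∈ q, ∃ s ∉ q, s * b ∈ p.map (algebraMap A B) := fun b hb => by
      have hb' : algebraMap B (Localization.AtPrime q) b ∈
          Ideal.map (algebraMap B (Localization.AtPrime q)) (p.map (algebraMap A B)) := by
        rw [hloc, IsLocalization.AtPrime.to_map_mem_maximal_iff _ q b]
        exact hb
      obtain ⟨⟨c, t⟩, hct⟩ := (IsLocalization.mem_map_algebraMap_iff q.primeCompl _).1 hb'
      rw [← map_mul, IsLocalization.eq_iff_exists q.primeCompl] at hct
      obtain ⟨d, hd⟩ := hct
      refine ⟨(d : B) * t, (d * t : q.primeCompl).2, ?_⟩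
      rw [mul_assoc, mul_comm (t : B) b, hd]
      exact Ideal.mul_mem_left _ _ c.2
    obtain ⟨G, hG⟩ := (IsNoetherian.noetherian q : Submodule.FG q)
    choose t ht1 ht2 using one
    refine ⟨∏ b ∈ G.attach, t b.1 (hG.le (Submodule.subset_span b.2)), ?_, ?_⟩
    · intro hmem
      obtain ⟨b, -, hb⟩ := Ideal.IsPrime.prod_mem_iff.1 hmem
      exact ht1 _ _ hb
    · intro b hb
      rw [← hG] at hb
      induction hb using Submodule.span_induction with
      | mem c hc =>
        rw [← Finset.mul_prod_erase _ _ (Finset.mem_attach G ⟨c, hc⟩), mul_right_comm]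
        exact Ideal.mul_mem_right _ _ (ht2 _ _)
      | zero => simp
      | add c d _ _ hc hd => rw [mul_add]; exact add_mem hc hd
      | smul r c _ hc => rw [smul_eq_mul, mul_left_comm]; exact Ideal.mul_mem_left _ _ hc
  let μ : ↥(p.map (algebraMap A B)) →ₗ[B] B ⊗[A] I :=
    g' ∘ₗ ((LinearMap.mulRight B x ∘ₗ (p.map (algebraMap A B)).subtype).codRestrict J'
      fun z => (hcol x z.1).1 (hpq z.2))
  obtain ⟨y, hy⟩ := extends_map_ideal I p μ
  -- the element `s * x` now has the same colon ideal, and `g'` extends there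
  let J'' : Ideal B := J' ⊔ Ideal.span {s * x}
  have hlt : J' < J'' := by
    refine lt_of_le_of_ne le_sup_left fun h' => hs ((hcol x s).2 ?_)
    rw [h']
    exact Ideal.mem_sup_right (Ideal.mem_span_singleton_self _)
  have hext : ∀ (b : B) (hb : b * (s * x) ∈ J'), g' ⟨b * (s * x), hb⟩ = b • s • y := by
    intro b hb
    have hbq : b ∈ q := (hprime.mem_or_mem ((hcol x (b * s)).2 (by rwa [mul_assoc]))).resolve_right hs
    have h2 := hy ⟨s * b, hsq b hbq⟩
    rw [smul_smul, mul_comm b s, ← h2]
    exact congrArg g' (Subtype.ext (by show b * (s * x) = s * b * x; ring))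
  let π : (J' × B) →ₗ[B] J'' :=
    (J'.subtype.coprod (LinearMap.toSpanSingleton B B (s * x))).codRestrict J'' fun w => by
      simp only [LinearMap.coprod_apply, Submodule.subtype_apply, LinearMap.toSpanSingleton_apply, smul_eq_mul]
      exact add_mem (Ideal.mem_sup_left w.1.2)
        (Ideal.mem_sup_right (Ideal.mul_mem_left _ _ (Ideal.mem_span_singleton_self _)))
  have hπ : Function.Surjective π := fun z => by
    obtain ⟨c, hc, d, hd, hcd⟩ := Submodule.mem_sup.1 z.2
    obtain ⟨b, rfl⟩ := Ideal.mem_span_singleton'.1 hd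
    exact ⟨(⟨c, hc⟩, b), Subtype.ext (by simpa [π] using hcd)⟩
  obtain ⟨g'', hg''⟩ := exists_factor π hπ (g'.coprod (LinearMap.toSpanSingleton B _ (s • y))) (by
    rintro ⟨c, b⟩ hcb
    have h0 : (c : B) + b * (s * x) = 0 := congrArg Subtype.val (LinearMap.mem_ker.1 hcb)
    have hb : b * (s * x) ∈ J' := by rw [eq_neg_of_add_eq_zero_right h0]; exact neg_mem c.2
    rw [LinearMap.mem_ker, LinearMap.coprod_apply, LinearMap.toSpanSingleton_apply, ← hext b hb, ← map_add]
    rw [show c + (⟨b * (s * x), hb⟩ : J') = 0 from Subtype.ext h0, map_zero])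
  obtain ⟨y', hy'⟩ := ih J'' hlt g''
  refine ⟨y', fun z => ?_⟩
  have h3 := hg'' (z, 0)
  rw [hy'] at h3
  simpa [π] using h3.symm

end Groth.Agent.S1745
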