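import Groth.Statements.S17459
import Groth.Agent.GrpSchLib.HomFinite
import Groth.Agent.GrpSchLib.KernelGrp
import Groth.Agent.GrpSchLib.FieldDim
import Groth.Agent.GrpSchLib.Neutral
import Mathlib.AlgebraicGeometry.ZariskisMainTheorem
import Mathlib.AlgebraicGeometry.Geometrically.Integral

set_option autoImplicit false
universe u
open CategoryTheory CategoryTheory.Limits AlgebraicGeometry MonObj
open SGA7

namespace Groth.Agent.S17459

set_option backward.isDefEq.respectTransparency.types false
open MonoidalCategory CartesianMonoidalCategory GrpObj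

/-- Let R be a discrete valuation ring with fraction field K, let N and N' be group schemes over Spec R
which are Néron models of their generic fibres A = N_K and B = N'_K, abelian varieties (proper and
geometrically integral) of the same dimension, and let u : N → N' be a homomorphism (the extension
of u_K : A → B). If the homomorphism induced by u on the special fibres is locally quasi-finite — as
it is when it restricts to an isogeny between the identity components, the printed hypothesis, which
also forces dim A = dim B — then u_K is an isogeny: its underlying map is surjective and its kernel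
is finite. -/
theorem result (R K : Type u) [CommRing R] [IsDomain R]
    [IsDiscreteValuationRing R] [Field K] [Algebra R K] [IsFractionRing R K]
    (N N' : Over (Spec (CommRingCat.of R))) [GrpObj N] [GrpObj N']
    (hN : SGA7.IsNeron R K N) (hN' : SGA7.IsNeron R K N')
    [IsProper ((SGA7.genFib R K).obj N).hom] [GeometricallyIntegral ((SGA7.genFib R K).obj N).hom]
    [IsProper ((SGA7.genFib R K).obj N').hom] [GeometricallyIntegral ((SGA7.genFib R K).obj N').hom]
    (hdim : topologicalKrullDim ↥((SGA7.genFib R K).obj N).left = topologicalKrullDim ↥((SGA7.genFib R K).obj N').left)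
    (u : N ⟶ N') [IsMonHom u]
    [LocallyQuasiFinite (SGA7.fibreHom (IsLocalRing.closedPoint R) u).left] :
    SGA7.IsIsogenyOver ((SGA7.genFib R K).map u) := by
  have hsm : Smooth N.hom := hN.1
  have hsep : IsSeparated N.hom := hN.2.1
  have hqc : QuasiCompact N.hom := hN.2.2.1
  have hsm' : Smooth N'.hom := hN'.1
  have hsep' : IsSeparated N'.hom := hN'.2.1
  have : LocallyOfFiniteType u.left := by
    have : LocallyOfFiniteType (u.left ≫ N'.hom) := by rw [Over.w u]; infer_instance
    exact locallyOfFiniteType_of_comp u.left N'.hom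
  have : QuasiCompact u.left := by
    have : QuasiCompact (u.left ≫ N'.hom) := by rw [Over.w u]; infer_instance
    exact QuasiCompact.of_comp u.left N'.hom
  let s₀ : Spec (CommRingCat.of R) := IsLocalRing.closedPoint R
  let σ₀ : Spec ((Spec (CommRingCat.of R)).residueField s₀) ⟶ Spec (CommRingCat.of R) :=
    (Spec (CommRingCat.of R)).fromSpecResidueField s₀
  let es : N.left := η[N].left s₀
  -- finite fibre through the special unit point
  have hfin : (u.left ⁻¹' {u.left es}).Finite := by
    let us := SGA7.fibreHom s₀ u
    have : LocallyOfFiniteType us.left := MorphismProperty.overPullbackMap (P := @LocallyOfFiniteType) _ u ‹_›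
    have : QuasiCompact us.left := MorphismProperty.overPullbackMap (P := @QuasiCompact) _ u ‹_›
    let y' : ((Over.pullback σ₀).obj N').left := η[(Over.pullback σ₀).obj N'].left (default : Spec ((Spec (CommRingCat.of R)).residueField s₀))
    have hy' : pullback.fst N'.hom σ₀ y' = u.left es := by
      rw [Groth.Agent.GrpSchLib.Neutral.fst_unit]
      exact congrArg (fun f : 𝟙_ _ ⟶ N' => f.left s₀) (IsMonHom.one_hom u).symm
    refine ((us.left.finite_preimage_singleton y').image (pullback.fst N.hom σ₀)).subset fun z hz => ?_
    have hzs : N.hom z = s₀ := by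
      rw [← Over.w u, Scheme.Hom.comp_apply, (hz : u.left z = u.left es), ← Scheme.Hom.comp_apply,
        Over.w u]
      exact Groth.Agent.GrpSchLib.Neutral.hom_unit (G := N) s₀
    obtain ⟨w, hw, -⟩ := Scheme.Pullback.exists_preimage_pullback (f := N.hom) (g := σ₀) z (default : Spec ((Spec (CommRingCat.of R)).residueField s₀))
      (hzs.trans (Scheme.fromSpecResidueField_apply _ _).symm)
    refine ⟨w, ?_, hw⟩
    have hinj : Function.Injective (pullback.fst N'.hom σ₀) := (pullback.fst N'.hom σ₀).isEmbedding.injective
    apply hinj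
    rw [hy', Groth.Agent.GrpSchLib.Neutral.map_fst, hw]
    exact hz
  have hes : es ∈ u.left.quasiFiniteLocus := by
    rw [Scheme.Hom.mem_quasiFiniteLocus, Scheme.Hom.quasiFiniteAt_iff_isOpen_singleton_asFiber]
    have : Finite ↥(u.left ⁻¹' {u.left es}) := hfin.to_subtype
    have : Finite (u.left.fiber (u.left es)) :=
      Finite.of_equiv _ (u.left.fiberHomeo (u.left es)).symm.toEquiv
    exact isOpen_discrete _
  -- the generic fibre
  let κ := Spec.map (CommRingCat.ofHom (algebraMap R K))
  have hgen : κ (IsLocalRing.closedPoint K) ⤳ s₀ := IsLocalRing.specializes_closedPoint _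
  let A := (SGA7.genFib R K).obj N
  let B := (SGA7.genFib R K).obj N'
  let v : A ⟶ B := (SGA7.genFib R K).map u
  have : IsPreimmersion κ := IsPreimmersion.of_isLocalization (nonZeroDivisors R)
  let eA : A.left := η[A].left (IsLocalRing.closedPoint K)
  let eB : B.left := η[B].left (IsLocalRing.closedPoint K)
  have hfstu : ∀ z : A.left, pullback.fst N'.hom κ (v.left z) = u.left (pullback.fst N.hom κ z) :=
    fun z => congrArg (fun m : A.left ⟶ N'.left => m z) (pullback.lift_fst _ _ _)
  have hη : ∀ (M : Over (Spec (CommRingCat.of R))) [GrpObj M],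
      pullback.fst M.hom κ (η[(SGA7.genFib R K).obj M].left (IsLocalRing.closedPoint K)) =
        η[M].left (κ (IsLocalRing.closedPoint K)) := by
    intro M _
    have h : η[(Over.pullback κ).obj M] = Functor.LaxMonoidal.ε (Over.pullback κ) ≫
        (Over.pullback κ).map η[M] := rfl
    rw [h, Over.comp_left, Scheme.Hom.comp_apply]
    refine Eq.trans (congrArg (fun m : ((Over.pullback κ).obj (𝟙_ _)).left ⟶ M.left =>
      m ((Functor.LaxMonoidal.ε (Over.pullback κ)).left (IsLocalRing.closedPoint K)))
      (pullback.lift_fst (f := M.hom) (g := κ) _ _ _)) ?_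
    refine (Scheme.Hom.comp_apply _ _ _).trans (congrArg η[M].left ?_)
    rw [show pullback.fst (𝟙_ (Over (Spec (CommRingCat.of R)))).hom κ =
      pullback.fst (𝟙_ (Over (Spec (CommRingCat.of R)))).hom κ ≫ (𝟙_ (Over (Spec (CommRingCat.of R)))).hom from
        (Category.comp_id _).symm, pullback.condition, Scheme.Hom.comp_apply]
    exact congrArg κ (@Subsingleton.elim (Spec (CommRingCat.of K)) inferInstance _ _)
  let eN : N.left := η[N].left (κ (IsLocalRing.closedPoint K))
  have heN : eN ∈ u.left.quasiFiniteLocus :=
    (hgen.map η[N].left.continuous).mem_open u.left.quasiFiniteLocus.isOpen hes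
  rw [Scheme.Hom.mem_quasiFiniteLocus, Scheme.Hom.quasiFiniteAt_iff_isOpen_singleton_asFiber] at heN
  obtain ⟨W, hW, hWe⟩ : ∃ W : Set N.left, IsOpen W ∧ W ∩ u.left ⁻¹' {u.left eN} = {eN} := by
    have h1 := (u.left.fiberHomeo (u.left eN)).isOpenMap _ heN
    obtain ⟨W, hW, hW'⟩ := isOpen_induced_iff.1 h1
    refine ⟨W, hW, Set.eq_singleton_iff_unique_mem.2 ⟨⟨?_, rfl⟩, fun z hz => ?_⟩⟩
    · have : (⟨eN, rfl⟩ : u.left ⁻¹' {u.left eN}) ∈ Subtype.val ⁻¹' W := by
        rw [hW']
        exact ⟨u.left.asFiber eN, rfl, (u.left.fiberHomeo _).apply_symm_apply _⟩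
      exact this
    · have : (⟨z, hz.2⟩ : u.left ⁻¹' {u.left eN}) ∈ (u.left.fiberHomeo (u.left eN)) '' {u.left.asFiber eN} := by
        rw [← hW']; exact hz.1
      obtain ⟨_, rfl, hq⟩ := this
      have h2 : u.left.fiberHomeo (u.left eN) (u.left.asFiber eN) = ⟨eN, rfl⟩ :=
        (u.left.fiberHomeo _).apply_symm_apply _
      exact (congrArg Subtype.val (hq.symm.trans h2))
  -- the kernel
  obtain ⟨Z, _, i, _, hci, -, hker⟩ := Groth.Agent.GrpSchLib.exists_kernel v
  have : IsProper (i.left ≫ A.hom) := inferInstance
  have hZp : IsProper Z.hom := by rw [← Over.w i]; infer_instance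
  have hiv : ∀ z : Z.left, v.left (i.left z) = eB := by
    intro z
    have h1 : i ≫ v = toUnit Z ≫ η[B] := hker.w
    have h2 := congrArg (fun m : Z ⟶ B => m.left z) h1
    simp only [Over.comp_left, Scheme.Hom.comp_apply] at h2
    exact h2.trans (congrArg η[B].left (@Subsingleton.elim (Spec (CommRingCat.of K)) inferInstance _ _))
  let e : Z.left := η[Z].left (IsLocalRing.closedPoint K)
  have hie : i.left e = eA := congrArg (fun f : 𝟙_ _ ⟶ A => f.left (IsLocalRing.closedPoint K)) (IsMonHom.one_hom i)
  let φ : Z.left → N.left := fun z => pullback.fst N.hom κ (i.left z)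
  have hφinj : Function.Injective φ :=
    (pullback.fst N.hom κ).isEmbedding.injective.comp i.left.isClosedEmbedding.injective
  have hφe : φ e = eN := (congrArg (pullback.fst N.hom κ) hie).trans (hη N)
  have hφf : ∀ z, u.left (φ z) = u.left eN := fun z => by
    rw [← hfstu, hiv, hη N']
    exact congrArg (fun f : 𝟙_ _ ⟶ N' => f.left (κ (IsLocalRing.closedPoint K))) (IsMonHom.one_hom u).symm
  have hop : IsOpen ({e} : Set Z.left) := by
    have : ({e} : Set Z.left) = φ ⁻¹' W := by
      ext z
      constructor
      · rintro rfl
        show φ _ ∈ W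
        rw [hφe]
        exact (hWe.ge rfl).1
      · intro hz
        exact hφinj ((hWe.le ⟨hz, hφf z⟩ : φ z = eN).trans hφe.symm)
    rw [this]
    exact hW.preimage ((pullback.fst N.hom κ).continuous.comp i.left.continuous)
  have hcl : IsClosed ({e} : Set Z.left) := by
    have h1 := (η[Z]).left.isClosedEmbedding.isClosedMap _
      (isClosed_discrete (α := ↥(Spec (CommRingCat.of K))) {IsLocalRing.closedPoint K})
    exact (Set.image_singleton (f := (η[Z]).left)) ▸ h1
  have hemax : Groth.Agent.GrpSchLib.IsMaxPt e := fun d hd => hd.mem_open hop rfl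
  have hdeg0 : VarDim.deg Z.hom e = 0 := (VarDim.closedPoint_iff_deg_eq_zero Z.hom e).mp hcl
  obtain ⟨d, hd⟩ := Groth.Agent.GrpSchLib.exists_height_isMaxPt Z
  have hd0 : d = 0 := (hd e hemax).symm.trans hdeg0
  have hclosed : ∀ z : Z.left, IsClosed ({z} : Set Z.left) := fun z => by
    obtain ⟨c, hc, hcz⟩ := Groth.Agent.GrpSchLib.exists_isMaxPt z
    refine (VarDim.closedPoint_iff_deg_eq_zero Z.hom z).mpr ?_
    have := VarDim.deg_le_of_specializes Z.hom hcz
    rw [hd c hc, hd0] at this
    omega
  have : CompactSpace Z.left := QuasiCompact.compactSpace_of_compactSpace Z.hom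
  have : IsLocallyNoetherian Z.left := LocallyOfFiniteType.isLocallyNoetherian Z.hom
  have : AlgebraicGeometry.IsNoetherian Z.left := {}
  have : T1Space Z.left := ⟨hclosed⟩
  have : Finite Z.left := by
    have hfi := TopologicalSpace.NoetherianSpace.finite_irreducibleComponents (α := Z.left)
    have := hfi.to_subtype
    refine Finite.of_injective (fun z : Z.left => (⟨irreducibleComponent z,
      irreducibleComponent_mem_irreducibleComponents z⟩ : irreducibleComponents Z.left)) fun a b hab => ?_
    have h : irreducibleComponent a = irreducibleComponent b := congrArg Subtype.val hab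
    obtain ⟨g, hg⟩ := QuasiSober.sober (isIrreducible_irreducibleComponent (x := a)) isClosed_irreducibleComponent
    have key : ∀ x, x ∈ irreducibleComponent a → x = g := fun x hx =>
      ((hclosed g).closure_eq.le (hg.def.symm ▸ hx : x ∈ closure {g}))
    exact (key a mem_irreducibleComponent).trans (key b (h ▸ mem_irreducibleComponent)).symm
  have : LocallyQuasiFinite Z.hom :=
    LocallyQuasiFinite.of_finite_preimage_singleton _ fun _ => Set.toFinite _
  have : IsFinite Z.hom := IsFinite.of_isProper_of_locallyQuasiFinite Z.hom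
  -- kernels are all isomorphic
  have hkerfin : ∀ (Z' : Over (Spec (CommRingCat.of K))) (i' : Z' ⟶ A), AlgGrp.IsKernel i' v → IsFinite Z'.hom := by
    intro Z' i' h'
    have hiso : IsIso (IsPullback.isoIsPullback A (𝟙_ _) h' hker).hom.left :=
      (Over.forget _).map_isIso (IsPullback.isoIsPullback A (𝟙_ _) h' hker).hom
    rw [← Over.w (IsPullback.isoIsPullback A (𝟙_ _) h' hker).hom]
    infer_instance
  refine ⟨?_, hkerfin⟩
  -- surjectivity
  have : LocallyOfFiniteType v.left := MorphismProperty.overPullbackMap (P := @LocallyOfFiniteType) _ u ‹_›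
  have : QuasiCompact v.left := MorphismProperty.overPullbackMap (P := @QuasiCompact) _ u ‹_›
  have : IsFinite v.left := by
    refine Groth.Agent.GrpSchLib.HomFinite.isFinite_of_discrete_ker v ?_
    have hk := (hker.map (Over.forget _)).isoPullback
    have hdz : DiscreteTopology Z.left := inferInstance
    exact @Topology.IsEmbedding.discreteTopology _ _ _ _ _ hdz hk.hom.homeomorph.symm.isEmbedding
  have : IrreducibleSpace A.left := GeometricallyIrreducible.irreducibleSpace_of_subsingleton A.hom
  have : IrreducibleSpace B.left := GeometricallyIrreducible.irreducibleSpace_of_subsingleton B.hom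
  let gA := genericPoint A.left
  let gB := genericPoint B.left
  have hgA : Groth.Agent.GrpSchLib.IsMaxPt gA := fun c hc =>
    (hc.antisymm ((genericPoint_spec A.left).specializes (Set.mem_univ c))).eq
  have hgB : Groth.Agent.GrpSchLib.IsMaxPt gB := fun c hc =>
    (hc.antisymm ((genericPoint_spec B.left).specializes (Set.mem_univ c))).eq
  have hdd : VarDim.deg A.hom gA = VarDim.deg B.hom gB := by
    have h1 := Groth.Agent.GrpSchLib.topologicalKrullDim_eq_deg hgA
    have h2 := Groth.Agent.GrpSchLib.topologicalKrullDim_eq_deg hgB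
    have h3 : topologicalKrullDim ↥A.left = topologicalKrullDim ↥B.left := hdim
    rw [h1, h2] at h3
    exact_mod_cast h3
  have hh := Groth.Agent.GrpSchLib.height_apply_of_isIntegralHom v.left gA
  rw [VarDim.height_eq_deg A.hom, VarDim.height_eq_deg B.hom, Nat.cast_inj] at hh
  have hy : v.left gA = gB := by
    by_contra hne
    have hlt : v.left gA < gB := lt_iff_le_not_ge.2
      ⟨((genericPoint_spec B.left).specializes (Set.mem_univ _) : gB ⤳ v.left gA),
        fun h => hne ((Specializes.antisymm (show v.left gA ⤳ gB from h)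
          ((genericPoint_spec B.left).specializes (Set.mem_univ _))).eq)⟩
    have := VarDim.deg_strictMono B.hom hlt
    omega
  refine ⟨fun b => ?_⟩
  have hclr : IsClosed (Set.range v.left) := v.left.isClosedMap.isClosed_range
  exact ((genericPoint_spec B.left).specializes (Set.mem_univ b)).mem_closed hclr ⟨gA, hy⟩

end Groth.Agent.S17459
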