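import Groth.Statements.S17464
import Groth.Agent.AlgGrp25.TorusUnip

set_option linter.style.haveILetI false

set_option autoImplicit false
universe u
open CategoryTheory MonoidalCategory CartesianMonoidalCategory MonObj GrpObj AlgebraicGeometry CategoryTheory.Limits
open AlgGrp

namespace Groth.Agent.S17464

/-- Let k be an algebraically closed field, T a k-torus and U a smooth connected affine k-group scheme
of finite type with a composition series whose successive quotients are additive groups: closed
subgroup schemes U_0 → U_1 → … → U_n = U (homomorphisms which are closed immersions, U_i ↦ U_{i+1}),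
with U_0 the trivial group, U_n identified with U by an isomorphism of group schemes, and each U_i
the kernel of a flat surjective homomorphism from U_{i+1} onto the additive group. Then every
homomorphism from U to T is the trivial one. (The published statement is over an arbitrary field for
a torus and a smooth connected unipotent group, unipotent meaning that such a composition series
exists over an algebraic closure; this row states the case of an algebraically closed base field.
The companion assertion, that homomorphisms from T to U are trivial, is an existing statement about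
groups of multiplicative type.) -/
theorem result (k : Type u) [Field k] [IsAlgClosed k]
    (T U : Over (Spec (CommRingCat.of k))) [GrpObj T] [GrpObj U] (hT : Red.IsTorus T)
    [Smooth U.hom] [QuasiCompact U.hom] [ConnectedSpace ↥U.left] [IsAffine U.left]
    (n : ℕ) (Us : Fin (n + 1) → Over (Spec (CommRingCat.of k))) [∀ i, GrpObj (Us i)]
    (h0 : Red.IsTrivialGrp (Us 0))
    (e : Us (Fin.last n) ≅ U) [IsMonHom e.hom]
    (incl : ∀ i : Fin n, Us i.castSucc ⟶ Us i.succ) [∀ i, IsMonHom (incl i)]
    [∀ i, IsClosedImmersion (incl i).left]
    (quot : ∀ i : Fin n, Us i.succ ⟶ Red.Ga (Spec (CommRingCat.of k))) [∀ i, IsMonHom (quot i)]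
    [∀ i, Surjective (quot i).left] [∀ i, Flat (quot i).left]
    (hker : ∀ i : Fin n, AlgGrp.IsKernel (incl i) (quot i))
    (f : U ⟶ T) [IsMonHom f] :
    f = 1 := by
  obtain ⟨hTl, hTq⟩ := Groth.Agent.AlgGrp25.TorusUnip.lft_qc_torus hT
  haveI := hTl
  haveI := hTq
  haveI := Groth.Agent.AlgGrp25.TorusUnip.lft_ga (K := k)
  haveI := Groth.Agent.AlgGrp25.TorusUnip.qc_ga (K := k)
  have hft : ∀ i : Fin (n + 1), LocallyOfFiniteType (Us i).hom ∧ QuasiCompact (Us i).hom := by
    intro i
    induction i using Fin.reverseInduction with
    | last =>
      rw [← Over.w e.hom]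
      exact ⟨inferInstance, inferInstance⟩
    | cast i ih =>
      obtain ⟨h1, h2⟩ := ih
      haveI := h1
      haveI := h2
      rw [← Over.w (incl i)]
      exact ⟨inferInstance, inferInstance⟩
  have hmain : ∀ (i : Fin (n + 1)) (v : Us i ⟶ T), IsMonHom v → v = 1 := by
    intro i
    induction i using Fin.induction with
    | zero =>
      intro v hv
      haveI : IsIso (Us 0).hom := h0
      have : IsIso (toUnit (Us 0)) := by
        haveI : IsIso (toUnit (Us 0)).left := by
          rw [Over.toUnit_left]
          infer_instance
        haveI : IsIso ((Over.forget _).map (toUnit (Us 0))) := by assumption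
        exact isIso_of_reflects_iso _ (Over.forget _)
      rw [← cancel_epi (inv (toUnit (Us 0))), MonObj.comp_one]
      have hη : inv (toUnit (Us 0)) = η[Us 0] := by
        rw [IsIso.inv_eq_of_hom_inv_id]
        rw [← cancel_mono (toUnit (Us 0)), Category.assoc, Category.id_comp]
        exact toUnit_unique _ _
      rw [hη, IsMonHom.one_hom v, Hom.one_def, toUnit_unique (toUnit (𝟙_ _)) (𝟙 _), Category.id_comp]
    | succ i ih =>
      intro v hv
      obtain ⟨h1, h2⟩ := hft i.succ
      haveI := h1
      haveI := h2
      obtain ⟨w, hw, hfac, -⟩ := Groth.Agent.S3280.result k (Us i.succ) (Us i.castSucc)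
        (Red.Ga (Spec (CommRingCat.of k))) T (quot i) (incl i) (hker i) v
        (by rw [ih (incl i ≫ v) inferInstance, Hom.one_def])
      haveI := hw
      rw [← hfac, Groth.Agent.AlgGrp25.TorusUnip.eq_one hT w, MonObj.comp_one]
  have := hmain (Fin.last n) (e.hom ≫ f) inferInstance
  rw [← cancel_epi e.hom, this, MonObj.comp_one]

end Groth.Agent.S17464
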