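import Groth.Statements.S17473
import Groth.Agent.AlgGrp25.Blanchard

set_option autoImplicit false
set_option linter.style.haveILetI false
universe u
open CategoryTheory MonoidalCategory CartesianMonoidalCategory MonObj GrpObj AlgebraicGeometry CategoryTheory.Limits
open AlgGrp

namespace Groth.Agent.S17473

/-- Let k be a field, G a k-group scheme locally of finite type, X and Y separated k-schemes, f : X → Y
a proper k-morphism such that O_Y → f_*O_X is an isomorphism (on sections over every open subset of
Y), and a an action of G on X. The following are equivalent: (i) some action of G on Y makes f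
equivariant; (ii) X ×_Y X is stable under G acting diagonally on X × X, i.e. for every k-scheme T,
every T-point g of G and all T-points x₁, x₂ of X with f x₁ = f x₂ one has f (g · x₁) = f (g · x₂);
(iii) the underlying map of the composite G × X → X → Y is constant on the topological fibres of G ×
X → G × Y. (The published text works over an algebraically closed field; any field is allowed here.) -/
theorem result (k : Type u) [Field k]
    (G X Y : Over (Spec (CommRingCat.of k))) [GrpObj G] [LocallyOfFiniteType G.hom]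
    [IsSeparated X.hom] [IsSeparated Y.hom]
    (f : X ⟶ Y) [IsProper f.left] (hf : ∀ U : Y.left.Opens, IsIso (f.left.app U))
    (a : AlgGrp.Action G X) :
    [∃ b : AlgGrp.Action G Y, (G ◁ f) ≫ b.act = a.act ≫ f,
      ∀ (T : Over (Spec (CommRingCat.of k))) (g : T ⟶ G) (x₁ x₂ : T ⟶ X),
        x₁ ≫ f = x₂ ≫ f → lift g x₁ ≫ a.act ≫ f = lift g x₂ ≫ a.act ≫ f,
      ∀ p q : ↥(G ⊗ X).left, (G ◁ f).left.base p = (G ◁ f).left.base q →
        (a.act ≫ f).left.base p = (a.act ≫ f).left.base q].TFAE := by
  have hf' : ∀ U, Function.Bijective (f.left.app U) := fun U =>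
    haveI := hf U
    ConcreteCategory.bijective_of_isIso (f.left.app U)
  tfae_have 1 → 2 := by
    rintro ⟨b, hb⟩ T g x₁ x₂ hx
    rw [← hb, lift_whiskerLeft_assoc, lift_whiskerLeft_assoc, hx]
  tfae_have 2 → 3 := by
    intro h p q hpq
    obtain ⟨z, hz1, hz2⟩ := Scheme.Pullback.exists_preimage_pullback (f := (G ◁ f).left) (g := (G ◁ f).left) p q hpq
    let P : Over (Spec (CommRingCat.of k)) :=
      Over.mk (Limits.pullback.fst (G ◁ f).left (G ◁ f).left ≫ (G ⊗ X).hom)
    let a₁ : P ⟶ G ⊗ X := Over.homMk (Limits.pullback.fst (G ◁ f).left (G ◁ f).left) rfl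
    let a₂ : P ⟶ G ⊗ X := Over.homMk (Limits.pullback.snd (G ◁ f).left (G ◁ f).left) (by
      show Limits.pullback.snd _ _ ≫ (G ⊗ X).hom = Limits.pullback.fst _ _ ≫ (G ⊗ X).hom
      rw [← Over.w (G ◁ f), Limits.pullback.condition_assoc])
    have e : a₁ ≫ (G ◁ f) = a₂ ≫ (G ◁ f) := Over.OverMorphism.ext Limits.pullback.condition
    have e1 := congrArg (· ≫ fst G Y) e
    have e2 := congrArg (· ≫ snd G Y) e
    simp only [Category.assoc, whiskerLeft_fst, whiskerLeft_snd] at e1 e2
    have h2 := h P (a₁ ≫ fst G X) (a₁ ≫ snd G X) (a₂ ≫ snd G X) (by simpa only [Category.assoc] using e2)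
    have hl : ∀ c : P ⟶ G ⊗ X, lift (c ≫ fst G X) (c ≫ snd G X) = c := fun c => by
      rw [← comp_lift, lift_fst_snd, Category.comp_id]
    rw [hl a₁, e1, hl a₂] at h2
    show (a.act ≫ f).left p = (a.act ≫ f).left q
    rw [← hz1, ← hz2]
    exact congr($(congrArg CommaMorphism.left h2) z)
  tfae_have 3 → 1 := fun h => Groth.Agent.AlgGrp25.Blanchard.exists_action f hf' a h
  tfae_finish

end Groth.Agent.S17473
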