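import Groth.Statements.S17479
import Groth.Agent.AlgGrp25.FixAmple.Main
import Groth.Agent.S17474
-- import your own Groth.Agent.* helpers here

set_option autoImplicit false
set_option linter.style.haveILetI false
universe u
open CategoryTheory MonoidalCategory CartesianMonoidalCategory MonObj GrpObj AlgebraicGeometry CategoryTheory.Limits
open AlgGrp

namespace Groth.Agent.S17479

open scoped Groth.Agent.H23.PicMul

/-- Over an algebraically closed field k, let X be a projective variety (an integral k-scheme with a
closed immersion into some projective space over k) whose Picard variety is trivial: every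
invertible O_X-module algebraically equivalent to zero is isomorphic to O_X. Let G be a connected
k-group scheme of finite type acting faithfully on X (for every k-scheme T, a T-point of G acting as
the identity on X × T is the unit). Then G is affine. (The published statement is that the neutral
component of the reduced automorphism group of X is linear; linear is read as affine, and the form
here is its consequence for connected algebraic groups acting faithfully, which are closed subgroup
schemes of the neutral component of the automorphism group scheme. For a non-reduced such group this
says slightly more than the published corollary: one also uses that a Noetherian scheme whose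
reduction is affine is affine.) -/
theorem result (k : Type u) [Field k] [IsAlgClosed k]
    (G X : Over (Spec (CommRingCat.of k))) [GrpObj G] [LocallyOfFiniteType G.hom] [QuasiCompact G.hom]
    [ConnectedSpace ↥G.left] [IsIntegral X.left] (hX : RelProj.IsHProjective X.hom)
    (hPic : ∀ L : X.left.Modules, PicF.IsInvertible L → @Pic13.IsAlgEquivZero k _ X.left ⟨X.hom⟩ L →
      Nonempty (L ≅ Coh.structureModule X.left))
    (a : AlgGrp.Action G X)
    (hfaith : ∀ (T : Over (Spec (CommRingCat.of k))) (g : T ⟶ G),
      lift (fst T X ≫ g) (snd T X) ≫ a.act = snd T X → g = toUnit T ≫ η[G]) :
    IsAffine G.left := by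
  haveI := CorrFin75.isProper_of_isHProjective hX
  obtain ⟨L, hL⟩ := AlgGrp25.FixAmple.exists_isAmple hX
  refine AlgGrp25.FixAmple.isAffine_of_fix G a hfaith hL fun g => ?_
  obtain ⟨D, hD, hLD⟩ := H23.PicInv.exists_inverse hL.1
  have h := S17474.result k G X hX a g L D hL.1 hD hLD
  have ht := hPic _ (InvX.isInvertible_tensorMod (PicClLib.isInvertible_pullback _ hL.1) hD) h
  refine H23.PicMul.cl_eq_iff.1 ((H23.PicMul.isUnit_cl hD).mul_right_cancel ?_)
  exact (H23.PicMul.cl_eq_iff.2 ht).trans (H23.PicMul.cl_eq_iff.2 hLD).symm

end Groth.Agent.S17479
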