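import Groth.Statements.S1748
import Groth.Agent.LC.InjNoeth
import Mathlib
-- import your own Groth.Agent.* helpers here

set_option autoImplicit false
universe u
open CategoryTheory
open scoped TensorProduct Polynomial
attribute [local instance] HasDerivedCategory.standard
open InjHull

namespace Groth.Agent.S1748

open CategoryTheory CategoryTheory.Limits Polynomial

variable {A : Type u} [CommRing A] (M : Type u) [AddCommGroup M] [Module A M]

/-- The coinduced `A[X]`-module. -/
def Coind (M : Type u) [AddCommGroup M] [Module A M] : Type u := A[X] →ₗ[A] M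

noncomputable instance : AddCommGroup (Coind (A := A) M) :=
  inferInstanceAs (AddCommGroup (A[X] →ₗ[A] M))

/-- The underlying linear map. -/
def Coind.get {M : Type u} [AddCommGroup M] [Module A M] (f : Coind (A := A) M) : A[X] →ₗ[A] M := f

/-- A linear map as an element of the coinduced module. -/
def Coind.mk {M : Type u} [AddCommGroup M] [Module A M] (f : A[X] →ₗ[A] M) : Coind (A := A) M := f

theorem Coind.ext {M : Type u} [AddCommGroup M] [Module A M] {f g : Coind (A := A) M}
    (h : ∀ x, f.get x = g.get x) : f = g := LinearMap.ext h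

noncomputable instance : Module A[X] (Coind (A := A) M) where
  smul r f := Coind.mk (f.get ∘ₗ LinearMap.mulRight A r)
  one_smul f := Coind.ext fun x => show f.get (x * 1) = f.get x by rw [mul_one]
  mul_smul r s f := Coind.ext fun x => show f.get (x * (r * s)) = f.get (x * r * s) by rw [mul_assoc]
  smul_zero r := Coind.ext fun x => rfl
  smul_add r f g := Coind.ext fun x => rfl
  add_smul r s f := Coind.ext fun x =>
    show f.get (x * (r + s)) = f.get (x * r) + f.get (x * s) by rw [mul_add, map_add]
  zero_smul f := Coind.ext fun x => show f.get (x * 0) = 0 by rw [mul_zero, map_zero]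

theorem smul_get (r : A[X]) (f : Coind (A := A) M) (x : A[X]) : (r • f).get x = f.get (x * r) := rfl

theorem injective_coind [Module.Injective A M] : Module.Injective A[X] (Coind (A := A) M) := by
  refine Module.Baer.injective fun J h => ?_
  let h0 : J →ₗ[A] M :=
    { toFun := fun j => (h j).get 1
      map_add' := fun a b => by rw [map_add]; rfl
      map_smul' := fun a j => by
        rw [RingHom.id_apply, ← algebraMap_smul A[X] a j, map_smul, smul_get, one_mul,
          ← Polynomial.C_eq_algebraMap, ← mul_one (Polynomial.C a), ← Polynomial.smul_eq_C_mul, map_smul] }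
  obtain ⟨F, hF⟩ := Module.Injective.out (R := A) (Q := M) (J.subtype.restrictScalars A)
    Subtype.val_injective h0
  refine ⟨LinearMap.toSpanSingleton A[X] _ (Coind.mk F), fun z hz => Coind.ext fun g => ?_⟩
  change F (g * z) = _
  refine (hF ⟨g * z, J.mul_mem_left g hz⟩).trans ?_
  show (h ⟨g * z, J.mul_mem_left g hz⟩).get 1 = _
  rw [show (⟨g * z, J.mul_mem_left g hz⟩ : J) = g • ⟨z, hz⟩ from rfl, map_smul, smul_get, one_mul]

variable [Module A[X] M] [IsScalarTower A A[X] M]

/-- `m ↦ (g ↦ g m)`. -/
noncomputable def unit : M →ₗ[A[X]] Coind (A := A) M where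
  toFun m := Coind.mk ((LinearMap.toSpanSingleton A[X] M m).restrictScalars A)
  map_add' a b := Coind.ext fun x => show x • (a + b) = x • a + x • b from smul_add x a b
  map_smul' r m := Coind.ext fun x => show x • r • m = (x * r) • m from (mul_smul x r m).symm

/-- `f ↦ (g ↦ f (g X) - X f g)`. -/
noncomputable def diff : Coind (A := A) M →ₗ[A[X]] Coind (A := A) M where
  toFun f := Coind.mk (f.get ∘ₗ LinearMap.mulRight A (X : A[X]) -
    ((X : A[X]) • (LinearMap.id : M →ₗ[A[X]] M)).restrictScalars A ∘ₗ f.get)
  map_add' f g := Coind.ext fun x => by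
    show f.get (x * X) + g.get (x * X) - (X : A[X]) • (f.get x + g.get x) =
      f.get (x * X) - (X : A[X]) • f.get x + (g.get (x * X) - (X : A[X]) • g.get x)
    rw [smul_add]
    abel
  map_smul' r f := Coind.ext fun x => by
    show f.get (x * X * r) - (X : A[X]) • f.get (x * r) =
      f.get (x * r * X) - (X : A[X]) • f.get (x * r)
    rw [mul_right_comm]

theorem unit_injective : Function.Injective (unit (A := A) M) := fun a b h => by
  have := congrArg (fun f : Coind (A := A) M => f.get 1) h
  change (1 : A[X]) • a = (1 : A[X]) • b at this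
  rwa [one_smul, one_smul] at this

theorem diff_exact : Function.Exact (unit (A := A) M) (diff M) := by
  intro f
  constructor
  · intro h
    have hX : ∀ x, f.get (x * X) = (X : A[X]) • f.get x := fun x => by
      have := congrArg (fun f : Coind (A := A) M => f.get x) h
      exact sub_eq_zero.1 this
    refine ⟨f.get 1, Coind.ext fun x => ?_⟩
    show x • f.get 1 = f.get x
    induction x using Polynomial.induction_on' with
    | add p q hp hq => rw [add_smul, map_add, hp, hq]
    | monomial n a =>
      rw [← Polynomial.C_mul_X_pow_eq_monomial, ← Polynomial.smul_eq_C_mul, smul_assoc, map_smul]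
      congr 1
      induction n with
      | zero => rw [pow_zero, one_smul]
      | succ n ih => rw [pow_succ, hX, ← ih, smul_smul, mul_comm]
  · rintro ⟨m, rfl⟩
    refine Coind.ext fun x => ?_
    show (x * X) • m - (X : A[X]) • x • m = 0
    rw [smul_smul, mul_comm, sub_self]

theorem diff_get (g : A[X] →ₗ[A] M) (x : A[X]) :
    (diff M (Coind.mk g)).get x = g (x * X) - (X : A[X]) • g x := rfl

theorem diff_surjective : Function.Surjective (diff (A := A) M) := by
  intro φ
  let c : ℕ → M := fun n => Nat.rec 0 (fun k ck => (X : A[X]) • ck + φ.get (X ^ k)) n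
  have hc : ∀ k, c (k + 1) = (X : A[X]) • c k + φ.get (X ^ k) := fun k => rfl
  clear_value c
  have key : ∀ g : A[X] →ₗ[A] M, (∀ k, g (X ^ k) = c k) → diff M (Coind.mk g) = φ := fun g hg => by
    refine Coind.ext fun x => ?_
    rw [diff_get]
    induction x using Polynomial.induction_on' with
    | add p q hp hq =>
      rw [add_mul, map_add, map_add, smul_add, map_add, ← hp, ← hq]
      abel
    | monomial n a =>
      rw [← Polynomial.C_mul_X_pow_eq_monomial, ← Polynomial.smul_eq_C_mul, smul_mul_assoc,
        ← pow_succ, map_smul, map_smul, map_smul, hg, hg, hc, smul_comm (X : A[X]) a, ← smul_sub,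
        add_sub_cancel_left]
  refine ⟨_, key ((Polynomial.basisMonomials A).constr A c) fun k => ?_⟩
  rw [← Polynomial.monomial_one_right_eq_X_pow,
    ← congrFun (Polynomial.coe_basisMonomials (R := A)) k, Module.Basis.constr_basis]

theorem injective_of_equiv {R : Type u} [CommRing R] {P Q : Type u} [AddCommGroup P] [Module R P]
    [AddCommGroup Q] [Module R Q] (e : P ≃ₗ[R] Q) (h : Module.Injective R P) : Module.Injective R Q :=
  Module.Baer.injective (Module.Baer.of_equiv e (Module.Baer.of_injective h))

theorem injective_polynomial_tensor [IsNoetherianRing A] (E : Type u) [AddCommGroup E] [Module A E]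
    [Module.Injective A E] : Module.Injective A (A[X] ⊗[A] E) := by
  classical
  let b := (Polynomial.basisMonomials A).reindex Equiv.ulift.{u}.symm
  let e : (A[X] ⊗[A] E) ≃ₗ[A] DirectSum (ULift.{u} ℕ) fun _ => E :=
    (b.repr.rTensor E).trans ((TensorProduct.finsuppScalarLeft A E (ULift.{u} ℕ)).trans
      (finsuppLEquivDirectSum A E (ULift.{u} ℕ)))
  exact injective_of_equiv e.symm
    (Groth.Agent.LC.injective_directSum (R := A) (fun _ : ULift.{u} ℕ => E) fun _ => inferInstance)

/-- A resolution by two injectives gives injective amplitude `[0, 1]`. -/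
theorem hasInjAmplitude_of_resolution {R : Type u} [CommRing R] (N J₀ J₁ : ModuleCat.{u} R)
    [hJ₀ : Module.Injective R J₀] [hJ₁ : Module.Injective R J₁] (a : N ⟶ J₀) (b : J₀ ⟶ J₁)
    (ha : Function.Injective a.hom) (hb : Function.Surjective b.hom) (hab : Function.Exact a.hom b.hom) :
    DRing.HasInjAmplitudeIn R 0 1 (Dual.inD R N) := by
  have hrel : (ComplexShape.up ℤ).Rel 0 1 := by simp
  have h01 : (0 : ℤ) ≠ 1 := by simp
  let E : DRing.Cx R := HomologicalComplex.double b hrel
  let e₀ := HomologicalComplex.doubleXIso₀ b hrel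
  let e₁ := HomologicalComplex.doubleXIso₁ b hrel h01
  let L : DRing.Cx R := (CochainComplex.singleFunctor (ModuleCat.{u} R) 0).obj N
  have w : a ≫ b = 0 := ModuleCat.hom_ext hab.linearMap_comp_eq_zero
  let φ : L ⟶ E := HomologicalComplex.mkHomFromSingle (a ≫ e₀.inv) fun k hk => by
    obtain rfl : (1 : ℤ) = k := by simpa using hk
    rw [HomologicalComplex.double_d b hrel h01, Category.assoc, Iso.inv_hom_id_assoc, reassoc_of% w,
      Limits.zero_comp]
  have hLz : ∀ k : ℤ, k ≠ 0 → IsZero (L.X k) := fun k hk =>
    HomologicalComplex.isZero_single_obj_X (ComplexShape.up ℤ) 0 N k hk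
  have hEz : ∀ k : ℤ, k < 0 ∨ 1 < k → IsZero (E.X k) := fun k hk =>
    HomologicalComplex.isZero_double_X b hrel k (by omega) (by omega)
  have hb' : Function.Surjective (E.d 0 1).hom := by
    rw [HomologicalComplex.double_d b hrel h01]
    exact (e₁.toLinearEquiv.symm.surjective.comp hb).comp e₀.toLinearEquiv.surjective
  have : QuasiIso φ := by
    refine ⟨fun i => ?_⟩
    rcases eq_or_ne i 0 with rfl | hi
    · rw [quasiIsoAt_iff' φ (-1) 0 1 (by simp) (by simp),
        ShortComplex.quasiIso_iff_of_zeros _ ((hLz (-1) (by simp)).eq_of_src _ _)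
          ((hLz 1 (by simp)).eq_of_tgt _ _) ((hEz (-1) (by simp)).eq_of_src _ _)]
      have hφ : φ.f 0 = (HomologicalComplex.singleObjXSelf (ComplexShape.up ℤ) 0 N).hom ≫ a ≫ e₀.inv :=
        HomologicalComplex.mkHomFromSingle_f _ _
      have hinj : Function.Injective (φ.f 0).hom := by
        rw [hφ]
        exact (e₀.toLinearEquiv.symm.injective.comp ha).comp
          (HomologicalComplex.singleObjXSelf (ComplexShape.up ℤ) 0 N).toLinearEquiv.injective
      refine ⟨?_, (ModuleCat.mono_iff_injective _).2 hinj⟩
      rw [ShortComplex.moduleCat_exact_iff]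
      intro x hx
      change (E.d 0 1).hom x = 0 at hx
      rw [HomologicalComplex.double_d b hrel h01] at hx
      have hx' : b.hom (e₀.hom.hom x) = 0 := e₁.toLinearEquiv.symm.injective (hx.trans (map_zero _).symm)
      obtain ⟨y, hy⟩ := (hab _).1 hx'
      obtain ⟨y', rfl⟩ := (HomologicalComplex.singleObjXSelf (ComplexShape.up ℤ) 0 N).toLinearEquiv.surjective y
      refine ⟨y', ?_⟩
      change (φ.f 0).hom y' = x
      rw [hφ]
      exact e₀.toLinearEquiv.injective ((e₀.toLinearEquiv.apply_symm_apply _).trans hy)
    · rw [quasiIsoAt_iff_exactAt φ i]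
      · rw [HomologicalComplex.exactAt_iff' _ (i - 1) i (i + 1) (by simp) (by simp)]
        rcases eq_or_ne i 1 with rfl | hi1
        · rw [ShortComplex.moduleCat_exact_iff]
          intro x _
          exact hb' x
        · exact ShortComplex.exact_of_isZero_X₂ _ (hEz i (by omega))
      · rw [HomologicalComplex.exactAt_iff' _ (i - 1) i (i + 1) (by simp) (by simp)]
        exact ShortComplex.exact_of_isZero_X₂ _ (hLz i hi)
  refine ⟨E, fun i hi => hEz i hi, fun i => ?_,
    ⟨(asIso (DerivedCategory.Q.map φ)).symm ≪≫
      ((DerivedCategory.singleFunctorIsoCompQ (ModuleCat.{u} R) 0).app N).symm⟩⟩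
  rcases eq_or_ne i 0 with rfl | hi
  · exact injective_of_equiv e₀.toLinearEquiv.symm hJ₀
  rcases eq_or_ne i 1 with rfl | hi1
  · exact injective_of_equiv e₁.toLinearEquiv.symm hJ₁
  · rw [Module.injective_iff_injective_object]
    exact Injective.of_iso (hEz i (by omega)).isoZero.symm inferInstance

end Groth.Agent.S1748

namespace Groth.Agent.S1748

/-- Let A be a Noetherian ring and E an injective A-module. Then A[x] ⊗_A E, as an object of D(A[x]) in
degree 0, has injective amplitude in [0, 1]: it is quasi-isomorphic to a complex of injective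
A[x]-modules concentrated in degrees 0 and 1. In particular it has finite injective dimension. -/
theorem result (A : Type u) [CommRing A] [IsNoetherianRing A] (E : Type u) [AddCommGroup E] [Module A E] [Module.Injective A E] : DRing.HasInjAmplitudeIn A[X] 0 1 (Dual.inD A[X] (A[X] ⊗[A] E)) := by
  have := injective_polynomial_tensor (A := A) E
  have := injective_coind (A := A) (A[X] ⊗[A] E)
  exact hasInjAmplitude_of_resolution (ModuleCat.of A[X] (A[X] ⊗[A] E))
    (ModuleCat.of A[X] (Coind (A := A) (A[X] ⊗[A] E))) (ModuleCat.of A[X] (Coind (A := A) (A[X] ⊗[A] E)))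
    (ModuleCat.ofHom (unit _)) (ModuleCat.ofHom (diff _)) (unit_injective _) (diff_surjective _)
    (diff_exact _)

end Groth.Agent.S1748
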