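import Groth.Statements.S17499
import Mathlib.AlgebraicGeometry.Noetherian

set_option autoImplicit false
set_option linter.style.haveILetI false
universe u
open RelQuot

namespace Groth.Agent.S17499

section
open CategoryTheory CategoryTheory.Limits AlgebraicGeometry

theorem cl_trivial {S X Y F : Scheme.{u}} (pY : Y ⟶ S) (pF : F ⟶ S) [LocallyOfFiniteType pY]
    [QuasiCompact pY] [LocallyOfFiniteType pF] [QuasiCompact pF] (f : X ⟶ Y) [LocallyOfFiniteType f]
    [QuasiCompact f] {U : Y.Opens} (e : (f ⁻¹ᵁ U).toScheme ≅ pullback (U.ι ≫ pY) pF)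
    (he : e.hom ≫ pullback.fst (U.ι ≫ pY) pF = f ∣_ U) {V : Scheme.{u}} (a : V ⟶ Y) (l : V ⟶ U.toScheme)
    (hl : l ≫ U.ι = a) [LocallyOfFiniteType a] [QuasiCompact a] :
    K0Var.cl (pullback.snd f a ≫ a ≫ pY) = K0Var.cl (a ≫ pY) * K0Var.cl pF := by
  subst hl
  let m : pullback ((l ≫ U.ι) ≫ pY) pF ⟶ pullback (U.ι ≫ pY) pF :=
    pullback.lift (pullback.fst _ _ ≫ l) (pullback.snd _ _) (by simp [← pullback.condition])
  have h1 : IsPullback m (pullback.fst ((l ≫ U.ι) ≫ pY) pF) (pullback.fst (U.ι ≫ pY) pF) l := by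
    refine IsPullback.of_right ?_ (pullback.lift_fst _ _ _) (IsPullback.of_hasPullback (U.ι ≫ pY) pF).flip
    rw [show m ≫ pullback.snd (U.ι ≫ pY) pF = pullback.snd ((l ≫ U.ι) ≫ pY) pF from pullback.lift_snd _ _ _]
    simpa using (IsPullback.of_hasPullback ((l ≫ U.ι) ≫ pY) pF).flip
  have h2 : IsPullback (e.inv ≫ (f ⁻¹ᵁ U).ι) (pullback.fst (U.ι ≫ pY) pF) f U.ι := by
    refine (isPullback_morphismRestrict f U).flip.of_iso e (Iso.refl _) (Iso.refl _) (Iso.refl _) ?_ ?_ ?_ ?_
    · simp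
    · simp [he]
    · simp
    · simp
  have h3 := h1.paste_horiz h2
  rw [← K0Var.cl_mul]
  exact K0Var.cl_congr _ _ h3.isoPullback.symm (by simp [h3.isoPullback_inv_snd_assoc])

theorem cl_closeds {S X Y F : Scheme.{u}} (pY : Y ⟶ S) (pF : F ⟶ S) [LocallyOfFiniteType pY]
    [QuasiCompact pY] [LocallyOfFiniteType pF] [QuasiCompact pF] (f : X ⟶ Y) [LocallyOfFiniteType f]
    [QuasiCompact f] [IsNoetherian Y]
    (hf : ∀ y : Y, ∃ (U : Y.Opens) (e : (f ⁻¹ᵁ U).toScheme ≅ pullback (U.ι ≫ pY) pF),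
      y ∈ U ∧ e.hom ≫ pullback.fst (U.ι ≫ pY) pF = f ∣_ U)
    (C : TopologicalSpace.Closeds Y) :
    ∀ (W : Scheme.{u}) (i : W ⟶ Y) [IsClosedImmersion i], Set.range i = (C : Set Y) →
      K0Var.cl (pullback.snd f i ≫ i ≫ pY) = K0Var.cl (i ≫ pY) * K0Var.cl pF := by
  induction C using WellFoundedLT.induction (α := TopologicalSpace.Closeds Y) with
  | _ C ih =>
  intro W i _ hC
  rcases isEmpty_or_nonempty W with hW | ⟨⟨w⟩⟩
  · haveI : IsEmpty ↥(pullback f i) := ⟨fun z => hW.false (pullback.snd f i z)⟩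
    rw [K0Var.cl_eq_gen_cl, K0Var.cl_eq_gen_cl (i ≫ pY), K0Var.Gen.cl_eq_zero_of_isEmpty,
      K0Var.Gen.cl_eq_zero_of_isEmpty, zero_mul]
  obtain ⟨U, e, hw, he⟩ := hf (i w)
  haveI : IsLocallyNoetherian W := LocallyOfFiniteType.isLocallyNoetherian i
  let O := i ⁻¹ᵁ U
  let D : TopologicalSpace.Closeds W := ⟨(O : Set W)ᶜ, O.isOpen.isClosed_compl⟩
  let c := (Scheme.IdealSheafData.vanishingIdeal D).subschemeι
  have hc : Set.range c = (Set.range O.ι)ᶜ := by
    rw [Scheme.IdealSheafData.range_subschemeι, Scheme.IdealSheafData.coe_support_vanishingIdeal,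
      Scheme.Opens.range_ι]
    rfl
  have hW := K0Var.cl_scissor (i ≫ pY) c O.ι hc
  have hX := K0Var.cl_scissor (pullback.snd f i ≫ i ≫ pY) (pullback.fst (pullback.snd f i) c)
    (pullback.fst (pullback.snd f i) O.ι) (by
      rw [Scheme.Pullback.range_fst, Scheme.Pullback.range_fst, hc, Set.preimage_compl])
  have hg : ∀ {V : Scheme.{u}} (b : V ⟶ W) [LocallyOfFiniteType b] [QuasiCompact b],
      K0Var.cl (pullback.fst (pullback.snd f i) b ≫ pullback.snd f i ≫ i ≫ pY) =
        K0Var.cl (pullback.snd f (b ≫ i) ≫ (b ≫ i) ≫ pY) := fun {V} b _ _ =>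
    K0Var.cl_congr _ _ (pullbackLeftPullbackSndIso f i b) (by
      rw [pullback.condition_assoc, pullbackLeftPullbackSndIso_hom_snd_assoc, Category.assoc])
  have hlt : (⟨Set.range (c ≫ i), (c ≫ i).isClosedEmbedding.isClosed_range⟩ : TopologicalSpace.Closeds Y) < C := by
    refine lt_of_le_of_ne (fun y hy => ?_) fun h => ?_
    · obtain ⟨z, rfl⟩ := hy
      rw [← SetLike.mem_coe, ← hC]
      exact ⟨c z, rfl⟩
    · obtain ⟨z, hz⟩ : i w ∈ Set.range (c ≫ i) := by
        have := congrArg (fun C : TopologicalSpace.Closeds Y => (C : Set Y)) h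
        rw [show Set.range (c ≫ i) = (C : Set Y) from this, ← hC]
        exact ⟨w, rfl⟩
      have hcz : c z ∈ Set.range c := ⟨z, rfl⟩
      rw [hc, show c z = w from i.isClosedEmbedding.injective hz, Scheme.Opens.range_ι] at hcz
      exact hcz hw
  rw [hX, hW, hg c, hg O.ι, ih _ hlt _ (c ≫ i) rfl,
    cl_trivial pY pF f e he (O.ι ≫ i) (i ∣_ U) (morphismRestrict_ι i U), add_mul]
  simp only [Category.assoc]

end

open CategoryTheory CategoryTheory.Limits AlgebraicGeometry in
/-- Let k be an algebraically closed field of characteristic zero, X, Y and F schemes of finite type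
over k, and f : X → Y a morphism over k which is a Zariski locally trivial fibration with fibre F:
every point of Y has an open neighbourhood U together with an isomorphism from f⁻¹(U) to U ×_k F
whose composite with the first projection is the restriction of f. Then in the Grothendieck ring of
k-schemes of finite type the class of X equals [Y] · [F]. The published statement is for varieties;
it is stated here for schemes of finite type over k, which present the same ring. -/
theorem result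
    (k : Type u) [Field k] [IsAlgClosed k] [CharZero k] {X Y F : Scheme.{u}}
    (pY : Y ⟶ Spec (CommRingCat.of k)) [LocallyOfFiniteType pY] [QuasiCompact pY]
    (pF : F ⟶ Spec (CommRingCat.of k)) [LocallyOfFiniteType pF] [QuasiCompact pF]
    (f : X ⟶ Y) [LocallyOfFiniteType f] [QuasiCompact f]
    (hf : ∀ y : Y, ∃ (U : Y.Opens) (e : (f ⁻¹ᵁ U).toScheme ≅ pullback (U.ι ≫ pY) pF),
      y ∈ U ∧ e.hom ≫ pullback.fst (U.ι ≫ pY) pF = f ∣_ U) :
    K0Var.cl (f ≫ pY) = K0Var.cl pY * K0Var.cl pF := by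
  haveI : IsLocallyNoetherian Y := LocallyOfFiniteType.isLocallyNoetherian pY
  haveI : CompactSpace Y := QuasiCompact.compactSpace_of_compactSpace pY
  haveI : IsNoetherian Y := {}
  have h := cl_closeds pY pF f hf ⊤ Y (𝟙 Y) (by rw [TopologicalSpace.Closeds.coe_top]; exact Set.range_id)
  rw [K0Var.cl_congr (pullback.snd f (𝟙 Y) ≫ 𝟙 Y ≫ pY) (f ≫ pY) (asIso (pullback.fst f (𝟙 Y)))
    (by simp [pullback.condition_assoc])] at h
  simpa using h

end Groth.Agent.S17499
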