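import Groth.Statements.S17513
import Groth.Agent.AVTors2.Power
import Groth.Agent.AVTors2.HomFG
import Groth.Agent.AVDegPoly.FieldChar
import Mathlib.LinearAlgebra.Matrix.Kronecker
import Mathlib.FieldTheory.IsAlgClosed.AlgebraicClosure
-- import your own Groth.Agent.* helpers here

set_option autoImplicit false
set_option backward.isDefEq.respectTransparency false
set_option backward.isDefEq.respectTransparency.types false
set_option linter.style.haveILetI false
set_option synthInstance.maxHeartbeats 400000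
universe u
open CategoryTheory CategoryTheory.Limits MonoidalCategory CartesianMonoidalCategory MonObj GrpObj AlgebraicGeometry
open AbVar

namespace Groth.Agent.S17513

set_option maxHeartbeats 2000000 in
/-- Let X be an abelian variety over a field k (a proper, geometrically integral, commutative k-group
scheme) whose underlying space has Krull dimension g, let r be a natural number and α an r × r
matrix with integer entries. Write X^r for the r-fold product of X over k and [α]_X : X^r → X^r for
the homomorphism (x_1, …, x_r) ↦ (Σ_j α_{1j} x_j, …, Σ_j α_{rj} x_j), i.e. the map whose i-th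
component is the product, in the commutative group of maps X^r → X, of the powers pr_j^{α_{ij}}. If
det α ≠ 0 then [α]_X is finite and flat of constant degree |det α|^{2g} = det(α)^{2g}. (The
published statement covers det α = 0 too, with the convention that a non-finite homomorphism has
degree 0; that case says only that [α]_X is not finite and is not part of this row.) -/
theorem result
    (k : Type u) [Field k] (X : Over (Spec (CommRingCat.of k))) [GrpObj X] [IsCommMonObj X]
    [IsProper X.hom] [GeometricallyIntegral X.hom]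
    (g : ℕ) (hg : topologicalKrullDim ↥X.left = g)
    (r : ℕ) (α : Matrix (Fin r) (Fin r) ℤ) (hα : α.det ≠ 0)
    (φ : (∏ᶜ fun _ : Fin r => X) ⟶ (∏ᶜ fun _ : Fin r => X))
    (hφ : φ = Pi.lift (fun i => ∏ j : Fin r, (Pi.π (fun _ : Fin r => X) j) ^ (α i j))) :
    IsFinite φ.left ∧ Flat φ.left ∧
      ∀ y : ↥(∏ᶜ fun _ : Fin r => X).left, Scheme.Hom.finrank φ.left y = α.det.natAbs ^ (2 * g) := by
  classical
  let Ω := AlgebraicClosure k
  obtain ⟨l, hlp, hl⟩ := Groth.Agent.AVDegPoly.exists_prime_ne_zero k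
  haveI : Fact l.Prime := ⟨hlp⟩
  obtain ⟨W, _, _, _, _, pr, hj, hlift⟩ := Groth.Agent.AVTors2.exists_power X r
  let h : Fin r → EndAV.Hom W X := fun i => ∑ j, α i j • pr j
  obtain ⟨f, hf⟩ := hlift W fun i => (h i).toHom
  haveI : IsMonHom f :=
    { one_hom := hj _ _ _ fun j => by rw [Category.assoc, hf, IsMonHom.one_hom, IsMonHom.one_hom]
      mul_hom := hj _ _ _ fun j => by
        rw [Category.assoc, hf, IsMonHom.mul_hom, Category.assoc, IsMonHom.mul_hom (f := (pr j).toHom),
          ← Category.assoc, tensorHom_comp_tensorHom, hf] }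
  -- comparison with the categorical product
  obtain ⟨u, hu⟩ := hlift (∏ᶜ fun _ : Fin r => X) (Limits.Pi.π (fun _ : Fin r => X))
  let v : W ⟶ ∏ᶜ fun _ : Fin r => X := Limits.Pi.lift fun i => (pr i).toHom
  haveI : IsIso u := ⟨v, Limits.Pi.hom_ext _ _ fun i => by simp [v, hu], hj _ _ _ fun i => by simp [v, hu]⟩
  haveI : IsIso v := ⟨u, hj _ _ _ fun i => by simp [v, hu], Limits.Pi.hom_ext _ _ fun i => by simp [v, hu]⟩
  have hφ' : φ = u ≫ f ≫ v := by
    rw [hφ]
    refine Limits.Pi.hom_ext _ _ fun i => ?_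
    simp only [v, Category.assoc, Limits.Pi.lift_π, hf, h, Groth.Agent.AVTors2.toHom_sum, EndAV.Hom.toHom_zsmul,
      Groth.Agent.AVTors2.comp_prod, GrpObj.comp_zpow, hu]
  -- the Tate module of the power
  obtain ⟨G, P, hG, -, hdata, hdeg⟩ := Groth.Agent.AVDegPoly.exists_charpoly_data (Ω := Ω) f
  obtain ⟨hfreeX, hfinX, hrankX⟩ := Groth.Agent.AVTors2.tate_props (A := X) Ω l hg hl
  obtain ⟨hfreeW, hfinW, hrankW⟩ := Groth.Agent.AVTors2.tate_props (A := W) Ω l hG hl
  haveI := hfreeX
  haveI := hfinX
  haveI := hfreeW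
  haveI := hfinW
  let T₀ := SGA7.pt (K := k) Ω
  let ev : AbDual.TateMod W l T₀ →ₗ[ℤ_[l]] (Fin r → AbDual.TateMod X l T₀) :=
    LinearMap.pi fun i => AbDual.tateMapₗ (l := l) (T := T₀) (pr i).toHom
  have hev : Function.Bijective ev := by
    refine ⟨fun x y hxy => AbDual.TateMod.ext fun n => ?_, fun x => ?_⟩
    · exact congrArg Additive.ofMul (hj _ ((AbDual.TateMod.component W l T₀ n x).toMul)
        ((AbDual.TateMod.component W l T₀ n y).toMul) fun i =>
          congrArg (fun z => (AbDual.TateMod.component X l T₀ n (z i)).toMul) hxy)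
    · choose z hz using fun n => hlift T₀ fun i => (AbDual.TateMod.component X l T₀ n (x i)).toMul
      refine ⟨⟨fun n => Additive.ofMul (z n), ⟨fun n => ?_, fun n => ?_⟩⟩, funext fun i => AbDual.TateMod.ext fun n => ?_⟩
      · refine congrArg Additive.ofMul (hj _ _ _ fun i => ?_)
        show ((z n) ^ (l ^ n)) ≫ _ = (1 : T₀ ⟶ W) ≫ _
        rw [MonObj.pow_comp, hz, MonObj.one_comp]
        exact congrArg Additive.toMul (AbDual.TateMod.torsion (x i) n)
      · refine congrArg Additive.ofMul (hj _ _ _ fun i => ?_)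
        show ((z (n + 1)) ^ l) ≫ _ = (z n) ≫ _
        rw [MonObj.pow_comp, hz, hz]
        exact congrArg Additive.toMul (AbDual.TateMod.compat (x i) n)
      · exact congrArg Additive.ofMul (hz n i)
  let ee := LinearEquiv.ofBijective ev hev
  let b : Module.Basis (Fin (2 * g)) ℤ_[l] (AbDual.TateMod X l T₀) := Module.finBasisOfFinrankEq _ _ hrankX
  let B : Module.Basis (Fin r × Fin (2 * g)) ℤ_[l] (AbDual.TateMod W l T₀) :=
    ((Pi.basis fun _ : Fin r => b).map ee.symm).reindex (Equiv.sigmaEquivProd _ _)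
  have hact : ∀ x i, ev (AbDual.tateMapₗ (l := l) (T := T₀) f x) i = ∑ j, α i j • ev x j := by
    intro x i
    have e1 : EndAV.Hom.of f ≫ pr i = h i := EndAV.Hom.ext (hf i)
    have e2 : ev (AbDual.tateMapₗ (l := l) (T := T₀) f x) i = EndAV.Hom.tateMap (A := W) (B := X) l T₀ (h i) x := by
      rw [← e1]
      exact AbDual.TateMod.ext fun n => congrArg Additive.ofMul (Category.assoc _ _ _)
    rw [e2]
    simp only [h, map_sum, map_zsmul, LinearMap.sum_apply, LinearMap.smul_apply]
    rfl
  have hBr : ∀ y (i : Fin r) (a : Fin (2 * g)), B.repr y (i, a) = b.repr (ev y i) a := fun y i a => by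
    rw [Module.Basis.repr_reindex_apply, Module.Basis.map_repr, LinearEquiv.trans_apply, LinearEquiv.symm_symm]
    rw [show (Equiv.sigmaEquivProd (Fin r) (Fin (2 * g))).symm (i, a) = ⟨i, a⟩ from rfl, Pi.basis_repr]
    rfl
  have hmat : LinearMap.toMatrix B B (AbDual.tateMapₗ (l := l) (T := T₀) f) =
      Matrix.kroneckerMap (· * ·) (α.map (Int.cast : ℤ → ℤ_[l])) (1 : Matrix (Fin (2 * g)) (Fin (2 * g)) ℤ_[l]) := by
    ext ⟨i, a⟩ ⟨j, c⟩
    have hB : ev (B (j, c)) = Pi.single j (b c) := by
      rw [Module.Basis.reindex_apply, Module.Basis.map_apply]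
      show ee (ee.symm _) = _
      rw [LinearEquiv.apply_symm_apply]
      exact Pi.basis_apply (fun _ : Fin r => b) ⟨j, c⟩
    rw [LinearMap.toMatrix_apply, hBr, hact, hB, map_sum, Finset.sum_apply']
    rw [Finset.sum_eq_single j (fun j' _ hj' => by simp [hj'])
      (by simp), Pi.single_eq_same, ← Int.cast_smul_eq_zsmul ℤ_[l], map_smul, Module.Basis.repr_self,
      Finsupp.smul_apply, Finsupp.single_apply, smul_eq_mul, Matrix.kroneckerMap_apply, Matrix.map_apply, Matrix.one_apply]
    simp only [eq_comm]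
  obtain ⟨-, hchar⟩ := hdata l hl
  have hdet : LinearMap.det (AbDual.tateMapₗ (l := l) (T := T₀) f) = ((α.det ^ (2 * g) : ℤ) : ℤ_[l]) := by
    rw [← LinearMap.det_toMatrix B, hmat, Matrix.det_kronecker, Matrix.det_one, one_pow, _root_.mul_one,
      Fintype.card_fin, Int.cast_pow]
    congr 1
    exact ((Int.castRingHom ℤ_[l]).map_det α).symm
  have hP0 : P.eval 0 = α.det ^ (2 * g) := by
    apply RingHom.injective_int (Int.castRingHom ℤ_[l])
    have h1 := LinearMap.det_eq_sign_charpoly_coeff (AbDual.tateMapₗ (l := l) (T := T₀) f)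
    rw [hchar, hrankW, (even_two_mul G).neg_one_pow, _root_.one_mul, Polynomial.coeff_map, hdet] at h1
    rw [← Polynomial.coeff_zero_eq_eval_zero, ← h1, eq_intCast]
  have hne : (P.eval 0 : ℤ) ≠ 0 := by rw [hP0]; exact pow_ne_zero _ hα
  haveI hfin : IsFinite f.left := by
    by_contra hnf
    exact hne (by exact_mod_cast hdeg.2 hnf)
  obtain ⟨_, _, _⟩ := Groth.Agent.AVDegPoly.hom_props hG hG f
  haveI : IsIso u.left := inferInstanceAs (IsIso ((Over.forget _).map u))
  haveI : IsIso v.left := inferInstanceAs (IsIso ((Over.forget _).map v))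
  subst hφ'
  rw [Over.comp_left, Over.comp_left]
  refine ⟨inferInstance, inferInstance, fun y => ?_⟩
  rw [Scheme.Hom.finrank_comp_left_of_isIso,
    Scheme.Hom.finrank_of_isPullback (𝟙 _) (f.left ≫ v.left) f.left (inv v.left)
      (IsPullback.of_horiz_isIso ⟨by simp⟩) y]
  have h2 : (f.left.finrank ((inv v.left) y) : ℤ) = P.eval 0 := by exact_mod_cast hdeg.1 hfin _
  rw [hP0] at h2
  apply Int.natCast_inj.1
  rw [h2, Nat.cast_pow, Int.natCast_natAbs, (even_two_mul g).pow_abs]

end Groth.Agent.S17513
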