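import Groth.Statements.S17514
import Groth.Agent.AVTors2.Isog
import Groth.Agent.AVTors2.PtsFinite
import Groth.Agent.AVTors2.HomFG
-- import your own Groth.Agent.* helpers here

set_option autoImplicit false
set_option backward.isDefEq.respectTransparency false
set_option backward.isDefEq.respectTransparency.types false
set_option linter.style.haveILetI false
universe u
open CategoryTheory CategoryTheory.Limits MonoidalCategory CartesianMonoidalCategory MonObj GrpObj AlgebraicGeometry
open AbVar

namespace Groth.Agent.S17514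

/-- Let k be a field with algebraic closure k̄, ℓ a prime number invertible in k, X and Y abelian
varieties over k (proper, geometrically integral, commutative k-group schemes), f : X → Y an isogeny
(a homomorphism which is finite and surjective) and i : N → X its kernel (the square formed by i, f,
the unit of Y and the structure map of N is cartesian). Let T_ℓ denote the Tate module formed with
k̄-valued points and T_ℓ f : T_ℓ X → T_ℓ Y the induced ℤ_ℓ-linear map. Then T_ℓ f is injective and
its cokernel is isomorphic, as a group, to the ℓ-primary part of the finite group N(k̄) of k̄-valued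
points of N (existence of an isomorphism; the published sequence 0 → T_ℓ X → T_ℓ Y → N_ℓ(k_s) → 0 is
moreover Galois-equivariant with a specific connecting map, and uses points over a separable
closure, which for ℓ-power torsion gives the same groups). -/
theorem result
    (k : Type u) [Field k] (ℓ : ℕ) [Fact ℓ.Prime] (hℓ : (ℓ : k) ≠ 0)
    (X Y : Over (Spec (CommRingCat.of k)))
    [GrpObj X] [IsCommMonObj X] [IsProper X.hom] [GeometricallyIntegral X.hom]
    [GrpObj Y] [IsCommMonObj Y] [IsProper Y.hom] [GeometricallyIntegral Y.hom]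
    (f : X ⟶ Y) [IsMonHom f] [IsFinite f.left] [Surjective f.left]
    (N : Over (Spec (CommRingCat.of k))) [GrpObj N] [IsCommMonObj N] (i : N ⟶ X) [IsMonHom i]
    (hN : AlgGrp.IsKernel i f) :
    Function.Injective (AbDual.tateMapₗ (l := ℓ)
        (T := Over.mk (Spec.map (CommRingCat.ofHom (algebraMap k (AlgebraicClosure k))))) f) ∧
      Nonempty ((AbDual.TateMod Y ℓ (Over.mk (Spec.map (CommRingCat.ofHom (algebraMap k (AlgebraicClosure k))))) ⧸
          LinearMap.range (AbDual.tateMapₗ (l := ℓ)
            (T := Over.mk (Spec.map (CommRingCat.ofHom (algebraMap k (AlgebraicClosure k))))) f)) ≃+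
        Additive ↥(CommGroup.primaryComponent
          (Over.mk (Spec.map (CommRingCat.ofHom (algebraMap k (AlgebraicClosure k)))) ⟶ N) ℓ)) := by
  let s : Spec (CommRingCat.of (AlgebraicClosure k)) ⟶ Spec (CommRingCat.of k) :=
    Spec.map (CommRingCat.ofHom (algebraMap k (AlgebraicClosure k)))
  have hfin : Finite {x : Over.mk s ⟶ X // x ≫ f = 1} := Groth.Agent.AVTors2.finite_fibre f s 1
  have hsurj : ∀ y : Over.mk s ⟶ Y, ∃ x, x ≫ f = y := Groth.Agent.AVTors2.exists_lift f s
  refine ⟨Groth.Agent.AVTors2.tateMap_injective f hfin, ?_⟩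
  obtain ⟨g, hg⟩ : ∃ g : ℕ, topologicalKrullDim X.left = g := by
    haveI : IsIntegral X.left := GeometricallyIntegral.isIntegral_of_subsingleton X.hom
    exact ⟨_, Groth.Agent.VarDim.topologicalKrullDim_eq_deg_genericPoint X.hom⟩
  obtain ⟨g', hg'⟩ : ∃ g : ℕ, topologicalKrullDim Y.left = g := by
    haveI : IsIntegral Y.left := GeometricallyIntegral.isIntegral_of_subsingleton Y.hom
    exact ⟨_, Groth.Agent.VarDim.topologicalKrullDim_eq_deg_genericPoint Y.hom⟩
  have hcX : ∀ n : ℕ, Nat.card (AbDual.torsPts X (ℓ ^ n) (Over.mk s)) = (ℓ ^ n) ^ (2 * g) := fun n =>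
    Groth.Agent.AVTors2.card_torsPts hg (by rw [Nat.cast_pow]; exact pow_ne_zero _ hℓ) _
  have hF : Module.Finite ℤ_[ℓ] (AbDual.TateMod Y ℓ (Over.mk s)) :=
    (Groth.Agent.AVTors2.tate_props (A := Y) (AlgebraicClosure k) ℓ hg' hℓ).2.1
  obtain ⟨Ψ, hΨ, hΨsurj, hΨker⟩ := Groth.Agent.AVTors2.exists_connecting (l := ℓ) f hsurj hfin hcX hF
  have hw : i ≫ f = 1 := hN.w
  haveI : Mono i := ⟨fun {Z} u v huv => hN.hom_ext huv (toUnit_unique _ _)⟩
  let P := CommGroup.primaryComponent (Over.mk s ⟶ N) ℓ
  have hlift : ∀ y, ∃ q : P, q.1 ≫ i = (Ψ y).toMul := fun y => by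
    obtain ⟨hk, j, hj⟩ := hΨ y
    refine ⟨⟨hN.lift (Ψ y).toMul (toUnit _) (hk.trans rfl), j, ?_⟩, hN.lift_fst _ _ _⟩
    rw [← cancel_mono i, MonObj.pow_comp, hN.lift_fst, MonObj.one_comp]
    exact hj
  choose q hq using hlift
  let Ψ' : AbDual.TateMod Y ℓ (Over.mk s) →+ Additive P :=
    AddMonoidHom.mk' (fun y => Additive.ofMul (q y)) fun y y' => Additive.toMul.injective (Subtype.ext (by
      show (q (y + y')).1 = (q y).1 * (q y').1
      rw [← cancel_mono i, MonObj.mul_comp, hq, hq, hq, map_add]
      rfl))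
  have hker : ∀ y, Ψ' y = 0 ↔ Ψ y = 0 := fun y => by
    constructor
    · intro h
      have h1 : (q y).1 = 1 := congrArg (fun z : Additive P => (Additive.toMul z).1) h
      refine Additive.toMul.injective ?_
      rw [← hq y, h1, MonObj.one_comp]
      rfl
    · intro h
      refine Additive.toMul.injective (Subtype.ext ?_)
      show (q y).1 = 1
      rw [← cancel_mono i, hq, MonObj.one_comp, h]
      rfl
  let R := LinearMap.range (AbDual.tateMapₗ (l := ℓ) (T := Over.mk s) f)
  refine ⟨AddEquiv.ofBijective (QuotientAddGroup.lift R.toAddSubgroup Ψ' fun y hy =>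
    (hker y).2 ((hΨker y).2 hy)) ⟨?_, fun z => ?_⟩⟩
  · rw [injective_iff_map_eq_zero]
    intro z hz
    obtain ⟨y, rfl⟩ := QuotientAddGroup.mk_surjective z
    exact (QuotientAddGroup.eq_zero_iff y).2 ((hΨker y).1 ((hker y).1 hz))
  · obtain ⟨j, hj⟩ := (Additive.toMul z).2
    obtain ⟨y, hy⟩ := hΨsurj ((Additive.toMul z).1 ≫ i) (by rw [Category.assoc, hw, MonObj.comp_one])
      ⟨j, by rw [← MonObj.pow_comp, hj, MonObj.one_comp]⟩
    refine ⟨QuotientAddGroup.mk y, Additive.toMul.injective (Subtype.ext ?_)⟩
    show (q y).1 = (Additive.toMul z).1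
    rw [← cancel_mono i, hq, hy]

end Groth.Agent.S17514
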