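import Groth.Statements.S17587
import Groth.Agent.PosLinX.Sect
import Groth.Agent.H23.PicInv

set_option autoImplicit false
open CategoryTheory CategoryTheory.Limits AlgebraicGeometry
open PosLin
open Groth.Agent Groth.Agent.H23.PicMul Groth.Agent.PosLinX

namespace Groth.Agent.S17587

/-- Let X be a projective variety over the complex numbers (an integral scheme, proper over ℂ, with an
ample invertible module), and L an invertible O_X-module which is big, bigness being expressed
through the equivalent condition that every ample invertible O_X-module A admits a monomorphism A →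
L^⊗m for some m > 0. Then the exponent of L is 1, that is, H^0(X, L^⊗m) ≠ 0 for every sufficiently
large m. -/
theorem result (X : Scheme.{0}) [X.Over (Spec (CommRingCat.of ℂ))] [IsIntegral X]
    [IsProper (X ↘ Spec (CommRingCat.of ℂ))] (H : X.Modules) (hH : CohB1.IsAmple H)
    (L : X.Modules) (hL : PicF.IsInvertible L)
    (hbig : ∀ A : X.Modules, CohB1.IsAmple A → ∃ (m : ℕ) (φ : A ⟶ CohB1.tensorPow L m), 0 < m ∧ Mono φ) :
    ∃ m₁ : ℕ, ∀ m : ℕ, m₁ ≤ m → Nontrivial (Coh.HH X (CohB1.tensorPow L m) 0) := by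
  haveI : CompactSpace X := QuasiCompact.compactSpace_of_compactSpace (X ↘ Spec (CommRingCat.of ℂ))
  haveI : X.IsSeparated := ⟨by
    rw [← Limits.terminal.comp_from (X ↘ Spec (CommRingCat.of ℂ))]; infer_instance⟩
  obtain ⟨a, ha, hHa⟩ := exists_pow_hasSec hH
  obtain ⟨n₀, hn₀, htw⟩ := AmpleX.eventually_ample_tensor hH hL
  have hn : n₀ ≤ a * n₀ := Nat.le_mul_of_pos_left _ ha
  have hK : HasSec (CohB1.tensorPow H (a * n₀)) :=
    HasSec.of_cl (InvX.isInvertible_tensorPow (InvX.isInvertible_tensorPow hH.1 _) _)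
      (by rw [cl_tensorPow, cl_tensorPow, cl_tensorPow, ← pow_mul]) (hHa.pow (InvX.isInvertible_tensorPow hH.1 _) n₀)
  obtain ⟨M, φ, hM, hφ⟩ := hbig _ (htw _ hn).1
  obtain ⟨i, rfl⟩ := Nat.exists_eq_add_of_le' (Nat.succ_le_of_lt hM)
  obtain ⟨D, hD, hLD⟩ := H23.PicInv.exists_inverse hL
  have hcl : PicF.cl L * PicF.cl D = 1 := cl_eq_iff.2 hLD
  obtain ⟨e₁⟩ := cl_eq_iff.1 (show PicF.cl (CohB1.tensorPow H (a * n₀)) =
      PicF.cl (CohB1.tensorMod (CohB1.tensorMod (CohB1.tensorPow H (a * n₀)) L) D) by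
    rw [cl_tensor, cl_tensor, mul_assoc, hcl, mul_one])
  obtain ⟨e₂⟩ := cl_eq_iff.1 (show PicF.cl (CohB1.tensorMod (CohB1.tensorPow L (i + 1)) D) =
      PicF.cl (CohB1.tensorPow L i) by
    rw [cl_tensor, cl_tensorPow, cl_tensorPow, pow_succ, mul_assoc, hcl, mul_one])
  have hi : HasSec (CohB1.tensorPow L i) := by
    haveI := mono_tw_map hD φ
    exact ((hK.comp_mono e₁.hom).comp_mono ((AmpleVan.tw D).map φ)).comp_mono e₂.hom
  have hi1 : HasSec (CohB1.tensorPow L (i + 1)) :=
    (hasSec_of_generated (htw _ hn).1.1 (htw _ hn).2).comp_mono φ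
  refine ⟨i * i, fun m hm => nontrivial_HH_zero ?_⟩
  have key : ∀ p q : ℕ, HasSec (CohB1.tensorPow L (i * p + (i + 1) * q)) := fun p q => by
    have hI := InvX.isInvertible_tensorPow hL i
    have hI' := InvX.isInvertible_tensorPow hL (i + 1)
    exact HasSec.of_cl (InvX.isInvertible_tensorMod (InvX.isInvertible_tensorPow hI p)
      (InvX.isInvertible_tensorPow hI' q))
      (by simp only [cl_tensor, cl_tensorPow, ← pow_mul, ← pow_add])
      ((hi.pow hI p).tensor (InvX.isInvertible_tensorPow hI p) (InvX.isInvertible_tensorPow hI' q)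
        (hi1.pow hI' q))
  rcases Nat.eq_zero_or_pos i with rfl | hipos
  · simpa using key 0 m
  · have h1 := Nat.mod_lt m hipos
    have h2 := Nat.div_add_mod m i
    have h3 : i ≤ m / i := (Nat.le_div_iff_mul_le hipos).2 hm
    have h4 := key (m / i - m % i) (m % i)
    have h5 : i * (m / i - m % i) + (i + 1) * (m % i) = m := by
      have : i * (m / i - m % i) + i * (m % i) = i * (m / i) := by
        rw [← mul_add, Nat.sub_add_cancel (h1.le.trans h3)]
      rw [Nat.add_mul, one_mul, ← add_assoc, this, h2]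
    rwa [h5] at h4

end Groth.Agent.S17587
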