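import Groth.Statements.S17632
import Groth.Agent.VarGrow31.MultiLip
-- import your own Groth.Agent.* helpers here

set_option autoImplicit false
universe u
open CategoryTheory CategoryTheory.Limits AlgebraicGeometry
open Variety

namespace Groth.Agent.S17632

/-- Let X be an integral scheme, proper over an uncountable algebraically closed field k of
characteristic zero and admitting an ample invertible module, of dimension n (stated in the source
over the complex numbers), L an invertible O_X-module and A an ample invertible O_X-module with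
inverse A', i.e. A ⊗ A' ≅ O_X. Then for every i ≥ 0, (ĥ^i(X, L^{⊗p} ⊗ A') − ĥ^i(X, L^{⊗p})) / p^n
tends to 0 as p → ∞, where ĥ^i(X, M) = limsup_m dim_k H^i(X, M^{⊗m}) · n!/m^n. -/
theorem result (k : Type u) [Field k] [IsAlgClosed k] [CharZero k] [Uncountable k] (X : Scheme.{u})
    [X.Over (Spec (CommRingCat.of k))] [AlgebraicGeometry.IsIntegral X]
    [IsProper (X ↘ Spec (CommRingCat.of k))] (hproj : ∃ A : X.Modules, CohB1.IsAmple A)
    (n : ℕ) (hn : topologicalKrullDim X = n)
    (L : X.Modules) (hL : PicF.IsInvertible L) (A A' : X.Modules) (hA : CohB1.IsAmple A)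
    (hA' : ClSub.IsInverseOf A A') (i : ℕ) :
    Filter.Tendsto (fun p : ℕ =>
        (W4c5asymptcohfn.hhat k X n i (CohB1.tensorMod (CohB1.tensorPow L p) A') -
          W4c5asymptcohfn.hhat k X n i (CohB1.tensorPow L p)) / (p : ℝ) ^ n)
      Filter.atTop (nhds 0) := by
  have hAi : PicF.IsInvertible A' := SurfInt.isInvertible_of_isInverse hA.1 hA'
  letI := H23.PicMul.clMonoid X
  let S : Fin 2 → X.Modules := ![L, A']
  have hS : ∀ j, PicF.IsInvertible (S j) := fun j => by fin_cases j <;> assumption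
  obtain ⟨C, hC0, hC⟩ := VarGrow31.exists_lipschitz_mhat k (L := S) hS hn.le i
  have e1 : ∀ p : ℕ, PicF.cl (CohB1.tensorMod (CohB1.tensorPow L p) A') = VarGrow31.mclass S ![p, 1] := fun p => by
    rw [H23.PicMul.cl_tensor, H23.PicMul.cl_tensorPow, VarGrow31.mclass, Fin.prod_univ_two]
    simp [S]
  have e2 : ∀ p : ℕ, PicF.cl (CohB1.tensorPow L p) = VarGrow31.mclass S ![p, 0] := fun p => by
    rw [H23.PicMul.cl_tensorPow, VarGrow31.mclass, Fin.prod_univ_two]
    simp [S]
  refine squeeze_zero_norm' (a := fun p : ℕ => (C : ℝ) * 3 ^ (n - 1) * (1 / (p : ℝ))) ?_ ?_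
  · filter_upwards [Filter.eventually_ge_atTop 1] with p hp
    have hp0 : (1 : ℝ) ≤ p := by exact_mod_cast hp
    rw [VarGrow31.hhat_eq_mhat k n _ i _ (e1 p), VarGrow31.hhat_eq_mhat k n _ i _ (e2 p), Real.norm_eq_abs,
      abs_div, abs_of_nonneg (pow_nonneg (Nat.cast_nonneg (α := ℝ) p) n)]
    have h := hC ![p, 1] ![p, 0]
    have d1 : (∑ j : Fin 2, Nat.dist (![p, 1] j) (![p, 0] j)) = 1 := by
      simp [Fin.sum_univ_two, Nat.dist]
    rw [d1, Nat.cast_one, mul_one] at h
    rcases Nat.eq_zero_or_pos n with h0 | h0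
    · rw [hC0 h0] at h ⊢
      simp only [Nat.cast_zero, zero_mul] at h ⊢
      rw [le_antisymm h (abs_nonneg _)]
      simp
    obtain ⟨d, rfl⟩ : ∃ d, n = d + 1 := ⟨n - 1, by omega⟩
    simp only [Nat.add_sub_cancel] at h ⊢
    refine (div_le_div_of_nonneg_right (h.trans (mul_le_mul_of_nonneg_left
      (pow_le_pow_left₀ (Nat.cast_nonneg _) (show _ ≤ (3 : ℝ) * p from ?_) d) (Nat.cast_nonneg C)))
      (pow_nonneg (Nat.cast_nonneg _) _)).trans_eq ?_
    · simp [Fin.sum_univ_two]
      linarith
    · rw [mul_pow, pow_succ]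
      field_simp
  · simpa using tendsto_one_div_atTop_nhds_zero_nat.const_mul ((C : ℝ) * 3 ^ (n - 1))


end Groth.Agent.S17632
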