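import Groth.Statements.S17633
import Groth.Agent.VarGrow31.MultiLip
-- import your own Groth.Agent.* helpers here

set_option autoImplicit false
universe u
open CategoryTheory CategoryTheory.Limits AlgebraicGeometry
open Variety

namespace Groth.Agent.S17633

/-- Let X be an integral scheme, proper over an uncountable algebraically closed field k of
characteristic zero and admitting an ample invertible module, of dimension n (the published
statement is over the complex numbers), and let L_1, …, L_r be invertible O_X-modules with inverses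
M_1, …, M_r. For a ∈ ℤ^r write L^a = ⊗_j L_j^{a_j} (negative powers taken through the M_j) and ‖a‖ =
max_j |a_j|. Then for every i (the published statement takes 0 ≤ i ≤ n; for i > n both sides vanish)
there is a constant C such that for all a, b ∈ ℤ^r, |ĥ^i(X, L^a) − ĥ^i(X, L^b)| ≤ C · Σ_{q=1}^{n}
max(‖a‖, ‖b‖)^{n−q} · ‖a − b‖^q, where ĥ^i(X, L) = limsup_m dim_k H^i(X, L^{⊗m}) · n!/m^n. (The
published statement gives this Lipschitz-type estimate for ĥ^i as a function on the rational
Néron–Severi space with any fixed norm, together with its homogeneity of degree n; restricted to the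
classes spanned by L_1, …, L_r with the maximum norm on coordinates it reads as here.) -/
theorem result (k : Type u) [Field k] [IsAlgClosed k] [CharZero k] [Uncountable k] (X : Scheme.{u})
    [X.Over (Spec (CommRingCat.of k))] [AlgebraicGeometry.IsIntegral X]
    [IsProper (X ↘ Spec (CommRingCat.of k))] (hproj : ∃ A : X.Modules, CohB1.IsAmple A)
    (n : ℕ) (hn : topologicalKrullDim X = n)
    (r : ℕ) (L M : Fin r → X.Modules) (hL : ∀ j, PicF.IsInvertible (L j))
    (hM : ∀ j, ClSub.IsInverseOf (L j) (M j)) (i : ℕ) :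
    ∃ C : ℝ, ∀ a b : Fin r → ℤ,
      |W4c5asymptcohfn.hhat k X n i (W4c5asymptcohfn.ztwist X L M a) -
          W4c5asymptcohfn.hhat k X n i (W4c5asymptcohfn.ztwist X L M b)| ≤
        C * (Finset.Icc 1 n).sum (fun q =>
          (max ‖(fun j => ((a j : ℤ) : ℝ))‖ ‖(fun j => ((b j : ℤ) : ℝ))‖) ^ (n - q) *
            ‖(fun j => ((a j - b j : ℤ) : ℝ))‖ ^ q) := by
  obtain ⟨C, hC0, hC⟩ := VarGrow31.exists_lipschitz_mhat k (L := Fin.append L M)
    (VarGrow31.isInvertible_append hL hM) hn.le i
  refine ⟨(C : ℝ) * r * (2 * r : ℝ) ^ (n - 1), fun a b => ?_⟩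
  rw [VarGrow31.hhat_eq_mhat k n _ i _ (VarGrow31.cl_ztwist L M a),
    VarGrow31.hhat_eq_mhat k n _ i _ (VarGrow31.cl_ztwist L M b)]
  refine (hC _ _).trans ?_
  rcases Nat.eq_zero_or_pos n with h0 | h0
  · subst h0
    simp [hC0 rfl]
  set A := ‖(fun j => ((a j : ℤ) : ℝ))‖
  set B := ‖(fun j => ((b j : ℤ) : ℝ))‖
  set D := ‖(fun j => ((a j - b j : ℤ) : ℝ))‖
  have h1 : ((∑ j, VarGrow31.zexp a j) + (∑ j, VarGrow31.zexp b j) : ℕ) ≤ 2 * (r : ℝ) * max A B := by
    have := mul_le_mul_of_nonneg_left (le_max_left A B) (Nat.cast_nonneg (α := ℝ) r)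
    have := mul_le_mul_of_nonneg_left (le_max_right A B) (Nat.cast_nonneg (α := ℝ) r)
    have h1 : ((∑ j, VarGrow31.zexp a j : ℕ) : ℝ) ≤ r * A := VarGrow31.sum_zexp_le a
    have h2 : ((∑ j, VarGrow31.zexp b j : ℕ) : ℝ) ≤ r * B := VarGrow31.sum_zexp_le b
    rw [Nat.cast_add]
    linarith
  have h2 : (max A B) ^ (n - 1) * D ≤ (Finset.Icc 1 n).sum fun q => (max A B) ^ (n - q) * D ^ q := by
    have hA : 0 ≤ max A B := (norm_nonneg _).trans (le_max_left _ _)
    have hD : 0 ≤ D := norm_nonneg _
    refine le_trans (by simp) (Finset.single_le_sum (f := fun q => (max A B) ^ (n - q) * D ^ q)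
      (fun q _ => by positivity) (Finset.mem_Icc.2 ⟨le_rfl, h0⟩))
  calc (C : ℝ) * _ * _ ≤ (C : ℝ) * (r * D) * (2 * (r : ℝ) * max A B) ^ (n - 1) := by
        gcongr
        exact VarGrow31.sum_dist_zexp_le a b
    _ = (C : ℝ) * r * (2 * r : ℝ) ^ (n - 1) * ((max A B) ^ (n - 1) * D) := by rw [mul_pow]; ring
    _ ≤ _ := mul_le_mul_of_nonneg_left h2 (by positivity)


end Groth.Agent.S17633
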