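import Groth.Statements.S17637
import Groth.Agent.VarNum31.VeryAmple
-- import your own Groth.Agent.* helpers here

set_option autoImplicit false
universe u
open CategoryTheory CategoryTheory.Limits AlgebraicGeometry
open Variety

namespace Groth.Agent.S17637

/-- Let X be an integral scheme, proper over an algebraically closed field k of characteristic zero and
admitting an ample invertible module (the published statement is over the complex numbers). Then
there is a very ample invertible O_X-module A — A ≅ i^*O(1) for an immersion i : X → P^N_k over k —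
such that A ⊗ N is again very ample for every invertible O_X-module N which is numerically
equivalent to zero. (The published statement also provides one flat family over a quasi-projective
base whose fibres include every divisor of every |A ⊗ N|; that clause is not stated here.) -/
theorem result (k : Type u) [Field k] [IsAlgClosed k] [CharZero k] (X : Scheme.{u})
    [X.Over (Spec (CommRingCat.of k))] [AlgebraicGeometry.IsIntegral X]
    [IsProper (X ↘ Spec (CommRingCat.of k))] (hproj : ∃ A : X.Modules, CohB1.IsAmple A) :
    ∃ A : X.Modules, PicF.IsInvertible A ∧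
      RelAmple.IsRelVeryAmplePn (X ↘ Spec (CommRingCat.of k)) A ∧
      ∀ N : X.Modules, PicF.IsInvertible N → Pic13.IsNumEquivZero k X N →
        RelAmple.IsRelVeryAmplePn (X ↘ Spec (CommRingCat.of k)) (CohB1.tensorMod A N) := by
  open Groth.Agent in
  obtain ⟨A₀, hA₀⟩ := hproj
  open Groth.Agent in
  obtain ⟨m, r, b, -, hcl, hr, -⟩ := VarNum31.exists_closedImmersion_pow (X ↘ Spec (CommRingCat.of k)) hA₀
  haveI := hcl
  open Groth.Agent in
  obtain ⟨c, hc⟩ := VarNum31.exists_secAt_twist r hr (PicLoc.isInvertible_structureModule X)
  open Groth.Agent Groth.Agent.H23.PicMul in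
  refine ⟨Pic13Lib.oX r (1 + c), Pic13Lib.isInvertible_oX r _, ?_, fun N hN hNum => ?_⟩
  · refine Groth.Agent.VarNum31.isRelVeryAmplePn_tensor _ r hr (hc c le_rfl _ Groth.Agent.VarNum31.numTriv_structure) ?_
    open scoped Groth.Agent.H23.PicMul in
    rw [Groth.Agent.H23.PicMul.cl_tensor, Groth.Agent.H23.PicMul.cl_tensor, ← Groth.Agent.H23.PicMul.one_def,
      one_mul, one_mul, ← Groth.Agent.VarNum31.cl_oX_add]
  · refine Groth.Agent.VarNum31.isRelVeryAmplePn_tensor _ r hr (hc c le_rfl N ⟨hN, hNum⟩) ?_
    open scoped Groth.Agent.H23.PicMul in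
    rw [Groth.Agent.H23.PicMul.cl_tensor, Groth.Agent.H23.PicMul.cl_tensor, Groth.Agent.H23.PicMul.cl_tensor,
      ← Groth.Agent.H23.PicMul.one_def, one_mul, Groth.Agent.VarNum31.cl_oX_add, mul_assoc,
      mul_comm (PicF.cl N)]


end Groth.Agent.S17637
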