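import Groth.Statements.S17638
import Groth.Agent.SurfInt.AsympMain

set_option autoImplicit false
set_option linter.style.haveILetI false
set_option linter.unusedSectionVars false
set_option backward.isDefEq.respectTransparency false
set_option backward.isDefEq.respectTransparency.types false
universe u
open CategoryTheory CategoryTheory.Limits AlgebraicGeometry
open Surf

namespace Groth.Agent.S17638

/-- Let X be an integral scheme, smooth and proper over an uncountable algebraically closed field k of
characteristic zero and admitting an ample invertible module, of dimension 2 (a smooth projective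
surface; stated in the source over the complex numbers), and L an invertible O_X-module. Suppose a ≥
1 and L^{⊗a} ≅ L_P ⊗ L_N is a Zariski decomposition: L_P is invertible and nef (degree ≥ 0 on every
integral closed curve of X); L_N ≅ ⊗_j O(N_j)^{⊗ b_j} for finitely many integral closed curves N_1,
…, N_s ⊆ X and integers b_j ≥ 1, where O(N_j) is an inverse of the ideal sheaf of N_j; the
intersection matrix (N_j · N_l) is negative definite; and (L_P · N_j) = deg(L_P|_{N_j}) = 0 for
every j. Then, with M_P and M_N inverses of L_P and L_N and intersection numbers on X computed as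
alternating sums of Euler characteristics, ĥ^0(X, L) = (L_P · L_P)/a², ĥ^1(X, L) = −(L_N · L_N)/a²
and ĥ^2(X, L) = 0, where ĥ^i(X, L) = limsup_m dim_k H^i(X, L^{⊗m}) · 2!/m². (The source states this
for any pseudo-effective real divisor class D = P_D + N_D; for an integral D a positive multiple aD
has an integral decomposition as here.) -/
theorem result (k : Type u) [Field k] [IsAlgClosed k] [CharZero k]
    [Uncountable k] (X : Scheme.{u}) [X.Over (Spec (CommRingCat.of k))] [AlgebraicGeometry.IsIntegral X]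
    [IsProper (X ↘ Spec (CommRingCat.of k))] [Smooth (X ↘ Spec (CommRingCat.of k))]
    (hproj : ∃ A : X.Modules, CohB1.IsAmple A) (hX2 : topologicalKrullDim X = 2)
    (L LP LN MP MN : X.Modules) (hL : PicF.IsInvertible L) (hLP : PicF.IsInvertible LP)
    (hLN : PicF.IsInvertible LN) (hMP : ClSub.IsInverseOf LP MP) (hMN : ClSub.IsInverseOf LN MN)
    (a : ℕ) (ha : 1 ≤ a) (hdec : Nonempty (CohB1.tensorPow L a ≅ CohB1.tensorMod LP LN))
    (hnef : ∀ (Y : Scheme.{u}) (i : Y ⟶ X) [IsClosedImmersion i], AlgebraicGeometry.IsIntegral Y →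
      topologicalKrullDim Y = 1 →
        0 ≤ Pic13.curveDeg k (i ≫ (X ↘ Spec (CommRingCat.of k))) ((Scheme.Modules.pullback i).obj LP))
    (s : ℕ) (N : Fin s → X.IdealSheafData)
    (hN : ∀ j, AlgebraicGeometry.IsIntegral (N j).subscheme ∧ topologicalKrullDim (N j).subscheme = 1)
    (O : Fin s → X.Modules) (hO : ∀ j, ClSub.IsInverseOf (ClSub.idealMod (N j)) (O j))
    (b : Fin s → ℕ) (hb : ∀ j, 1 ≤ b j) (hLNeq : Nonempty (LN ≅ FGA.multiTwist O b))
    (hneg : (-(Matrix.of fun j l : Fin s =>
      FGA.intNum k X 2 ![ClSub.idealMod (N j), ClSub.idealMod (N l)] (Coh.structureModule X))).PosDef)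
    (horth : ∀ j, Pic13.curveDeg k ((N j).subschemeι ≫ (X ↘ Spec (CommRingCat.of k)))
      ((Scheme.Modules.pullback (N j).subschemeι).obj LP) = 0) :
    W4c5asymptcohfn.hhat k X 2 0 L =
        (FGA.intNum k X 2 ![MP, MP] (Coh.structureModule X) : ℝ) / (a : ℝ) ^ 2 ∧
      W4c5asymptcohfn.hhat k X 2 1 L =
        -(FGA.intNum k X 2 ![MN, MN] (Coh.structureModule X) : ℝ) / (a : ℝ) ^ 2 ∧
      W4c5asymptcohfn.hhat k X 2 2 L = 0 := by
  open Groth.Agent in
  open scoped Groth.Agent.H23.PicMul in
  have hreg := SurfInt.isRegular_of_smooth k (X := X)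
  obtain ⟨H, hH⟩ := hproj
  have hNi := fun j => (hN j).1
  haveI := hNi
  have hNd : ∀ j, topologicalKrullDim ((N j).support : Set X) = 1 := fun j =>
    (SurfInt.dim_subscheme (N j)).symm.trans (hN j).2
  have hI := fun j => SurfInt.isInvertible_curve k hX2 hreg (N j) (hNd j)
  have hOi := fun j => SurfInt.isInvertible_of_isInverse (hI j) (hO j)
  have hneg' : ∀ v : Fin s → ℤ, v ≠ 0 → ∑ i, ∑ j, v i * v j *
      SurfInt.dot k (ClSub.idealMod (N i)) (ClSub.idealMod (N j)) < 0 := fun v hv => by
    have h := hneg.dotProduct_mulVec_pos hv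
    simp only [star_trivial, dotProduct, Matrix.mulVec, Matrix.neg_apply, Matrix.of_apply,
      Finset.mul_sum, neg_mul, mul_neg, Finset.sum_neg_distrib, neg_pos] at h
    refine lt_of_eq_of_lt (Finset.sum_congr rfl fun i _ => Finset.sum_congr rfl fun j _ => ?_) h
    ring
  have hnef' : ∀ C : X.IdealSheafData, IsIntegral C.subscheme → topologicalKrullDim (C.support : Set X) = 1 →
      0 ≤ SurfInt.degOn k (ClSub.quotMod C) LP := fun C hC hC1 => by
    haveI := hC
    letI := SurfInt.overComp k C.subschemeι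
    have hd : topologicalKrullDim C.subscheme = 1 := (SurfInt.dim_subscheme C).trans hC1
    have h := hnef C.subscheme C.subschemeι hC hd
    rw [SurfInt.curveDeg_eq k C.subschemeι rfl hd.le hLP] at h
    exact h
  have horth' : ∀ j, SurfInt.degOn k (ClSub.quotMod (N j)) LP = 0 := fun j => by
    letI := SurfInt.overComp k (N j).subschemeι
    have h := horth j
    rw [SurfInt.curveDeg_eq k (N j).subschemeι rfl (hN j).2.le hLP] at h
    exact h
  have hdec' : PicF.cl L ^ a = PicF.cl LP * PicF.cl (FGA.multiTwist O b) := by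
    rw [← H23.PicMul.cl_tensorPow, H23.PicMul.cl_eq_iff.2 hdec, H23.PicMul.cl_tensor,
      H23.PicMul.cl_eq_iff.2 hLNeq]
  obtain ⟨h0, h1, h2⟩ := SurfInt.tendsto_cohomology k hX2 hreg N hNi hNd O hOi hO b hneg' hL hLP hH a ha hdec' hnef' horth'
  have eP : SurfInt.dot k MP MP = SurfInt.dot k LP LP :=
    SurfInt.dot_inv_inv k hX2.le hLP (SurfInt.isInvertible_of_isInverse hLP hMP) hLP
      (SurfInt.isInvertible_of_isInverse hLP hMP) hMP hMP
  have eN : SurfInt.dot k MN MN = SurfInt.dot k (FGA.multiTwist O b) (FGA.multiTwist O b) :=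
    (SurfInt.dot_inv_inv k hX2.le hLN (SurfInt.isInvertible_of_isInverse hLN hMN) hLN
      (SurfInt.isInvertible_of_isInverse hLN hMN) hMN hMN).trans
      (SurfInt.dot_congr k hX2.le hLN hLN hLNeq.some hLNeq.some)
  have hh : ∀ i, W4c5asymptcohfn.hhat k X 2 i L = Filter.limsup
      (fun m : ℕ => (Module.finrank k (Coh.HH X (CohB1.tensorPow L m) i) : ℝ) * 2 / (m : ℝ) ^ 2) Filter.atTop := fun i => by
    rw [W4c5asymptcohfn.hhat, show ((Nat.factorial 2 : ℕ) : ℝ) = 2 by norm_num [Nat.factorial]]
  refine ⟨?_, ?_, ?_⟩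
  · rw [hh, h0.limsup_eq]
    exact congrArg (fun z : ℤ => (z : ℝ) / (a : ℝ) ^ 2) eP.symm
  · rw [hh, h1.limsup_eq]
    exact congrArg (fun z : ℤ => -(z : ℝ) / (a : ℝ) ^ 2) eN.symm
  · rw [hh, h2.limsup_eq]

end Groth.Agent.S17638
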