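import Groth.Statements.S17651
import Groth.Agent.Curves16.GenH1
import Groth.Agent.Curves16.PtH1
import Groth.Agent.Lib.CurveDeg
import Groth.Agent.CurveCohLib.Rank
import Groth.Agent.Lib.CurveTensor
import Groth.Agent.S2297
-- import your own Groth.Agent.* helpers here

set_option autoImplicit false
universe u
open CategoryTheory CategoryTheory.Limits AlgebraicGeometry TopologicalSpace
open Curves

namespace Groth.Agent.S17651

/-- Let k be an algebraically closed field and B a connected scheme, proper over k, of dimension one,
with at-worst-nodal singularities and with H^1(B, O_B) = 0. Let E be a finite locally free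
O_B-module generated by its global sections and p a closed point of B, with I_p the ideal sheaf of
functions vanishing at p. Then H^1(B, E ⊗ I_p) = 0; since E is locally free, E ⊗ I_p is the
submodule I_p E of sections vanishing at p. (The source works over the complex numbers; the
statement and its proof are unchanged over any algebraically closed field.) -/
theorem result (k : Type u) [Field k] [IsAlgClosed k]
    (B : Scheme.{u}) [B.Over (Spec (CommRingCat.of k))] [IsProper (B ↘ Spec (CommRingCat.of k))]
    [ConnectedSpace ↥B] (hdim : topologicalKrullDim ↥B = 1) (hnod : Curv2.AtWorstNodal k B)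
    (hg : Subsingleton (Coh.HH B (Coh.structureModule B) 1))
    (E : B.Modules) (hE : FlatMod.IsFinLocFree E) (hgg : Curv2.IsGloballyGenerated E)
    (p : ↥B) (hp : IsClosed ({p} : Set ↥B)) :
    Subsingleton (Coh.HH B (CohB1.tensorMod E
      (ClSub.idealMod (Scheme.IdealSheafData.vanishingIdeal (⟨{p}, hp⟩ : Closeds ↥B)))) 1) := by
  haveI := Groth.Agent.CurveCohLib.isNoetherian_of_proper (k := k) (X := B)
  haveI : B.IsSeparated := ⟨by
    rw [← terminal.comp_from (B ↘ Spec (CommRingCat.of k))]
    infer_instance⟩
  have hI : Coh.IsQCoh (Groth.Agent.CurvePoint.ptMod p hp) := Groth.Agent.QCoh.isQCoh_kernel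
    Groth.Agent.QCoh.isCoh_structureModule'.1
    (Groth.Agent.ParShLib.isCoh_quotMod (Groth.Agent.CurvePoint.ptIdeal p hp)).1 _
  have hEc := Groth.Agent.CurveDeg.isCoh_of_isFinLocFree hE
  haveI := hI
  haveI := hEc.1
  have hq : Coh.IsQCoh ((DCoh.tensorBi.obj (Groth.Agent.CurvePoint.ptMod p hp)).obj E) :=
    (Groth.Agent.S2297.result (Groth.Agent.CurvePoint.ptMod p hp) E).1
  haveI := Groth.Agent.Curves16.subsingleton_h1_tensor_of_gg hdim.le hEc hgg hI hq
    (Groth.Agent.Curves16.subsingleton_h1_ptMod k p hp hg)
  exact (Groth.Agent.CurveCohLib.hhEquiv (k := k)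
    (Groth.Agent.CurveTensor.commIso E (Groth.Agent.CurvePoint.ptMod p hp)) 1).toEquiv.subsingleton

end Groth.Agent.S17651
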