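import Groth.Statements.S17657
import Groth.Agent.Curves16.GGExt
import Groth.Agent.Lib.CurveDeg
import Groth.Agent.CurveCohLib.Rank
-- import your own Groth.Agent.* helpers here

set_option autoImplicit false
universe u
open CategoryTheory CategoryTheory.Limits AlgebraicGeometry TopologicalSpace
attribute [local instance] HasDerivedCategory.standard
open Curves

namespace Groth.Agent.S17657

/-- Let k be an algebraically closed field and B a connected scheme, proper over k, of dimension one,
with at-worst-nodal singularities and H^1(B, O_B) = 0, and let ω_B be its dualizing module over k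
(the cohomology sheaf in degree −1 of the upper-shriek pull-back of O_{Spec k}; the existence of the
upper-shriek functor is assumed). Call a finite locally free O_B-module deformation ample when it is
generated by global sections and H^1(B, E ⊗ ω_B) = 0. If E is a deformation ample finite locally
free O_B-module then every tensor power E^{⊗ n} with n ≥ 1 is deformation ample. (The source states
this for a family of prestable genus-zero curves over an arbitrary base T, with relative global
generation and R^1 of the direct image in place of global generation and H^1; this is the case T =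
Spec k of a field base, the general case needing relative duality not available here. The source
also assumes the sheaves nonzero (positive rank), which the conclusion does not need.) -/
theorem result (k : Type u) [Field k] [IsAlgClosed k]
    (B : Scheme.{u}) [B.Over (Spec (CommRingCat.of k))] [IsProper (B ↘ Spec (CommRingCat.of k))]
    [ConnectedSpace ↥B] (hdim : topologicalKrullDim ↥B = 1) (hnod : Curv2.AtWorstNodal k B)
    (hg : Subsingleton (Coh.HH B (Coh.structureModule B) 1))
    [DCoh.HasRpush (B ↘ Spec (CommRingCat.of k))] (h : DCoh.RpushPreservesQCoh (B ↘ Spec (CommRingCat.of k))) [DCoh.HasShriek (B ↘ Spec (CommRingCat.of k)) h]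
    (OY : DCoh.DQCoh (Spec (CommRingCat.of k))) (hOY : Nonempty (OY.obj ≅ DCoh.inD (Spec (CommRingCat.of k)) (Coh.structureModule (Spec (CommRingCat.of k)))))
    (E : B.Modules) (hE : FlatMod.IsFinLocFree E) (h₁ : (Curv2.IsGloballyGenerated E ∧ Subsingleton (Coh.HH B (CohB1.tensorMod E (DCoh.dualizingMod (B ↘ Spec (CommRingCat.of k)) h OY 1)) 1))) (n : ℕ) (hn : 1 ≤ n) :
    (Curv2.IsGloballyGenerated (CohB1.tensorPow E n) ∧ Subsingleton (Coh.HH B (CohB1.tensorMod (CohB1.tensorPow E n) (DCoh.dualizingMod (B ↘ Spec (CommRingCat.of k)) h OY 1)) 1)) := by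
  haveI := Groth.Agent.CurveCohLib.isNoetherian_of_proper (k := k) (X := B)
  haveI : B.IsSeparated := ⟨by
    rw [← terminal.comp_from (B ↘ Spec (CommRingCat.of k))]
    infer_instance⟩
  let ω := DCoh.dualizingMod (B ↘ Spec (CommRingCat.of k)) h OY 1
  have hω : Coh.IsQCoh ω := ((DCoh.shriek (B ↘ Spec (CommRingCat.of k)) h).obj OY).property _
  have sw : ∀ M : B.Modules, Subsingleton (Coh.HH B (CohB1.tensorMod M ω) 1) →
      Subsingleton (Coh.HH B ((DCoh.tensorBi.obj ω).obj M) 1) := fun M hM =>
    haveI : Subsingleton (Coh.HH B ((DCoh.tensorBi.obj M).obj ω) 1) := hM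
    (Groth.Agent.CurveCohLib.hhEquiv (k := k) (Groth.Agent.Curves16.swapIso ω M) 1).toEquiv.subsingleton
  have ws : ∀ M : B.Modules, Subsingleton (Coh.HH B ((DCoh.tensorBi.obj ω).obj M) 1) →
      Subsingleton (Coh.HH B (CohB1.tensorMod M ω) 1) := fun M hM =>
    haveI := hM
    show Subsingleton (Coh.HH B ((DCoh.tensorBi.obj M).obj ω) 1) from
    (Groth.Agent.CurveCohLib.hhEquiv (k := k) (Groth.Agent.Curves16.swapIso M ω) 1).toEquiv.subsingleton
  have cE := Groth.Agent.CurveDeg.isCoh_of_isFinLocFree hE
  have key : ∀ m, Coh.IsCoh (CohB1.tensorPow E m) ∧ Curv2.IsGloballyGenerated (CohB1.tensorPow E m) := fun m => by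
    induction m with
    | zero => exact ⟨Groth.Agent.QCoh.isCoh_structureModule', Groth.Agent.Curves16.gg_structureModule⟩
    | succ m ih =>
      have hq : Coh.IsQCoh (CohB1.tensorPow E (m + 1)) := Groth.Agent.Curves16.isQCoh_tensor ih.1.1 cE.1
      let φ : (DCoh.tensorBi.obj E).obj (CohB1.tensorPow E m) ⟶ CohB1.tensorPow E (m + 1) :=
        (Groth.Agent.Curves16.swapIso E (CohB1.tensorPow E m)).hom
      haveI : IsIso φ := (Groth.Agent.Curves16.swapIso E (CohB1.tensorPow E m)).isIso_hom
      exact ⟨Groth.Agent.QCoh.isCoh_of_epi φ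
          (Groth.Agent.Curves16.isCoh_tensor hE ih.1) hq,
        Groth.Agent.Curves16.gg_tensor cE h₁.1 ih.2⟩
  refine ⟨(key n).2, ?_⟩
  obtain ⟨m, rfl⟩ : ∃ m, n = m + 1 := ⟨n - 1, by omega⟩
  have hI : Coh.IsQCoh ((DCoh.tensorBi.obj E).obj ω) := Groth.Agent.Curves16.isQCoh_tensor cE.1 hω
  haveI : Subsingleton (Coh.HH B ((DCoh.tensorBi.obj E).obj ω) 1) := h₁.2
  haveI := Groth.Agent.Curves16.subsingleton_h1_tensor_of_gg hdim.le (key m).1 (key m).2 hI
    (Groth.Agent.Curves16.isQCoh_tensor hI (key m).1.1) inferInstance
  exact (Groth.Agent.CurveCohLib.hhEquiv (k := k)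
    (Groth.Agent.Curves16.assocI (CohB1.tensorPow E m) E ω ≪≫
      Groth.Agent.Curves16.swapIso (CohB1.tensorPow E m) ((DCoh.tensorBi.obj E).obj ω)) 1).toEquiv.subsingleton

end Groth.Agent.S17657
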