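import Groth.Statements.S17690
import Groth.Agent.S2654
import Groth.Agent.S0573
import Mathlib.FieldTheory.PurelyInseparable.Basic
import Mathlib.RingTheory.DiscreteValuationRing.TFAE
import Mathlib.RingTheory.DedekindDomain.IntegralClosure

set_option autoImplicit false
universe u
open Neron

namespace Groth.Agent.S17690

/-- Let R be an excellent discrete valuation ring (Noetherian, universally catenary, G-ring, J-2) with
fraction field K, and let L be a finite purely inseparable field extension of K. Then the integral
closure S of R in L is a discrete valuation ring, and S is a finite R-module. -/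
theorem result
    (R K L : Type u) [CommRing R] [IsDomain R] [IsDiscreteValuationRing R] (hR : EGA4.IsExcellent R)
    [Field K] [Algebra R K] [IsFractionRing R K] [Field L] [Algebra K L] [FiniteDimensional K L]
    [IsPurelyInseparable K L] [Algebra R L] [IsScalarTower R K L] :
    IsDiscreteValuationRing ↥(integralClosure R L) ∧ Module.Finite R ↥(integralClosure R L) := by
  haveI : IsNoetherianRing R := hR.1
  have hN : CAlg.IsNagata R := Groth.Agent.S2654.result R ⟨hR.1, hR.2.2.1, hR.2.2.2⟩
  obtain ⟨ϖ, hϖ⟩ := IsDiscreteValuationRing.exists_irreducible R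
  haveI : Algebra.FiniteType R K := ⟨⟨{(algebraMap R K ϖ)⁻¹}, eq_top_iff.2 fun z _ => by
    rw [Finset.coe_singleton]
    obtain ⟨a, b, hb, rfl⟩ := IsFractionRing.div_surjective (A := R) z
    obtain ⟨n, v, rfl⟩ := IsDiscreteValuationRing.eq_unit_mul_pow_irreducible (nonZeroDivisors.ne_zero hb) hϖ
    have he : algebraMap R K a / algebraMap R K ((v : R) * ϖ ^ n) =
        algebraMap R K (a * ((v⁻¹ : Rˣ) : R)) * ((algebraMap R K ϖ)⁻¹) ^ n := by
      rw [map_mul, map_mul, map_pow, map_units_inv, div_eq_mul_inv, mul_inv, inv_pow, mul_assoc]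
    rw [he]
    exact mul_mem (Subalgebra.algebraMap_mem _ _)
      (pow_mem (Algebra.subset_adjoin (Set.mem_singleton _)) n)⟩⟩
  haveI : Algebra.FiniteType K L := inferInstance
  haveI : Algebra.FiniteType R L := Algebra.FiniteType.trans (S := K) inferInstance inferInstance
  have hfin : Module.Finite R ↥(integralClosure R L) := Groth.Agent.S0573.result R hN L
  haveI := hfin
  refine ⟨?_, hfin⟩
  let S := ↥(integralClosure R L)
  have hinjL : Function.Injective (algebraMap R L) := by
    rw [IsScalarTower.algebraMap_eq R K L]
    exact (algebraMap K L).injective.comp (IsFractionRing.injective R K)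
  haveI : FaithfulSMul R L := (faithfulSMul_iff_algebraMap_injective R L).2 hinjL
  haveI : IsNoetherianRing S := IsNoetherianRing.of_finite R S
  haveI : IsIntegrallyClosed S := integralClosure.isIntegrallyClosedOfFiniteExtension K
  haveI : Ring.DimensionLEOne S := Ring.DimensionLEOne.integralClosure R L
  haveI : IsDedekindDomain S := { }
  obtain ⟨q, hq⟩ := ExpChar.exists K
  haveI : ExpChar L q := expChar_of_injective_algebraMap (algebraMap K L).injective q
  have key : ∀ x : S, ∃ (n : ℕ) (r : R), x ^ q ^ n = algebraMap R S r := fun x => by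
    obtain ⟨n, c, hc⟩ := IsPurelyInseparable.pow_mem K q (x : L)
    have hint : IsIntegral R c := by
      refine (isIntegral_algebraMap_iff (algebraMap K L).injective).1 ?_
      rw [hc]
      exact (x.2 : IsIntegral R (x : L)).pow _
    obtain ⟨r, rfl⟩ := IsIntegrallyClosed.algebraMap_eq_of_integral hint
    exact ⟨n, r, Subtype.ext (by rw [SubmonoidClass.coe_pow, ← hc, ← IsScalarTower.algebraMap_apply]; rfl)⟩
  haveI : IsLocalRing S := IsLocalRing.of_isUnit_or_isUnit_one_sub_self fun x => by
    obtain ⟨n, r, hr⟩ := key x
    rcases IsLocalRing.isUnit_or_isUnit_one_sub_self r with h | h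
    · exact Or.inl ((isUnit_pow_iff (expChar_pow_pos L q n).ne').1 (hr ▸ h.map _))
    · refine Or.inr ((isUnit_pow_iff (expChar_pow_pos L q n).ne').1 ?_)
      haveI : ExpChar S q := (algebraMap S L).expChar Subtype.val_injective q
      rw [sub_pow_expChar_pow, one_pow, hr, ← map_one (algebraMap R S), ← map_sub]
      exact h.map _
  refine ((IsDiscreteValuationRing.TFAE S ?_).out 0 2).2 ‹IsDedekindDomain S›
  intro hf
  exact IsDiscreteValuationRing.not_isField R (isField_of_isIntegral_of_isField (R := R) (S := S)
    (fun r s h => hinjL (congrArg Subtype.val h)) hf)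

end Groth.Agent.S17690
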