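import Groth.Statements.S17728
import Groth.Agent.NeronMdl58.DenseIso

set_option autoImplicit false
universe u
open Neron

namespace Groth.Agent.S17728

open CategoryTheory AlgebraicGeometry in
/-- Let S be a Noetherian scheme, U ⊆ S a dense open subscheme and f : X → S a morphism locally of
finite type which restricts to an isomorphism over U and for which the preimage of U is
schematically dense in X. For a point x of X the following are equivalent: f is étale on some open
neighbourhood of x; f is flat at x, that is, the local ring of X at x is flat over the local ring of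
S at f(x); some open neighbourhood V of f(x) carries a section σ of f over V passing through x. -/
theorem result
    {X S : Scheme.{u}} [IsNoetherian S] (f : X ⟶ S) [LocallyOfFiniteType f]
    (U : S.Opens) (hU : Dense (U : Set S))
    (hiso : IsIso (morphismRestrict f U)) (hdense : CInt.IsSchematicallyDense (f ⁻¹ᵁ U))
    (x : X) :
    List.TFAE [
      ∃ W : X.Opens, x ∈ W ∧ Etale (W.ι ≫ f),
      (f.stalkMap x).hom.Flat,
      ∃ (V : S.Opens) (hV : f.base x ∈ V) (σ : (V : Scheme.{u}) ⟶ X),
        σ ≫ f = V.ι ∧ σ.base ⟨f.base x, hV⟩ = x] := by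
  haveI : IsLocallyNoetherian X := LocallyOfFiniteType.isLocallyNoetherian f
  haveI := hiso
  haveI : LocallyOfFinitePresentation f := inferInstance
  tfae_have 1 → 2 := by
    rintro ⟨W, hxW, hW⟩
    haveI := hW
    obtain ⟨w, rfl⟩ : x ∈ Set.range W.ι := by rw [Scheme.Opens.range_ι]; exact hxW
    have h := Flat.stalkMap (W.ι ≫ f) w
    rw [Scheme.Hom.stalkMap_comp] at h
    exact (Groth.Agent.FlatLocus.flat_comp_isIso _ _).1 h
  tfae_have 2 → 3 := by
    intro hflat
    obtain ⟨W, hW, hxW, hWO⟩ := exists_isAffineOpen_mem_and_subset (x := x)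
      (U := ⟨_, Groth.Agent.FlatLocus.isOpen_flat_locus f⟩) hflat
    haveI : Flat (W.ι ≫ f) := Flat.of_stalkMap _ fun w => by
      rw [Scheme.Hom.stalkMap_comp]
      exact (Groth.Agent.FlatLocus.flat_comp_isIso _ _).2 (hWO w.2)
    haveI := Groth.Agent.NeronMdl58.isOpenImmersion_of_flat f U hdense W hW
    refine ⟨(W.ι ≫ f).opensRange, ⟨⟨x, hxW⟩, rfl⟩, (W.ι ≫ f).isoOpensRange.inv ≫ W.ι, ?_, ?_⟩
    · rw [Category.assoc, Scheme.Hom.isoOpensRange_inv_comp]
    · have hg : (W.ι ≫ f).isoOpensRange.hom ⟨x, hxW⟩ = ⟨f.base x, ⟨⟨x, hxW⟩, rfl⟩⟩ := by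
        refine Subtype.ext ?_
        show (W.ι ≫ f).opensRange.ι _ = _
        rw [← Scheme.Hom.comp_apply, Scheme.Hom.isoOpensRange_hom_ι]
        rfl
      show W.ι ((W.ι ≫ f).isoOpensRange.inv _) = x
      rw [← hg, ← Scheme.Hom.comp_apply, ← Scheme.Hom.comp_apply, Iso.hom_inv_id_assoc]
      rfl
  tfae_have 3 → 1 := by
    rintro ⟨V, hV, σ, hσ, hσx⟩
    obtain ⟨W, hW, hE⟩ := Groth.Agent.NeronMdl58.exists_etale_of_section f U hdense V σ hσ ⟨f.base x, hV⟩
    exact ⟨W, by rw [← hσx]; exact hW, hE⟩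
  tfae_finish

end Groth.Agent.S17728
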