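import Groth.Statements.S17794
import Groth.Agent.GrpQ29.EpiFlat
import Groth.Agent.GrpdLib.QuotSheaf
import Groth.Agent.AlgSpPts.Sep

set_option autoImplicit false
set_option backward.isDefEq.respectTransparency false
set_option backward.isDefEq.respectTransparency.types false
universe u
open CategoryTheory CategoryTheory.Limits MonoidalCategory CartesianMonoidalCategory MonObj GrpObj AlgebraicGeometry
open GrpSch

namespace Groth.Agent.S17794

/-- Let S be a scheme and f : G → H a homomorphism of S-group schemes, both of finite presentation over
S (locally of finite presentation, quasi-compact and quasi-separated), and let i : N → G be the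
kernel of f (the square formed by i, f, the unit section of H and N → S is cartesian). Then f is
faithfully flat (flat and surjective) if and only if the map of representable sheaves h_G → h_H
induced by f on the big fppf site of S is an epimorphism of sheaves of sets and N is flat over S. -/
theorem result {S : Scheme.{u}} {G H N : Over S} [GrpObj G] [GrpObj H] (f : G ⟶ H) [IsMonHom f] [LocallyOfFinitePresentation G.hom] [QuasiCompact G.hom] [QuasiSeparated G.hom] [LocallyOfFinitePresentation H.hom] [QuasiCompact H.hom] [QuasiSeparated H.hom] (i : N ⟶ G) (hi : AlgGrp.IsKernel i f) : (Flat f.left ∧ Surjective f.left) ↔ (Epi (QuotSh.repMap Scheme.fppfPrecoverage f) ∧ Flat N.hom) := by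
  constructor
  · rintro ⟨hfl, hsu⟩
    have : LocallyOfFinitePresentation (f.left ≫ H.hom) := by rw [Over.w f]; infer_instance
    have : LocallyOfFinitePresentation f.left := Groth.Agent.AlgSpPts.locallyOfFinitePresentation_of_comp _ H.hom
    refine ⟨?_, ?_⟩
    · have := Groth.Agent.GrpdLib.isLocallySurjective_of_cover Scheme.fppfPrecoverage f
        (Precoverage.generate_mem_toGrothendieck (Scheme.Hom.singleton_mem_fppfPrecoverage f.left))
      rw [← Sheaf.isLocallySurjective_iff_epi]
      exact (Presheaf.isLocallySurjective_presheafToSheaf_map_iff _ _).2 this
    · have h : Flat (toUnit N).left := MorphismProperty.of_isPullback (hi.map (Over.forget S)) hfl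
      exact h
  · rintro ⟨hepi, hN⟩
    obtain ⟨W, q, x₀, hq, hx₀⟩ := Groth.Agent.GrpQ29.exists_cover_of_epi f
    exact Groth.Agent.GrpQ29.flat_surjective_of_kernel' hi q hq x₀ hx₀

end Groth.Agent.S17794
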