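import Groth.Statements.S17797
import Mathlib
-- import your own Groth.Agent.* helpers here

set_option autoImplicit false
universe u
open CAlg

namespace Groth.Agent.S17797

/-- Suppose k is a field of characteristic zero and S is a local domain that is an essentially
finite-type k-algebra. Then there are an extension field K of k, a K-algebra A of finite type and a
maximal ideal m of A such that S is isomorphic over k to the localization A_m. -/
theorem result (k : Type u) [Field k] [CharZero k] (S : Type u) [CommRing S] [IsDomain S] [IsLocalRing S] [Algebra k S] [Algebra.EssFiniteType k S] : ∃ (K : Type u) (_ : Field K) (_ : Algebra k K) (A : Type u) (_ : CommRing A) (_ : Algebra K A) (_ : Algebra k A) (_ : IsScalarTower k K A) (_ : Algebra.FiniteType K A) (m : Ideal A) (_ : m.IsMaximal), Nonempty (S ≃ₐ[k] Localization.AtPrime m) := by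
  classical
  let κ := IsLocalRing.ResidueField S
  haveI : FaithfulSMul k κ := (faithfulSMul_iff_algebraMap_injective k κ).mpr (algebraMap k κ).injective
  obtain ⟨ι, b, hb⟩ := exists_isTranscendenceBasis' k κ
  let P := MvPolynomial ι k
  choose c hc using fun i => IsLocalRing.residue_surjective (b i)
  let φ : P →ₐ[k] S := MvPolynomial.aeval c
  have hres : ∀ q : P, IsLocalRing.residue S (φ q) = MvPolynomial.aeval b q := by
    intro q
    have h := MvPolynomial.comp_aeval_apply (f := c) (IsScalarTower.toAlgHom k S κ) q
    refine h.trans ?_
    congr 1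
    congr 1
    exact funext hc
  have hunit : ∀ y : nonZeroDivisors P, IsUnit (φ y) := by
    intro y
    rw [← IsLocalRing.residue_ne_zero_iff_isUnit, hres]
    exact fun h => nonZeroDivisors.coe_ne_zero y (hb.1 (h.trans (map_zero _).symm))
  let K := FractionRing P
  let φK : K →+* S := IsLocalization.lift (g := φ.toRingHom) hunit
  letI : Algebra K S := φK.toAlgebra
  haveI : IsScalarTower k K S := IsScalarTower.of_algebraMap_eq fun a => by
    show algebraMap k S a = φK (algebraMap k K a)
    rw [IsScalarTower.algebraMap_apply k P K a]
    exact (φ.commutes a).symm.trans (IsLocalization.lift_eq _ _).symm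
  haveI : Algebra.EssFiniteType K S := Algebra.EssFiniteType.of_comp k K S
  have halg : ∀ y : κ, IsAlgebraic K y := by
    intro y
    letI : Algebra P κ := (MvPolynomial.aeval (R := k) b).toRingHom.toAlgebra
    haveI : IsScalarTower P K κ := IsScalarTower.of_algebraMap_eq fun q => by
      show MvPolynomial.aeval b q = IsLocalRing.residue S (φK (algebraMap P K q))
      rw [IsLocalization.lift_eq]
      exact (hres q).symm
    have h1 : IsAlgebraic (Algebra.adjoin k (Set.range b)) y := hb.isAlgebraic.isAlgebraic y
    have h2 : IsAlgebraic P y :=
      IsAlgebraic.of_ringHom_of_comp_eq (hb.1.aevalEquiv : P →ₐ[k] Algebra.adjoin k (Set.range b)) (RingHom.id κ) h1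
        hb.1.aevalEquiv.surjective Function.injective_id (RingHom.ext fun q => hb.1.algebraMap_aevalEquiv q)
    exact h2.extendScalars (IsFractionRing.injective P K)
  let A := Algebra.EssFiniteType.subalgebra K S
  haveI : IsLocalization (Algebra.EssFiniteType.submonoid K S) S := inferInstance
  let m : Ideal A := (IsLocalRing.maximalIdeal S).comap (algebraMap A S)
  have hsub : m.primeCompl = Algebra.EssFiniteType.submonoid K S := by
    ext x
    exact IsLocalRing.notMem_maximalIdeal
  have hmax : m.IsMaximal := by
    refine Ideal.Quotient.maximal_of_isField _ ?_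
    let j : A ⧸ m →ₐ[K] κ := Ideal.Quotient.liftₐ m ((IsScalarTower.toAlgHom K S κ).comp A.val) fun x hx =>
      (IsLocalRing.residue_eq_zero_iff _).mpr hx
    have hj : Function.Injective j := (injective_iff_map_eq_zero j).mpr fun z hz => by
      obtain ⟨x, rfl⟩ := Ideal.Quotient.mk_surjective z
      exact Ideal.Quotient.eq_zero_iff_mem.mpr ((IsLocalRing.residue_eq_zero_iff _).mp hz)
    haveI : Algebra.IsIntegral K (A ⧸ m) :=
      ⟨fun z => (isIntegral_algHom_iff j hj).mp (halg (j z)).isIntegral⟩
    haveI : m.IsPrime := Ideal.comap_isPrime _ _
    exact isField_of_isIntegral_of_isField' (R := K) (S := A ⧸ m) (Field.toIsField K)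
  letI : Algebra k A := inferInstance
  refine ⟨K, inferInstance, inferInstance, A, inferInstance, inferInstance, inferInstance, inferInstance, inferInstance,
    m, hmax, ⟨?_⟩⟩
  haveI : IsLocalization.AtPrime S m := by
    show IsLocalization m.primeCompl S
    rw [hsub]; infer_instance
  exact ((IsLocalization.algEquiv m.primeCompl (Localization.AtPrime m) S).restrictScalars k).symm

end Groth.Agent.S17797
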