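import Groth.Statements.S17807
import Groth.Agent.Jac4.Vanish

set_option autoImplicit false
universe u
open CategoryTheory CategoryTheory.Limits AlgebraicGeometry
open JacVar
open Groth.Agent Groth.Agent.Jac4 Groth.Agent.CurveBundle Groth.Agent.CurveSlope Groth.Agent.CurveStable Groth.Agent.CurvePoint Groth.Agent.CurveDuality
open Groth.Agent.PnCoh.Finite (mapLin)
open scoped Groth.Agent.H23.PicMul

set_option linter.style.haveILetI false
set_option backward.isDefEq.respectTransparency false
set_option backward.isDefEq.respectTransparency.types false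
set_option synthInstance.maxHeartbeats 100000
set_option maxHeartbeats 1000000

namespace Groth.Agent.S17807

/-- Let C be a smooth proper geometrically connected curve of genus g > 0 over a field k with a
k-rational point, and let L be an invertible module on C with h¹(C, L) > 0. Under these hypotheses,
C contains some nonempty open U with the following property: whenever Q is a k-rational point of C
and M is an invertible module satisfying M ⊗ I_Q ≅ L (so M is L(Q)), one has h¹(C, M) = h¹(C, L) − 1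
if Q belongs to U, and h¹(C, M) = h¹(C, L) if Q does not. (The published statement is phrased for
all closed points Q; for a closed point of degree d > 1 the drop can exceed one, so this row states
it for k-rational points Q.) -/
theorem result (k : Type u) [Field k]
    (C : Scheme.{u}) [C.Over (Spec (CommRingCat.of k))]
    [IsProper (C ↘ Spec (CommRingCat.of k))] [Smooth (C ↘ Spec (CommRingCat.of k))] [GeometricallyConnected (C ↘ Spec (CommRingCat.of k))]
    (hdim : topologicalKrullDim ↥C = 1)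
    (hg : 0 < Curv2.genus k C)
    (σ₀ : Spec (CommRingCat.of k) ⟶ C) (hσ₀ : σ₀ ≫ (C ↘ Spec (CommRingCat.of k)) = 𝟙 _)
    (L : C.Modules) (hL : PicF.IsInvertible L) (hL1 : 0 < Module.finrank k (Coh.HH C L 1)) :
    ∃ U : C.Opens, (U : Set ↥C).Nonempty ∧
      ∀ (σ : Spec (CommRingCat.of k) ⟶ C) (hσ : σ ≫ (C ↘ Spec (CommRingCat.of k)) = 𝟙 _) (M : C.Modules) (hM : PicF.IsInvertible M)
        (hML : Nonempty (CohB1.tensorMod M (ClSub.idealMod σ.ker) ≅ L)),
        ((∀ p, σ.base p ∈ U) → Module.finrank k (Coh.HH C M 1) = Module.finrank k (Coh.HH C L 1) - 1) ∧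
        ((∀ p, σ.base p ∉ U) → Module.finrank k (Coh.HH C M 1) = Module.finrank k (Coh.HH C L 1)) := by
  classical
  haveI : ConnectedSpace C := by
    haveI : Subsingleton ↥(Spec (CommRingCat.of k)) := inferInstanceAs (Subsingleton (PrimeSpectrum k))
    exact GeometricallyConnected.connectedSpace_of_subsingleton (f := C ↘ Spec (CommRingCat.of k))
  haveI := QuasiCompact.compactSpace_of_compactSpace (C ↘ Spec (CommRingCat.of k))
  haveI := CurveCohLib.isIntegral_of_smooth_connected (C ↘ Spec (CommRingCat.of k))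
  haveI := CurveCohLib.isNoetherian_of_proper (k := k) (X := C)
  obtain ⟨ω, μ, hω⟩ := exists_isDualizing k hdim
  have hL1' := InvEnd.isFinLocFreeOfRank_one hL
  obtain ⟨φ, hφ⟩ : ∃ φ : L ⟶ ω, φ ≠ 0 := by
    by_contra hc
    push Not at hc
    haveI := (subsingleton_HH_one_iff k hω hdim (isFinLocFree_of_rank hL1')).2 hc
    rw [Module.finrank_zero_of_subsingleton] at hL1
    exact lt_irrefl 0 hL1
  obtain ⟨Z, hZ, hZcl, hsur⟩ := Jac4.exists_finite_surjective k hdim hL hω.inv φ hφ
  let B : Set C := {x | ∃ (σ : Spec (CommRingCat.of k) ⟶ C) (M : C.Modules),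
    σ ≫ (C ↘ Spec (CommRingCat.of k)) = 𝟙 _ ∧ PicF.IsInvertible M ∧
      Nonempty (CohB1.tensorMod M (ClSub.idealMod σ.ker) ≅ L) ∧
      Module.finrank k (Coh.HH C M 1) = Module.finrank k (Coh.HH C L 1) ∧ pt σ = x}
  -- the numerical effect of adding a rational point
  have key : ∀ (σ : Spec (CommRingCat.of k) ⟶ C) (_ : σ ≫ (C ↘ Spec (CommRingCat.of k)) = 𝟙 _)
      (M : C.Modules) (_ : PicF.IsInvertible M) (e : CohB1.tensorMod M (ClSub.idealMod σ.ker) ≅ L),
      (Module.finrank k (Coh.HH C M 1) ≤ Module.finrank k (Coh.HH C L 1) ∧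
        Module.finrank k (Coh.HH C L 1) ≤ Module.finrank k (Coh.HH C M 1) + 1) ∧
      (Module.finrank k (Coh.HH C M 1) = Module.finrank k (Coh.HH C L 1) → pt σ ∈ Z) := by
    intro σ hσ M hM e
    have hres := VBCurvesLib.surjective_resMap_of_section k σ hσ
    rw [ker_eq_ptIdeal hσ] at e
    obtain ⟨hsurj, hle0, hle0', hd, -⟩ :=
      twist_bounds k (isClosed_pt hσ) hdim hres hM
    have hdL : Curv2.deg k C L 1 = Curv2.deg k C M 1 - 1 := (CurveRR.deg_congr k e 1).symm.trans hd
    have hL0 : Module.finrank k (Coh.HH C L 0) = Module.finrank k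
        (Coh.HH C ((DCoh.tensorBi.obj M).obj (ptMod (pt σ) (isClosed_pt hσ))) 0) :=
      (CurveCohLib.hhEquiv (k := k) e 0).finrank_eq.symm
    have h1 := h0_sub_h1 k hdim hM
    have h2 := h0_sub_h1 k hdim hL
    refine ⟨⟨by omega, by omega⟩, fun heq => ?_⟩
    let i : L ⟶ M := e.inv ≫ twistι (isClosed_pt hσ) M
    have hi : Function.Surjective (mapLin k i 1) := fun y => by
      obtain ⟨z, hz⟩ := hsurj y
      refine ⟨mapLin k e.hom 1 z, ?_⟩
      rw [FFun.mapLin_comp, Iso.hom_inv_id_assoc]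
      exact hz
    haveI := S0002.result k C L (coh_of_free k (isFinLocFree_of_rank hL1')) 1
    haveI := S0002.result k C M (coh_of_free k (isFinLocFree_of_rank (InvEnd.isFinLocFreeOfRank_one hM))) 1
    have hinj : Function.Injective (mapLin k i 1) :=
      (LinearMap.injective_iff_surjective_of_finrank_eq_finrank heq.symm).2 hi
    let E := LinearEquiv.ofBijective (mapLin k i 1) ⟨hinj, hi⟩
    obtain ⟨ψ, hψ⟩ := exists_rep_line k hω hdim hM (μ ∘ₗ mapLin k φ 1 ∘ₗ E.symm.toLinearMap)
    have hfac : i ≫ ψ = φ := by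
      by_contra hne
      refine hω.ne (LinearMap.ext fun y => ?_)
      obtain ⟨x, rfl⟩ := surjective_of_ne_zero k hω hdim (isFinLocFree_of_rank hL1') (i ≫ ψ - φ)
        (sub_ne_zero.2 hne) y
      have h3 := hψ (mapLin k i 1 x)
      simp only [LinearMap.comp_apply, LinearEquiv.coe_coe] at h3
      rw [show E.symm (mapLin k i 1 x) = x from E.symm_apply_apply x, FFun.mapLin_comp] at h3
      rw [sub_eq_add_neg, mapLin_add, CurveDuality.mapLin_neg, map_add, map_neg, h3,
        add_neg_cancel]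
      rfl
    have hψ0 : ψ ≠ 0 := fun h => hφ (by rw [← hfac, h, comp_zero])
    haveI := InvEnd.mono_of_ne_zero hM hω.inv ψ hψ0
    by_contra hp
    have h4 := hsur _ hp
    rw [← hfac] at h4
    exact not_surjective_twistι k (isClosed_pt hσ) hres (InvEnd.isFinLocFreeOfRank_one hM)
      (surjective_right_of_comp e.inv _ _ (surjective_left_of_comp i ψ _ h4))
  have hBZ : B ⊆ Z := by
    rintro x ⟨σ, M, hσ, hM, ⟨e⟩, heq, rfl⟩
    exact (key σ hσ M hM e).2 heq
  have hBcl : IsClosed B := by
    have : B = ⋃ x ∈ B, ({x} : Set C) := by simp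
    rw [this]
    exact (hZ.subset hBZ).isClosed_biUnion fun x hx => hZcl x (hBZ hx)
  refine ⟨⟨Bᶜ, hBcl.isOpen_compl⟩, ?_, fun σ hσ M hM ⟨e⟩ => ?_⟩
  · obtain ⟨q, -, hq⟩ := CurveTwist.exists_closed_notMem k hdim hZ
    exact ⟨q, fun h => hq (hBZ h)⟩
  obtain ⟨⟨hle, hge⟩, -⟩ := key σ hσ M hM e
  constructor
  · intro hU
    have hne : Module.finrank k (Coh.HH C M 1) ≠ Module.finrank k (Coh.HH C L 1) := fun heq =>
      hU (IsLocalRing.closedPoint k) ⟨σ, M, hσ, hM, ⟨e⟩, heq, rfl⟩
    omega
  · intro hU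
    obtain ⟨τ, N, hτ, hN, ⟨e'⟩, heq, hpt⟩ : pt σ ∈ B := not_not.1 (hU (IsLocalRing.closedPoint k))
    have hker : τ.ker = σ.ker := by
      rw [ker_eq_ptIdeal hτ, ker_eq_ptIdeal hσ]
      congr 2
    rw [hker] at e'
    have hcl : PicF.cl M = PicF.cl N :=
      (H23.PicMul.isUnit_cl (isInvertible_idealMod k hdim hσ)).mul_right_cancel
        ((PicGrp.cl_eq_cl_iff _ _).2 ⟨e ≪≫ e'.symm⟩)
    obtain ⟨eMN⟩ := (PicGrp.cl_eq_cl_iff _ _).1 hcl
    rw [(CurveCohLib.hhEquiv (k := k) eMN 1).finrank_eq, heq]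

end Groth.Agent.S17807
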