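import Groth.Statements.S17808
import Groth.Agent.Jac4.Vanish
import Groth.Agent.Jac4.Eval

set_option autoImplicit false
universe u
open CategoryTheory CategoryTheory.Limits AlgebraicGeometry
open JacVar
open Groth.Agent Groth.Agent.Jac4 Groth.Agent.CurveBundle Groth.Agent.CurveSlope Groth.Agent.CurveStable Groth.Agent.CurvePoint Groth.Agent.CurveDuality
open Groth.Agent.PnCoh.Finite (mapLin)
open Groth.Agent.CurveSpecial (homOfClass homOfClass_add homOfClass_ne_zero)

set_option linter.style.haveILetI false
set_option backward.isDefEq.respectTransparency false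
set_option backward.isDefEq.respectTransparency.types false
set_option synthInstance.maxHeartbeats 100000
set_option maxHeartbeats 2000000

namespace Groth.Agent.S17808

/-- Let C be a smooth proper connected curve of genus g > 0 over an algebraically closed field k (with a
chosen point), and let r ≤ g. Then there is a nonempty open subset U of the r-fold fibre power C ×_k
⋯ ×_k C such that for every k-point (P_1, …, P_r) of U (closed points, k being algebraically closed)
and every invertible module M on C with M ⊗ I_{P_1} ⊗ ⋯ ⊗ I_{P_r} ≅ O_C (so M is O(P_1 + ⋯ + P_r)),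
h⁰(C, M) = 1. (The published statement, over the ground field of the section, says only that U is
open; this row also asserts that U is non-empty; k is taken algebraically closed so that the
k-points of U are its closed points.) -/
theorem result (k : Type u) [Field k] [IsAlgClosed k]
    (C : Scheme.{u}) [C.Over (Spec (CommRingCat.of k))]
    [IsProper (C ↘ Spec (CommRingCat.of k))] [Smooth (C ↘ Spec (CommRingCat.of k))] [GeometricallyConnected (C ↘ Spec (CommRingCat.of k))]
    (hdim : topologicalKrullDim ↥C = 1)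
    (hg : 0 < Curv2.genus k C)
    (σ₀ : Spec (CommRingCat.of k) ⟶ C) (hσ₀ : σ₀ ≫ (C ↘ Spec (CommRingCat.of k)) = 𝟙 _)
    (r : ℕ) (hr : r ≤ Curv2.genus k C) :
    ∃ U : (SymProd.fibPow (C ↘ Spec (CommRingCat.of k)) r).Opens, (U : Set ↥(SymProd.fibPow (C ↘ Spec (CommRingCat.of k)) r)).Nonempty ∧
      ∀ (x : Spec (CommRingCat.of k) ⟶ SymProd.fibPow (C ↘ Spec (CommRingCat.of k)) r)
        (hx : x ≫ WidePullback.base (fun (_ : Fin r) => (C ↘ Spec (CommRingCat.of k))) = 𝟙 _)
        (hxU : ∀ p, x.base p ∈ U) (M : C.Modules) (hM : PicF.IsInvertible M)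
        (hMD : Nonempty (CohB1.tensorMod M (FGA.tensorList (List.ofFn fun i : Fin r =>
          ClSub.idealMod (x ≫ WidePullback.π (fun (_ : Fin r) => (C ↘ Spec (CommRingCat.of k))) i).ker)) ≅ Coh.structureModule C)),
        Module.finrank k (Coh.HH C M 0) = 1 := by
  classical
  haveI : ConnectedSpace C := by
    haveI : Subsingleton ↥(Spec (CommRingCat.of k)) := inferInstanceAs (Subsingleton (PrimeSpectrum k))
    exact GeometricallyConnected.connectedSpace_of_subsingleton (f := C ↘ Spec (CommRingCat.of k))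
  haveI := QuasiCompact.compactSpace_of_compactSpace (C ↘ Spec (CommRingCat.of k))
  haveI := CurveCohLib.isIntegral_of_smooth_connected (C ↘ Spec (CommRingCat.of k))
  haveI := CurveCohLib.isNoetherian_of_proper (k := k) (X := C)
  obtain ⟨ω, μ, hω⟩ := exists_isDualizing k hdim
  have hω1 := InvEnd.isFinLocFreeOfRank_one hω.inv
  have hO := CurveDeg.isInvertible_structureModule (X := C)
  have hOc := coh_of_free k (isFinLocFree_of_rank (InvEnd.isFinLocFreeOfRank_one hO))
  haveI := S0002.result k C _ hOc 1
  -- sections of the dualizing module giving independent functionals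
  let Φ : Coh.HH C ω 0 →ₗ[k] Module.Dual k (Coh.HH C (Coh.structureModule C) 1) :=
    { toFun := fun t => μ ∘ₗ CurveSpecial.mulLin (k := k) ω 1 t
      map_add' := fun s t => by rw [map_add, LinearMap.comp_add]
      map_smul' := fun a t => by rw [map_smul, LinearMap.comp_smul]; rfl }
  have hΦ : Function.Surjective Φ := fun d => by
    obtain ⟨φ, hφ⟩ := exists_rep_line k hω hdim hO d
    refine ⟨(Sheaf.H.equiv₀ (Coh.toAb ω) isTerminalTop).symm (φ.app ⊤ (H23.Frame.one ⊤)), ?_⟩
    refine LinearMap.ext fun y => ?_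
    rw [hφ]
    have : homOfClass ((Sheaf.H.equiv₀ (Coh.toAb ω) isTerminalTop).symm (φ.app ⊤ (H23.Frame.one ⊤))) = φ := by
      refine CurveRR.hom_ext_one ?_
      rw [CurveSpecial.homOfClass_one]
      exact (Sheaf.H.equiv₀ (Coh.toAb ω) isTerminalTop).apply_symm_apply _
    show μ (mapLin k (homOfClass _) 1 y) = _
    rw [this]
  let b := Module.finBasisOfFinrankEq k (Module.Dual k (Coh.HH C (Coh.structureModule C) 1))
    (n := Curv2.genus k C) (by rw [Subspace.dual_finrank_eq]; rfl)
  choose t ht using fun j : Fin r => hΦ (b (Fin.castLE hr j))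
  have hind : LinearIndependent k fun j => Φ (t j) := by
    simp only [ht]
    exact b.linearIndependent.comp _ (Fin.castLE_injective hr)
  obtain ⟨V, hV, e, he⟩ := InvX.exists_frame hω.inv (pt σ₀)
  choose f hf using fun j => he.exists_coord le_rfl
    (AModX.res ω (le_top : V ≤ ⊤) (Sheaf.H.equiv₀ (Coh.toAb ω) isTerminalTop (t j) : Γ(ω, ⊤)))
  simp only [AModX.res_self] at hf
  -- choose points where the matrix of values is invertible
  let S := {P : Spec (CommRingCat.of k) ⟶ C // P ≫ (C ↘ Spec (CommRingCat.of k)) = 𝟙 _ ∧ pt P ∈ V}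
  obtain ⟨s, hs⟩ := exists_det_ne_zero (fun (P : S) j => ev P.1 P.2.2 (f j)) fun c hc => by
    have h0 : ∑ j, c j • t j = 0 := by
      refine eq_zero_of_forall_ev (k := k) hV hω.inv _ (∑ j, cst V (c j) * f j)
        (germ_combination t f hf c hV) fun P hP hPV => ?_
      rw [map_sum]
      refine Eq.trans (Finset.sum_congr rfl fun j _ => ?_) (hc ⟨P, hP, hPV⟩)
      rw [map_mul, ev_cst hP, mul_comm]
    have h1 := congrArg Φ h0
    rw [map_sum, map_zero] at h1
    simp only [map_smul] at h1
    exact funext (Fintype.linearIndependent_iff.1 hind c h1)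
  let s' := C ↘ Spec (CommRingCat.of k)
  let W : (SymProd.fibPow s' r).Opens :=
    ⟨⋂ i, (WidePullback.π (fun _ : Fin r => s') i).base ⁻¹' (V : Set C),
      isOpen_iInter_of_finite fun i => V.2.preimage (WidePullback.π (fun _ : Fin r => s') i).base.hom.continuous⟩
  have hW : ∀ i, W ≤ WidePullback.π (fun _ : Fin r => s') i ⁻¹ᵁ V := fun i _ hy => Set.mem_iInter.1 hy i
  let d : Γ(SymProd.fibPow s' r, W) :=
    (Matrix.of fun i j => (WidePullback.π (fun _ : Fin r => s') i).appLE V W (hW i) (f j)).det
  have hd : ∀ (x : Spec (CommRingCat.of k) ⟶ SymProd.fibPow s' r) (hx : pt x ∈ W),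
      ev x hx d = (Matrix.of fun i j => ev (x ≫ WidePullback.π (fun _ : Fin r => s') i)
        (show pt (x ≫ WidePullback.π (fun _ : Fin r => s') i) ∈ V from hW i hx) (f j)).det := by
    intro x hx
    rw [RingHom.map_det]
    congr 1
    ext i j
    exact (ev_comp _ (hW i) x hx (f j)).symm
  refine ⟨(SymProd.fibPow s' r).basicOpen d, ?_, ?_⟩
  · let x₀ : Spec (CommRingCat.of k) ⟶ SymProd.fibPow s' r :=
      WidePullback.lift (objs := fun _ : Fin r => C) (𝟙 _) (fun i => (s i).1) (fun i => (s i).2.1)
    have hπ : ∀ i, x₀ ≫ WidePullback.π (fun _ : Fin r => s') i = (s i).1 := fun i =>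
      WidePullback.lift_π _ _ _ _ _
    have hx₀ : pt x₀ ∈ W := Set.mem_iInter.2 fun i => by
      show pt (x₀ ≫ WidePullback.π (fun _ : Fin r => s') i) ∈ V
      rw [hπ]
      exact (s i).2.2
    refine ⟨pt x₀, (ev_ne_zero_iff x₀ hx₀ d).1 ?_⟩
    rw [hd x₀ hx₀]
    simp only [hπ]
    exact hs
  intro x hx hxU M hM ⟨eM⟩
  let P : Fin r → (Spec (CommRingCat.of k) ⟶ C) := fun i => x ≫ WidePullback.π (fun _ : Fin r => s') i
  have hxW : pt x ∈ W := (SymProd.fibPow s' r).basicOpen_le d (hxU _)
  have hPs : ∀ i, P i ≫ s' = 𝟙 _ := fun i => by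
    simp only [P, Category.assoc, WidePullback.π_arrow]
    exact hx
  have hdet : (Matrix.of fun i j => ev (P i) (show pt (P i) ∈ V from hW i hxW) (f j)).det ≠ 0 := by
    rw [← hd x hxW]
    exact (ev_ne_zero_iff x hxW d).2 (hxU _)
  have eM' : CohB1.tensorMod M (FGA.tensorList ((List.ofFn P).map fun σ => ClSub.idealMod σ.ker)) ≅
      Coh.structureModule C := by
    rw [List.map_ofFn]
    exact eM
  obtain ⟨hdeg, i, hi, hvan⟩ := exists_section k hdim (List.ofFn P) (fun σ hσ => by
    obtain ⟨a, rfl⟩ := List.mem_ofFn.1 hσ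
    exact hPs a) hM eM'
  rw [List.length_ofFn] at hdeg
  have hMc := coh_of_free k (isFinLocFree_of_rank (InvEnd.isFinLocFreeOfRank_one hM))
  haveI := S0002.result k C M hMc 0
  haveI := S0002.result k C M hMc 1
  -- functionals factoring through `i` meet the span of ours trivially
  let D := (mapLin k i 1).dualMap
  have hDinj : Function.Injective D :=
    LinearMap.dualMap_injective_of_surjective (CurveSpecial.surjective_mapLin_one k hdim hO hM i hi)
  have hdis : Disjoint (LinearMap.range D) (Submodule.span k (Set.range fun j => Φ (t j))) := by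
    refine Submodule.disjoint_def.2 fun z hz hz' => ?_
    obtain ⟨l, rfl⟩ := hz
    obtain ⟨c, hc⟩ := (Submodule.mem_span_range_iff_exists_fun k).1 hz'
    obtain ⟨ψ, hψ⟩ := exists_rep_line k hω hdim hM l
    let u := ∑ j, c j • t j
    have hu : Φ u = D l := by
      rw [map_sum]
      simp only [map_smul]
      exact hc
    rw [← hu]
    by_contra hu0
    have hfac : i ≫ ψ = homOfClass u := by
      by_contra hne
      refine hω.ne (LinearMap.ext fun y => ?_)
      obtain ⟨z, rfl⟩ := surjective_of_ne_zero k hω hdim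
        (isFinLocFree_of_rank (InvEnd.isFinLocFreeOfRank_one hO)) (i ≫ ψ - homOfClass u) (sub_ne_zero.2 hne) y
      have h3 : μ (mapLin k (homOfClass u) 1 z) = μ (mapLin k (i ≫ ψ) 1 z) := by
        rw [← FFun.mapLin_comp, ← hψ]
        exact LinearMap.congr_fun hu z
      rw [sub_eq_add_neg, mapLin_add, CurveDuality.mapLin_neg, map_add, map_neg, h3, add_neg_cancel]
      rfl
    have hψ0 : ψ ≠ 0 := fun h => by
      rw [h, comp_zero] at hfac
      refine hu0 ?_
      have : u = 0 := by
        by_contra hne
        exact homOfClass_ne_zero hne hfac.symm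
      rw [this, map_zero]
    haveI := InvEnd.mono_of_ne_zero hM hω.inv ψ hψ0
    have hzero : ∀ a, ∑ j, ev (P a) (show pt (P a) ∈ V from hW a hxW) (f j) * c j = 0 := fun a => by
      by_contra hne
      have hgen : IsUnit (C.presheaf.germ V (pt (P a)) (hW a hxW) (∑ j, cst V (c j) * f j)) := by
        refine (C.mem_basicOpen _ _ (hW a hxW)).1 ((ev_ne_zero_iff (P a) (hW a hxW) _).1 ?_)
        rw [map_sum]
        refine fun h => hne (Eq.trans (Finset.sum_congr rfl fun j _ => ?_) h)
        rw [map_mul, ev_cst (hPs a), mul_comm]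
      have hsu := surjective_homOfClass he u (hW a hxW) hgen (germ_combination t f hf c (hW a hxW))
      rw [← hfac] at hsu
      exact hvan (P a) (List.mem_ofFn.2 ⟨a, rfl⟩) (surjective_left_of_comp i ψ _ hsu)
    have hc0 : c = 0 := by
      by_contra hne
      exact hdet (Matrix.exists_mulVec_eq_zero_iff.1 ⟨c, hne, funext hzero⟩)
    refine hu0 ?_
    show Φ (∑ j, c j • t j) = 0
    simp [hc0]
  have h1 := Submodule.finrank_add_finrank_le_of_disjoint hdis
  rw [LinearMap.finrank_range_of_inj hDinj, Subspace.dual_finrank_eq, Subspace.dual_finrank_eq,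
    finrank_span_eq_card hind, Fintype.card_fin] at h1
  have hRR := h0_sub_h1 k hdim hM
  have hpos : 0 < Module.finrank k (Coh.HH C M 0) := by
    haveI : Nontrivial (Coh.HH C M 0) := by
      refine ⟨⟨(Sheaf.H.equiv₀ (Coh.toAb M) isTerminalTop).symm (i.app ⊤ (H23.Frame.one ⊤)), 0, fun h => hi ?_⟩⟩
      refine CurveRR.hom_ext_one ?_
      have := congrArg (Sheaf.H.equiv₀ (Coh.toAb M) isTerminalTop) h
      rw [AddEquiv.apply_symm_apply, map_zero] at this
      rw [this]
      rfl
    exact Module.finrank_pos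
  unfold Curv2.genus at hRR hr
  omega

end Groth.Agent.S17808
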