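import Groth.Statements.S17831
import Groth.Agent.PicfLib.AutDer.Dual

set_option autoImplicit false
set_option backward.isDefEq.respectTransparency false
set_option backward.isDefEq.respectTransparency.types false
universe u
open CategoryTheory MonoidalCategory CartesianMonoidalCategory MonObj GrpObj AlgebraicGeometry
open AutSch

namespace Groth.Agent.S17831

open Groth.Agent.PicfLib.AutDer

theorem famOf_one {k : Type u} [Field k] {X G : Over (Spec (CommRingCat.of k))} [GrpObj G]
    (a : AlgGrp.Action G X) (T : Over (Spec (CommRingCat.of k))) :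
    AutSch.famOf a (1 : T ⟶ G) = fst X T := by
  rw [AutSch.famOf]
  have : lift (snd X T ≫ (1 : T ⟶ G)) (fst X T) = lift (toUnit (X ⊗ T)) (fst X T) ≫ (η[G] ▷ X) := by
    rw [lift_whiskerRight, MonObj.comp_one, MonObj.one_eq_one, MonObj.comp_one]
  rw [this, Category.assoc, a.one_act]
  simp

theorem appTop_spec {R S : CommRingCat.{u}} (φ : R ⟶ S) (hφ : Function.Surjective φ.hom)
    (hφ2 : RingHom.ker φ.hom ^ 2 = ⊥) :
    Function.Surjective (Spec.map φ).appTop.hom ∧ RingHom.ker (Spec.map φ).appTop.hom ^ 2 = ⊥ := by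
  have hn : ∀ x, (Scheme.ΓSpecIso S).hom.hom ((Spec.map φ).appTop.hom x) =
      φ.hom ((Scheme.ΓSpecIso R).hom.hom x) := fun x => congr($(Scheme.ΓSpecIso_naturality φ) x)
  have hS : Function.Bijective (Scheme.ΓSpecIso S).hom.hom := ConcreteCategory.bijective_of_isIso _
  have hR : Function.Bijective (Scheme.ΓSpecIso R).hom.hom := ConcreteCategory.bijective_of_isIso _
  refine ⟨fun y => ?_, eq_bot_iff.2 ?_⟩
  · obtain ⟨r, hr⟩ := hφ ((Scheme.ΓSpecIso S).hom.hom y)
    obtain ⟨x, rfl⟩ := hR.2 r
    exact ⟨x, hS.1 (by rw [hn, hr])⟩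
  · rw [pow_two, Ideal.mul_le]
    intro x hx y hy
    rw [RingHom.mem_ker] at hx hy
    have hx' : (Scheme.ΓSpecIso R).hom.hom x ∈ RingHom.ker φ.hom := by
      rw [RingHom.mem_ker, ← hn, hx, map_zero]
    have hy' : (Scheme.ΓSpecIso R).hom.hom y ∈ RingHom.ker φ.hom := by
      rw [RingHom.mem_ker, ← hn, hy, map_zero]
    have := Ideal.mul_mem_mul hx' hy'
    rw [← pow_two, hφ2, Ideal.mem_bot, ← map_mul] at this
    exact Ideal.mem_bot.2 (hR.1 (by rw [this, map_zero]))

/-- Let k be a field and X a proper k-scheme of dimension at most 1, and let the k-group scheme G,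
locally of finite type over k, with its action a be the automorphism group scheme of X over k. Then
G → Spec k is unramified exactly when Der_k(O_X, O_X) = 0, i.e. when every k-derivation of O_X into
O_X takes the value zero on every section over every open. (Unramified is stated as formally
unramified, G being locally of finite type. The published statement also lists as equivalent that
the automorphism group scheme is geometrically reduced of dimension zero, and a condition on the
moduli stack of curves; this row states the unramified condition only.) -/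
theorem result (k : Type u) [Field k]
    (X : Over (Spec (CommRingCat.of k))) [IsProper X.hom] (hdim : topologicalKrullDim ↥X.left ≤ 1)
    (G : Over (Spec (CommRingCat.of k))) [GrpObj G] [LocallyOfFiniteType G.hom] (a : AlgGrp.Action G X)
    (hG : AutSch.Represents X G a) :
    FormallyUnramified G.hom ↔
      ∀ (D : OmegaSh.Der X.hom (Coh.structureModule X.left)) (U : X.left.Opens) (s : Γ(X.left, U)),
        D.app U s = 0 := by
  have : IsLocallyNoetherian X.left := LocallyOfFiniteType.isLocallyNoetherian X.hom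
  have : CompactSpace ↥X.left := (quasiCompact_iff_compactSpace X.hom).mp inferInstance
  have : IsNoetherian X.left := {}
  have hG' := (AutSch.represents_iff G a).1 hG
  constructor
  · intro hunr D U s
    let B := CommRingCat.of (DualNumber k)
    let φ : B ⟶ CommRingCat.of k := CommRingCat.ofHom (TrivSqZeroExt.fstHom k k k).toRingHom
    let T : Over (Spec (CommRingCat.of k)) :=
      Over.mk (Spec.map (CommRingCat.ofHom (algebraMap k (DualNumber k))))
    let T₀ : Over (Spec (CommRingCat.of k)) := Over.mk (𝟙 _)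
    have hw : CommRingCat.ofHom (algebraMap k (DualNumber k)) ≫ φ = 𝟙 _ := by
      ext x
      exact (TrivSqZeroExt.fstHom k k k).commutes x
    let j : T₀ ⟶ T := Over.homMk (Spec.map φ) (by
      show Spec.map φ ≫ Spec.map _ = 𝟙 _
      rw [← Spec.map_comp, hw, Spec.map_id])
    have hφs : Function.Surjective φ.hom := fun x => ⟨TrivSqZeroExt.inl x, rfl⟩
    have hφ2 : RingHom.ker φ.hom ^ 2 = ⊥ := by
      refine eq_bot_iff.2 ?_
      rw [pow_two, Ideal.mul_le]
      intro x hx y hy
      change TrivSqZeroExt.fst x = 0 at hx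
      change TrivSqZeroExt.fst y = 0 at hy
      refine Ideal.mem_bot.2 (TrivSqZeroExt.ext ?_ ?_)
      · refine (TrivSqZeroExt.fst_mul x y).trans ?_
        rw [hx, zero_mul]
        rfl
      · refine (TrivSqZeroExt.snd_mul x y).trans ?_
        rw [hx, hy]
        simp
    obtain ⟨hs, hk⟩ := appTop_spec φ hφs hφ2
    let ξ : Γ(T.left, ⊤) := (Scheme.ΓSpecIso B).inv.hom (DualNumber.eps : DualNumber k)
    have hξ : ξ * ξ = 0 := by
      show (Scheme.ΓSpecIso B).inv.hom _ * _ = 0
      rw [← map_mul]
      exact (congrArg _ DualNumber.eps_mul_eps).trans (map_zero _)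
    have hξ0 : ξ ≠ 0 := by
      intro h
      have h' : (DualNumber.eps : DualNumber k) = 0 :=
        (ConcreteCategory.bijective_of_isIso (Scheme.ΓSpecIso B).inv).1 (h.trans (map_zero _).symm)
      exact one_ne_zero (congrArg TrivSqZeroExt.snd h')
    have hj : j.left.appTop.hom ξ = 0 := by
      refine (ConcreteCategory.bijective_of_isIso (Scheme.ΓSpecIso (CommRingCat.of k)).hom).1 ?_
      refine (congr($(Scheme.ΓSpecIso_naturality φ) ξ)).trans ?_
      show φ.hom (((Scheme.ΓSpecIso B).inv ≫ (Scheme.ΓSpecIso B).hom).hom (DualNumber.eps : DualNumber k)) = _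
      rw [Iso.inv_hom_id, map_zero]
      exact TrivSqZeroExt.fst_inr k 1
    obtain ⟨g, hg, -⟩ := hG' T (shiftFam D ξ hξ) (isAutFamily_shiftFam D ξ hξ)
    have h0 : j ≫ g = 1 := by
      refine (hG' T₀ (fst X T₀) ?_).unique ?_ (famOf_one a T₀)
      · rw [AutSch.IsAutFamily, AutSch.endOf, lift_fst_snd]; infer_instance
      · rw [AutSch.famOf_comp, hg]
        exact whisker_shiftFam D ξ hξ j hj
    have h1 : g = 1 := by
      apply Over.OverMorphism.ext
      have : IsClosedImmersion (Spec.map φ) := IsClosedImmersion.spec_of_surjective φ hφs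
      refine FormallyUnramified.hom_ext (Spec.map φ) ⟨2, ?_⟩ G.hom ?_ ((Over.w g).trans (Over.w 1).symm)
      · refine Scheme.IdealSheafData.ext_of_isAffine ?_
        rw [Scheme.IdealSheafData.ideal_pow]
        show (Spec.map φ).ker.ideal _ ^ 2 = ⊥
        rw [Scheme.Hom.ker_apply]
        exact hk
      · have : j ≫ g = j ≫ 1 := h0.trans (MonObj.comp_one j).symm
        exact congrArg CommaMorphism.left this
    have : IsAffine T.left := inferInstanceAs (IsAffine (Spec B))
    refine val_eq_zero_of_shiftFam_eq D ξ hξ hξ0 ?_ U s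
    rw [← hg, h1, famOf_one]
  · intro hD
    refine FormallyUnramified.of_hom_ext _ fun R S φ hφs hφ2 g₁ g₂ hr hf => ?_
    let T : Over (Spec (CommRingCat.of k)) := Over.mk (g₁ ≫ G.hom)
    let T₀ : Over (Spec (CommRingCat.of k)) := Over.mk (Spec.map φ ≫ g₁ ≫ G.hom)
    let j : T₀ ⟶ T := Over.homMk (Spec.map φ) rfl
    let u₁ : T ⟶ G := Over.homMk g₁ rfl
    let u₂ : T ⟶ G := Over.homMk g₂ hf.symm
    suffices u₁ = u₂ from congrArg CommaMorphism.left this
    obtain ⟨hs, hk⟩ := appTop_spec φ hφs hφ2
    have : IsAffine T.left := inferInstanceAs (IsAffine (Spec R))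
    have : IsAffine T₀.left := inferInstanceAs (IsAffine (Spec S))
    have : Surjective j.left := by
      refine ⟨fun p => ?_⟩
      have hker : RingHom.ker φ.hom ≤ nilradical R := fun x hx => ⟨2, by
        have h := Ideal.pow_mem_pow hx 2
        rwa [hφ2, Ideal.mem_bot] at h⟩
      have hp : p ∈ Set.range (PrimeSpectrum.comap φ.hom) := by
        rw [range_comap_of_surjective _ _ hφs]
        exact hker.trans (nilradical_le_prime _)
      exact hp
    have hju : j ≫ u₁ = j ≫ u₂ := Over.OverMorphism.ext hr
    rw [← mul_inv_eq_one]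
    refine (hG' T (fst X T) ?_).unique ?_ (famOf_one a T)
    · rw [AutSch.IsAutFamily, AutSch.endOf, lift_fst_snd]; infer_instance
    · refine eq_fst_of_restrict hD j hs hk _ ?_
      show AutSch.pullFam j (AutSch.famOf a (u₁ * u₂⁻¹)) = X ◁ j ≫ fst X T
      rw [← AutSch.famOf_comp, MonObj.comp_mul, GrpObj.comp_inv, hju, mul_inv_cancel, famOf_one,
        whiskerLeft_fst]

end Groth.Agent.S17831
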