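import Groth.Statements.S17843
import Mathlib
-- import your own Groth.Agent.* helpers here

set_option autoImplicit false
universe u v
open CAlg

namespace Groth.Agent.S17843

open Polynomial in
lemma coeff_aeval_C_mul_X {S : Type*} [CommRing S] (s : S) (p : S[X]) (j : ℕ) :
    (aeval (C s * X) p).coeff j = p.coeff j * s ^ j := by
  induction p using Polynomial.induction_on' with
  | add p q hp hq => simp [hp, hq, add_mul]
  | monomial n a =>
    rw [aeval_monomial, mul_pow, ← C_pow, algebraMap_eq, ← mul_assoc, ← C_mul, coeff_C_mul_X_pow, coeff_monomial]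
    rcases eq_or_ne j n with rfl | h
    · simp
    · simp [h, h.symm]

/-- In the case of an affine scheme of finite presentation, let B be a finitely presented R-algebra, r ∈
R, and x : B → R[1/r][T] an R-algebra homomorphism whose value at T = 0, a homomorphism B → R[1/r],
is induced by a homomorphism x̃₀ : B → R. Then for every large enough n, the homomorphism x(rⁿT) : B
→ R[1/r][T] is induced by a homomorphism x̃ : B → R[T] whose value at T = 0 is x̃₀. The published
statement is for algebraic spaces locally of finite presentation over R; this row takes an affine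
scheme of finite presentation. -/
theorem result
    (R : Type u) (B : Type v) [CommRing R] [CommRing B] [Algebra R B]
    [Algebra.FinitePresentation R B] (r : R)
    (x : B →ₐ[R] Polynomial (Localization.Away r))
    (x₀ : B →ₐ[R] R)
    (hx₀ : (algebraMap R (Localization.Away r)).comp x₀.toRingHom =
      (Polynomial.evalRingHom 0).comp x.toRingHom) :
    ∃ N : ℕ, ∀ n : ℕ, N ≤ n →
      ∃ y : B →ₐ[R] Polynomial R,
        (Polynomial.evalRingHom 0).comp y.toRingHom = x₀.toRingHom ∧
        (Polynomial.mapRingHom (algebraMap R (Localization.Away r))).comp y.toRingHom =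
          (Polynomial.aeval (Polynomial.C (algebraMap R (Localization.Away r) (r ^ n)) * Polynomial.X) :
              Polynomial (Localization.Away r) →ₐ[Localization.Away r] Polynomial (Localization.Away r)).toRingHom.comp
            x.toRingHom := by
  classical
  let Rr := Localization.Away r
  obtain ⟨m, π, hπ, hker⟩ := Algebra.FinitePresentation.out (R := R) (A := B)
  obtain ⟨S, hS⟩ := hker
  let σ : ℕ → Polynomial Rr →+* Polynomial Rr := fun n =>
    (Polynomial.aeval (Polynomial.C (algebraMap R Rr (r ^ n)) * Polynomial.X) :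
      Polynomial Rr →ₐ[Rr] Polynomial Rr).toRingHom
  have hσ : ∀ n (f : Polynomial Rr) j, (σ n f).coeff j = f.coeff j * algebraMap R Rr (r ^ n) ^ j :=
    fun n f j => coeff_aeval_C_mul_X _ f j
  let z : Fin m → Polynomial Rr := fun i => x (π (MvPolynomial.X i))
  have he : ∀ i j, ∃ e : ℕ, ∀ N, e ≤ N → ∃ a : R, algebraMap R Rr a = (z i).coeff j * algebraMap R Rr r ^ N := by
    intro i j
    obtain ⟨e, a, ha⟩ := IsLocalization.Away.surj r ((z i).coeff j)
    refine ⟨e, fun N hN => ⟨a * r ^ (N - e), ?_⟩⟩
    rw [map_mul, map_pow, ← ha, mul_assoc, ← pow_add, Nat.add_sub_cancel' hN]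
  choose e he using he
  let N₀ := Finset.univ.sup fun i => (z i).support.sup (e i)
  have hlift : ∀ i, ∃ Y : Polynomial R, Y.map (algebraMap R Rr) = σ N₀ (z i) ∧ Y.coeff 0 = x₀ (π (MvPolynomial.X i)) := by
    intro i
    have h0 : algebraMap R Rr (x₀ (π (MvPolynomial.X i))) = (z i).coeff 0 := by
      rw [Polynomial.coeff_zero_eq_eval_zero]
      exact RingHom.congr_fun hx₀ (π (MvPolynomial.X i))
    have ha : ∀ j, ∃ a : R, algebraMap R Rr a = (σ N₀ (z i)).coeff j := by
      intro j
      rw [hσ]
      by_cases hj : j ∈ (z i).support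
      · rcases Nat.eq_zero_or_pos j with rfl | hpos
        · exact ⟨x₀ (π (MvPolynomial.X i)), by rw [h0, pow_zero, mul_one]⟩
        obtain ⟨a, ha⟩ := he i j (N₀ * j) ((Finset.le_sup hj).trans ((Finset.le_sup (f := fun i => (z i).support.sup (e i))
          (Finset.mem_univ i)).trans (Nat.le_mul_of_pos_right _ hpos)))
        exact ⟨a, by rw [ha, map_pow, ← pow_mul]⟩
      · exact ⟨0, by rw [Polynomial.notMem_support_iff.mp hj, zero_mul, map_zero]⟩
    choose a ha using ha
    refine ⟨Polynomial.C (x₀ (π (MvPolynomial.X i))) +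
      ∑ j ∈ ((σ N₀ (z i)).support.erase 0), Polynomial.monomial j (a j), ?_, ?_⟩
    · ext j
      rw [Polynomial.coeff_map, Polynomial.coeff_add, Polynomial.finsetSum_coeff, Polynomial.coeff_C]
      simp only [Polynomial.coeff_monomial, Finset.sum_ite_eq', Finset.mem_erase, Polynomial.mem_support_iff]
      rcases Nat.eq_zero_or_pos j with rfl | hpos
      · simp [hσ, h0]
      · by_cases hj : (σ N₀ (z i)).coeff j = 0
        · simp [hpos.ne', hj]
        · simp [hpos.ne', hj, ha]
    · simp [Polynomial.coeff_monomial]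
  choose Y hY hY0 using hlift
  let ψ : MvPolynomial (Fin m) R →ₐ[R] Polynomial R := MvPolynomial.aeval Y
  have hψ : (Polynomial.mapRingHom (algebraMap R Rr)).comp ψ.toRingHom = (σ N₀).comp (x.toRingHom.comp π.toRingHom) := by
    refine MvPolynomial.ringHom_ext (fun c => ?_) fun i => ?_
    · show (ψ (MvPolynomial.C c)).map (algebraMap R Rr) = σ N₀ (x (π (MvPolynomial.C c)))
      rw [← MvPolynomial.algebraMap_eq, AlgHom.commutes, AlgHom.commutes, AlgHom.commutes]
      show (Polynomial.C c).map (algebraMap R Rr) = σ N₀ (Polynomial.C (algebraMap R Rr c))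
      rw [Polynomial.map_C]
      exact (Polynomial.aeval_C (R := Rr) _ _).symm
    · show (ψ (MvPolynomial.X i)).map (algebraMap R Rr) = σ N₀ (z i)
      rw [show ψ (MvPolynomial.X i) = Y i from MvPolynomial.aeval_X _ _, hY]
  have hψ0 : (Polynomial.evalRingHom 0).comp ψ.toRingHom = x₀.toRingHom.comp π.toRingHom := by
    refine MvPolynomial.ringHom_ext (fun c => ?_) fun i => ?_
    · show (ψ (MvPolynomial.C c)).eval 0 = x₀ (π (MvPolynomial.C c))
      simp [← MvPolynomial.algebraMap_eq]
    · show (ψ (MvPolynomial.X i)).eval 0 = x₀ (π (MvPolynomial.X i))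
      rw [show ψ (MvPolynomial.X i) = Y i from MvPolynomial.aeval_X _ _, ← Polynomial.coeff_zero_eq_eval_zero, hY0]
  have hzero : ∀ f, π f = 0 → ∀ j, algebraMap R Rr ((ψ f).coeff j) = 0 := fun f hf j => by
    rw [← Polynomial.coeff_map]
    have h : (ψ f).map (algebraMap R Rr) = σ N₀ (x (π f)) := RingHom.congr_fun hψ f
    rw [h, hf, map_zero, map_zero, Polynomial.coeff_zero]
  have hK : ∀ (f : MvPolynomial (Fin m) R) (j : ℕ), ∃ K : ℕ, π f = 0 → r ^ K * (ψ f).coeff j = 0 := fun f j => by
    by_cases hf : π f = 0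
    · obtain ⟨K, hK⟩ := IsLocalization.Away.exists_of_eq r
        (S := Rr) ((hzero f hf j).trans (map_zero (algebraMap R Rr)).symm)
      exact ⟨K, fun _ => by rw [hK, mul_zero]⟩
    · exact ⟨0, fun h => absurd h hf⟩
  choose K hK using hK
  let K₀ := S.sup fun f => (ψ f).support.sup (K f)
  refine ⟨N₀ + K₀, fun n hn => ?_⟩
  let τ : Polynomial R →ₐ[R] Polynomial R := Polynomial.aeval (Polynomial.C (r ^ (n - N₀)) * Polynomial.X)
  have hkill : RingHom.ker π.toRingHom ≤ RingHom.ker (τ.comp ψ).toRingHom := by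
    rw [← hS, Ideal.span_le]
    intro f hf
    have hfπ : π f = 0 := hS.le (Ideal.subset_span hf)
    rw [SetLike.mem_coe, RingHom.mem_ker]
    show τ (ψ f) = 0
    ext j
    rw [coeff_aeval_C_mul_X, Polynomial.coeff_zero]
    by_cases hj : j ∈ (ψ f).support
    · rcases Nat.eq_zero_or_pos j with rfl | hpos
      · have h := RingHom.congr_fun hψ0 f
        change (ψ f).eval 0 = x₀ (π f) at h
        rw [Polynomial.coeff_zero_eq_eval_zero, h, hfπ, map_zero, zero_mul]
      · have h1 : K f j ≤ (n - N₀) * j :=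
          ((Finset.le_sup hj).trans (Finset.le_sup (f := fun f => (ψ f).support.sup (K f)) hf)).trans
            ((by omega : K₀ ≤ n - N₀).trans (Nat.le_mul_of_pos_right _ hpos))
        rw [← pow_mul, ← Nat.sub_add_cancel h1, pow_add, ← mul_assoc, mul_right_comm,
          mul_comm ((ψ f).coeff j) (r ^ K f j), hK f j hfπ, zero_mul]
    · rw [Polynomial.notMem_support_iff.mp hj, zero_mul]
  let y : B →ₐ[R] Polynomial R :=
    (Ideal.Quotient.liftₐ _ (τ.comp ψ) fun f hf => hkill hf).comp
      (Ideal.quotientKerAlgEquivOfSurjective hπ).symm.toAlgHom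
  have hy : ∀ f, y (π f) = τ (ψ f) := fun f => by
    show (Ideal.Quotient.liftₐ _ (τ.comp ψ) fun f hf => hkill hf) ((Ideal.quotientKerAlgEquivOfSurjective hπ).symm (π f)) = _
    rw [show π f = Ideal.quotientKerAlgEquivOfSurjective hπ (Ideal.Quotient.mk _ f) from rfl, AlgEquiv.symm_apply_apply]
    rfl
  refine ⟨y, RingHom.ext fun b => ?_, RingHom.ext fun b => ?_⟩
  · obtain ⟨f, rfl⟩ := hπ b
    show (y (π f)).eval 0 = x₀ (π f)
    rw [hy, ← Polynomial.coeff_zero_eq_eval_zero, coeff_aeval_C_mul_X, pow_zero, mul_one, Polynomial.coeff_zero_eq_eval_zero]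
    exact RingHom.congr_fun hψ0 f
  · obtain ⟨f, rfl⟩ := hπ b
    show (y (π f)).map (algebraMap R Rr) = σ n (x (π f))
    ext j
    rw [hy, Polynomial.coeff_map, coeff_aeval_C_mul_X, map_mul, map_pow, ← Polynomial.coeff_map,
      show (ψ f).map (algebraMap R Rr) = σ N₀ (x (π f)) from RingHom.congr_fun hψ f, hσ, hσ, mul_assoc, ← mul_pow,
      ← map_mul, ← pow_add, Nat.add_sub_cancel' (by omega : N₀ ≤ n)]

end Groth.Agent.S17843
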