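import Groth.Statements.S17850
import Groth.Agent.TorsPatch28.Translate

set_option autoImplicit false
open CategoryTheory CategoryTheory.Limits MonoidalCategory CartesianMonoidalCategory MonObj GrpObj AlgebraicGeometry
universe u
open NonAbH1

namespace Groth.Agent.S17850

open Groth.Agent.TorsPatch28 Groth.Agent.QuillenLib in
theorem specIso_hom_over (R : Type u) [CommRing R] (n : Type u) :
    (AffineSpace.SpecIso n (CommRingCat.of R)).hom ≫ (AffN R n).hom =
      𝔸(n; Spec (CommRingCat.of R)) ↘ Spec (CommRingCat.of R) := by
  rw [← Iso.eq_inv_comp, AffineSpace.SpecIso_inv_over]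
  show Spec.map (CommRingCat.ofHom (algebraMap R (MvPolynomial n R))) = _
  rw [MvPolynomial.algebraMap_eq]

/-- In ideal form, let R be a ring, G an R-group scheme locally of finite presentation and X an fppf
torsor over 𝔸ⁿ_R (n finite) under the base change of G. Say that X descends over R[1/r] when there
is a torsor P under the base change of G to R[1/r] whose base change to 𝔸ⁿ over R[1/r] is
equivariantly isomorphic to the restriction of X (both compared as actions of the base change of G
to 𝔸ⁿ over R[1/r] through the canonical identifications of iterated base changes). Then the set of r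
∈ R over which X descends is an ideal. The published statement also allows more general group
functors and graded algebras. -/
theorem result
    (R : Type u) [CommRing R] (n : Type u) [Finite n]
    (G : Over (Spec (CommRingCat.of R))) [GrpObj G] [LocallyOfFinitePresentation G.hom]
    (X : NonAbH1.TorsorSch (Red.bc (𝔸(n; Spec (CommRingCat.of R)) ↘ Spec (CommRingCat.of R)) G) Scheme.fppfPrecoverage) :
    ∃ I : Ideal R, ∀ r : R, r ∈ I ↔
      ∃ P : NonAbH1.TorsorSch
          (Red.bc (Spec.map (CommRingCat.ofHom (algebraMap R (Localization.Away r)))) G) Scheme.fppfPrecoverage,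
        Nonempty (NonAbH1.EquivIso
          ((P.act.bc (pullback.snd (𝔸(n; Spec (CommRingCat.of R)) ↘ Spec (CommRingCat.of R))
              (Spec.map (CommRingCat.ofHom (algebraMap R (Localization.Away r)))))).restrict
            (ActBC.bcCompIso (pullback.snd (𝔸(n; Spec (CommRingCat.of R)) ↘ Spec (CommRingCat.of R))
                (Spec.map (CommRingCat.ofHom (algebraMap R (Localization.Away r)))))
              (Spec.map (CommRingCat.ofHom (algebraMap R (Localization.Away r)))) G rfl).inv)
          ((X.act.bc (pullback.fst (𝔸(n; Spec (CommRingCat.of R)) ↘ Spec (CommRingCat.of R))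
              (Spec.map (CommRingCat.ofHom (algebraMap R (Localization.Away r)))))).restrict
            (ActBC.bcCompIso (pullback.fst (𝔸(n; Spec (CommRingCat.of R)) ↘ Spec (CommRingCat.of R))
                (Spec.map (CommRingCat.ofHom (algebraMap R (Localization.Away r)))))
              (𝔸(n; Spec (CommRingCat.of R)) ↘ Spec (CommRingCat.of R)) G pullback.condition).inv)) := by
  obtain ⟨P, _, _, p, hp, hP⟩ :=
    Groth.Agent.TorsPatch28.exists_trivialisation _ _ (specIso_hom_over R n) X
  obtain ⟨I, hI⟩ := Groth.Agent.TorsPatch28.exists_ideal_desc p hp hP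
  refine ⟨I, fun r => (hI r).trans ⟨?_, ?_⟩⟩
  · rintro ⟨F⟩
    exact Groth.Agent.TorsPatch28.equivIso_of_fam _ _ (specIso_hom_over R n) X F
  · rintro ⟨Q, ⟨ε⟩⟩
    exact Groth.Agent.TorsPatch28.desc_of_equivIso _ _ (specIso_hom_over R n) X Q ε (𝟙 _)

end Groth.Agent.S17850
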