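import Groth.Statements.S17885
import Groth.Agent.LimitsH94.Approx.Arrow
import Groth.Agent.S9200
-- import your own Groth.Agent.* helpers here

set_option autoImplicit false
universe u
open CategoryTheory AlgebraicGeometry
open Lim

namespace Groth.Agent.S17885

set_option backward.isDefEq.respectTransparency false in
set_option backward.isDefEq.respectTransparency.types false in
set_option linter.style.haveILetI false in
open Opposite in

/-- Let f : Y → X be a morphism of schemes with X and Y quasi-compact and quasi-separated. Then f is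
affine if and only if the X-scheme Y is a limit, in the category of schemes over X, of a filtered
inverse system of X-schemes that are affine and of finite presentation over X. -/
theorem result {X Y : Scheme.{u}} (f : Y ⟶ X)
    [CompactSpace X] [QuasiSeparatedSpace X] [CompactSpace Y] [QuasiSeparatedSpace Y] :
    IsAffineHom f ↔
      ∃ (I : Type u) (_ : SmallCategory I) (_ : IsFiltered I) (D : Iᵒᵖ ⥤ Over X)
        (c : Limits.Cone D) (_ : Limits.IsLimit c),
        (∀ i, IsAffineHom (D.obj i).hom ∧ LocallyOfFinitePresentation (D.obj i).hom) ∧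
        Nonempty (c.pt ≅ Over.mk f) := by

  constructor
  · intro hf
    obtain ⟨J, _, _, _, D, π, hlim, hD, htr, -⟩ := LimitsH94.Approx.exists_relative_limit f
    let D₀ : Jᵒᵖ ⥤ Scheme.{u} := D ⋙ Over.forget X
    let c₀ : Limits.Cone D₀ := (Over.forget X).mapCone (Limits.Cone.mk _ π)
    haveI : IsConnected Jᵒᵖ := IsCofiltered.isConnected _
    have hc₀ : Limits.IsLimit c₀ := Limits.isLimitOfPreserves (Over.forget X) hlim
    let t : D₀ ⟶ (Functor.const Jᵒᵖ).obj X :=
      { app := fun i => (D.obj i).hom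
        naturality := fun i j a => (Over.w (D.map a)).trans (Category.comp_id _).symm }
    haveI : ∀ (i j : Jᵒᵖ) (a : i ⟶ j), IsAffineHom (D₀.map a) := htr
    haveI : ∀ i, CompactSpace (D₀.obj i) := fun i => by
      haveI := (hD i).2.1
      exact QuasiCompact.compactSpace_of_compactSpace (D.obj i).hom
    haveI : ∀ i, QuasiSeparatedSpace (D₀.obj i) := fun i => by
      haveI := (hD i).2.2
      exact quasiSeparatedSpace_of_quasiSeparated (D.obj i).hom
    obtain ⟨j₀⟩ := IsCofiltered.nonempty (C := Jᵒᵖ)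
    haveI : IsAffineHom (c₀.π.app j₀ ≫ t.app j₀) := by
      show IsAffineHom ((π.app j₀).left ≫ (D.obj j₀).hom)
      rw [Over.w (π.app j₀)]
      exact hf
    obtain ⟨k₀, hk₀⟩ := Groth.Agent.S9200.result X D₀ t c₀ hc₀ j₀
    let J' := {k : J // k₀.unop ≤ k}
    haveI : Nonempty J' := ⟨⟨k₀.unop, le_rfl⟩⟩
    haveI : IsDirected J' (fun a b => a ≤ b) := ⟨fun a b => by
      obtain ⟨c, h1, h2⟩ := exists_ge_ge a.1 b.1
      exact ⟨⟨c, a.2.trans h1⟩, h1, h2⟩⟩
    let F : J' ⥤ J := (show Monotone (Subtype.val : J' → J) from fun _ _ h => h).functor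
    haveI : F.Final := by
      refine Functor.final_of_exists_of_isFiltered _ (fun d => ?_) fun {d c} s s' => ⟨c, 𝟙 _, Subsingleton.elim _ _⟩
      obtain ⟨c, h1, h2⟩ := exists_ge_ge d k₀.unop
      exact ⟨⟨c, h2⟩, ⟨homOfLE h1⟩⟩
    let π' : (Functor.const J'ᵒᵖ).obj (Over.mk f) ⟶ F.op ⋙ D :=
      { app := fun k => π.app (op k.unop.1), naturality := fun a b g => π.naturality (F.op.map g) }
    exact ⟨J', inferInstance, inferInstance, F.op ⋙ D, Limits.Cone.mk _ π',
      (Functor.Initial.isLimitWhiskerEquiv F.op _).symm hlim,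
      fun k => ⟨hk₀ _ (homOfLE k.unop.2).op, (hD _).1⟩, ⟨Iso.refl _⟩⟩
  · rintro ⟨I, _, _, D, c, hc, hD, ⟨e⟩⟩
    let D₀ : Iᵒᵖ ⥤ Scheme.{u} := D ⋙ Over.forget X
    let c₀ : Limits.Cone D₀ := (Over.forget X).mapCone c
    haveI : IsConnected Iᵒᵖ := IsCofiltered.isConnected _
    have hc₀ : Limits.IsLimit c₀ := Limits.isLimitOfPreserves (Over.forget X) hc
    haveI := fun i => (hD i).1
    haveI : ∀ {i j : Iᵒᵖ} (a : i ⟶ j), IsAffineHom (D₀.map a) := fun {i j} a => by
      haveI : IsAffineHom ((D.map a).left ≫ (D.obj j).hom) := by rw [Over.w]; exact (hD i).1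
      exact IsAffineHom.of_comp (D.map a).left (D.obj j).hom
    obtain ⟨i₀⟩ := IsCofiltered.nonempty (C := Iᵒᵖ)
    haveI : IsAffineHom (c₀.π.app i₀) := isAffineHom_π_app _ _ hc₀ i₀
    haveI : IsAffineHom c.pt.hom := by
      have e' : c₀.π.app i₀ ≫ (D.obj i₀).hom = c.pt.hom := Over.w (c.π.app i₀)
      exact e' ▸ inferInstanceAs (IsAffineHom (c₀.π.app i₀ ≫ (D.obj i₀).hom))
    have h : e.inv.left ≫ c.pt.hom = f := Over.w e.inv
    rw [← h]
    infer_instance


end Groth.Agent.S17885
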