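import Groth.Statements.S17886
import Groth.Agent.AmpleX.QAHom

set_option linter.style.haveILetI false
set_option backward.isDefEq.respectTransparency false
set_option backward.isDefEq.respectTransparency.types false
-- import your own Groth.Agent.* helpers here

set_option autoImplicit false
universe u
open CategoryTheory AlgebraicGeometry
open FlatMor

namespace Groth.Agent.S17886

theorem exists_dense_affine (X : Scheme.{u}) [IsNoetherian X] (x : X) :
    ∃ W : X.Opens, IsAffineOpen W ∧ Dense (W : Set X) ∧ x ∈ W := by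
  classical
  obtain ⟨_, ⟨U, hU, rfl⟩, hxU, -⟩ :=
    X.isBasis_affineOpens.exists_subset_of_mem_open (Set.mem_univ x) isOpen_univ
  have hfin : (irreducibleComponents X).Finite := TopologicalSpace.NoetherianSpace.finite_irreducibleComponents
  let c : Set (Set X) := irreducibleComponents X
  have hO : ∀ Z : c, ∃ A : X.Opens, IsAffineOpen A ∧ Disjoint (A : Set X) (U : Set X) ∧
      (∀ C ∈ c, C ≠ Z.1 → Disjoint (A : Set X) C) ∧
      (Z.2.1.genericPoint ∈
        ((A : Set X) ∪ closure (U : Set X))) := by
    intro Z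
    let η := Z.2.1.genericPoint
    by_cases hη : η ∈ closure (U : Set X)
    · exact ⟨⊥, isAffineOpen_bot X, by simp, fun C _ _ => by simp, Or.inr hη⟩
    have hη' : η ∉ ⋃₀ (c \ {Z.1}) := by
      rintro ⟨C, ⟨hC, hne⟩, hCη⟩
      have hgp : IsGenericPoint η (closure Z.1) :=
        IsIrreducible.isGenericPoint_genericPoint_closure Z.2.1
      have : Z.1 ⊆ C := fun z hz =>
        (hgp.specializes (subset_closure hz)).mem_closed (isClosed_of_mem_irreducibleComponents C hC) hCη
      exact hne (Set.Subset.antisymm (Z.2.2 hC.1 this) this)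
    have hclosed : IsClosed (closure (U : Set X) ∪ ⋃₀ (c \ {Z.1})) :=
      isClosed_closure.union (Set.sUnion_eq_biUnion ▸ (hfin.subset Set.sdiff_subset).isClosed_biUnion fun C hC =>
        isClosed_of_mem_irreducibleComponents C hC.1)
    obtain ⟨_, ⟨A, hA, rfl⟩, hηA, hAle⟩ := X.isBasis_affineOpens.exists_subset_of_mem_open
      (show η ∈ (closure (U : Set X) ∪ ⋃₀ (c \ {Z.1}))ᶜ by simpa using And.intro hη hη') hclosed.isOpen_compl
    exact ⟨A, hA, Set.disjoint_left.2 fun z hz hzU => hAle hz (Or.inl (subset_closure hzU)),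
      fun C hC hne => Set.disjoint_left.2 fun z hz hzC => hAle hz (Or.inr ⟨C, ⟨hC, hne⟩, hzC⟩), Or.inl hηA⟩
  choose A hA hAU hAC hAη using hO
  haveI : Finite c := hfin.to_subtype
  have hdisj : Pairwise (Function.onFun Disjoint A) := by
    intro Z Z' hne
    refine disjoint_iff.2 (TopologicalSpace.Opens.ext (Set.eq_empty_iff_forall_notMem.2 fun z hz => ?_))
    by_cases h : irreducibleComponent z = Z.1
    · exact Set.disjoint_left.1 (hAC Z' _ Z.2 (fun e => hne (Subtype.ext e))) hz.2 (h ▸ mem_irreducibleComponent)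
    · exact Set.disjoint_left.1 (hAC Z _ (irreducibleComponent_mem_irreducibleComponents z) h) hz.1
        mem_irreducibleComponent
  refine ⟨U ⊔ ⨆ Z, A Z, hU.sup_of_disjoint (IsAffineOpen.iSup_of_disjoint hA hdisj) ?_, ?_, Or.inl hxU⟩
  · refine disjoint_iff.2 (TopologicalSpace.Opens.ext (Set.eq_empty_iff_forall_notMem.2 fun z hz => ?_))
    obtain ⟨Z, hzZ⟩ := TopologicalSpace.Opens.mem_iSup.1 hz.2
    exact Set.disjoint_left.1 (hAU Z) hzZ hz.1
  · rw [dense_iff_closure_eq]
    refine Set.eq_univ_of_forall fun z => ?_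
    let Z : c := ⟨irreducibleComponent z, irreducibleComponent_mem_irreducibleComponents z⟩
    have hgp := IsIrreducible.isGenericPoint_genericPoint_closure Z.2.1
    refine (hgp.specializes (subset_closure mem_irreducibleComponent)).mem_closed isClosed_closure ?_
    rcases hAη Z with h | h
    · refine subset_closure (Or.inr ?_)
      exact TopologicalSpace.Opens.mem_iSup.2 ⟨Z, h⟩
    · exact closure_mono Set.subset_union_left h

/-- Let S be a Noetherian scheme and f : X → S separated and of finite type. Then X is covered by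
finitely many affine opens U_1, …, U_n each of which is dense in X and quasi-projective over S (of
finite type with a relatively ample invertible module). -/
theorem result {S X : Scheme.{u}} (f : X ⟶ S)
    [IsNoetherian S] [IsSeparated f] [QuasiCompact f] [LocallyOfFiniteType f] :
    ∃ (n : ℕ) (U : Fin n → X.Opens), (⨆ i, U i) = ⊤ ∧
      ∀ i, IsAffineOpen (U i) ∧ Dense ((U i : Set X)) ∧ RelProj.IsQuasiProjective ((U i).ι ≫ f) := by
  classical
  haveI : IsLocallyNoetherian X := LocallyOfFiniteType.isLocallyNoetherian f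
  haveI : CompactSpace X := QuasiCompact.compactSpace_of_compactSpace f
  haveI : IsNoetherian X := ⟨⟩
  choose W hW hWd hxW using exists_dense_affine X
  obtain ⟨t, ht⟩ := isCompact_univ.elim_finite_subcover (fun x => (W x : Set X))
    (fun x => (W x).2) (fun x _ => Set.mem_iUnion.2 ⟨x, hxW x⟩)
  refine ⟨t.card, fun i => W (t.equivFin.symm i).1, ?_, fun i => ⟨hW _, hWd _, ?_⟩⟩
  · refine eq_top_iff.2 fun z _ => ?_
    obtain ⟨y, hy, hz⟩ := Set.mem_iUnion₂.1 (ht (Set.mem_univ z))
    exact TopologicalSpace.Opens.mem_iSup.2 ⟨t.equivFin ⟨y, hy⟩, by simpa using hz⟩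
  · have key : ∀ U : X.Opens, IsAffineOpen U → RelProj.IsQuasiProjective (U.ι ≫ f) := by
      intro U hU
      haveI : IsAffine (U : Scheme.{u}) := hU
      refine ⟨inferInstance, inferInstance, _, (AmpleX.isQuasiAffine_iff_isRelAmple _).1 ⟨inferInstance, fun V hV => ?_⟩⟩
      haveI : CompactSpace ((((U.ι ≫ f) ⁻¹ᵁ V) : (U : Scheme.{u}).Opens) : Scheme.{u}) :=
        isCompact_iff_compactSpace.mp ((U.ι ≫ f).isCompact_preimage hV.isCompact)
      exact Scheme.IsQuasiAffine.of_isImmersion ((U.ι ≫ f) ⁻¹ᵁ V).ι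
    exact key _ (hW _)

end Groth.Agent.S17886
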