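import Groth.Statements.S17889
import Groth.Agent.BlowUp95.Strict

set_option autoImplicit false
universe u
open CategoryTheory AlgebraicGeometry TopologicalSpace
open BlowUp

namespace Groth.Agent.S17889

/-- Let X be a Noetherian scheme, X₀ ⊆ X an open subscheme, p : Z → X a morphism of finite type with Z
Noetherian, and F ⊆ X, G ⊆ Z closed subsets with p⁻¹(F ∩ X₀) ∩ G = ∅. Let a be a quasi-coherent
ideal sheaf on X whose support does not meet X₀, which contains the vanishing ideal I_F of F, and
which is contained in the kernel ideal of V(I_F·O_Z + I_G) → Z → X (the ideal of the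
scheme-theoretic image under p of p⁻¹(F) ∩ G). Let π : X' → X be a blowing-up along a, Z' = Z ×_X X'
with projections π' : Z' → Z and p' : Z' → X'. Then p'⁻¹ of the closure in X' of π⁻¹(F ∩ X₀) is
disjoint from the closure in Z' of π'⁻¹(G ∩ p⁻¹(X₀)). Taking a to be that kernel ideal shows such an
a exists. -/
theorem result
    {X Z : Scheme.{u}} [IsNoetherian X] [IsNoetherian Z] (p : Z ⟶ X) [LocallyOfFiniteType p]
    (X₀ : X.Opens) (F : Closeds X) (G : Closeds Z)
    (hFG : p.base ⁻¹' ((F : Set X) ∩ (X₀ : Set X)) ∩ (G : Set Z) = ∅)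
    (𝔞 : X.IdealSheafData) (h₁ : Disjoint (𝔞.support : Set X) (X₀ : Set X))
    (h₂ : Scheme.IdealSheafData.vanishingIdeal F ≤ 𝔞)
    (h₃ : 𝔞 ≤ (((Scheme.IdealSheafData.vanishingIdeal F).comap p ⊔
      Scheme.IdealSheafData.vanishingIdeal G).subschemeι ≫ p).ker)
    {X' : Scheme.{u}} (π : X' ⟶ X) (hπ : BlowUp.IsBlowUp π 𝔞) :
    (Limits.pullback.snd p π).base ⁻¹' closure (π.base ⁻¹' ((F : Set X) ∩ (X₀ : Set X))) ∩
      closure ((Limits.pullback.fst p π).base ⁻¹' ((G : Set Z) ∩ (p ⁻¹ᵁ X₀ : Set Z))) = ∅ := by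
  set IF := Scheme.IdealSheafData.vanishingIdeal F
  set IG := Scheme.IdealSheafData.vanishingIdeal G
  have hE := ModPairLib.isLocPrincipal_of_isEffCartier hπ.1
  set E := 𝔞.comap π with hEdef
  set g := Limits.pullback.fst p π
  set p' := Limits.pullback.snd p π
  set Q := ModPairLib.colon (IF.comap π) E hE
  have e1 : Q * E = IF.comap π :=
    ModPairLib.colon_mul hπ.1 (Groth.Agent.BlowUp95.le_sup_comap π h₂)
  have hoff : ∀ x', π x' ∈ X₀ → x' ∉ (E.support : Set X') := by
    intro x' hx' hxE
    rw [hEdef, Scheme.IdealSheafData.support_comap] at hxE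
    exact Set.disjoint_left.1 h₁ hxE hx'
  have hcl : closure (π.base ⁻¹' ((F : Set X) ∩ (X₀ : Set X))) ⊆ (Q.support : Set X') := by
    refine closure_minimal (fun x' hx' ↦ ?_) (TopologicalSpace.Closeds.isClosed _)
    have h3 : x' ∈ ((Q * E).support : Set X') := by
      rw [e1, Scheme.IdealSheafData.support_comap]
      exact Groth.Agent.BlowUp95.subset_support_vanishingIdeal F hx'.1
    rw [Scheme.IdealSheafData.support_mul] at h3
    exact h3.resolve_right (hoff x' hx'.2)
  set S := g.base ⁻¹' ((G : Set Z) ∩ (p ⁻¹ᵁ X₀ : Set Z))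
  set K := Scheme.IdealSheafData.vanishingIdeal ⟨closure S, isClosed_closure⟩
  have hd : ∀ s ∈ S, s ∉ ((E.comap p').support : Set _) := by
    intro s hs
    rw [Scheme.IdealSheafData.support_comap]
    refine hoff _ ?_
    rw [← Scheme.Hom.comp_apply, ← Limits.pullback.condition, Scheme.Hom.comp_apply]
    exact hs.2
  have hK : IG.comap g ≤ K := Groth.Agent.BlowUp95.le_vanishingIdeal_closure fun s hs ↦ by
    rw [Scheme.IdealSheafData.support_comap]
    exact Groth.Agent.BlowUp95.subset_support_vanishingIdeal G hs.1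
  have hpush : ∀ A : X.IdealSheafData, (A.comap p).comap g = (A.comap π).comap p' := fun A ↦ by
    rw [← Scheme.IdealSheafData.comap_comp, ← Scheme.IdealSheafData.comap_comp,
      Limits.pullback.condition]
  have h3' : 𝔞.comap p ≤ IF.comap p ⊔ IG := by
    rw [← Scheme.IdealSheafData.le_map_iff_comap_le]
    refine h₃.trans (le_of_eq ?_)
    rw [← Scheme.IdealSheafData.map_ker, Scheme.IdealSheafData.ker_subschemeι]
  have hineq : ⊤ * E.comap p' ≤ Q.comap p' * E.comap p' ⊔ K := by
    have h4 := Groth.Agent.BlowUp95.le_sup_comap g h3'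
    rw [Scheme.IdealSheafData.comap_sup, hpush, hpush, ← e1, ModPairLib.ideal_comap_mul] at h4
    exact (Groth.Agent.BlowUp95.top_mul_le _).trans (h4.trans (sup_le_sup le_rfl hK))
  have hcanc := Groth.Agent.BlowUp95.le_sup_of_mul_le_mul_sup (hE.comap p')
    (Groth.Agent.BlowUp95.colon_vanishingIdeal_le (hE.comap p') _ S le_rfl subset_closure hd) hineq
  rw [Set.eq_empty_iff_forall_notMem]
  rintro z ⟨hz, hz'⟩
  have h5 : z ∈ ((Q.comap p').support : Set _) := by
    rw [Scheme.IdealSheafData.support_comap]; exact hcl hz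
  exact Groth.Agent.BlowUp95.notMem_supports (top_le_iff.1 hcanc) h5
    (Groth.Agent.BlowUp95.subset_support_vanishingIdeal _ hz')

end Groth.Agent.S17889
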