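import Groth.Statements.S17890
import Groth.Agent.FlatFun4.GlueSep

set_option linter.style.haveILetI false
set_option backward.isDefEq.respectTransparency false
set_option backward.isDefEq.respectTransparency.types false
open CategoryTheory.Limits
-- import your own Groth.Agent.* helpers here

set_option autoImplicit false
universe u
open CategoryTheory AlgebraicGeometry
open FlatMor

namespace Groth.Agent.S17890
open CategoryTheory AlgebraicGeometry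

theorem factor_dominant {U X : Scheme.{u}} (j : U ⟶ X) [QuasiCompact j] [IsSchemeTheoreticallyDominant j]
    (W : X.Opens) (k : U ⟶ W.toScheme) (hk : k ≫ W.ι = j) : IsSchemeTheoreticallyDominant k := by
  subst hk
  have hp : IsPullback k (𝟙 U) W.ι (k ≫ W.ι) := by
    refine ⟨⟨by simp⟩, ⟨PullbackCone.IsLimit.mk _ (fun c => c.snd) ?_ ?_ ?_⟩⟩
    · intro c
      rw [← cancel_mono W.ι, Category.assoc]
      exact c.condition.symm
    · intro c; exact Category.comp_id _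
    · intro c m _ hm; simpa using hm
  exact IsSchemeTheoreticallyDominant.of_isPullback hp.flip

theorem isClosedImmersion_graph {S X₁ X₂ : Scheme.{u}} (p₁ : X₁ ⟶ S) (p₂ : X₂ ⟶ S) (W₁ : X₁.Opens)
    (φ : W₁.toScheme ⟶ X₂) (hφ : W₁.ι ≫ p₁ = φ ≫ p₂)
    (hc : IsClosed (Set.range (fun w => (pullback.lift W₁.ι φ hφ) w))) :
    IsClosedImmersion (pullback.lift W₁.ι φ hφ) := by
  haveI : IsImmersion (pullback.lift W₁.ι φ hφ ≫ pullback.fst p₁ p₂) := by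
    rw [pullback.lift_fst]; infer_instance
  haveI : IsImmersion (pullback.lift W₁.ι φ hφ) := IsImmersion.of_comp _ (pullback.fst p₁ p₂)
  exact IsClosedImmersion.of_isPreimmersion _ hc

/-- Let S be a Noetherian scheme, X₁ and X₂ separated S-schemes of finite type, and j₁ : U → X₁, j₂ : U
→ X₂ open immersions over S with schematically dense images. Suppose X₁ quasi-dominates X₂ and X₂
quasi-dominates X₁ compatibly with U: there are schematically dense opens W₁ ⊆ X₁ and W₂ ⊆ X₂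
through which j₁, j₂ factor, and S-morphisms φ : W₁ → X₂, ψ : W₂ → X₁ restricting to j₂ and j₁ on U,
whose graphs are closed subsets of X₁ ×_S X₂ and X₂ ×_S X₁. Then there exist a separated S-scheme Y
of finite type and open immersions i₁ : X₁ → Y, i₂ : X₂ → Y over S with j₁ ≫ i₁ = j₂ ≫ i₂, such that
U → Y has schematically dense image. -/
theorem result {S X₁ X₂ U : Scheme.{u}} [IsNoetherian S]
    (p₁ : X₁ ⟶ S) (p₂ : X₂ ⟶ S) [IsSeparated p₁] [QuasiCompact p₁] [LocallyOfFiniteType p₁]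
    [IsSeparated p₂] [QuasiCompact p₂] [LocallyOfFiniteType p₂]
    (j₁ : U ⟶ X₁) (j₂ : U ⟶ X₂) [IsOpenImmersion j₁] [IsOpenImmersion j₂]
    [IsSchemeTheoreticallyDominant j₁] [IsSchemeTheoreticallyDominant j₂] (hj : j₁ ≫ p₁ = j₂ ≫ p₂)
    (W₁ : X₁.Opens) [IsSchemeTheoreticallyDominant W₁.ι] (φ : (↑W₁ : Scheme.{u}) ⟶ X₂)
    (hφ : W₁.ι ≫ p₁ = φ ≫ p₂)
    (hφc : IsClosed (Set.range (fun w => (Limits.pullback.lift W₁.ι φ hφ) w)))
    (k₁ : U ⟶ ↑W₁) (hk₁ : k₁ ≫ W₁.ι = j₁) (hk₁' : k₁ ≫ φ = j₂)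
    (W₂ : X₂.Opens) [IsSchemeTheoreticallyDominant W₂.ι] (ψ : (↑W₂ : Scheme.{u}) ⟶ X₁)
    (hψ : W₂.ι ≫ p₂ = ψ ≫ p₁)
    (hψc : IsClosed (Set.range (fun w => (Limits.pullback.lift W₂.ι ψ hψ) w)))
    (k₂ : U ⟶ ↑W₂) (hk₂ : k₂ ≫ W₂.ι = j₂) (hk₂' : k₂ ≫ ψ = j₁) :
    ∃ (Y : Scheme.{u}) (q : Y ⟶ S) (i₁ : X₁ ⟶ Y) (i₂ : X₂ ⟶ Y), IsSeparated q ∧ QuasiCompact q ∧
      LocallyOfFiniteType q ∧ IsOpenImmersion i₁ ∧ IsOpenImmersion i₂ ∧ i₁ ≫ q = p₁ ∧ i₂ ≫ q = p₂ ∧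
      j₁ ≫ i₁ = j₂ ≫ i₂ ∧ QuasiCompact (j₁ ≫ i₁) ∧ IsSchemeTheoreticallyDominant (j₁ ≫ i₁) := by
  haveI : IsLocallyNoetherian X₁ := LocallyOfFiniteType.isLocallyNoetherian p₁
  haveI : IsLocallyNoetherian X₂ := LocallyOfFiniteType.isLocallyNoetherian p₂
  haveI : QuasiCompact j₁ := inferInstance
  haveI : QuasiCompact j₂ := inferInstance
  haveI := factor_dominant j₁ W₁ k₁ hk₁
  haveI := factor_dominant j₂ W₂ k₂ hk₂
  haveI := isClosedImmersion_graph p₁ p₂ W₁ φ hφ hφc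
  haveI := isClosedImmersion_graph p₂ p₁ W₂ ψ hψ hψc
  let Γ₁ := pullback.lift W₁.ι φ hφ
  let Γ₂ := pullback.lift W₂.ι ψ hψ ≫ (pullbackSymmetry p₂ p₁).hom
  haveI : IsClosedImmersion Γ₂ := inferInstance
  have hΓ₂₁ : Γ₂ ≫ pullback.fst p₁ p₂ = ψ := by simp [Γ₂]
  have hΓ₂₂ : Γ₂ ≫ pullback.snd p₁ p₂ = W₂.ι := by simp [Γ₂]
  have he : k₁ ≫ Γ₁ = k₂ ≫ Γ₂ := by
    apply pullback.hom_ext
    · rw [Category.assoc, Category.assoc, pullback.lift_fst, hΓ₂₁, hk₁, hk₂']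
    · rw [Category.assoc, Category.assoc, pullback.lift_snd, hΓ₂₂, hk₁', hk₂]
  have hker : Γ₂.ker = Γ₁.ker := by
    have h1 : (k₁ ≫ Γ₁).ker = Γ₁.ker := by
      rw [Scheme.Hom.ker_comp, k₁.ker_eq_bot, Scheme.IdealSheafData.map_bot]
    have h2 : (k₂ ≫ Γ₂).ker = Γ₂.ker := by
      rw [Scheme.Hom.ker_comp, k₂.ker_eq_bot, Scheme.IdealSheafData.map_bot]
    rw [← h1, ← h2, he]
  haveI := IsClosedImmersion.isIso_lift Γ₂ Γ₁ hker
  let θ := IsClosedImmersion.lift Γ₂ Γ₁ hker.le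
  have hθ : θ ≫ Γ₂ = Γ₁ := IsClosedImmersion.lift_fac _ _ _
  have hφθ : φ = θ ≫ W₂.ι := by
    rw [← hΓ₂₂, ← Category.assoc, hθ]; exact (pullback.lift_snd _ _ _).symm
  haveI : IsOpenImmersion φ := by rw [hφθ]; infer_instance
  haveI := FlatFun4.GlueSep.isOpenImmersion_inl W₁.ι φ
  haveI := FlatFun4.GlueSep.isOpenImmersion_inr W₁.ι φ
  let q := pushout.desc p₁ p₂ hφ
  haveI hsep : IsSeparated q := FlatFun4.GlueSep.isSeparated_desc W₁.ι φ p₁ p₂ hφ hφc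
  haveI hft : LocallyOfFiniteType q := FlatFun4.GlueSep.locallyOfFiniteType_desc W₁.ι φ p₁ p₂ hφ
  haveI : CompactSpace X₁ := QuasiCompact.compactSpace_of_compactSpace p₁
  haveI : CompactSpace X₂ := QuasiCompact.compactSpace_of_compactSpace p₂
  haveI : CompactSpace ↥(pushout W₁.ι φ) := FlatFun4.GlueSep.compactSpace_pushout W₁.ι φ
  haveI : IsLocallyNoetherian (pushout W₁.ι φ) := LocallyOfFiniteType.isLocallyNoetherian q
  have hjj : j₁ ≫ pushout.inl W₁.ι φ = j₂ ≫ pushout.inr W₁.ι φ := by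
    rw [← hk₁, Category.assoc, pushout.condition, ← Category.assoc, hk₁']
  haveI : IsNoetherian (pushout W₁.ι φ) := ⟨⟩
  refine ⟨pushout W₁.ι φ, q, pushout.inl _ _, pushout.inr _ _, hsep, ?_, hft, inferInstance, inferInstance,
    pushout.inl_desc _ _ _, pushout.inr_desc _ _ _, hjj, inferInstance,
    FlatFun4.GlueSep.isSchemeTheoreticallyDominant W₁.ι φ j₁ j₂ hjj⟩
  infer_instance

end Groth.Agent.S17890
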