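import Groth.Statements.S17891
import Groth.Agent.FlatFun4.YBlowUp
import Groth.Agent.Triage.SchDense
set_option linter.style.haveILetI false
set_option backward.isDefEq.respectTransparency false
set_option backward.isDefEq.respectTransparency.types false
-- import your own Groth.Agent.* helpers here

set_option autoImplicit false
universe u
open CategoryTheory AlgebraicGeometry
open FlatMor

namespace Groth.Agent.S17891

/-- Here f : Y → X is an affine morphism with X and Y quasi-compact and quasi-separated; a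
Y-modification of X is a factorization f = fᵢ ≫ gᵢ with fᵢ : Y → Xᵢ schematically dominant and gᵢ :
Xᵢ → X proper, and it is a Y-blow-up of X when Xᵢ carries a gᵢ-ample module L with a section ε : O →
L whose pullback along fᵢ is an isomorphism (a Y-trivialization). Given two Y-blow-ups (X₁, f₁, g₁),
(X₂, f₂, g₂) of X there is a Y-blow-up (X₃, f₃, g₃) of X together with morphisms dᵢ : X₃ → Xᵢ
satisfying f₃ ≫ dᵢ = fᵢ and dᵢ ≫ gᵢ = g₃. -/
theorem result {X Y : Scheme.{u}} (f : Y ⟶ X)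
    [CompactSpace X] [QuasiSeparatedSpace X] [CompactSpace Y] [QuasiSeparatedSpace Y] [IsAffineHom f]
    {X₁ X₂ : Scheme.{u}} (f₁ : Y ⟶ X₁) (g₁ : X₁ ⟶ X) (f₂ : Y ⟶ X₂) (g₂ : X₂ ⟶ X)
    (h₁ : IsSchemeTheoreticallyDominant f₁ ∧ IsProper g₁ ∧ f₁ ≫ g₁ = f ∧
        ∃ (L : X₁.Modules) (ε : Coh.structureModule X₁ ⟶ L),
          RelAmple.IsRelAmple g₁ L ∧ IsIso ((Scheme.Modules.pullback f₁).map ε))
    (h₂ : IsSchemeTheoreticallyDominant f₂ ∧ IsProper g₂ ∧ f₂ ≫ g₂ = f ∧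
        ∃ (L : X₂.Modules) (ε : Coh.structureModule X₂ ⟶ L),
          RelAmple.IsRelAmple g₂ L ∧ IsIso ((Scheme.Modules.pullback f₂).map ε)) :
    ∃ (X₃ : Scheme.{u}) (f₃ : Y ⟶ X₃) (g₃ : X₃ ⟶ X) (d₁ : X₃ ⟶ X₁) (d₂ : X₃ ⟶ X₂),
      (IsSchemeTheoreticallyDominant f₃ ∧ IsProper g₃ ∧ f₃ ≫ g₃ = f ∧
        ∃ (L : X₃.Modules) (ε : Coh.structureModule X₃ ⟶ L),
          RelAmple.IsRelAmple g₃ L ∧ IsIso ((Scheme.Modules.pullback f₃).map ε)) ∧
      f₃ ≫ d₁ = f₁ ∧ d₁ ≫ g₁ = g₃ ∧ f₃ ≫ d₂ = f₂ ∧ d₂ ≫ g₂ = g₃ := by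
  obtain ⟨-, hp₁, hf₁, L₁, ε₁, hL₁, hε₁⟩ := h₁
  obtain ⟨-, hp₂, hf₂, L₂, ε₂, hL₂, hε₂⟩ := h₂
  subst hf₁
  let φ : Y ⟶ Limits.pullback g₁ g₂ := Limits.pullback.lift f₁ f₂ hf₂.symm
  have hφ₁ : φ ≫ Limits.pullback.fst g₁ g₂ = f₁ := Limits.pullback.lift_fst _ _ _
  have hφ₂ : φ ≫ Limits.pullback.snd g₁ g₂ = f₂ := Limits.pullback.lift_snd _ _ _
  let P : Limits.pullback g₁ g₂ ⟶ X := Limits.pullback.snd g₁ g₂ ≫ g₂
  haveI : QuasiCompact φ := by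
    haveI : QuasiCompact (φ ≫ P) := by
      rw [← Category.assoc, hφ₂, hf₂]; infer_instance
    exact QuasiCompact.of_comp φ P
  have hP : FlatFun4.YBlowUp.HasTriv φ P :=
    FlatFun4.YBlowUp.hasTriv_comp (by rw [hφ₂]; exact ⟨L₂, ε₂, hL₂, hε₂⟩)
      (FlatFun4.YBlowUp.hasTriv_baseChange g₂ φ (by rw [hφ₁]; exact ⟨L₁, ε₁, hL₁, hε₁⟩))
  refine ⟨φ.image, φ.toImage, φ.imageι ≫ P, φ.imageι ≫ Limits.pullback.fst g₁ g₂,
    φ.imageι ≫ Limits.pullback.snd g₁ g₂,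
    ⟨Triage.SchDense.isSchemeTheoreticallyDominant_toImage φ, inferInstance, ?_, ?_⟩, ?_, ?_, ?_, ?_⟩
  · rw [Scheme.Hom.toImage_imageι_assoc, ← Category.assoc, hφ₂, hf₂]
  · exact FlatFun4.YBlowUp.hasTriv_of_embedding φ.imageι φ.imageι.isEmbedding φ.toImage
      (by rw [Scheme.Hom.toImage_imageι]; exact hP)
  · rw [Scheme.Hom.toImage_imageι_assoc, hφ₁]
  · rw [Category.assoc, Limits.pullback.condition]
  · rw [Scheme.Hom.toImage_imageι_assoc, hφ₂]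
  · rw [Category.assoc]

end Groth.Agent.S17891
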