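import Groth.Statements.S17902
import Mathlib
-- import your own Groth.Agent.* helpers here

set_option autoImplicit false
universe u
open CAlg

namespace Groth.Agent.S17902

/-- Let A be a commutative ring, M a finitely generated projective A-module, n a natural number and P a
finite set of prime ideals of A such that for every p in P there is g outside p with M_g free of
rank n over A_g. Then there exist n elements of M and an open subset U of Spec A containing P such
that for every prime q in U the images of these elements in M_q form a basis of M_q over A_q. (The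
published conclusion is that the associated sheaf is free of rank n on some open neighbourhood of P;
the form given here, with n global elements of M, is what its proof produces.) -/
theorem result (A : Type u) [CommRing A] (M : Type u) [AddCommGroup M] [Module A M]
    [Module.Finite A M] [Module.Projective A M] (n : ℕ) (P : Finset (PrimeSpectrum A))
    (hP : ∀ p ∈ P, ∃ g : A, g ∉ p.asIdeal ∧
      Nonempty (Module.Basis (Fin n) (Localization.Away g) (LocalizedModule (Submonoid.powers g) M))) :
    ∃ (s : Fin n → M) (U : Set (PrimeSpectrum A)), IsOpen U ∧ (∀ p ∈ P, p ∈ U) ∧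
      ∀ q ∈ U,
        LinearIndependent (Localization.AtPrime q.asIdeal)
            (fun j => LocalizedModule.mkLinearMap q.asIdeal.primeCompl M (s j)) ∧
          Submodule.span (Localization.AtPrime q.asIdeal)
            (Set.range fun j => LocalizedModule.mkLinearMap q.asIdeal.primeCompl M (s j)) = ⊤ := by
  classical
  let Mp := fun p : PrimeSpectrum A => LocalizedModule p.asIdeal.primeCompl M
  have hrank : ∀ p ∈ P, Module.rankAtStalk (R := A) M p = n := by
    intro p hp
    obtain ⟨g, hg, ⟨b⟩⟩ := hP p hp
    obtain ⟨p', hp'⟩ : p ∈ Set.range (PrimeSpectrum.comap (algebraMap A (Localization.Away g))) := by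
      rw [PrimeSpectrum.localization_away_comap_range (Localization.Away g) g]; exact hg
    haveI : Module.Free (Localization.Away g) (LocalizedModule (Submonoid.powers g) M) := Module.Free.of_basis b
    haveI : Nontrivial (Localization.Away g) := PrimeSpectrum.nontrivial p'
    have hbc : IsBaseChange (Localization.Away g) (LocalizedModule.mkLinearMap (Submonoid.powers g) M) :=
      IsLocalizedModule.isBaseChange (Submonoid.powers g) _ _
    have := Module.rankAtStalk_isBaseChange hbc p'
    rw [hp', Module.rankAtStalk_eq_finrank_of_free] at this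
    rw [← this, Pi.natCast_apply, Nat.cast_id, Module.finrank_eq_card_basis b, Fintype.card_fin]
  have hbasis : ∀ p ∈ P, ∃ b : Fin n → M, Submodule.span (Localization.AtPrime p.asIdeal)
      (Set.range fun j => LocalizedModule.mkLinearMap p.asIdeal.primeCompl M (b j)) = ⊤ := by
    intro p hp
    haveI : Module.Free (Localization.AtPrime p.asIdeal) (Mp p) :=
      Module.mem_freeLocus.1 (by rw [Module.freeLocus_eq_univ]; trivial)
    let bp := Module.finBasisOfFinrankEq (Localization.AtPrime p.asIdeal) (Mp p) (hrank p hp)
    choose x hx using fun j => IsLocalizedModule.surj p.asIdeal.primeCompl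
      (LocalizedModule.mkLinearMap p.asIdeal.primeCompl M) (bp j)
    refine ⟨fun j => (x j).1, top_le_iff.1 ?_⟩
    rw [← bp.span_eq, Submodule.span_le]
    rintro _ ⟨j, rfl⟩
    have hu : IsUnit (algebraMap A (Localization.AtPrime p.asIdeal) ((x j).2 : A)) :=
      IsLocalization.map_units (Localization.AtPrime p.asIdeal) (x j).2
    rw [SetLike.mem_coe, ← Submodule.smul_mem_iff_of_isUnit _ hu, algebraMap_smul]
    exact Submodule.subset_span ⟨j, (hx j).symm⟩
  choose! b hb using hbasis
  have hsep : ∀ p ∈ P, ∃ e : A, e ∉ p.asIdeal ∧ ∀ q ∈ P, ¬ q ≤ p → e ∈ q.asIdeal := by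
    intro p _
    have : ¬ (P.filter fun q => ¬ q ≤ p).inf (fun q => q.asIdeal) ≤ p.asIdeal := by
      rw [p.isPrime.inf_le']
      rintro ⟨q, hq, hle⟩
      exact (Finset.mem_filter.1 hq).2 hle
    obtain ⟨e, he, hep⟩ := Set.not_subset.1 this
    exact ⟨e, hep, fun q hq hqp => SetLike.le_def.1
      (Finset.inf_le (f := fun q => q.asIdeal) (Finset.mem_filter.2 ⟨hq, hqp⟩)) he⟩
  choose! e he he' using hsep
  let Pm := P.filter fun p => ∀ q ∈ P, p ≤ q → q ≤ p
  let s : Fin n → M := fun j => ∑ p ∈ Pm, e p • b p j
  let N := Submodule.span A (Set.range s)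
  let U : Set (PrimeSpectrum A) := (Module.support A (M ⧸ N))ᶜ ∩ {q | Module.rankAtStalk (R := A) M q = n}
  haveI : Module.FinitePresentation A M := Module.finitePresentation_of_projective A M
  have hspan : ∀ q ∈ U, Submodule.span (Localization.AtPrime q.asIdeal)
      (Set.range fun j => LocalizedModule.mkLinearMap q.asIdeal.primeCompl M (s j)) = ⊤ := by
    rintro q ⟨hq, -⟩
    refine eq_top_iff.2 fun z _ => ?_
    obtain ⟨⟨x, t⟩, hz⟩ := IsLocalizedModule.surj q.asIdeal.primeCompl
      (LocalizedModule.mkLinearMap q.asIdeal.primeCompl M) z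
    obtain ⟨r, hr, hrx⟩ := Module.notMem_support_iff'.1 hq (Submodule.Quotient.mk x)
    rw [← Submodule.Quotient.mk_smul, Submodule.Quotient.mk_eq_zero] at hrx
    have h1 := Submodule.mem_map_of_mem (f := LocalizedModule.mkLinearMap q.asIdeal.primeCompl M) hrx
    rw [Submodule.map_span, map_smul, ← hz, Submonoid.smul_def, smul_smul, ← Set.range_comp] at h1
    have h2 := Submodule.span_le_restrictScalars A (Localization.AtPrime q.asIdeal) _ h1
    rw [Submodule.restrictScalars_mem, ← algebraMap_smul (Localization.AtPrime q.asIdeal)] at h2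
    exact (Submodule.smul_mem_iff_of_isUnit _
      (IsLocalization.map_units (Localization.AtPrime q.asIdeal) (⟨r * t, mul_mem hr t.2⟩ : q.asIdeal.primeCompl))).1 h2
  refine ⟨s, U, ?_, ?_, fun q hq => ⟨?_, hspan q hq⟩⟩
  · refine IsOpen.inter ?_ (Module.isLocallyConstant_rankAtStalk.isOpen_fiber n)
    rw [isOpen_compl_iff, Module.support_eq_zeroLocus]
    exact PrimeSpectrum.isClosed_zeroLocus _
  · suffices h : ∀ p ∈ Pm, p ∈ U by
      intro p hp
      obtain ⟨q, hpq, hq⟩ := P.exists_le_maximal hp
      have hqU := h q (Finset.mem_filter.2 ⟨hq.1, fun r hr hqr => hq.2 hr hqr⟩)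
      exact ⟨fun hs => hqU.1 (Module.mem_support_mono hpq hs), hrank p hp⟩
    intro p hp
    obtain ⟨hpP, hpmax⟩ := Finset.mem_filter.1 hp
    refine ⟨Module.notMem_support_iff.2 ?_, hrank p hpP⟩
    set Ap := Localization.AtPrime p.asIdeal
    set f := LocalizedModule.mkLinearMap p.asIdeal.primeCompl M
    let S := Submodule.span Ap (Set.range fun j => f (s j))
    have hmem : ∀ a ∈ p.asIdeal, algebraMap A Ap a ∈ IsLocalRing.maximalIdeal Ap := fun a ha =>
      (IsLocalization.AtPrime.to_map_mem_maximal_iff Ap p.asIdeal a).2 ha
    have htop : (⊤ : Submodule Ap (Mp p)) ≤ S ⊔ IsLocalRing.maximalIdeal Ap • ⊤ := by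
      rw [← hb p hpP, Submodule.span_le]
      rintro _ ⟨j, rfl⟩
      have hu : IsUnit (algebraMap A Ap (e p)) :=
        IsLocalization.map_units Ap (⟨e p, he p hpP⟩ : p.asIdeal.primeCompl)
      rw [SetLike.mem_coe, ← Submodule.smul_mem_iff_of_isUnit _ hu, algebraMap_smul, ← map_smul]
      have hs : e p • b p j = s j - ∑ q ∈ Pm.erase p, e q • b q j := by
        simp only [s, ← Finset.sum_erase_add _ _ hp, add_sub_cancel_left]
      rw [hs, map_sub]
      refine sub_mem (Submodule.mem_sup_left (Submodule.subset_span ⟨j, rfl⟩))
        (Submodule.mem_sup_right ?_)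
      rw [map_sum]
      refine sum_mem fun q hq => ?_
      rw [map_smul, ← algebraMap_smul Ap (e q)]
      refine Submodule.smul_mem_smul (hmem _ ?_) ?_
      · obtain ⟨hne, hqm⟩ := Finset.mem_erase.1 hq
        obtain ⟨hqP, hqmax⟩ := Finset.mem_filter.1 hqm
        refine he' q hqP p hpP fun hle => hne ?_
        exact le_antisymm (hpmax q hqP hle) hle
      · rw [hb p hpP]; exact Submodule.mem_top
    haveI : Module.Finite Ap (Mp p) := Module.Finite.of_isLocalizedModule p.asIdeal.primeCompl f
    have hS : (⊤ : Submodule Ap (Mp p)) ≤ S :=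
      Submodule.le_of_le_smul_of_le_jacobson_bot Module.Finite.fg_top
        (IsLocalRing.maximalIdeal_le_jacobson _) htop
    refine subsingleton_of_forall_eq 0 fun z => ?_
    induction z using LocalizedModule.induction_on with | h x t => ?_
    obtain ⟨x, rfl⟩ := Submodule.mkQ_surjective N x
    have h1 : f x ∈ Submodule.span Ap (f '' (Set.range s)) := by
      rw [← Set.range_comp]; exact hS Submodule.mem_top
    rw [← Submodule.localized'_span Ap p.asIdeal.primeCompl f, Submodule.mem_localized'] at h1
    obtain ⟨m, hm, u, hu⟩ := h1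
    rw [← IsLocalizedModule.mk'_one p.asIdeal.primeCompl f x, IsLocalizedModule.mk'_eq_mk'_iff] at hu
    obtain ⟨c, hc⟩ := hu
    rw [← LocalizedModule.zero_mk t, LocalizedModule.mk_eq]
    refine ⟨c * u, ?_⟩
    have hcu : (c : A) • (u : A) • x ∈ N := by
      have := N.smul_mem (c : A) hm
      simp only [Submonoid.smul_def, OneMemClass.coe_one, one_smul] at hc
      first
        | rwa [hc] at this
        | rwa [← hc] at this
        | rwa [← hc]
        | rwa [hc]
    simp only [Submonoid.smul_def, smul_zero, smul_smul, Submonoid.coe_mul]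
    rw [← map_smul, Submodule.mkQ_apply, Submodule.Quotient.mk_eq_zero]
    have hre : ((c : A) * u * t) • x = (t : A) • (c : A) • (u : A) • x := by
      rw [smul_smul, smul_smul]; ring_nf
    rw [hre]; exact N.smul_mem _ hcu
  · haveI : Module.Free (Localization.AtPrime q.asIdeal) (Mp q) :=
      Module.mem_freeLocus.1 (by rw [Module.freeLocus_eq_univ]; trivial)
    let bq := Module.finBasisOfFinrankEq (Localization.AtPrime q.asIdeal) (Mp q) hq.2
    let φ := Fintype.linearCombination (Localization.AtPrime q.asIdeal)
      (fun j => LocalizedModule.mkLinearMap q.asIdeal.primeCompl M (s j))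
    have hsurj : Function.Surjective φ := by
      rw [← LinearMap.range_eq_top, Fintype.range_linearCombination]; exact hspan q hq
    have hinj : Function.Injective φ := by
      have h1 := OrzechProperty.injective_of_surjective_endomorphism (bq.equivFun.toLinearMap.comp φ)
        (bq.equivFun.surjective.comp hsurj)
      exact Function.Injective.of_comp (f := bq.equivFun) h1
    rw [Fintype.linearIndependent_iff]
    intro c hc i
    have : c = 0 := hinj (by rw [map_zero]; simpa [φ, Fintype.linearCombination_apply] using hc)
    simp [this]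

end Groth.Agent.S17902
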