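import Groth.Statements.S17988
import Mathlib
import Groth.Agent.CA2H40.GorDimOne
import Groth.Agent.EGA41Lib.IntDim
-- import your own Groth.Agent.* helpers here

set_option autoImplicit false
universe u
open CAlg

namespace Groth.Agent.S17988

/-- If a localization at elements acting injectively is semisimple, the module is torsionless. -/
lemma injective_eval_of_semisimple {S : Type u} [CommRing S] (T : Submonoid S) [IsSemisimpleRing (Localization T)]
    (hT : T ≤ nonZeroDivisors S) (M : Type u) [AddCommGroup M] [Module S M] [Module.Finite S M]
    (hM : ∀ t ∈ T, ∀ m : M, t • m = 0 → m = 0) : Function.Injective (Module.Dual.eval S M) := by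
  classical
  refine (injective_iff_map_eq_zero _).mpr fun m hm => ?_
  by_contra hne
  let L := Localization T
  let M' := LocalizedModule T M
  have hm' : LocalizedModule.mk m (1 : T) ≠ 0 := fun h => by
    rw [← LocalizedModule.zero_mk (1 : T), LocalizedModule.mk_eq] at h
    obtain ⟨c, hc⟩ := h
    simp only [one_smul, smul_zero, Submonoid.smul_def] at hc
    exact hne (hM c c.2 m hc)
  haveI : Module.Projective L M' := Module.projective_of_isSemisimpleRing L M'
  obtain ⟨φ, hφ⟩ : ∃ φ : M' →ₗ[L] L, φ (LocalizedModule.mk m 1) ≠ 0 := by
    by_contra hall
    push Not at hall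
    exact hm' ((Module.forall_dual_apply_eq_zero_iff L _).mp hall)
  obtain ⟨F, hF⟩ := (Module.finite_def.mp ‹_› : (⊤ : Submodule S M).FG)
  obtain ⟨b, hb⟩ := IsLocalization.exist_integer_multiples T F fun x => φ (LocalizedModule.mk x 1)
  let ψ : M →ₗ[S] L := (b : S) • (φ.restrictScalars S).comp (LocalizedModule.mkLinearMap T M)
  have hinj : Function.Injective (algebraMap S L) := IsLocalization.injective L hT
  have hrange : ∀ x, ψ x ∈ LinearMap.range (Algebra.linearMap S L) := fun x => by
    have hle : Submodule.span S (F : Set M) ≤ (LinearMap.range (Algebra.linearMap S L)).comap ψ :=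
      Submodule.span_le.mpr fun y hy => hb y hy
    exact hle (hF ▸ Submodule.mem_top)
  let f : M →ₗ[S] S := (LinearEquiv.ofInjective (Algebra.linearMap S L) hinj).symm.toLinearMap.comp
    (ψ.codRestrict _ hrange)
  have hf : algebraMap S L (f m) = ψ m :=
    congrArg Subtype.val ((LinearEquiv.ofInjective (Algebra.linearMap S L) hinj).apply_symm_apply (ψ.codRestrict _ hrange m))
  have h0 : f m = 0 := LinearMap.congr_fun hm f
  rw [h0, map_zero] at hf
  refine hφ ?_
  have h1 : algebraMap S L b * φ (LocalizedModule.mk m 1) = 0 := by
    rw [← Algebra.smul_def]; exact hf.symm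
  exact ((IsLocalization.map_units L b).mul_right_eq_zero).mp h1

/-- Let Λ be a principal ideal domain and S a commutative Λ-algebra which is finitely generated and free
as a Λ-module and reduced as a ring; let M be a finitely generated S-module. Then M is torsionless
(the canonical map M → M** to the double S-dual is injective) if and only if M is free as a
Λ-module. If in addition S is a Gorenstein ring (it has Krull dimension at most 1, being finite over
Λ), then M is reflexive (M → M** bijective) if and only if M is free as a Λ-module, so that for such
S torsionless and reflexive finitely generated modules coincide. The published statement is the case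
Λ = ℤ, resp. Λ = ℤ_ℓ for a prime ℓ, with S the minimal central order R_w of a finite set of Weil
q-numbers, resp. its ℓ-adic completion R_w ⊗ ℤ_ℓ, under the assumption that R_w is Gorenstein; the
argument given there uses only that S is finite free over Λ, reduced, and (for reflexivity)
Gorenstein of dimension one. -/
theorem result (Λ : Type u) [CommRing Λ] [IsDomain Λ] [IsPrincipalIdealRing Λ]
    (S : Type u) [CommRing S] [Algebra Λ S] [Module.Finite Λ S] [Module.Free Λ S] [IsReduced S]
    (M : Type u) [AddCommGroup M] [Module S M] [Module Λ M] [IsScalarTower Λ S M] [Module.Finite S M] :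
    (Function.Injective (Module.Dual.eval S M) ↔ Module.Free Λ M) ∧
      (LocCoh.IsGorensteinRing S → (Module.IsReflexive S M ↔ Module.Free Λ M)) := by
  classical
  haveI : Module.Finite Λ M := Module.Finite.trans S M
  haveI : IsNoetherianRing S := IsNoetherianRing.of_finite Λ S
  let K := FractionRing Λ
  let T : Submonoid S := Algebra.algebraMapSubmonoid S (nonZeroDivisors Λ)
  have hfree : Function.Injective (Module.Dual.eval S M) ↔ Module.Free Λ M := by
    refine ⟨fun h => ?_, fun h => ?_⟩
    · obtain ⟨n, ι, hι, -⟩ := CA2H40.GorDimOne.exists_embedding M h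
      haveI : Module.IsTorsionFree Λ (Fin n → S) := inferInstance
      haveI : Module.IsTorsionFree Λ M :=
        Function.Injective.moduleIsTorsionFree (ι.restrictScalars Λ) hι (fun r x => map_smul _ r x)
      exact Module.free_of_finite_type_torsion_free'
    · haveI := h
      haveI : IsArtinianRing (Localization T) := by
        letI : Algebra K (Localization T) := (IsLocalization.map (Localization T) (algebraMap Λ S)
          (show nonZeroDivisors Λ ≤ T.comap (algebraMap Λ S) from fun a ha => ⟨a, ha, rfl⟩) : K →+* Localization T).toAlgebra
        haveI : IsScalarTower Λ K (Localization T) := IsScalarTower.of_algebraMap_eq fun a => by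
          rw [RingHom.algebraMap_toAlgebra, IsLocalization.map_eq, ← IsScalarTower.algebraMap_apply]
        haveI : Module.Finite K (Localization T) := Module.Finite.of_isLocalization Λ S (nonZeroDivisors Λ)
        exact IsArtinianRing.of_finite K (Localization T)
      haveI : IsSemisimpleRing (Localization T) := IsArtinianRing.isSemisimpleRing_of_isReduced _
      refine injective_eval_of_semisimple T ?_ M ?_
      · rintro _ ⟨a, ha, rfl⟩
        refine mem_nonZeroDivisors_iff_right.mpr fun x hx => ?_
        have : a • x = 0 := by rw [Algebra.smul_def, mul_comm]; exact hx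
        exact (smul_eq_zero.mp this).resolve_left (nonZeroDivisors.ne_zero ha)
      · rintro _ ⟨a, ha, rfl⟩ m hm
        rw [algebraMap_smul] at hm
        exact (smul_eq_zero.mp hm).resolve_left (nonZeroDivisors.ne_zero ha)
  refine ⟨hfree, fun hG => ?_⟩
  haveI := hG
  refine ⟨fun h => hfree.mp h.bijective_dual_eval'.injective, fun h => ⟨?_⟩⟩
  have hdim : ringKrullDim S ≤ 1 := by
    have h1 : ringKrullDim Λ ≤ 1 := Ring.krullDimLE_iff.mp inferInstance
    refine le_trans ?_ h1
    exact EGA41Lib.ringKrullDim_le_of_integral
  exact CA2H40.GorDimOne.bijective_eval_of_injective hdim M (hfree.mpr h)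

end Groth.Agent.S17988
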