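import Groth.Statements.S17990
import Mathlib
import Groth.Agent.CA2H40.GorDimOne
import Groth.Agent.LC.GorRing
-- import your own Groth.Agent.* helpers here

set_option autoImplicit false
universe u
open CAlg

namespace Groth.Agent.S17990

/-- Over a local ring a module with only scalar endomorphisms and enough functionals is free of rank one. -/
lemma nonempty_equiv_of_end {R : Type u} [CommRing R] [IsLocalRing R] [IsNoetherianRing R]
    (N : Type u) [AddCommGroup N] [Module R N] [Module.Finite R N]
    (hrefl : Function.Bijective (Module.Dual.eval R N)) (hend : Function.Bijective (algebraMap R (Module.End R N)))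
    (hns : IsLocalRing.maximalIdeal R ≠ ⊥ → ∃ φ : (IsLocalRing.maximalIdeal R : Ideal R) →ₗ[R] R,
      ∀ r : R, ∃ a, φ a ≠ r * (a : R)) :
    Nonempty (N ≃ₗ[R] R) := by
  classical
  set m := IsLocalRing.maximalIdeal R with hm
  by_cases hsurj : ∃ f : N →ₗ[R] R, ∃ x, IsUnit (f x)
  · obtain ⟨f, x, hx⟩ := hsurj
    obtain ⟨c, hc⟩ := hx.exists_left_inv
    have hfx : f (c • x) = 1 := by rw [map_smul, smul_eq_mul, hc]
    obtain ⟨r, hr⟩ := hend.2 (f.smulRight (c • x))
    have hr' : ∀ z, r • z = f z • (c • x) := fun z => LinearMap.congr_fun hr z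
    rcases IsLocalRing.isUnit_or_isUnit_one_sub_self r with hu | hu
    · have hr1 : r = 1 := by
        have h2 := congrArg f (hr' (c • x))
        rw [map_smul f r, hfx, one_smul, hfx, smul_eq_mul, mul_one] at h2
        exact h2
      refine ⟨LinearEquiv.ofBijective f ⟨(injective_iff_map_eq_zero f).mpr fun z hz => ?_, fun a => ⟨a • (c • x), ?_⟩⟩⟩
      · rw [← one_smul R z, ← hr1, hr', hz, zero_smul]
      · rw [map_smul, hfx, smul_eq_mul, mul_one]
    · have h2 := hr' (c • x)
      rw [hfx, one_smul] at h2
      have h3 : (1 - r) • (c • x) = 0 := by rw [sub_smul, one_smul, h2, sub_self]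
      rw [hu.smul_eq_zero] at h3
      rw [h3, map_zero] at hfx
      exact absurd hfx zero_ne_one
  exfalso
  push Not at hsurj
  have hfm : ∀ (f : N →ₗ[R] R) x, f x ∈ m := fun f x => (IsLocalRing.mem_maximalIdeal _).mpr (hsurj f x)
  have hann : ∀ c : R, (∀ (f : N →ₗ[R] R) x, c * f x = 0) → c = 0 := fun c hc => by
    refine hend.1 (LinearMap.ext fun x => hrefl.1 (LinearMap.ext fun f => ?_))
    simp [hc f x]
  by_cases hbot : m = ⊥
  · exact one_ne_zero (hann 1 fun f x => by rw [one_mul]; exact (Submodule.mem_bot R).mp (hbot ▸ hfm f x))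
  have hscal : ∀ φ : (m : Ideal R) →ₗ[R] R, (∀ a, φ a ∈ m) → ∃ r : R, ∀ a, φ a = r * (a : R) := by
    intro φ _
    let T : Module.Dual R N →ₗ[R] Module.Dual R N :=
      { toFun := fun f => φ.comp (f.codRestrict m (hfm f))
        map_add' := fun f g => LinearMap.ext fun x => by
          show φ ⟨(f + g) x, _⟩ = φ ⟨f x, _⟩ + φ ⟨g x, _⟩
          rw [← map_add]; rfl
        map_smul' := fun a f => LinearMap.ext fun x => by
          show φ ⟨(a • f) x, _⟩ = a • φ ⟨f x, _⟩
          rw [← map_smul]; rfl }
    let E := LinearEquiv.ofBijective (Module.Dual.eval R N) hrefl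
    obtain ⟨r, hr⟩ := hend.2 (E.symm.toLinearMap ∘ₗ T.dualMap ∘ₗ E.toLinearMap)
    refine ⟨r, fun a => ?_⟩
    have hkey : ∀ (f : N →ₗ[R] R) x, φ ⟨f x, hfm f x⟩ = r * f x := fun f x => by
      have h1 : E (r • x) = T.dualMap (E x) := by
        have := congrArg E (LinearMap.congr_fun hr x)
        simpa using this
      have h2 := LinearMap.congr_fun h1 f
      rw [← smul_eq_mul, ← map_smul]
      exact h2.symm
    rw [← sub_eq_zero]
    refine hann _ fun f x => ?_
    have h1 : φ a * f x = (a : R) * φ ⟨f x, hfm f x⟩ := by
      rw [mul_comm, ← smul_eq_mul, ← smul_eq_mul, ← map_smul, ← map_smul]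
      exact congrArg φ (Subtype.ext (mul_comm _ _))
    rw [sub_mul, h1, hkey]
    ring
  obtain ⟨φ, hφ⟩ := hns hbot
  obtain ⟨b', hb'⟩ : ∃ a, IsUnit (φ a) := by
    by_contra hall
    push Not at hall
    obtain ⟨r, hr⟩ := hscal φ fun a => (IsLocalRing.mem_maximalIdeal _).mpr (hall a)
    obtain ⟨a, ha⟩ := hφ r
    exact ha (hr a)
  obtain ⟨c, hc⟩ := hb'.exists_left_inv
  let b : m := c • b'
  have hb : φ b = 1 := by rw [map_smul, smul_eq_mul, hc]
  have hgen : ∀ a : m, φ a * (b : R) = (a : R) := fun a => by
    calc φ a * (b : R) = φ ((b : R) • a) := by rw [map_smul, smul_eq_mul, mul_comm]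
      _ = φ ((a : R) • b) := congrArg φ (Subtype.ext (mul_comm (b : R) (a : R)))
      _ = (a : R) := by rw [map_smul, hb, smul_eq_mul, mul_one]
  have htop : (⊤ : Submodule R (Module.Dual R N)) ≤ m • ⊤ := fun f _ => by
    let g : Module.Dual R N := φ.comp (f.codRestrict m (hfm f))
    have : f = (b : R) • g := LinearMap.ext fun x => by
      rw [LinearMap.smul_apply, smul_eq_mul, mul_comm]
      exact (hgen ⟨f x, hfm f x⟩).symm
    rw [this]
    exact Submodule.smul_mem_smul b.2 Submodule.mem_top
  have h0 : (⊤ : Submodule R (Module.Dual R N)) = ⊥ :=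
    Submodule.eq_bot_of_le_smul_of_le_jacobson_bot m ⊤ Module.Finite.fg_top htop (IsLocalRing.maximalIdeal_le_jacobson _)
  refine one_ne_zero (hann 1 fun f x => ?_)
  have hf0 : f = 0 := (Submodule.mem_bot R).mp (h0 ▸ Submodule.mem_top)
  simp [hf0]

/-- Let S be a reduced Gorenstein ring (Noetherian, all localizations at primes of finite injective
dimension over themselves) whose Krull dimension is ≤ 1; let M be a finitely generated S-module
which is reflexive (M → M** bijective). Then M is locally free of rank 1, i.e. the localization M_P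
is isomorphic to S_P as an S_P-module for every prime ideal P of S, if and only if the natural ring
map S → End_S(M), sending s to multiplication by s, is bijective. -/
theorem result (S : Type u) [CommRing S]
    [IsReduced S] [LocCoh.IsGorensteinRing S] (hdim : ringKrullDim S ≤ 1)
    (M : Type u) [AddCommGroup M] [Module S M] [Module.Finite S M] [Module.IsReflexive S M] :
    (∀ (P : Ideal S) (_ : P.IsPrime),
        Nonempty (LocalizedModule P.primeCompl M ≃ₗ[Localization.AtPrime P] Localization.AtPrime P)) ↔
      Function.Bijective (algebraMap S (Module.End S M)) := by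
  classical
  haveI : Module.FinitePresentation S M := Module.finitePresentation_of_finite S M
  constructor
  · intro hP
    refine ⟨(injective_iff_map_eq_zero _).mpr fun r hr => ?_, fun g => ?_⟩
    · by_contra hne
      have hI : (⊥ : Ideal S).colon {r} ≠ ⊤ := fun h => hne (by
        simpa [Submodule.mem_colon] using (show (1 : S) ∈ (⊥ : Ideal S).colon {r} from h ▸ Submodule.mem_top))
      obtain ⟨P, hPm, hle⟩ := Ideal.exists_le_maximal _ hI
      haveI := hPm.isPrime
      obtain ⟨e⟩ := hP P inferInstance
      obtain ⟨x, hx⟩ := e.surjective 1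
      induction x using LocalizedModule.induction_on with
      | _ y s =>
        have h1 : e (r • LocalizedModule.mk y s) = algebraMap S (Localization.AtPrime P) r := by
          rw [← algebraMap_smul (Localization.AtPrime P) r (LocalizedModule.mk y s), map_smul e, hx, smul_eq_mul, mul_one]
        have h0 : r • y = 0 := LinearMap.congr_fun hr y
        rw [LocalizedModule.smul'_mk, h0, LocalizedModule.zero_mk, map_zero, eq_comm,
          IsLocalization.map_eq_zero_iff P.primeCompl] at h1
        obtain ⟨c, hc⟩ := h1
        exact c.2 (hle (by simpa [Submodule.mem_colon] using hc))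
    · let I : Ideal S := Submodule.comap (LinearMap.toSpanSingleton S (Module.End S M) g)
        (LinearMap.range (Algebra.linearMap S (Module.End S M)))
      suffices hI : (1 : S) ∈ I by
        obtain ⟨r, hr⟩ := hI
        exact ⟨r, hr.trans (one_smul S g)⟩
      by_contra h1
      obtain ⟨P, hPm, hle⟩ := Ideal.exists_le_maximal I fun h => h1 (h ▸ Submodule.mem_top)
      haveI := hPm.isPrime
      obtain ⟨e⟩ := hP P inferInstance
      let gP : LocalizedModule P.primeCompl M →ₗ[Localization.AtPrime P] LocalizedModule P.primeCompl M :=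
        (IsLocalizedModule.map P.primeCompl (LocalizedModule.mkLinearMap P.primeCompl M)
          (LocalizedModule.mkLinearMap P.primeCompl M) g).extendScalarsOfIsLocalization P.primeCompl (Localization.AtPrime P)
      have hgP : ∀ z, gP z = (e (gP (e.symm 1))) • z := fun z => by
        apply e.injective
        rw [map_smul, ← show (e z) • e.symm 1 = z from e.injective (by rw [map_smul, e.apply_symm_apply, smul_eq_mul, mul_one])]
        simp only [map_smul, e.apply_symm_apply, smul_eq_mul]
        ring
      obtain ⟨⟨r, s⟩, hrs⟩ := IsLocalization.surj P.primeCompl (e (gP (e.symm 1)))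
      have hy : ∀ y : M, ∃ t : P.primeCompl, (t : S) • ((s : S) • g y - r • y) = 0 := fun y => by
        have h2 := hgP (LocalizedModule.mk y 1)
        have h3 : (s : S) • gP (LocalizedModule.mk y 1) = r • LocalizedModule.mk y 1 := by
          rw [h2, ← algebraMap_smul (Localization.AtPrime P) (s : S), smul_smul, mul_comm, hrs, algebraMap_smul]
        rw [show gP (LocalizedModule.mk y 1) = LocalizedModule.mk (g y) 1 from IsLocalizedModule.map_LocalizedModules _ g y 1,
          LocalizedModule.smul'_mk, LocalizedModule.smul'_mk, LocalizedModule.mk_eq] at h3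
        obtain ⟨t, ht⟩ := h3
        refine ⟨t, ?_⟩
        simp only [one_smul, Submonoid.smul_def] at ht
        rw [smul_sub, ht, sub_self]
      obtain ⟨F, hF⟩ := (Module.finite_def.mp ‹_› : (⊤ : Submodule S M).FG)
      choose t ht using hy
      let T : S := ∏ y ∈ F, (t y : S)
      have hT : T ∈ P.primeCompl := prod_mem fun y _ => (t y).2
      refine (mul_mem hT s.2 : T * (s : S) ∈ P.primeCompl) (hle ⟨T * r, LinearMap.ext_on hF fun y hy => ?_⟩)
      have h4 : T • ((s : S) • g y - r • y) = 0 := by
        obtain ⟨d, hd⟩ := Finset.dvd_prod_of_mem (fun y => (t y : S)) hy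
        show (∏ y ∈ F, (t y : S)) • _ = 0
        rw [hd, mul_comm, mul_smul, ht, smul_zero]
      rw [smul_sub, sub_eq_zero, smul_smul, smul_smul] at h4
      exact h4.symm
  · intro hbij P hPp
    haveI := hPp
    let R := Localization.AtPrime P
    let N := LocalizedModule P.primeCompl M
    haveI : IsNoetherianRing R := IsLocalization.isNoetherianRing P.primeCompl _ inferInstance
    haveI := LocCoh.IsGorensteinRing.isGorensteinLocalRing_localization (A := S) P
    haveI : LocCoh.IsGorensteinRing R := LC.gorensteinRing_of_local R
    haveI : Module.Finite R N :=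
      Module.Finite.of_isLocalizedModule P.primeCompl (Rₚ := R) (LocalizedModule.mkLinearMap P.primeCompl M)
    have hdimR : ringKrullDim R ≤ 1 := by
      rw [IsLocalization.AtPrime.ringKrullDim_eq_height P R]
      exact (Ideal.height_le_ringKrullDim_of_ne_top hPp.ne_top).trans hdim
    obtain ⟨n, ι, hι, -⟩ := CA2H40.GorDimOne.exists_embedding M
      (Module.IsReflexive.bijective_dual_eval' (R := S) (M := M)).injective
    have hinj : Function.Injective (Module.Dual.eval R N) := (injective_iff_map_eq_zero _).mpr fun x hx => by
      induction x using LocalizedModule.induction_on with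
      | _ y s =>
        have hi : ∀ i, ∃ c : P.primeCompl, (c : S) * ι y i = 0 := fun i => by
          let φ : N →ₗ[R] R := (LC.selfLoc P.primeCompl).toLinearMap ∘ₗ
            (IsLocalizedModule.map P.primeCompl (LocalizedModule.mkLinearMap P.primeCompl M)
              (LocalizedModule.mkLinearMap P.primeCompl S) ((LinearMap.proj i).comp ι)).extendScalarsOfIsLocalization P.primeCompl R
          have h1 : φ (LocalizedModule.mk y s) = 0 := LinearMap.congr_fun hx φ
          rw [LinearMap.comp_apply, LinearEquiv.coe_coe, LinearEquiv.map_eq_zero_iff,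
            show (IsLocalizedModule.map P.primeCompl (LocalizedModule.mkLinearMap P.primeCompl M)
              (LocalizedModule.mkLinearMap P.primeCompl S) ((LinearMap.proj i).comp ι)).extendScalarsOfIsLocalization P.primeCompl R
                (LocalizedModule.mk y s) = LocalizedModule.mk (ι y i) s from IsLocalizedModule.map_LocalizedModules _ _ y s,
            ← LocalizedModule.zero_mk s, LocalizedModule.mk_eq] at h1
          obtain ⟨c, hc⟩ := h1
          refine ⟨c * s, ?_⟩
          simp only [smul_zero, Submonoid.smul_def, smul_eq_mul] at hc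
          rw [Submonoid.coe_mul, mul_assoc, hc]
        choose c hc using hi
        rw [← LocalizedModule.zero_mk s, LocalizedModule.mk_eq]
        refine ⟨∏ i, c i, ?_⟩
        have h2 : ((∏ i, c i : P.primeCompl) : S) • y = 0 := hι (by
          rw [map_smul, map_zero]
          funext i
          rw [Pi.smul_apply, Submonoid.coe_finsetProd, smul_eq_mul]
          obtain ⟨d, hd⟩ := Finset.dvd_prod_of_mem (fun i => (c i : S)) (Finset.mem_univ i)
          rw [hd, mul_right_comm, hc, zero_mul]
          rfl)
        simp only [smul_zero, Submonoid.smul_def, smul_smul]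
        rw [mul_comm, mul_smul, h2, smul_zero]
    have hend : Function.Bijective (algebraMap R (Module.End R N)) := by
      constructor
      · refine (injective_iff_map_eq_zero _).mpr fun a ha => ?_
        obtain ⟨⟨r, s⟩, rfl⟩ := IsLocalization.mk'_surjective P.primeCompl a
        have hy : ∀ y : M, ∃ t : P.primeCompl, ((t : S) * r) • y = 0 := fun y => by
          have h1 : IsLocalization.mk' R r s • (LocalizedModule.mk y (1 : P.primeCompl) : N) = 0 := LinearMap.congr_fun ha _
          rw [← Localization.mk_eq_mk', LocalizedModule.mk_smul_mk, ← LocalizedModule.zero_mk (s * 1),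
            LocalizedModule.mk_eq] at h1
          obtain ⟨t, ht⟩ := h1
          refine ⟨t * (s * 1), ?_⟩
          simp only [smul_zero, Submonoid.smul_def, smul_smul] at ht
          rw [Submonoid.coe_mul, mul_assoc]; exact ht
        obtain ⟨F, hF⟩ := (Module.finite_def.mp ‹_› : (⊤ : Submodule S M).FG)
        choose t ht using hy
        rw [IsLocalization.mk'_eq_zero_iff]
        refine ⟨∏ y ∈ F, t y, hbij.1 ?_⟩
        rw [map_zero]
        refine LinearMap.ext_on hF fun y hy => ?_
        show (((∏ y ∈ F, t y : P.primeCompl) : S) * r) • y = 0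
        obtain ⟨d, hd⟩ := Finset.dvd_prod_of_mem (fun y => (t y : S)) hy
        rw [Submonoid.coe_finsetProd, hd, mul_right_comm, mul_comm, mul_smul, ht, smul_zero]
      · intro g
        obtain ⟨h, s, hs⟩ := Module.FinitePresentation.exists_lift_of_isLocalizedModule P.primeCompl
          (LocalizedModule.mkLinearMap P.primeCompl M) ((g.restrictScalars S).comp (LocalizedModule.mkLinearMap P.primeCompl M))
        obtain ⟨r, rfl⟩ := hbij.2 h
        refine ⟨IsLocalization.mk' R r s, ?_⟩
        apply LinearMap.restrictScalars_injective S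
        refine IsLocalizedModule.linearMap_ext P.primeCompl (LocalizedModule.mkLinearMap P.primeCompl M)
          (LocalizedModule.mkLinearMap P.primeCompl M) (LinearMap.ext fun y => ?_)
        show IsLocalization.mk' R r s • LocalizedModule.mk y 1 = g (LocalizedModule.mk y 1)
        have h1 : LocalizedModule.mk (r • y) 1 = (s : S) • g (LocalizedModule.mk y 1) := LinearMap.congr_fun hs y
        apply (IsLocalizedModule.smul_injective (LocalizedModule.mkLinearMap P.primeCompl M) s)
        show (s : S) • _ = (s : S) • g (LocalizedModule.mk y 1)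
        rw [← h1, ← algebraMap_smul R (s : S), smul_smul, IsLocalization.mk'_spec', algebraMap_smul, LocalizedModule.smul'_mk]
    refine nonempty_equiv_of_end N (CA2H40.GorDimOne.bijective_eval_of_injective hdimR N hinj) hend fun hne => ?_
    by_contra hall
    push Not at hall
    have hmin : IsLocalRing.maximalIdeal R ∉ minimalPrimes R := fun hmin => hne (by
      rw [eq_bot_iff]
      intro a ha
      have hn : a ∈ nilradical R := by
        rw [nilradical_eq_sInf]
        refine Ideal.mem_sInf.mpr fun {Q} hQ => ?_
        haveI : Q.IsPrime := hQ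
        exact hmin.2 ⟨hQ, bot_le⟩ (IsLocalRing.le_maximalIdeal hQ.ne_top) ha
      rwa [nilradical_eq_zero, Ideal.zero_eq_bot] at hn)
    have hext := CA2H40.GorDimOne.ext_one_vanish_of_extends (IsLocalRing.maximalIdeal R).subtype Subtype.val_injective
      fun φ => by
        obtain ⟨r, hr⟩ := hall φ
        exact ⟨LinearMap.mulLeft R r, LinearMap.ext fun a => (hr a).symm⟩
    refine CA2H40.GorDimOne.ext_one_ne hdimR _ hmin ?_
    exact LC.ext_vanish_of_linearEquiv (Submodule.quotEquivOfEq _ _ (Submodule.range_subtype _)) _ 1 hext

end Groth.Agent.S17990
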