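import Groth.Statements.S18019
import Mathlib.Algebra.Polynomial.Div
import Mathlib.Algebra.Polynomial.RingDivision
import Mathlib.Algebra.CharP.Two
import Mathlib.Algebra.Polynomial.Monic
-- import your own Groth.Agent.* helpers here

set_option autoImplicit false
universe u
open ClassStk

namespace Groth.Agent.S18019

open Polynomial in
/-- Let R be an integral domain of characteristic 2 and let a be a nonzero element of R, so that x ↦ x +
a defines an R-algebra involution of the polynomial ring R[x] (an action of the group of order two).
A polynomial f is invariant, f(x + a) = f(x), if and only if f belongs to the R-subalgebra generated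
by u = x (x + a); in other words the ring of invariants is the polynomial ring R[u]. -/
theorem result (R : Type u) [CommRing R] [IsDomain R]
    [CharP R 2] (a : R) (ha : a ≠ 0) (f : Polynomial R) :
    f.comp (X + C a) = f ↔ f ∈ Algebra.adjoin R ({X * (X + C a)} : Set (Polynomial R)) := by
  classical
  have ha' : C a + C a = (0 : Polynomial R) := CharTwo.add_self_eq_zero (C a)
  have hu : (X * (X + C a) : Polynomial R).comp (X + C a) = X * (X + C a) := by
    simp only [mul_comp, X_comp, add_comp, C_comp]
    rw [add_assoc, ha', add_zero, mul_comm]
  have hm : (X * (X + C a) : Polynomial R).Monic := Monic.mul monic_X (monic_X_add_C a)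
  constructor
  · intro hf
    induction h : f.natDegree using Nat.strong_induction_on generalizing f with
    | _ n ih =>
      have hn : (X * (X + C a) : Polynomial R).natDegree = 2 := by
        rw [Monic.natDegree_mul monic_X (monic_X_add_C a), natDegree_X, natDegree_X_add_C]
      have hdec := Polynomial.modByMonic_add_div f (X * (X + C a))
      set u : Polynomial R := X * (X + C a) with hud
      set q := f /ₘ u
      set r := f %ₘ u
      have hr : r.natDegree < 2 := hn ▸ natDegree_modByMonic_lt f hm (by
        intro hc
        rw [hc] at hn
        simp at hn)
      obtain ⟨c₁, c₀, hrc⟩ := exists_eq_X_add_C_of_natDegree_le_one (p := r) (by omega)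
      have hr' : (r.comp (X + C a)).degree < u.degree := by
        rw [degree_eq_natDegree hm.ne_zero, hn]
        by_cases h0 : r.comp (X + C a) = 0
        · rw [h0, degree_zero]; exact WithBot.bot_lt_coe _
        · rw [degree_eq_natDegree h0, natDegree_comp, natDegree_X_add_C, mul_one]
          exact_mod_cast hr
      have hfc : r.comp (X + C a) + u * q.comp (X + C a) = f := by
        conv_rhs => rw [← hf, ← hdec, add_comp, mul_comp, hu]
      obtain ⟨hq, hr2⟩ := div_modByMonic_unique (q.comp (X + C a)) (r.comp (X + C a)) hm ⟨hfc, hr'⟩
      have hc : c₁ = 0 := by
        have : r.comp (X + C a) = r := hr2.symm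
        rw [hrc] at this
        have h1 := congrArg (coeff · 0) this
        simp at h1
        exact (mul_eq_zero.mp (by simpa using h1)).resolve_right ha
      have hrA : r ∈ Algebra.adjoin R ({u} : Set (Polynomial R)) := by
        rw [hrc, hc, C_0, zero_mul, zero_add]
        exact (Algebra.adjoin R ({u} : Set (Polynomial R))).algebraMap_mem c₀
      rw [← hdec]
      refine add_mem hrA (mul_mem (Algebra.subset_adjoin rfl) ?_)
      by_cases hq0 : q = 0
      · rw [hq0]; exact zero_mem _
      refine ih q.natDegree ?_ q hq.symm rfl
      have hfne : ¬ f.natDegree < 2 := fun hlt => hq0 ((divByMonic_eq_zero_iff hm).2 (by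
        rw [degree_eq_natDegree hm.ne_zero, hn]
        exact (degree_le_natDegree).trans_lt (by exact_mod_cast hlt)))
      have hqd : q.natDegree = f.natDegree - u.natDegree := natDegree_divByMonic f hm
      omega
  · intro hf
    induction hf using Algebra.adjoin_induction with
    | mem x hx => rw [Set.mem_singleton_iff.mp hx]; exact hu
    | algebraMap r => exact C_comp
    | add x y _ _ hx hy => rw [add_comp, hx, hy]
    | mul x y _ _ hx hy => rw [mul_comp, hx, hy]

end Groth.Agent.S18019
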