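import Groth.Statements.S18067
import Groth.Agent.AlgGrp25.AntiPow
import Groth.Agent.EtFound.Descent
import Groth.Agent.H23.MulEtale
-- import your own Groth.Agent.* helpers here

set_option autoImplicit false
universe u
open CategoryTheory MonoidalCategory CartesianMonoidalCategory MonObj GrpObj AlgebraicGeometry CategoryTheory.Limits
open AlgGrp

set_option linter.style.haveILetI false
set_option backward.isDefEq.respectTransparency false
set_option backward.isDefEq.respectTransparency.types false

namespace Groth.Agent.S18067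

theorem isCommMonObj {k : Type u} [Field k] {G : Over (Spec (CommRingCat.of k))} [GrpObj G] [LocallyOfFiniteType G.hom]
    [QuasiCompact G.hom] (hG : Function.Bijective G.hom.appTop) : IsCommMonObj G := by
  haveI := GrpSchLib.AntiAffine.connectedSpace_of_bijective hG
  refine ⟨?_⟩
  have h := GrpSchLib.AntiAffine.commute hG (𝟙 G) (by rw [Category.comp_id, MonObj.one_eq_one]) (snd G G) (fst G G)
  rw [Category.comp_id, Hom.mul_def, Hom.mul_def, lift_fst_snd, Category.id_comp] at h
  rw [← h]
  congr 1

theorem nat_case {k : Type u} [Field k] {G : Over (Spec (CommRingCat.of k))} [GrpObj G] [Smooth G.hom]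
    [QuasiCompact G.hom] (hG : Function.Bijective G.hom.appTop) (m : ℕ) (hm : 1 ≤ m) :
    Surjective (𝟙 G ^ m : G ⟶ G).left ∧ IsFinite (𝟙 G ^ m : G ⟶ G).left := by
  haveI := isCommMonObj hG
  let σ := Spec.map (CommRingCat.ofHom (algebraMap k (AlgebraicClosure k)))
  obtain ⟨h1, h2, h3⟩ := GrpSchLib.AntiAffine.bc_hyp hG σ
  let G' := (Over.pullback σ).obj G
  letI : GrpObj G' := Functor.grpObjObj
  haveI : Smooth G'.hom := inferInstanceAs (Smooth (pullback.snd G.hom σ))
  haveI : QuasiCompact G'.hom := h2
  haveI : IsCommMonObj G' := isCommMonObj h3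
  haveI := AlgGrp25.AntiPow.surjective_pow (G := G') h3 m hm
  haveI := AlgGrp25.AntiPow.isMonHom_pow (G := G') m
  haveI := AlgGrp25.AntiPow.isFinite_of_surjective (𝟙 G' ^ m)
  have sq := (H23.MulEtale.isPullback_map σ (𝟙 G ^ m)).flip
  have hmap : ((Over.pullback σ).map (𝟙 G ^ m)).left = (𝟙 G' ^ m : G' ⟶ G').left :=
    congrArg CommaMorphism.left (H23.MulEtale.map_pow σ m)
  rw [hmap] at sq
  haveI : Flat σ := GrpSchLib.flat_spec_map_field _
  have hQ : (@Surjective ⊓ @Flat ⊓ @QuasiCompact : MorphismProperty Scheme.{u}) (pullback.fst G.hom σ) :=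
    ⟨⟨MorphismProperty.pullback_fst (P := @Surjective) _ _ inferInstance,
      MorphismProperty.pullback_fst (P := @Flat) _ _ inferInstance⟩,
      MorphismProperty.pullback_fst (P := @QuasiCompact) _ _ inferInstance⟩
  haveI := EtFound.fpqc_isFinite.{u}
  exact ⟨MorphismProperty.of_isPullback_of_descendsAlong (P := @Surjective)
      (Q := @Surjective ⊓ @Flat ⊓ @QuasiCompact) sq hQ inferInstance,
    MorphismProperty.of_isPullback_of_descendsAlong (P := @IsFinite)
      (Q := @Surjective ⊓ @Flat ⊓ @QuasiCompact) sq hQ inferInstance⟩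

/-- Let k be a field and G an anti-affine algebraic group over k, i.e. a smooth k-group scheme of finite
type with O(G) = k (hence connected and commutative). Then for every non-zero integer n the n-th
power map G → G, x ↦ x^n, is an isogeny: surjective and finite. -/
theorem result (k : Type u) [Field k]
    (G : Over (Spec (CommRingCat.of k))) [GrpObj G] [Smooth G.hom] [QuasiCompact G.hom]
    (hG : Function.Bijective ((Scheme.ΓSpecIso (CommRingCat.of k)).inv ≫ G.hom.appTop).hom) (n : ℤ) (hn : n ≠ 0) :
    Surjective ((𝟙 G) ^ n).left ∧ IsFinite ((𝟙 G) ^ n).left := by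
  rw [GrpSchLib.AntiAffine.bijective_appTop_iff] at hG
  rcases Int.natAbs_eq n with h | h
  · rw [h, zpow_natCast]
    exact nat_case hG _ (Int.natAbs_pos.mpr hn)
  · rw [h, zpow_neg, zpow_natCast]
    obtain ⟨h1, h2⟩ := nat_case hG n.natAbs (Int.natAbs_pos.mpr hn)
    rw [show ((𝟙 G) ^ n.natAbs)⁻¹ = ((𝟙 G) ^ n.natAbs) ≫ ι[G] from Hom.inv_def _, Over.comp_left]
    haveI := h1; haveI := h2
    haveI : IsIso (ι[G] : G ⟶ G) := ⟨ι[G], by simp⟩
    haveI : IsIso (ι[G] : G ⟶ G).left := inferInstanceAs (IsIso ((Over.forget _).map (ι[G] : G ⟶ G)))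
    exact ⟨inferInstance, inferInstance⟩

end Groth.Agent.S18067
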