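import Groth.Statements.S18074
import Groth.Agent.AlgGrp25.AntiAff
import Groth.Agent.S7995

set_option autoImplicit false
set_option linter.style.haveILetI false
universe u
open CategoryTheory MonoidalCategory CartesianMonoidalCategory MonObj GrpObj AlgebraicGeometry CategoryTheory.Limits
open AlgGrp
open Groth.Agent.GrpSchLib Groth.Agent.AlgGrp25

namespace Groth.Agent.S18074


theorem trivial_of_affine {k : Type u} [Field k] {M : Over (Spec (CommRingCat.of k))} [IsAffine M.left]
    (hM : Function.Bijective M.hom.appTop) : IsIso M.hom := by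
  haveI : IsIso M.hom.appTop := (ConcreteCategory.isIso_iff_bijective _).mpr hM
  exact (MorphismProperty.arrow_mk_iso_iff (MorphismProperty.isomorphisms _) (arrowIsoSpecΓOfIsAffine M.hom)).mpr
    (inferInstanceAs (IsIso (Spec.map M.hom.appTop)))

theorem affine_of_trivial {k : Type u} [Field k] {G M I : Over (Spec (CommRingCat.of k))} [GrpObj G] [GrpObj M] [GrpObj I]
    [LocallyOfFiniteType G.hom] [QuasiCompact G.hom]
    {j : M ⟶ G} {p : G ⟶ I} (h : IsAntiAffPart j p) (hM : IsIso M.hom) : IsAffine G.left := by
  haveI := h.isMonHom_p; haveI := h.flat_p; haveI := h.surjective_p; haveI := h.affine; haveI := h.lft; haveI := h.qc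
  haveI := h.mono_p hM
  haveI := S7995.result k G I p
  haveI : IsIso p.left := inferInstanceAs (IsIso ((Over.forget _).map p))
  exact IsAffine.of_isIso p.left

/-- Let k be a field and G a non-trivial k-group scheme of finite type. Then G is non-affine with every
closed subgroup scheme H ≠ G affine if and only if G is anti-affine and every anti-affine closed
subgroup scheme H ≠ G of G is trivial. -/
theorem result (k : Type u) [Field k]
    (G : Over (Spec (CommRingCat.of k))) [GrpObj G] [LocallyOfFiniteType G.hom] [QuasiCompact G.hom] (hG : ¬ Red.IsTrivialGrp G) :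
    (¬ IsAffine G.left ∧ ∀ (H : Over (Spec (CommRingCat.of k))) [GrpObj H] (h : H ⟶ G) [IsMonHom h] [IsClosedImmersion h.left], ¬ IsIso h → IsAffine H.left) ↔
    (Function.Bijective ((Scheme.ΓSpecIso (CommRingCat.of k)).inv ≫ G.hom.appTop).hom ∧ ∀ (H : Over (Spec (CommRingCat.of k))) [GrpObj H] (h : H ⟶ G) [IsMonHom h] [IsClosedImmersion h.left], ¬ IsIso h → Function.Bijective ((Scheme.ΓSpecIso (CommRingCat.of k)).inv ≫ H.hom.appTop).hom → Red.IsTrivialGrp H) := by
  constructor
  · rintro ⟨hna, hsub⟩
    obtain ⟨M, I, _, _, j, p, h⟩ := exists_antiAffPart G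
    haveI := h.isMonHom_j; haveI := h.isClosedImmersion_j
    have hiso : IsIso j := by
      by_contra hn
      haveI := hsub M j hn
      exact hna (affine_of_trivial h (trivial_of_affine h.antiAffine))
    haveI : IsIso j.left := inferInstanceAs (IsIso ((Over.forget _).map j))
    have hb : Function.Bijective G.hom.appTop := by
      haveI : IsIso (inv j.left).appTop := inferInstanceAs (IsIso ((inv j.left).app ⊤))
      rw [show G.hom = inv j.left ≫ M.hom by rw [IsIso.eq_inv_comp, Over.w j], Scheme.Hom.comp_appTop]
      exact (ConcreteCategory.bijective_of_isIso (inv j.left).appTop).comp h.antiAffine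
    refine ⟨(AntiAffine.bijective_appTop_iff G.hom).mpr hb, fun H _ a _ _ hn hH => ?_⟩
    haveI := hsub H a hn
    exact trivial_of_affine ((AntiAffine.bijective_appTop_iff H.hom).mp hH)
  · rintro ⟨hb, hsub⟩
    refine ⟨fun hA => hG ?_, fun H _ a _ _ hn => ?_⟩
    · haveI := hA
      exact trivial_of_affine ((AntiAffine.bijective_appTop_iff G.hom).mp hb)
    · haveI : LocallyOfFiniteType H.hom := by rw [← Over.w a]; infer_instance
      haveI : QuasiCompact H.hom := by rw [← Over.w a]; infer_instance
      obtain ⟨M, I, _, _, j, p, h⟩ := exists_antiAffPart H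
      haveI := h.isMonHom_j; haveI := h.isClosedImmersion_j
      haveI : IsClosedImmersion (j ≫ a).left := by rw [Over.comp_left]; infer_instance
      have hn' : ¬ IsIso (j ≫ a) := by
        intro hi
        haveI : IsSplitEpi a := ⟨⟨⟨inv (j ≫ a) ≫ j, by rw [Category.assoc, IsIso.inv_hom_id]⟩⟩⟩
        haveI : Mono a := (Over.forget _).mono_of_mono_map (inferInstanceAs (Mono a.left))
        exact hn (isIso_of_mono_of_isSplitEpi a)
      exact affine_of_trivial h (hsub M (j ≫ a) hn' ((AntiAffine.bijective_appTop_iff M.hom).mpr h.antiAffine))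

end Groth.Agent.S18074
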