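import Groth.Statements.S18075
import Groth.Agent.AlgGrp25.AntiTools
import Groth.Agent.AlgGrp25.AffToProper
import Groth.Agent.Chev24.Tools
import Groth.Agent.S18067
-- import your own Groth.Agent.* helpers here

set_option autoImplicit false
universe u
open CategoryTheory MonoidalCategory CartesianMonoidalCategory MonObj GrpObj AlgebraicGeometry CategoryTheory.Limits
open AlgGrp

set_option linter.style.haveILetI false
set_option backward.isDefEq.respectTransparency false
set_option backward.isDefEq.respectTransparency.types false

namespace Groth.Agent.S18075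

/-- Let k be a field and G a non-trivial anti-affine k-group scheme of finite type, and let i : N → G be
a connected affine closed subgroup scheme which is the kernel of a flat surjective homomorphism q :
G → A onto an abelian variety A (for instance N = G_aff and A = G/G_aff, but any such N is allowed).
Then G has no anti-affine closed subgroup scheme other than G and the trivial group if and only if
the abelian variety A is simple (every smooth connected closed subgroup scheme of A is trivial or
equal to A). -/
theorem result (k : Type u) [Field k]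
    (G : Over (Spec (CommRingCat.of k))) [GrpObj G] [LocallyOfFiniteType G.hom] [QuasiCompact G.hom] (hG : ¬ Red.IsTrivialGrp G)
    (hGa : Function.Bijective ((Scheme.ΓSpecIso (CommRingCat.of k)).inv ≫ G.hom.appTop).hom)
    (N A : Over (Spec (CommRingCat.of k))) [GrpObj N] [GrpObj A] (i : N ⟶ G) [IsMonHom i] [IsClosedImmersion i.left]
    [IsAffine N.left] [ConnectedSpace ↥N.left]
    (q : G ⟶ A) [IsMonHom q] [Surjective q.left] [Flat q.left] [IsProper A.hom] [Smooth A.hom] [ConnectedSpace ↥A.left]
    (hq : AlgGrp.IsKernel i q) :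
    (∀ (H : Over (Spec (CommRingCat.of k))) [GrpObj H] (h : H ⟶ G) [IsMonHom h] [IsClosedImmersion h.left], ¬ IsIso h → Function.Bijective ((Scheme.ΓSpecIso (CommRingCat.of k)).inv ≫ H.hom.appTop).hom → Red.IsTrivialGrp H) ↔
    (∀ (B : Over (Spec (CommRingCat.of k))) [GrpObj B] (b : B ⟶ A) [IsMonHom b] [IsClosedImmersion b.left], Smooth B.hom → ConnectedSpace ↥B.left → IsIso b ∨ Red.IsTrivialGrp B) := by
  rw [GrpSchLib.AntiAffine.bijective_appTop_iff] at hGa
  haveI : Smooth G.hom := GrpSchLib.AntiAffineSmooth.smooth (G := G) hGa
  haveI : IsReduced G.left := GrpSchLib.isReduced_of_smooth_field G.hom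
  haveI : IsReduced A.left := GrpSchLib.isReduced_of_smooth_field A.hom
  haveI := S18067.isCommMonObj hGa
  haveI : IsSeparated G.hom := GrpSchLib.AntiAffine.isSeparated_grp G
  haveI : LocallyOfFiniteType N.hom := by rw [← Over.w i]; infer_instance
  haveI : QuasiCompact q.left := by
    haveI : QuasiCompact (q.left ≫ A.hom) := by rw [Over.w]; infer_instance
    exact QuasiCompact.of_comp q.left A.hom
  haveI : Mono i := (Over.forget _).mono_of_mono_map (inferInstanceAs (Mono i.left))
  haveI hqepi : Epi q := (Over.forget _).epi_of_epi_map (Flat.epi_of_flat_of_surjective q.left)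
  haveI : IsCommMonObj A := by
    haveI : GeometricallyReduced A.hom := GrpSchLib.IsogenyFibre.geometricallyReduced_of_smooth' A.hom
    haveI : GeometricallyIntegral A.hom := H23.MaxAbelian.geometricallyIntegral_of_connected A
    exact isCommMonObj_of_isProper_of_geometricallyIntegral A
  constructor
  · intro hmin B _ b _ _ hBs hBc
    by_cases hb : IsIso b
    · exact Or.inl hb
    refine Or.inr ?_
    haveI : Mono b := (Over.forget _).mono_of_mono_map (inferInstanceAs (Mono b.left))
    haveI : LocallyOfFiniteType B.hom := inferInstance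
    obtain ⟨AB, _, qB, hqBm, hqBs, hqBf, -, hABl, hABq, hABsep, hqBk⟩ := AlgGrpH24.exists_quotient_grp b
      (fun T g x => ⟨x, by rw [_root_.mul_comm g, mul_inv_cancel_right]⟩)
    haveI := hqBm; haveI := hABl; haveI := hABq; haveI := hABsep
    obtain ⟨H, _, h, hh, hhc, -, hhk⟩ := GrpSchLib.exists_kernel (q ≫ qB)
    haveI := hh; haveI := hhc
    haveI : LocallyOfFiniteType H.hom := by rw [← Over.w h]; infer_instance
    haveI : QuasiCompact H.hom := by rw [← Over.w h]; infer_instance
    let u : H ⟶ B := (hqBk : IsPullback b (toUnit B) qB η[AB]).lift (h ≫ q) (toUnit H) (by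
      rw [Category.assoc]
      exact (hhk : IsPullback h (toUnit H) (q ≫ qB) η[AB]).w)
    have hu : u ≫ b = h ≫ q := IsPullback.lift_fst _ _ _ _
    haveI : IsMonHom u := by
      haveI : IsMonHom (u ≫ b) := by rw [hu]; infer_instance
      exact AlgGrp25.isMonHom_of_comp_mono u b
    haveI : Surjective u.left := by
      have sq : IsPullback h u q b := by
        refine IsPullback.of_bot ?_ hu.symm (hqBk : IsPullback b (toUnit B) qB η[AB])
        rw [toUnit_unique (u ≫ toUnit B) (toUnit H)]
        exact hhk
      exact MorphismProperty.of_isPullback (P := @Surjective) (sq.map (Over.forget _)) ‹Surjective q.left›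
    obtain ⟨M, I, _, _, j, p, hp⟩ := AlgGrp25.exists_antiAffPart H
    haveI := hp.isMonHom_j; haveI := hp.isClosedImmersion_j
    haveI : IsClosedImmersion (j ≫ h).left := by rw [Over.comp_left]; infer_instance
    by_cases hjh : IsIso (j ≫ h)
    · exfalso
      have h1 : q ≫ qB = 1 := by
        have h2 : (j ≫ h) ≫ q ≫ qB = 1 := by
          rw [Category.assoc, (hhk : IsPullback h (toUnit H) (q ≫ qB) η[AB]).w, MonObj.one_eq_one, MonObj.comp_one,
            MonObj.comp_one]
        rw [← cancel_epi (j ≫ h), h2, MonObj.comp_one]
      have h2 : qB = 1 := by rw [← cancel_epi q, h1, MonObj.comp_one]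
      apply hb
      let s := (hqBk : IsPullback b (toUnit B) qB η[AB]).lift (𝟙 A) (toUnit A) (by
        rw [Category.id_comp, h2, MonObj.one_eq_one, MonObj.comp_one])
      have hs : s ≫ b = 𝟙 A := IsPullback.lift_fst _ _ _ _
      exact ⟨s, by rw [← cancel_mono b, Category.assoc, hs, Category.comp_id, Category.id_comp], hs⟩
    have hMt := hmin M (j ≫ h) hjh ((GrpSchLib.AntiAffine.bijective_appTop_iff M.hom).mpr hp.antiAffine)
    haveI : IsAffine H.left := AlgGrp25.AntiTools.isAffine_of_trivial hp hMt
    haveI : IsProper B.hom := by rw [← Over.w b]; infer_instance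
    haveI : QuasiCompact B.hom := inferInstance
    haveI : IsAffine B.left := AlgGrp25.AntiTools.isAffine_of_surjective u
    haveI := hBc; haveI := hBs
    have h1 : 𝟙 B = 1 := Chev24.eq_one_of_affine_of_proper (𝟙 B)
    exact ⟨η[B].left, by
      have := congrArg CommaMorphism.left h1
      rw [Hom.one_def] at this
      exact this.symm, Over.w η[B]⟩
  · intro hsimple H _ h _ _ hiso hH
    rw [GrpSchLib.AntiAffine.bijective_appTop_iff] at hH
    haveI : LocallyOfFiniteType H.hom := by rw [← Over.w h]; infer_instance
    haveI : QuasiCompact H.hom := by rw [← Over.w h]; infer_instance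
    haveI : Smooth H.hom := GrpSchLib.AntiAffineSmooth.smooth (G := H) hH
    haveI : ConnectedSpace H.left := GrpSchLib.AntiAffine.connectedSpace_of_bijective hH
    haveI : Mono h := (Over.forget _).mono_of_mono_map (inferInstanceAs (Mono h.left))
    obtain ⟨K, _, κ, hκ, hκc, hκn, hκk⟩ := GrpSchLib.exists_kernel (h ≫ q)
    haveI := hκ; haveI := hκc
    obtain ⟨Q, _, r, hrm, hrs, hrf, -, hQl, hQq, -, hrk⟩ := AlgGrpH24.exists_quotient_grp κ hκn
    haveI := hrm; haveI := hrs; haveI := hrf; haveI := hQl; haveI := hQq
    obtain ⟨e, hem, he, hec⟩ := Chev24.exists_closedImmersion_factor r κ hrk (h ≫ q) hκk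
    haveI := hem; haveI := hec
    rcases hsimple Q e (GrpSchLib.smooth_of_quotient r)
        (Function.Surjective.connectedSpace r.left.surjective r.left.continuous) with hei | hQ
    · exfalso
      haveI := hei
      haveI : IsIso e.left := inferInstanceAs (IsIso ((Over.forget _).map e))
      haveI : Surjective (h ≫ q).left := by rw [← he, Over.comp_left]; infer_instance
      obtain ⟨R, _, π, hπm, hπs, hπf, -, hRl, hRq, hRsep, hπk⟩ := AlgGrpH24.exists_quotient_grp h
        (fun T g x => ⟨x, by rw [_root_.mul_comm g, mul_inv_cancel_right]⟩)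
      haveI := hπm; haveI := hπs; haveI := hπf; haveI := hRl; haveI := hRq; haveI := hRsep
      haveI : Smooth R.hom := GrpSchLib.smooth_of_quotient π
      let P : Over (Spec (CommRingCat.of k)) := Over.mk (pullback.snd (h ≫ q).left q.left ≫ G.hom)
      let pH : P ⟶ H := Over.homMk (pullback.fst (h ≫ q).left q.left) (by
        show pullback.fst (h ≫ q).left q.left ≫ H.hom = pullback.snd (h ≫ q).left q.left ≫ G.hom
        rw [← Over.w (h ≫ q), pullback.condition_assoc, Over.w q])
      let pG : P ⟶ G := Over.homMk (pullback.snd (h ≫ q).left q.left) rfl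
      have hP : pH ≫ h ≫ q = pG ≫ q := Over.OverMorphism.ext (pullback.condition)
      haveI : Surjective pG.left := MorphismProperty.pullback_snd (P := @Surjective) _ _ inferInstance
      let n := (hq : IsPullback i (toUnit N) q η[A]).lift (pG * (pH ≫ h)⁻¹) (toUnit P) (by
        rw [MonObj.mul_comp, GrpObj.inv_comp, Category.assoc, hP, mul_inv_cancel, MonObj.one_eq_one, MonObj.comp_one])
      have hn : n ≫ i = pG * (pH ≫ h)⁻¹ := IsPullback.lift_fst _ _ _ _
      have hnr : n ≫ i ≫ π = pG ≫ π := by
        rw [← Category.assoc, hn, MonObj.mul_comp, GrpObj.inv_comp, Category.assoc,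
          (hπk : IsPullback h (toUnit H) π η[R]).w, MonObj.one_eq_one, MonObj.comp_one, MonObj.comp_one, inv_one,
          _root_.mul_one]
      haveI : Surjective (i ≫ π).left := by
        haveI : Surjective (n.left ≫ (i ≫ π).left) := by
          rw [← Over.comp_left, hnr, Over.comp_left]; infer_instance
        exact Surjective.of_comp n.left (i ≫ π).left
      haveI : IsAffine R.left := AlgGrp25.AntiTools.isAffine_of_surjective (i ≫ π)
      haveI : QuasiCompact π.left := by
        haveI : QuasiCompact (π.left ≫ R.hom) := by rw [Over.w]; infer_instance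
        exact QuasiCompact.of_comp π.left R.hom
      haveI : IsIso R.hom := AlgGrp25.AntiTools.isIso_hom_of_affine (AlgGrp25.AntiTools.bijective_of_cover π hGa)
      have hπ1 : π = 1 := Over.OverMorphism.ext ((cancel_mono R.hom).mp ((Over.w π).trans (Over.w (1 : G ⟶ R)).symm))
      apply hiso
      let s := (hπk : IsPullback h (toUnit H) π η[R]).lift (𝟙 G) (toUnit G) (by
        rw [Category.id_comp, hπ1, MonObj.one_eq_one, MonObj.comp_one])
      have hs : s ≫ h = 𝟙 G := IsPullback.lift_fst _ _ _ _
      exact ⟨s, by rw [← cancel_mono h, Category.assoc, hs, Category.comp_id, Category.id_comp], hs⟩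
    · haveI : IsIso Q.hom := hQ
      have hr1 : r = 1 := Over.OverMorphism.ext ((cancel_mono Q.hom).mp ((Over.w r).trans (Over.w (1 : H ⟶ Q)).symm))
      let l := (hq : IsPullback i (toUnit N) q η[A]).lift h (toUnit H) (by
        rw [← he, hr1, MonObj.one_comp, MonObj.one_eq_one, MonObj.comp_one])
      have hl : l ≫ i = h := IsPullback.lift_fst _ _ _ _
      have hlc : l = toUnit H ≫ η[H] ≫ l := GrpSchLib.AntiAffine.eq_const_of_isAffine hH l η[H]
      have h1 : 𝟙 H ≫ h = (1 : H ⟶ H) ≫ h := by
        rw [Category.id_comp, Hom.one_def, ← hl, ← Category.assoc]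
        conv_lhs => rw [hlc]
        simp only [Category.assoc]
      have h2 : 𝟙 H = 1 := (cancel_mono h).mp h1
      exact ⟨η[H].left, by
        have := congrArg CommaMorphism.left h2
        rw [Hom.one_def] at this
        exact this.symm, Over.w η[H]⟩

end Groth.Agent.S18075
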