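import Groth.Statements.S18100
import Groth.Agent.AlgGrp25.GenSub
import Groth.Agent.S18067
-- import your own Groth.Agent.* helpers here

set_option autoImplicit false
universe u
open CategoryTheory MonoidalCategory CartesianMonoidalCategory MonObj GrpObj AlgebraicGeometry CategoryTheory.Limits
open AlgGrp

set_option linter.style.haveILetI false
set_option backward.isDefEq.respectTransparency false
set_option backward.isDefEq.respectTransparency.types false

namespace Groth.Agent.S18100

/-- An integral proper scheme with a rational point has only constant functions. -/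
theorem bijective_of_point {k : Type u} [Field k] {B : Over (Spec (CommRingCat.of k))} [IsIntegral B.left]
    [IsProper B.hom] (e : 𝟙_ (Over (Spec (CommRingCat.of k))) ⟶ B) : Function.Bijective B.hom.appTop := by
  let φ : k →+* Γ(B.left, ⊤) := ((Scheme.ΓSpecIso (CommRingCat.of k)).inv ≫ B.hom.appTop).hom
  let ψ : Γ(B.left, ⊤) →+* k := (e.left.appTop ≫ (Scheme.ΓSpecIso (CommRingCat.of k)).hom).hom
  have hψφ : ψ.comp φ = RingHom.id k := by
    rw [← CommRingCat.hom_comp]
    have : B.hom.appTop ≫ e.left.appTop = 𝟙 _ := by
      rw [← Scheme.Hom.comp_appTop, show e.left ≫ B.hom = 𝟙 _ from Over.w e]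
      rfl
    rw [Category.assoc, reassoc_of% this, Iso.inv_hom_id]
    rfl
  refine (GrpSchLib.AntiAffine.bijective_appTop_iff B.hom).mp ⟨φ.injective, fun s => ⟨ψ s, ?_⟩⟩
  have hF := isField_of_universallyClosed k B.hom
  letI := hF.toField
  refine ψ.injective ?_
  exact RingHom.congr_fun hψφ (ψ s)

/-- Let k be a field and G a non-trivial anti-affine k-group scheme of finite type with no anti-affine
closed subgroup scheme other than G and the trivial one. Then G is either an abelian variety (proper
over k), or every complete subvariety of G has dimension zero: any closed subscheme of G that is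
geometrically integral and proper over k has dimension 0. -/
theorem result (k : Type u) [Field k]
    (G : Over (Spec (CommRingCat.of k))) [GrpObj G] [LocallyOfFiniteType G.hom] [QuasiCompact G.hom] (hG : ¬ Red.IsTrivialGrp G)
    (hGa : Function.Bijective ((Scheme.ΓSpecIso (CommRingCat.of k)).inv ≫ G.hom.appTop).hom)
    (hmin : ∀ (H : Over (Spec (CommRingCat.of k))) [GrpObj H] (h : H ⟶ G) [IsMonHom h] [IsClosedImmersion h.left], ¬ IsIso h → Function.Bijective ((Scheme.ΓSpecIso (CommRingCat.of k)).inv ≫ H.hom.appTop).hom → Red.IsTrivialGrp H) :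
    IsProper G.hom ∨
      ∀ (Z : Over (Spec (CommRingCat.of k))) (z : Z ⟶ G) [IsClosedImmersion z.left] [IsProper Z.hom] [GeometricallyIntegral Z.hom],
        topologicalKrullDim ↥Z.left = 0 := by
  have hb := (GrpSchLib.AntiAffine.bijective_appTop_iff G.hom).mp hGa
  haveI := S18067.isCommMonObj hb
  rw [or_iff_not_imp_left]
  intro hG' Z z _ _ _
  obtain ⟨B, _, b, hbm, hbc, hBp, hBi, d, hd⟩ := AlgGrp25.GenSub.exists_subgroup z
  haveI := hbm; haveI := hbc; haveI := hBp; haveI := hBi
  by_cases hiso : IsIso b
  · refine absurd ?_ hG'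
    haveI := hiso
    haveI : IsIso b.left := inferInstanceAs (IsIso ((Over.forget _).map b))
    haveI : IsProper (inv b.left ≫ B.hom) := inferInstance
    rwa [IsIso.inv_comp_eq b.left |>.mpr (Over.w b).symm] at this
  have hBt := hmin B b hiso ((GrpSchLib.AntiAffine.bijective_appTop_iff B.hom).mpr (bijective_of_point η[B]))
  haveI : IsIso B.hom := hBt
  have hd1 : d = 1 := Over.OverMorphism.ext ((cancel_mono B.hom).mp ((Over.w d).trans (Over.w (1 : Z ⊗ Z ⟶ B)).symm))
  rw [hd1, MonObj.one_comp, eq_comm, mul_inv_eq_one] at hd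
  haveI : Mono z := (Over.forget _).mono_of_mono_map (inferInstanceAs (Mono z.left))
  have hfs : fst Z Z = snd Z Z := (cancel_mono z).mp hd
  haveI : Mono Z.hom := ⟨fun {T} a c h => by
    let a' : Over.mk (a ≫ Z.hom) ⟶ Z := Over.homMk a rfl
    let c' : Over.mk (a ≫ Z.hom) ⟶ Z := Over.homMk c h.symm
    have := congrArg (fun q => lift a' c' ≫ q) hfs
    simp only [lift_fst, lift_snd] at this
    exact congrArg CommaMorphism.left this⟩
  haveI : Subsingleton Z.left := ⟨fun a c => by
    obtain ⟨w, hw, hw'⟩ := Scheme.Pullback.exists_preimage_pullback (f := Z.hom) (g := Z.hom) a c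
      (Subsingleton.elim (α := PrimeSpectrum k) _ _)
    rw [← hw, ← hw']
    exact congrArg (fun q : Z ⊗ Z ⟶ Z => q.left w) hfs⟩
  haveI : Nonempty Z.left := (GeometricallyIntegral.isIntegral_of_subsingleton Z.hom).nonempty
  exact le_antisymm (topologicalKrullDim_zero_of_discreteTopology _)
    (@Order.krullDim_nonneg _ _ ⟨⟨closure {Classical.arbitrary Z.left}, isIrreducible_singleton.closure, isClosed_closure⟩⟩)

end Groth.Agent.S18100
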