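import Groth.Statements.S18102
import Groth.Agent.AlgGrp25.SpecIsogeny
import Groth.Agent.AlgGrp25.AntiTools

set_option autoImplicit false
set_option backward.isDefEq.respectTransparency false
set_option backward.isDefEq.respectTransparency.types false
set_option synthInstance.maxHeartbeats 200000
universe u
open CategoryTheory MonoidalCategory CartesianMonoidalCategory MonObj GrpObj AlgebraicGeometry CategoryTheory.Limits
open AlgGrp

namespace Groth.Agent.S18102

/-- Let k be a field with algebraic closure k̄ and f : G → H an isogeny of algebraic k-groups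
(surjective homomorphism with finite kernel, i.e. surjective and finite). Then for every d, G_{k̄}
contains a smooth connected affine solvable closed subgroup of dimension at least d if and only if
H_{k̄} does; that is, d_s(G) = d_s(H). -/
theorem result (k : Type u) [Field k]
    (G H : Over (Spec (CommRingCat.of k))) [GrpObj G] [LocallyOfFiniteType G.hom] [QuasiCompact G.hom]
    [GrpObj H] [LocallyOfFiniteType H.hom] [QuasiCompact H.hom]
    (f : G ⟶ H) [IsMonHom f] [Surjective f.left] [IsFinite f.left] (d : ℕ) :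
    (∃ (U : Over (Spec (CommRingCat.of (AlgebraicClosure k)))) (_ : GrpObj U) (i : U ⟶ Red.bc (Spec.map (CommRingCat.ofHom (algebraMap k (AlgebraicClosure k)))) G), IsMonHom i ∧ IsClosedImmersion i.left ∧
        Smooth U.hom ∧ IsAffine U.left ∧ ConnectedSpace ↥U.left ∧ Red.IsSolvableGrp U ∧ (d : WithBot ℕ∞) ≤ topologicalKrullDim ↥U.left) ↔
    (∃ (U : Over (Spec (CommRingCat.of (AlgebraicClosure k)))) (_ : GrpObj U) (i : U ⟶ Red.bc (Spec.map (CommRingCat.ofHom (algebraMap k (AlgebraicClosure k)))) H), IsMonHom i ∧ IsClosedImmersion i.left ∧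
        Smooth U.hom ∧ IsAffine U.left ∧ ConnectedSpace ↥U.left ∧ Red.IsSolvableGrp U ∧ (d : WithBot ℕ∞) ≤ topologicalKrullDim ↥U.left) := by
  let σ := Spec.map (CommRingCat.ofHom (algebraMap k (AlgebraicClosure k)))
  let F := Over.pullback σ
  haveI : LocallyOfFiniteType (F.obj G).hom := inferInstanceAs (LocallyOfFiniteType (pullback.snd G.hom σ))
  haveI : LocallyOfFiniteType (F.obj H).hom := inferInstanceAs (LocallyOfFiniteType (pullback.snd H.hom σ))
  haveI : QuasiCompact (F.obj G).hom := inferInstanceAs (QuasiCompact (pullback.snd G.hom σ))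
  haveI : QuasiCompact (F.obj H).hom := inferInstanceAs (QuasiCompact (pullback.snd H.hom σ))
  haveI : IsFinite (F.map f).left := MorphismProperty.overPullbackMap (P := @IsFinite) σ f inferInstance
  haveI : Surjective (F.map f).left := MorphismProperty.overPullbackMap (P := @Surjective) σ f inferInstance
  constructor
  · rintro ⟨U, hU, i, hi, hic, hsm, haff, hconn, hsol, hd⟩
    obtain ⟨n, hn⟩ := (AlgGrp25.SpecLaw.isSolvableGrp_iff U).1 hsol
    obtain ⟨V, hV, j, q, hj, hjc, hVsm, hVc, hq, hqf, hqs, -, hdim⟩ :=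
      AlgGrp25.SpecIsogeny.exists_image (F.map f) i
    haveI : QuasiCompact U.hom := by rw [← Over.w i]; exact inferInstance
    haveI : QuasiCompact V.hom := by rw [← Over.w j]; exact inferInstance
    exact ⟨V, hV, j, hj, hjc, hVsm, AlgGrp25.AntiTools.isAffine_of_surjective q, hVc,
      (AlgGrp25.SpecLaw.isSolvableGrp_iff V).2 ⟨n, AlgGrp25.SpecIsogeny.triv_of_surjective _ q hn⟩, hdim.symm ▸ hd⟩
  · rintro ⟨U, hU, i, hi, hic, hsm, haff, hconn, hsol, hd⟩
    obtain ⟨n, hn⟩ := (AlgGrp25.SpecLaw.isSolvableGrp_iff U).1 hsol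
    obtain ⟨C, hC, j, p, hj, hjc, hCsm, hCc, hp, hpf, hps, -, hdim, htriv⟩ :=
      AlgGrp25.SpecIsogeny.exists_preimage (F.map f) i
    exact ⟨C, hC, j, hj, hjc, hCsm, isAffine_of_isAffineHom p.left, hCc,
      (AlgGrp25.SpecLaw.isSolvableGrp_iff C).2 ⟨n, htriv _ hn⟩, hdim.symm ▸ hd⟩

end Groth.Agent.S18102
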