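import Groth.Statements.S18128
import Mathlib
import Groth.Agent.S19962
-- import your own Groth.Agent.* helpers here

set_option autoImplicit false
universe u
open CAlg

namespace Groth.Agent.S18128

open scoped Matrix in
lemma exists_smul_mem {R : Type u} [CommRing R] (p : Ideal R) [p.IsPrime] {a q : ℕ}
    (N : Matrix (Fin a) (Fin q) R) (z : Fin a → R) (v : Fin q → Localization.AtPrime p)
    (hv : N.map (algebraMap R (Localization.AtPrime p)) *ᵥ v = algebraMap R (Localization.AtPrime p) ∘ z) :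
    ∃ s, s ∉ p ∧ ∃ w : Fin q → R, N *ᵥ w = s • z := by
  classical
  obtain ⟨⟨s, hs⟩, hint⟩ := IsLocalization.exist_integer_multiples_of_finite p.primeCompl v
  choose w hw using hint
  have h1 : ∀ i, algebraMap R (Localization.AtPrime p) ((N *ᵥ w) i) = algebraMap R (Localization.AtPrime p) (s * z i) := fun i => by
    rw [RingHom.map_mulVec, map_mul, ← Function.comp_apply (f := algebraMap R (Localization.AtPrime p)) (g := z), ← hv]
    simp only [Matrix.mulVec, dotProduct, Finset.mul_sum]
    refine Finset.sum_congr rfl fun j _ => ?_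
    rw [Function.comp_apply, hw j, Algebra.smul_def]
    ring
  have h2 : ∀ i, ∃ c : p.primeCompl, (c : R) * (N *ᵥ w) i = c * (s * z i) :=
    fun i => IsLocalization.exists_of_eq (h1 i)
  choose c hc using h2
  refine ⟨(∏ i, (c i : R)) * s, p.primeCompl.mul_mem (prod_mem fun i _ => (c i).2) hs, (∏ i, (c i : R)) • w, ?_⟩
  funext i
  rw [Matrix.mulVec_smul, Pi.smul_apply, Pi.smul_apply, smul_eq_mul, smul_eq_mul,
    ← Finset.prod_erase_mul _ _ (Finset.mem_univ i), mul_assoc, hc i]
  ring

/-- Local step of Buchsbaum–Eisenbud: let R be a Noetherian local ring with maximal ideal m, and 0 →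
R^(n_e) → ⋯ → R^(n_1) → R^(n_0) a complex of finite free modules, the map R^(n_(i+1)) → R^(n_i)
being given by the matrix A i, with 1 ≤ e and e at most the depth of R (there is an R-regular
sequence of length e inside m). If for every prime ideal p ≠ m the complex of matrices over R_p
obtained by localization is exact at R_p^(n_e), …, R_p^(n_1), then the complex is exact at R^(n_e),
…, R^(n_1). -/
theorem result
    {R : Type u} [CommRing R] [IsLocalRing R] [IsNoetherianRing R]
    (e : ℕ) (he : 1 ≤ e) (n : ℕ → ℕ) (A : (i : ℕ) → Matrix (Fin (n i)) (Fin (n (i + 1))) R)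
    (hA : ∀ i, i + 2 ≤ e → A i * A (i + 1) = 0)
    (rs : List R) (hlen : rs.length = e) (hmem : ∀ x ∈ rs, x ∈ IsLocalRing.maximalIdeal R)
    (hreg : RingTheory.Sequence.IsRegular R rs)
    (hloc : ∀ (p : Ideal R) [p.IsPrime], p ≠ IsLocalRing.maximalIdeal R →
      LinearMap.ker ((A (e - 1)).map (algebraMap R (Localization.AtPrime p))).mulVecLin = ⊥ ∧
        ∀ i, i + 2 ≤ e →
          LinearMap.ker ((A i).map (algebraMap R (Localization.AtPrime p))).mulVecLin =
            LinearMap.range ((A (i + 1)).map (algebraMap R (Localization.AtPrime p))).mulVecLin) :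
    LinearMap.ker (A (e - 1)).mulVecLin = ⊥ ∧
      ∀ i, i + 2 ≤ e → LinearMap.ker (A i).mulVecLin = LinearMap.range (A (i + 1)).mulVecLin := by
  classical
  let A' : (i : ℕ) → Matrix (Fin (n i)) (Fin (n (i + 1))) R := fun i => if i < e then A i else 0
  have hA' : ∀ i < e, A' i = A i := fun i hi => if_pos hi
  have hA'0 : A' e = 0 := if_neg (lt_irrefl e)
  have hAA : ∀ i, A' i * A' (i + 1) = 0 := fun i => by
    by_cases h : i + 1 < e
    · rw [hA' i (by omega), hA' (i + 1) h]; exact hA i (by omega)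
    · rw [show A' (i + 1) = 0 from if_neg h, Matrix.mul_zero]
  have h2 : ∀ y ∈ rs, ∀ k, 0 ≤ k → k < e → S19962.Ex n A' (1 * y) ⊥ k := by
    intro y hy k _ hk z hz
    rw [one_mul, Ideal.radical_eq_sInf, Ideal.mem_sInf]
    rintro p ⟨hle, hp⟩
    by_contra hyp
    haveI := hp
    have hpm : p ≠ IsLocalRing.maximalIdeal R := fun h => hyp (h ▸ hmem y hy)
    obtain ⟨hlast, hmid⟩ := hloc p hpm
    let φ := algebraMap R (Localization.AtPrime p)
    have hker : Matrix.mulVec ((A k).map φ) (φ ∘ z) = 0 := by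
      funext i
      rw [← RingHom.map_mulVec, ← hA' k hk, (Ideal.mem_bot.mp (hz i)), map_zero]; rfl
    suffices h : ∃ v, Matrix.mulVec ((A' (k + 1)).map φ) v = φ ∘ z by
      obtain ⟨v, hv⟩ := h
      obtain ⟨s, hs, w, hw⟩ := exists_smul_mem p (A' (k + 1)) z v hv
      exact hs (hle (S19962.mem_Q.2 ⟨w, fun j => by rw [hw]; simp⟩))
    by_cases hk1 : k + 1 < e
    · have := (hmid k (by omega)).le (LinearMap.mem_ker.mpr hker)
      rw [hA' _ hk1]
      exact this
    · refine ⟨0, ?_⟩
      obtain rfl : k = e - 1 := by omega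
      have := hlast.le (LinearMap.mem_ker.mpr hker)
      rw [Matrix.mulVec_zero, (Submodule.mem_bot _).mp this]
  have hex := S19962.acyclic (n := n) (A := A') (e := e) hAA hA'0 1 rs 0 ⊥
    (S19962.regMod_bot hreg.toIsWeaklyRegular) (fun J _ k hk hk' => absurd hk (by omega)) h2
  have key : ∀ k < e, ∀ z, Matrix.mulVec (A k) z = 0 → ∃ w, Matrix.mulVec (A' (k + 1)) w = z := by
    intro k hk z hz
    obtain ⟨N, hN⟩ := hex k (Nat.zero_le _) hk z fun i => by rw [hA' k hk, hz]; exact zero_mem _
    obtain ⟨w, hw⟩ := S19962.mem_Q.1 hN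
    exact ⟨w, funext fun i => (sub_eq_zero.mp (by simpa using hw i)).symm⟩
  refine ⟨?_, fun i hi => le_antisymm (fun z hz => ?_) ?_⟩
  · rw [Submodule.eq_bot_iff]
    intro z hz
    obtain ⟨w, hw⟩ := key (e - 1) (by omega) z hz
    rw [← hw, show A' (e - 1 + 1) = 0 from if_neg (by omega), Matrix.zero_mulVec]
  · obtain ⟨w, hw⟩ := key i (by omega) z hz
    exact ⟨w, by rw [Matrix.mulVecLin_apply, ← hA' (i + 1) (by omega), hw]⟩
  · rintro _ ⟨w, rfl⟩
    rw [LinearMap.mem_ker, Matrix.mulVecLin_apply, Matrix.mulVecLin_apply, Matrix.mulVec_mulVec, hA i hi, Matrix.zero_mulVec]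

end Groth.Agent.S18128
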