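import Groth.Statements.S18136
import Mathlib
-- import your own Groth.Agent.* helpers here

set_option autoImplicit false
universe u v
open IsLocalRing
open CAlg

namespace Groth.Agent.S18136

lemma li_iff {R : Type u} [CommRing R] [IsLocalRing R] {κ : Type*} [Fintype κ] (F : κ → maximalIdeal R) :
    LinearIndependent (ResidueField R) (⇑(maximalIdeal R).toCotangent ∘ F) ↔
      ∀ a : κ → R, (∑ i, a i * (F i : R)) ∈ maximalIdeal R ^ 2 → ∀ i, a i ∈ maximalIdeal R := by
  rw [Fintype.linearIndependent_iff]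
  have key : ∀ a : κ → R, ∑ i, residue R (a i) • (maximalIdeal R).toCotangent (F i) = 0 ↔
      (∑ i, a i * (F i : R)) ∈ maximalIdeal R ^ 2 := fun a => by
    have : ∀ i, residue R (a i) • (maximalIdeal R).toCotangent (F i) = (maximalIdeal R).toCotangent (a i • F i) := fun i => by
      rw [map_smul]; rfl
    simp only [this, ← map_sum, Ideal.toCotangent_eq_zero, AddSubmonoidClass.coe_finsetSum, Submodule.coe_smul, smul_eq_mul]
  constructor
  · intro h a ha i
    exact (residue_eq_zero_iff _).mp (h (fun i => residue R (a i)) ((key a).mpr ha) i)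
  · intro h c hc i
    choose a ha using fun i => residue_surjective (c i)
    simp only [← ha] at hc ⊢
    exact (residue_eq_zero_iff _).mpr (h a ((key a).mp hc) i)

/-- Let A be a regular local ring with maximal ideal m and residue field k, written as a directed
colimit of regular local rings A_j with local transition maps (compatible maps ψ_j : A_j → A that
are jointly surjective, an element dying in A dying at some later stage). Let f_1, …, f_c, g_1, …,
g_d ∈ m have linearly independent classes in m/m^2 over k, and put I = (f_1, …, f_c) ⊆ I' = (f_1, …,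
f_c, g_1, …, g_d) (so I is generated by part of a regular system of parameters of A and I'/I by part
of a regular system of parameters of A/I; for a regular local ring the condition on I ⊆ I' is stated
through such a joint family). Then there are an index j_0 and ideals I_j ⊆ I'_j ⊆ A_j for j ≥ j_0
such that: each I_j is generated by c elements and I'_j by these together with d further elements of
the maximal ideal m_j, the c + d classes in m_j/m_j^2 being linearly independent over the residue
field of A_j; the transition maps carry I_i, I'_i onto generators of I_j, I'_j for j_0 ≤ i ≤ j; and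
I_j, I'_j generate I, I' in A. -/
theorem result
    {A : Type u} [CommRing A] [IsRegularLocalRing A]
    {ι : Type v} [Preorder ι] [Nonempty ι] [IsDirected ι (· ≤ ·)]
    (B : ι → Type u) [∀ j, CommRing (B j)] [∀ j, IsRegularLocalRing (B j)]
    (φ : ∀ i j, i ≤ j → (B i →+* B j)) (hφloc : ∀ i j (h : i ≤ j), IsLocalHom (φ i j h))
    (hφ : ∀ i j l (hij : i ≤ j) (hjl : j ≤ l), (φ j l hjl).comp (φ i j hij) = φ i l (hij.trans hjl))
    (ψ : ∀ j, B j →+* A) (hψ : ∀ i j (h : i ≤ j), (ψ j).comp (φ i j h) = ψ i)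
    (hsurj : ∀ a : A, ∃ j, ∃ x : B j, ψ j x = a)
    (hker : ∀ j (x : B j), ψ j x = 0 → ∃ l, ∃ h : j ≤ l, φ j l h x = 0)
    (c d : ℕ) (f : Fin c → maximalIdeal A) (g : Fin d → maximalIdeal A)
    (hind : LinearIndependent (ResidueField A) (⇑(maximalIdeal A).toCotangent ∘ Sum.elim f g)) :
    ∃ j₀ : ι, ∃ (P : ∀ j, j₀ ≤ j → Ideal (B j)) (Q : ∀ j, j₀ ≤ j → Ideal (B j)),
      (∀ j (hj : j₀ ≤ j), ∃ (F : Fin c → maximalIdeal (B j)) (E : Fin d → maximalIdeal (B j)),
        LinearIndependent (ResidueField (B j)) (⇑(maximalIdeal (B j)).toCotangent ∘ Sum.elim F E) ∧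
        P j hj = Ideal.span (Set.range (fun s => (F s : B j))) ∧
        Q j hj = P j hj ⊔ Ideal.span (Set.range (fun t => (E t : B j)))) ∧
      (∀ i j (hi : j₀ ≤ i) (hij : i ≤ j),
        (P i hi).map (φ i j hij) = P j (le_trans hi hij) ∧ (Q i hi).map (φ i j hij) = Q j (le_trans hi hij)) ∧
      (∀ j (hj : j₀ ≤ j),
        (P j hj).map (ψ j) = Ideal.span (Set.range (fun s => (f s : A))) ∧
        (Q j hj).map (ψ j) = Ideal.span (Set.range (fun s => (f s : A))) ⊔ Ideal.span (Set.range (fun t => (g t : A)))) := by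
  classical
  have hloc : ∀ j, IsLocalHom (ψ j) := fun j => ⟨fun x hx => by
    obtain ⟨y, hy⟩ := hx.exists_right_inv
    obtain ⟨j', y', rfl⟩ := hsurj y
    obtain ⟨l, hl, hl'⟩ := directed_of (· ≤ ·) j j'
    have h0 : ψ l (φ j l hl x * φ j' l hl' y' - 1) = 0 := by
      rw [map_sub, map_mul, ← RingHom.comp_apply, ← RingHom.comp_apply, hψ, hψ, hy, map_one, sub_self]
    obtain ⟨l', hll', h1⟩ := hker l _ h0
    rw [map_sub, map_mul, map_one, sub_eq_zero, ← RingHom.comp_apply, hφ] at h1
    haveI := hφloc j l' (hl.trans hll')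
    exact (isUnit_map_iff _ x).mp (IsUnit.of_mul_eq_one _ h1)⟩
  let e : Fin c ⊕ Fin d → A := fun i => ((Sum.elim f g i : maximalIdeal A) : A)
  have hlift : ∀ i, ∃ j, ∃ x : B j, ψ j x = e i := fun i => hsurj _
  choose jj x hx using hlift
  obtain ⟨j₀, hj₀⟩ := Finite.exists_le jj
  let X : ∀ j, j₀ ≤ j → Fin c ⊕ Fin d → maximalIdeal (B j) := fun j hj i =>
    ⟨φ (jj i) j ((hj₀ i).trans hj) (x i), (mem_maximalIdeal _).mpr fun hu => by
      have h1 : IsUnit (e i) := by
        rw [← hx i, ← hψ (jj i) j ((hj₀ i).trans hj)]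
        exact hu.map (ψ j)
      exact (mem_maximalIdeal _).mp (Sum.elim f g i).2 h1⟩
  have hX : ∀ j hj i, ψ j (X j hj i : B j) = e i := fun j hj i => by
    rw [← hx i, ← hψ (jj i) j ((hj₀ i).trans hj)]; rfl
  have hXφ : ∀ i j (hi : j₀ ≤ i) (hij : i ≤ j) s, φ i j hij (X i hi s : B i) = (X j (hi.trans hij) s : B j) :=
    fun i j hi hij s => RingHom.congr_fun (hφ _ _ _ _ hij) (x s)
  let P : ∀ j, j₀ ≤ j → Ideal (B j) := fun j hj => Ideal.span (Set.range fun s => (X j hj (Sum.inl s) : B j))
  let Q : ∀ j, j₀ ≤ j → Ideal (B j) := fun j hj => P j hj ⊔ Ideal.span (Set.range fun t => (X j hj (Sum.inr t) : B j))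
  refine ⟨j₀, P, Q, fun j hj => ⟨fun s => X j hj (Sum.inl s), fun t => X j hj (Sum.inr t), ?_, rfl, rfl⟩,
    fun i j hi hij => ?_, fun j hj => ?_⟩
  · rw [show Sum.elim (fun s => X j hj (Sum.inl s)) (fun t => X j hj (Sum.inr t)) = X j hj from Sum.elim_comp_inl_inr (X j hj),
      li_iff]
    intro a ha i
    haveI := hloc j
    have hA := (li_iff (Sum.elim f g)).mp hind (fun i => ψ j (a i)) (by
      have hm : (maximalIdeal (B j)).map (ψ j) ≤ maximalIdeal A := Ideal.map_le_iff_le_comap.mpr fun y hy =>
        (mem_maximalIdeal _).mpr fun hu => (mem_maximalIdeal _).mp hy ((isUnit_map_iff (ψ j) y).mp hu)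
      have := Ideal.pow_right_mono hm 2 (by rw [← Ideal.map_pow]; exact Ideal.mem_map_of_mem (ψ j) ha)
      simpa [map_sum, map_mul, hX, e] using this) i
    exact (mem_maximalIdeal _).mpr fun hu => (mem_maximalIdeal _).mp hA (hu.map (ψ j))
  · simp only [P, Q, Ideal.map_sup, Ideal.map_span, ← Set.range_comp, Function.comp_def, hXφ, and_self]
  · simp only [P, Q, Ideal.map_sup, Ideal.map_span, ← Set.range_comp, Function.comp_def, hX, e, Sum.elim_inl,
      Sum.elim_inr, and_self]

end Groth.Agent.S18136
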