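import Groth.Statements.S18151
import Groth.Agent.H44Frob.SplitMap
import Groth.Agent.AmpleVan.Vanish

set_option autoImplicit false
set_option linter.style.haveILetI false
universe u
open CategoryTheory AlgebraicGeometry Opposite TopologicalSpace
open FrobSch

namespace Groth.Agent.S18151

/-- Let p be a prime, k a perfect field of characteristic p, and X a proper k-scheme. Let φ be the p-th
power map on the sheaf of additive groups underlying O_X and suppose X is Frobenius split: φ admits
a retraction s, an additive endomorphism of O_X with s ∘ φ the identity and s(a^p·b) = a·s(b) on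
every open. Then for every invertible module L and every i the dimension of H^i(X, L) over k is at
most that of H^i(X, L^{⊗p}). (The source shows, for any k-scheme X, that the Frobenius pull-back
H^i(X, L) → H^i(X, L^{⊗p}) is injective, with a left inverse coming from the splitting; that map is
not named here, so the statement records its consequence on dimensions, for X proper so that both
are finite.) -/
theorem result (p : ℕ) [Fact p.Prime]
    (k : Type u) [Field k] [CharP k p] [PerfectRing k p]
    (X : Scheme.{u}) [X.Over (Spec (CommRingCat.of k))] [IsProper (X ↘ Spec (CommRingCat.of k))]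
    (φ : Coh.toAb (Coh.structureModule X) ⟶ Coh.toAb (Coh.structureModule X))
    (hφ : ∀ (U : X.Opens) (t : Γ(X, U)), φ.hom.app (op U) t = t ^ p)
    (s : Coh.toAb (Coh.structureModule X) ⟶ Coh.toAb (Coh.structureModule X))
    (hs : φ ≫ s = 𝟙 _)
    (hlin : ∀ (U : X.Opens) (a b : Γ(X, U)),
      s.hom.app (op U) (a ^ p * b) = a * @id Γ(X, U) (s.hom.app (op U) b))
    (L : X.Modules) (hL : PicF.IsInvertible L) (i : ℕ) :
    Module.finrank k (Coh.HH X L i) ≤ Module.finrank k (Coh.HH X (CohB1.tensorPow L p) i) := by
  haveI : CompactSpace X := QuasiCompact.compactSpace_of_compactSpace (X ↘ Spec (CommRingCat.of k))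
  haveI : IsLocallyNoetherian X := LocallyOfFiniteType.isLocallyNoetherian (X ↘ Spec (CommRingCat.of k))
  haveI : Module.Finite k (Coh.HH X (CohB1.tensorPow L p) i) :=
    Groth.Agent.S0002.result k X _ (AmpleVan.isCoh_invertible (InvX.isInvertible_tensorPow hL p)) i
  obtain ⟨φL, sL, hret, hsemi⟩ := H44Frob.exists_pow_map p φ s hφ hs hlin hL
  let F : Coh.HH X L i →+ Coh.HH X (CohB1.tensorPow L p) i := Sheaf.H.map φL i
  have hF : Function.Injective F := fun x y hxy => by
    have h := congrArg (Sheaf.H.map sL i) hxy
    simpa only [F, ← Sheaf.H.map_comp_apply, hret, Sheaf.H.map_id_apply] using h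
  have hlinF : ∀ (a : k) (x : Coh.HH X L i), F (a • x) = a ^ p • F x := by
    intro a x
    show Sheaf.H.map φL i (Sheaf.H.map (Coh.smulAb L (Coh.toGlobal (X ↘ Spec (CommRingCat.of k)) a)) i x) =
      Sheaf.H.map (Coh.smulAb (CohB1.tensorPow L p) (Coh.toGlobal (X ↘ Spec (CommRingCat.of k)) (a ^ p))) i
        (Sheaf.H.map φL i x)
    rw [← Sheaf.H.map_comp_apply, ← Sheaf.H.map_comp_apply, hsemi, map_pow]
  have hr : Module.rank k (Coh.HH X L i) ≤ Module.rank k (Coh.HH X (CohB1.tensorPow L p) i) :=
    rank_le_of_surjective_injective (fun a : k => a ^ p) F (surjective_frobenius k p) hF hlinF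
  exact Cardinal.toNat_le_toNat hr (Module.rank_lt_aleph0 k _)

end Groth.Agent.S18151
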