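import Groth.Statements.S18156
import Mathlib
-- import your own Groth.Agent.* helpers here

set_option autoImplicit false
universe u v
open CAlg

namespace Groth.Agent.S18156

/-- Let k be a field and A a regular local ring that is a k-algebra, with maximal ideal m and m-adic
completion Â. Then every k-derivation D of A into itself extends to a k-derivation D̂ of Â into
itself along the canonical map ρ : A → Â, in the sense that D̂(ρ(a)) = ρ(D(a)) for every a ∈ A. (The
source works throughout over an algebraically closed field of characteristic p; neither assumption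
enters this statement.) -/
theorem result
    (k : Type u) [Field k] (A : Type v) [CommRing A] [Algebra k A] [IsRegularLocalRing A]
    (D : Derivation k A A) :
    ∃ Dhat : Derivation k (AdicCompletion (IsLocalRing.maximalIdeal A) A)
        (AdicCompletion (IsLocalRing.maximalIdeal A) A),
      ∀ a : A, Dhat (algebraMap A (AdicCompletion (IsLocalRing.maximalIdeal A) A) a) =
        algebraMap A (AdicCompletion (IsLocalRing.maximalIdeal A) A) (D a) := by
  set m := IsLocalRing.maximalIdeal A
  have hD : ∀ n, ∀ a ∈ m ^ (n + 1), D a ∈ m ^ n := by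
    intro n
    induction n with
    | zero => intro a _; simp
    | succ n ih =>
      intro a ha
      rw [pow_succ] at ha
      refine Submodule.mul_induction_on ha (fun y hy z hz => ?_) (fun y z hy hz => ?_)
      · rw [Derivation.leibniz, smul_eq_mul, smul_eq_mul]
        refine add_mem (Ideal.mul_mem_right _ _ hy) ?_
        rw [pow_succ']
        exact Ideal.mul_mem_mul hz (ih y hy)
      · rw [map_add]; exact add_mem hy hz
  have hex : ∀ x : AdicCompletion m A, ∃ y : AdicCompletion m A, ∀ n c,
      AdicCompletion.evalₐ m (n + 1) x = Ideal.Quotient.mk _ c →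
      AdicCompletion.evalₐ m n y = Ideal.Quotient.mk _ (D c) := by
    intro x
    obtain ⟨a, rfl⟩ := AdicCompletion.mk_surjective m A x
    have hb : AdicCompletion.IsAdicCauchy m A (fun n => D (a (n + 1))) := by
      intro i j hij
      rw [SModEq.sub_mem, smul_eq_mul, Ideal.mul_top, ← map_sub]
      refine hD i _ ?_
      have := SModEq.sub_mem.1 (a.2 (show i + 1 ≤ j + 1 by omega))
      rwa [smul_eq_mul, Ideal.mul_top] at this
    refine ⟨AdicCompletion.mk m A ⟨_, hb⟩, fun n c hc => ?_⟩
    rw [AdicCompletion.evalₐ_mk] at hc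
    refine (AdicCompletion.evalₐ_mk _ _ _).trans ?_
    rw [Ideal.Quotient.eq] at hc ⊢
    show D (a (n + 1)) - D c ∈ m ^ n
    rw [← map_sub]
    exact hD n _ hc
  choose F hF using hex
  have hev : ∀ x n, ∃ c, AdicCompletion.evalₐ m n x = Ideal.Quotient.mk _ c := fun x n => by
    obtain ⟨c, hc⟩ := Ideal.Quotient.mk_surjective (AdicCompletion.evalₐ m n x); exact ⟨c, hc.symm⟩
  let L : AdicCompletion m A →ₗ[k] AdicCompletion m A :=
    { toFun := F
      map_add' := fun x y => AdicCompletion.ext_evalₐ fun n => by
        obtain ⟨a, ha⟩ := hev x (n + 1)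
        obtain ⟨b, hb⟩ := hev y (n + 1)
        rw [map_add, hF x n a ha, hF y n b hb, hF (x + y) n (a + b) (by rw [map_add, ha, hb, map_add]),
          map_add, map_add]
      map_smul' := fun r x => AdicCompletion.ext_evalₐ fun n => by
        obtain ⟨a, ha⟩ := hev x (n + 1)
        rw [RingHom.id_apply, hF (r • x) n (r • a) (by rw [AlgHom.map_smul_of_tower, ha]; rfl),
          AlgHom.map_smul_of_tower, hF x n a ha, Derivation.map_smul]
        rfl }
  refine ⟨Derivation.mk' L fun x y => AdicCompletion.ext_evalₐ fun n => ?_, fun a => AdicCompletion.ext_evalₐ fun n => ?_⟩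
  · obtain ⟨a, ha⟩ := hev x (n + 1)
    obtain ⟨b, hb⟩ := hev y (n + 1)
    have hlow : ∀ z c, AdicCompletion.evalₐ m (n + 1) z = Ideal.Quotient.mk _ c →
        AdicCompletion.evalₐ m n z = Ideal.Quotient.mk _ c := by
      intro z c hz
      obtain ⟨s, rfl⟩ := AdicCompletion.mk_surjective m A z
      rw [AdicCompletion.evalₐ_mk] at hz ⊢
      rw [Ideal.Quotient.eq] at hz ⊢
      have h1 := SModEq.sub_mem.1 (s.2 (show n ≤ n + 1 by omega))
      rw [smul_eq_mul, Ideal.mul_top] at h1
      simpa using add_mem h1 (Ideal.pow_le_pow_right (Nat.le_succ n) hz)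
    show AdicCompletion.evalₐ m n (F (x * y)) = AdicCompletion.evalₐ m n (x • F y + y • F x)
    rw [hF (x * y) n (a * b) (by rw [map_mul, ha, hb, map_mul]), Derivation.leibniz, map_add, map_add,
      smul_eq_mul, smul_eq_mul, smul_eq_mul, smul_eq_mul, map_mul, map_mul, map_mul, map_mul,
      hF x n a ha, hF y n b hb, hlow x a ha, hlow y b hb]
  · show AdicCompletion.evalₐ m n (F _) = _
    rw [hF (algebraMap A _ a) n a (by rw [AlgHom.commutes]; rfl), AlgHom.commutes]
    rfl

end Groth.Agent.S18156
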