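import Groth.Statements.S18158
import Groth.Agent.DeformNL.EtaleFrobLift

set_option autoImplicit false
universe u
open CategoryTheory CategoryTheory.Limits AlgebraicGeometry
open Lift

namespace Groth.Agent.S18158

/-- Let k be an algebraically closed field of characteristic p and q : Y → X an étale morphism to a
smooth k-scheme X. Suppose X has a W_2-lifting of its Frobenius: a scheme X~ flat over Spec W_2(k),
a morphism i : X → X~ making X the base change of X~ along Spec k → Spec W_2(k) (the residue map),
and an endomorphism F~ of X~ with i ∘ F_X = F~ ∘ i, F_X the absolute Frobenius. Then Y has one as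
well: there are a scheme Y~ flat over Spec W_2(k), a morphism j : Y → Y~ making Y the base change of
Y~ along the same map, and an endomorphism G~ of Y~ with j ∘ F_Y = G~ ∘ j. (The source speaks of an
étale cover Y → X of smooth varieties; its argument uses only that Y is étale over X and that X
lifts, so X is taken smooth over k and Y étale over X, with no integrality, separatedness or
quasi-compactness assumed.) -/
theorem result
    (p : ℕ) [Fact p.Prime] (k : Type u) [Field k] [IsAlgClosed k] [CharP k p]
    (X Y : Scheme.{u}) (f : X ⟶ Spec (CommRingCat.of k)) [Smooth f]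
    (q : Y ⟶ X) [AlgebraicGeometry.Etale q]
    [FrobSch.IsCharP X p] [FrobSch.IsCharP Y p]
    (Xl : Scheme.{u}) (g : Xl ⟶ Spec (CommRingCat.of (FrobAlg.W2 p k))) [Flat g]
    (i : X ⟶ Xl) (hsq : IsPullback i f g (Spec.map (CommRingCat.ofHom (FrobAlg.res p k))))
    (Fl : Xl ⟶ Xl) (hF : i ≫ Fl = FrobSch.frob X p ≫ i) :
    ∃ (Yl : Scheme.{u}) (gY : Yl ⟶ Spec (CommRingCat.of (FrobAlg.W2 p k))) (j : Y ⟶ Yl) (Gl : Yl ⟶ Yl),
      Flat gY ∧ IsPullback j (q ≫ f) gY (Spec.map (CommRingCat.ofHom (FrobAlg.res p k))) ∧
        j ≫ Gl = FrobSch.frob Y p ≫ j := by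
  have hs : Function.Surjective (FrobAlg.res p k) := fun a =>
    ⟨WittVector.truncate 2 (WittVector.teichmuller p a), by rw [FrobAlg.res_truncate, WittVector.teichmuller_coeff_zero]⟩
  have hc : IsClosedImmersion (Spec.map (CommRingCat.ofHom (FrobAlg.res p k))) :=
    IsClosedImmersion.spec_of_surjective _ hs
  have hker : PrimeSpectrum.zeroLocus (RingHom.ker (FrobAlg.res p k) : Set (FrobAlg.W2 p k)) = Set.univ := by
    rw [PrimeSpectrum.zeroLocus_eq_univ_iff, Groth.Agent.FrobW2.ker_res_perfect, SetLike.coe_subset_coe,
      Ideal.span_singleton_le_iff_mem]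
    exact ⟨2, by rw [pow_two]; exact Groth.Agent.FrobW2.p_mul_p p⟩
  have hsj : Surjective (Spec.map (CommRingCat.ofHom (FrobAlg.res p k))) := ⟨fun x => by
    have hx : x ∈ Set.range (PrimeSpectrum.comap (FrobAlg.res p k)) := by
      rw [range_comap_of_surjective _ _ hs, hker]; trivial
    exact hx⟩
  have : IsClosedImmersion i := MorphismProperty.of_isPullback (P := @IsClosedImmersion) hsq.flip hc
  have : Surjective i := MorphismProperty.of_isPullback (P := @Surjective) hsq.flip hsj
  exact Groth.Agent.DeformNL.exists_frobLift_of_etale p f q g i _ hsq Fl hF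

end Groth.Agent.S18158
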