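import Groth.Statements.S18161
import Groth.Agent.P1Deg.Basic
import Groth.Agent.AlgSpLib.EtLocalInst
import Mathlib

set_option autoImplicit false
universe u
open BSB

namespace Groth.Agent.S18161

open AlgebraicGeometry CategoryTheory Limits

set_option linter.style.haveILetI false
set_option backward.isDefEq.respectTransparency false
set_option backward.isDefEq.respectTransparency.types false

/-- Lifts of a morphism to `S` to `T`. -/
abbrev Lifts {T S Z : Scheme.{u}} (f : T ⟶ S) (x : Z ⟶ S) : Type u := {l : Z ⟶ T // l ≫ f = x}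

/-- The number of geometric points of a fibre of an étale quasi-compact morphism. -/
lemma card_lifts {T S : Scheme.{u}} (f : T ⟶ S) [Etale f] [QuasiCompact f] (Ω : Type u) [Field Ω] [IsAlgClosed Ω]
    (x : Spec (CommRingCat.of Ω) ⟶ S) :
    Finite (Lifts f x) ∧ Nat.card (Lifts f x) =
      Module.finrank (S.residueField (x (IsLocalRing.closedPoint Ω))) Γ(f.fiber (x (IsLocalRing.closedPoint Ω)), ⊤) := by
  set s := x (IsLocalRing.closedPoint Ω)
  let χ : S.residueField s ⟶ CommRingCat.of Ω := S.descResidueField (Scheme.stalkClosedPointTo x)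
  have hx : Spec.map χ ≫ S.fromSpecResidueField s = x :=
    Scheme.descResidueField_stalkClosedPointTo_fromSpecResidueField Ω S x
  letI : Algebra (S.residueField s) Ω := χ.hom.toAlgebra
  let Z := f.fiber s
  let p := f.fiberToSpecResidueField s
  haveI : Etale p := MorphismProperty.pullback_snd _ _ inferInstance
  haveI : QuasiCompact p := MorphismProperty.pullback_snd _ _ inferInstance
  haveI : LocallyQuasiFinite p := MorphismProperty.pullback_snd _ _ inferInstance
  haveI : IsFinite p := IsFinite.of_locallyQuasiFinite p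
  haveI : IsAffine Z := isAffine_of_isAffineHom p
  let φ : S.residueField s ⟶ Γ(Z, ⊤) := CommRingCat.ofHom (algebraMap (S.residueField s) Γ(Z, ⊤))
  have hφ : Spec.map φ = Z.isoSpec.inv ≫ p := by
    rw [← cancel_epi Z.isoSpec.hom, Iso.hom_inv_id_assoc]
    show Z.toSpecΓ ≫ Spec.map ((Scheme.ΓSpecIso _).inv ≫ p.appTop) = p
    rw [Spec.map_comp, ← Scheme.toSpecΓ_naturality_assoc, toSpecΓ_SpecMap_ΓSpecIso_inv, Category.comp_id]
  haveI : Algebra.Etale (S.residueField s) Γ(Z, ⊤) := by
    have h : Etale (Spec.map φ) := by rw [hφ]; infer_instance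
    rw [HasRingHomProperty.Spec_iff (P := @Etale)] at h
    exact h
  haveI : Module.Finite (S.residueField s) Γ(Z, ⊤) := Algebra.FormallyUnramified.finite_of_free _ _
  have hg : ∀ g : Γ(Z, ⊤) →ₐ[S.residueField s] Ω,
      (Spec.map (CommRingCat.ofHom g.toRingHom) ≫ Z.isoSpec.inv) ≫ p = Spec.map χ := fun g => by
    rw [Category.assoc, ← hφ, ← Spec.map_comp]
    exact congrArg Spec.map (CommRingCat.hom_ext (RingHom.ext g.commutes))
  let E : Lifts f x ≃ (Γ(Z, ⊤) →ₐ[S.residueField s] Ω) :=
    { toFun := fun l =>
        { (Spec.preimage (pullback.lift l.1 (Spec.map χ) (l.2.trans hx.symm) ≫ Z.isoSpec.hom)).hom with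
          commutes' := fun r => by
            have h : φ ≫ Spec.preimage (pullback.lift l.1 (Spec.map χ) (l.2.trans hx.symm) ≫ Z.isoSpec.hom) = χ := by
              apply Spec.map_injective
              rw [Spec.map_comp, Spec.map_preimage, hφ, Category.assoc, Iso.hom_inv_id_assoc]
              exact pullback.lift_snd _ _ _
            exact congrArg (fun ψ => ψ.hom r) h }
      invFun := fun g => ⟨(Spec.map (CommRingCat.ofHom g.toRingHom) ≫ Z.isoSpec.inv) ≫ f.fiberι s, by
        rw [← hx, ← hg g, Category.assoc _ p]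
        exact (Category.assoc _ _ _).trans (congrArg _ pullback.condition)⟩
      left_inv := fun l => by
        apply Subtype.ext
        show (Spec.map (Spec.preimage (pullback.lift l.1 (Spec.map χ) (l.2.trans hx.symm) ≫ Z.isoSpec.hom)) ≫
          Z.isoSpec.inv) ≫ f.fiberι s = l.1
        rw [Spec.map_preimage, Category.assoc, Category.assoc, Iso.hom_inv_id_assoc]
        exact pullback.lift_fst _ _ _
      right_inv := fun g => by
        refine AlgHom.ext fun c => ?_
        have e : ∀ H, pullback.lift ((Spec.map (CommRingCat.ofHom g.toRingHom) ≫ Z.isoSpec.inv) ≫ f.fiberι s)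
            (Spec.map χ) H = Spec.map (CommRingCat.ofHom g.toRingHom) ≫ Z.isoSpec.inv := fun H => by
          apply pullback.hom_ext
          · rw [pullback.lift_fst]; rfl
          · rw [pullback.lift_snd]; exact (hg g).symm
        show (Spec.preimage (pullback.lift ((Spec.map (CommRingCat.ofHom g.toRingHom) ≫ Z.isoSpec.inv) ≫ f.fiberι s)
          (Spec.map χ) _ ≫ Z.isoSpec.hom)).hom c = g c
        rw [e, Category.assoc, Iso.inv_hom_id, Category.comp_id, Spec.preimage_map]
        rfl }
  refine ⟨Finite.of_equiv _ E.symm, ?_⟩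
  rw [Nat.card_congr E, P1Deg.card_algHom_baseChange, Module.rankAtStalk_eq_finrank_of_free, Pi.natCast_apply]
  rfl

/-- Two lifts of a local scheme to an étale scheme agreeing at the closed point are equal. -/
lemma eq_of_closedPoint {T S Z : Scheme.{u}} (f : T ⟶ S) [Etale f] {R : CommRingCat.{u}} [IsLocalRing R]
    (l₁ l₂ : Spec R ⟶ T) (h : l₁ ≫ f = l₂ ≫ f) (m : Z ⟶ Spec R) (z : Z) (hz : m z = IsLocalRing.closedPoint R)
    (hm : m ≫ l₁ = m ≫ l₂) : l₁ = l₂ := by
  let g : pullback (pullback.diagonal f) (pullback.lift l₁ l₂ h) ⟶ Spec R := pullback.snd _ _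
  haveI : IsOpenImmersion g := MorphismProperty.pullback_snd _ _ inferInstance
  let j : Z ⟶ pullback (pullback.diagonal f) (pullback.lift l₁ l₂ h) := pullback.lift (m ≫ l₁) m (by
    apply pullback.hom_ext
    · simp
    · simp [hm])
  have hmem : IsLocalRing.closedPoint R ∈ g.opensRange := by
    refine ⟨j z, ?_⟩
    rw [← hz, ← Scheme.Hom.comp_apply]
    exact congrArg (fun q : Z ⟶ Spec R => q z) (pullback.lift_snd _ _ _)
  haveI : IsIso g := by
    haveI : Surjective g := ⟨fun y => by
      have ht := (IsLocalRing.closedPoint_mem_iff g.opensRange).1 hmem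
      show y ∈ g.opensRange
      rw [ht]; trivial⟩
    exact (isIso_iff_isOpenImmersion_and_epi_base g).2 ⟨inferInstance, (TopCat.epi_iff_surjective _).2 g.surjective⟩
  rw [← cancel_epi g]
  have e := pullback.condition (f := pullback.diagonal f) (g := pullback.lift l₁ l₂ h)
  have e1 := congrArg (fun q => q ≫ pullback.fst f f) e
  have e2 := congrArg (fun q => q ≫ pullback.snd f f) e
  simp only [Category.assoc, pullback.diagonal_fst, pullback.diagonal_snd, Category.comp_id, pullback.lift_fst,
    pullback.lift_snd] at e1 e2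
  exact e1.symm.trans e2

open AlgebraicGeometry CategoryTheory in
/-- Let f : T ⟶ S be an étale, quasi-compact, quasi-separated and universally closed morphism of
schemes, and suppose that for some natural number d the global functions of every scheme-theoretic
fibre of f form a d-dimensional vector space over the residue field of the corresponding point of S.
Then f is finite. (Separatedness of f is not assumed.) -/
theorem result {T S : Scheme.{u}} (f : T ⟶ S)
    [Etale f] [QuasiCompact f] [QuasiSeparated f] [UniversallyClosed f] (d : ℕ)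
    (hd : ∀ s : S, Module.finrank (S.residueField s) Γ(f.fiber s, ⊤) = d) :
    IsFinite f := by
  have hsep : IsSeparated f := IsSeparated.of_valuativeCriterion f fun sq => ⟨by
    rintro ⟨l₁, hl₁, hl₁'⟩ ⟨l₂, hl₂, hl₂'⟩
    suffices l₁ = l₂ by subst this; rfl
    let Ω := AlgebraicClosure sq.K
    let ι : sq.R →+* Ω := (algebraMap sq.K Ω).comp (algebraMap sq.R sq.K)
    have hι : Function.Injective ι :=
      (algebraMap sq.K Ω).injective.comp (IsFractionRing.injective sq.R sq.K)
    haveI : IsLocalRing ι.range := IsLocalRing.of_surjective' ι.rangeRestrict ι.rangeRestrict_surjective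
    obtain ⟨V, hV⟩ := LocalSubring.exists_le_valuationSubring (LocalSubring.mk ι.range)
    obtain ⟨hle, hloc⟩ := hV
    let ν : sq.R →+* V.toSubring := (Subring.inclusion hle).comp ι.rangeRestrict
    haveI : IsLocalHom ι.rangeRestrict := by
      refine ⟨fun a ha => ?_⟩
      let e := RingEquiv.ofBijective ι.rangeRestrict
        ⟨fun a b h => hι (congrArg Subtype.val h), ι.rangeRestrict_surjective⟩
      exact (isUnit_map_iff e a).1 ha
    haveI : IsLocalHom ν := by
      refine ⟨fun a ha => isUnit_of_map_unit ι.rangeRestrict a (hloc.map_nonunit _ ha)⟩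
    let R' : CommRingCat.{u} := CommRingCat.of V
    haveI : IsLocalRing R' := inferInstanceAs (IsLocalRing V)
    let ν' : CommRingCat.of sq.R ⟶ R' := CommRingCat.ofHom ν
    let x' : Spec R' ⟶ S := Spec.map ν' ≫ sq.i₂
    let gen : Spec (CommRingCat.of Ω) ⟶ Spec R' := Spec.map (CommRingCat.ofHom (algebraMap V Ω))
    let k' := AlgebraicClosure (IsLocalRing.ResidueField V)
    let cl : Spec (CommRingCat.of k') ⟶ Spec R' :=
      Spec.map (CommRingCat.ofHom (algebraMap (IsLocalRing.ResidueField V) k') |> fun a =>
        CommRingCat.ofHom (IsLocalRing.residue V) ≫ a)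
    have hcl : cl (IsLocalRing.closedPoint k') = IsLocalRing.closedPoint V := by
      refine PrimeSpectrum.ext ?_
      show Ideal.comap ((algebraMap (IsLocalRing.ResidueField V) k').comp (IsLocalRing.residue V))
        (IsLocalRing.maximalIdeal k') = IsLocalRing.maximalIdeal V
      rw [IsLocalRing.maximalIdeal_eq_bot (R := k'), ← RingHom.ker_eq_comap_bot,
        RingHom.ker_comp_of_injective _ (algebraMap (IsLocalRing.ResidueField V) k').injective]
      exact IsLocalRing.ker_residue
    let Sec := Lifts f x'
    let toCl : Sec → Lifts f (cl ≫ x') := fun σ => ⟨cl ≫ σ.1, by rw [Category.assoc, σ.2]⟩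
    let toGen : Sec → Lifts f (gen ≫ x') := fun σ => ⟨gen ≫ σ.1, by rw [Category.assoc, σ.2]⟩
    have hinj : Function.Injective toCl := fun a b e => Subtype.ext
      (eq_of_closedPoint f a.1 b.1 (a.2.trans b.2.symm) cl (IsLocalRing.closedPoint k') hcl (congrArg Subtype.val e))
    have hsurj : Function.Surjective toGen := by
      intro l
      have hE : ValuativeCriterion.Existence f := by
        have h := (inferInstance : UniversallyClosed f)
        rw [UniversallyClosed.eq_valuativeCriterion] at h
        exact h.1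
      obtain ⟨⟨L⟩⟩ := hE ⟨V, Ω, l.1, x', ⟨l.2⟩⟩
      exact ⟨⟨L.l, L.fac_right⟩, Subtype.ext L.fac_left⟩
    obtain ⟨hf1, hc1⟩ := card_lifts f k' (cl ≫ x')
    obtain ⟨hf2, hc2⟩ := card_lifts f Ω (gen ≫ x')
    rw [hd] at hc1 hc2
    haveI : Finite Sec := Finite.of_injective toCl hinj
    have hbij : Function.Bijective toGen := hsurj.bijective_of_nat_card_le
      ((Nat.card_le_card_of_injective toCl hinj).trans (hc1.trans hc2.symm).le)
    have e : (⟨Spec.map ν' ≫ l₁, by rw [Category.assoc, hl₁']⟩ : Sec) = ⟨Spec.map ν' ≫ l₂, by rw [Category.assoc, hl₂']⟩ := by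
      refine hbij.1 (Subtype.ext ?_)
      show gen ≫ Spec.map ν' ≫ l₁ = gen ≫ Spec.map ν' ≫ l₂
      have : gen ≫ Spec.map ν' = Spec.map (CommRingCat.ofHom (algebraMap sq.K Ω)) ≫
          Spec.map (CommRingCat.ofHom (algebraMap sq.R sq.K)) := by
        rw [← Spec.map_comp, ← Spec.map_comp]
        rfl
      rw [← Category.assoc, ← Category.assoc, this, Category.assoc, Category.assoc, hl₁, hl₂]
    refine eq_of_closedPoint f l₁ l₂ (hl₁'.trans hl₂'.symm) (Spec.map ν') (IsLocalRing.closedPoint V) ?_
      (congrArg Subtype.val e)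
    exact IsLocalRing.comap_closedPoint ν⟩
  haveI : IsProper f := { }
  exact IsFinite.of_isProper_of_locallyQuasiFinite f

end Groth.Agent.S18161
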