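import Groth.Statements.S18200
import Groth.Agent.LocImmLib.Nayak
import Groth.Agent.LocImmLib.FiniteFactor

set_option autoImplicit false
universe u
open LocImm

namespace Groth.Agent.S18200

open CategoryTheory AlgebraicGeometry
open Groth.Agent
set_option backward.isDefEq.respectTransparency false

open CategoryTheory AlgebraicGeometry in
/-- Let `f : X ⟶ Y` be a separated morphism of Noetherian schemes that is essentially quasi-finite:
essentially of finite type with every fibre the spectrum of a finite algebra over the residue field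
(equivalently, `f` locally quasi-finite in the fibrewise sense, which carries no finite-type
condition). Then `f` factors as a localizing immersion `i : X ⟶ Z` (localizing and injective on
points, `Z` Noetherian) followed by a finite morphism `h : Z ⟶ Y`. -/
theorem result {X Y : Scheme.{u}} [IsNoetherian X] [IsNoetherian Y] (f : X ⟶ Y) [IsSeparated f] [EssFT.EssFiniteType f] [LocallyQuasiFinite f] :
    ∃ (Z : Scheme.{u}) (i : X ⟶ Z) (h : Z ⟶ Y), IsNoetherian Z ∧ LocImm.IsLocImmersion i ∧ IsFinite h ∧ i ≫ h = f := by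
  obtain ⟨Y', k, p, hY', hk, h1, h2, h3, rfl⟩ := LocImmLib.factors f
  let W : Y'.Opens := p.quasiFiniteLocus
  have hW : ∀ x, k x ∈ W := fun x => by
    haveI := hk.isIso_stalkMap x
    have h : ((k ≫ p).stalkMap x).hom.QuasiFinite := (k ≫ p).quasiFiniteAt x
    rw [Scheme.Hom.stalkMap_comp, CommRingCat.hom_comp] at h
    exact (RingHom.QuasiFinite.respectsIso.cancel_right_isIso (p.stalkMap (k x)) (k.stalkMap x)).1
      h
  haveI : IsNoetherian (W : Scheme.{u}) := LocImmLib.noetherian_opens W
  haveI : LocallyQuasiFinite (W.ι ≫ p) := by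
    rw [← Scheme.Hom.quasiFiniteLocus_eq_top_iff, Scheme.Hom.quasiFiniteLocus_comp]
    exact W.ι_preimage_self
  haveI : QuasiCompact (W.ι ≫ p) := quasiCompact_of_noetherianSpace_source _
  obtain ⟨Z, i, h, hi, hh, hih⟩ := LocImmLib.exists_finite_factor_qcqs (W.ι ≫ p)
  haveI : IsNoetherian Z := by
    haveI := hh
    haveI : IsLocallyNoetherian Z := LocallyOfFiniteType.isLocallyNoetherian h
    haveI : CompactSpace Z := QuasiCompact.compactSpace_of_compactSpace h
    exact ⟨⟩
  let k' : X ⟶ (W : Scheme.{u}) := IsOpenImmersion.lift W.ι k (by rintro _ ⟨x, rfl⟩; rw [Scheme.Opens.range_ι]; exact hW x)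
  have hk' : k' ≫ W.ι = k := IsOpenImmersion.lift_fac _ _ _
  refine ⟨Z, k' ≫ i, h, inferInstance, ?_, hh, ?_⟩
  · exact ((LocImmLib.LI.of_comp_mono (hk'.symm ▸ hk)).comp (LocImmLib.LI.of_isOpenImmersion i)).isLocImmersion
  · rw [Category.assoc, hih, reassoc_of% hk']

end Groth.Agent.S18200
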