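import Groth.Statements.S18213
import Groth.Agent.LocImmLib.Ess
import Groth.Agent.FlatLocus.Basic

set_option autoImplicit false
universe u
open LocImm

namespace Groth.Agent.S18213

open CategoryTheory AlgebraicGeometry in
/-- Let `f : X ⟶ Y` be a separated morphism of Noetherian schemes, essentially of finite type. Then the
set of points `x` for which the composite `Spec O_{X,x} ⟶ X ⟶ Y` is flat is open, and if `f` is flat
it factors as a localizing immersion `i : X ⟶ Z` (localizing and injective on points, `Z`
Noetherian) followed by a separated flat morphism of finite type `h : Z ⟶ Y`. -/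
theorem result {X Y : Scheme.{u}} [IsNoetherian X] [IsNoetherian Y] (f : X ⟶ Y) [IsSeparated f] [EssFT.EssFiniteType f] :
    IsOpen {x : X | Flat (X.fromSpecStalk x ≫ f)} ∧
      (Flat f → ∃ (Z : Scheme.{u}) (i : X ⟶ Z) (h : Z ⟶ Y), IsNoetherian Z ∧ LocImm.IsLocImmersion i ∧ IsSeparated h ∧ LocallyOfFiniteType h ∧ QuasiCompact h ∧ Flat h ∧ i ≫ h = f) := by
  have h := LocImmLib.localizable (P := @Flat.{u})
    (fun i f _ _ hi hf => by
      haveI := hf
      haveI := (LocImmLib.LI.of_isLocImmersion hi).flat
      exact inferInstanceAs (Flat (i ≫ f)))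
    (fun f _ _ h => Flat.of_stalkMap f fun x => (LocImmLib.flat_fromSpecStalk_comp_iff f x).1 (h x))
    (fun f _ _ => by
      haveI := LocallyOfFinitePresentation.iff_locallyOfFiniteType.2 ‹LocallyOfFiniteType f›
      simp_rw [LocImmLib.flat_fromSpecStalk_comp_iff]
      exact FlatLocus.isOpen_flat_locus f) f
  exact ⟨h.2.1, h.2.2⟩

end Groth.Agent.S18213
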