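import Groth.Statements.S18231
import Groth.Agent.MiscTwoH99.MagLift

set_option autoImplicit false
universe u
open CategoryTheory MonoidalCategory CartesianMonoidalCategory AlgebraicGeometry Opposite
open Magnet

namespace Groth.Agent.S18231

/-- Let S be a scheme, M a finitely generated abelian group, N a submonoid of M, and let X, Y be
S-schemes with actions of the diagonalizable group scheme D(M)_S and f : X → Y an equivariant
S-morphism which is smooth (formally smooth and locally of finite presentation). Then f^N : X^N →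
Y^N is formally smooth as a transformation of functors on S-schemes: for every ring A, ideal I of A
with I² = 0 and structure morphism Spec A → S, writing T = Spec (A/I) ⊂ T' = Spec A, every x in
X^N(T) and y in Y^N(T') with f^N(x) = y|_T admit some l in X^N(T') with l|_T = x and f^N(l) = y.
(Stated for schemes; the published statement is for algebraic spaces over S.) -/
theorem result (S : Scheme.{u}) (M : Type) [AddCommGroup M] [AddGroup.FG M]
    (N : AddSubmonoid M) {X Y : Over S} (aX : Magnet.MonAct (Magnet.AMonS S M) X)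
    (aY : Magnet.MonAct (Magnet.AMonS S M) Y) (f : X ⟶ Y) (hf : Magnet.MonAct.IsEquivariant aX aY f)
    [Smooth f.left] (A : Type u) [CommRing A] (I : Ideal A) (hI : I ^ 2 = ⊥)
    (str : Spec (CommRingCat.of A) ⟶ S)
    (x : (Magnet.attr aX N).obj (op (Over.mk (Spec.map (CommRingCat.ofHom (Ideal.Quotient.mk I)) ≫ str))))
    (y : (Magnet.attr aY N).obj (op (Over.mk str)))
    (h : (Magnet.MonAct.eqvHom.postcomp (Magnet.subAct S M N) f hf).app _ x =
      (Magnet.attr aY N).map (Over.homMk (Spec.map (CommRingCat.ofHom (Ideal.Quotient.mk I))) rfl :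
        Over.mk (Spec.map (CommRingCat.ofHom (Ideal.Quotient.mk I)) ≫ str) ⟶ Over.mk str).op y) :
    ∃ l : (Magnet.attr aX N).obj (op (Over.mk str)),
      (Magnet.attr aX N).map (Over.homMk (Spec.map (CommRingCat.ofHom (Ideal.Quotient.mk I))) rfl :
        Over.mk (Spec.map (CommRingCat.ofHom (Ideal.Quotient.mk I)) ≫ str) ⟶ Over.mk str).op l = x ∧
      (Magnet.MonAct.eqvHom.postcomp (Magnet.subAct S M N) f hf).app _ l = y := by
  let q := Ideal.Quotient.mk I
  let G := Multiplicative ↥N
  let π : MonoidAlgebra A G →+* MonoidAlgebra (A ⧸ I) G := MonoidAlgebra.mapRingHom G q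
  have hπ : Function.Surjective π := MonoidAlgebra.map_surjective q.toAddMonoidHom Ideal.Quotient.mk_surjective
  have hq : ∀ a b : A, q a = 0 → q b = 0 → a * b = 0 := fun a b ha hb => by
    have hab : a * b ∈ I ^ 2 := by
      rw [pow_two]
      exact Ideal.mul_mem_mul (Ideal.Quotient.eq_zero_iff_mem.mp ha) (Ideal.Quotient.eq_zero_iff_mem.mp hb)
    rwa [hI, Ideal.mem_bot] at hab
  let str₀ := Spec.map (CommRingCat.ofHom q) ≫ str
  let QN := MiscTwoH99.MagAvg.Q (K := ↥N) str
  haveI := MiscTwoH99.MagAvg.isIso_jQ (K := ↥N) str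
  haveI := MiscTwoH99.MagAvg.isIso_jQ (K := ↥N) str₀
  have e : (MiscTwoH99.MagAvg.Q (K := ↥N) str₀).hom = (MiscTwoH99.MagAvg.W₀ QN.hom π).hom :=
    (MiscTwoH99.MagAvg.qmap_aux q rfl).symm
  let u : MiscTwoH99.MagAvg.W₀ QN.hom π ⟶ MiscTwoH99.MagAvg.Q (K := ↥N) str₀ := Over.homMk (𝟙 _) ((Category.id_comp _).trans e)
  haveI : IsIso u := by
    haveI : IsIso ((Over.forget S).map u) := inferInstanceAs (IsIso (𝟙 _))
    exact isIso_of_reflects_iso u (Over.forget S)
  obtain ⟨l, hl, hl1, hl2⟩ := MiscTwoH99.MagLift.exists_eqv_lift_of_iso QN.hom π hπ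
    (fun a b => MiscTwoH99.MagAvg.mul_eq_zero_of_map q hq) aX aY f hf
    (MiscTwoH99.MagAvg.jQ str) (u ≫ MiscTwoH99.MagAvg.jQ str₀)
    (AMonS S N ◁ (MiscTwoH99.MagAvg.hm q rfl : MiscTwoH99.MagAvg.W str₀ ⟶ MiscTwoH99.MagAvg.W str)) (by
      rw [Category.assoc, MiscTwoH99.MagAvg.jQ_whiskerLeft q rfl (MiscTwoH99.MagAvg.qmap_aux q rfl), ← Category.assoc]
      refine congrArg (· ≫ _) (Over.OverMorphism.ext ?_)
      exact (Category.id_comp _).symm)
    ((subAct S M N).prod (MonAct.trivial (AMonS S M) (MiscTwoH99.MagAvg.W str)))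
    ((subAct S M N).prod (MonAct.trivial (AMonS S M) (MiscTwoH99.MagAvg.W str₀))).act
    (MonAct.prod_trivial_act_whiskerLeft (subAct S M N) _) x.1 x.2 y.1 y.2 (congrArg Subtype.val h)
  exact ⟨⟨l, hl⟩, Subtype.ext hl1, Subtype.ext hl2⟩

end Groth.Agent.S18231
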