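import Groth.Statements.S18233
import Groth.Agent.MiscTwoH99.LfpRep
import Groth.Agent.S18231

set_option autoImplicit false
universe u
open CategoryTheory MonoidalCategory CartesianMonoidalCategory AlgebraicGeometry Opposite
open Magnet

namespace Groth.Agent.S18233

/-- Let S be a scheme, M a finitely generated abelian group, N a submonoid of M, X and Y schemes over S
with actions of the diagonalizable group scheme D(M)_S, and f : X → Y a smooth equivariant
S-morphism. If the attractors X^N and Y^N are represented by S-schemes Z_X and Z_Y, and j : Z_X →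
Z_Y is the S-morphism that corresponds to f^N : X^N → Y^N under the two representing bijections,
then j is smooth. (Stated for schemes; the published statement is for algebraic spaces over S and
representability by algebraic spaces.) -/
theorem result (S : Scheme.{u}) (M : Type) [AddCommGroup M] [AddGroup.FG M]
    (N : AddSubmonoid M) {X Y : Over S} (aX : Magnet.MonAct (Magnet.AMonS S M) X)
    (aY : Magnet.MonAct (Magnet.AMonS S M) Y) (f : X ⟶ Y) (hf : Magnet.MonAct.IsEquivariant aX aY f)
    [Smooth f.left] {ZX ZY : Over S} (eX : (Magnet.attr aX N).RepresentableBy ZX) (eY : (Magnet.attr aY N).RepresentableBy ZY)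
    (j : ZX ⟶ ZY) (hj : ∀ (T : Over S) (z : T ⟶ ZX),
      eY.homEquiv (z ≫ j) = (Magnet.MonAct.eqvHom.postcomp (Magnet.subAct S M N) f hf).app (op T) (eX.homEquiv z)) :
    Smooth j.left := by
  haveI := MiscTwoH99.LfpRep.isAffineHom_AMonS S M
  haveI := MiscTwoH99.LfpRep.isAffineHom_AMonS S ↥N
  haveI : LocallyOfFinitePresentation f.left := ((Groth.Agent.S1488.result f.left).mp ‹_›).1
  refine (Groth.Agent.S1488.result j.left).mpr
    ⟨MiscTwoH99.LfpRep.lfp_of_postcomp (Magnet.subAct S M N) aX aY f hf eX eY j hj, fun A _ I hI a b w => ?_⟩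
  let q := Spec.map (CommRingCat.ofHom (Ideal.Quotient.mk I))
  let str := b ≫ ZY.hom
  let b' : Over.mk str ⟶ ZY := Over.homMk b rfl
  let a' : Over.mk (q ≫ str) ⟶ ZX := Over.homMk a (by
    show a ≫ ZX.hom = q ≫ b ≫ ZY.hom
    rw [← Over.w j, ← Category.assoc, ← w, Category.assoc])
  let t : Over.mk (q ≫ str) ⟶ Over.mk str := Over.homMk q rfl
  have hw : a' ≫ j = t ≫ b' := Over.OverMorphism.ext w.symm
  obtain ⟨l, hl1, hl2⟩ := Groth.Agent.S18231.result S M N aX aY f hf A I hI str (eX.homEquiv a') (eY.homEquiv b') (by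
    rw [← hj _ a', hw, eY.homEquiv_comp])
  refine ⟨(eX.homEquiv.symm l).left, congrArg Over.Hom.left (show t ≫ eX.homEquiv.symm l = a' from
    eX.homEquiv.injective ?_), congrArg Over.Hom.left (show eX.homEquiv.symm l ≫ j = b' from eY.homEquiv.injective ?_)⟩
  · rw [eX.homEquiv_comp, Equiv.apply_symm_apply]
    exact hl1
  · rw [hj _ (eX.homEquiv.symm l), Equiv.apply_symm_apply]
    exact hl2

end Groth.Agent.S18233
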