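import Groth.Statements.S18237
import Groth.Agent.S18284
import Groth.Agent.S18285
import Groth.Agent.S18289
import Groth.Agent.S18294
import Groth.Agent.S18302
import Groth.Agent.H28.MagnetPure
import Groth.Agent.MiscTwoH99.AffSheafDesc
-- import your own Groth.Agent.* helpers here

set_option autoImplicit false
universe u
open CategoryTheory MonoidalCategory CartesianMonoidalCategory AlgebraicGeometry Opposite
open Magnet

namespace Groth.Agent.S18237

/-- Let S be a quasi-compact scheme, M a finitely generated abelian group, X a scheme which is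
quasi-compact, separated and locally of finite presentation over S with an action of the
diagonalizable group scheme D(M)_S, and N a submonoid of M with subgroup of invertible elements Z =
N*. Assume X admits an S-affine N*-FPR atlas: an equivariant, étale and surjective g : U → X with U
affine over S such that, for the actions restricted along D(M/Z)_S → D(M)_S, the square of
fixed-point subfunctors U^{D(M/Z)} → X^{D(M/Z)} over U → X is cartesian. Then there is a finitely
generated submonoid N_c of N with the same invertible elements as N such that the canonical map of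
attractors X^{N_c} → X^N is an isomorphism of functors. (Stated for schemes, the published statement
being for algebraic spaces. The published statement assumes only M finitely generated and X → S
quasi-compact and separated; it fails without X locally of finite presentation over S or without S
quasi-compact, so this row assumes both, and it assumes an S-affine N*-FPR atlas, which the
published argument obtains from a general existence result.) -/
theorem result (S : Scheme.{u}) [CompactSpace S] (M : Type)
    [AddCommGroup M] [AddGroup.FG M] {X : Over S} [QuasiCompact X.hom] [IsSeparated X.hom]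
    [LocallyOfFinitePresentation X.hom] (a : Magnet.MonAct (Magnet.AMonS S M) X) (N : AddSubmonoid M)
    (Z : AddSubgroup M) (hZ : ∀ m : M, m ∈ Z ↔ (m ∈ N ∧ -m ∈ N)) (U : Over S) [IsAffineHom U.hom]
    (aU : Magnet.MonAct (Magnet.AMonS S M) U) (g : U ⟶ X) (hg : Magnet.MonAct.IsEquivariant aU a g)
    [Etale g.left] [Surjective g.left]
    (hgZ : Magnet.MonAct.IsEquivariant (aU.restrict (Magnet.AMonS.map S (QuotientAddGroup.mk' Z))) (a.restrict (Magnet.AMonS.map S (QuotientAddGroup.mk' Z))) g)
    (hfpr : IsPullback (Magnet.MonAct.fixedPsh.map g hgZ)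
      (Magnet.MonAct.fixedPshι (aU.restrict (Magnet.AMonS.map S (QuotientAddGroup.mk' Z))))
      (Magnet.MonAct.fixedPshι (a.restrict (Magnet.AMonS.map S (QuotientAddGroup.mk' Z)))) (yoneda.map g)) :
    ∃ (Nc : AddSubmonoid M) (h : Nc ≤ N), Nc.FG ∧ (∀ m : M, (m ∈ Nc ∧ -m ∈ Nc) ↔ (m ∈ N ∧ -m ∈ N)) ∧
      IsIso (Magnet.attrMap a h) := by
  classical
  haveI : LocallyOfFiniteType U.hom := by rw [← Over.w g]; infer_instance
  haveI : IsSeparated U.hom := inferInstance
  obtain ⟨E, hE⟩ := Groth.Agent.H28.MagnetAff.exists_degrees_global aU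
  haveI : Module.Finite ℤ M := Module.Finite.iff_addGroup_fg.mpr inferInstance
  obtain ⟨gen, hgen⟩ : Z.toAddSubmonoid.FG :=
    (AddSubgroup.fg_iff_addSubmonoid_fg Z).mp
      ((Submodule.fg_iff_addSubgroup_fg Z.toIntSubmodule).mp (IsNoetherian.noetherian _))
  let Nc := AddSubmonoid.closure (↑(E.filter (· ∈ N) ∪ gen) : Set M)
  have hgenN : ∀ m ∈ gen, m ∈ N := fun m hm =>
    ((hZ m).mp (show m ∈ Z.toAddSubmonoid from hgen ▸ AddSubmonoid.subset_closure hm)).1
  have hle : Nc ≤ N := AddSubmonoid.closure_le.mpr fun m hm => by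
    rcases Finset.mem_union.mp (Finset.mem_coe.mp hm) with h | h
    · exact (Finset.mem_filter.mp h).2
    · exact hgenN m h
  have hZc : ∀ m ∈ Z, m ∈ Nc := fun m hm => by
    have h1 : m ∈ AddSubmonoid.closure (gen : Set M) := hgen.symm ▸ hm
    exact AddSubmonoid.closure_mono (by simp) h1
  refine ⟨Nc, hle, ⟨_, rfl⟩, fun m => ⟨fun h => ⟨hle h.1, hle h.2⟩, fun h =>
    ⟨hZc m ((hZ m).mpr h), hZc (-m) ((hZ (-m)).mpr ⟨h.2, by rw [neg_neg]; exact h.1⟩)⟩⟩, ?_⟩
  have hQ : Magnet.IsFace N Z.toAddSubmonoid := by
    refine ⟨fun m hm => ((hZ m).mp hm).1, fun x hx y hy hxy => ?_⟩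
    have h1 := ((hZ (x + y)).mp hxy).2
    exact ⟨(hZ x).mpr ⟨hx, by simpa [add_comm] using N.add_mem hy h1⟩,
      (hZ y).mpr ⟨hy, by simpa [add_comm] using N.add_mem hx h1⟩⟩
  have hsurj : ∀ T : Over S, Function.Surjective (fun φ => (Magnet.attrMap a hle).app (op T) φ) := by
    intro T φ
    let aX₀ : AlgGrp.Action (Red.DS S M) X := (a : Magnet.MonAct (Red.DS S M) X).toAction
    let aU₀ : AlgGrp.Action (Red.DS S M) U := (aU : Magnet.MonAct (Red.DS S M) U).toAction
    obtain ⟨dX, hdX⟩ := Groth.Agent.S18289.result S M Z X aX₀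
    obtain ⟨dU, hdU⟩ := Groth.Agent.S18289.result S M Z U aU₀
    replace hdX : dX.hom ≫ Magnet.MonAct.fixedPshι _ = Magnet.attrToX a Z.toAddSubmonoid := hdX
    replace hdU : dU.hom ≫ Magnet.MonAct.fixedPshι _ = Magnet.attrToX aU Z.toAddSubmonoid := hdU
    let ψ := (Magnet.attrFace a hQ).app (op T) φ
    let xp : T ⟶ X := (Magnet.MonAct.fixedPshι _).app (op T) (dX.hom.app (op T) ψ)
    let P : Over S := Over.mk (Limits.pullback.fst xp.left g.left ≫ T.hom)
    let p : P ⟶ T := Over.homMk (Limits.pullback.fst xp.left g.left) rfl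
    let u : P ⟶ U := Over.homMk (Limits.pullback.snd xp.left g.left) (by
      show _ ≫ U.hom = Limits.pullback.fst xp.left g.left ≫ T.hom
      rw [← Over.w g, ← Category.assoc, ← Limits.pullback.condition, Category.assoc, Over.w xp])
    haveI : Flat p.left := inferInstanceAs (Flat (Limits.pullback.fst xp.left g.left))
    haveI : LocallyOfFinitePresentation p.left :=
      inferInstanceAs (LocallyOfFinitePresentation (Limits.pullback.fst xp.left g.left))
    haveI : Surjective p.left := inferInstanceAs (Surjective (Limits.pullback.fst xp.left g.left))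
    have hpu : p ≫ xp = u ≫ g := Over.OverMorphism.ext Limits.pullback.condition
    have hp := hfpr.map ((CategoryTheory.evaluation _ _).obj (op P))
    rw [CategoryTheory.Limits.Types.isPullback_iff] at hp
    obtain ⟨χ, -, hχ⟩ := hp.2.2 ((Magnet.MonAct.fixedPsh _).map p.op (dX.hom.app (op T) ψ)) u hpu
    let ψU : (Magnet.attr aU Z.toAddSubmonoid).obj (op P) := dU.inv.app (op P) χ
    have hψU : (Magnet.MonAct.eqvHom.postcomp (Magnet.subAct S M Z.toAddSubmonoid) g hg).app _ ψU =
        (Magnet.attr a Z.toAddSubmonoid).map p.op ψ := by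
      apply Groth.Agent.S18285.result S M X a Z.toAddSubmonoid P
      show (Magnet.attrToX a _).app (op P) _ = (Magnet.attrToX a _).app (op P) _
      have h1 : (Magnet.attrToX aU Z.toAddSubmonoid).app (op P) ψU = u := by
        rw [← hdU]
        exact (congrArg (fun v => (Magnet.MonAct.fixedPshι _).app (op P) v)
          (ConcreteCategory.congr_hom (dU.inv_hom_id_app (op P)) χ)).trans hχ
      have h2 : (Magnet.attrToX a Z.toAddSubmonoid).app (op T) ψ = xp := by
        rw [← hdX]
        rfl
      rw [NatTrans.naturality_apply, h2]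
      show lift _ _ ≫ (ψU.1 ≫ g) = p ≫ xp
      rw [hpu, ← h1]
      exact (Category.assoc _ _ _).symm
    have hpb0 : IsPullback (Magnet.MonAct.eqvHom.postcomp (Magnet.subAct S M N) g hg) (Magnet.attrFace aU hQ)
        (Magnet.attrFace a hQ) (Magnet.MonAct.eqvHom.postcomp (Magnet.subAct S M Z.toAddSubmonoid) g hg) :=
      Groth.Agent.S18302.result S M X U aX₀ aU₀ g hg N Z.toAddSubmonoid hQ (Or.inr ⟨inferInstance, inferInstance⟩)
    have hpb := hpb0.map ((CategoryTheory.evaluation _ _).obj (op P))
    rw [CategoryTheory.Limits.Types.isPullback_iff] at hpb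
    have hnat : (Magnet.attrFace a hQ).app (op P) ((Magnet.attr a N).map p.op φ) =
        (Magnet.attr a Z.toAddSubmonoid).map p.op ψ := Subtype.ext (whisker_exchange_assoc _ _ _).symm
    obtain ⟨χN, hχN, -⟩ := hpb.2.2 ((Magnet.attr a N).map p.op φ) ψU (hnat.trans hψU.symm)
    obtain ⟨χc, hχc⟩ := hE N Nc (fun m hm => ⟨fun h => AddSubmonoid.subset_closure (by simp [hm, h]), fun h => hle h⟩)
      P ((Magnet.attrToX aU N).app (op P) χN) ⟨χN, rfl⟩
    have hχ' : (Magnet.attrMap aU hle).app (op P) χc = χN := by
      apply Groth.Agent.S18285.result S M U aU N P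
      refine Eq.trans ?_ hχc
      show lift _ _ ≫ (Magnet.AMonS.map S (AddSubmonoid.inclusion hle) ▷ P) ≫ χc.1 = lift _ _ ≫ χc.1
      rw [lift_whiskerRight_assoc, Category.assoc, IsMonHom.one_hom]
    let φc' := (Magnet.MonAct.eqvHom.postcomp (Magnet.subAct S M Nc) g hg).app (op P) χc
    have hφc' : (Magnet.attrMap a hle).app (op P) φc' = (Magnet.attr a N).map p.op φ := by
      refine Eq.trans ?_ hχN
      rw [← hχ']
      exact Subtype.ext (Category.assoc _ _ _).symm
    have hinj := Groth.Agent.S18284.result S M X a hle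
    have hsF : ∀ L : AddSubmonoid M, Presieve.IsSheafFor (Magnet.attr a L) (Presieve.singleton p) := fun L =>
      (Presieve.isSheafFor_iff_generate _).mpr ((isSheaf_iff_isSheaf_of_type _ _).mp
        (Groth.Agent.S18294.result S _ _ X (Magnet.subAct S M L) a) _ (Groth.Agent.MiscTwoH99.AffSheafDesc.singleton_mem p))
    obtain ⟨φc, hφc, -⟩ := Presieve.isSheafFor_singleton.mp (hsF Nc) φc' fun {V} p₁ p₂ h => by
      apply hinj V
      show (Magnet.attrMap a hle).app (op V) _ = (Magnet.attrMap a hle).app (op V) _
      rw [NatTrans.naturality_apply, NatTrans.naturality_apply, hφc', ← Functor.map_comp_apply,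
        ← Functor.map_comp_apply, ← op_comp, ← op_comp, h]
    refine ⟨φc, (hsF N).isSeparatedFor.ext fun V k hk => ?_⟩
    cases hk
    show (Magnet.attr a N).map p.op ((Magnet.attrMap a hle).app (op T) φc) = (Magnet.attr a N).map p.op φ
    rw [← NatTrans.naturality_apply, hφc, hφc']
  haveI : ∀ T, IsIso ((Magnet.attrMap a hle).app T) := fun T => (CategoryTheory.isIso_iff_bijective _).mpr
    ⟨Groth.Agent.S18284.result S M X a hle (unop T), hsurj (unop T)⟩
  exact NatIso.isIso_of_isIso_app _

end Groth.Agent.S18237
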