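import Groth.Statements.S18239
import Groth.Agent.MiscTwoH99.SmoothGraded

set_option autoImplicit false
universe u
open DiagMon

namespace Groth.Agent.S18239

/-- Let R be a commutative ring, N a fine and sharp commutative monoid (finitely generated,
cancellative, and 0 its only invertible element) and A a commutative R-algebra graded by N which is
smooth over R. Then A is isomorphic, as an algebra over its degree-zero part A_0, to the symmetric
algebra of a finitely generated projective A_0-module; that is, Spec A → Spec A_0 is a vector bundle
whose zero section is the closed subscheme Spec A_0 cut out by the elements of non-zero degree.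
(This is the affine, graded form of the statement that for a smooth S-scheme X with a
Zariski-locally linearizable action of a diagonalizable group D(M)_S and a finitely generated
submonoid N of M the map from the attractor X^N to X^{N*} is a vector bundle: here the base is
affine, N* = 0, and X = Spec A equals its own attractor X^N, an N-grading of A being an action of
the monoid scheme of N; the fixed-point scheme X^0 is Spec A_0.) -/
theorem result (R : Type u) [CommRing R] (A : Type u)
    [CommRing A] [Algebra R A] (N : Type) [AddCommMonoid N] [DecidableEq N] [AddMonoid.FG N] [IsCancelAdd N]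
    (hsharp : ∀ n : N, IsAddUnit n → n = 0) (𝒜 : N → Submodule R A) [GradedAlgebra 𝒜]
    [Algebra.Smooth R A] :
    ∃ (P : Type u) (_ : AddCommGroup P) (_ : Module (𝒜 0) P), Module.Finite (𝒜 0) P ∧
      Module.Projective (𝒜 0) P ∧ Nonempty (A ≃ₐ[𝒜 0] SymmetricAlgebra (𝒜 0) P) := by
  have hz : ∀ x y : N, x + y = 0 → x = 0 := fun x y h =>
    hsharp x ⟨⟨x, y, h, by rw [add_comm]; exact h⟩, rfl⟩
  let π := MiscTwoH99.SmoothGraded.projZero 𝒜 hz
  obtain ⟨s, hs, hsurj⟩ := MiscTwoH99.SmoothGraded.exists_section 𝒜 hz hsharp
  refine ⟨(MiscTwoH99.SmoothGraded.aug π).Cotangent, inferInstance, inferInstance,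
    MiscTwoH99.SmoothGraded.cotangent_finite (R := R) π,
    MiscTwoH99.SmoothGraded.cotangent_projective (R := R) π, ⟨(AlgEquiv.ofBijective _
      ⟨MiscTwoH99.SmoothGraded.injective_lift (R := R) π s hs, hsurj⟩).symm⟩⟩

end Groth.Agent.S18239
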