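import Groth.Statements.S18240
import Groth.Agent.MiscTwoH99.MagLift
import Groth.Agent.MiscTwoH99.FacePO

set_option autoImplicit false
universe u
open CategoryTheory MonoidalCategory CartesianMonoidalCategory AlgebraicGeometry Opposite
open Magnet

namespace Groth.Agent.S18240

/-- Let S be a scheme, M a finitely generated abelian group, N a submonoid of M and F a face of N (x + y
∈ F iff x ∈ F and y ∈ F), and X an S-scheme with an action of the diagonalizable group scheme D(M)_S
such that X → S is smooth. Then the canonical map X^N → X^F (restriction along the closed immersion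
A(F) → A(N) of the face) is formally smooth as a transformation of functors on S-schemes: for every
ring A, ideal I with I² = 0 and Spec A → S, writing T = Spec (A/I) ⊂ T' = Spec A, every x in X^N(T)
and y in X^F(T') with the same image in X^F(T) admit some l in X^N(T') with l|_T = x mapping to y.
(Stated for schemes; the published statement is for algebraic spaces over S.) -/
theorem result (S : Scheme.{u}) (M : Type) [AddCommGroup M] [AddGroup.FG M]
    {N F : AddSubmonoid M} (hF : Magnet.IsFace N F) {X : Over S} [Smooth X.hom]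
    (a : Magnet.MonAct (Magnet.AMonS S M) X) (A : Type u) [CommRing A] (I : Ideal A) (hI : I ^ 2 = ⊥)
    (str : Spec (CommRingCat.of A) ⟶ S)
    (x : (Magnet.attr a N).obj (op (Over.mk (Spec.map (CommRingCat.ofHom (Ideal.Quotient.mk I)) ≫ str))))
    (y : (Magnet.attr a F).obj (op (Over.mk str)))
    (h : (Magnet.attrFace a hF).app _ x = (Magnet.attr a F).map (Over.homMk (Spec.map (CommRingCat.ofHom (Ideal.Quotient.mk I))) rfl :
        Over.mk (Spec.map (CommRingCat.ofHom (Ideal.Quotient.mk I)) ≫ str) ⟶ Over.mk str).op y) :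
    ∃ l : (Magnet.attr a N).obj (op (Over.mk str)),
      (Magnet.attr a N).map (Over.homMk (Spec.map (CommRingCat.ofHom (Ideal.Quotient.mk I))) rfl :
        Over.mk (Spec.map (CommRingCat.ofHom (Ideal.Quotient.mk I)) ≫ str) ⟶ Over.mk str).op l = x ∧ (Magnet.attrFace a hF).app _ l = y := by
  let q := Ideal.Quotient.mk I
  have hq : Function.Surjective q := Ideal.Quotient.mk_surjective
  have hq2 : ∀ u v : A, q u = 0 → q v = 0 → u * v = 0 := fun u v hu hv => by
    have hab : u * v ∈ I ^ 2 := by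
      rw [pow_two]
      exact Ideal.mul_mem_mul (Ideal.Quotient.eq_zero_iff_mem.mp hu) (Ideal.Quotient.eq_zero_iff_mem.mp hv)
    rwa [hI, Ideal.mem_bot] at hab
  have hJ : ∀ u v, MiscTwoH99.FacePO.pr hF q u = 0 → MiscTwoH99.FacePO.pr hF q v = 0 → u * v = 0 := fun u v hu hv =>
    MiscTwoH99.MagAvg.mul_eq_zero_of_map q hq2 (Ideal.Quotient.eq_zero_iff_mem.mp hu).1
      (Ideal.Quotient.eq_zero_iff_mem.mp hv).1
  obtain ⟨k, hk₂, hk₁⟩ := MiscTwoH99.FacePO.exists_desc hF q str hq x.1 y.1 (congrArg Subtype.val h)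
  obtain ⟨aP, eN, eF, er⟩ := MiscTwoH99.FacePO.exists_act hF q str hq (M := M)
  have hk : aP.act ≫ k = AMonS S M ◁ k ≫ a.act := by
    refine MiscTwoH99.FacePO.hom_ext_tensor hF q str hq ?_ ?_
    · rw [← Category.assoc, ← eN, Category.assoc, hk₂, ← MonoidalCategory.whiskerLeft_comp_assoc, hk₂]
      exact x.2
    · rw [← Category.assoc, ← eF, Category.assoc, hk₁, ← MonoidalCategory.whiskerLeft_comp_assoc, hk₁]
      exact y.2
  haveI : Smooth (toUnit X).left := inferInstanceAs (Smooth X.hom)
  haveI := MiscTwoH99.MagAvg.isIso_jQ (K := ↥N) str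
  obtain ⟨l, hl, hl1, -⟩ := MiscTwoH99.MagLift.exists_eqv_lift_of_iso (MiscTwoH99.MagAvg.Q (K := ↥N) str).hom
    (MiscTwoH99.FacePO.pr hF q) Ideal.Quotient.mk_surjective hJ a
    (MonAct.trivial (AMonS S M) (𝟙_ (Over S))) (toUnit X) (toUnit_unique _ _)
    (MiscTwoH99.MagAvg.jQ str) (𝟙 (MiscTwoH99.FacePO.PP hF q str)) (MiscTwoH99.FacePO.rP hF q str)
    (Category.id_comp _).symm ((subAct S M N).prod (MonAct.trivial (AMonS S M) (MiscTwoH99.MagAvg.W str)))
    aP.act er k hk (toUnit _) (toUnit_unique _ _) (toUnit_unique _ _)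
  refine ⟨⟨l, hl⟩, Subtype.ext ?_, Subtype.ext ?_⟩
  · show AMonS S ↥N ◁ MiscTwoH99.MagAvg.red str q ≫ l = x.1
    rw [← MiscTwoH99.FacePO.iN_rP hF q str, Category.assoc, hl1, hk₂]
  · show AMonS.faceMap S hF ▷ MiscTwoH99.MagAvg.W str ≫ l = y.1
    rw [← MiscTwoH99.FacePO.iF_rP hF q str, Category.assoc, hl1, hk₁]

end Groth.Agent.S18240
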