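import Groth.Statements.S18241
import Groth.Agent.MiscTwoH99.AttrLfp
import Groth.Agent.S18240

set_option autoImplicit false
universe u
open CategoryTheory MonoidalCategory CartesianMonoidalCategory AlgebraicGeometry Opposite
open Magnet

namespace Groth.Agent.S18241

/-- Let S be a scheme, M a finitely generated abelian group, N a submonoid of M and F a face of N, and X
an S-scheme smooth over S with an action of the diagonalizable group scheme D(M)_S. If the
attractors X^N and X^F are represented by S-schemes Z_N and Z_F, and j : Z_N → Z_F is the S-morphism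
that corresponds to the canonical map X^N → X^F under the two representing bijections, then j is
smooth. (Stated for schemes; the published statement is for algebraic spaces over S.) -/
theorem result (S : Scheme.{u}) (M : Type) [AddCommGroup M] [AddGroup.FG M]
    {N F : AddSubmonoid M} (hF : Magnet.IsFace N F) {X : Over S} [Smooth X.hom]
    (a : Magnet.MonAct (Magnet.AMonS S M) X) {ZN ZF : Over S} (eN : (Magnet.attr a N).RepresentableBy ZN)
    (eF : (Magnet.attr a F).RepresentableBy ZF) (j : ZN ⟶ ZF)
    (hj : ∀ (T : Over S) (z : T ⟶ ZN), eF.homEquiv (z ≫ j) = (Magnet.attrFace a hF).app (op T) (eN.homEquiv z)) :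
    Smooth j.left := by
  haveI := MiscTwoH99.LfpRep.isAffineHom_AMonS S M
  haveI := MiscTwoH99.LfpRep.isAffineHom_AMonS S ↥N
  haveI := MiscTwoH99.LfpRep.isAffineHom_AMonS S ↥F
  haveI : LocallyOfFinitePresentation X.hom := ((Groth.Agent.S1488.result X.hom).mp ‹_›).1
  haveI := MiscTwoH99.AttrLfp.lfp_representing (Magnet.subAct S M N) a eN
  haveI := MiscTwoH99.AttrLfp.lfp_representing (Magnet.subAct S M F) a eF
  refine (Groth.Agent.S1488.result j.left).mpr
    ⟨MiscTwoH99.AttrLfp.lfp_between j, fun A _ I hI u b w => ?_⟩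
  let q := Spec.map (CommRingCat.ofHom (Ideal.Quotient.mk I))
  let str := b ≫ ZF.hom
  let b' : Over.mk str ⟶ ZF := Over.homMk b rfl
  let u' : Over.mk (q ≫ str) ⟶ ZN := Over.homMk u (by
    show u ≫ ZN.hom = q ≫ b ≫ ZF.hom
    rw [← Over.w j, ← Category.assoc, ← w, Category.assoc])
  let t : Over.mk (q ≫ str) ⟶ Over.mk str := Over.homMk q rfl
  have hw : u' ≫ j = t ≫ b' := Over.OverMorphism.ext w.symm
  obtain ⟨l, hl1, hl2⟩ := Groth.Agent.S18240.result S M hF a A I hI str (eN.homEquiv u') (eF.homEquiv b') (by
    rw [← hj _ u', hw, eF.homEquiv_comp])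
  refine ⟨(eN.homEquiv.symm l).left, congrArg Over.Hom.left (show t ≫ eN.homEquiv.symm l = u' from
    eN.homEquiv.injective ?_), congrArg Over.Hom.left (show eN.homEquiv.symm l ≫ j = b' from eF.homEquiv.injective ?_)⟩
  · rw [eN.homEquiv_comp, Equiv.apply_symm_apply]
    exact hl1
  · rw [hj _ (eN.homEquiv.symm l), Equiv.apply_symm_apply]
    exact hl2

end Groth.Agent.S18241
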