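import Groth.Statements.S18242
import Groth.Agent.MiscTwoH99.AttrContract
import Groth.Agent.MiscTwoH99.FaceWeight

set_option autoImplicit false
universe u
open CategoryTheory MonoidalCategory CartesianMonoidalCategory AlgebraicGeometry Opposite
open Magnet

namespace Groth.Agent.S18242

/-- Let S be a scheme, M a finitely generated abelian group, N a finitely generated submonoid of M and Z
= N* its subgroup of invertible elements (a face of N); let X be a scheme locally of finite
presentation over S with an action of the diagonalizable group scheme D(M)_S, admitting an N*-FPR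
atlas: an equivariant, étale and surjective g : U → X where U is a disjoint union of D(M)_S-stable
open subschemes each affine over S, such that for the actions restricted along D(M/Z)_S → D(M)_S the
square of fixed-point subfunctors U^{D(M/Z)} → X^{D(M/Z)} over U → X is cartesian. If the attractors
X^N and X^{N*} are represented by S-schemes Z_N and Z_* and j : Z_N → Z_* is the S-morphism
corresponding to the canonical map X^N → X^{N*} under the two representing bijections, then for
every field K and every K-valued point of Z_* the fibre of j is connected (the fibres are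
geometrically connected), and j induces a bijection on the sets of connected components. (Stated for
schemes; the published statement is for algebraic spaces over S.) -/
theorem result (S : Scheme.{u}) (M : Type) [AddCommGroup M]
    [AddGroup.FG M] (N : AddSubmonoid M) (hN : N.FG) (Z : AddSubgroup M)
    (hZ : ∀ m : M, m ∈ Z ↔ m ∈ Magnet.unitFace N)
    {X : Over S} [LocallyOfFinitePresentation X.hom] (a : Magnet.MonAct (Magnet.AMonS S M) X)
    (U : Over S) (aU : Magnet.MonAct (Magnet.AMonS S M) U) (g : U ⟶ X)
    (hg : Magnet.MonAct.IsEquivariant aU a g) [Etale g.left] [Surjective g.left]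
    (ι : Type u) (V : ι → U.left.Opens) (hVd : ∀ i i', i ≠ i' → Disjoint (V i) (V i'))
    (hVc : ⨆ i, V i = ⊤) (hVa : ∀ i, IsAffineHom ((V i).ι ≫ U.hom))
    (hVs : ∀ i, (CartesianMonoidalCategory.snd (Magnet.AMonS S M) U).left ⁻¹ᵁ (V i) ≤ aU.act.left ⁻¹ᵁ (V i))
    (hgZ : Magnet.MonAct.IsEquivariant (aU.restrict (Magnet.AMonS.map S (QuotientAddGroup.mk' Z))) (a.restrict (Magnet.AMonS.map S (QuotientAddGroup.mk' Z))) g)
    (hfpr : IsPullback (Magnet.MonAct.fixedPsh.map g hgZ)
      (Magnet.MonAct.fixedPshι (aU.restrict (Magnet.AMonS.map S (QuotientAddGroup.mk' Z))))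
      (Magnet.MonAct.fixedPshι (a.restrict (Magnet.AMonS.map S (QuotientAddGroup.mk' Z)))) (yoneda.map g))
    {ZN Z0 : Over S} (eN : (Magnet.attr a N).RepresentableBy ZN)
    (e0 : (Magnet.attr a (Magnet.unitFace N)).RepresentableBy Z0) (j : ZN ⟶ Z0)
    (hj : ∀ (T : Over S) (z : T ⟶ ZN), e0.homEquiv (z ≫ j) = (Magnet.attrFace a (Magnet.isFace_unitFace N)).app (op T) (eN.homEquiv z)) :
    (∀ (K : Type u) [Field K] (k : Spec (CommRingCat.of K) ⟶ Z0.left),
        ConnectedSpace ↥(Limits.pullback j.left k)) ∧
      Function.Bijective (Continuous.connectedComponentsMap (Scheme.Hom.continuous j.left)) := by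
  obtain ⟨q, hq⟩ := MiscTwoH99.FaceWeight.exists_weight hN (unitFace_le N) (isFace_unitFace N).mem_of_add_mem
  obtain ⟨act, σ, hσj, hjact, hzero⟩ := MiscTwoH99.AttrContract.exists_contract a q hq eN e0 j hj
  have hσl : σ.left ≫ j.left = 𝟙 _ := congrArg Over.Hom.left hσj
  constructor
  · intro K _ k
    let P := Limits.pullback j.left k
    let pK : (Spec (CommRingCat.of K) : Scheme.{u}) := IsLocalRing.closedPoint K
    let σP : Spec (CommRingCat.of K) ⟶ P :=
      Limits.pullback.lift (k ≫ σ.left) (𝟙 _) (by rw [Category.assoc, hσl, Category.comp_id, Category.id_comp])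
    haveI : Nonempty ↥P := ⟨σP pK⟩
    suffices h : ∀ x : P, connectedComponent x = connectedComponent (σP pK) by
      refine connectedSpace_iff_connectedComponent.mpr ⟨σP pK, Set.eq_univ_iff_forall.mpr fun x => ?_⟩
      rw [← h x]
      exact mem_connectedComponent
    intro x
    obtain ⟨L, _, f, hf⟩ : ∃ (L : Type u) (_ : Field L) (f : Spec (CommRingCat.of L) ⟶ P), ∀ p, f p = x :=
      ⟨P.residueField x, inferInstance, P.fromSpecResidueField x, P.fromSpecResidueField_apply x⟩
    let str : Spec (CommRingCat.of L) ⟶ S := f ≫ Limits.pullback.fst _ _ ≫ ZN.hom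
    let w : MiscTwoH99.MagAvg.W str ⟶ ZN := Over.homMk (f ≫ Limits.pullback.fst _ _) (Category.assoc _ _ _)
    obtain ⟨C, π, h, s₁, s₀, hC, hh, hp₁, hp₀, hh₁, hh₀⟩ :=
      MiscTwoH99.AttrContract.exists_line act (j ≫ σ) j hjact hzero str w
    let hP : C.left ⟶ P := Limits.pullback.lift h.left
      (π.left ≫ f ≫ Limits.pullback.snd _ _) (by
        rw [← Over.comp_left, hh, Over.comp_left, Over.comp_left, Category.assoc, Category.assoc]
        show π.left ≫ (f ≫ Limits.pullback.fst _ _) ≫ j.left = _
        rw [Category.assoc, Limits.pullback.condition])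
    have h1 : s₁.left ≫ hP = f := by
      refine Limits.pullback.hom_ext ?_ ?_
      · rw [Category.assoc, Limits.pullback.lift_fst, ← Over.comp_left, hh₁]
        rfl
      · rw [Category.assoc, Limits.pullback.lift_snd, ← Category.assoc, ← Over.comp_left, hp₁]
        exact Category.id_comp _
    have h0 : s₀.left ≫ hP = (f ≫ Limits.pullback.snd _ _) ≫ σP := by
      refine Limits.pullback.hom_ext ?_ ?_
      · rw [Category.assoc, Limits.pullback.lift_fst, ← Over.comp_left, hh₀, Category.assoc,
          Limits.pullback.lift_fst]
        show (f ≫ Limits.pullback.fst _ _) ≫ j.left ≫ σ.left = _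
        simp only [Category.assoc]
        exact congrArg (f ≫ ·) (Limits.pullback.condition_assoc _)
      · rw [Category.assoc, Limits.pullback.lift_snd, ← Category.assoc, ← Over.comp_left, hp₀, Category.assoc,
          Limits.pullback.lift_snd, Category.comp_id]
        exact Category.id_comp _
    have hR := isPreconnected_range hP.continuous
    let p : (Spec (CommRingCat.of L) : Scheme.{u}) := IsLocalRing.closedPoint L
    have hx : x ∈ Set.range hP := ⟨s₁.left p, by rw [← Scheme.Hom.comp_apply, h1]; exact hf p⟩
    have hy : σP pK ∈ Set.range hP := ⟨s₀.left p, by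
      rw [← Scheme.Hom.comp_apply, h0, Scheme.Hom.comp_apply]
      exact congrArg _ (Subsingleton.elim _ _)⟩
    exact connectedComponent_eq (hR.subset_connectedComponent hx hy)
  · refine Function.bijective_iff_has_inverse.mpr ⟨σ.left.continuous.connectedComponentsMap, ?_, ?_⟩
    · intro c
      obtain ⟨x, rfl⟩ := ConnectedComponents.surjective_coe c
      show ConnectedComponents.mk (σ.left (j.left x)) = ConnectedComponents.mk x
      rw [ConnectedComponents.coe_eq_coe]
      obtain ⟨L, _, f, hf⟩ : ∃ (L : Type u) (_ : Field L) (f : Spec (CommRingCat.of L) ⟶ ZN.left), ∀ p, f p = x :=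
        ⟨ZN.left.residueField x, inferInstance, ZN.left.fromSpecResidueField x, ZN.left.fromSpecResidueField_apply x⟩
      let str : Spec (CommRingCat.of L) ⟶ S := f ≫ ZN.hom
      let w : MiscTwoH99.MagAvg.W str ⟶ ZN := Over.homMk f rfl
      obtain ⟨C, π, h, s₁, s₀, hC, -, -, -, hh₁, hh₀⟩ :=
        MiscTwoH99.AttrContract.exists_line act (j ≫ σ) j hjact hzero str w
      let p : (Spec (CommRingCat.of L) : Scheme.{u}) := IsLocalRing.closedPoint L
      have hp : w.left p = x := hf p
      refine connectedComponent_eq (IsPreconnected.subset_connectedComponent (isPreconnected_range h.left.continuous)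
        ⟨s₀.left p, ?_⟩ ⟨s₁.left p, ?_⟩)
      · rw [← Scheme.Hom.comp_apply, ← Over.comp_left, hh₀, Over.comp_left, Over.comp_left, Scheme.Hom.comp_apply,
          Scheme.Hom.comp_apply, hp]
      · rw [← Scheme.Hom.comp_apply, ← Over.comp_left, hh₁]
        exact hp
    · intro c
      obtain ⟨y, rfl⟩ := ConnectedComponents.surjective_coe c
      show ConnectedComponents.mk (j.left (σ.left y)) = _
      rw [← Scheme.Hom.comp_apply, hσl]
      rfl

end Groth.Agent.S18242
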