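import Groth.Statements.S18243
import Groth.Agent.MiscTwoH99.FacePO

set_option autoImplicit false
universe u
open CategoryTheory MonoidalCategory CartesianMonoidalCategory AlgebraicGeometry Opposite
open Magnet

namespace Groth.Agent.S18243

/-- Let T be an affine scheme and T̄ → T a first-order thickening, M a finitely generated abelian group,
N a submonoid of M and F a face of N. Consider the span A(F)_T ← A(F)_T ×_T T̄ → A(N)_T ×_T T̄
formed by the first projection and by the face closed immersion A(F) → A(N) times T̄, everything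
with its action of the diagonalizable group scheme D(M)_T (acting trivially on T̄). Then there are a
T-scheme P, affine, with morphisms ν₁ : A(F)_T → P and ν₂ : A(N)_T ×_T T̄ → P forming a push-out
square in T-schemes, and an action of D(M)_T on P for which ν₁ and ν₂ are equivariant, such that P
is also a push-out for equivariant morphisms: for every T-scheme X with an action of D(M)_T and
equivariant f₁ : A(F)_T → X, f₂ : A(N)_T ×_T T̄ → X agreeing on A(F)_T ×_T T̄, the induced morphism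
P → X is equivariant. (Stated for schemes over T; the published statement is in algebraic spaces
over T.) -/
theorem result (T : Scheme.{u}) [IsAffine T] (M : Type) [AddCommGroup M]
    [AddGroup.FG M] {N F : AddSubmonoid M} (hF : Magnet.IsFace N F) (Tb : Over T)
    (hTb : MoreMor.IsFirstOrderThickening Tb.hom) :
    ∃ (P : Over T) (ν₁ : Magnet.AMonS T F ⟶ P) (ν₂ : Magnet.AMonS T N ⊗ Tb ⟶ P)
      (hP : IsPushout (CartesianMonoidalCategory.fst (Magnet.AMonS T F) Tb) (Magnet.AMonS.faceMap T hF ▷ Tb) ν₁ ν₂)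
      (aP : Magnet.MonAct (Magnet.AMonS T M) P),
      IsAffine P.left ∧ Magnet.MonAct.IsEquivariant (Magnet.subAct T M F) aP ν₁ ∧
      Magnet.MonAct.IsEquivariant ((Magnet.subAct T M N).prod (Magnet.MonAct.trivial (Magnet.AMonS T M) Tb)) aP ν₂ ∧
      ∀ (X : Over T) (aX : Magnet.MonAct (Magnet.AMonS T M) X) (f₁ : Magnet.AMonS T F ⟶ X)
        (f₂ : Magnet.AMonS T N ⊗ Tb ⟶ X)
        (w : CartesianMonoidalCategory.fst (Magnet.AMonS T F) Tb ≫ f₁ = (Magnet.AMonS.faceMap T hF ▷ Tb) ≫ f₂),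
        Magnet.MonAct.IsEquivariant (Magnet.subAct T M F) aX f₁ →
        Magnet.MonAct.IsEquivariant ((Magnet.subAct T M N).prod (Magnet.MonAct.trivial (Magnet.AMonS T M) Tb)) aX f₂ →
        Magnet.MonAct.IsEquivariant aP aX (hP.desc f₁ f₂ w) := by
  haveI := hTb.1.1
  haveI : IsAffine Tb.left := isAffine_of_isAffineHom Tb.hom
  let str : Spec (CommRingCat.of Γ(T, ⊤)) ⟶ T := T.isoSpec.inv
  let q : Γ(T, ⊤) →+* Γ(Tb.left, ⊤) := Tb.hom.appTop.hom
  have hq : Function.Surjective q := Tb.hom.app_surjective ⊤ (isAffineOpen_top T)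
  let e : MiscTwoH99.MagAvg.W₀ str q ⟶ Tb := Over.homMk Tb.left.isoSpec.inv (Scheme.isoSpec_inv_naturality Tb.hom).symm
  haveI : IsIso e := by
    haveI : IsIso ((Over.forget T).map e) := inferInstanceAs (IsIso Tb.left.isoSpec.inv)
    exact isIso_of_reflects_iso e (Over.forget T)
  let tW : MiscTwoH99.MagAvg.W str ⟶ 𝟙_ (Over T) := toUnit _
  haveI : IsIso tW := by
    haveI : IsIso ((Over.forget T).map tW) := inferInstanceAs (IsIso T.isoSpec.inv)
    exact isIso_of_reflects_iso tW (Over.forget T)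
  let p₁ : AMonS T F ⊗ MiscTwoH99.MagAvg.W str ⟶ AMonS T F := fst _ _
  haveI : IsIso p₁ := by
    have : p₁ = AMonS T F ◁ tW ≫ (ρ_ _).hom := by simp [p₁, rightUnitor_hom]
    rw [this]; infer_instance
  let ν₁ : AMonS T F ⟶ MiscTwoH99.FacePO.PP hF q str := inv p₁ ≫ MiscTwoH99.FacePO.iF hF q str
  let ν₂ : AMonS T N ⊗ Tb ⟶ MiscTwoH99.FacePO.PP hF q str := AMonS T N ◁ inv e ≫ MiscTwoH99.FacePO.iN hF q str
  have hfst : ∀ (Y : Over T) (v : Y ⟶ MiscTwoH99.MagAvg.W str) (K : Over T), K ◁ v ≫ fst K _ = fst K Y := fun Y v K =>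
    whiskerLeft_fst K v
  have hsq : fst (AMonS T F) Tb ≫ ν₁ = (AMonS.faceMap T hF ▷ Tb) ≫ ν₂ := by
    have e1 : fst (AMonS T F) Tb ≫ inv p₁ = AMonS T F ◁ (inv e ≫ MiscTwoH99.MagAvg.red str q) := by
      rw [IsIso.comp_inv_eq]
      exact (whiskerLeft_fst _ _).symm
    show _ ≫ inv p₁ ≫ _ = _ ≫ AMonS T N ◁ inv e ≫ _
    rw [reassoc_of% e1, ← whisker_exchange_assoc, MiscTwoH99.FacePO.square, MonoidalCategory.whiskerLeft_comp_assoc]
  have hN2 : AMonS T N ◁ e ≫ ν₂ = MiscTwoH99.FacePO.iN hF q str := by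
    show _ ≫ AMonS T N ◁ inv e ≫ _ = _
    rw [← MonoidalCategory.whiskerLeft_comp_assoc, IsIso.hom_inv_id, MonoidalCategory.whiskerLeft_id, Category.id_comp]
  have hF1 : p₁ ≫ ν₁ = MiscTwoH99.FacePO.iF hF q str := IsIso.hom_inv_id_assoc _ _
  have hdesc : ∀ (s : Limits.PushoutCocone (fst (AMonS T F) Tb) (AMonS.faceMap T hF ▷ Tb)),
      ∃ k, ν₁ ≫ k = s.inl ∧ ν₂ ≫ k = s.inr := fun s => by
    obtain ⟨k, hk₂, hk₁⟩ := MiscTwoH99.FacePO.exists_desc hF q str hq (AMonS T N ◁ e ≫ s.inr) (p₁ ≫ s.inl) (by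
      rw [← whisker_exchange_assoc, ← s.condition, whiskerLeft_fst_assoc, whiskerLeft_fst_assoc])
    refine ⟨k, ?_, ?_⟩
    · rw [Category.assoc, hk₁, IsIso.inv_hom_id_assoc]
    · rw [Category.assoc, hk₂, ← MonoidalCategory.whiskerLeft_comp_assoc, IsIso.inv_hom_id,
        MonoidalCategory.whiskerLeft_id, Category.id_comp]
  choose d hd₁ hd₂ using hdesc
  have kN : ∀ {Y : Over T} (m₁ m₂ : MiscTwoH99.FacePO.PP hF q str ⟶ Y), ν₂ ≫ m₁ = ν₂ ≫ m₂ →
      MiscTwoH99.FacePO.iN hF q str ≫ m₁ = MiscTwoH99.FacePO.iN hF q str ≫ m₂ := fun m₁ m₂ h => by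
    have := congrArg (AMonS T N ◁ e ≫ ·) h
    simp only [← Category.assoc, hN2] at this
    exact this
  have kF : ∀ {Y : Over T} (m₁ m₂ : MiscTwoH99.FacePO.PP hF q str ⟶ Y), ν₁ ≫ m₁ = ν₁ ≫ m₂ →
      MiscTwoH99.FacePO.iF hF q str ≫ m₁ = MiscTwoH99.FacePO.iF hF q str ≫ m₂ := fun m₁ m₂ h => by
    have := congrArg (p₁ ≫ ·) h
    simp only [← Category.assoc, hF1] at this
    exact this
  have hP : IsPushout (fst (AMonS T F) Tb) (AMonS.faceMap T hF ▷ Tb) ν₁ ν₂ :=
    ⟨⟨hsq⟩, ⟨Limits.PushoutCocone.IsColimit.mk _ d hd₁ hd₂ fun s m h1 h2 =>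
      MiscTwoH99.FacePO.hom_ext hF q str hq
        (kN _ _ (h2.trans (hd₂ s).symm)) (kF _ _ (h1.trans (hd₁ s).symm))⟩⟩
  obtain ⟨aP, eN, eF, -⟩ := MiscTwoH99.FacePO.exists_act hF q str hq (M := M)
  have ee : MonAct.IsEquivariant ((subAct T M N).prod (MonAct.trivial (AMonS T M) Tb))
      ((subAct T M N).prod (MonAct.trivial (AMonS T M) (MiscTwoH99.MagAvg.W₀ str q))) (AMonS T N ◁ inv e) :=
    MonAct.prod_trivial_act_whiskerLeft _ _
  have e2 : MonAct.IsEquivariant aP aP (𝟙 _) := MonAct.IsEquivariant.id aP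
  have hp₁ : MonAct.IsEquivariant ((subAct T M F).prod (MonAct.trivial (AMonS T M) (MiscTwoH99.MagAvg.W str)))
      (subAct T M F) p₁ := MonAct.isEquivariant_prod_fst _ _
  have hp₁' : MonAct.IsEquivariant (subAct T M F) ((subAct T M F).prod (MonAct.trivial (AMonS T M) (MiscTwoH99.MagAvg.W str)))
      (inv p₁) := by
    show _ = _
    rw [IsIso.comp_inv_eq, Category.assoc, hp₁, ← MonoidalCategory.whiskerLeft_comp_assoc, IsIso.inv_hom_id,
      MonoidalCategory.whiskerLeft_id, Category.id_comp]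
  refine ⟨_, ν₁, ν₂, hP, aP, inferInstanceAs (IsAffine (Spec _)), hp₁'.comp eF, ee.comp eN, fun X aX f₁ f₂ w h₁ h₂ => ?_⟩
  refine MiscTwoH99.FacePO.hom_ext_tensor hF q str hq ?_ ?_
  · have k₂ : MiscTwoH99.FacePO.iN hF q str ≫ hP.desc f₁ f₂ w = AMonS T N ◁ e ≫ f₂ := by
      refine (congrArg (· ≫ hP.desc f₁ f₂ w) hN2.symm).trans ((Category.assoc _ _ _).trans ?_)
      exact congrArg (_ ≫ ·) (hP.inr_desc f₁ f₂ w)
    rw [← Category.assoc, ← eN, Category.assoc, ← MonoidalCategory.whiskerLeft_comp_assoc, k₂]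
    exact (MonAct.IsEquivariant.comp (MonAct.prod_trivial_act_whiskerLeft (subAct T M N) e) h₂)
  · have k₁ : MiscTwoH99.FacePO.iF hF q str ≫ hP.desc f₁ f₂ w = p₁ ≫ f₁ := by
      refine (congrArg (· ≫ hP.desc f₁ f₂ w) hF1.symm).trans ((Category.assoc _ _ _).trans ?_)
      exact congrArg (_ ≫ ·) (hP.inl_desc f₁ f₂ w)
    rw [← Category.assoc, ← eF, Category.assoc, ← MonoidalCategory.whiskerLeft_comp_assoc, k₁]
    exact hp₁.comp h₁

end Groth.Agent.S18243
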