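import Groth.Statements.S18244
import Groth.Agent.H28.FaceThick
import Groth.Agent.H23.AttrComapGrp
import Groth.Agent.MiscTwoH99.FaceWeight
-- import your own Groth.Agent.* helpers here

set_option autoImplicit false
universe u
open CategoryTheory MonoidalCategory CartesianMonoidalCategory AlgebraicGeometry Opposite
open Magnet

namespace Groth.Agent.S18244

open MonObj in
theorem main (S : Scheme.{u}) (M : Type) [AddCommGroup M] {X : Over S} (a : Magnet.MonAct (Magnet.AMonS S M) X)
    {N F : AddSubmonoid M} (hF : Magnet.IsFace N F) (w : N →+ ℕ) (hw : ∀ n : N, w n = 0 ↔ (n : M) ∈ F) :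
    ∃ δ : ∀ T : Over S, (Magnet.attr a N).obj (op T) → Γ(T.left, ⊤) → (Magnet.attr a N).obj (op T),
      (∀ (T T' : Over S) (t : T' ⟶ T) (x : (Magnet.attr a N).obj (op T)) (c : Γ(T.left, ⊤)),
          δ T' ((Magnet.attr a N).map t.op x) (t.left.appTop c) = (Magnet.attr a N).map t.op (δ T x c)) ∧
      (∀ (T : Over S) (x : (Magnet.attr a N).obj (op T)),
          δ T x 0 = (Magnet.attrMap a hF.le).app (op T) ((Magnet.attrFace a hF).app (op T) x)) ∧
      (∀ (T : Over S) (x : (Magnet.attr a N).obj (op T)), δ T x 1 = x) ∧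
      (∀ (T : Over S) (y : (Magnet.attr a F).obj (op T)) (c : Γ(T.left, ⊤)),
          δ T ((Magnet.attrMap a hF.le).app (op T) y) c = (Magnet.attrMap a hF.le).app (op T) y) := by
  classical
  have hpt : ∀ (T : Over S) (c : Γ(T.left, ⊤)), ∃ e : T ⟶ Magnet.AMonS S N,
      ∀ n : Multiplicative N, Groth.Agent.H23.CharPts.chi e n = c ^ w n.toAdd := fun T c => by
    obtain ⟨e, he⟩ := Groth.Agent.H23.CharPts.exists_chi_eq (S := S) (T := T) (M := N)
      { toFun := fun n => c ^ w n.toAdd
        map_one' := by simp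
        map_mul' := fun x y => by rw [toAdd_mul, map_add, pow_add] }
    exact ⟨e, fun n => congrArg (fun h : Multiplicative N →* Γ(T.left, ⊤) => h n) he⟩
  choose e he using hpt
  have hne : ∀ (T T' : Over S) (t : T' ⟶ T) (c : Γ(T.left, ⊤)), t ≫ e T c = e T' (t.left.appTop c) := fun T T' t c => by
    refine Groth.Agent.H23.CharPts.chi_injective (MonoidHom.ext fun n => ?_)
    rw [Groth.Agent.H23.CharPts.chi_comp, he, he, map_pow]
  let mm : ∀ T : Over S, Γ(T.left, ⊤) → (Magnet.AMonS S N ⊗ T ⟶ Magnet.AMonS S N) := fun T c =>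
    CartesianMonoidalCategory.fst _ T * (CartesianMonoidalCategory.snd _ T ≫ e T c)
  let θ : ∀ T : Over S, Γ(T.left, ⊤) → (Magnet.AMonS S N ⊗ T ⟶ Magnet.AMonS S N ⊗ T) := fun T c =>
    CartesianMonoidalCategory.lift (mm T c) (CartesianMonoidalCategory.snd _ T)
  have hθ : ∀ (T W : Over S) (c : Γ(T.left, ⊤)) (b : W ⟶ Magnet.AMonS S N) (t : W ⟶ T),
      CartesianMonoidalCategory.lift b t ≫ θ T c = CartesianMonoidalCategory.lift (b * (t ≫ e T c)) t := fun T W c b t => by
    simp only [θ, mm, comp_lift, MonObj.comp_mul, lift_fst, lift_snd_assoc, lift_snd]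
  let δ : ∀ T : Over S, (Magnet.attr a N).obj (op T) → Γ(T.left, ⊤) → (Magnet.attr a N).obj (op T) := fun T x c =>
    ⟨θ T c ≫ x.1, by
      rw [Magnet.MonAct.mem_eqvHom_iff]
      intro W g b t
      rw [← Category.assoc, hθ, ← Category.assoc (CartesianMonoidalCategory.lift b t), hθ,
        ← (Magnet.MonAct.mem_eqvHom_iff x.1).mp x.2 W g _ t, Groth.Agent.H23.AttrComapGrp.subAct_point,
        Groth.Agent.H23.AttrComapGrp.subAct_point, _root_.mul_assoc]⟩
  refine ⟨δ, fun T T' t x c => Subtype.ext ?_, fun T x => Subtype.ext ?_, fun T x => Subtype.ext ?_,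
    fun T y c => Subtype.ext ?_⟩
  · show θ T' (t.left.appTop c) ≫ (Magnet.AMonS S N ◁ t) ≫ x.1 = (Magnet.AMonS S N ◁ t) ≫ θ T c ≫ x.1
    rw [← Category.assoc, ← Category.assoc]
    congr 1
    apply hom_ext_lift₂
    intro W b s
    rw [← Category.assoc, hθ, lift_whiskerLeft, ← Category.assoc, lift_whiskerLeft, hθ, ← hne, Category.assoc]
  · show θ T 0 ≫ x.1 = (Magnet.AMonS.map S (AddSubmonoid.inclusion hF.le) ▷ T) ≫ (Magnet.AMonS.faceMap S hF ▷ T) ≫ x.1
    rw [← comp_whiskerRight_assoc]
    congr 1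
    apply hom_ext_lift₂
    intro W b s
    rw [hθ, lift_whiskerRight]
    congr 1
    refine Groth.Agent.H23.CharPts.chi_injective (MonoidHom.ext fun n => ?_)
    rw [Groth.Agent.H23.CharPts.chi_mul, Groth.Agent.H23.CharPts.chi_comp, he, map_pow, map_zero, ← Category.assoc]
    by_cases hn : ((n.toAdd : N) : M) ∈ F
    · rw [(hw _).mpr hn, pow_zero, _root_.mul_one]
      refine Eq.symm ((Groth.Agent.H28.FaceThick.chi_face_mem N F _ n.toAdd hn).trans ?_)
      rw [Groth.Agent.H23.CharPts.chi_map]
      rfl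
    · rw [zero_pow (fun h => hn ((hw _).mp h)), mul_zero]
      exact (Groth.Agent.H28.FaceThick.chi_face_notMem N F _ n.toAdd hn).symm
  · show θ T 1 ≫ x.1 = x.1
    have h1 : θ T 1 = 𝟙 _ := by
      apply hom_ext_lift₂
      intro W b s
      rw [hθ, Category.comp_id]
      congr 1
      refine Groth.Agent.H23.CharPts.chi_injective (MonoidHom.ext fun n => ?_)
      rw [Groth.Agent.H23.CharPts.chi_mul, Groth.Agent.H23.CharPts.chi_comp, he, one_pow, map_one, _root_.mul_one]
    rw [h1, Category.id_comp]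
  · show θ T c ≫ (Magnet.AMonS.map S (AddSubmonoid.inclusion hF.le) ▷ T) ≫ y.1 =
      (Magnet.AMonS.map S (AddSubmonoid.inclusion hF.le) ▷ T) ≫ y.1
    rw [← Category.assoc]
    congr 1
    apply hom_ext_lift₂
    intro W b s
    rw [← Category.assoc, hθ, lift_whiskerRight, lift_whiskerRight]
    congr 1
    refine Groth.Agent.H23.CharPts.chi_injective (MonoidHom.ext fun n => ?_)
    rw [Groth.Agent.H23.CharPts.chi_map, Groth.Agent.H23.CharPts.chi_mul, Groth.Agent.H23.CharPts.chi_comp, he,
      Groth.Agent.H23.CharPts.chi_map, (hw _).mpr (show (((AddMonoidHom.toMultiplicative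
        (AddSubmonoid.inclusion hF.le) n).toAdd : N) : M) ∈ F from n.toAdd.2), pow_zero, map_one, _root_.mul_one]

/-- Let S be a scheme, M a finitely generated abelian group, X a scheme locally of finite presentation
over S with an action of the diagonalizable group scheme D(M)_S, N a finitely generated submonoid of
M and F a face of N; let ι : X^F → X^N be the canonical section and r : X^N → X^F the face
projection. Then (ι, r) is a strong deformation retract: there is a morphism δ : X^N ×_S 𝔸¹_S → X^N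
of functors on S-schemes — here a family of maps X^N(T) × Γ(T, O_T) → X^N(T) natural in T — such
that δ(x, 0) = ι(r(x)), δ(x, 1) = x, and δ(ι(y), c) = ι(y) for all x in X^N(T), y in X^F(T) and
functions c on T. (Stated for schemes; the published statement is for algebraic spaces over S.) -/
theorem result (S : Scheme.{u}) (M : Type) [AddCommGroup M] [AddGroup.FG M]
    {X : Over S} [LocallyOfFinitePresentation X.hom] (a : Magnet.MonAct (Magnet.AMonS S M) X)
    {N F : AddSubmonoid M} (hN : N.FG) (hF : Magnet.IsFace N F) :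
    ∃ δ : ∀ T : Over S, (Magnet.attr a N).obj (op T) → Γ(T.left, ⊤) → (Magnet.attr a N).obj (op T),
      (∀ (T T' : Over S) (t : T' ⟶ T) (x : (Magnet.attr a N).obj (op T)) (c : Γ(T.left, ⊤)),
          δ T' ((Magnet.attr a N).map t.op x) (t.left.appTop c) = (Magnet.attr a N).map t.op (δ T x c)) ∧
      (∀ (T : Over S) (x : (Magnet.attr a N).obj (op T)),
          δ T x 0 = (Magnet.attrMap a hF.le).app (op T) ((Magnet.attrFace a hF).app (op T) x)) ∧
      (∀ (T : Over S) (x : (Magnet.attr a N).obj (op T)), δ T x 1 = x) ∧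
      (∀ (T : Over S) (y : (Magnet.attr a F).obj (op T)) (c : Γ(T.left, ⊤)),
          δ T ((Magnet.attrMap a hF.le).app (op T) y) c = (Magnet.attrMap a hF.le).app (op T) y) := by
  obtain ⟨w, hw⟩ := Groth.Agent.MiscTwoH99.FaceWeight.exists_weight hN hF.le hF.mem_of_add_mem
  exact main S M a hF w hw

end Groth.Agent.S18244
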