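import Groth.Statements.S18245
import Groth.Agent.MiscTwoH99.AttrVB
import Groth.Agent.MiscTwoH99.CoactSpec
import Groth.Agent.H28.FaceThick
import Groth.Agent.S18241

set_option autoImplicit false
universe u
open CategoryTheory MonoidalCategory CartesianMonoidalCategory AlgebraicGeometry Opposite
open Magnet

namespace Groth.Agent.S18245

open H23.CharPts MiscTwoH99 CategoryTheory.Limits
open scoped MonObj

attribute [-instance] ULift.smulLeft

variable {S : Scheme.{u}} {M : Type} [AddCommGroup M]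

theorem mem_units_iff {N : AddSubmonoid M} (n : N) : (n : M) ∈ unitFace N ↔ -(n : M) ∈ N := by
  constructor
  · rintro ⟨-, y, hy, h⟩
    rwa [neg_eq_of_add_eq_zero_right h]
  · exact fun h => ⟨n.2, -(n : M), h, add_neg_cancel _⟩

/-- The sharp quotient of a magnet. -/
theorem exists_sharp (N : AddSubmonoid M) : ∃ (K : Type) (_ : AddCommMonoid K) (_ : IsCancelAdd K) (q : ↥N →+ K),
    (∀ k : K, IsAddUnit k → k = 0) ∧ ∀ n : N, q n = 0 ↔ (n : M) ∈ unitFace N := by
  let Z := H28.StableFace.units N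
  let π : M →+ M ⧸ Z := QuotientAddGroup.mk' Z
  refine ⟨↥(N.map π), inferInstance, inferInstance,
    (π.comp N.subtype).codRestrict _ fun n => ⟨n, n.2, rfl⟩, ?_, fun n => ?_⟩
  · rintro k ⟨v, rfl⟩
    obtain ⟨n, hn, h1⟩ := (v : N.map π).2
    obtain ⟨n', hn', h2⟩ := ((-v : AddUnits (N.map π)) : N.map π).2
    have h : π (n + n') = 0 := by
      rw [map_add, h1, h2]
      exact congrArg Subtype.val v.add_neg
    have hu : n + n' ∈ Z := (QuotientAddGroup.eq_zero_iff _).mp h
    refine Subtype.ext ?_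
    rw [← h1]
    refine (QuotientAddGroup.eq_zero_iff _).mpr ⟨hn, ?_⟩
    convert add_mem hn' hu.2 using 1
    abel
  · rw [mem_units_iff]
    constructor
    · exact fun h => ((QuotientAddGroup.eq_zero_iff _).mp (congrArg Subtype.val h)).2
    · exact fun h => Subtype.ext ((QuotientAddGroup.eq_zero_iff _).mpr ⟨n.2, h⟩)

theorem chi_face_one (N : AddSubmonoid M) (T : Over S) (n : N) :
    (-(n : M) ∈ N → chi (toUnit T ≫ (1 : 𝟙_ (Over S) ⟶ AMonS S (unitFace N)) ≫ AMonS.faceMap S (isFace_unitFace N))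
      (Multiplicative.ofAdd n) = 1) ∧
    (-(n : M) ∉ N → chi (toUnit T ≫ (1 : 𝟙_ (Over S) ⟶ AMonS S (unitFace N)) ≫ AMonS.faceMap S (isFace_unitFace N))
      (Multiplicative.ofAdd n) = 0) := by
  refine ⟨fun h => ?_, fun h => ?_⟩
  · rw [← Category.assoc, H28.FaceThick.chi_face_mem _ _ _ n ((mem_units_iff n).mpr h), MonObj.comp_one,
      CoactSpec.chi_one]
  · rw [← Category.assoc, H28.FaceThick.chi_face_notMem _ _ _ n (fun h' => h ((mem_units_iff n).mp h'))]

theorem chi_unit_one (N : AddSubmonoid M) (T : Over S) (n : unitFace N) :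
    (-(n : M) ∈ unitFace N → chi (toUnit T ≫ (1 : 𝟙_ (Over S) ⟶ AMonS S (unitFace N))) (Multiplicative.ofAdd n) = 1) ∧
    (-(n : M) ∉ unitFace N → chi (toUnit T ≫ (1 : 𝟙_ (Over S) ⟶ AMonS S (unitFace N))) (Multiplicative.ofAdd n) = 0) := by
  refine ⟨fun _ => by rw [MonObj.comp_one, CoactSpec.chi_one], fun h => absurd ?_ h⟩
  obtain ⟨hn, y, hy, h'⟩ := n.2
  rw [neg_eq_of_add_eq_zero_right h']
  exact ⟨hy, n, hn, by rw [add_comm]; exact h'⟩

theorem isAffineOpen_inf {Z : Scheme.{u}} (f : Z ⟶ S) (O : Z.Opens) [IsAffineHom (O.ι ≫ f)] {U : S.Opens}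
    (hU : IsAffineOpen U) : IsAffineOpen (O ⊓ f ⁻¹ᵁ U) := by
  have h := (hU.preimage (O.ι ≫ f)).image_of_isOpenImmersion O.ι
  rwa [Scheme.Hom.comp_preimage, Scheme.Hom.image_preimage_eq_opensRange_inf, Scheme.Opens.opensRange_ι] at h

/-- Let S be a scheme, M a finitely generated abelian group, X a scheme smooth and locally of finite
presentation over S with an action a of the diagonalizable group scheme D(M)_S which is Zariski
locally linearizable (every point of X lies in a D(M)_S-stable open subscheme affine over S), and N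
a submonoid of M such that N is finitely generated or X is quasi-compact over S. If the attractors
X^N and X^{N*} are represented by S-schemes Z_N and Z_* and j : Z_N → Z_* is the S-morphism
corresponding to the canonical map X^N → X^{N*} under the two representing bijections, then j is a
vector bundle, in the following Zariski-local sense: every point of Z_* has an affine open
neighbourhood W with a finitely generated projective module P over B = Γ(W, O) and an isomorphism
j⁻¹(W) ≅ Spec Sym_B(P) over W. (Stated for schemes and for the local structure only; the published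
statement is for algebraic spaces over S and says that X^N → X^{N*} is a vector bundle.) -/
theorem result (S : Scheme.{u}) (M : Type) [AddCommGroup M]
    [AddGroup.FG M] {X : Over S} [LocallyOfFinitePresentation X.hom] [Smooth X.hom]
    (a : Magnet.MonAct (Magnet.AMonS S M) X)
    (hlin : ∀ x : X.left, ∃ V : X.left.Opens, x ∈ V ∧ IsAffineHom (V.ι ≫ X.hom) ∧
      (CartesianMonoidalCategory.snd (Magnet.AMonS S M) X).left ⁻¹ᵁ V ≤ a.act.left ⁻¹ᵁ V)
    (N : AddSubmonoid M) (hN : N.FG ∨ QuasiCompact X.hom) {ZN Z0 : Over S}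
    (eN : (Magnet.attr a N).RepresentableBy ZN) (e0 : (Magnet.attr a (Magnet.unitFace N)).RepresentableBy Z0)
    (j : ZN ⟶ Z0) (hj : ∀ (T : Over S) (z : T ⟶ ZN),
      e0.homEquiv (z ≫ j) = (Magnet.attrFace a (Magnet.isFace_unitFace N)).app (op T) (eN.homEquiv z))
    (z : Z0.left) :
    ∃ (W : Z0.left.Opens) (hW : IsAffineOpen W), z ∈ W ∧
      ∃ (P : Type u) (_ : AddCommGroup P) (_ : Module Γ(Z0.left, W) P),
        Module.Finite Γ(Z0.left, W) P ∧ Module.Projective Γ(Z0.left, W) P ∧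
        ∃ e : (↑(j.left ⁻¹ᵁ W) : Scheme.{u}) ≅ Spec (CommRingCat.of (SymmetricAlgebra Γ(Z0.left, W) P)),
          e.hom ≫ Spec.map (CommRingCat.ofHom (algebraMap Γ(Z0.left, W) (SymmetricAlgebra Γ(Z0.left, W) P))) =
            (j.left ∣_ W) ≫ hW.isoSpec.hom := by
  obtain ⟨K, _, _, q, hsharp, hq⟩ := exists_sharp N
  classical
  obtain ⟨act, hact⟩ := AttrVB.exists_act a N q eN
  have hF := isFace_unitFace N
  -- the projection is invariant
  have hjact : act.act ≫ j = snd _ _ ≫ j := by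
    refine hom_ext_lift₂ fun T g z => e0.homEquiv.injective (Subtype.ext ?_)
    rw [← Category.assoc, ← Category.assoc, lift_snd, hj, hj, attrFace_app_coe, attrFace_app_coe, hact,
      ← Category.assoc]
    congr 1
    refine hom_ext_lift₂ fun T' b t => ?_
    rw [← Category.assoc, lift_whiskerRight, AttrVB.lift_mult]
    congr 1
    refine chi_injective (MonoidHom.ext fun n => ?_)
    obtain ⟨n, rfl⟩ := Multiplicative.ofAdd.surjective n
    rw [chi_mul]
    by_cases hn : (n : M) ∈ unitFace N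
    · rw [← Category.assoc t g, chi_map, show AddMonoidHom.toMultiplicative q (Multiplicative.ofAdd n) = 1 from
        congrArg Multiplicative.ofAdd ((hq n).mpr hn), map_one, _root_.mul_one]
    · rw [H28.FaceThick.chi_face_notMem _ _ _ n hn, zero_mul]
  -- the section
  let σ : Z0 ⟶ ZN := eN.homEquiv.symm ((attrMap a (unitFace_le N)).app (op Z0) (e0.homEquiv (𝟙 Z0)))
  have hσv : ∀ {T : Over S} (w : T ⟶ Z0),
      eN.homEquiv (w ≫ σ) = (attrMap a (unitFace_le N)).app (op T) (e0.homEquiv w) := fun {T} w =>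
    AttrVB.homEquiv_comp_lift e0 eN (attrMap a (unitFace_le N)) w
  have hσj : σ ≫ j = 𝟙 _ := e0.homEquiv.injective (by
    have h := hσv (𝟙 Z0)
    rw [Category.id_comp] at h
    rw [hj Z0 σ, h]
    exact ConcreteCategory.congr_hom (congrArg (fun t => t.app (op Z0)) (attrMap_comp_attrFace a hF)) _)
  -- multiplication by zero
  have hzero : ∀ {T : Over S} (g : T ⟶ AMonS S K)
      (hg : ∀ k : K, chi g (Multiplicative.ofAdd k) = if k = 0 then 1 else 0) (w : T ⟶ ZN),
      lift g w ≫ act.act = w ≫ j ≫ σ := by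
    intro T g hg w
    refine eN.homEquiv.injective (Subtype.ext ?_)
    rw [hact, ← Category.assoc w j σ, hσv, hj]
    show AttrVB.mult N q g ≫ (eN.homEquiv w).1 = (AMonS.map S (AddSubmonoid.inclusion (unitFace_le N)) ▷ T) ≫
      (AMonS.faceMap S hF ▷ T) ≫ (eN.homEquiv w).1
    rw [← Category.assoc]
    congr 1
    refine hom_ext_lift₂ fun T' b t => ?_
    rw [← Category.assoc, lift_whiskerRight, lift_whiskerRight, AttrVB.lift_mult]
    congr 1
    refine chi_injective (MonoidHom.ext fun n => ?_)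
    obtain ⟨n, rfl⟩ := Multiplicative.ofAdd.surjective n
    rw [chi_mul, ← Category.assoc t g, chi_map, chi_comp t g]
    by_cases hn : (n : M) ∈ unitFace N
    · rw [H28.FaceThick.chi_face_mem _ _ _ n hn, chi_map]
      show _ * t.left.appTop (chi g (Multiplicative.ofAdd (q n))) = chi b (Multiplicative.ofAdd n)
      rw [hg, if_pos ((hq n).mpr hn), map_one, _root_.mul_one]
    · rw [H28.FaceThick.chi_face_notMem _ _ _ n hn]
      show _ * t.left.appTop (chi g (Multiplicative.ofAdd (q n))) = 0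
      rw [hg, if_neg (fun h => hn ((hq n).mp h)), map_zero, mul_zero]
  -- the opens
  let e1 : 𝟙_ (Over S) ⟶ AMonS S (unitFace N) := 1
  let eF : 𝟙_ (Over S) ⟶ AMonS S N := e1 ≫ AMonS.faceMap S hF
  let r0 : Z0 ⟶ X := (MonAct.eqvHom.evalAt (subAct S M (unitFace N)) a e1).app (op Z0) (e0.homEquiv (𝟙 Z0))
  let rN : ZN ⟶ X := (MonAct.eqvHom.evalAt (subAct S M N) a eF).app (op ZN) (eN.homEquiv (𝟙 ZN))
  have hr : j ≫ r0 = rN := by
    rw [AttrVB.comp_eval e0 e1 j]
    have h := hj ZN (𝟙 ZN)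
    rw [Category.id_comp] at h
    rw [h]
    show lift (toUnit ZN ≫ e1) (𝟙 ZN) ≫ (AMonS.faceMap S hF ▷ ZN) ≫ (eN.homEquiv (𝟙 ZN)).1 =
      lift (toUnit ZN ≫ e1 ≫ AMonS.faceMap S hF) (𝟙 ZN) ≫ (eN.homEquiv (𝟙 ZN)).1
    rw [← Category.assoc, lift_whiskerRight, Category.assoc]
  obtain ⟨V, hxV, hVaff, hVst⟩ := hlin (r0.left z)
  haveI := hVaff
  haveI := AttrVB.isAffineHom_preimage a V hVst N (H28.StableFace.stablePt N (chi_face_one N)) eN rN rfl
  haveI := AttrVB.isAffineHom_preimage a V hVst (unitFace N)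
    (H28.StableFace.stablePt (unitFace N) (chi_unit_one N)) e0 r0 rfl
  obtain ⟨U, hUaff, hzU, -⟩ := exists_isAffineOpen_mem_and_subset (x := Z0.hom z) (U := ⊤) (by trivial)
  let W : Z0.left.Opens := r0.left ⁻¹ᵁ V ⊓ Z0.hom ⁻¹ᵁ U
  have hW : IsAffineOpen W := isAffineOpen_inf Z0.hom _ hUaff
  let O : ZN.left.Opens := j.left ⁻¹ᵁ W
  have hO : IsAffineOpen O := by
    have h : O = rN.left ⁻¹ᵁ V ⊓ ZN.hom ⁻¹ᵁ U := by
      rw [← hr, ← Over.w j]
      rfl
    rw [h]
    exact isAffineOpen_inf ZN.hom _ hUaff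
  refine ⟨W, hW, ⟨hxV, hzU⟩, ?_⟩
  -- the coordinate rings
  letI : Algebra Γ(Z0.left, W) Γ(ZN.left, O) := (j.left.appLE W O le_rfl).hom.toAlgebra
  haveI : Algebra.Smooth Γ(Z0.left, W) Γ(ZN.left, O) := by
    haveI := Groth.Agent.S18241.result S M hF a eN e0 j hj
    exact HasRingHomProperty.appLE @Smooth j.left ‹_› ⟨W, hW⟩ ⟨O, hO⟩ le_rfl
  let strR : Spec (CommRingCat.of Γ(Z0.left, W)) ⟶ S := hW.fromSpec ≫ Z0.hom
  let str : Spec (CommRingCat.of Γ(ZN.left, O)) ⟶ S := hO.fromSpec ≫ ZN.hom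
  have hsq : Spec.map (CommRingCat.ofHom (algebraMap Γ(Z0.left, W) Γ(ZN.left, O))) ≫ hW.fromSpec =
      hO.fromSpec ≫ j.left := IsAffineOpen.SpecMap_appLE_fromSpec j.left hW hO le_rfl
  have hstr : Spec.map (CommRingCat.ofHom (algebraMap Γ(Z0.left, W) Γ(ZN.left, O))) ≫ strR = str := by
    show _ ≫ hW.fromSpec ≫ Z0.hom = hO.fromSpec ≫ ZN.hom
    rw [← Category.assoc, hsq, Category.assoc, Over.w j]
  let iN : MagAvg.W str ⟶ ZN := Over.homMk hO.fromSpec rfl
  let i0 : MagAvg.W strR ⟶ Z0 := Over.homMk hW.fromSpec rfl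
  let p : MagAvg.W str ⟶ MagAvg.W strR := MagAvg.hm _ hstr
  have hp : p ≫ i0 = iN ≫ j := Over.OverMorphism.ext hsq
  haveI : IsOpenImmersion iN.left := inferInstanceAs (IsOpenImmersion hO.fromSpec)
  haveI : IsOpenImmersion i0.left := inferInstanceAs (IsOpenImmersion hW.fromSpec)
  haveI : Mono iN := (Over.forget S).mono_of_mono_map (inferInstanceAs (Mono iN.left))
  haveI : Mono i0 := (Over.forget S).mono_of_mono_map (inferInstanceAs (Mono i0.left))
  obtain ⟨actW, hactW⟩ := H28.StableOpen.exists_lift iN ((AMonS S K ◁ iN) ≫ act.act) (by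
    rintro _ ⟨w, rfl⟩
    show _ ∈ Set.range hO.fromSpec
    rw [IsAffineOpen.range_fromSpec]
    show j.left _ ∈ W
    rw [← Scheme.Hom.comp_apply, ← Over.comp_left, Category.assoc, hjact, whiskerLeft_snd_assoc, ← hp,
      Over.comp_left, Over.comp_left, Scheme.Hom.comp_apply, Scheme.Hom.comp_apply]
    exact hW.range_fromSpec.le ⟨_, rfl⟩)
  let aW : MonAct (AMonS S K) (MagAvg.W str) := MonAct.mk' actW
    (fun T x => by rw [← cancel_mono iN, Category.assoc, hactW, lift_whiskerLeft_assoc, act.lift_one_act])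
    (fun T g h x => by
      rw [← cancel_mono iN]
      simp only [Category.assoc, hactW, lift_whiskerLeft_assoc]
      rw [act.lift_mul_act])
  obtain ⟨σW, hσW⟩ := H28.StableOpen.exists_lift iN (i0 ≫ σ) (by
    rintro _ ⟨w, rfl⟩
    show _ ∈ Set.range hO.fromSpec
    rw [IsAffineOpen.range_fromSpec]
    show j.left _ ∈ W
    rw [← Scheme.Hom.comp_apply, ← Over.comp_left, Category.assoc, hσj, Category.comp_id]
    exact hW.range_fromSpec.le ⟨w, rfl⟩)
  obtain ⟨g₀, hg₀⟩ := exists_chi_eq (S := S) (T := MagAvg.W str) (M := K)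
    { toFun := fun k => if k.toAdd = 0 then 1 else 0
      map_one' := if_pos rfl
      map_mul' := fun a b => by
        by_cases ha : a.toAdd = 0
        · rw [if_pos ha, _root_.one_mul]
          simp [ha]
        · rw [if_neg ha, zero_mul, if_neg]
          exact fun h => ha (hsharp _ ⟨⟨a.toAdd, b.toAdd, h, (add_comm _ _).trans h⟩, rfl⟩) }
  obtain ⟨P, hP1, hP2, hfin, hproj, ⟨ψ⟩⟩ := CoactSpec.exists_vb hsharp strR str hstr aW
    (by
      rw [← cancel_mono i0, Category.assoc, Category.assoc, hp]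
      show actW ≫ iN ≫ j = _
      rw [reassoc_of% hactW, hjact, whiskerLeft_snd_assoc])
    σW
    (by rw [← cancel_mono i0, Category.assoc, hp, reassoc_of% hσW, hσj, Category.comp_id, Category.id_comp])
    g₀
    (fun k => by
      show (Scheme.ΓSpecIso (CommRingCat.of Γ(ZN.left, O))).hom (chi g₀ (Multiplicative.ofAdd k)) = _
      rw [hg₀]
      show (Scheme.ΓSpecIso (CommRingCat.of Γ(ZN.left, O))).hom (if k = 0 then 1 else 0) = _
      by_cases hk : k = 0
      · rw [if_pos hk, if_pos hk, map_one]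
      · rw [if_neg hk, if_neg hk, map_zero])
    (by
      rw [← cancel_mono iN, Category.assoc, Category.assoc]
      show lift g₀ (𝟙 _) ≫ actW ≫ iN = p ≫ σW ≫ iN
      rw [hactW, lift_whiskerLeft_assoc, Category.id_comp, hσW, ← Category.assoc p, hp, Category.assoc]
      exact hzero g₀ (fun k => by rw [hg₀]; rfl) iN)
  let i : CommRingCat.of (SymmetricAlgebra Γ(Z0.left, W) P) ≅ CommRingCat.of Γ(ZN.left, O) :=
    ψ.symm.toRingEquiv.toCommRingCatIso
  refine ⟨P, hP1, hP2, hfin, hproj, hO.isoSpec ≪≫ asIso (Spec.map i.hom), ?_⟩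
  rw [Iso.trans_hom, asIso_hom, Category.assoc, ← Spec.map_comp,
    show CommRingCat.ofHom (algebraMap Γ(Z0.left, W) (SymmetricAlgebra Γ(Z0.left, W) P)) ≫ i.hom =
      j.left.appLE W O le_rfl from CommRingCat.hom_ext (RingHom.ext fun r => ψ.symm.commutes r)]
  refine (cancel_mono hW.fromSpec).mp ?_
  rw [Category.assoc, Category.assoc, IsAffineOpen.SpecMap_appLE_fromSpec j.left hW hO le_rfl,
    IsAffineOpen.isoSpec_hom_fromSpec, morphismRestrict_ι, ← Category.assoc, IsAffineOpen.isoSpec_hom_fromSpec]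

end Groth.Agent.S18245
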