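import Groth.Statements.S18257
import Groth.Agent.MiscTwoH99.UnitsThick.Induct

set_option autoImplicit false
universe u
open UnitsSh

namespace Groth.Agent.S18257

open CategoryTheory CategoryTheory.Limits AlgebraicGeometry in
/-- In the case of the multiplicative group, for schemes and with Zariski cohomology of the sheaf of
units. Let A be a local ring with maximal ideal m, t a nonzero element of m with m·t = 0, and X' a
scheme flat over Spec A; let i : X ⟶ X' be the closed subscheme cut out by t (base change to A/(t))
and X₀ the closed fibre (base change to the residue field). If H^{q+1}(X₀, O_{X₀}) = 0, then the map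
H^q(X', O_{X'}^×) → H^q(X', i_* O_X^×) induced by the units map of i is surjective. (The published
statement covers any smooth commutative group scheme in place of the multiplicative group, with the
Lie algebra of its closed fibre in place of O_{X₀}, uses étale cohomology, and takes A Artinian;
this row allows any local ring A with t as stated.) -/
theorem result
    (A : Type u) [CommRing A] [IsLocalRing A]
    (t : A) (ht0 : t ≠ 0) (ht : t ∈ IsLocalRing.maximalIdeal A)
    (hmt : ∀ x ∈ IsLocalRing.maximalIdeal A, x * t = 0)
    (X' : Scheme.{u}) [X'.Over (Spec (CommRingCat.of A))] [Flat (X' ↘ Spec (CommRingCat.of A))]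
    (q : ℕ)
    (hvan : Subsingleton (Coh.HH
      (pullback (X' ↘ Spec (CommRingCat.of A)) (Spec.map (CommRingCat.ofHom (IsLocalRing.residue A))))
      (Coh.structureModule _) (q + 1))) :
    Function.Surjective (Sheaf.H.map (UnitsSh.comap
      (pullback.fst (X' ↘ Spec (CommRingCat.of A))
        (Spec.map (CommRingCat.ofHom (Ideal.Quotient.mk (Ideal.span ({t} : Set A))))))) q) := by
  have h1 : Function.Surjective (Ideal.Quotient.mk (Ideal.span ({t} : Set A))) := Ideal.Quotient.mk_surjective
  have hnil : ∀ a ∈ RingHom.ker (Ideal.Quotient.mk (Ideal.span ({t} : Set A))), IsNilpotent a := fun a ha => by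
    rw [Ideal.mk_ker, Ideal.mem_span_singleton'] at ha
    obtain ⟨b, rfl⟩ := ha
    exact ⟨2, by rw [sq, mul_mul_mul_comm, hmt t ht, mul_zero]⟩
  refine MiscTwoH99.UnitsThick.H_map_surjective _
    (MiscTwoH99.UnitsThick.shortExact_units (X' ↘ Spec (CommRingCat.of A)) _ h1 hnil) q ?_
  refine MiscTwoH99.UnitsThick.subsingleton_H_Ker_step (A₀ := IsLocalRing.ResidueField A) (A₁ := A)
    (X' ↘ Spec (CommRingCat.of A)) (IsLocalRing.residue A) IsLocalRing.residue_surjective (RingHom.id A)
    Function.surjective_id _ h1 t ?_ (fun a => ?_) ?_ hnil (q + 1) hvan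
    (MiscTwoH99.UnitsThick.subsingleton_H_of_isZero
      (MiscTwoH99.UnitsThick.isZero_Ker _ _ Function.surjective_id ?_) _)
  · rw [Ideal.mk_ker, (RingHom.injective_iff_ker_eq_bot (RingHom.id A)).mp Function.injective_id, bot_sup_eq]
  · rw [RingHom.mem_ker, RingHom.id_apply, IsLocalRing.ker_residue]
    refine ⟨fun h => ?_, fun h => hmt a h⟩
    by_contra h'
    exact ht0 ((IsLocalRing.notMem_maximalIdeal.mp h').mul_right_eq_zero.mp h)
  · exact hmt t ht
  · exact (RingHom.injective_iff_ker_eq_bot (RingHom.id A)).mp Function.injective_id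

end Groth.Agent.S18257
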