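import Groth.Statements.S18258
import Groth.Agent.MiscTwoH99.UnitsThick.Split

set_option autoImplicit false
universe u
open UnitsSh

namespace Groth.Agent.S18258

open CategoryTheory CategoryTheory.Limits AlgebraicGeometry in
/-- In the case of the multiplicative group, for schemes and with Zariski cohomology of the sheaf of
units. Let k be a field, X₀ a k-scheme, X' = X₀ ×_k Spec k[ε] (k[ε] the dual numbers) and i : X ⟶ X'
the closed subscheme ε = 0 (base change of X' along k[ε] → k, a copy of X₀). Then for every q the
kernel of the map H^q(X', O_{X'}^×) → H^q(X', i_* O_X^×) induced by the units map of i — the tangent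
space at the origin of the functor A ↦ H^q(X₀ ⊗_k A, O^×) on local Artinian k-algebras — is
isomorphic, as an additive group, to H^q(X, O_X). (Existence of an isomorphism only. The published
statement covers any smooth commutative group scheme in place of the multiplicative group, with the
Lie algebra of its closed fibre in place of the structure sheaf, and uses étale cohomology.) -/
theorem result
    (k : Type u) [Field k] (X₀ : Scheme.{u}) [X₀.Over (Spec (CommRingCat.of k))] (q : ℕ) :
    Nonempty ((Sheaf.H.map (UnitsSh.comap (pullback.fst (pullback.snd (X₀ ↘ Spec (CommRingCat.of k)) (Spec.map (CommRingCat.ofHom (algebraMap k (DualNumber k))))) (Spec.map (CommRingCat.ofHom (TrivSqZeroExt.fstHom k k k).toRingHom)))) q).ker ≃+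
      Coh.HH (pullback (pullback.snd (X₀ ↘ Spec (CommRingCat.of k)) (Spec.map (CommRingCat.ofHom (algebraMap k (DualNumber k))))) (Spec.map (CommRingCat.ofHom (TrivSqZeroExt.fstHom k k k).toRingHom))) (Coh.structureModule (pullback (pullback.snd (X₀ ↘ Spec (CommRingCat.of k)) (Spec.map (CommRingCat.ofHom (algebraMap k (DualNumber k))))) (Spec.map (CommRingCat.ofHom (TrivSqZeroExt.fstHom k k k).toRingHom)))) q) := by
  let f₀ := X₀ ↘ Spec (CommRingCat.of k)
  let f := pullback.snd f₀ (Spec.map (CommRingCat.ofHom (algebraMap k (DualNumber k))))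
  let φ : DualNumber k →+* k := (TrivSqZeroExt.fstHom k k k).toRingHom
  have hφ : Function.Surjective φ := fun a => ⟨TrivSqZeroExt.inl a, rfl⟩
  have hφk : φ.comp (algebraMap k (DualNumber k)) = RingHom.id k := RingHom.ext fun a => rfl
  let p := pullback.fst f₀ (Spec.map (CommRingCat.ofHom (algebraMap k (DualNumber k))))
  have hkk : Spec.map (CommRingCat.ofHom φ) ≫ Spec.map (CommRingCat.ofHom (algebraMap k (DualNumber k))) = 𝟙 _ := by
    rw [← Spec.map_comp, ← CommRingCat.ofHom_comp, hφk, CommRingCat.ofHom_id, Spec.map_id]
  let σ : X₀ ⟶ pullback f₀ (Spec.map (CommRingCat.ofHom (algebraMap k (DualNumber k)))) :=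
    pullback.lift (𝟙 _) (f₀ ≫ Spec.map (CommRingCat.ofHom φ)) (by
      rw [Category.assoc, hkk, Category.comp_id, Category.id_comp])
  let r : pullback f₀ (Spec.map (CommRingCat.ofHom (algebraMap k (DualNumber k)))) ⟶
      pullback f (Spec.map (CommRingCat.ofHom φ)) :=
    pullback.lift (p ≫ σ) (p ≫ f₀) (by
      rw [Category.assoc, Category.assoc]
      exact congrArg (p ≫ ·) (pullback.lift_snd _ _ _))
  have hi : MiscTwoH99.UnitsThick.incl f φ ≫ p ≫ f₀ = pullback.snd f (Spec.map (CommRingCat.ofHom φ)) := by
    rw [show p ≫ f₀ = f ≫ Spec.map (CommRingCat.ofHom (algebraMap k (DualNumber k))) from pullback.condition,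
      ← Category.assoc, pullback.condition, Category.assoc, hkk, Category.comp_id]
  have hr : MiscTwoH99.UnitsThick.incl f φ ≫ r = 𝟙 _ := by
    refine pullback.hom_ext ?_ ?_
    · rw [Category.assoc, pullback.lift_fst, Category.id_comp]
      refine pullback.hom_ext ?_ ?_
      · rw [Category.assoc, Category.assoc, pullback.lift_fst, Category.comp_id]
      · rw [Category.assoc, Category.assoc, pullback.lift_snd, reassoc_of% hi]
        exact pullback.condition.symm
    · rw [Category.assoc, pullback.lift_snd, hi, Category.id_comp]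
  have hker : RingHom.ker φ = Ideal.span {DualNumber.eps} := by
    refine le_antisymm (fun a ha => Ideal.mem_span_singleton'.mpr ⟨TrivSqZeroExt.inl a.snd, ?_⟩) ?_
    · have ha' : a.fst = 0 := ha
      ext <;> simp [ha']
    · rw [Ideal.span_singleton_le_iff_mem]
      exact DualNumber.fst_eps
  haveI : Surjective (Spec.map (CommRingCat.ofHom φ)) := ⟨fun (x : PrimeSpectrum (DualNumber k)) => by
    have h : x ∈ Set.range (PrimeSpectrum.comap φ) := by
      rw [range_comap_of_surjective _ φ hφ, PrimeSpectrum.mem_zeroLocus, SetLike.coe_subset_coe,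
        hker, Ideal.span_singleton_le_iff_mem]
      exact x.isPrime.mem_of_pow_mem 2 (by rw [sq, DualNumber.eps_mul_eps]; exact Ideal.zero_mem _)
    exact h⟩
  refine MiscTwoH99.UnitsThick.ker_H_map_comap_equiv f φ hφ DualNumber.eps hker (fun a => ?_) r hr
    (MiscTwoH99.UnitsThick.incl f φ).surjective q
  refine ⟨fun h => ?_, fun h => ?_⟩
  · have h' := congrArg TrivSqZeroExt.snd h
    show a.fst = 0
    simpa using h'
  · have h' : a.fst = 0 := h
    ext <;> simp [h']

end Groth.Agent.S18258
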