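import Groth.Statements.S18265
import Mathlib.RingTheory.IntegralClosure.IntegrallyClosed
import Mathlib.RingTheory.Localization.FractionRing
import Mathlib.RingTheory.Polynomial.UniqueFactorization
import Mathlib.RingTheory.UniqueFactorizationDomain.GCDMonoid
import Mathlib.RingTheory.Polynomial.RationalRoot
-- import your own Groth.Agent.* helpers here

set_option autoImplicit false
universe u
open InvQ

namespace Groth.Agent.S18265

/-- Let k be an algebraically closed field and n, m natural numbers, and let R be the ring of polynomial
functions of m vectors of k^(n+1) invariant under the special linear group SL(n+1, k) acting on all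
the vectors at once and under the rescalings of the individual vectors by units with product 1
(equivalently: invariant and homogeneous of one and the same degree in each vector) — the graded
ring of invariant sections whose Proj is the quotient variety of ordered m-point sets in projective
n-space. Then R is integrally closed in its field of fractions; hence that quotient variety is
normal. (Only the normality assertion of the source's statement is given here; its dimension,
rationality and singular-locus assertions are not.) -/
theorem result (k : Type u) [Field k] [IsAlgClosed k] (n m : ℕ) :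
    IsIntegrallyClosed (W4c5pointsetsdelpezzo.invRing k n m) := by
  refine (isIntegrallyClosed_iff (FractionRing (W4c5pointsetsdelpezzo.invRing k n m))).mpr ?_
  intro z hz
  let S := W4c5pointsetsdelpezzo.invRing k n m
  have hS : S = W4c5pointsetsdelpezzo.invRing k n m := rfl
  let P := W4c5pointsetsdelpezzo.TupleRing k n m
  let K := FractionRing P
  let f : FractionRing S →+* K := IsFractionRing.map (A := S) (B := P) (j := S.val.toRingHom) Subtype.val_injective
  have hfS : ∀ a : S, f (algebraMap S _ a) = algebraMap P K (a : P) := fun a => IsLocalization.map_eq _ a
  have hz' : IsIntegral P (f z) :=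
    hz.map_of_comp_eq S.val.toRingHom f (RingHom.ext fun a => (hfS a).symm)
  obtain ⟨q, hq⟩ := IsIntegrallyClosed.isIntegral_iff.mp hz'
  obtain ⟨a, b, hb, rfl⟩ := IsFractionRing.div_surjective (A := S) z
  have hb0 : b ≠ 0 := nonZeroDivisors.ne_zero hb
  have hb0' : (b : P) ≠ 0 := fun e => hb0 (Subtype.ext e)
  have hab : (b : P) * q = a := by
    apply IsFractionRing.injective P K
    rw [map_mul, hq, map_div₀, hfS, hfS, mul_div_cancel₀]
    exact fun e => hb0' (IsFractionRing.injective P K (by rw [e, map_zero]))
  have hq' : q ∈ S := by
    have ha := a.2; have hbm := b.2
    simp only [hS, W4c5pointsetsdelpezzo.invRing, Algebra.mem_inf, Algebra.mem_iInf, AlgHom.mem_equalizer,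
      AlgHom.id_apply] at ha hbm ⊢
    refine ⟨fun g => ?_, fun s => ?_⟩
    · have := congrArg (W4c5pointsetsdelpezzo.slSubst k n m g) hab
      rw [map_mul, hbm.1 g, ha.1 g, ← hab] at this
      exact mul_left_cancel₀ hb0' this
    · have := congrArg (W4c5pointsetsdelpezzo.colScale k n m s.1) hab
      rw [map_mul, hbm.2 s, ha.2 s, ← hab] at this
      exact mul_left_cancel₀ hb0' this
  refine ⟨⟨q, hq'⟩, ?_⟩
  rw [eq_div_iff (fun e => hb0 (IsFractionRing.injective S (FractionRing S) (by rw [e, map_zero]))), ← map_mul]
  congr 1
  exact Subtype.ext (by show q * (b : P) = a; rw [mul_comm, hab])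

end Groth.Agent.S18265
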