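import Groth.Statements.S18267
import Groth.Agent.CorrFin75.Basic
import Groth.Agent.CurveCohLib.SubBundle
import Groth.Agent.DimFormula.DedekindFlat

set_option autoImplicit false
open CategoryTheory CategoryTheory.Limits AlgebraicGeometry
open ZCorr

namespace Groth.Agent.S18267

/-- Over the complex numbers, suppose C is a quasi-projective curve that is smooth and irreducible and X
is a projective variety that is smooth and irreducible; take Z to be an integral closed subscheme of
C × X of dimension one whose projection to C is surjective (a non-vertical irreducible component of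
a correspondence from C to X). Then the projection Z → C is finite and flat. -/
theorem result
    (C X : Scheme.{0}) [C.Over (Spec (CommRingCat.of ℂ))] [X.Over (Spec (CommRingCat.of ℂ))]
    [AlgebraicGeometry.IsIntegral C] [Smooth (C ↘ Spec (CommRingCat.of ℂ))] (hC : RelProj.IsHQuasiProjective (C ↘ Spec (CommRingCat.of ℂ)))
    (hdimC : topologicalKrullDim C = 1)
    [AlgebraicGeometry.IsIntegral X] [Smooth (X ↘ Spec (CommRingCat.of ℂ))] (hX : RelProj.IsHProjective (X ↘ Spec (CommRingCat.of ℂ)))
    {Z : Scheme.{0}} (i : Z ⟶ pullback (C ↘ Spec (CommRingCat.of ℂ)) (X ↘ Spec (CommRingCat.of ℂ))) [IsClosedImmersion i]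
    [AlgebraicGeometry.IsIntegral Z] (hdimZ : topologicalKrullDim Z = 1)
    (hsurj : Function.Surjective ⇑(i ≫ pullback.fst (C ↘ Spec (CommRingCat.of ℂ)) (X ↘ Spec (CommRingCat.of ℂ)))) :
    IsFinite (i ≫ pullback.fst (C ↘ Spec (CommRingCat.of ℂ)) (X ↘ Spec (CommRingCat.of ℂ))) ∧
      Flat (i ≫ pullback.fst (C ↘ Spec (CommRingCat.of ℂ)) (X ↘ Spec (CommRingCat.of ℂ))) := by
  set f := i ≫ pullback.fst (C ↘ Spec (CommRingCat.of ℂ)) (X ↘ Spec (CommRingCat.of ℂ)) with hf
  haveI := CorrFin75.isProper_of_isHProjective hX
  haveI : IsProper (pullback.fst (C ↘ Spec (CommRingCat.of ℂ)) (X ↘ Spec (CommRingCat.of ℂ))) :=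
    MorphismProperty.of_isPullback (P := @IsProper) (IsPullback.of_hasPullback _ _).flip inferInstance
  haveI : IsProper f := inferInstance
  haveI : IsLocallyNoetherian C := LocallyOfFiniteType.isLocallyNoetherian (C ↘ Spec (CommRingCat.of ℂ))
  haveI : Surjective f := ⟨hsurj⟩
  have hgenmap : f (genericPoint Z) = genericPoint C := by
    refine IsGenericPoint.eq (S := Set.univ) ?_ (genericPoint_spec C)
    show closure {f (genericPoint Z)} = Set.univ
    refine Set.eq_univ_of_univ_subset (fun c _ => ?_)
    obtain ⟨z, rfl⟩ := hsurj c
    exact specializes_iff_mem_closure.1 ((genericPoint_specializes z).map f.continuous)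
  constructor
  · haveI : LocallyQuasiFinite f := by
      refine LocallyQuasiFinite.of_finite_preimage_singleton f fun c => ?_
      by_cases hc : c = genericPoint C
      · subst hc
        exact CorrFin75.finite_fibre_genericPoint f (C ↘ Spec (CommRingCat.of ℂ))
          (f ≫ (C ↘ Spec (CommRingCat.of ℂ))) rfl (hdimZ.trans hdimC.symm)
      · set pZ := f ≫ (C ↘ Spec (CommRingCat.of ℂ))
        have hc0 : VarDim.deg (C ↘ Spec (CommRingCat.of ℂ)) c = 0 := by
          have h := VarDim.topologicalKrullDim_eq_deg_genericPoint (C ↘ Spec (CommRingCat.of ℂ))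
          rw [hdimC] at h
          have h1 : VarDim.deg (C ↘ Spec (CommRingCat.of ℂ)) (genericPoint C) = 1 := by
            exact_mod_cast h.symm
          have : VarDim.deg (C ↘ Spec (CommRingCat.of ℂ)) c <
              VarDim.deg (C ↘ Spec (CommRingCat.of ℂ)) (genericPoint C) := by
            letI := specializationOrder C
            exact VarDim.deg_strictMono _ (lt_of_le_of_ne (genericPoint_specializes c) hc)
          omega
        have hcl : IsClosed ({c} : Set C) :=
          (VarDim.closedPoint_iff_deg_eq_zero (C ↘ Spec (CommRingCat.of ℂ)) c).2 hc0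
        have hclz : ∀ z ∈ f ⁻¹' {c}, IsClosed ({z} : Set Z) := by
          intro z hz
          rw [VarDim.closedPoint_iff_deg_eq_zero pZ]
          have hne : z ≠ genericPoint Z := fun e => hc (by rw [← hgenmap, ← e]; exact hz.symm)
          have : VarDim.deg pZ z < VarDim.deg pZ (genericPoint Z) := by
            letI := specializationOrder Z
            exact VarDim.deg_strictMono _ (lt_of_le_of_ne (genericPoint_specializes z) hne)
          have h := VarDim.topologicalKrullDim_eq_deg_genericPoint pZ
          rw [hdimZ] at h
          have h1 : VarDim.deg pZ (genericPoint Z) = 1 := by exact_mod_cast h.symm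
          omega
        haveI : CompactSpace Z := by
          haveI : QuasiCompact (C ↘ Spec (CommRingCat.of ℂ)) := by
            obtain ⟨n, j, hj, hjq, hj'⟩ := hC
            haveI := PnCoh.Chow.isProper_toSpec n (ULift.{0} ℤ)
            haveI : IsProper (CohB1.ProjSpaceOver.toBase n (Spec (CommRingCat.of ℂ))) :=
              MorphismProperty.of_isPullback (P := @IsProper) (IsPullback.of_hasPullback _ _)
                (PnCoh.Chow.isProper_toSpec n (ULift.{0} ℤ))
            rw [← hj']
            infer_instance
          exact QuasiCompact.compactSpace_of_compactSpace pZ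
        haveI : IsLocallyNoetherian Z := LocallyOfFiniteType.isLocallyNoetherian pZ
        haveI : IsNoetherian Z := { }
        obtain ⟨S, hS, hScl, hirr, hSu⟩ :=
          TopologicalSpace.NoetherianSpace.exists_finite_set_isClosed_irreducible
            (hcl.preimage f.continuous)
        rw [hSu] at hclz ⊢
        refine hS.sUnion fun t ht => Set.Subsingleton.finite ?_
        have hgen := (hirr t ht).isGenericPoint_genericPoint_closure
        rw [(hScl t ht).closure_eq] at hgen
        have h2 := hgen.def
        rw [(hclz _ (Set.mem_sUnion_of_mem hgen.mem ht)).closure_eq] at h2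
        rw [← h2]
        exact Set.subsingleton_singleton
    exact IsFinite.of_isProper_of_locallyQuasiFinite f
  · refine DimFormula.flat_of_regular_dim_le_one (fun y => ⟨?_, ?_⟩) f fun η hη => ?_
    · exact SmoothReg.isRegularLocalRing_stalk_of_mem_smoothLocus (C ↘ Spec (CommRingCat.of ℂ))
        (by rw [Scheme.Hom.smoothLocus_eq_top]; trivial)
    · exact (CurveCohLib.ringKrullDim_stalk_le_topologicalKrullDim y).trans hdimC.le
    · rw [← hη (genericPoint Z) (genericPoint_specializes η), hgenmap]

end Groth.Agent.S18267
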