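import Groth.Statements.S18304
import Groth.Agent.S18289
import Groth.Agent.S18294
import Groth.Agent.S18295
import Groth.Agent.S18299
import Groth.Agent.S18302
import Groth.Agent.MiscTwoH99.AffSheafDesc
-- import your own Groth.Agent.* helpers here

set_option autoImplicit false
universe u
open CategoryTheory MonoidalCategory CartesianMonoidalCategory MonObj AlgebraicGeometry Opposite
open Magnet

namespace Groth.Agent.S18304

open CategoryTheory.Limits

variable {S : Scheme.{u}} {M : Type} [AddCommGroup M] [AddGroup.FG M]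

/-- Naturality of postcomposition on representing objects. -/
theorem homEquiv_natural {F : (Over S)ᵒᵖ ⥤ Type u} {A : Over S} (e : F.RepresentableBy A) {T T' : Over S}
    (t : T' ⟶ T) (z : T ⟶ A) : e.homEquiv (t ≫ z) = F.map t.op (e.homEquiv z) :=
  e.homEquiv_comp t z

/-- The fixed points of `D(M/Z)` on a scheme affine over the base form a closed subscheme. -/
theorem exists_fixed (Z : AddSubgroup M) (U : Over S) [IsAffineHom U.hom] (aU : AlgGrp.Action (Red.DS S M) U) :
    ∃ (W' : Over S) (i' : W' ⟶ U)
      (e' : (Magnet.MonAct.fixedPsh ((Magnet.MonAct.ofAction aU).restrict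
        (Magnet.AMonS.map S (QuotientAddGroup.mk' Z)))).RepresentableBy W'),
      IsClosedImmersion i'.left ∧ ∀ (T : Over S) (w : T ⟶ W'),
        (Magnet.MonAct.fixedPshι _).app (op T) (e'.homEquiv w) = w ≫ i' := by
  obtain ⟨W', i', e, hi, he⟩ := Groth.Agent.S18295.result S M Z.toAddSubmonoid U (Magnet.MonAct.ofAction aU)
  obtain ⟨d, hd⟩ := Groth.Agent.S18289.result S M Z U aU
  refine ⟨W', i', e.ofIso d, hi, fun T w => ?_⟩
  rw [← he T w, ← hd]
  rfl

set_option maxHeartbeats 800000 in
theorem main (X U : Over S) (aX : AlgGrp.Action (Red.DS S M) X) (aU : AlgGrp.Action (Red.DS S M) U)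
    [IsAffineHom U.hom] (f : U ⟶ X) [Etale f.left] [Surjective f.left]
    (hf : Magnet.MonAct.IsEquivariant (Magnet.MonAct.ofAction aU) (Magnet.MonAct.ofAction aX) f)
    (N : AddSubmonoid M) (Z : AddSubgroup M) (Q : AddSubmonoid M) (hQ : Magnet.IsFace N Q) (hZ : Z.toAddSubmonoid = Q)
    (hfZ : Magnet.MonAct.IsEquivariant
      ((Magnet.MonAct.ofAction aU).restrict (Magnet.AMonS.map S (QuotientAddGroup.mk' Z)))
      ((Magnet.MonAct.ofAction aX).restrict (Magnet.AMonS.map S (QuotientAddGroup.mk' Z))) f)
    (hfpr : IsPullback (Magnet.MonAct.fixedPsh.map f hfZ)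
      (Magnet.MonAct.fixedPshι ((Magnet.MonAct.ofAction aU).restrict (Magnet.AMonS.map S (QuotientAddGroup.mk' Z))))
      (Magnet.MonAct.fixedPshι ((Magnet.MonAct.ofAction aX).restrict (Magnet.AMonS.map S (QuotientAddGroup.mk' Z))))
      (yoneda.map f))
    (h : N.FG ∨ (IsSeparated X.hom ∧ LocallyOfFinitePresentation X.hom)) :
    ∃ (ZN Zs : Over S) (eN : (Magnet.attr (Magnet.MonAct.ofAction aX) N).RepresentableBy ZN)
      (es : (Magnet.attr (Magnet.MonAct.ofAction aX) Q).RepresentableBy Zs) (j : ZN ⟶ Zs),
      IsAffineHom j.left ∧ ∀ (T : Over S) (z : T ⟶ ZN),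
        es.homEquiv (z ≫ j) = (Magnet.attrFace (Magnet.MonAct.ofAction aX) hQ).app (op T) (eN.homEquiv z) := by
  subst hZ
  let bX := Magnet.MonAct.ofAction aX
  let bU := Magnet.MonAct.ofAction aU
  let pN := Magnet.MonAct.eqvHom.postcomp (Magnet.subAct S M N) f hf
  let pQ := Magnet.MonAct.eqvHom.postcomp (Magnet.subAct S M Z.toAddSubmonoid) f hf
  obtain ⟨ZU, kU, eU, hkU, -⟩ := Groth.Agent.S18295.result S M N U bU
  obtain ⟨dU, hdU⟩ := Groth.Agent.S18289.result S M Z U aU
  obtain ⟨dX, hdX⟩ := Groth.Agent.S18289.result S M Z X aX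
  obtain ⟨WU, iU, eWU, hiU, heWU⟩ := Groth.Agent.S18295.result S M Z.toAddSubmonoid U bU
  let aXZ : AlgGrp.Action (Red.DS S (M ⧸ Z)) X :=
    (((Magnet.MonAct.ofAction aX).restrict (Magnet.AMonS.map S (QuotientAddGroup.mk' Z))) :
      Magnet.MonAct (Red.DS S (M ⧸ Z)) X).toAction
  let aUZ : AlgGrp.Action (Red.DS S (M ⧸ Z)) U :=
    (((Magnet.MonAct.ofAction aU).restrict (Magnet.AMonS.map S (QuotientAddGroup.mk' Z))) :
      Magnet.MonAct (Red.DS S (M ⧸ Z)) U).toAction
  obtain ⟨WX, iX, eF, hiX, heF⟩ := Groth.Agent.S18299.result S (M ⧸ Z) X U aXZ aUZ f hfZ hfpr (exists_fixed Z U aU)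
  let eWX : (Magnet.attr bX Z.toAddSubmonoid).RepresentableBy WX := eF.ofIso dX.symm
  have heWX : ∀ (T : Over S) (w : T ⟶ WX), (Magnet.attrToX bX Z.toAddSubmonoid).app (op T) (eWX.homEquiv w) = w ≫ iX := by
    intro T w
    rw [← heF T w, ← hdX]
    exact congrArg (fun v => (Magnet.MonAct.fixedPshι _).app (op T) v) (ConcreteCategory.congr_hom (dX.inv_hom_id_app (op T)) _)
  let q : WU ⟶ WX := eWX.homEquiv.symm (pQ.app _ (eWU.homEquiv (𝟙 WU)))
  have hq : ∀ (T : Over S) (x : T ⟶ WU), eWX.homEquiv (x ≫ q) = pQ.app _ (eWU.homEquiv x) := by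
    intro T x
    rw [homEquiv_natural, Equiv.apply_symm_apply, ← NatTrans.naturality_apply, ← homEquiv_natural, Category.comp_id]
  have hev : ∀ (T : Over S) (ψ : (Magnet.attr bU Z.toAddSubmonoid).obj (op T)),
      (Magnet.attrToX bX Z.toAddSubmonoid).app (op T) (pQ.app _ ψ) =
        (Magnet.attrToX bU Z.toAddSubmonoid).app (op T) ψ ≫ f := fun T ψ => by
    show lift _ _ ≫ (ψ.1 ≫ f) = (lift _ _ ≫ ψ.1) ≫ f
    exact (Category.assoc _ _ _).symm
  have hiq : iU ≫ f = q ≫ iX := by
    have h1 := heWX WU (𝟙 WU ≫ q)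
    rw [hq, hev, heWU, Category.id_comp, Category.id_comp] at h1
    exact h1
  have hmono : Mono iX := (Over.forget S).mono_of_mono_map (inferInstanceAs (Mono iX.left))
  have hmonoU : Mono iU := (Over.forget S).mono_of_mono_map (inferInstanceAs (Mono iU.left))
  have hlift : ∀ (T : Over S) (w : T ⟶ WX) (u : T ⟶ U), u ≫ f = w ≫ iX → ∃ x : T ⟶ WU, x ≫ iU = u := by
    intro T w u hwu
    have hp := hfpr.map ((CategoryTheory.evaluation _ _).obj (op T))
    rw [CategoryTheory.Limits.Types.isPullback_iff] at hp
    obtain ⟨χ, -, hχ⟩ := hp.2.2 (eF.homEquiv w) u ((heF T w).trans hwu.symm)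
    refine ⟨eWU.homEquiv.symm (dU.inv.app _ χ), ?_⟩
    rw [← heWU, Equiv.apply_symm_apply, ← hdU]
    exact (congrArg (fun v => (Magnet.MonAct.fixedPshι _).app (op T) v)
      (ConcreteCategory.congr_hom (dU.inv_hom_id_app (op T)) χ)).trans hχ
  have hpb : IsPullback q iU iX f := by
    refine ⟨⟨hiq.symm⟩, ⟨PullbackCone.IsLimit.mk hiq.symm
      (fun c => (hlift c.pt c.fst c.snd c.condition.symm).choose) (fun c => ?_) (fun c => ?_) (fun c m hm1 hm2 => ?_)⟩⟩
    · rw [← cancel_mono iX, Category.assoc, ← hiq, ← Category.assoc,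
        (hlift c.pt c.fst c.snd c.condition.symm).choose_spec, c.condition]
    · exact (hlift c.pt c.fst c.snd c.condition.symm).choose_spec
    · rw [← cancel_mono iU, hm2, (hlift c.pt c.fst c.snd c.condition.symm).choose_spec]
  have hpb' := hpb.map (Over.forget S)
  haveI hqE : Etale q.left := MorphismProperty.of_isPullback (P := @Etale) hpb'.flip ‹_›
  haveI : Surjective q.left := MorphismProperty.of_isPullback (P := @Surjective) hpb'.flip ‹_›
  haveI : Flat q.left := inferInstance
  haveI : LocallyOfFinitePresentation q.left := inferInstance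
  let z : ZU ⟶ WU := eWU.homEquiv.symm ((Magnet.attrFace bU hQ).app _ (eU.homEquiv (𝟙 ZU)))
  have hz : ∀ (T : Over S) (w : T ⟶ ZU), eWU.homEquiv (w ≫ z) = (Magnet.attrFace bU hQ).app _ (eU.homEquiv w) := by
    intro T w
    rw [homEquiv_natural, Equiv.apply_symm_apply, ← NatTrans.naturality_apply, ← homEquiv_natural, Category.comp_id]
  haveI : IsAffineHom z.left := by
    haveI : IsAffineHom ZU.hom := by rw [← Over.w kU]; infer_instance
    haveI : IsAffineHom WU.hom := by rw [← Over.w iU]; infer_instance
    haveI : IsAffineHom (z.left ≫ WU.hom) := by rw [Over.w z]; infer_instance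
    exact IsAffineHom.of_comp z.left WU.hom
  let ηF : Magnet.attr bX N ⟶ yoneda.obj WX :=
    Magnet.attrFace bX hQ ≫ (Functor.representableByEquiv eWX).inv
  have hev' : ∀ (T : Over S) (φ : (Magnet.attr bX N).obj (op T)) (w : T ⟶ WX),
      ηF.app (op T) φ = w ↔ eWX.homEquiv w = (Magnet.attrFace bX hQ).app _ φ := by
    intro T φ w
    show eWX.homEquiv.symm ((Magnet.attrFace bX hQ).app _ φ) = w ↔ _
    rw [Equiv.symm_apply_eq]
    exact eq_comm
  let el : (Magnet.attr bX N).obj (op ZU) := pN.app _ (eU.homEquiv (𝟙 ZU))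
  have hel : ∀ (T : Over S) (w : T ⟶ ZU), (Magnet.attr bX N).map w.op el = pN.app _ (eU.homEquiv w) := by
    intro T w
    rw [← NatTrans.naturality_apply, ← homEquiv_natural, Category.comp_id]
  have hsq : ∀ (T : Over S) (χ : (Magnet.attr bU N).obj (op T)),
      (Magnet.attrFace bX hQ).app _ (pN.app _ χ) = pQ.app _ ((Magnet.attrFace bU hQ).app _ χ) :=
    fun T χ => Subtype.ext (Category.assoc _ _ _).symm
  have hpbF := Groth.Agent.S18302.result S M X U aX aU f hf N Z.toAddSubmonoid hQ h
  obtain ⟨ZN, j, e, hj, he⟩ := Groth.Agent.MiscTwoH99.AffSheafDesc.exists_representableBy q z ηF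
    ((isSheaf_iff_isSheaf_of_type _ _).mp (Groth.Agent.S18294.result S _ _ X (Magnet.subAct S M N) bX))
    (el := el) ((hev' ZU el (z ≫ q)).mpr (by rw [hq, hsq, ← hz ZU (𝟙 ZU), Category.id_comp]))
    (fun T x φ hφ => by
      have hp := hpbF.map ((CategoryTheory.evaluation _ _).obj (op T))
      rw [CategoryTheory.Limits.Types.isPullback_iff] at hp
      have h1 := (hev' T φ (x ≫ q)).mp hφ
      rw [hq] at h1
      obtain ⟨χ, hχ1, hχ2⟩ := hp.2.2 φ (eWU.homEquiv x) h1.symm
      refine ⟨eU.homEquiv.symm χ, ⟨eWU.homEquiv.injective (by rw [hz, Equiv.apply_symm_apply]; exact hχ2), ?_⟩, ?_⟩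
      · rw [hel, Equiv.apply_symm_apply]
        exact hχ1
      · rintro w ⟨hw1, hw2⟩
        apply eU.homEquiv.injective
        rw [Equiv.apply_symm_apply]
        refine hp.2.1 _ _ ⟨?_, ?_⟩
        · rw [hel] at hw2
          exact hw2.trans hχ1.symm
        · exact ((hz T w).symm.trans (congrArg eWU.homEquiv hw1)).trans hχ2.symm)
  exact ⟨ZN, WX, e, eWX, j, hj, fun T w => (hev' T _ _).mp (he T w)⟩

/-- Let M be a finitely generated commutative group, X an S-scheme with an action of the diagonalizable
group scheme D(M)_S, N a submonoid (magnet) of M and Z the subgroup of M underlying the face N* of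
invertible elements of N. Suppose given an S-affine N*-FPR atlas: an S-scheme U affine over S with a
D(M)_S-action and an equivariant morphism f : U → X over S which is étale and surjective and
fixed-point reflecting for the induced actions of D(M/Z)_S (the square of D(M/Z)_S-fixed-point
functors over U → X is cartesian). Assume that N is finitely generated as a monoid, or that X is
locally of finite presentation and separated over S. Then the attractors X^N and X^{N*} are
representable by S-schemes Z_N and Z_*, and the face projection X^N → X^{N*} corresponds to an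
affine morphism Z_N → Z_*. (The published statement allows any commutative group M, X an algebraic
space and an atlas that is a disjoint union of S-affine schemes each stable under D(M)_S, assumes in
its first alternative only that X is separated, and lists further permanence properties of X^N —
quasi-separated, separated, locally of finite presentation, quasi-compact, of finite presentation —
which are not restated here. Its argument uses the base change of étale equivariant maps along faces
and the identification of attractors of subgroups with fixed points, both established for M finitely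
generated, so M is taken finitely generated here; and finite presentation is assumed with
separatedness because the directed-union step used in that case needs it.) -/
theorem result (S : Scheme.{u}) (M : Type) [AddCommGroup M]
    [AddGroup.FG M] (X U : Over S) (aX : AlgGrp.Action (Red.DS S M) X) (aU : AlgGrp.Action (Red.DS S M) U)
    [IsAffineHom U.hom] (f : U ⟶ X) [Etale f.left] [Surjective f.left]
    (hf : Magnet.MonAct.IsEquivariant (Magnet.MonAct.ofAction aU) (Magnet.MonAct.ofAction aX) f)
    (N : AddSubmonoid M) (Z : AddSubgroup M) (hZ : Z.toAddSubmonoid = Magnet.unitFace N)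
    (hfZ : Magnet.MonAct.IsEquivariant
      ((Magnet.MonAct.ofAction aU).restrict (Magnet.AMonS.map S (QuotientAddGroup.mk' Z)))
      ((Magnet.MonAct.ofAction aX).restrict (Magnet.AMonS.map S (QuotientAddGroup.mk' Z))) f)
    (hfpr : IsPullback (Magnet.MonAct.fixedPsh.map f hfZ)
      (Magnet.MonAct.fixedPshι ((Magnet.MonAct.ofAction aU).restrict (Magnet.AMonS.map S (QuotientAddGroup.mk' Z))))
      (Magnet.MonAct.fixedPshι ((Magnet.MonAct.ofAction aX).restrict (Magnet.AMonS.map S (QuotientAddGroup.mk' Z))))
      (yoneda.map f))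
    (h : N.FG ∨ (IsSeparated X.hom ∧ LocallyOfFinitePresentation X.hom)) :
    ∃ (ZN Zs : Over S) (eN : (Magnet.attr (Magnet.MonAct.ofAction aX) N).RepresentableBy ZN)
      (es : (Magnet.attr (Magnet.MonAct.ofAction aX) (Magnet.unitFace N)).RepresentableBy Zs) (j : ZN ⟶ Zs),
      IsAffineHom j.left ∧ ∀ (T : Over S) (z : T ⟶ ZN),
        es.homEquiv (z ≫ j) = (Magnet.attrFace (Magnet.MonAct.ofAction aX) (Magnet.isFace_unitFace N)).app (op T)
          (eN.homEquiv z) := by
  exact main X U aX aU f hf N Z (Magnet.unitFace N) (Magnet.isFace_unitFace N) hZ hfZ hfpr h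

end Groth.Agent.S18304
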