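import Groth.Statements.S18309
import Groth.Agent.AlgSpQ4.ChartLift
import Groth.Agent.AlgSpLib.EtaleSmoothLocal

set_option autoImplicit false
universe u
open CategoryTheory CategoryTheory.Limits AlgebraicGeometry
open AlgSp

namespace Groth.Agent.S18309

/-- Let S be a scheme, f : Z → X a morphism of algebraic spaces over S which is smooth (étale locally on
source and target), R a Henselian local ring with residue field k = R/m and structure morphism Spec
R → S, z : h_{Spec R} → X an R-point of X, and z₀' : h_{Spec k} → Z a k-point of Z whose composite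
with f is the restriction of z to Spec k. Then there is an R-point z' : h_{Spec R} → Z with z'
followed by f equal to z and whose restriction to Spec k is z₀'. The source states this for X an
algebraic stack (lifting up to isomorphism); the algebraic-space case is stated here. -/
theorem result {S : Scheme.{u}} {Z X : AlgSp.Space S}
    (f : Z ⟶ X) (hf : AlgSp.LocP @Smooth f.hom)
    (R : Type u) [CommRing R] [HenselianLocalRing R] (str : Spec (CommRingCat.of R) ⟶ S)
    (z : (AlgSp.yon S).obj (Over.mk str) ⟶ X.obj)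
    (z₀ : (AlgSp.yon S).obj (Over.mk (Spec.map (CommRingCat.ofHom (IsLocalRing.residue R)) ≫ str)) ⟶ Z.obj)
    (w : z₀ ≫ f.hom = (AlgSp.yon S).map (Over.homMk (Spec.map (CommRingCat.ofHom (IsLocalRing.residue R))) rfl :
        Over.mk (Spec.map (CommRingCat.ofHom (IsLocalRing.residue R)) ≫ str) ⟶ Over.mk str) ≫ z) :
    ∃ z' : (AlgSp.yon S).obj (Over.mk str) ⟶ Z.obj, z' ≫ f.hom = z ∧
      (AlgSp.yon S).map (Over.homMk (Spec.map (CommRingCat.ofHom (IsLocalRing.residue R))) rfl :
        Over.mk (Spec.map (CommRingCat.ofHom (IsLocalRing.residue R)) ≫ str) ⟶ Over.mk str) ≫ z' = z₀ := by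
  obtain ⟨W, p, g₀, hW, hp, hg₀⟩ := AlgSpQ4.exists_affine_chart_through Z.property
    (k := IsLocalRing.ResidueField R) (σ := (AlgSpQ4.closedOver R str).hom) z₀
  have hpf : LocP @Smooth (p ≫ f.hom) := AlgSpLib.locP_comp (P := @Smooth) (IsAlgSpace.yon_obj W) Z.property
    X.property (AlgSpLib.locP_of_repWith (AlgSpLib.repWith_mono (P := @Etale) (Q := @Smooth)
      (fun _ _ e (_ : Etale e) => inferInstanceAs (Smooth e)) _ hp)) hf
  have hr := AlgSpLib.repWith_of_locP X.property (X.property.representable_from_yon _) hpf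
  let WR := hr.rep.pullback z
  let q : WR ⟶ Over.mk str := hr.rep.snd z
  have sq := hr.rep.isPullback' z
  obtain ⟨u, hu₁, hu₂⟩ := AlgSpQ4.exists_lift_yon sq g₀ (AlgSpQ4.closedIncl R str) (by
    rw [← Category.assoc]
    exact (congrArg (· ≫ f.hom) hg₀).trans w)
  let q' : WR.left ⟶ Spec (CommRingCat.of R) := q.left
  have : Smooth q' := hr.property_snd z
  obtain ⟨τ, hτ₁, hτ₂⟩ := AlgSpQ4.exists_section_smooth (IsLocalRing.maximalIdeal R)
    (IsLocalRing.maximalIdeal.isMaximal R).ne_top q' u.left (congrArg (fun e => e.left) hu₂)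
  let τ' : Over.mk str ⟶ WR := Over.homMk τ (by
    change τ ≫ WR.hom = str
    rw [← Over.w q, ← Category.assoc, show τ ≫ q.left = 𝟙 _ from hτ₁]
    exact Category.id_comp _)
  have hτq : τ' ≫ q = 𝟙 _ := Over.OverMorphism.ext hτ₁
  refine ⟨(yon S).map (τ' ≫ hr.rep.fst' z) ≫ p, ?_, ?_⟩
  · rw [Functor.map_comp, Category.assoc, Category.assoc]
    erw [sq.w]
    rw [← Functor.map_comp_assoc, hτq]
    simp
  · rw [← Functor.map_comp_assoc, ← Category.assoc (Y := WR)]
    rw [show Over.homMk (Spec.map (CommRingCat.ofHom (IsLocalRing.residue R))) rfl ≫ τ' = u from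
      Over.OverMorphism.ext hτ₂, hu₁]
    exact hg₀

end Groth.Agent.S18309
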