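import Groth.Statements.S18313
import Groth.Agent.AlgSpQ4.QuotPts
import Groth.Agent.AlgSpLib.EtaleSmoothLocal

set_option autoImplicit false
universe u
open CategoryTheory CategoryTheory.Limits AlgebraicGeometry
open AlgSp

namespace Groth.Agent.S18313

/-- Let R be a Henselian local ring, S = Spec R, and X an algebraic space over S which is smooth over S,
in the sense that there are a scheme U over S with smooth structure morphism U → S and a
representable étale, representable surjective morphism h_U → X. Then for every ideal a ≠ R, every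
point h_{Spec (R/a)} → X over S is the composite of h_q with a point h_S → X over S, where q : Spec
(R/a) → S is the closed immersion. The source states this for smooth algebraic stacks over R whose
diagonal has a separated fibre over the closed point (essential surjectivity on R/a-points); the
algebraic-space case is stated here. -/
theorem result (R : Type u) [CommRing R] [HenselianLocalRing R]
    (X : AlgSp.Space (Spec (CommRingCat.of R)))
    (hX : ∃ (U : Over (Spec (CommRingCat.of R))) (c : (AlgSp.yon (Spec (CommRingCat.of R))).obj U ⟶ X.obj),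
      Smooth U.hom ∧ AlgSp.RepWith @Etale c ∧ AlgSp.RepWith @Surjective c)
    (a : Ideal R) (ha : a ≠ ⊤)
    (x₀ : (AlgSp.yon (Spec (CommRingCat.of R))).obj (Over.mk (Spec.map (CommRingCat.ofHom (Ideal.Quotient.mk a)))) ⟶ X.obj) :
    ∃ x : (AlgSp.yon (Spec (CommRingCat.of R))).obj (Over.mk (𝟙 (Spec (CommRingCat.of R)))) ⟶ X.obj,
      (AlgSp.yon (Spec (CommRingCat.of R))).map (Over.homMk (Spec.map (CommRingCat.ofHom (Ideal.Quotient.mk a)))
        (Category.comp_id _) : Over.mk (Spec.map (CommRingCat.ofHom (Ideal.Quotient.mk a))) ⟶ Over.mk (𝟙 _)) ≫ x = x₀ := by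
  obtain ⟨U, c, hU, hc, hcs⟩ := hX
  have := AlgSpQ4.henselianLocalRing_quotient a ha
  obtain ⟨Z, p, g, -, hp, hg⟩ := AlgSpQ4.exists_affine_chart_henselian
    (str := Spec.map (CommRingCat.ofHom (Ideal.Quotient.mk a))) X.property x₀
  let W := hc.rep.pullback p
  let b : W ⟶ Z := hc.rep.snd p
  let t : W ⟶ U := hc.rep.fst' p
  have hb : Etale b.left := hc.property_snd p
  have hbs : Surjective b.left := hcs.property _ _ _ (hc.rep.isPullback p)
  have ht : Etale t.left := hp.property _ _ _ (hc.rep.isPullback' p).flip
  have : Smooth Z.hom := by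
    have h : Smooth (b.left ≫ Z.hom) := by
      rw [Over.w b, ← Over.w t]
      have := hU
      infer_instance
    exact AlgSpLib.IsEtLocal.of_precomp (P := @Smooth) b.left Z.hom hb hbs h
  obtain ⟨τ, hτ₁, hτ₂⟩ := AlgSpQ4.exists_section_smooth a ha Z.hom g.left (Over.w g)
  refine ⟨(yon _).map (Over.homMk τ hτ₁ : Over.mk (𝟙 _) ⟶ Z) ≫ p, ?_⟩
  rw [← Functor.map_comp_assoc]
  refine Eq.trans ?_ hg
  congr 2
  exact Over.OverMorphism.ext hτ₂

end Groth.Agent.S18313
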