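import Groth.Statements.S18318
import Groth.Agent.GrpSchLib.AffineHopf
import Groth.Agent.GrpSchLib.Reduced
import Groth.Agent.GeomField.Algebra
import Mathlib.FieldTheory.Perfect
import Mathlib.RingTheory.Nilpotent.Lemmas
import Groth.Agent.SchTorsor.Props
import Groth.Agent.TorsNorm28.Basic
import Mathlib.Topology.Separation.Connected

set_option autoImplicit false
universe u
open CategoryTheory AlgebraicGeometry
open NonAbH1

namespace Groth.Agent.S18318

open MonoidalCategory CartesianMonoidalCategory
open scoped TensorProduct MonObj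
open Groth.Agent.GrpSchLib

set_option linter.style.haveILetI false

/-- The augmentation ideal of the functions on a finite connected group is nilpotent. -/
theorem exists_pow_ker_counit_eq_bot (K A : Type u) [Field K] [CommRing A] [Bialgebra K A] [Module.Finite K A]
    [PreconnectedSpace (PrimeSpectrum A)] :
    ∃ d, RingHom.ker (Bialgebra.counitAlgHom K A) ^ d = ⊥ := by
  haveI : IsArtinianRing A := IsArtinianRing.of_finite K A
  haveI : Subsingleton (PrimeSpectrum A) := PreconnectedSpace.trivial_of_discrete
  let m : PrimeSpectrum A := ⟨RingHom.ker (Bialgebra.counitAlgHom K A), RingHom.ker_isPrime _⟩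
  have hm : m.asIdeal ≤ nilradical A := fun a ha => by
    rw [nilradical_eq_sInf, Ideal.mem_sInf]
    intro I hI
    rw [show I = m.asIdeal from congrArg PrimeSpectrum.asIdeal (Subsingleton.elim ⟨I, hI⟩ m)]
    exact ha
  obtain ⟨d, hd⟩ := IsNoetherianRing.isNilpotent_nilradical A
  exact ⟨d, le_bot_iff.mp (le_of_le_of_eq (Ideal.pow_right_mono hm d) hd)⟩

/-- An element with trivial difference in the tensor square comes from the ground field. -/
theorem mem_range_of_tmul_one_eq {K L : Type u} [Field K] [CommRing L] [Nontrivial L] [Algebra K L] (x : L)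
    (h : x ⊗ₜ[K] (1 : L) = 1 ⊗ₜ[K] x) : x ∈ (algebraMap K L).range := by
  obtain ⟨φ, hφ⟩ := (LinearMap.toSpanSingleton K L 1).exists_leftInverse_of_injective
    (LinearMap.ker_toSpanSingleton (R := K) (one_ne_zero (α := L)))
  have h1 : φ 1 = 1 := by
    have := LinearMap.congr_fun hφ 1
    simpa using this
  refine ⟨φ x, ?_⟩
  have h2 := congrArg (fun z => TensorProduct.lid K L (φ.rTensor L z)) h
  simp only [LinearMap.rTensor_tmul, TensorProduct.lid_tmul] at h2
  rw [h1, one_smul] at h2
  rw [Algebra.algebraMap_eq_smul_one, h2]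

/-- Points of a torsor over the tensor square of a field agree modulo the image of the augmentation ideal. -/
theorem exists_residue_pow {K : Type u} [Field K] {G : Over (Spec (CommRingCat.of K))} [GrpObj G]
    {A : Type u} [CommRing A] [HopfAlgebra K A] (e : Grp.mk (AffineHopf.sp K A) ≅ Grp.mk G) {d : ℕ}
    (hd : RingHom.ker (Bialgebra.counitAlgHom K A) ^ d = ⊥)
    {X : Over (Spec (CommRingCat.of K))} (a : AlgGrp.Action G X) (ha : NonAbH1.IsPseudoTorsorSch a)
    {L : Type u} [Field L] [Algebra K L] (s : AffineHopf.sp K L ⟶ X) [Mono s] (x : L) :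
    (x ⊗ₜ[K] (1 : L) - 1 ⊗ₜ[K] x) ^ d = 0 := by
  haveI : IsIso (lift a.act (snd G X)) := ha
  let E : AffineHopf.sp K A ≅ G := (Grp.forget _).mapIso e
  haveI : IsMonHom E.hom := e.hom.hom.isMonHom_hom
  let iL : L →ₐ[K] L ⊗[K] L := Algebra.TensorProduct.includeLeft
  let iR : L →ₐ[K] L ⊗[K] L := Algebra.TensorProduct.includeRight
  let p₁ := AffineHopf.spMap iL ≫ s
  let p₂ := AffineHopf.spMap iR ≫ s
  let w := lift p₂ p₁ ≫ inv (lift a.act (snd G X))
  have hw : w ≫ lift a.act (snd G X) = lift p₂ p₁ := by rw [Category.assoc, IsIso.inv_hom_id, Category.comp_id]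
  obtain ⟨g, q', hgq⟩ : ∃ g q', w = lift g q' := ⟨w ≫ fst G X, w ≫ snd G X, by ext <;> simp⟩
  obtain rfl : q' = p₁ := by
    have := congrArg (fun z => z ≫ snd X X) hw
    rw [hgq] at this
    simpa using this
  have hact : lift g p₁ ≫ a.act = p₂ := by
    have := congrArg (fun z => z ≫ fst X X) hw
    rw [hgq] at this
    simpa using this
  obtain ⟨ψ, hψ⟩ := AffineHopf.exists_eq_spMap (g ≫ E.inv)
  let J := (RingHom.ker (Bialgebra.counitAlgHom K A)).map ψ
  let q : L ⊗[K] L →ₐ[K] (L ⊗[K] L) ⧸ J := Ideal.Quotient.mkₐ K J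
  have hg1 : AffineHopf.spMap q ≫ g = 1 := by
    have hq : q.comp ψ = (1 : WithConv (A →ₐ[K] (L ⊗[K] L) ⧸ J)).ofConv := by
      refine AlgHom.ext fun b => ?_
      rw [AlgHom.convOne_apply]
      show Ideal.Quotient.mk J (ψ b) = Ideal.Quotient.mk J (algebraMap K _ (CoalgebraStruct.counit b))
      rw [Ideal.Quotient.eq, ← ψ.commutes, ← map_sub]
      refine Ideal.mem_map_of_mem _ (RingHom.mem_ker.mpr ?_)
      rw [map_sub, AlgHom.commutes]
      exact sub_self _
    rw [← Category.comp_id g, ← E.inv_hom_id, reassoc_of% hψ, ← Category.assoc, AffineHopf.spMap_comp, hq,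
      AffineHopf.spMap_eq_mapMulEquiv, WithConv.toConv_ofConv, map_one, MonObj.one_comp]
  have hq12 : AffineHopf.spMap q ≫ p₂ = AffineHopf.spMap q ≫ p₁ := by
    rw [← hact, ← Category.assoc, comp_lift, hg1, Hom.one_def]
    rw [show lift (toUnit _ ≫ η[G]) (AffineHopf.spMap q ≫ p₁) =
      lift (toUnit _) (AffineHopf.spMap q ≫ p₁) ≫ (η[G] ▷ X) from (lift_whiskerRight _ _ _).symm, Category.assoc,
      a.one_act, leftUnitor_hom, lift_snd]
  simp only [p₁, p₂, ← Category.assoc, cancel_mono, AffineHopf.spMap_comp] at hq12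
  have h2 : q (iR x) = q (iL x) := by
    have h3 := congrArg CommaMorphism.left hq12
    exact ConcreteCategory.congr_hom (Spec.map_injective h3) x
  have hmem : x ⊗ₜ[K] (1 : L) - 1 ⊗ₜ[K] x ∈ J := Ideal.Quotient.eq.mp h2.symm
  have := Ideal.pow_mem_pow hmem d
  rwa [← Ideal.map_pow, hd, Ideal.map_bot, Ideal.mem_bot] at this

/-- Let K be a field of exponential characteristic p and G a finite connected K-group scheme. Then there
is an integer n ≥ 0 such that every G-torsor X over Spec K for the fppf topology (simply transitive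
action, a section over the members of some fppf covering) becomes trivial over the purely
inseparable extension K^{1/p^n} of K: equivalently, X admits a K-morphism from Spec K regarded as a
K-scheme through the n-th iterate x ↦ x^(p^n) of the Frobenius endomorphism of K. The source
moreover bounds n by p^n ≤ (#G)!; only the existence of a uniform n is stated here. In particular (p
= 1, characteristic zero) every such torsor is trivial. -/
theorem result (K : Type u) [Field K]
    (p : ℕ) [ExpChar K p] (G : Over (Spec (CommRingCat.of K))) [GrpObj G] [IsFinite G.hom] [ConnectedSpace G.left] :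
    ∃ n : ℕ, ∀ (X : Over (Spec (CommRingCat.of K))) (a : AlgGrp.Action G X), NonAbH1.IsTorsorFor Scheme.fppfPrecoverage a →
      NonAbH1.HasSectionOver X (Spec.map (CommRingCat.ofHom (iterateFrobenius K p n))) := by
  haveI : IsAffine G.left := isAffine_of_isAffineHom G.hom
  obtain ⟨A, _, _, ⟨e⟩⟩ := AffineHopf.exists_hopf G
  let E : AffineHopf.sp K A ≅ G := (Grp.forget _).mapIso e
  haveI : Module.Finite K A := by
    have h : IsFinite (Spec.map (CommRingCat.ofHom (algebraMap K A))) := by
      rw [show Spec.map (CommRingCat.ofHom (algebraMap K A)) = E.hom.left ≫ G.hom from (Over.w E.hom).symm]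
      haveI : IsIso E.hom.left := inferInstanceAs (IsIso ((Over.forget _).map E.hom))
      exact MorphismProperty.comp_mem _ _ _ (inferInstanceAs (IsFinite E.hom.left)) ‹IsFinite G.hom›
    exact RingHom.finite_algebraMap.mp ((IsFinite.SpecMap_iff _).mp h)
  haveI : ConnectedSpace (PrimeSpectrum A) :=
    (Scheme.homeoOfIso ((Over.forget _).mapIso E)).connectedSpace_iff.mpr ‹_›
  obtain ⟨d, hd⟩ := exists_pow_ker_counit_eq_bot K A
  obtain ⟨n, hn⟩ : ∃ n : ℕ, p = 1 ∨ d ≤ p ^ n := by
    rcases eq_or_ne p 1 with hp | hp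
    · exact ⟨0, .inl hp⟩
    · exact ⟨d, .inr (Nat.lt_pow_self (by have := expChar_pos K p; omega)).le⟩
  refine ⟨n, fun X a ⟨hps, hloc⟩ => ?_⟩
  obtain ⟨x₀⟩ : Nonempty X.left := by
    haveI := SchTorsor.surjective_hom (TorsNorm28.toFpqc ⟨hps, hloc⟩)
    exact ⟨(X.hom.surjective (IsLocalRing.closedPoint K)).choose⟩
  let L := X.left.residueField x₀
  let χ := Spec.preimage (X.left.fromSpecResidueField x₀ ≫ X.hom)
  letI : Algebra K L := χ.hom.toAlgebra
  let s : AffineHopf.sp K L ⟶ X := Over.homMk (X.left.fromSpecResidueField x₀) (Spec.map_preimage _).symm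
  haveI : Mono s := (Over.forget _).mono_of_mono_map
    (inferInstanceAs (Mono (X.left.fromSpecResidueField x₀)))
  have hmem : ∀ x : L, x ^ p ^ n ∈ (algebraMap K L).range := by
    intro x
    refine mem_range_of_tmul_one_eq _ ?_
    haveI : ExpChar L p := expChar_of_injective_algebraMap (algebraMap K L).injective p
    haveI : ExpChar (L ⊗[K] L) p := expChar_of_injective_algebraMap (algebraMap K (L ⊗[K] L)).injective p
    have hx := exists_residue_pow e hd a hps s x
    rcases hn with rfl | hn
    · haveI : CharZero K := charZero_of_expChar_one' K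
      haveI := GrpSchLib.isGeometricallyReduced_of_isReduced (k := K) L
      haveI := GeomField.isReduced_tensor_field (k := K) L L
      simp only [one_pow, pow_one]
      exact sub_eq_zero.mp (IsNilpotent.eq_zero ⟨d, hx⟩)
    · have h := pow_eq_zero_of_le hn hx
      rw [sub_pow_expChar_pow, Algebra.TensorProduct.tmul_pow, Algebra.TensorProduct.tmul_pow, one_pow] at h
      exact sub_eq_zero.mp h
  haveI : ExpChar L p := expChar_of_injective_algebraMap (algebraMap K L).injective p
  let r := RingEquiv.ofBijective (algebraMap K L).rangeRestrict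
    ⟨fun u v h => (algebraMap K L).injective (congrArg Subtype.val h), RingHom.rangeRestrict_surjective _⟩
  let φ : L →+* K := r.symm.toRingHom.comp ((iterateFrobenius L p n).codRestrict _ hmem)
  refine ⟨Spec.map (CommRingCat.ofHom φ) ≫ X.left.fromSpecResidueField x₀, ?_⟩
  rw [Category.assoc, ← Spec.map_preimage (X.left.fromSpecResidueField x₀ ≫ X.hom), ← Spec.map_comp]
  congr 1
  ext c
  apply (algebraMap K L).injective
  show algebraMap K L (r.symm _) = _
  rw [show ∀ z, algebraMap K L (r.symm z) = z.1 from fun z => congrArg Subtype.val (r.apply_symm_apply z)]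
  show iterateFrobenius L p n (algebraMap K L c) = algebraMap K L (iterateFrobenius K p n c)
  rw [iterateFrobenius_def, iterateFrobenius_def, map_pow]

end Groth.Agent.S18318
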