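import Groth.Statements.S18324
import Groth.Agent.AlgStkX.FieldChart.Lift
import Groth.Agent.AlgStkX.FieldChart.SmoothOver

set_option autoImplicit false
set_option backward.isDefEq.respectTransparency false
set_option backward.isDefEq.respectTransparency.types false
universe u
open AlgSt

namespace Groth.Agent.S18324

open CategoryTheory AlgebraicGeometry in
/-- Let R be a Henselian local ring, S = Spec R, and 𝒵 an algebraic stack over (Sch/S) for the fppf
topology which is smooth over S (in the chart sense: a smooth surjective scheme chart U of 𝒵 and a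
smooth V → S with a smooth U → V compatible up to isomorphism) and whose diagonal 𝒵 → 𝒵 ×_{(Sch/S)}
𝒵 is separated (representable by algebraic spaces with closed-immersion relative diagonal). Then for
every ideal a ≠ R, with q : Spec (R/a) → S the closed immersion, the restriction functor 𝒵(R) →
𝒵(R/a) is essentially surjective: every functor z₀ : (Sch/Spec (R/a)) → 𝒵 over (Sch/S) is isomorphic
to the composite of (Sch/q) with some functor z : (Sch/S) → 𝒵 over (Sch/S). The source assumes only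
that the fibre of the diagonal over the closed point is separated; the diagonal itself is taken
separated here. -/
theorem result (R : Type u) [CommRing R]
    [HenselianLocalRing R] (𝒵 : AlgSt.Cat (Spec (CommRingCat.of R)))
    (h𝒵 : AlgSt.IsAlgStack Scheme.fppfPrecoverage 𝒵)
    (hsm : AlgSt.LocQ (AlgSp.LocP @Smooth) (FibCat.toSelf 𝒵))
    (hΔ : AlgSt.RepByAlgSpWith AlgSp.IsSeparatedMor (FibCat.diag (FibCat.toSelf 𝒵)))
    (a : Ideal R) (ha : a ≠ ⊤)
    (z₀ : FibCat.overCat (Over.mk (Spec.map (CommRingCat.ofHom (Ideal.Quotient.mk a)))) ⥤ᵇ 𝒵) :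
    ∃ z : FibCat.overCat (Over.mk (𝟙 (Spec (CommRingCat.of R)))) ⥤ᵇ 𝒵,
      Nonempty (BasedFunctor.comp (AlgSt.overMap (Over.homMk (Spec.map (CommRingCat.ofHom (Ideal.Quotient.mk a)))
        (Category.comp_id _) : Over.mk (Spec.map (CommRingCat.ofHom (Ideal.Quotient.mk a))) ⟶ Over.mk (𝟙 _))) z ≅ z₀) := by
  obtain ⟨Z, p, -, hp, hlift⟩ := Groth.Agent.AlgStkX.FieldChart.exists_chart_lift_quot
    (Groth.Agent.AlgStLib.isStack_etale_of_fppf h𝒵.isStack) h𝒵.diag h𝒵.atlas (𝟙 (Spec (CommRingCat.of R)))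
  have hsmZ : Smooth Z.hom := Groth.Agent.AlgStkX.FieldChart.smooth_hom_of_chart h𝒵 hsm hp
  let Q := Over.mk (Spec.map (CommRingCat.ofHom (Ideal.Quotient.mk a)))
  let Q' := Groth.Agent.AlgSpQ4.quotOver a (𝟙 (Spec (CommRingCat.of R)))
  let e : Q ⟶ Q' := Over.homMk (𝟙 _) (by
    show 𝟙 _ ≫ Spec.map _ ≫ 𝟙 _ = Spec.map _
    rw [Category.id_comp, Category.comp_id])
  let e' : Q' ⟶ Q := Over.homMk (𝟙 _) (by
    show 𝟙 _ ≫ Spec.map _ = Spec.map _ ≫ 𝟙 _
    rw [Category.id_comp, Category.comp_id])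
  have hee : e ≫ e' = 𝟙 Q := Over.OverMorphism.ext (Category.id_comp _)
  obtain ⟨g, ⟨i⟩⟩ := hlift a (BasedFunctor.comp (AlgSt.overMap e') z₀)
  obtain ⟨σ, hσ₁, hσ₂⟩ := Groth.Agent.AlgSpQ4.exists_section_smooth a ha Z.hom g.left (by
    rw [Over.w g]
    show Spec.map _ ≫ 𝟙 _ = Spec.map _
    rw [Category.comp_id])
  let σ' : Over.mk (𝟙 (Spec (CommRingCat.of R))) ⟶ Z := Over.homMk σ hσ₁
  let ι : Q ⟶ Over.mk (𝟙 (Spec (CommRingCat.of R))) :=
    Over.homMk (Spec.map (CommRingCat.ofHom (Ideal.Quotient.mk a))) (Category.comp_id _)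
  have hι : ι ≫ σ' = e ≫ g := Over.OverMorphism.ext (hσ₂.trans (Category.id_comp _).symm)
  refine ⟨BasedFunctor.comp (AlgSt.overMap σ') p, ⟨?_⟩⟩
  exact Groth.Agent.FibBase.whiskerRightIso (Groth.Agent.AlgStLib.overMapCompIso ι σ' ≪≫ eqToIso (congrArg AlgSt.overMap hι) ≪≫
      (Groth.Agent.AlgStLib.overMapCompIso e g).symm) p ≪≫
    Groth.Agent.FibBase.whiskerLeftIso (AlgSt.overMap e) i ≪≫
    Groth.Agent.FibBase.whiskerRightIso (Groth.Agent.AlgStLib.overMapCompIso e e' ≪≫ eqToIso (congrArg AlgSt.overMap hee) ≪≫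
      Groth.Agent.AlgStkX.HensLift.overMapIdIso Q) z₀

end Groth.Agent.S18324
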