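import Groth.Statements.S18342
import Groth.Agent.VBCurvesLib.ExtVanish
import Groth.Agent.S1536
-- import your own Groth.Agent.* helpers here

set_option autoImplicit false
set_option linter.style.haveILetI false
set_option linter.unusedVariables false
set_option backward.isDefEq.respectTransparency false
set_option backward.isDefEq.respectTransparency.types false
universe u
open CategoryTheory CategoryTheory.Limits AlgebraicGeometry
open VBCurve

namespace Groth.Agent.S18342

open Groth.Agent.CurveBundle Groth.Agent.CurveSlope Groth.Agent.CurveStable Groth.Agent.VBCurvesLib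

/-- Let k be an algebraically closed field of characteristic zero and X a smooth proper geometrically
connected curve over k (topological dimension one) of genus g ≥ 2. Let E be a finite locally free
O_X-module of rank r ≥ 1 and degree 0, and F a finite locally free O_X-module of rank n ≥ 1 and
degree n(g − 1), degrees being χ − rank · χ(O_X). If every morphism E → F is zero, then E is
slope-semistable: deg G · r ≤ 0 for every finite locally free submodule G of E of positive rank. The
published statement concerns quasi-parabolic bundles of rank r with trivial determinant and flags at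
a finite set of points, and says that for n ≥ ⌈r²/4⌉ the closed substack of bundles that are not
semistable for a given system of weights is the base locus of the parabolic theta functions of order
n, these being attached to semistable F; this row is one inclusion of it (a bundle at which the
theta function of some F does not vanish is semistable) for a single bundle with no parabolic
points, for every n ≥ 1 and every F of the stated rank and degree, with degree 0 in place of trivial
determinant, and with the vanishing of Hom(E, F) in place of the vanishing of both Hom(E, F) and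
Ext^1(E, F). -/
theorem result (k : Type u) [Field k] [IsAlgClosed k] [CharZero k]
    (X : Scheme.{u}) [X.Over (Spec (CommRingCat.of k))]
    [IsProper (X ↘ Spec (CommRingCat.of k))] [Smooth (X ↘ Spec (CommRingCat.of k))]
    [GeometricallyConnected (X ↘ Spec (CommRingCat.of k))] (hdim : topologicalKrullDim ↥X = 1)
    (g : ℕ) (hg : Curv2.genus k X = g) (hg2 : 2 ≤ g)
    (E : X.Modules) (r : ℕ) (hr : 0 < r) (hE : FlatMod.IsFinLocFreeOfRank r E)
    (hEdeg : Curv2.deg k X E r = 0)
    (F : X.Modules) (n : ℕ) (hn : 0 < n) (hF : FlatMod.IsFinLocFreeOfRank n F)
    (hFdeg : Curv2.deg k X F n = (n : ℤ) * ((g : ℤ) - 1))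
    (hhom : ∀ φ : E ⟶ F, φ = 0) :
    ModFun.IsSlopeSemistable k X E r := by
  haveI := isIntegral_of_geometricallyConnected k (X := X)
  haveI := isLocallyNoetherian' k (X := X)
  haveI := Groth.Agent.GrpSchLib.geometricallyReduced_of_smooth (X ↘ Spec (CommRingCat.of k))
  have hO := Groth.Agent.S1536.result k X
  have hd0 : dg k E = 0 := by rw [← deg_eq_dg k hE, hEdeg]
  intro G r' i hi hr' hG
  haveI := hi
  rw [deg_eq_dg k hG, hEdeg, zero_mul]
  by_contra hpos
  push Not at hpos
  have hG0 : 0 < dg k G := pos_of_mul_pos_left hpos (Int.natCast_nonneg r)
  obtain ⟨Q, p, hp, hQ, hrQ, hdQ⟩ :=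
    exists_quot_bundle k hdim.le (isFinLocFree_of_rank hE) (isFinLocFree_of_rank hG) i
  haveI := hp
  have hQ0 : 0 < rk Q := by
    by_contra h0
    rw [dg_eq_zero_of_isZero k (isZero_of_rk_zero hQ (by omega))] at hdQ
    omega
  obtain ⟨φ, hφ⟩ := exists_hom_of_euler_pos k hdim hQ (isFinLocFree_of_rank hF) (by
    rw [rk_eq hF, ← deg_eq_dg k hF, hFdeg, Groth.Agent.CurveDuality.euler_structure k hO hdim, hg]
    have h1 : (n : ℤ) * dg k Q < 0 := mul_neg_of_pos_of_neg (by exact_mod_cast hn) (by omega)
    linear_combination h1)
  exact hφ (by rw [← cancel_epi p, hhom (p ≫ φ), comp_zero])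

end Groth.Agent.S18342
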