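import Groth.Statements.S18353
import Groth.Agent.S18352
import Groth.Agent.CurveEmbed.Equiv
import Groth.Agent.FlatMisc.SteinUC
import Groth.Agent.P1Norm.Sch

set_option autoImplicit false
universe u
open Curv2

namespace Groth.Agent.S18353

set_option backward.isDefEq.respectTransparency false
set_option backward.isDefEq.respectTransparency.types false
set_option linter.style.haveILetI false

open CategoryTheory AlgebraicGeometry in
/-- Let S be an integral Noetherian scheme all of whose local rings are integrally closed domains, and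
let f₁ : C₁ → S and f₂ : C₂ → S be flat, proper, locally finitely presented morphisms of schemes
whose fibres are geometrically reduced and geometrically connected, all of Krull dimension one, and
whose fibres over the generic point of S are smooth. Let φ : C₁ → C₂ be a morphism over S which is
birational, in the sense that it restricts to an isomorphism over some dense open subset of C₂. Then
the canonical map O_{C₂} → φ_* O_{C₁} is an isomorphism: for every open V of C₂ the pull-back map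
from sections over V to sections over φ⁻¹(V) is an isomorphism of rings. The total spaces are
schemes here; the source also allows algebraic spaces. -/
theorem result (S C₁ C₂ : Scheme.{u}) [IsIntegral S]
    [IsNoetherian S] (hS : Pi1.IsNormalScheme S) (f₁ : C₁ ⟶ S) (f₂ : C₂ ⟶ S)
    [Flat f₁] [IsProper f₁] [LocallyOfFinitePresentation f₁] [GeometricallyReduced f₁] [GeometricallyConnected f₁]
    [Flat f₂] [IsProper f₂] [LocallyOfFinitePresentation f₂] [GeometricallyReduced f₂] [GeometricallyConnected f₂]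
    (hdim₁ : ∀ s : ↥S, topologicalKrullDim ↥(f₁.fiber s) = 1) (hdim₂ : ∀ s : ↥S, topologicalKrullDim ↥(f₂.fiber s) = 1)
    (hsm₁ : Smooth (f₁.fiberToSpecResidueField (genericPoint ↥S)))
    (hsm₂ : Smooth (f₂.fiberToSpecResidueField (genericPoint ↥S)))
    (φ : C₁ ⟶ C₂) (hφ : φ ≫ f₂ = f₁) (hbir : ∃ U : C₂.Opens, Dense (U : Set ↥C₂) ∧ IsIso (φ ∣_ U)) :
    ∀ V : C₂.Opens, IsIso (φ.app V) := by
  haveI : IsNoetherian C₁ :=
    { toIsLocallyNoetherian := LocallyOfFiniteType.isLocallyNoetherian f₁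
      toCompactSpace := QuasiCompact.compactSpace_of_compactSpace f₁ }
  haveI : IsNoetherian C₂ :=
    { toIsLocallyNoetherian := LocallyOfFiniteType.isLocallyNoetherian f₂
      toCompactSpace := QuasiCompact.compactSpace_of_compactSpace f₂ }
  haveI : ConnectedSpace ↥C₁ := GeometricallyConnected.connectedSpace (f := f₁) f₁.isOpenMap
  haveI : ConnectedSpace ↥C₂ := GeometricallyConnected.connectedSpace (f := f₂) f₂.isOpenMap
  have hN₁ := Groth.Agent.S18352.result S C₁ hS f₁ hdim₁ hsm₁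
  have hN₂ := Groth.Agent.S18352.result S C₂ hS f₂ hdim₂ hsm₂
  haveI := Groth.Agent.CurveEmbed.isIntegral_of_normal_connected hN₁
  haveI := Groth.Agent.CurveEmbed.isIntegral_of_normal_connected hN₂
  haveI : IsProper (φ ≫ f₂) := hφ ▸ inferInstance
  haveI : IsProper φ := IsProper.of_comp φ f₂
  obtain ⟨U, hUd, hUiso⟩ := hbir
  haveI := hUiso
  refine fun V => FlatMisc.isIso_app_of_bijective_affine φ (fun z => ?_) V
  obtain ⟨_, ⟨W₀, hW₀, rfl⟩, hzW₀, -⟩ :=
    C₂.isBasis_affineOpens.exists_subset_of_mem_open (Set.mem_univ z) isOpen_univ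
  obtain ⟨W, hW, hzW⟩ : ∃ W : C₂.Opens, IsAffineOpen W ∧ z ∈ W := ⟨W₀, hW₀, hzW₀⟩
  refine ⟨W, hW, hzW, ?_⟩
  clear hW₀ hzW₀
  let W' : C₂.Opens := W ⊓ U
  obtain ⟨y, hyW'⟩ : (W' : Set ↥C₂).Nonempty := hUd.inter_open_nonempty W W.isOpen ⟨z, hzW⟩
  haveI : Nonempty ↥(W' : Scheme.{u}) := ⟨⟨y, hyW'⟩⟩
  haveI : Nonempty ↥(W : Scheme.{u}) := ⟨⟨y, hyW'.1⟩⟩
  obtain ⟨y', hy'⟩ : ∃ y', φ y' = y := by
    obtain ⟨w, hw⟩ := (φ ∣_ U).surjective ⟨y, hyW'.2⟩
    exact ⟨(φ ⁻¹ᵁ U).ι w, by rw [← Scheme.Hom.comp_apply, ← morphismRestrict_ι, Scheme.Hom.comp_apply, hw]; rfl⟩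
  haveI : IsIso (φ.app W') := by
    have h : W' = U.ι ''ᵁ (U.ι ⁻¹ᵁ W') := by
      rw [Scheme.Hom.image_preimage_eq_opensRange_inf, Scheme.Opens.opensRange_ι]
      exact (inf_eq_right.2 inf_le_right).symm
    rw [h]
    have h2 := morphismRestrict_app φ U (U.ι ⁻¹ᵁ W')
    have h3 : IsIso ((φ ∣_ U).app (U.ι ⁻¹ᵁ W')) := inferInstance
    rw [h2] at h3
    haveI := h3
    exact IsIso.of_isIso_comp_right _ (C₁.presheaf.map (eqToHom (image_morphismRestrict_preimage φ U (U.ι ⁻¹ᵁ W'))).op)
  have hle : W' ≤ W := inf_le_left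
  have hres₂ : Function.Injective (C₂.presheaf.map (homOfLE hle).op) := fun a b h => by
    apply germ_injective_of_isIntegral (X := C₂) y hyW'.1
    rw [← C₂.presheaf.germ_res_apply (homOfLE hle) y hyW' a, ← C₂.presheaf.germ_res_apply (homOfLE hle) y hyW' b, h]
  have hle₁ : φ ⁻¹ᵁ W' ≤ φ ⁻¹ᵁ W := fun a ha => hle ha
  have hres₁ : Function.Injective (C₁.presheaf.map (homOfLE hle₁).op) := fun a b h => by
    have hm : y' ∈ φ ⁻¹ᵁ W' := show φ y' ∈ W' from hy'.symm ▸ hyW'
    apply germ_injective_of_isIntegral (X := C₁) y' (hle₁ hm)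
    rw [← C₁.presheaf.germ_res_apply (homOfLE hle₁) y' hm a, ← C₁.presheaf.germ_res_apply (homOfLE hle₁) y' hm b, h]
  have hnat : ∀ a, φ.app W' (C₂.presheaf.map (homOfLE hle).op a) =
      C₁.presheaf.map (homOfLE hle₁).op (φ.app W a) := fun a =>
    congrArg (fun g => g.hom a) (φ.naturality (homOfLE hle).op)
  have hbW' : Function.Bijective (φ.app W') := ConcreteCategory.bijective_of_isIso _
  refine ⟨fun a b h => hres₂ (hbW'.1 (by rw [hnat, hnat, h])), fun s => ?_⟩
  obtain ⟨t, ht⟩ := hbW'.2 (C₁.presheaf.map (homOfLE hle₁).op s)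
  obtain ⟨P, hP, hPs⟩ : (φ.app W).hom.IsIntegralElem s := by
    haveI : IsAffine (W : Scheme.{u}) := hW
    have h := isIntegral_appTop_of_universallyClosed (φ ∣_ W)
    rw [morphismRestrict_appTop] at h
    have h' : (φ.app (W.ι ''ᵁ ⊤) ≫ C₁.presheaf.map (eqToHom (image_morphismRestrict_preimage φ W ⊤)).op).hom.IsIntegral := h
    have key : ∀ (W₁ : C₂.Opens) (V₁ : C₁.Opens) (e : V₁ = φ ⁻¹ᵁ W₁), W₁ = W →
        (φ.app W₁ ≫ C₁.presheaf.map (eqToHom e).op).hom.IsIntegral → (φ.app W).hom.IsIntegral := by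
      rintro W₁ V₁ e rfl h
      subst e
      simpa using h
    exact key _ _ _ (Scheme.Opens.ι_image_top W) h' s
  haveI : IsFractionRing Γ(C₂, W) C₂.functionField := functionField_isFractionRing_of_isAffineOpen C₂ W hW
  haveI : IsIntegrallyClosed Γ(C₂, W) := Groth.Agent.P1Norm.isIntegrallyClosed_sections hN₂ hW
  have hz : IsIntegral Γ(C₂, W) (C₂.germToFunctionField W' t) := by
    refine ⟨P, hP, ?_⟩
    have h0 : Polynomial.eval₂ (C₂.presheaf.map (homOfLE hle).op).hom t P = 0 := by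
      apply hbW'.1
      rw [map_zero]
      refine (Polynomial.hom_eval₂ P _ (φ.app W').hom t).trans ?_
      rw [show (φ.app W').hom.comp (C₂.presheaf.map (homOfLE hle).op).hom =
        (C₁.presheaf.map (homOfLE hle₁).op).hom.comp (φ.app W).hom from RingHom.ext hnat, ht,
        ← Polynomial.hom_eval₂, hPs, map_zero]
    have h1 := congrArg (C₂.germToFunctionField W').hom h0
    rw [Polynomial.hom_eval₂, map_zero] at h1
    refine Eq.trans ?_ h1
    congr 1
    refine RingHom.ext fun a => ?_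
    exact (C₂.presheaf.germ_res_apply (homOfLE hle) _ _ a).symm
  obtain ⟨a, ha⟩ := IsIntegrallyClosed.isIntegral_iff.1 hz
  refine ⟨a, hres₁ ?_⟩
  rw [← hnat, ← ht]
  congr 1
  apply C₂.germToFunctionField_injective W'
  exact (C₂.presheaf.germ_res_apply (homOfLE hle) _ _ a).trans ha

end Groth.Agent.S18353
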