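import Groth.Statements.S18364
import Mathlib
import Groth.Agent.CA2H40.ModifAux
-- import your own Groth.Agent.* helpers here

set_option autoImplicit false
universe u
open CAlg

namespace Groth.Agent.S18364

/-- Let A be a Noetherian ring, π an element of A, and (𝔓_i)_{i ∈ ι} an injective finite family listing
exactly the minimal prime ideals over (π). Let M be a finitely generated A-module and M̄ = M/πM. For
a subset T of ι let K(T) ⊆ M̄ be the submodule of elements whose image in the localisation of M̄ at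
𝔓_i is zero for every i ∈ T, and N(T) ⊆ M its preimage in M. Assume K(ι) = 0, i.e. no nonzero
element of M̄ vanishes at all the minimal primes (every associated prime of M̄ is one of the 𝔓_i).
Then for every subset Y of ι with complement Z one has N(Y) ∩ N(Z) = πM, and the same construction
applied to the module N(Y) instead of M — the preimage in N(Y) of the elements of N(Y)/πN(Y)
vanishing at every 𝔓_i with i ∈ Z — is, as a submodule of M, equal to N(Y) ∩ N(Z). (Geometric
meaning: A is the local ring of a flat family of curves over a discrete valuation ring with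
uniformizer π at a point of the reduced special fibre, M the stalk of a torsion-free rank-one sheaf
I, Y a set of components of the special fibre through the point, and N(Y) the stalk of the kernel
I^Y of I → I(s)_Y; the statement is (I^Y)^Z = I^Y ∩ I^Z = πI. Reducedness of A/πA, flatness and rank
one are not used.) -/
theorem result
    (A : Type u) [CommRing A] [IsNoetherianRing A] (π : A)
    (ι : Type) [Finite ι] (𝔓 : ι → Ideal A) [∀ i, (𝔓 i).IsPrime]
    (h𝔓 : ∀ i, 𝔓 i ∈ (Ideal.span {π}).minimalPrimes) (h𝔓inj : Function.Injective 𝔓)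
    (h𝔓surj : ∀ 𝔔 ∈ (Ideal.span {π}).minimalPrimes, ∃ i, 𝔓 i = 𝔔)
    (M : Type u) [AddCommGroup M] [Module A M] [Module.Finite A M]
    (K : Set ι → Submodule A (M ⧸ Ideal.span {π} • (⊤ : Submodule A M)))
    (hK : ∀ T : Set ι, K T = ⨅ i ∈ T, LinearMap.ker
      (LocalizedModule.mkLinearMap (𝔓 i).primeCompl (M ⧸ Ideal.span {π} • (⊤ : Submodule A M))))
    (htf : K Set.univ = ⊥)
    (N : Set ι → Submodule A M)
    (hN : ∀ T : Set ι, N T = (K T).comap (Submodule.mkQ (Ideal.span {π} • (⊤ : Submodule A M))))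
    (Y : Set ι) :
    N Y ⊓ N Yᶜ = Ideal.span {π} • (⊤ : Submodule A M) ∧
    Submodule.map (N Y).subtype
      ((⨅ i ∈ Yᶜ, LinearMap.ker (LocalizedModule.mkLinearMap (𝔓 i).primeCompl
          (↥(N Y) ⧸ Ideal.span {π} • (⊤ : Submodule A ↥(N Y))))).comap
        (Submodule.mkQ (Ideal.span {π} • (⊤ : Submodule A ↥(N Y)))))
      = N Y ⊓ N Yᶜ := by
  classical
  have hmem : ∀ (T : Set ι) (m : M), m ∈ N T ↔
      ∀ i ∈ T, ∃ s : A, s ∉ 𝔓 i ∧ s • Submodule.mkQ (Ideal.span {π} • (⊤ : Submodule A M)) m = 0 := by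
    intro T m
    rw [hN, Submodule.mem_comap, hK, CA2H40.mem_iInf_ker_iff]
  have hπ0 : ∀ x : M ⧸ Ideal.span {π} • (⊤ : Submodule A M), π • x = 0 := by
    intro x
    obtain ⟨m, rfl⟩ := Submodule.mkQ_surjective _ x
    rw [← map_smul, Submodule.mkQ_apply, Submodule.Quotient.mk_eq_zero]
    exact Submodule.smul_mem_smul (Ideal.mem_span_singleton_self π) trivial
  have h1 : N Y ⊓ N Yᶜ = Ideal.span {π} • (⊤ : Submodule A M) := by
    refine le_antisymm (fun m hm => ?_) (fun m hm => ?_)
    · obtain ⟨hY, hZ⟩ := Submodule.mem_inf.1 hm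
      rw [hmem] at hY hZ
      have : Submodule.mkQ _ m ∈ K Set.univ := by
        rw [hK, CA2H40.mem_iInf_ker_iff]
        intro i _
        by_cases hi : i ∈ Y
        · exact hY i hi
        · exact hZ i hi
      rw [htf, Submodule.mem_bot, Submodule.mkQ_apply, Submodule.Quotient.mk_eq_zero] at this
      exact this
    · have hz : Submodule.mkQ (Ideal.span {π} • (⊤ : Submodule A M)) m = 0 :=
        (Submodule.Quotient.mk_eq_zero _).2 hm
      refine Submodule.mem_inf.2 ⟨?_, ?_⟩ <;>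
      · rw [hmem]; intro i _
        exact ⟨1, fun h => (inferInstance : (𝔓 i).IsPrime).ne_top ((𝔓 i).eq_top_iff_one.2 h), by rw [hz, smul_zero]⟩
  refine ⟨h1, le_antisymm ?_ ?_⟩
  · rintro _ ⟨y, hy, rfl⟩
    rw [SetLike.mem_coe, Submodule.mem_comap, CA2H40.mem_iInf_ker_iff] at hy
    refine Submodule.mem_inf.2 ⟨y.2, (hmem _ _).2 fun i hi => ?_⟩
    obtain ⟨s, hs, hsy⟩ := hy i hi
    refine ⟨s, hs, ?_⟩
    rw [← map_smul, Submodule.mkQ_apply, Submodule.Quotient.mk_eq_zero] at hsy ⊢
    rw [CA2H40.mem_span_singleton_smul_top] at hsy ⊢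
    obtain ⟨z, -, hz⟩ := hsy
    exact ⟨z, trivial, congrArg Subtype.val hz⟩
  · intro m hm
    obtain ⟨hmY, -⟩ := Submodule.mem_inf.1 hm
    rw [h1, CA2H40.mem_span_singleton_smul_top] at hm
    obtain ⟨m', -, rfl⟩ := hm
    refine ⟨⟨π • m', hmY⟩, ?_, rfl⟩
    rw [SetLike.mem_coe, Submodule.mem_comap, CA2H40.mem_iInf_ker_iff]
    intro i hi
    haveI : Fintype ι := Fintype.ofFinite ι
    have hex : ∀ j ∈ Y, ∃ t ∈ 𝔓 j, t ∉ 𝔓 i := by
      intro j hj
      refine Set.not_subset.1 fun hle => ?_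
      have := le_antisymm ((h𝔓 i).2 ⟨(inferInstance : (𝔓 j).IsPrime), (h𝔓 j).1.2⟩ hle) hle
      exact hi (by rw [h𝔓inj this]; exact hj)
    choose! t ht hti using hex
    have hex2 : ∀ j ∈ Y, ∃ (n : ℕ) (w : A), w ∉ 𝔓 j ∧
        w • t j ^ n • Submodule.mkQ (Ideal.span {π} • (⊤ : Submodule A M)) m' = 0 := fun j hj =>
      CA2H40.exists_pow_mul_smul_eq_zero π (𝔓 j) (h𝔓 j) _ (hπ0 _) (t j) (ht j hj)
    choose! n w hw hw0 using hex2
    have hsm : (∏ j ∈ Y.toFinset, t j ^ n j) • m' ∈ N Y := by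
      rw [hmem]
      intro j hj
      refine ⟨w j, hw j hj, ?_⟩
      rw [← Finset.prod_erase_mul _ _ (Set.mem_toFinset.2 hj), map_smul, mul_smul, smul_comm (w j),
        hw0 j hj, smul_zero]
    refine ⟨∏ j ∈ Y.toFinset, t j ^ n j, fun hmem' => ?_, ?_⟩
    · obtain ⟨j, hj, hjm⟩ := (inferInstance : (𝔓 i).IsPrime).prod_mem_iff.1 hmem'
      exact hti j (Set.mem_toFinset.1 hj) ((inferInstance : (𝔓 i).IsPrime).mem_of_pow_mem _ hjm)
    · rw [← map_smul, Submodule.mkQ_apply, Submodule.Quotient.mk_eq_zero, CA2H40.mem_span_singleton_smul_top]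
      exact ⟨⟨_, hsm⟩, trivial, Subtype.ext (smul_comm π _ m')⟩

end Groth.Agent.S18364
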