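import Groth.Statements.S18365
import Mathlib
import Groth.Agent.CA2H40.ModifAux
-- import your own Groth.Agent.* helpers here

set_option autoImplicit false
universe u
open CAlg

namespace Groth.Agent.S18365

/-- Let A be a Noetherian ring, π an element of A, (𝔓_i)_{i ∈ ι} an injective finite family listing
exactly the minimal prime ideals over (π), and M a finitely generated A-module on which π acts
injectively; put M̄ = M/πM. For T ⊆ ι let K(T) ⊆ M̄ be the submodule of elements whose image in the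
localisation of M̄ at 𝔓_i vanishes for every i ∈ T, and N(T) ⊆ M its preimage; assume K(ι) = 0.
Suppose that M̄ decomposes at Y, i.e. K(Y) + K(Yᶜ) = M̄, and that for a subset Z the module
N(Y)/πN(Y) decomposes at Z, i.e. its submodule of elements vanishing at every 𝔓_i (i ∈ Z) and its
submodule of elements vanishing at every 𝔓_i (i ∉ Z) together span it. Then M̄ decomposes at Z: K(Z)
+ K(Zᶜ) = M̄. (Geometric meaning: for a flat family of curves over a discrete valuation ring with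
uniformizer π, I a torsion-free rank-one sheaf flat over the base, Y a subcurve of the special fibre
X(s) at which I(s) decomposes and I^Y = ker(I → I(s)_Y): if I^Y(s) decomposes at a subcurve Z then
so does I(s); decomposition of a sheaf at Z is the surjectivity of I(s) → I(s)_Z ⊕ I(s)_{Z^c},
checked on stalks. Reducedness of the special fibre and rank one are not used.) -/
theorem result
    (A : Type u) [CommRing A] [IsNoetherianRing A] (π : A)
    (ι : Type) [Finite ι] (𝔓 : ι → Ideal A) [∀ i, (𝔓 i).IsPrime]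
    (h𝔓 : ∀ i, 𝔓 i ∈ (Ideal.span {π}).minimalPrimes) (h𝔓inj : Function.Injective 𝔓)
    (h𝔓surj : ∀ 𝔔 ∈ (Ideal.span {π}).minimalPrimes, ∃ i, 𝔓 i = 𝔔)
    (M : Type u) [AddCommGroup M] [Module A M] [Module.Finite A M]
    (hπ : ∀ m : M, π • m = 0 → m = 0)
    (K : Set ι → Submodule A (M ⧸ Ideal.span {π} • (⊤ : Submodule A M)))
    (hK : ∀ T : Set ι, K T = ⨅ i ∈ T, LinearMap.ker
      (LocalizedModule.mkLinearMap (𝔓 i).primeCompl (M ⧸ Ideal.span {π} • (⊤ : Submodule A M))))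
    (htf : K Set.univ = ⊥)
    (N : Set ι → Submodule A M)
    (hN : ∀ T : Set ι, N T = (K T).comap (Submodule.mkQ (Ideal.span {π} • (⊤ : Submodule A M))))
    (Y Z : Set ι) (hY : K Y ⊔ K Yᶜ = ⊤)
    (K' : Set ι → Submodule A (↥(N Y) ⧸ Ideal.span {π} • (⊤ : Submodule A ↥(N Y))))
    (hK' : ∀ T : Set ι, K' T = ⨅ i ∈ T, LinearMap.ker
      (LocalizedModule.mkLinearMap (𝔓 i).primeCompl (↥(N Y) ⧸ Ideal.span {π} • (⊤ : Submodule A ↥(N Y)))))
    (hZ : K' Z ⊔ K' Zᶜ = ⊤) :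
    K Z ⊔ K Zᶜ = ⊤ := by
  classical
  set q := Submodule.mkQ (Ideal.span {π} • (⊤ : Submodule A M))
  have hKmem : ∀ (T : Set ι) x, x ∈ K T ↔ ∀ i ∈ T, ∃ s : A, s ∉ 𝔓 i ∧ s • x = 0 := by
    intro T x; rw [hK, CA2H40.mem_iInf_ker_iff]
  have hloc : ∀ (T : Set ι) x, x ∈ K T ↔ ∀ i ∈ T, x ∈ K {i} := by
    intro T x; simp only [hKmem, Set.mem_singleton_iff, forall_eq]
  have hNmem : ∀ (T : Set ι) m, m ∈ N T ↔ q m ∈ K T := fun T m => by rw [hN]; rfl
  have hsub : ∀ (T : Set ι) (y : N Y),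
      Submodule.mkQ (Ideal.span {π} • (⊤ : Submodule A (N Y))) y ∈ K' T → ∀ i ∈ T,
        ∃ s : A, s ∉ 𝔓 i ∧ ∃ z ∈ N Y, π • z = s • (y : M) := by
    intro T y hy i hi
    rw [hK', CA2H40.mem_iInf_ker_iff] at hy
    obtain ⟨s, hs, hsy⟩ := hy i hi
    rw [← map_smul, Submodule.mkQ_apply, Submodule.Quotient.mk_eq_zero,
      CA2H40.mem_span_singleton_smul_top] at hsy
    obtain ⟨z, -, hz⟩ := hsy
    exact ⟨s, hs, z, z.2, congrArg Subtype.val hz⟩
  have hq0 : ∀ z : M, q (π • z) = 0 := fun z => (Submodule.Quotient.mk_eq_zero _).2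
    (Submodule.smul_mem_smul (Ideal.mem_span_singleton_self π) trivial)
  have hsubK : ∀ (T : Set ι) (y : N Y),
      Submodule.mkQ (Ideal.span {π} • (⊤ : Submodule A (N Y))) y ∈ K' T → q (y : M) ∈ K T := by
    intro T y hy
    rw [hKmem]
    intro i hi
    obtain ⟨s, hs, z, -, hz⟩ := hsub T y hy i hi
    exact ⟨s, hs, by rw [← map_smul, ← hz, hq0]⟩
  have hsplit : ∀ y : N Y, ∃ y₁ y₂ : N Y,
      Submodule.mkQ (Ideal.span {π} • (⊤ : Submodule A (N Y))) y₁ ∈ K' Z ∧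
      Submodule.mkQ (Ideal.span {π} • (⊤ : Submodule A (N Y))) y₂ ∈ K' Zᶜ ∧
      q (y : M) = q (y₁ : M) + q (y₂ : M) ∧ ∃ w ∈ N Y, (y : M) = y₁ + y₂ + π • w := by
    intro y
    obtain ⟨a, ha, b, hb, hab⟩ := Submodule.mem_sup.1
      (hZ.symm ▸ (trivial : Submodule.mkQ (Ideal.span {π} • (⊤ : Submodule A (N Y))) y ∈ ⊤) :
        Submodule.mkQ (Ideal.span {π} • (⊤ : Submodule A (N Y))) y ∈ K' Z ⊔ K' Zᶜ)
    obtain ⟨y₁, rfl⟩ := Submodule.mkQ_surjective _ a
    obtain ⟨y₂, rfl⟩ := Submodule.mkQ_surjective _ b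
    rw [← map_add, Submodule.mkQ_apply, Submodule.mkQ_apply, eq_comm, Submodule.Quotient.eq,
      CA2H40.mem_span_singleton_smul_top] at hab
    obtain ⟨w, -, hw⟩ := hab
    have e : (y : M) = y₁ + y₂ + π • (w : M) := by
      have := congrArg Subtype.val hw
      simp only [Submodule.coe_smul, Submodule.coe_sub, Submodule.coe_add] at this
      rw [this]; abel
    exact ⟨y₁, y₂, ha, hb, by rw [e, map_add, hq0, add_zero, map_add], w, w.2, e⟩
  refine eq_top_iff.2 ?_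
  rw [← hY]
  refine sup_le (fun x hx => ?_) (fun x hx => ?_)
  · obtain ⟨m, rfl⟩ := Submodule.mkQ_surjective _ x
    obtain ⟨y₁, y₂, h₁, h₂, e, -⟩ := hsplit ⟨m, (hNmem _ _).2 hx⟩
    exact Submodule.mem_sup.2 ⟨_, hsubK _ _ h₁, _, hsubK _ _ h₂, e.symm⟩
  · obtain ⟨m, rfl⟩ := Submodule.mkQ_surjective _ x
    have hπm : π • m ∈ N Y := (hNmem _ _).2 (by rw [hq0]; exact zero_mem _)
    obtain ⟨y₁, y₂, h₁, h₂, e, w, hw, e'⟩ := hsplit ⟨_, hπm⟩
    simp only [hq0] at e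
    have hy1 : q (y₁ : M) ∈ K Set.univ := by
      rw [hloc]
      intro i _
      by_cases hiY : i ∈ Y
      · exact (hloc Y _).1 ((hNmem _ _).1 y₁.2) i hiY
      by_cases hiZ : i ∈ Z
      · exact (hloc Z _).1 (hsubK _ _ h₁) i hiZ
      · rw [eq_neg_of_add_eq_zero_left e.symm]
        exact neg_mem ((hloc Zᶜ _).1 (hsubK _ _ h₂) i hiZ)
    have hy2 : q (y₂ : M) ∈ K Set.univ := by
      rw [eq_neg_of_add_eq_zero_right e.symm]; exact neg_mem hy1
    rw [htf, Submodule.mem_bot, Submodule.mkQ_apply, Submodule.Quotient.mk_eq_zero,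
      CA2H40.mem_span_singleton_smul_top] at hy1 hy2
    obtain ⟨x₁, -, hx1⟩ := hy1
    obtain ⟨x₂, -, hx2⟩ := hy2
    have hm : m = x₁ + x₂ + w := by
      rw [← sub_eq_zero]
      refine hπ _ ?_
      rw [smul_sub, smul_add, smul_add, hx1, hx2, ← e']
      exact sub_self _
    have key : ∀ (T : Set ι) (y : N Y) (x₀ : M),
        Submodule.mkQ (Ideal.span {π} • (⊤ : Submodule A (N Y))) y ∈ K' T → π • x₀ = (y : M) →
        ∀ i ∈ T, i ∈ Y → q x₀ ∈ K {i} := by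
      intro T y x₀ hy hx₀ i hi hiY
      obtain ⟨s, hs, z, hz, hzs⟩ := hsub T y hy i hi
      obtain ⟨t, ht, htz⟩ := (hKmem Y _).1 ((hNmem _ _).1 hz) i hiY
      rw [hKmem]
      rintro j rfl
      refine ⟨t * s, fun h => ((inferInstance : (𝔓 j).IsPrime).mem_or_mem h).elim ht hs, ?_⟩
      have : s • x₀ = z := by
        rw [← sub_eq_zero]
        exact hπ _ (by rw [smul_sub, smul_comm π s, hx₀, hzs, sub_self])
      rw [mul_smul, ← map_smul q s, this, htz]
    have hdec : ∀ x₀ : M, ∃ a ∈ K Y, ∃ b ∈ K Yᶜ, a + b = q x₀ := fun x₀ =>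
      Submodule.mem_sup.1 (hY.symm ▸ trivial)
    obtain ⟨a₁, ha₁, b₁, hb₁, hab₁⟩ := hdec x₁
    obtain ⟨a₂, ha₂, b₂, hb₂, hab₂⟩ := hdec x₂
    have hbK : ∀ (T : Set ι) (y : N Y) (x₀ : M) a b,
        Submodule.mkQ (Ideal.span {π} • (⊤ : Submodule A (N Y))) y ∈ K' T → π • x₀ = (y : M) →
        a ∈ K Y → b ∈ K Yᶜ → a + b = q x₀ → b ∈ K T := by
      intro T y x₀ a b hy hx₀ ha hb hab
      rw [hloc]
      intro i hi
      by_cases hiY : i ∈ Y
      · rw [eq_sub_of_add_eq' hab]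
        exact sub_mem (key T y x₀ hy hx₀ i hi hiY) ((hloc Y _).1 ha i hiY)
      · exact (hloc Yᶜ _).1 hb i hiY
    refine Submodule.mem_sup.2 ⟨b₁, hbK Z y₁ x₁ a₁ b₁ h₁ hx1 ha₁ hb₁ hab₁, b₂,
      hbK Zᶜ y₂ x₂ a₂ b₂ h₂ hx2 ha₂ hb₂ hab₂, ?_⟩
    have hdiff : q m - (b₁ + b₂) ∈ K Set.univ := by
      rw [hloc]
      intro i _
      by_cases hiY : i ∈ Y
      · have he : q m - (b₁ + b₂) = a₁ + a₂ + q w := by
          rw [hm, map_add, map_add, ← hab₁, ← hab₂]; abel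
        rw [he]
        exact add_mem (add_mem ((hloc Y _).1 ha₁ i hiY) ((hloc Y _).1 ha₂ i hiY))
          ((hloc Y _).1 ((hNmem _ _).1 hw) i hiY)
      · exact sub_mem ((hloc Yᶜ _).1 hx i hiY)
          (add_mem ((hloc Yᶜ _).1 hb₁ i hiY) ((hloc Yᶜ _).1 hb₂ i hiY))
    rw [htf, Submodule.mem_bot, sub_eq_zero] at hdiff
    exact hdiff.symm

end Groth.Agent.S18365
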