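import Groth.Statements.S18366
import Groth.Agent.S1550
import Groth.Agent.GeomField.Reduced
import Groth.Agent.GeomField.Chart
import Groth.Agent.EGA41Lib.FieldFS
import Groth.Agent.VarDim.Fibre
-- import your own Groth.Agent.* helpers here

set_option autoImplicit false
universe u
open CategoryTheory CategoryTheory.Limits AlgebraicGeometry
open Variety

namespace Groth.Agent.S18366

theorem fromSpecResidueField_comp (k : Type u) [Field k] (Y : Scheme.{u}) [Y.Over (Spec (CommRingCat.of k))] (y : Y) :
    Y.fromSpecResidueField y ≫ (Y ↘ Spec (CommRingCat.of k)) =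
      Spec.map (CommRingCat.ofHom (Curv2.resMap k Y y)) := by
  have h1 : (Y ↘ Spec (CommRingCat.of k)) = Y.toSpecΓ ≫
      Spec.map (CommRingCat.ofHom (Coh.toGlobal (Y ↘ Spec (CommRingCat.of k)))) :=
    Groth.Agent.S1550.eq_toSpecΓ_comp _
  rw [Scheme.fromSpecResidueField, Category.assoc]
  conv_lhs => rw [h1]
  rw [Scheme.fromSpecStalk_toSpecΓ_assoc, ← Spec.map_comp, ← Spec.map_comp]
  rfl

/-- Let k be a separably closed field and X a non-empty k-scheme of finite type which is geometrically
reduced. Then X has a k-rational point, i.e. the structure morphism admits a section. (Non-emptiness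
is part of the hypotheses: the empty scheme is geometrically reduced of finite type and has no
point. The published statement does not assume X non-empty; this row does, since the empty scheme
has no rational point.) -/
theorem result (k : Type u) [Field k] [IsSepClosed k]
    {X : Scheme.{u}} (f : X ⟶ Spec (CommRingCat.of k)) [LocallyOfFiniteType f] [QuasiCompact f] [GeometricallyReduced f]
    [Nonempty X] :
    ∃ s : Spec (CommRingCat.of k) ⟶ X, s ≫ f = 𝟙 (Spec (CommRingCat.of k)) := by
  letI : X.Over (Spec (CommRingCat.of k)) := ⟨f⟩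
  haveI : LocallyOfFiniteType (X ↘ Spec (CommRingCat.of k)) := ‹LocallyOfFiniteType f›
  have hgr := (Groth.Agent.GeomField.geometricallyReduced_iff (k := k) (X := X)).1 ‹GeometricallyReduced f›
  obtain ⟨x₀⟩ := ‹Nonempty X›
  obtain ⟨η, -, hmax⟩ := Groth.Agent.VarDim.exists_maximal_generalization f x₀
  obtain ⟨c, P, hP⟩ := Groth.Agent.GeomField.exists_chart (k := k) η
  subst hP
  haveI : Algebra.FiniteType k c.R := by
    have h1 : LocallyOfFiniteType (Spec.map (CommRingCat.ofHom (algebraMap k c.R))) := by
      rw [← c.over_eq]; infer_instance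
    exact RingHom.finiteType_algebraMap.1 ((HasRingHomProperty.Spec_iff (P := @LocallyOfFiniteType)).1 h1)
  haveI : IsNoetherianRing c.R := Algebra.FiniteType.isNoetherianRing k c.R
  haveI : Algebra.FinitePresentation k c.R := Algebra.FinitePresentation.of_finiteType.1 inferInstance
  let p : Ideal c.R := PrimeSpectrum.asIdeal (R := c.R) P
  haveI : p.IsPrime := PrimeSpectrum.isPrime _
  have hmin : p ∈ minimalPrimes c.R := by
    refine ⟨⟨inferInstance, bot_le⟩, fun Q hQ hQP => ?_⟩
    let Q' : Spec (CommRingCat.of c.R) := (⟨Q, hQ.1⟩ : PrimeSpectrum c.R)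
    have hs : Q' ⤳ P := (PrimeSpectrum.le_iff_specializes _ _).1 hQP
    have h2 : Q' = P := c.emb.isOpenEmbedding.injective (hmax _ (hs.map c.emb.continuous))
    show p ≤ Q
    exact le_of_eq (congrArg (fun z : PrimeSpectrum c.R => z.asIdeal) h2).symm
  let L := Localization.AtPrime p
  haveI : Algebra.IsGeometricallyReduced k L := by
    have h3 := (Groth.Agent.GeomField.isGeomReducedAt_iff (c.emb P)).1 (hgr (c.emb P))
    obtain ⟨i1, i2, i3⟩ := c.exists_stalk_algebra P
    letI := Curv2.stalkAlgebra k X (c.emb P)
    let e : L ≃ₐ[k] X.presheaf.stalk (c.emb P) :=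
      (IsLocalization.algEquiv p.primeCompl L (X.presheaf.stalk (c.emb P))).restrictScalars k
    haveI := h3
    exact Algebra.IsGeometricallyReduced.of_injective (k := k) e.toAlgHom e.injective
  haveI : Algebra.IsSmoothAt k p := by
    haveI : _root_.IsReduced L := Algebra.isReduced_of_isGeometricallyReduced k
    haveI : Ring.KrullDimLE 0 L := Ring.KrullDimLE.of_isLocalization p hmin L
    letI : Field L := (Ring.KrullDimLE.isField_of_isReduced (R := L)).toField
    exact Groth.Agent.EGA41Lib.FieldFS.formallySmooth_of_isGeometricallyReduced k L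
  obtain ⟨g, hg, hsm⟩ := Algebra.IsSmoothAt.exists_notMem_smooth (R := k) p
  haveI := hsm
  let S := Localization.Away g
  haveI : Nontrivial S := by
    refine ⟨⟨0, 1, fun h => hg ?_⟩⟩
    obtain ⟨m, hm⟩ := (IsLocalization.map_eq_zero_iff (Submonoid.powers g) S (1 : c.R)).1
      ((map_one (algebraMap c.R S)).trans h.symm)
    obtain ⟨n, hn⟩ := m.2
    refine ‹p.IsPrime›.mem_of_pow_mem n ?_
    simp only [mul_one] at hm
    simp only at hn
    rw [hn, hm]
    exact zero_mem _
  let Y : Scheme.{u} := Spec (CommRingCat.of S)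
  letI : Y.Over (Spec (CommRingCat.of k)) := ⟨Spec.map (CommRingCat.ofHom (algebraMap k S))⟩
  haveI : Smooth (Y ↘ Spec (CommRingCat.of k)) :=
    (HasRingHomProperty.Spec_iff (P := @Smooth)).2 (RingHom.smooth_algebraMap.2 inferInstance)
  haveI : Nonempty Y := inferInstanceAs (Nonempty (PrimeSpectrum S))
  obtain ⟨y, -, hfin, hsep⟩ := (Groth.Agent.S1550.result k Y).nonempty
  letI := Curv2.resAlgebra k Y y
  haveI : Algebra.IsSeparable k (Y.residueField y) := hsep
  have hbij : Function.Bijective (algebraMap k (Y.residueField y)) :=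
    ⟨(algebraMap k (Y.residueField y)).injective, IsSepClosed.algebraMap_surjective k (Y.residueField y)⟩
  let e : k ≃+* Y.residueField y := RingEquiv.ofBijective _ hbij
  have hres := fromSpecResidueField_comp k Y y
  refine ⟨Spec.map (CommRingCat.ofHom e.symm.toRingHom) ≫ Y.fromSpecResidueField y ≫
    Spec.map (CommRingCat.ofHom (algebraMap c.R S)) ≫ c.emb, ?_⟩
  rw [Category.assoc, Category.assoc, Category.assoc,
    show c.emb ≫ f = Spec.map (CommRingCat.ofHom (algebraMap k c.R)) from c.over_eq, ← Spec.map_comp]
  have h2 : CommRingCat.ofHom (algebraMap k c.R) ≫ CommRingCat.ofHom (algebraMap c.R S) =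
      CommRingCat.ofHom (algebraMap k S) := by
    rw [← CommRingCat.ofHom_comp, ← IsScalarTower.algebraMap_eq]
  rw [h2]
  erw [hres]
  rw [← Spec.map_comp, ← Spec.map_id]
  refine congrArg Spec.map (CommRingCat.hom_ext (RingHom.ext fun a => ?_))
  exact e.symm_apply_apply a

end Groth.Agent.S18366
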