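import Groth.Statements.S18384
import Mathlib.RingTheory.Filtration

set_option autoImplicit false
universe u
open CategoryTheory CategoryTheory.Limits AlgebraicGeometry
open Coherent

namespace Groth.Agent.S18384

lemma appLE_spec {X : Scheme.{u}} (x : X) {V : X.Opens} (hxV : x ∈ V) {K : CommRingCat.{u}}
    (φ : X.presheaf.stalk x ⟶ K) (htop : ⊤ ≤ (Spec.map φ ≫ X.fromSpecStalk x) ⁻¹ᵁ V) :
    (Spec.map φ ≫ X.fromSpecStalk x).appLE V ⊤ htop =
      X.presheaf.germ V x hxV ≫ φ ≫ (Scheme.ΓSpecIso K).inv := by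
  have h1 : (⊤ : (Spec (X.presheaf.stalk x)).Opens) ≤ X.fromSpecStalk x ⁻¹ᵁ V :=
    fun z _ => ((X.range_fromSpecStalk (x := x)).le ⟨z, rfl⟩).mem_open V.2 hxV
  have e1 : (X.fromSpecStalk x).appLE V ⊤ h1 =
      X.presheaf.germ V x hxV ≫ (Scheme.ΓSpecIso _).inv := by
    rw [Scheme.Hom.appLE, Scheme.fromSpecStalk_app hxV, Category.assoc, Category.assoc, ← Functor.map_comp]
    congr 1
  have e2 : (Spec.map φ).appLE ⊤ ⊤ le_top = (Spec.map φ).appTop := Scheme.Hom.appLE_eq_app (Spec.map φ)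
  rw [Scheme.ΓSpecIso_inv_naturality, ← e2, ← Category.assoc, ← e1]
  exact (Scheme.Hom.appLE_comp_appLE _ _ _ _ _ _ _).symm

lemma germ_mem_pow {X S : Scheme.{u}} (p : X ⟶ S) (x : X) (n : ℕ) (I : X.IdealSheafData)
    (g : pullback p (Spec.map (CommRingCat.ofHom (Ideal.Quotient.mk
        (IsLocalRing.maximalIdeal ↑(S.presheaf.stalk (p x)) ^ (n + 1)))) ≫ S.fromSpecStalk (p x)) ⟶ I.subscheme)
    (hg : g ≫ I.subschemeι = pullback.fst p _)
    (V : X.affineOpens) (hxV : x ∈ V.1) (b : Γ(X, V.1)) (hb : b ∈ I.ideal V) :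
    (X.presheaf.germ V.1 x hxV).hom b ∈ IsLocalRing.maximalIdeal (X.presheaf.stalk x) ^ (n + 1) := by
  have hle : IsLocalRing.maximalIdeal ↑(S.presheaf.stalk (p x)) ^ (n + 1) ≤
      (IsLocalRing.maximalIdeal ↑(X.presheaf.stalk x) ^ (n + 1)).comap (p.stalkMap x).hom := by
    rw [← Ideal.map_le_iff_le_comap, Ideal.map_pow]
    exact Ideal.pow_right_mono (Ideal.map_le_iff_le_comap.2 (fun a ha => Ideal.mem_comap.2 (map_nonunit (p.stalkMap x).hom a ha) : _ ≤ Ideal.comap (p.stalkMap x).hom _)) _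
  set q := Spec.map (CommRingCat.ofHom (Ideal.Quotient.mk
        (IsLocalRing.maximalIdeal ↑(X.presheaf.stalk x) ^ (n + 1)))) ≫ X.fromSpecStalk x with hq
  have w : q ≫ p = Spec.map (CommRingCat.ofHom (Ideal.quotientMap (IsLocalRing.maximalIdeal ↑(X.presheaf.stalk x) ^ (n + 1)) (p.stalkMap x).hom hle)) ≫
      Spec.map (CommRingCat.ofHom (Ideal.Quotient.mk
        (IsLocalRing.maximalIdeal ↑(S.presheaf.stalk (p x)) ^ (n + 1)))) ≫ S.fromSpecStalk (p x) := by
    rw [hq, Category.assoc, ← Scheme.SpecMap_stalkMap_fromSpecStalk, ← Category.assoc, ← Category.assoc,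
      ← Spec.map_comp, ← Spec.map_comp]
    congr 1
  have hfac : (pullback.lift q _ w ≫ g) ≫ I.subschemeι = q := by
    rw [Category.assoc, hg, pullback.lift_fst]
  have hker : b ∈ RingHom.ker (q.app V.1).hom := by
    refine q.ideal_ker_le V ?_
    rw [← hfac]
    exact Scheme.IdealSheafData.le_def.1 (Scheme.Hom.le_ker_comp _ _) V (by rwa [I.ker_subschemeι])
  have htop : (⊤ : (Spec (CommRingCat.of ((X.presheaf.stalk x) ⧸
      IsLocalRing.maximalIdeal ↑(X.presheaf.stalk x) ^ (n + 1)))).Opens) ≤ q ⁻¹ᵁ V.1 := by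
    intro z _
    exact ((X.range_fromSpecStalk (x := x)).le ⟨_, rfl⟩).mem_open V.1.2 hxV
  have h2 : q.appLE V.1 ⊤ htop = X.presheaf.germ V.1 x hxV ≫ CommRingCat.ofHom (Ideal.Quotient.mk
        (IsLocalRing.maximalIdeal ↑(X.presheaf.stalk x) ^ (n + 1))) ≫ (Scheme.ΓSpecIso _).inv :=
    appLE_spec x hxV _ htop
  have h3 : (q.appLE V.1 ⊤ htop).hom b = 0 := by
    simp only [Scheme.Hom.appLE, CommRingCat.hom_comp, RingHom.comp_apply, RingHom.mem_ker.1 hker, map_zero]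
  rw [h2] at h3
  simp only [CommRingCat.hom_comp, RingHom.comp_apply, CommRingCat.hom_ofHom] at h3
  rw [← Ideal.Quotient.eq_zero_iff_mem]
  exact (map_eq_zero_iff _ (ConcreteCategory.bijective_of_isIso (Scheme.ΓSpecIso _).inv).1).1 h3

lemma germ_eq_zero {X S : Scheme.{u}} [IsLocallyNoetherian X] (p : X ⟶ S) (t : S) (I : X.IdealSheafData)
    (h : ∀ n : ℕ, ∃ g : pullback p (Spec.map (CommRingCat.ofHom (Ideal.Quotient.mk
        (IsLocalRing.maximalIdeal ↑(S.presheaf.stalk t) ^ (n + 1)))) ≫ S.fromSpecStalk t) ⟶ I.subscheme,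
        g ≫ I.subschemeι = pullback.fst p _)
    (x : X) (hx : p x = t) (V : X.affineOpens) (hxV : x ∈ V.1) (b : Γ(X, V.1)) (hb : b ∈ I.ideal V) :
    (X.presheaf.germ V.1 x hxV).hom b = 0 := by
  subst hx
  have hmem : (X.presheaf.germ V.1 x hxV).hom b ∈ ⨅ i : ℕ, IsLocalRing.maximalIdeal (X.presheaf.stalk x) ^ i := by
    refine (Ideal.mem_iInf).2 fun i => ?_
    obtain ⟨g, hg⟩ := h i
    exact Ideal.pow_le_pow_right (Nat.le_succ i) (germ_mem_pow p x i I g hg V hxV b hb)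
  rwa [Ideal.iInf_pow_eq_bot_of_isLocalRing _ (IsLocalRing.maximalIdeal.isMaximal _).ne_top, Ideal.mem_bot] at hmem

/-- Let p : X → S be a morphism of locally Noetherian schemes, t a point of S, m the maximal ideal of
the local ring O_{S,t}, and Z the closed subscheme of X defined by a quasi-coherent ideal I. Suppose
that for every n ≥ 1 the projection X ×_S Spec(O_{S,t}/m^n) → X factors through Z. Then there is an
open subscheme U of X containing every point of the fibre p⁻¹(t) such that the inclusion U → X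
factors through Z. -/
theorem result {X S : Scheme.{u}}
    [IsLocallyNoetherian X] [IsLocallyNoetherian S] (p : X ⟶ S) (t : S) (I : X.IdealSheafData)
    (h : ∀ n : ℕ, ∃ g : pullback p (Spec.map (CommRingCat.ofHom (Ideal.Quotient.mk
        (IsLocalRing.maximalIdeal ↑(S.presheaf.stalk t) ^ (n + 1)))) ≫ S.fromSpecStalk t) ⟶ I.subscheme,
        g ≫ I.subschemeι = pullback.fst p _) :
    ∃ U : X.Opens, (∀ x : X, p.base x = t → x ∈ U) ∧
      ∃ g : (U : Scheme.{u}) ⟶ I.subscheme, g ≫ I.subschemeι = U.ι := by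
  let U : X.Opens := ⨆ W : {W : X.affineOpens // I.ideal W = ⊥}, W.1.1
  refine ⟨U, fun x hx => ?_, ?_⟩
  · obtain ⟨_, ⟨V₀, hV₀, rfl⟩, hxV, -⟩ :=
      X.isBasis_affineOpens.exists_subset_of_mem_open (Set.mem_univ x) isOpen_univ
    let V : X.affineOpens := ⟨V₀, hV₀⟩
    haveI : IsNoetherianRing Γ(X, V.1) := IsLocallyNoetherian.component_noetherian V
    obtain ⟨s, hs⟩ := (IsNoetherian.noetherian (I.ideal V) : (I.ideal V).FG)
    have hall : ∀ b ∈ s, ∃ W : X.Opens, x ∈ W ∧ ∃ i : W ⟶ V.1, (X.presheaf.map i.op).hom b = 0 := by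
      intro b hb
      obtain ⟨W, hW, i, j, hij⟩ := X.presheaf.germ_eq x hxV hxV b 0
        (by rw [map_zero]; exact germ_eq_zero p t I h x hx V hxV b (hs ▸ Submodule.subset_span hb))
      exact ⟨W, hW, i, by simpa using hij⟩
    choose W hW i hi using hall
    let W' : X.Opens := (s.attach.inf fun b => W b.1 b.2) ⊓ V.1
    have hxW' : x ∈ W' := by
      refine ⟨?_, hxV⟩
      rw [TopologicalSpace.Opens.coe_finset_inf]
      simpa using fun b hb => hW b hb
    obtain ⟨f, hf, hxf⟩ := hV₀.exists_basicOpen_le (⟨x, hxW'⟩ : W') hxV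
    have hle := hf.trans (le_refl W')
    refine le_iSup (fun W : {W : X.affineOpens // I.ideal W = ⊥} => W.1.1) ⟨X.affineBasicOpen (U := V) f, ?_⟩ hxf
    rw [← I.map_ideal_basicOpen V f, ← hs, Ideal.submodule_span_eq, Ideal.map_span]
    refine Ideal.span_eq_bot.2 ?_
    rintro _ ⟨b, hb, rfl⟩
    have hbW : X.basicOpen f ≤ W b hb := hf.trans (inf_le_left.trans (Finset.inf_le (s.mem_attach ⟨b, hb⟩)))
    have e : (homOfLE (X.basicOpen_le f)).op = (i b hb).op ≫ (homOfLE hbW).op := Subsingleton.elim _ _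
    rw [e, Functor.map_comp, CommRingCat.hom_comp, RingHom.comp_apply, hi, map_zero]
  · have H : I.subschemeι.ker ≤ U.ι.ker := by
      rw [I.ker_subschemeι, Scheme.Hom.ker, Scheme.IdealSheafData.le_ofIdeals_iff]
      intro V b hb
      rw [RingHom.mem_ker, Scheme.Opens.ι_app]
      refine X.sheaf.eq_of_locally_eq' (fun a : {a : X.affineOpens // a.1 ≤ U.ι ''ᵁ (U.ι ⁻¹ᵁ V.1) ∧ I.ideal a = ⊥} => a.1.1)
        _ (fun a => homOfLE a.2.1) ?_ _ _ fun a => ?_
      · intro y hy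
        obtain ⟨⟨y', hy'⟩, hyV, rfl⟩ := hy
        obtain ⟨⟨W, hWbot⟩, hyW⟩ := TopologicalSpace.Opens.mem_iSup.1 hy'
        have hyO : y' ∈ U.ι ''ᵁ (U.ι ⁻¹ᵁ V.1) := ⟨⟨y', hy'⟩, hyV, rfl⟩
        obtain ⟨f, hf, hyf⟩ := W.2.exists_basicOpen_le (⟨y', hyO⟩ : U.ι ''ᵁ (U.ι ⁻¹ᵁ V.1)) hyW
        refine TopologicalSpace.Opens.mem_iSup.2 ⟨⟨X.affineBasicOpen f, hf, ?_⟩, hyf⟩
        rw [← I.map_ideal_basicOpen W f, hWbot, Ideal.map_bot]
        rfl
      · have ha : a.1.1 ≤ V.1 := a.2.1.trans (by rintro _ ⟨z, hz, rfl⟩; exact hz)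
        refine Eq.trans ?_ (map_zero (X.presheaf.map _).hom).symm
        show (X.presheaf.map _ ≫ X.presheaf.map _).hom b = 0
        rw [← Functor.map_comp]
        have h1 := Ideal.mem_map_of_mem (X.presheaf.map (homOfLE ha).op).hom hb
        exact (Submodule.mem_bot _).1 (((I.map_ideal (U := a.1) (V := V) ha).trans a.2.2).le h1)
    exact ⟨IsClosedImmersion.lift _ _ H, IsClosedImmersion.lift_fac _ _ H⟩

end Groth.Agent.S18384
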