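import Groth.Statements.S18399
import Mathlib
import Groth.Agent.CA2H40.TameAut
-- import your own Groth.Agent.* helpers here

set_option autoImplicit false
universe u
open CAlg

namespace Groth.Agent.S18399

/-- Let k be a field and A a regular local k-algebra with residue field k (the structure map from k onto
the residue field of A is surjective), let σ be a k-algebra endomorphism of A of finite order n with
n invertible in k, and let I_σ be the ideal of A generated by the elements f - σ f. Then I_σ is
generated by finitely many elements of the maximal ideal whose classes in the cotangent space m/m^2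
are linearly independent over the residue field. (Such elements are part of a regular system of
parameters of A, hence part of a regular sequence, which is the printed conclusion; the generators
with independent classes are what the argument produces.) -/
theorem result {k : Type u} [Field k] {A : Type u} [CommRing A] [Algebra k A] [IsRegularLocalRing A] (hres : Function.Surjective ⇑(algebraMap k (IsLocalRing.ResidueField A))) (σ : A →ₐ[k] A) (n : ℕ) (hσ : ∀ a : A, (⇑σ)^[n] a = a) (hn : (n : k) ≠ 0) : ∃ (m : ℕ) (f : Fin m → ↥(IsLocalRing.maximalIdeal A)), Ideal.span (Set.range fun i : Fin m => (f i : A)) = Ideal.span (Set.range fun a : A => a - σ a) ∧ LinearIndependent (IsLocalRing.ResidueField A) (fun i : Fin m => (IsLocalRing.maximalIdeal A).toCotangent (f i)) := by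
  set m := IsLocalRing.maximalIdeal A with hm
  set κ := IsLocalRing.ResidueField A
  set I := Ideal.span (Set.range fun a : A => a - σ a) with hI
  have hfix : ∀ a, ∃ c, σ c = c ∧ a - c ∈ m := by
    intro a
    obtain ⟨c, hc⟩ := hres (IsLocalRing.residue A a)
    refine ⟨algebraMap k A c, σ.commutes c, ?_⟩
    rw [hm, ← IsLocalRing.residue_eq_zero_iff, map_sub, ← hc, sub_eq_zero]; rfl
  have hkey : I ⊓ m ^ 2 ≤ m * I :=
    CA2H40.fixedIdeal_inf_sq_le σ.toRingHom n (CA2H40.isUnit_natCast_of_field hn) hσ hfix
  have hIm : I ≤ m := by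
    refine Ideal.span_le.2 ?_
    rintro _ ⟨a, rfl⟩
    obtain ⟨c, hc, hac⟩ := hfix a
    simp only [SetLike.mem_coe]
    have : a - σ a = (a - c) - σ (a - c) := by simp [map_sub, hc]
    rw [this]
    refine sub_mem hac ?_
    rw [hm, IsLocalRing.mem_maximalIdeal, mem_nonunits_iff] at hac ⊢
    intro hu
    apply hac
    have hn0 : n ≠ 0 := by rintro rfl; simp at hn
    obtain ⟨n', rfl⟩ := Nat.exists_eq_succ_of_ne_zero hn0
    rw [← hσ (a - c), Function.iterate_succ_apply]
    clear * - hu
    induction n' with
    | zero => simpa using hu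
    | succ j ih => rw [Function.iterate_succ_apply']; exact ih.map σ
  let W₀ : Submodule A (IsLocalRing.CotangentSpace A) := Submodule.map m.toCotangent (Submodule.comap m.subtype I)
  let W : Submodule κ (IsLocalRing.CotangentSpace A) :=
    { carrier := W₀
      add_mem' := fun h h' => W₀.add_mem h h'
      zero_mem' := W₀.zero_mem
      smul_mem' := by
        intro c x hx
        obtain ⟨r, rfl⟩ := IsLocalRing.residue_surjective c
        exact W₀.smul_mem r hx }
  have hW : ∀ x, x ∈ W → ∃ f : m, (f : A) ∈ I ∧ m.toCotangent f = x := by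
    rintro x ⟨f, hf, rfl⟩; exact ⟨f, hf, rfl⟩
  let b := Module.finBasis κ W
  choose f hf hfb using fun i => hW (b i : IsLocalRing.CotangentSpace A) (b i).2
  refine ⟨Module.finrank κ W, f, le_antisymm (Ideal.span_le.2 (by rintro _ ⟨i, rfl⟩; exact hf i)) ?_, ?_⟩
  · apply Submodule.le_of_le_smul_of_le_jacobson_bot (IsNoetherian.noetherian I)
      (IsLocalRing.maximalIdeal_le_jacobson _)
    intro e he
    have hem : e ∈ m := hIm he
    have hmem : m.toCotangent ⟨e, hem⟩ ∈ W := ⟨⟨e, hem⟩, he, rfl⟩
    obtain ⟨c, hc⟩ : ∃ c : Fin (Module.finrank κ W) → κ,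
        ∑ i, c i • (b i : IsLocalRing.CotangentSpace A) = m.toCotangent ⟨e, hem⟩ := by
      refine ⟨fun i => b.repr ⟨_, hmem⟩ i, ?_⟩
      exact (map_sum (Submodule.subtype W) _ _).symm.trans (congrArg (Submodule.subtype W) (b.sum_repr ⟨_, hmem⟩))
    choose r hr using fun i => IsLocalRing.residue_surjective (c i)
    have h2 : (⟨e, hem⟩ - ∑ i, r i • f i : m).1 ∈ m ^ 2 := by
      rw [← Ideal.toCotangent_eq_zero, map_sub, map_sum, ← hc, sub_eq_zero]
      refine Finset.sum_congr rfl fun i _ => ?_
      rw [map_smul, ← hr i, hfb]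
      rfl
    have hs : (∑ i, r i • f i : m).1 ∈ Ideal.span (Set.range fun i => (f i : A)) := by
      rw [Submodule.coe_sum]
      exact sum_mem fun i _ => Ideal.mul_mem_left _ _ (Ideal.subset_span ⟨i, rfl⟩)
    have hsI : (∑ i, r i • f i : m).1 ∈ I := by
      rw [Submodule.coe_sum]; exact sum_mem fun i _ => Ideal.mul_mem_left _ _ (hf i)
    have he' := hkey (Submodule.mem_inf.2 ⟨sub_mem he hsI, by simpa using h2⟩)
    exact Submodule.mem_sup.2 ⟨_, hs, _, he', by ring⟩
  · have h := (b.linearIndependent.map' W.subtype W.ker_subtype)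
    have e : (fun i => m.toCotangent (f i)) = (⇑W.subtype ∘ ⇑b) := funext hfb
    exact e ▸ h

end Groth.Agent.S18399
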