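import Groth.Statements.S18416
import Mathlib
-- import your own Groth.Agent.* helpers here

set_option autoImplicit false
universe u v w
open CAlg

namespace Groth.Agent.S18416

section
open TensorProduct

/-- Cutting by functions with differentials forming a basis gives an etale algebra. -/
lemma etale_quotient_of_basis {C : Type v} {B' : Type w} [CommRing C] [CommRing B'] [Algebra C B']
    [Algebra.FormallySmooth C B'] [Algebra.FinitePresentation C B'] {κ : Type w} [Finite κ] (g : κ → B')
    (b : Module.Basis κ B' (Ω[B'⁄C])) (hb : ∀ i, b i = KaehlerDifferential.D C B' (g i)) :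
    Algebra.Etale C (B' ⧸ Ideal.span (Set.range g)) := by
  classical
  set I := Ideal.span (Set.range g) with hI
  let P := B' ⧸ I
  have hs : Function.Surjective (algebraMap B' P) := Ideal.Quotient.mk_surjective
  have hg0 : ∀ i, algebraMap B' P (g i) = 0 := fun i =>
    Ideal.Quotient.eq_zero_iff_mem.mpr (Ideal.subset_span ⟨i, rfl⟩)
  haveI : Algebra.FormallyUnramified C P := by
    refine ⟨subsingleton_of_forall_eq 0 fun y => ?_⟩
    obtain ⟨z, rfl⟩ := KaehlerDifferential.mapBaseChange_surjective C B' P hs y
    induction z using TensorProduct.induction_on with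
    | zero => rw [map_zero]
    | tmul p ω =>
      rw [KaehlerDifferential.mapBaseChange_tmul]
      have : KaehlerDifferential.map C C B' P ω = 0 := by
        induction (b.mem_span ω) using Submodule.span_induction with
        | mem x hx =>
          obtain ⟨i, rfl⟩ := hx
          rw [hb, KaehlerDifferential.map_D, hg0, map_zero]
        | zero => rw [map_zero]
        | add x y _ _ hx hy => rw [map_add, hx, hy, add_zero]
        | smul a x _ hx => rw [map_smul, hx, smul_zero]
      rw [this, smul_zero]
    | add z z' hz hz' => rw [map_add, hz, hz', add_zero]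
  haveI : Algebra.FormallySmooth C P := by
    rw [Algebra.FormallySmooth.iff_split_injection (P := B') hs]
    have hk : RingHom.ker (algebraMap B' P) = I := Ideal.mk_ker
    let K := RingHom.ker (algebraMap B' P)
    have hgK : ∀ i, g i ∈ K := fun i => hk.ge (Ideal.subset_span ⟨i, rfl⟩)
    let L0 : Ω[B'⁄C] →ₗ[B'] K.Cotangent := b.constr B' fun i => K.toCotangent ⟨g i, hgK i⟩
    have hkill : I • (⊤ : Submodule B' (Ω[B'⁄C])) ≤ LinearMap.ker L0 := Submodule.smul_le.mpr fun r hr n _ => by
      obtain ⟨y, hy⟩ := K.toCotangent_surjective (L0 n)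
      rw [LinearMap.mem_ker, map_smul, ← hy, ← map_smul, Ideal.toCotangent_eq_zero, pow_two]
      exact Ideal.mul_mem_mul (hk.ge hr) y.2
    refine ⟨((I • (⊤ : Submodule B' (Ω[B'⁄C]))).liftQ L0 hkill).comp
      (TensorProduct.quotTensorEquivQuotSMul (Ω[B'⁄C]) I).toLinearMap, ?_⟩
    refine LinearMap.ext fun c => ?_
    obtain ⟨⟨a, ha⟩, rfl⟩ := K.toCotangent_surjective c
    rw [LinearMap.comp_apply, KaehlerDifferential.kerCotangentToTensor_toCotangent, LinearMap.comp_apply,
      LinearEquiv.coe_coe, LinearMap.id_apply]
    refine Eq.trans (congrArg _ (TensorProduct.quotTensorEquivQuotSMul_mk_one_tmul I (KaehlerDifferential.D C B' a))) ?_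
    show L0 (KaehlerDifferential.D C B' a) = K.toCotangent ⟨a, ha⟩
    have ha' : a ∈ I := hk.le ha
    induction ha' using Submodule.span_induction with
    | mem x hx =>
      obtain ⟨i, rfl⟩ := hx
      rw [← hb, Module.Basis.constr_basis]
    | zero => rw [map_zero, map_zero]; exact (map_zero K.toCotangent).symm
    | add x y hx hy h1 h2 =>
      rw [map_add, map_add, h1 (hk.ge hx), h2 (hk.ge hy), ← map_add]
      rfl
    | smul r x hx h1 =>
      refine Eq.trans ?_ (show r • K.toCotangent ⟨x, hk.ge hx⟩ = _ by rw [← map_smul]; rfl)
      rw [show (r • x : B') = r * x from rfl, Derivation.leibniz, map_add, map_smul, map_smul, h1 (hk.ge hx)]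
      have h0 : x • L0 (KaehlerDifferential.D C B' r) = 0 := by
        obtain ⟨y, hy⟩ := K.toCotangent_surjective (L0 (KaehlerDifferential.D C B' r))
        rw [← hy, ← map_smul, Ideal.toCotangent_eq_zero, pow_two]
        exact Ideal.mul_mem_mul (hk.ge hx) y.2
      rw [h0, add_zero]
  haveI : Algebra.FinitePresentation C P :=
    Algebra.FinitePresentation.quotient (Submodule.fg_span (Set.finite_range g))
  exact ⟨Algebra.FormallyEtale.of_formallyUnramified_and_formallySmooth, inferInstance⟩

end

/-- Let R → C and C → B be smooth ring homomorphisms, J an ideal of B and K the preimage of J in C, and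
suppose that C surjects onto A = B/J (so that C/K = B/J = A). Then for every prime x of A there
exist f ∈ B whose image in A does not lie in x and an ideal J₀ of B_f contained in J B_f such that
the composite C → B_f → B_f/J₀ is étale. -/
theorem result (R : Type u) (C : Type v) (B : Type w)
    [CommRing R] [CommRing C] [CommRing B] [Algebra R C] [Algebra C B] [Algebra R B] [IsScalarTower R C B]
    [Algebra.Smooth R C] [Algebra.Smooth C B] (J : Ideal B)
    (hsurj : Function.Surjective ((Ideal.Quotient.mk J).comp (algebraMap C B)))
    (x : PrimeSpectrum (B ⧸ J)) :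
    ∃ f : B, Ideal.Quotient.mk J f ∉ x.asIdeal ∧
      ∃ J₀ : Ideal (Localization.Away f), J₀ ≤ J.map (algebraMap B (Localization.Away f)) ∧
        ((Ideal.Quotient.mk J₀).comp ((algebraMap B (Localization.Away f)).comp (algebraMap C B))).Etale := by
  classical
  let q : Ideal B := x.asIdeal.comap (Ideal.Quotient.mk J)
  let M := Ω[B⁄C]
  haveI : Module.Finite B M := inferInstance
  haveI : Module.Projective B M := inferInstance
  haveI : Module.FinitePresentation B M := Module.finitePresentation_of_projective B M
  have hspan : Submodule.span B (Set.range fun j : J => KaehlerDifferential.D C B j) = ⊤ := by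
    rw [eq_top_iff, ← KaehlerDifferential.span_range_derivation C B]
    refine Submodule.span_le.mpr ?_
    rintro _ ⟨y, rfl⟩
    obtain ⟨c, hc⟩ := hsurj (Ideal.Quotient.mk J y)
    have hj : y - algebraMap C B c ∈ J := Ideal.Quotient.eq.mp hc.symm
    have : KaehlerDifferential.D C B y = KaehlerDifferential.D C B (y - algebraMap C B c) := by
      rw [map_sub, Derivation.map_algebraMap, sub_zero]
    rw [this]
    exact Submodule.subset_span ⟨⟨_, hj⟩, rfl⟩
  let Bq := Localization.AtPrime q
  let Mq := LocalizedModule q.primeCompl M
  let mq := LocalizedModule.mkLinearMap q.primeCompl M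
  haveI : Module.Finite Bq Mq := Module.Finite.of_isLocalizedModule q.primeCompl (Rₚ := Bq) mq
  haveI : Module.Projective Bq Mq := Module.projective_of_isLocalizedModule q.primeCompl mq
  haveI : Module.FinitePresentation Bq Mq := Module.finitePresentation_of_projective Bq Mq
  have hv : Submodule.span Bq (Set.range fun j : J => mq (KaehlerDifferential.D C B j)) = ⊤ := by
    have := span_eq_top_of_isLocalizedModule Bq q.primeCompl mq hspan
    rwa [← Set.range_comp] at this
  obtain ⟨κ, a, bq, hbq⟩ := Module.exists_basis_of_span_of_flat _ hv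
  haveI : Finite κ := Module.Finite.finite_basis bq
  haveI : Fintype κ := Fintype.ofFinite κ
  let l : (κ → B) →ₗ[B] M := Fintype.linearCombination B fun i => KaehlerDifferential.D C B (a i : B)
  have hl : ∀ i, l (Pi.single i 1) = KaehlerDifferential.D C B (a i : B) := fun i => by
    rw [Fintype.linearCombination_apply_single, one_smul]
  let mF := LocalizedModule.mkLinearMap q.primeCompl (κ → B)
  let bF : Module.Basis κ Bq (LocalizedModule q.primeCompl (κ → B)) :=
    (Pi.basisFun B κ).ofIsLocalizedModule Bq q.primeCompl mF
  have hlq : Function.Bijective (IsLocalizedModule.map q.primeCompl mF mq l) := by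
    have heq : (IsLocalizedModule.map q.primeCompl mF mq l).extendScalarsOfIsLocalization q.primeCompl Bq =
        (bF.equiv bq (Equiv.refl κ)).toLinearMap := by
      refine bF.ext fun i => ?_
      rw [LinearEquiv.coe_coe, Module.Basis.equiv_apply, Equiv.refl_apply, hbq]
      show IsLocalizedModule.map q.primeCompl mF mq l (bF i) = _
      rw [Module.Basis.ofIsLocalizedModule_apply, IsLocalizedModule.map_apply, Pi.basisFun_apply, hl]
    have := (bF.equiv bq (Equiv.refl κ)).bijective
    rw [← LinearEquiv.coe_coe, ← heq] at this
    exact this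
  obtain ⟨t, ht, hbij⟩ := exists_bijective_map_powers q.primeCompl mF mq l hlq
  refine ⟨t, ht, ?_⟩
  let B' := Localization.Away t
  let g : κ → B' := fun i => algebraMap B B' (a i)
  refine ⟨Ideal.span (Set.range g), Ideal.span_le.mpr ?_, ?_⟩
  · rintro _ ⟨i, rfl⟩
    exact Ideal.mem_map_of_mem _ (a i).2
  let mF' := LocalizedModule.mkLinearMap (Submonoid.powers t) (κ → B)
  let b0 : Module.Basis κ B' (LocalizedModule (Submonoid.powers t) (κ → B)) :=
    (Pi.basisFun B κ).ofIsLocalizedModule B' (Submonoid.powers t) mF'
  let lt' : LocalizedModule (Submonoid.powers t) (κ → B) ≃ₗ[B'] LocalizedModule (Submonoid.powers t) M :=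
    LinearEquiv.ofBijective (LocalizedModule.map (Submonoid.powers t) l) (hbij t dvd_rfl)
  let eΩ : LocalizedModule (Submonoid.powers t) M ≃ₗ[B'] Ω[B'⁄C] :=
    (IsLocalizedModule.linearEquiv (Submonoid.powers t) (LocalizedModule.mkLinearMap (Submonoid.powers t) M)
      (KaehlerDifferential.map C C B B')).extendScalarsOfIsLocalization (Submonoid.powers t) B'
  have hb : ∀ i, (b0.map (lt'.trans eΩ)) i = KaehlerDifferential.D C B' (g i) := fun i => by
    rw [Module.Basis.map_apply, LinearEquiv.trans_apply, Module.Basis.ofIsLocalizedModule_apply, Pi.basisFun_apply]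
    show eΩ (LocalizedModule.map (Submonoid.powers t) l (LocalizedModule.mk (Pi.single i 1) 1)) = _
    rw [LocalizedModule.map_mk, hl]
    show IsLocalizedModule.linearEquiv (Submonoid.powers t) (LocalizedModule.mkLinearMap (Submonoid.powers t) M)
      (KaehlerDifferential.map C C B B') (LocalizedModule.mkLinearMap (Submonoid.powers t) M (KaehlerDifferential.D C B (a i : B))) = _
    rw [IsLocalizedModule.linearEquiv_apply, KaehlerDifferential.map_D]
  haveI : Algebra.Smooth B B' := inferInstance
  haveI : Algebra.Smooth C B' := Algebra.Smooth.comp C B B'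
  have := etale_quotient_of_basis g (b0.map (lt'.trans eΩ)) hb
  rw [← IsScalarTower.algebraMap_eq C B B', ← RingHom.etale_algebraMap] at *
  exact this

end Groth.Agent.S18416
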