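import Groth.Statements.S18417
import Mathlib
import Groth.Agent.LinType.Basic
-- import your own Groth.Agent.* helpers here

set_option autoImplicit false
universe u v
open CAlg

namespace Groth.Agent.S18417

/-- Let R → A be a ring homomorphism and x_1, …, x_d a weakly regular sequence in A generating an ideal
J such that B = A/J is formally smooth over R. Then for every N ≥ 1 there is an isomorphism of
R-algebras e : A/J^N ≅ B[T_1, …, T_d]/(T_1, …, T_d)^N which sends the class of x_i to the class of
T_i and which is compatible with the projections to B: for every a ∈ A, e(a mod J^N) is congruent to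
the constant a mod J modulo the ideal generated by the variables. (The source also assumes R → A
smooth, which its argument does not use, and a regular sequence; weak regularity is what the
argument uses.) -/
theorem result
    (R : Type u) (A : Type v) [CommRing R] [CommRing A] [Algebra R A] (d : ℕ) (x : Fin d → A)
    (hreg : RingTheory.Sequence.IsWeaklyRegular A (List.ofFn x))
    [Algebra.FormallySmooth R (A ⧸ Ideal.span (Set.range x))] (N : ℕ) (hN : 1 ≤ N) :
    ∃ e : (A ⧸ Ideal.span (Set.range x) ^ N) ≃ₐ[R]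
        (MvPolynomial (Fin d) (A ⧸ Ideal.span (Set.range x)) ⧸
          Ideal.span (Set.range (MvPolynomial.X : Fin d → MvPolynomial (Fin d) (A ⧸ Ideal.span (Set.range x)))) ^ N),
      (∀ i : Fin d, e (Ideal.Quotient.mk _ (x i)) = Ideal.Quotient.mk _ (MvPolynomial.X i)) ∧
      ∀ a : A, e (Ideal.Quotient.mk _ a) - Ideal.Quotient.mk _ (MvPolynomial.C (Ideal.Quotient.mk _ a)) ∈
        (Ideal.span (Set.range (MvPolynomial.X : Fin d → MvPolynomial (Fin d) (A ⧸ Ideal.span (Set.range x))))).map
          (Ideal.Quotient.mk _) := by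
  classical
  set J := Ideal.span (Set.range x) with hJ
  let B := A ⧸ J
  let π : A →+* A ⧸ J ^ N := Ideal.Quotient.mk (J ^ N)
  let Jb : Ideal (A ⧸ J ^ N) := J.map π
  have hle : J ^ N ≤ J := Ideal.pow_le_self (by omega)
  let pr : (A ⧸ J ^ N) →ₐ[R] B := Ideal.Quotient.factorₐ R hle
  have hprker : ∀ z, pr z = 0 → z ∈ Jb := by
    intro z hz
    obtain ⟨a, rfl⟩ := Ideal.Quotient.mk_surjective z
    exact Ideal.mem_map_of_mem π (Ideal.Quotient.eq_zero_iff_mem.mp hz)
  have hJb0 : Jb ^ N = ⊥ := by
    rw [← Ideal.map_pow, Ideal.map_quotient_self]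
  have hkerpr : RingHom.ker pr = Jb := le_antisymm (fun z hz => hprker z hz)
    (Ideal.map_le_iff_le_comap.mpr fun a ha => Ideal.Quotient.eq_zero_iff_mem.mpr ha)
  have hprsurj : Function.Surjective pr := Ideal.Quotient.factor_surjective hle
  obtain ⟨σ, hσ⟩ := Algebra.FormallySmooth.exists_lift (R := R) (A := B) Jb ⟨N, hJb0⟩
    ((Ideal.quotientEquivAlgOfEq R hkerpr).toAlgHom.comp
      (Ideal.quotientKerAlgEquivOfSurjective (f := pr) hprsurj).symm.toAlgHom)
  have hσ' : ∀ a : A, σ (Ideal.Quotient.mk J a) - π a ∈ Jb := by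
    intro a
    have h := AlgHom.congr_fun hσ (Ideal.Quotient.mk J a)
    rw [← Ideal.Quotient.eq]
    refine h.trans ?_
    show (Ideal.quotientEquivAlgOfEq R hkerpr) ((Ideal.quotientKerAlgEquivOfSurjective (f := pr) hprsurj).symm (pr (π a))) = _
    rw [show pr (π a) = Ideal.quotientKerAlgEquivOfSurjective (f := pr) hprsurj
      (Ideal.Quotient.mk _ (π a)) from rfl, AlgEquiv.symm_apply_apply]
    rfl
  let P := MvPolynomial (Fin d) B
  let M : Ideal P := Ideal.span (Set.range MvPolynomial.X)
  let ψ₀ : P →ₐ[R] A ⧸ J ^ N :=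
    { MvPolynomial.eval₂Hom σ.toRingHom (fun i => π (x i)) with
      commutes' := fun r => by
        show MvPolynomial.eval₂Hom σ.toRingHom (fun i => π (x i)) (algebraMap R P r) = _
        rw [IsScalarTower.algebraMap_apply R B P r, MvPolynomial.algebraMap_eq, MvPolynomial.eval₂Hom_C]
        exact σ.commutes r }
  have hψC : ∀ b, ψ₀ (MvPolynomial.C b) = σ b := fun b => MvPolynomial.eval₂Hom_C _ _ b
  have hψX : ∀ i, ψ₀ (MvPolynomial.X i) = π (x i) := fun i => MvPolynomial.eval₂Hom_X' _ _ i
  have hψM : M.map ψ₀ ≤ Jb := by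
    rw [Ideal.map_span, Ideal.span_le]
    rintro _ ⟨_, ⟨i, rfl⟩, rfl⟩
    rw [hψX]
    exact Ideal.mem_map_of_mem π (Ideal.subset_span ⟨i, rfl⟩)
  have hψMn : ∀ (n : ℕ) (q : P), q ∈ M ^ n → ψ₀ q ∈ Jb ^ n := fun n q hq =>
    Ideal.pow_right_mono hψM n (by rw [← Ideal.map_pow]; exact Ideal.mem_map_of_mem ψ₀ hq)
  have hker : ∀ q ∈ M ^ N, ψ₀ q = 0 := fun q hq => by
    have := hψMn N q hq; rwa [hJb0, Ideal.mem_bot] at this
  have hsurj : Function.Surjective ψ₀ := by
    have key : ∀ (n : ℕ) (z : A ⧸ J ^ N), ∃ q : P, z - ψ₀ q ∈ Jb ^ n := by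
      intro n
      induction n with
      | zero => exact fun z => ⟨0, by simp⟩
      | succ n ih =>
        have h1 : ∀ z ∈ Jb ^ n, ∃ q : P, z - ψ₀ q ∈ Jb ^ (n + 1) := by
          intro z hz
          have hz' : z ∈ (M ^ n).map ψ₀.toRingHom ⊔ Jb ^ (n + 1) := by
            refine (?_ : Jb ^ n ≤ _) hz
            have e : M.map ψ₀.toRingHom = Jb := le_antisymm hψM (by
              rw [show Jb = Ideal.span (π '' Set.range x) from Ideal.map_span π _, Ideal.span_le]
              rintro _ ⟨_, ⟨i, rfl⟩, rfl⟩
              exact (hψX i) ▸ Ideal.mem_map_of_mem _ (Ideal.subset_span ⟨i, rfl⟩))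
            rw [Ideal.map_pow, e]
            exact le_sup_left
          obtain ⟨u, hu, v, hv, rfl⟩ := Submodule.mem_sup.mp hz'
          suffices h : ∃ q : P, u - ψ₀ q ∈ Jb ^ (n + 1) by
            obtain ⟨q, hq⟩ := h
            exact ⟨q, by rw [add_sub_right_comm]; exact add_mem hq hv⟩
          clear hz' hv v hz
          rw [Ideal.map, Ideal.span] at hu
          induction hu using Submodule.span_induction with
          | mem y hy =>
            obtain ⟨q, hq, rfl⟩ := hy
            exact ⟨q, by rw [show ψ₀.toRingHom q = ψ₀ q from rfl, sub_self]; exact zero_mem _⟩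
          | zero => exact ⟨0, by simp⟩
          | add a b _ _ ha hb =>
            obtain ⟨q, hq⟩ := ha
            obtain ⟨q', hq'⟩ := hb
            exact ⟨q + q', by rw [map_add, add_sub_add_comm]; exact add_mem hq hq'⟩
          | smul c a hamem ha =>
            obtain ⟨q, hq⟩ := ha
            obtain ⟨c', rfl⟩ := Ideal.Quotient.mk_surjective c
            refine ⟨MvPolynomial.C (Ideal.Quotient.mk J c') * q, ?_⟩
            have ha' : a ∈ Jb ^ n :=
              Ideal.pow_right_mono hψM n (by rw [← Ideal.map_pow]; exact hamem)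
            rw [map_mul, hψC, smul_eq_mul, show π c' * a - σ (Ideal.Quotient.mk J c') * ψ₀ q =
              σ (Ideal.Quotient.mk J c') * (a - ψ₀ q) - (σ (Ideal.Quotient.mk J c') - π c') * a by ring]
            exact sub_mem (Ideal.mul_mem_left _ _ hq) (by rw [pow_succ']; exact Ideal.mul_mem_mul (hσ' c') ha')
        intro z
        obtain ⟨q, hq⟩ := ih z
        obtain ⟨q', hq'⟩ := h1 _ hq
        exact ⟨q + q', by rw [map_add, ← sub_sub]; exact hq'⟩
    intro z
    obtain ⟨q, hq⟩ := key N z
    rw [hJb0, Ideal.mem_bot, sub_eq_zero] at hq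
    exact ⟨q, hq.symm⟩
  have hinj : ∀ q : P, ψ₀ q = 0 → q ∈ M ^ N := by
    intro q hq
    suffices H : ∀ n ≤ N, ∀ e : Fin d →₀ ℕ, e.degree < n → q.coeff e = 0 from
      (MvPolynomial.mem_pow_idealOfVars_iff' N q).mpr (H N le_rfl)
    intro n
    induction n with
    | zero => exact fun _ e he => absurd he (Nat.not_lt_zero _)
    | succ n ih =>
      intro hn e he
      rcases Nat.lt_succ_iff_lt_or_eq.mp he with he | he
      · exact ih (by omega) e he
      choose r hr using fun b : B => Ideal.Quotient.mk_surjective b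
      let S := q.support.filter fun e => e.degree = n
      let Q : MvPolynomial (Fin d) A := ∑ e ∈ S, MvPolynomial.monomial e (r (q.coeff e))
      let q' : P := ∑ e ∈ S, MvPolynomial.monomial e (q.coeff e)
      have hQh : Q.IsHomogeneous n :=
        MvPolynomial.IsHomogeneous.sum _ _ _ fun e he => MvPolynomial.isHomogeneous_monomial _ (Finset.mem_filter.mp he).2
      have hq' : q - q' ∈ M ^ (n + 1) := (MvPolynomial.mem_pow_idealOfVars_iff' _ _).mpr fun e he => by
        rw [MvPolynomial.coeff_sub, show q' = ∑ e ∈ S, MvPolynomial.monomial e (q.coeff e) from rfl, MvPolynomial.coeff_sum]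
        by_cases h : e ∈ S
        · rw [Finset.sum_eq_single e (fun b _ hb => by rw [MvPolynomial.coeff_monomial, if_neg hb]) (fun h' => absurd h h'),
            MvPolynomial.coeff_monomial, if_pos rfl, sub_self]
        · rw [Finset.sum_eq_zero fun b hb => by rw [MvPolynomial.coeff_monomial, if_neg (by rintro rfl; exact h hb)], sub_zero]
          rcases Nat.lt_succ_iff_lt_or_eq.mp he with he | he
          · exact ih (by omega) e he
          · by_contra h'; exact h (Finset.mem_filter.mpr ⟨MvPolynomial.mem_support_iff.mpr h', he⟩)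
      have hdiff : ψ₀ q' - π (MvPolynomial.eval x Q) ∈ Jb ^ (n + 1) := by
        simp only [q', Q, map_sum, ← Finset.sum_sub_distrib]
        refine Submodule.sum_mem _ fun e he => ?_
        have h1 : ψ₀ (MvPolynomial.monomial e 1) = π (MvPolynomial.eval x (MvPolynomial.monomial e 1)) := by
          rw [MvPolynomial.eval_monomial, one_mul, Finsupp.prod, map_prod]
          show MvPolynomial.eval₂Hom σ.toRingHom (fun i => π (x i)) _ = _
          rw [MvPolynomial.eval₂Hom_monomial, map_one, one_mul, Finsupp.prod]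
          simp
        rw [← mul_one (q.coeff e), ← MvPolynomial.C_mul_monomial, map_mul, hψC, mul_one]
        rw [← mul_one (r (q.coeff e)), ← MvPolynomial.C_mul_monomial, map_mul, MvPolynomial.eval_C, map_mul, ← h1,
          ← sub_mul, pow_succ']
        refine Ideal.mul_mem_mul ?_ ?_
        · have := hσ' (r (q.coeff e))
          rwa [hr] at this
        · refine hψMn n _ ((MvPolynomial.mem_pow_idealOfVars_iff' _ _).mpr fun e' he' => ?_)
          rw [MvPolynomial.coeff_monomial, if_neg]
          rintro rfl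
          exact absurd (Finset.mem_filter.mp he).2 he'.ne
      have heval : MvPolynomial.eval x Q ∈ J ^ (n + 1) := by
        have h1 : π (MvPolynomial.eval x Q) ∈ Jb ^ (n + 1) := by
          have h2 := hψMn _ _ hq'
          rw [map_sub, hq, zero_sub, neg_mem_iff] at h2
          simpa using sub_mem h2 hdiff
        rw [← Ideal.map_pow, ← Ideal.mem_comap, Ideal.comap_map_of_surjective _ Ideal.Quotient.mk_surjective,
          ← RingHom.ker_eq_comap_bot, Ideal.mk_ker, sup_eq_left.mpr (Ideal.pow_le_pow_right hn)] at h1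
        exact h1
      have := Groth.Agent.LinType.quasiRegular x hreg hQh heval e
      simp only [Q, MvPolynomial.coeff_sum, MvPolynomial.coeff_monomial, Finset.sum_ite_eq', S, Finset.mem_filter,
        MvPolynomial.mem_support_iff] at this
      by_contra hne
      rw [if_pos ⟨hne, he⟩] at this
      exact hne ((hr _).symm.trans (Ideal.Quotient.eq_zero_iff_mem.mpr this))
  let ψ : (P ⧸ M ^ N) →ₐ[R] A ⧸ J ^ N := Ideal.Quotient.liftₐ (M ^ N) ψ₀ hker
  have hψbij : Function.Bijective ψ := by
    refine ⟨(injective_iff_map_eq_zero ψ).mpr fun z hz => ?_, fun z => ?_⟩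
    · obtain ⟨q, rfl⟩ := Ideal.Quotient.mk_surjective z
      exact Ideal.Quotient.eq_zero_iff_mem.mpr (hinj q hz)
    · obtain ⟨q, rfl⟩ := hsurj z
      exact ⟨Ideal.Quotient.mk _ q, rfl⟩
  refine ⟨(AlgEquiv.ofBijective ψ hψbij).symm, fun i => ?_, fun a => ?_⟩
  · rw [AlgEquiv.symm_apply_eq]
    exact (hψX i).symm
  · obtain ⟨q, hq⟩ := hsurj (π a)
    have he : (AlgEquiv.ofBijective ψ hψbij).symm (π a) = Ideal.Quotient.mk _ q := by
      rw [AlgEquiv.symm_apply_eq]; exact hq.symm
    rw [he, ← map_sub]
    refine Ideal.mem_map_of_mem _ ?_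
    have hc : pr (ψ₀ q) = MvPolynomial.constantCoeff q := by
      show (pr.toRingHom.comp ψ₀.toRingHom) q = _
      congr 1
      refine MvPolynomial.ringHom_ext (fun b => ?_) fun i => ?_
      · show pr (ψ₀ _) = _
        rw [hψC, MvPolynomial.constantCoeff_C]
        obtain ⟨a, rfl⟩ := Ideal.Quotient.mk_surjective b
        refine sub_eq_zero.mp ?_
        rw [show Ideal.Quotient.mk J a = pr (π a) from rfl, ← map_sub]
        exact RingHom.mem_ker.mp (hkerpr.symm ▸ hσ' a)
      · show pr (ψ₀ _) = _
        rw [hψX, MvPolynomial.constantCoeff_X]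
        exact Ideal.Quotient.eq_zero_iff_mem.mpr (Ideal.subset_span ⟨i, rfl⟩)
    rw [hq] at hc
    rw [← pow_one (Ideal.span _)]
    refine (MvPolynomial.mem_pow_idealOfVars_iff' 1 _).mpr fun e he => ?_
    have he0 : e = 0 := by simpa [Finsupp.degree_eq_zero_iff] using he
    subst he0
    rw [MvPolynomial.coeff_sub, MvPolynomial.coeff_zero_C, ← MvPolynomial.constantCoeff_eq, ← hc]
    exact sub_self _

end Groth.Agent.S18417
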