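import Groth.Statements.S18418
import Mathlib.RingTheory.WittVector.DiscreteValuationRing
import Groth.Agent.MiscTwoH99.FL.Core

set_option autoImplicit false
universe u v
open FonLaf
open Groth.Agent.MiscTwoH99

namespace Groth.Agent.S18418

/-- Let k be a perfect field of characteristic p and W = W(k) its ring of Witt vectors with Frobenius σ.
Fix r and W-modules of finite length N_0 = M, N_1, N_2, … with W-linear maps α_i : N_{i+1} → N_i and
σ-semilinear maps φ_i : N_i → M such that φ_i ∘ α_i = p φ_{i+1} for all i < r. Let ι be the map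
sending (x_1, …, x_r) ∈ N_1 ⊕ ⋯ ⊕ N_r to (α_0 x_1, α_1 x_2 − p x_1, …, α_{r−1} x_r − p x_{r−1}, −p
x_r) ∈ N_0 ⊕ ⋯ ⊕ N_r, and Φ the map N_0 ⊕ ⋯ ⊕ N_r → M, (y_i) ↦ Σ_i φ_i(y_i). Suppose that Φ is
surjective and that its kernel is contained in the image of ι (with the displayed relation this says
that Φ induces a σ-semilinear bijection from the cokernel of ι onto M). Then for every i < r the map
α_i is injective and its image is a direct summand of N_i (so the N_i form a filtration of M by
direct summands, the data of a Fontaine–Laffaille module). Families are indexed by all natural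
numbers; only the indices ≤ r enter. -/
theorem result (p : ℕ) [Fact p.Prime]
    (k : Type u) [Field k] [CharP k p] [PerfectRing k p] (r : ℕ)
    (N : ℕ → Type v) [∀ i, AddCommGroup (N i)] [∀ i, Module (WittVector p k) (N i)]
    (hfl : ∀ i, IsFiniteLength (WittVector p k) (N i))
    (α : ∀ i, N (i + 1) →ₗ[WittVector p k] N i)
    (φ : ∀ i, N i →ₛₗ[(WittVector.frobenius : WittVector p k →+* WittVector p k)] N 0)
    (hφ : ∀ i, i < r → ∀ y : N (i + 1), φ i (α i y) = (p : WittVector p k) • φ (i + 1) y)
    (hsurj : ∀ m : N 0, ∃ y : (i : ℕ) → N i, (∀ i, r < i → y i = 0) ∧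
      (Finset.range (r + 1)).sum (fun i => φ i (y i)) = m)
    (hker : ∀ y : (i : ℕ) → N i, (∀ i, r < i → y i = 0) →
      (Finset.range (r + 1)).sum (fun i => φ i (y i)) = 0 →
        ∃ z : (i : ℕ) → N (i + 1), (∀ i, r ≤ i → z i = 0) ∧
          y 0 = α 0 (z 0) ∧ ∀ i, y (i + 1) = α (i + 1) (z (i + 1)) - (p : WittVector p k) • z i)
    (i : ℕ) (hi : i < r) :
    Function.Injective (α i) ∧
      ∃ Q : Submodule (WittVector p k) (N i), IsCompl (LinearMap.range (α i)) Q := by
  haveI : RingHomSurjective (WittVector.frobenius : WittVector p k →+* WittVector p k) :=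
    ⟨(WittVector.frobenius_bijective p k).surjective⟩
  have hart : ∀ j, IsArtinian (WittVector p k) (N j) := fun j =>
    (isFiniteLength_iff_isNoetherian_isArtinian.1 (hfl j)).2
  have hnoe : ∀ j, IsNoetherian (WittVector p k) (N j) := fun j =>
    (isFiniteLength_iff_isNoetherian_isArtinian.1 (hfl j)).1
  let c : WittVector p k := p
  let T : ℕ → ∀ j, Submodule (WittVector p k) (N j) := fun n j =>
    LinearMap.range (c ^ n • LinearMap.id : N j →ₗ[WittVector p k] N j)
  have hT : ∀ n j (x : N j), x ∈ T n j ↔ ∃ y, c ^ n • y = x := fun n j x => by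
    simp [T, LinearMap.mem_range]
  have hσ : ∀ n : ℕ, WittVector.frobenius (c ^ n) = c ^ n := fun n => by
    simp [c, map_pow, map_natCast]
  have key : ∀ n (j : ℕ), j < r → ∀ x : N (j + 1), α j x ∈ T n j → x ∈ T n (j + 1) := by
    intro n
    induction n with
    | zero => intro j _ x _; rw [hT]; exact ⟨x, by simp⟩
    | succ n ih =>
      intro j hj x hx
      obtain ⟨y, hy⟩ := (hT _ _ _).1 hx
      obtain ⟨x', hx'⟩ := (hT _ _ _).1 (ih j hj x ((hT _ _ _).2
        ⟨c • y, by rw [smul_smul, ← pow_succ, hy]⟩))
      have hpx : c • x ∈ T (n + 1) (j + 1) :=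
        (hT _ _ _).2 ⟨x', by rw [← hx', smul_smul, ← pow_succ']⟩
      have hα : ∀ l, T (n + 1) (l + 1) ≤ (T (n + 1) l).comap (α l) := by
        intro l v hv
        obtain ⟨w, rfl⟩ := (hT _ _ _).1 hv
        exact (hT _ _ _).2 ⟨α l w, (map_smul _ _ _).symm⟩
      have hφ' : ∀ l, T (n + 1) l ≤ (T (n + 1) 0).comap (φ l) := by
        intro l v hv
        obtain ⟨w, rfl⟩ := (hT _ _ _).1 hv
        refine (hT _ _ _).2 ⟨φ l w, ?_⟩
        rw [LinearMap.map_smulₛₗ, hσ]
      let X : ℕ → Type v := fun l => N l ⧸ T (n + 1) l
      let α' : ∀ l, X (l + 1) →ₗ[WittVector p k] X l := fun l =>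
        Submodule.mapQ _ _ (α l) (hα l)
      let φ' : ∀ l, X l →ₛₗ[(WittVector.frobenius : WittVector p k →+* WittVector p k)] X 0 :=
        fun l => Submodule.mapQ _ _ (φ l) (hφ' l)
      have hfl' : ∀ l, Module.length (WittVector p k) (X l) ≠ ⊤ := fun l => by
        have := hart l; have := hnoe l
        exact Module.length_ne_top
      have hsurj' : ∀ m : X 0, ∃ y : (l : ℕ) → X l,
          (Finset.range (r + 1)).sum (fun l => φ' l (y l)) = m := by
        intro m
        obtain ⟨m, rfl⟩ := Submodule.Quotient.mk_surjective _ m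
        obtain ⟨w, _, hw⟩ := hsurj m
        refine ⟨fun l => Submodule.Quotient.mk (w l), ?_⟩
        rw [← hw]
        rw [← Submodule.mkQ_apply, map_sum]
        rfl
      have hker' : ∀ y : (l : ℕ) → X l, (∀ l, r < l → y l = 0) →
          (Finset.range (r + 1)).sum (fun l => φ' l (y l)) = 0 →
          ∃ z : (l : ℕ) → X (l + 1), (∀ l, r ≤ l → z l = 0) ∧ y = FL.iota α' c z := by
        intro y hy0 hys
        choose y0 hy0' using fun l => Submodule.Quotient.mk_surjective _ (y l)
        let y1 : (l : ℕ) → N l := fun l => if l ≤ r then y0 l else 0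
        have hy1 : ∀ l, Submodule.Quotient.mk (y1 l) = y l := fun l => by
          simp only [y1]; split_ifs with h
          · exact hy0' l
          · rw [Submodule.Quotient.mk_zero, hy0 l (by omega)]
        have hmem : (Finset.range (r + 1)).sum (fun l => φ l (y1 l)) ∈ T (n + 1) 0 := by
          rw [← Submodule.Quotient.mk_eq_zero, ← Submodule.mkQ_apply, map_sum, ← hys]
          refine Finset.sum_congr rfl (fun l _ => ?_)
          rw [← hy1 l]; rfl
        obtain ⟨m, hm⟩ := (hT _ _ _).1 hmem
        obtain ⟨w, hw0, hw⟩ := hsurj m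
        obtain ⟨z, hz0, e0, e⟩ := hker (fun l => y1 l - c ^ (n + 1) • w l)
          (fun l hl => by simp [y1, not_le.2 hl, hw0 l hl])
          (by
            simp only [map_sub, LinearMap.map_smulₛₗ, hσ, Finset.sum_sub_distrib]
            rw [← Finset.smul_sum, hw, hm, sub_self])
        have hq : ∀ l, (Submodule.Quotient.mk (y1 l - c ^ (n + 1) • w l) : X l) = y l := fun l => by
          rw [Submodule.Quotient.mk_sub, hy1,
            (Submodule.Quotient.mk_eq_zero (T (n + 1) l)).2 ((hT _ _ _).2 ⟨_, rfl⟩), sub_zero]
        refine ⟨fun l => Submodule.Quotient.mk (z l), fun l hl => by simp [hz0 l hl], ?_⟩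
        funext l
        rw [← hq l]
        cases l with
        | zero => simp only [e0]; rfl
        | succ l => simp only [e l]; rfl
      let z : (l : ℕ) → X (l + 1) := fun l =>
        if h : j = l then (Submodule.Quotient.mk (h ▸ x) : X (l + 1)) else 0
      have hz1 : ∀ l, r ≤ l → z l = 0 := fun l hl => dif_neg (by omega)
      have hz := FL.iota_injective (WittVector.frobenius : WittVector p k →+* WittVector p k)
        α' c r hfl' φ' hsurj' hker' z hz1 (by
          intro l hl
          cases l with
          | zero =>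
            show α' 0 (z 0) = 0
            simp only [z]
            split_ifs with h
            · subst h
              exact (Submodule.Quotient.mk_eq_zero _).2 hx
            · exact map_zero _
          | succ l =>
            show α' (l + 1) (z (l + 1)) - c • z l = 0
            have h1 : α' (l + 1) (z (l + 1)) = 0 := by
              simp only [z]
              split_ifs with h
              · subst h
                exact (Submodule.Quotient.mk_eq_zero _).2 hx
              · exact map_zero _
            have h2 : c • z l = 0 := by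
              simp only [z]
              split_ifs with h
              · subst h
                exact (Submodule.Quotient.mk_eq_zero _).2 hpx
              · exact smul_zero _
            rw [h1, h2, sub_zero]) j
      have hzj : z j = Submodule.Quotient.mk x := dif_pos rfl
      rw [hzj] at hz
      exact (Submodule.Quotient.mk_eq_zero _).1 hz
  have hp : Irreducible c := WittVector.irreducible p
  have hj : Ideal.span {c} ≤ Ideal.jacobson ⊥ := by
    rw [IsLocalRing.jacobson_eq_maximalIdeal ⊥ bot_ne_top, Ideal.span_le,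
      Set.singleton_subset_iff]
    exact hp.not_isUnit
  have := hart i; have := hnoe i; have := hart (i + 1); have := hnoe (i + 1)
  have hinj : Function.Injective (α i) := by
    rw [injective_iff_map_eq_zero]
    intro x hx
    obtain ⟨n, hn⟩ := FL.exists_pow_smul_eq_zero c hj (N (i + 1))
    obtain ⟨y, hy⟩ := (hT _ _ _).1 (key n i hi x (by rw [hx]; exact zero_mem _))
    rw [← hy, hn]
  refine ⟨hinj, FL.exists_isCompl_of_pure c hp (fun b => ?_) _ ?_⟩
  · obtain ⟨n, hn⟩ := FL.exists_pow_smul_eq_zero c hj (N i)
    exact ⟨n, hn b⟩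
  · rintro n b ⟨x, hx⟩
    obtain ⟨x', rfl⟩ := (hT _ _ _).1 (key n i hi x ((hT _ _ _).2 ⟨b, hx.symm⟩))
    exact ⟨α i x', ⟨x', rfl⟩, by rw [← hx, map_smul]⟩

end Groth.Agent.S18418
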