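import Groth.Statements.S18438
import Groth.Agent.SurfInt.Adj.Apps

set_option autoImplicit false
set_option linter.style.haveILetI false
set_option linter.unusedSectionVars false
set_option backward.isDefEq.respectTransparency false
set_option backward.isDefEq.respectTransparency.types false
universe u
open CategoryTheory CategoryTheory.Limits AlgebraicGeometry TopologicalSpace
open Surf

namespace Groth.Agent.S18438

/-- Let k be an algebraically closed field and X a smooth projective surface over k whose anticanonical
module is ample: X is an integral scheme, proper and smooth over k of dimension 2, W is a canonical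
module (a second exterior power of Ω_{X/k}) and D a tensor inverse of W which is ample. Intersection
numbers of invertible modules are (L·M) = χ(O_X) − χ(L) − χ(M) + χ(L ⊗ M), so that for a closed
subscheme C with ideal I_C one has C·C = (I_C·I_C) and K·C = −(I_C·W). If C ⊆ X is an integral
closed one-dimensional subscheme with C·C < 0, then C is an exceptional curve of the first kind: C·C
= −1, K·C = −1 and H¹(C, O_C) = 0. (The published statement concerns del Pezzo surfaces of degree d
embedded in projective d-space; its argument uses only the ampleness of the anticanonical module,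
which is the hypothesis taken here.) -/
theorem result (k : Type u) [Field k] [IsAlgClosed k] (X : Scheme.{u})
    [X.Over (Spec (CommRingCat.of k))] [IsIntegral X] [IsProper (X ↘ (Spec (CommRingCat.of k)))] [Smooth (X ↘ (Spec (CommRingCat.of k)))]
    (hdim : topologicalKrullDim X = 2)
    (W : X.Modules) (hW : ExtPow.IsExtPow 2 (Omega.sheaf (X ↘ (Spec (CommRingCat.of k)))) W)
    (D : X.Modules) (hD : ClSub.IsInverseOf D W) (hample : CohB1.IsAmple D)
    (C : X.IdealSheafData) (hC : IsIntegral C.subscheme) (hC1 : topologicalKrullDim (C.support : Set X) = 1)
    (hneg : FGA.intNum k X 2 ![ClSub.idealMod C, ClSub.idealMod C] (Coh.structureModule X) < 0) :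
    FGA.intNum k X 2 ![ClSub.idealMod C, ClSub.idealMod C] (Coh.structureModule X) = -1 ∧
      FGA.intNum k X 2 ![ClSub.idealMod C, W] (Coh.structureModule X) = 1 ∧
      Subsingleton (Coh.HH C.subscheme (Coh.structureModule C.subscheme) 1) := by
  open Groth.Agent in
  haveI := hC
  have hreg := SurfInt.isRegular_of_smooth k (X := X)
  have hWi := SurfInt.Adj.isInvertible_canonical k hdim hreg hW
  have hI := SurfInt.isInvertible_curve k hdim hreg C hC1
  have hadj := SurfInt.Adj.degOn_curve k hdim hreg hW C hC1
  letI := SurfInt.overComp k C.subschemeι
  have hDW := SurfInt.degOn_inv k (SurfInt.isCoh_quotMod k C) (SurfInt.dim_support_quotMod hC1.le) hample.1 hWi hD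
  have hpos := SurfInt.degOn_ample_pos k C hC1 hample
  have e1 := SurfInt.dot_ideal_left k hdim.le C hI hI
  have e2 := SurfInt.dot_ideal_left k hdim.le C hI hWi
  change SurfInt.dot k (ClSub.idealMod C) (ClSub.idealMod C) < 0 at hneg
  have hg : Curv2.genus k C.subscheme = 0 := by omega
  rw [hg] at hadj
  norm_num at hadj
  refine ⟨?_, ?_, ?_⟩
  · show SurfInt.dot k _ _ = _
    omega
  · show SurfInt.dot k _ _ = _
    omega
  · haveI := SurfInt.isProper_comp k C.subschemeι rfl
    haveI := SurfInt.noeth k (X := C.subscheme)
    haveI := CurveCohLib.finite_HH (k := k) (SurfInt.isCoh_structureModule (X := C.subscheme)) 1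
    exact Module.finrank_zero_iff.1 (hg : Module.finrank k (Coh.HH C.subscheme (Coh.structureModule C.subscheme) 1) = 0)

end Groth.Agent.S18438
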