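import Groth.Statements.S18451
import Groth.Agent.SurfInt.NegDef

set_option autoImplicit false
set_option linter.style.haveILetI false
set_option linter.unusedSectionVars false
set_option backward.isDefEq.respectTransparency false
set_option backward.isDefEq.respectTransparency.types false
universe u
open CategoryTheory CategoryTheory.Limits AlgebraicGeometry TopologicalSpace
open Surf

namespace Groth.Agent.S18451

/-- Let k be an algebraically closed field of characteristic zero and X a smooth projective surface over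
k (integral, proper and smooth over k, of dimension 2, carrying an ample invertible module). Let
C_1, …, C_r be pairwise distinct integral curves on X (integral closed one-dimensional subschemes
with ideal sheaves I_1, …, I_r) and write G_{ij} = (I_i·I_j) = χ(O_X) − χ(I_i) − χ(I_j) + χ(I_i ⊗
I_j) for their intersection matrix. Suppose the classes of the C_i span a negative definite
sublattice modulo numerical equivalence: for every integer vector a such that Σ_i a_i [C_i] is
numerically nontrivial, meaning that Σ_i a_i (I_i·M) ≠ 0 for some invertible O_X-module M, one has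
Σ_{i,j} a_i a_j G_{ij} < 0. Then the classes are linearly independent, i.e. G itself is negative
definite: Σ_{i,j} a_i a_j G_{ij} < 0 for every nonzero integer vector a. -/
theorem result (k : Type u) [Field k] [IsAlgClosed k] [CharZero k]
    (X : Scheme.{u}) [X.Over (Spec (CommRingCat.of k))] [IsProper (X ↘ (Spec (CommRingCat.of k)))]
    [Smooth (X ↘ (Spec (CommRingCat.of k)))] [IsIntegral X] (hdim : topologicalKrullDim X = 2)
    (hproj : ∃ H : X.Modules, CohB1.IsAmple H)
    (r : ℕ) (C : Fin r → X.IdealSheafData) (hC : Function.Injective C)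
    (hCi : ∀ i, IsIntegral (C i).subscheme) (hCd : ∀ i, topologicalKrullDim ((C i).support : Set X) = 1)
    (hneg : ∀ a : Fin r → ℤ,
      (∃ M : X.Modules, PicF.IsInvertible M ∧
        ∑ i, a i * FGA.intNum k X 2 ![(ClSub.idealMod (C i)), M] (Coh.structureModule X) ≠ 0) →
      ∑ i, ∑ j, a i * a j * FGA.intNum k X 2 ![(ClSub.idealMod (C i)), (ClSub.idealMod (C j))] (Coh.structureModule X) < 0) :
    ∀ a : Fin r → ℤ, a ≠ 0 →
      ∑ i, ∑ j, a i * a j * FGA.intNum k X 2 ![(ClSub.idealMod (C i)), (ClSub.idealMod (C j))] (Coh.structureModule X) < 0 := by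
  haveI := AlgebraicGeometry.IsProper.toLocallyOfFiniteType (f := X ↘ (Spec (CommRingCat.of k)))
  intro a ha
  obtain ⟨H, hH⟩ := hproj
  have hreg : ∀ x : X, IsRegularLocalRing (X.presheaf.stalk x) := Groth.Agent.SurfInt.isRegular_of_smooth k
  refine hneg a ?_
  by_contra hno
  simp only [not_exists, not_and, not_not] at hno
  let G : Fin r → Fin r → ℤ := fun i j =>
    FGA.intNum k X 2 ![(ClSub.idealMod (C i)), (ClSub.idealMod (C j))] (Coh.structureModule X)
  let p := Groth.Agent.SurfInt.pp a
  let n := Groth.Agent.SurfInt.np a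
  have hinv : ∀ j, PicF.IsInvertible (ClSub.idealMod (C j)) := fun j => by
    haveI := hCi j
    exact Groth.Agent.SurfInt.isInvertible_curve k hdim hreg (C j) (hCd j)
  have hnum : ∀ M : X.Modules, PicF.IsInvertible M →
      ∑ i, p i * FGA.intNum k X 2 ![(ClSub.idealMod (C i)), M] (Coh.structureModule X) =
      ∑ i, n i * FGA.intNum k X 2 ![(ClSub.idealMod (C i)), M] (Coh.structureModule X) := fun M hM => by
    have h := hno M hM
    rw [← sub_eq_zero, ← Finset.sum_sub_distrib]
    refine (Finset.sum_congr rfl fun i _ => ?_).trans h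
    rw [← sub_mul]
    exact congrArg (· * _) (congrFun (Groth.Agent.SurfInt.pp_sub_np a) i)
  have hnn : ∀ b c : Fin r → ℤ, (∀ i, 0 ≤ b i) → (∀ i, 0 ≤ c i) → (∀ i, b i * c i = 0) →
      0 ≤ Groth.Agent.SurfInt.mform G b c := fun b c hb hc hbc =>
    Groth.Agent.SurfInt.mform_nonneg_of_disjoint G
      (Groth.Agent.SurfInt.dot_curves_nonneg k hdim hreg C hCi hCd hC) hb hc hbc
  have hp0 : ∀ b c : Fin r → ℤ, (∀ i, 0 ≤ b i) → (∀ i, 0 ≤ c i) → (∀ i, b i * c i = 0) →
      (∀ M : X.Modules, PicF.IsInvertible M →
        ∑ i, b i * FGA.intNum k X 2 ![(ClSub.idealMod (C i)), M] (Coh.structureModule X) =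
        ∑ i, c i * FGA.intNum k X 2 ![(ClSub.idealMod (C i)), M] (Coh.structureModule X)) → b = 0 := by
    intro b c hb hc hbc hbc'
    by_contra hb0
    have hlt := hneg b ⟨H, hH.1, (Groth.Agent.SurfInt.sum_mul_dot_neg k hdim hreg C hCi hCd hH hb hb0).ne⟩
    have h1 : Groth.Agent.SurfInt.mform G (b - c) b = 0 := Groth.Agent.SurfInt.mform_eq_zero_of_row G fun j => by
      have h := hbc' _ (hinv j)
      simp only [Pi.sub_apply, sub_mul, Finset.sum_sub_distrib, sub_eq_zero]
      exact h
    rw [Groth.Agent.SurfInt.mform_sub_left] at h1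
    have h2 := hnn c b hc hb fun i => by rw [mul_comm]; exact hbc i
    change Groth.Agent.SurfInt.mform G b b < 0 at hlt
    omega
  have e1 : p = 0 := hp0 p n (Groth.Agent.SurfInt.pp_nonneg a) (Groth.Agent.SurfInt.np_nonneg a)
    (Groth.Agent.SurfInt.pp_mul_np a) hnum
  have e2 : n = 0 := hp0 n p (Groth.Agent.SurfInt.np_nonneg a) (Groth.Agent.SurfInt.pp_nonneg a)
    (fun i => by rw [mul_comm]; exact Groth.Agent.SurfInt.pp_mul_np a i) fun M hM => (hnum M hM).symm
  refine ha ?_
  rw [← Groth.Agent.SurfInt.pp_sub_np a]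
  show p - n = 0
  rw [e1, e2, sub_zero]

end Groth.Agent.S18451
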