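import Groth.Statements.S18461
import Groth.Agent.SurfInt.RatCycle

set_option autoImplicit false
set_option linter.style.haveILetI false
set_option linter.unusedSectionVars false
set_option backward.isDefEq.respectTransparency false
set_option backward.isDefEq.respectTransparency.types false
universe u
open CategoryTheory CategoryTheory.Limits AlgebraicGeometry TopologicalSpace
open Surf

namespace Groth.Agent.S18461

/-- Let k be an algebraically closed field of characteristic zero and X a smooth projective surface over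
k (integral, proper and smooth over k, of dimension 2). Let C_1, …, C_r (r ≥ 1) be pairwise distinct
integral curves on X, with ideal sheaves I_i, forming a connected configuration with negative
definite intersection matrix (no partition of the indices into two nonempty sets with (I_i·I_j) = 0
across; Σ a_i a_j (I_i·I_j) < 0 for every nonzero integer vector a; (A·B) = χ(O_X) − χ(A) − χ(B) +
χ(A ⊗ B)), and let Z₀ be a fundamental cycle: a nonzero effective Cartier divisor supported on ⋃ C_i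
with deg(I_{Z₀}|_{C_i}) = χ(O_{C_i} ⊗ I_{Z₀}) − χ(O_{C_i}) ≥ 0 for all i, every other such divisor Z
satisfying Z ≥ Z₀ (I_Z ⊆ I_{Z₀}). Suppose the configuration is rational in the sense that H¹(Z, O_Z)
= 0 for every nonzero effective Cartier divisor Z supported on ⋃ C_i. Then for every natural number
N, writing O_{Z₀}(−NZ₀) = O_{Z₀} ⊗ I_{Z₀}^{⊗N}: H¹(Z₀, O_{Z₀}(−NZ₀)) = 0 and dim_k H⁰(Z₀,
O_{Z₀}(−NZ₀)) = −N·(I_{Z₀}·I_{Z₀}) + 1, that is −N·Z₀² + 1; cohomology is computed on X through the
direct image of O_{Z₀}. The published statement assumes the singularity obtained by contracting the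
configuration over the complex numbers rational, which is equivalent to the vanishing assumed here,
and also asserts R¹π_*O_X(−NZ₀) = 0 for the contraction π and two facts on the maximal ideal of that
singularity; those are not restated. -/
theorem result (k : Type u) [Field k] [IsAlgClosed k] [CharZero k]
    (X : Scheme.{u}) [X.Over (Spec (CommRingCat.of k))] [IsProper (X ↘ (Spec (CommRingCat.of k)))]
    [Smooth (X ↘ (Spec (CommRingCat.of k)))] [IsIntegral X] (hdim : topologicalKrullDim X = 2)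
    (r : ℕ) (hr : 0 < r) (C : Fin r → X.IdealSheafData) (hC : Function.Injective C)
    (hCi : ∀ i, IsIntegral (C i).subscheme) (hCd : ∀ i, topologicalKrullDim ((C i).support : Set X) = 1)
    (hconn : ∀ S : Finset (Fin r), S.Nonempty → Sᶜ.Nonempty →
      ∃ i ∈ S, ∃ j ∈ Sᶜ, FGA.intNum k X 2 ![(ClSub.idealMod (C i)), (ClSub.idealMod (C j))] (Coh.structureModule X) ≠ 0)
    (hneg : ∀ a : Fin r → ℤ, a ≠ 0 →
      ∑ i, ∑ j, a i * a j * FGA.intNum k X 2 ![(ClSub.idealMod (C i)), (ClSub.idealMod (C j))] (Coh.structureModule X) < 0)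
    (Z₀ : X.IdealSheafData) (hZ₀ : FGA.IsEffCartier Z₀) (hZ₀0 : Z₀ ≠ ⊤)
    (hZ₀s : (Z₀.support : Set X) ⊆ ⋃ i, ((C i).support : Set X))
    (hZ₀C : ∀ i, 0 ≤ Curv2.euler k X (CohB1.tensorMod (ClSub.quotMod (C i)) (ClSub.idealMod Z₀)) -
      Curv2.euler k X (ClSub.quotMod (C i)))
    (hZ₀min : ∀ Z : X.IdealSheafData, FGA.IsEffCartier Z → Z ≠ ⊤ → (Z.support : Set X) ⊆ ⋃ i, ((C i).support : Set X) →
      (∀ i, 0 ≤ Curv2.euler k X (CohB1.tensorMod (ClSub.quotMod (C i)) (ClSub.idealMod Z)) -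
        Curv2.euler k X (ClSub.quotMod (C i))) → Z ≤ Z₀)
    (hrat : ∀ Z : X.IdealSheafData, FGA.IsEffCartier Z → Z ≠ ⊤ → (Z.support : Set X) ⊆ ⋃ i, ((C i).support : Set X) →
      Subsingleton (Coh.HH X (ClSub.quotMod Z) 1))
    (N : ℕ) :
    Subsingleton (Coh.HH X (CohB1.tensorMod (ClSub.quotMod Z₀) (CohB1.tensorPow (ClSub.idealMod Z₀) N)) 1) ∧
      (Module.finrank k (Coh.HH X (CohB1.tensorMod (ClSub.quotMod Z₀) (CohB1.tensorPow (ClSub.idealMod Z₀) N)) 0) : ℤ) =
        -(N : ℤ) * FGA.intNum k X 2 ![(ClSub.idealMod Z₀), (ClSub.idealMod Z₀)] (Coh.structureModule X) + 1 := by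
  open Groth.Agent in
  open Groth.Agent.SurfInt in
  have hreg := isRegular_of_smooth k (X := X)
  have hd := hdim.le
  haveI := noeth k (X := X)
  have hZe : BlowUp.IsEffCartierIdeal Z₀ := hZ₀
  have iZ := ArSurfX.isInvertible_idealMod hZe
  have iN := H23.PicMul.isInvertible_tensorPow iZ N
  have hnef : ∀ i, 0 ≤ degOn k (ClSub.quotMod (C i)) (ClSub.idealMod Z₀) := hZ₀C
  have hfac : ∀ Z' J : X.IdealSheafData, BlowUp.IsEffCartierIdeal Z' → BlowUp.IsEffCartierIdeal J → Z' ≠ ⊤ →
      Z₀ = Z' * J → Subsingleton (Coh.HH X (ClSub.quotMod Z') 1) := fun Z' J h1 _ h3 h4 =>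
    hrat Z' h1 h3 (Set.Subset.trans (Scheme.IdealSheafData.support_antitone (h4 ▸ mul_le_left' Z' J)) hZ₀s)
  have hnefN : ∀ D : X.IdealSheafData, IsIntegral D.subscheme → topologicalKrullDim (D.support : Set X) = 1 →
      Z₀ ≤ D → 0 ≤ degOn k (ClSub.quotMod D) (CohB1.tensorPow (ClSub.idealMod Z₀) N) := fun D hDi hD hle => by
    haveI := hDi
    obtain ⟨i, hi⟩ := Set.mem_iUnion.1 (hZ₀s ((le_curve_iff D).1 hle))
    haveI := hCi i
    have hDC : D = C i := by
      by_contra h
      exact genC_notMem k hD (hCd i) h hi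
    rw [degOn_tensorPow k (isCoh_quotMod k D) (dim_support_quot_curve hD) iZ]
    exact mul_nonneg (Int.natCast_nonneg _) (hDC ▸ hnef i)
  haveI h1 := subsingleton_h1_nef k hdim hreg hZe hfac iN hnefN
  refine ⟨h1, ?_⟩
  have hdZ := dim_support_effCartier k hdim hZe
  haveI := hrat Z₀ hZ₀ hZ₀0 hZ₀s
  have hle := h0_fundamental_le_one k hdim hreg C hCi hCd hZe hZ₀0 hZ₀s hnef hZ₀min
  have hpos := h0_quot_pos k hdim hreg hZe hZ₀0
  have hO := euler_quot_eq k hdZ
  rw [Module.finrank_zero_of_subsingleton (M := Coh.HH X (ClSub.quotMod Z₀) 1)] at hO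
  have ht := euler_twist_eq k hdZ iN
  rw [Module.finrank_zero_of_subsingleton
    (M := Coh.HH X (CohB1.tensorMod (ClSub.quotMod Z₀) (CohB1.tensorPow (ClSub.idealMod Z₀) N)) 1)] at ht
  have hdeg := degOn_tensorPow k (isCoh_quotMod k Z₀) (dim_support_quotMod (n := 1) hdZ) iZ N
  show _ = -(N : ℤ) * dot k (ClSub.idealMod Z₀) (ClSub.idealMod Z₀) + 1
  rw [dot_ideal_left k hd Z₀ iZ iZ, neg_mul_neg, ← hdeg, degOn]
  omega

end Groth.Agent.S18461
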