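import Groth.Statements.S18462
import Groth.Agent.SurfInt.NegDef

set_option autoImplicit false
set_option linter.style.haveILetI false
set_option linter.unusedSectionVars false
set_option backward.isDefEq.respectTransparency false
set_option backward.isDefEq.respectTransparency.types false
universe u
open CategoryTheory CategoryTheory.Limits AlgebraicGeometry TopologicalSpace
open Surf

namespace Groth.Agent.S18462

/-- Let k be an algebraically closed field of characteristic zero and X a smooth projective surface over
k (integral, proper and smooth over k, of dimension 2, carrying an ample invertible module). Let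
C_1, …, C_r be pairwise distinct integral curves on X with ideal sheaves I_i and negative definite
intersection matrix (Σ_{i,j} a_i a_j (I_i·I_j) < 0 for every nonzero integer vector a, where (A·B) =
χ(O_X) − χ(A) − χ(B) + χ(A ⊗ B)), let F be an effective Cartier divisor on X, with ideal I_F, none
of whose components is a C_i, and let s_1, …, s_r be integers such that the divisor class F + Σ_i
s_i C_i is orthogonal to every C_j, that is (F·C_j) + Σ_i s_i (C_i·C_j) = 0, written here as
deg(I_F|_{C_j}) = χ(O_{C_j} ⊗ I_F) − χ(O_{C_j}) = Σ_i s_i (I_i·I_j) for every j. Then all the s_i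
are nonnegative. The published statement allows real coefficients s_i; this row takes integer
coefficients. Its second assertion, that s_i > 0 on every connected group of the C_i one of which
meets F positively, is not restated. -/
theorem result (k : Type u) [Field k] [IsAlgClosed k] [CharZero k]
    (X : Scheme.{u}) [X.Over (Spec (CommRingCat.of k))] [IsProper (X ↘ (Spec (CommRingCat.of k)))]
    [Smooth (X ↘ (Spec (CommRingCat.of k)))] [IsIntegral X] (hdim : topologicalKrullDim X = 2)
    (hproj : ∃ H : X.Modules, CohB1.IsAmple H)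
    (r : ℕ) (C : Fin r → X.IdealSheafData) (hC : Function.Injective C)
    (hCi : ∀ i, IsIntegral (C i).subscheme) (hCd : ∀ i, topologicalKrullDim ((C i).support : Set X) = 1)
    (hneg : ∀ a : Fin r → ℤ, a ≠ 0 →
      ∑ i, ∑ j, a i * a j * FGA.intNum k X 2 ![(ClSub.idealMod (C i)), (ClSub.idealMod (C j))] (Coh.structureModule X) < 0)
    (F : X.IdealSheafData) (hF : FGA.IsEffCartier F) (hFC : ∀ i, ¬ ((C i).support : Set X) ⊆ (F.support : Set X))
    (s : Fin r → ℤ)
    (horth : ∀ j, Curv2.euler k X (CohB1.tensorMod (ClSub.quotMod (C j)) (ClSub.idealMod F)) - Curv2.euler k X (ClSub.quotMod (C j)) =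
      ∑ i, s i * FGA.intNum k X 2 ![(ClSub.idealMod (C i)), (ClSub.idealMod (C j))] (Coh.structureModule X)) :
    ∀ i, 0 ≤ s i := by
  haveI := AlgebraicGeometry.IsProper.toLocallyOfFiniteType (f := X ↘ (Spec (CommRingCat.of k)))
  have hreg : ∀ x : X, IsRegularLocalRing (X.presheaf.stalk x) := Groth.Agent.SurfInt.isRegular_of_smooth k
  let G : Fin r → Fin r → ℤ := fun i j =>
    FGA.intNum k X 2 ![(ClSub.idealMod (C i)), (ClSub.idealMod (C j))] (Coh.structureModule X)
  let p := Groth.Agent.SurfInt.pp s
  let n := Groth.Agent.SurfInt.np s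
  have h1 : Groth.Agent.SurfInt.mform G s n ≤ 0 := by
    rw [Groth.Agent.SurfInt.mform, Finset.sum_comm]
    refine Finset.sum_nonpos fun j _ => ?_
    have hj : ∑ i, s i * n j * G i j = n j * ∑ i, s i * G i j := by
      rw [Finset.mul_sum]; exact Finset.sum_congr rfl fun i _ => by ring
    rw [hj]
    refine mul_nonpos_of_nonneg_of_nonpos (Groth.Agent.SurfInt.np_nonneg s j) ?_
    rw [← horth j]
    have hI := Groth.Agent.SurfInt.isInvertible_of_effCartier hF
    haveI := hCi j
    have hIj := Groth.Agent.SurfInt.isInvertible_curve k hdim hreg (C j) (hCd j)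
    have hd := Groth.Agent.SurfInt.dot_curve_effCartier_nonneg k hdim hreg C hCi hCd hF j (hFC j)
    rw [Groth.Agent.SurfInt.dot_ideal_left k hdim.le (C j) hIj hI, Groth.Agent.SurfInt.degOn] at hd
    omega
  have h2 : 0 ≤ Groth.Agent.SurfInt.mform G p n :=
    Groth.Agent.SurfInt.mform_nonneg_of_disjoint G
      (Groth.Agent.SurfInt.dot_curves_nonneg k hdim hreg C hCi hCd hC)
      (Groth.Agent.SurfInt.pp_nonneg s) (Groth.Agent.SurfInt.np_nonneg s) (Groth.Agent.SurfInt.pp_mul_np s)
  rw [← Groth.Agent.SurfInt.pp_sub_np s, Groth.Agent.SurfInt.mform_sub_left] at h1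
  intro i
  by_contra hi
  have hn : n ≠ 0 := fun h => by
    have := congrFun h i
    simp only [n, Groth.Agent.SurfInt.np, Pi.zero_apply] at this
    omega
  have h3 : Groth.Agent.SurfInt.mform G n n < 0 := hneg n hn
  change Groth.Agent.SurfInt.mform G p n - Groth.Agent.SurfInt.mform G n n ≤ 0 at h1
  omega

end Groth.Agent.S18462
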