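import Groth.Statements.S18463
import Groth.Agent.SurfInt.NegDef

set_option autoImplicit false
set_option linter.style.haveILetI false
set_option linter.unusedSectionVars false
set_option backward.isDefEq.respectTransparency false
set_option backward.isDefEq.respectTransparency.types false
universe u
open CategoryTheory CategoryTheory.Limits AlgebraicGeometry TopologicalSpace
open Surf

namespace Groth.Agent.S18463

/-- Let k be an algebraically closed field of characteristic zero and X a smooth projective surface over
k (integral, proper and smooth over k, of dimension 2, carrying an ample invertible module). Let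
C_1, …, C_r be pairwise distinct integral curves on X with ideal sheaves I_i and negative definite
intersection matrix (Σ_{i,j} a_i a_j (I_i·I_j) < 0 for every nonzero integer vector a, where (A·B) =
χ(O_X) − χ(A) − χ(B) + χ(A ⊗ B)), let F be an effective Cartier divisor on X, with ideal I_F, none
of whose components is a C_i, and let s_1, …, s_r be integers such that F is numerically equivalent
to Σ_i s_i C_i: (I_F·M) = Σ_i s_i (I_i·M) for every invertible O_X-module M (equivalently (F·D) = Σ
s_i (C_i·D) for every divisor D). Then F = 0, i.e. I_F = O_X, and every s_i is 0. The published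
statement writes the hypothesis as [F] + Σ s_i[C_i] = 0 with real s_i; this row writes F ≡ Σ s_i C_i
with integer s_i, which is the same after changing the signs of the s_i. -/
theorem result (k : Type u) [Field k] [IsAlgClosed k] [CharZero k]
    (X : Scheme.{u}) [X.Over (Spec (CommRingCat.of k))] [IsProper (X ↘ (Spec (CommRingCat.of k)))]
    [Smooth (X ↘ (Spec (CommRingCat.of k)))] [IsIntegral X] (hdim : topologicalKrullDim X = 2)
    (hproj : ∃ H : X.Modules, CohB1.IsAmple H)
    (r : ℕ) (C : Fin r → X.IdealSheafData) (hC : Function.Injective C)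
    (hCi : ∀ i, IsIntegral (C i).subscheme) (hCd : ∀ i, topologicalKrullDim ((C i).support : Set X) = 1)
    (hneg : ∀ a : Fin r → ℤ, a ≠ 0 →
      ∑ i, ∑ j, a i * a j * FGA.intNum k X 2 ![(ClSub.idealMod (C i)), (ClSub.idealMod (C j))] (Coh.structureModule X) < 0)
    (F : X.IdealSheafData) (hF : FGA.IsEffCartier F) (hFC : ∀ i, ¬ ((C i).support : Set X) ⊆ (F.support : Set X))
    (s : Fin r → ℤ)
    (hnum : ∀ M : X.Modules, PicF.IsInvertible M →
      FGA.intNum k X 2 ![(ClSub.idealMod F), M] (Coh.structureModule X) =
        ∑ i, s i * FGA.intNum k X 2 ![(ClSub.idealMod (C i)), M] (Coh.structureModule X)) :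
    F = ⊤ ∧ ∀ i, s i = 0 := by
  haveI := AlgebraicGeometry.IsProper.toLocallyOfFiniteType (f := X ↘ (Spec (CommRingCat.of k)))
  obtain ⟨H, hH⟩ := hproj
  have hreg : ∀ x : X, IsRegularLocalRing (X.presheaf.stalk x) := Groth.Agent.SurfInt.isRegular_of_smooth k
  let G : Fin r → Fin r → ℤ := fun i j =>
    FGA.intNum k X 2 ![(ClSub.idealMod (C i)), (ClSub.idealMod (C j))] (Coh.structureModule X)
  let p := Groth.Agent.SurfInt.pp s
  let n := Groth.Agent.SurfInt.np s
  have hI := Groth.Agent.SurfInt.isInvertible_of_effCartier hF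
  have hinv : ∀ j, PicF.IsInvertible (ClSub.idealMod (C j)) := fun j => by
    haveI := hCi j
    exact Groth.Agent.SurfInt.isInvertible_curve k hdim hreg (C j) (hCd j)
  have h1 : 0 ≤ Groth.Agent.SurfInt.mform G s p := by
    rw [Groth.Agent.SurfInt.mform, Finset.sum_comm]
    refine Finset.sum_nonneg fun j _ => ?_
    have hj : ∑ i, s i * p j * G i j = p j * ∑ i, s i * G i j := by
      rw [Finset.mul_sum]; exact Finset.sum_congr rfl fun i _ => by ring
    rw [hj]
    refine mul_nonneg (Groth.Agent.SurfInt.pp_nonneg s j) ?_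
    rw [← hnum _ (hinv j)]
    show 0 ≤ Groth.Agent.SurfInt.dot k (ClSub.idealMod F) (ClSub.idealMod (C j))
    rw [Groth.Agent.SurfInt.dot_comm k hdim.le hI (hinv j)]
    exact Groth.Agent.SurfInt.dot_curve_effCartier_nonneg k hdim hreg C hCi hCd hF j (hFC j)
  have h2 : 0 ≤ Groth.Agent.SurfInt.mform G n p :=
    Groth.Agent.SurfInt.mform_nonneg_of_disjoint G
      (Groth.Agent.SurfInt.dot_curves_nonneg k hdim hreg C hCi hCd hC)
      (Groth.Agent.SurfInt.np_nonneg s) (Groth.Agent.SurfInt.pp_nonneg s)
      (fun i => by rw [mul_comm]; exact Groth.Agent.SurfInt.pp_mul_np s i)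
  rw [← Groth.Agent.SurfInt.pp_sub_np s, Groth.Agent.SurfInt.mform_sub_left] at h1
  change 0 ≤ Groth.Agent.SurfInt.mform G p p - Groth.Agent.SurfInt.mform G n p at h1
  have hp : p = 0 := by
    by_contra hp
    have h3 : Groth.Agent.SurfInt.mform G p p < 0 := hneg p hp
    omega
  have hsn : ∀ i, s i = - n i := fun i => by
    have h := congrFun (Groth.Agent.SurfInt.pp_sub_np s) i
    have h0 := congrFun hp i
    simp only [Pi.sub_apply, Pi.zero_apply, p, n] at h h0 ⊢
    omega
  have hsum : Groth.Agent.SurfInt.dot k (ClSub.idealMod F) H =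
      - ∑ i, n i * Groth.Agent.SurfInt.dot k (ClSub.idealMod (C i)) H := by
    show FGA.intNum k X 2 ![(ClSub.idealMod F), H] (Coh.structureModule X) = _
    rw [hnum H hH.1, ← Finset.sum_neg_distrib]
    exact Finset.sum_congr rfl fun i _ => by rw [hsn i, neg_mul]
  rw [Groth.Agent.SurfInt.dot_ideal_left k hdim.le F hI hH.1] at hsum
  have hn : n = 0 := by
    by_contra hn
    have h3 := Groth.Agent.SurfInt.sum_mul_dot_neg k hdim hreg C hCi hCd hH (Groth.Agent.SurfInt.np_nonneg s) hn
    have h4 := Groth.Agent.SurfInt.degOn_ample_nonneg k (Groth.Agent.SurfInt.isCoh_quotMod k F)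
      (Groth.Agent.SurfInt.dim_support_quotMod (n := 1) (Groth.Agent.SurfInt.dim_support_effCartier k hdim hF)) hH
    change - Groth.Agent.SurfInt.degOn k (ClSub.quotMod F) H = _ at hsum
    change ∑ i, n i * _ < 0 at h3
    omega
  refine ⟨?_, fun i => by rw [hsn i, congrFun hn i]; rfl⟩
  by_contra hne
  have h5 := Groth.Agent.SurfInt.degOn_effCartier_ample_pos k hdim hF hne hH
  have h6 : ∀ i, n i = 0 := fun i => congrFun hn i
  simp only [h6, zero_mul, Finset.sum_const_zero, neg_zero] at hsum
  omega

end Groth.Agent.S18463
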