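import Groth.Statements.S18493
import Groth.Agent.NeronMdl58.Isogeny
import Groth.Agent.NeronMdl58.AffineQF
import Groth.Agent.H23.KerIsog

set_option autoImplicit false
universe u
open CategoryTheory CategoryTheory.Limits AlgebraicGeometry MonObj
open Neron

namespace Groth.Agent.S18493

/-- Let R be a Dedekind domain with fraction field K, let A and B be group schemes over Spec R which are
Néron models of their generic fibres, both abelian varieties over K (proper and geometrically
integral), let φ : A → B be a homomorphism whose generic fibre is an isogeny (surjective with finite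
kernel), and let i : N → A be a kernel of φ (cartesian square against the unit section of B). If φ
is flat, then N → Spec R is locally quasi-finite, of finite type, flat and affine; if moreover A is
proper over Spec R then N → Spec R is finite. -/
theorem result (R : Type u) [CommRing R]
    [IsDedekindDomain R] (A B : Over (Spec (CommRingCat.of R))) [GrpObj A] [GrpObj B]
    (hA : Neron.IsNeronModelOf R A ((Neron.genericFibre R).obj A) (Iso.refl _))
    (hB : Neron.IsNeronModelOf R B ((Neron.genericFibre R).obj B) (Iso.refl _))
    [IsProper ((Neron.genericFibre R).obj A).hom] [GeometricallyIntegral ((Neron.genericFibre R).obj A).hom]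
    [IsProper ((Neron.genericFibre R).obj B).hom] [GeometricallyIntegral ((Neron.genericFibre R).obj B).hom]
    (φ : A ⟶ B) [IsMonHom φ] (hφ : SGA7.IsIsogenyOver ((Neron.genericFibre R).map φ)) [Flat φ.left]
    (N : Over (Spec (CommRingCat.of R))) (i : N ⟶ A) (hN : AlgGrp.IsKernel i φ) :
    (LocallyQuasiFinite N.hom ∧ QuasiCompact N.hom ∧ Flat N.hom ∧ IsAffineHom N.hom) ∧
    (IsProper A.hom → IsFinite N.hom) := by
  obtain ⟨h1, h2, h3, h4, -⟩ := hA
  obtain ⟨g1, g2, g3, g4, -⟩ := hB
  haveI := Groth.Agent.NeronMdl58.locallyOfFiniteType_left φ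
  haveI := Groth.Agent.NeronMdl58.quasiCompact_left φ
  haveI : LocallyQuasiFinite φ.left := (Groth.Agent.NeronMdl58.locallyQuasiFinite_iff_flat φ hφ).2 inferInstance
  haveI : IsSeparated φ.left := by
    haveI : IsSeparated (φ.left ≫ B.hom) := by rw [Over.w φ]; infer_instance
    exact IsSeparated.of_comp φ.left B.hom
  haveI q1 : LocallyQuasiFinite N.hom :=
    Groth.Agent.H23.KerIsog.prop_ker i φ @LocallyQuasiFinite hN inferInstance
  haveI q2 : QuasiCompact N.hom := Groth.Agent.H23.KerIsog.prop_ker i φ @QuasiCompact hN inferInstance
  haveI q3 : Flat N.hom := Groth.Agent.H23.KerIsog.prop_ker i φ @Flat hN inferInstance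
  haveI : LocallyOfFiniteType N.hom :=
    Groth.Agent.H23.KerIsog.prop_ker i φ @LocallyOfFiniteType hN inferInstance
  haveI : IsSeparated N.hom := Groth.Agent.H23.KerIsog.prop_ker i φ @IsSeparated hN inferInstance
  refine ⟨⟨q1, q2, q3, Groth.Agent.NeronMdl58.isAffineHom_of_qf N.hom⟩, fun _ => ?_⟩
  haveI : IsClosedImmersion (η[B]).left := Groth.Agent.NeronMdl58.isClosedImmersion_one B
  haveI : IsClosedImmersion i.left :=
    MorphismProperty.of_isPullback (P := @IsClosedImmersion) (hN.map (Over.forget _)).flip ‹IsClosedImmersion (η[B]).left›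
  haveI : IsProper N.hom := by rw [← Over.w i]; infer_instance
  exact IsFinite.of_isProper_of_locallyQuasiFinite _

end Groth.Agent.S18493
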