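import Groth.Statements.S18497
import Groth.Agent.NeronMdl58.EtaleNeron
import Groth.Agent.UnramMisc.QFSmooth

set_option autoImplicit false
universe u
open CategoryTheory CategoryTheory.Limits AlgebraicGeometry MonObj
open Neron

namespace Groth.Agent.S18497

/-- Let R be a Dedekind domain with fraction field K and G a finite étale group scheme over K. Then G
has a Néron model over Spec R which is separated, quasi-finite and étale: there are a Spec R-scheme
N and an isomorphism e of its generic fibre N_K with G such that N is smooth, separated and of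
finite type over Spec R with the Néron mapping property (for every smooth Spec R-scheme Y, g ↦ e ∘
g_K is a bijection from R-morphisms Y → N onto K-morphisms Y_K → G), and N → Spec R is étale and
locally quasi-finite. -/
theorem result (R : Type u) [CommRing R] [IsDedekindDomain R]
    (G : Over (Spec (CommRingCat.of (FractionRing R)))) [GrpObj G] [IsFinite G.hom] [Etale G.hom] :
    ∃ (N : Over (Spec (CommRingCat.of R))) (e : (Neron.genericFibre R).obj N ≅ G),
      Neron.IsNeronModelOf R N G e ∧ Etale N.hom ∧ LocallyQuasiFinite N.hom := by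
  obtain ⟨T, π, j, hfin, hT, hpb, hsm⟩ := NeronMdl58.EtaleNeron.exists_model R G
  haveI : IsPreimmersion (Neron.genPt R) := IsPreimmersion.of_isLocalization (nonZeroDivisors R)
  haveI : LocallyOfFinitePresentation π := inferInstance
  haveI : IsLocallyNoetherian T := LocallyOfFiniteType.isLocallyNoetherian π
  haveI : CompactSpace T := QuasiCompact.compactSpace_of_compactSpace π
  haveI : AlgebraicGeometry.IsNoetherian T := {}
  let W := π.smoothLocus
  let N : Over (Spec (CommRingCat.of R)) := Over.mk (W.ι ≫ π)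
  let jW : G.left ⟶ W.toScheme := IsOpenImmersion.lift W.ι j (by
    rw [Scheme.Opens.range_ι]; rintro _ ⟨a, rfl⟩; exact hsm a)
  have hjW : jW ≫ W.ι = j := IsOpenImmersion.lift_fac _ _ _
  let u : ((Neron.genericFibre R).obj N).left ⟶ G.left :=
    hpb.lift (Limits.pullback.fst N.hom (Neron.genPt R) ≫ W.ι) (Limits.pullback.snd N.hom (Neron.genPt R))
      (by rw [Category.assoc]; exact Limits.pullback.condition)
  let v : G.left ⟶ ((Neron.genericFibre R).obj N).left :=
    Limits.pullback.lift jW G.hom (by show jW ≫ W.ι ≫ π = _; rw [reassoc_of% hjW, hpb.w])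
  have huv : u ≫ v = 𝟙 _ := by
    apply Limits.pullback.hom_ext
    · rw [Category.assoc, Limits.pullback.lift_fst, Category.id_comp, ← cancel_mono W.ι, Category.assoc, hjW,
        hpb.lift_fst]
    · rw [Category.assoc, Limits.pullback.lift_snd, Category.id_comp, hpb.lift_snd]
  have hvu : v ≫ u = 𝟙 _ := by
    apply hpb.hom_ext
    · rw [Category.assoc, hpb.lift_fst, Limits.pullback.lift_fst_assoc, hjW, Category.id_comp]
    · rw [Category.assoc, hpb.lift_snd, Category.id_comp]
      exact Limits.pullback.lift_snd _ _ _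
  let e : (Neron.genericFibre R).obj N ≅ G := Over.isoMk ⟨u, v, huv, hvu⟩ (hpb.lift_snd _ _ _)
  haveI : Smooth (W.ι ≫ π) := by
    rw [← Scheme.Hom.smoothLocus_eq_top_iff, ← Scheme.Hom.preimage_smoothLocus_eq]
    exact eq_top_iff.2 fun w _ => w.2
  haveI : LocallyQuasiFinite N.hom := inferInstanceAs (LocallyQuasiFinite (W.ι ≫ π))
  haveI hNs : Smooth N.hom := ‹Smooth (W.ι ≫ π)›
  haveI hsep : IsSeparated N.hom := inferInstanceAs (IsSeparated (W.ι ≫ π))
  refine ⟨N, e, ⟨hNs, hsep, inferInstance, inferInstanceAs (QuasiCompact (W.ι ≫ π)), fun Y hY => ?_⟩,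
    Groth.Agent.UnramMisc.etale_of_smooth_of_locallyQuasiFinite N.hom, inferInstance⟩
  have hR : Pi1.IsNormalScheme (Spec (CommRingCat.of R)) :=
    NeronMdl58.NormalizationNormal.isNormalScheme_spec R
  have hYn := NeronMdl58.NormalImm.isNormalScheme_of_smooth Y.hom hR
  haveI : IsReduced Y.left := HTopAwn.isReduced_of_isNormal hYn
  haveI : IsDominant (Limits.pullback.fst Y.hom (Neron.genPt R)) :=
    ⟨NeronMdl58.denseRange_genericFibre_fst R Y⟩
  have hl : ∀ g : Y ⟶ N, ((Neron.genericFibre R).map g).left ≫ Limits.pullback.fst N.hom (Neron.genPt R)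
      = Limits.pullback.fst Y.hom (Neron.genPt R) ≫ g.left := fun g => Limits.pullback.lift_fst _ _ _
  refine ⟨fun g₁ g₂ h => ?_, fun ψ => ?_⟩
  · apply Over.OverMorphism.ext
    have h' : (Neron.genericFibre R).map g₁ = (Neron.genericFibre R).map g₂ := (cancel_mono e.hom).1 h
    refine ext_of_isDominant_of_isSeparated N.hom (by rw [Over.w, Over.w]) (Limits.pullback.fst Y.hom (Neron.genPt R)) ?_
    rw [← hl g₁, ← hl g₂, h']
  · let ψ' := ψ ≫ e.inv
    let a : Limits.pullback Y.hom (Neron.genPt R) ⟶ T :=
      ψ'.left ≫ Limits.pullback.fst N.hom (Neron.genPt R) ≫ W.ι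
    have ha : a ≫ π = Limits.pullback.fst Y.hom (Neron.genPt R) ≫ Y.hom := by
      simp only [a, Category.assoc]
      show ψ'.left ≫ Limits.pullback.fst N.hom (Neron.genPt R) ≫ N.hom = _
      rw [Limits.pullback.condition, Limits.pullback.condition]
      exact (Category.assoc _ _ _).symm.trans (congrArg (· ≫ Neron.genPt R) (Over.w ψ'))
    obtain ⟨g, hg, hga⟩ := NeronMdl58.EtaleNeron.exists_extension_genPt π Y.hom a ha
    have hr : Set.range g ⊆ Set.range W.ι := by
      rw [Scheme.Opens.range_ι]; rintro _ ⟨y, rfl⟩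
      exact NeronMdl58.SmoothLocusNMP.mem_smoothLocus_of_hom π Y.hom hT hYn g hg y
    let Gm : Y ⟶ N := Over.homMk (IsOpenImmersion.lift W.ι g hr) (by
      show _ ≫ W.ι ≫ π = Y.hom
      rw [IsOpenImmersion.lift_fac_assoc, hg])
    have key : (Neron.genericFibre R).map Gm = ψ' := by
      apply Over.OverMorphism.ext
      apply Limits.pullback.hom_ext
      · refine (hl Gm).trans ?_
        rw [← cancel_mono W.ι]
        simp only [Category.assoc]
        show Limits.pullback.fst Y.hom (Neron.genPt R) ≫ IsOpenImmersion.lift W.ι g hr ≫ W.ι = a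
        rw [IsOpenImmersion.lift_fac, hga]
      · exact (Over.w ((Neron.genericFibre R).map Gm)).trans (Over.w ψ').symm
    refine ⟨Gm, ?_⟩
    show (Neron.genericFibre R).map Gm ≫ e.hom = ψ
    rw [key, Category.assoc, Iso.inv_hom_id, Category.comp_id]

end Groth.Agent.S18497
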