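import Groth.Statements.S18519
import Groth.Agent.BrauerXDescent.Basic

set_option autoImplicit false
universe u
open scoped TensorProduct
open Brauer

namespace Groth.Agent.S18519

/-- For a field K with maximal abelian extension K_ab, cd(K_ab) ≤ 1 if and only if for every etale
K-algebra E the restriction map Br(E) ⟶ Br(E ⊗_K K_ab) is trivial; the same holds with the maximal
solvable extension. Stated here for an arbitrary separable algebraic extension F of K in place of
K_ab (the published lemma takes for F the maximal abelian or the maximal solvable extension of K;
this row allows any separable algebraic extension), with cd(F) ≤ 1 unfolded by the Brauer-group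
criterion (every finite separable extension of F has trivial Brauer group) and with etale algebras
replaced by their field factors: (a) every finite-dimensional central division algebra over a finite
separable extension F′ of F is F′ itself; if and only if (b) for every finite separable extension E
of K, every finite-dimensional central division algebra D over E and every field M containing E and
F compatibly over K, the base change M ⊗_E D is isomorphic over M to a matrix algebra over M. -/
theorem result
    (K F : Type u) [Field K] [Field F] [Algebra K F] [Algebra.IsSeparable K F] :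
    (∀ (F' : Type u) [Field F'] [Algebra F F'] [FiniteDimensional F F'] [Algebra.IsSeparable F F']
        (D : Type u) [DivisionRing D] [Algebra F' D] [Algebra.IsCentral F' D] [FiniteDimensional F' D],
        Module.finrank F' D = 1) ↔
    (∀ (E : Type u) [Field E] [Algebra K E] [FiniteDimensional K E] [Algebra.IsSeparable K E]
        (D : Type u) [DivisionRing D] [Algebra E D] [Algebra.IsCentral E D] [FiniteDimensional E D]
        (M : Type u) [Field M] [Algebra K M] [Algebra E M] [Algebra F M] [IsScalarTower K E M]
        [IsScalarTower K F M],
        ∃ n : ℕ, Nonempty ((M ⊗[E] D) ≃ₐ[M] Matrix (Fin n) (Fin n) M)) := by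
  classical
  constructor
  · intro h E _ _ _ _ D _ _ _ _ M _ _ _ _ _ _
    let S : Set M := Set.range fun i => algebraMap E M (Module.finBasis K E i)
    haveI : Finite S := Set.finite_range _
    have hsepK : ∀ x : E, IsSeparable K (algebraMap E M x) := fun x => by
      rw [IsSeparable, show algebraMap E M x = IsScalarTower.toAlgHom K E M x from rfl,
        minpoly.algHom_eq _ (algebraMap E M).injective]
      exact Algebra.IsSeparable.isSeparable K x
    have hsep : ∀ x ∈ S, IsSeparable F x := by
      rintro _ ⟨i, rfl⟩
      exact IsSeparable.tower_top F (hsepK _)
    let F' : IntermediateField F M := IntermediateField.adjoin F S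
    haveI : FiniteDimensional F F' :=
      IntermediateField.finiteDimensional_adjoin fun x hx => (hsep x hx).isIntegral
    haveI : Algebra.IsSeparable F F' := (IntermediateField.isSeparable_adjoin_iff_isSeparable F M).2 hsep
    have hE : ∀ x : E, algebraMap E M x ∈ F' := fun x => by
      rw [← (Module.finBasis K E).sum_repr x, map_sum]
      refine sum_mem fun i _ => ?_
      rw [Algebra.smul_def, map_mul, ← IsScalarTower.algebraMap_apply, IsScalarTower.algebraMap_apply K F M]
      exact mul_mem (F'.algebraMap_mem _) (IntermediateField.subset_adjoin F S ⟨i, rfl⟩)
    letI : Algebra E F' := ((algebraMap E M).codRestrict F'.toSubfield hE).toAlgebra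
    haveI : IsScalarTower E F' M := IsScalarTower.of_algebraMap_eq fun _ => rfl
    haveI := Groth.Agent.CSALib.isCentral_baseChange E D F'
    haveI := Groth.Agent.CSALib.isSimpleRing_baseChange E D F'
    obtain ⟨n, hn, D', _, _, _, _, ⟨e⟩⟩ := Groth.Agent.CSALib.exists_division F' (F' ⊗[E] D)
    have h1 : Module.finrank F' D' = 1 := h F' D'
    have hbot := Subalgebra.bot_eq_top_of_finrank_eq_one h1
    let g : D' ≃ₐ[F'] F' := (AlgEquiv.ofBijective (Algebra.ofId F' D')
      ⟨(algebraMap F' D').injective, fun d => Algebra.mem_bot.1
        (hbot.symm ▸ (Algebra.mem_top : d ∈ (⊤ : Subalgebra F' D')))⟩).symm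
    exact ⟨n, ⟨Groth.Agent.CSALib.splitTrans (k := E) (A := D) (K := F') M (e.trans g.mapMatrix)⟩⟩
  · intro h F' _ _ _ _ D _ _ _ _
    letI : Algebra K F' := Algebra.compHom F' (algebraMap K F)
    haveI : IsScalarTower K F F' := IsScalarTower.of_algebraMap_eq fun _ => rfl
    haveI : Algebra.IsSeparable K F' := Algebra.IsSeparable.trans K F F'
    obtain ⟨E, _, D₀, _, _, _, _, ⟨e⟩⟩ := Groth.Agent.BrauerXDescent.exists_descent (K := K) (L := F') D
    haveI : Algebra.IsSeparable K E := Algebra.isSeparable_tower_bot_of_isSeparable K E F'
    obtain ⟨n, ⟨f⟩⟩ := h E D₀ F'
    have e' := e.symm.trans f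
    rcases Nat.lt_or_ge n 2 with hn | hn
    · rw [e'.toLinearEquiv.finrank_eq]
      interval_cases n
      · haveI : Subsingleton D := e'.toEquiv.subsingleton
        exact absurd (Subsingleton.elim (1 : D) 0) one_ne_zero
      · rw [Module.finrank_matrix]; simp
    · exfalso
      let i : Fin n := ⟨0, by omega⟩
      let j : Fin n := ⟨1, by omega⟩
      have hij : j ≠ i := fun hh => by simp [i, j] at hh
      have hm : Matrix.single i j (1 : F') * Matrix.single i j (1 : F') = 0 :=
        Matrix.single_mul_single_of_ne _ _ _ _ hij _
      have : e'.symm (Matrix.single i j (1 : F')) = 0 := by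
        have := congrArg e'.symm hm
        rwa [map_mul, map_zero, mul_self_eq_zero] at this
      have h2 := congrArg e' this
      rw [e'.apply_symm_apply, map_zero] at h2
      simpa using congrFun (congrFun h2 i) j

end Groth.Agent.S18519
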