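import Groth.Statements.S18538
-- import your own Groth.Agent.* helpers here

set_option autoImplicit false
universe u
open EtAlg

open scoped TensorProduct

namespace Groth.Agent.S18538

/-- Let A ⊆ B be an injective finite extension of integrally closed domains, with fraction fields K ⊆ L
and L separable over K. Then A → B → B ⊗_A B is exact, the second map being b ↦ b ⊗ 1 - 1 ⊗ b: every
element of B whose two images in B ⊗_A B agree comes from A. -/
theorem result
    (A B K L : Type u) [CommRing A] [CommRing B] [IsDomain A] [IsDomain B]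
    [IsIntegrallyClosed A] [IsIntegrallyClosed B] [Algebra A B] [FaithfulSMul A B] [Module.Finite A B]
    [Field K] [Field L] [Algebra A K] [IsFractionRing A K] [Algebra B L] [IsFractionRing B L]
    [Algebra K L] [Algebra A L] [IsScalarTower A K L] [IsScalarTower A B L]
    [Algebra.IsSeparable K L] :
    Algebra.IsEffective A B := by
  classical
  intro b
  refine ⟨fun hb => ?_, fun ⟨a, ha⟩ => ha ▸ Algebra.TensorProduct.includeLeftSubRight_algebraMap_zero a⟩
  let f : B →ₐ[A] L := IsScalarTower.toAlgHom A B L
  let l : B →ₐ[A] L ⊗[K] L :=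
    ((Algebra.TensorProduct.includeLeft : L →ₐ[K] L ⊗[K] L).restrictScalars A).comp f
  let r : B →ₐ[A] L ⊗[K] L :=
    ((Algebra.TensorProduct.includeRight : L →ₐ[K] L ⊗[K] L).restrictScalars A).comp f
  have h := congrArg (Algebra.TensorProduct.lift l r fun _ _ => Commute.all _ _) hb
  rw [map_zero, Algebra.TensorProduct.includeLeftSubRight_apply, map_sub, Algebra.TensorProduct.lift_tmul,
    Algebra.TensorProduct.lift_tmul, map_one, map_one, mul_one, one_mul, sub_eq_zero] at h
  have h2 : Algebra.TensorProduct.includeLeftSubRight K L (algebraMap B L b) = 0 := by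
    rw [Algebra.TensorProduct.includeLeftSubRight_apply, sub_eq_zero]
    exact h
  obtain ⟨k, hk⟩ := ((Algebra.IsEffective.of_faithfullyFlat K (S := L)) (algebraMap B L b)).1 h2
  rw [Algebra.linearMap_apply] at hk
  have hint : IsIntegral A k := by
    rw [← isIntegral_algebraMap_iff (A := K) (B := L) (algebraMap K L).injective, hk]
    exact (Algebra.IsIntegral.isIntegral b).algebraMap
  obtain ⟨a, rfl⟩ := IsIntegrallyClosed.isIntegral_iff.1 hint
  refine ⟨a, IsFractionRing.injective B L ?_⟩
  rw [Algebra.linearMap_apply, ← hk, ← IsScalarTower.algebraMap_apply, ← IsScalarTower.algebraMap_apply]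

end Groth.Agent.S18538
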