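import Groth.Statements.S18555
import Groth.Agent.H44AS.Semilinear
import Groth.Agent.H44AS.Semi
import Groth.Agent.H44AS.Fixed
import Groth.Agent.CurveCohLib.Proper
import Groth.Agent.QCoh.DevissageP

set_option autoImplicit false
universe u
open FrobSch

namespace Groth.Agent.S18555

open AlgebraicGeometry CategoryTheory in
/-- Let k be an algebraically closed field of characteristic p > 0 and X a connected proper k-scheme
with trivial étale fundamental group, in the sense that every finite étale cover of X is a finite
disjoint union of copies of X. Then the pull-back by the absolute Frobenius, i.e. the additive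
endomorphism of H^1(X, O_X) induced by the p-th power map of the structure sheaf, is nilpotent: some
positive power of it vanishes. (The published setting has X smooth and projective over k; the
argument given uses only that X is proper and connected.) -/
theorem result
    (p : ℕ) [Fact p.Prime] (k : Type u) [Field k] [IsAlgClosed k] [CharP k p]
    (X : Scheme.{u}) [X.Over (Spec (CommRingCat.of k))] [IsProper (X ↘ Spec (CommRingCat.of k))]
    [ConnectedSpace X] [FrobSch.IsCharP X p]
    (hπ : ∀ Y : FEt.Cat X, Pi1.IsSplit Y) :
    ∃ b : ℕ, 0 < b ∧ ∀ x : Coh.HH X (Coh.structureModule X) 1,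
      (W4c5isocrystsimpconn.frobH X p 1)^[b] x = 0 := by
  haveI : Module.Finite k (Coh.HH X (Coh.structureModule X) 1) :=
    haveI : IsLocallyNoetherian X := LocallyOfFiniteType.isLocallyNoetherian (X ↘ Spec (CommRingCat.of k))
    Groth.Agent.CurveCohLib.finite_HH Groth.Agent.QCoh.isCoh_structureModule' 1
  haveI : X.IsSeparated := by
    rw [Scheme.isSeparated_iff, show Limits.terminal.from X =
      (X ↘ Spec (CommRingCat.of k)) ≫ Limits.terminal.from _ from Limits.terminal.hom_ext _ _]
    infer_instance
  by_contra hcon
  push Not at hcon
  obtain ⟨v, hv, hfix⟩ := H44AS.exists_fixed_of_not_nilpotent p (W4c5isocrystsimpconn.frobH X p 1)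
    (H44AS.frobH_smul X p k 1) (fun b => by
      obtain ⟨x, hx⟩ := hcon (b + 1) b.succ_pos
      exact ⟨_, fun h => hx (by rw [Function.iterate_succ_apply', h, map_zero])⟩)
  exact hv (H44AS.fixed_eq_zero X p hπ v hfix)

end Groth.Agent.S18555
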