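import Groth.Statements.S18596
import Groth.Agent.EtRam46.Hom
import Groth.Agent.MorLib.GeomFibre
import Mathlib.AlgebraicGeometry.ValuativeCriterion
import Mathlib.AlgebraicGeometry.Morphisms.Finite
import Mathlib.AlgebraicGeometry.Morphisms.Etale

set_option autoImplicit false
universe u
open EtRam

namespace Groth.Agent.S18596

open AlgebraicGeometry CategoryTheory in
/-- Let k be a perfect field, X a k-scheme proper over k and f : Y ⟶ X finite étale. Curve-tameness of f
asks that the pullback of f to any regular k-curve mapping to X be tamely ramified at every place of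
the curve's function field at infinity; proper targets make every finite étale cover curve-tame.
Stated here unfolded at a single place, in the form the argument yields: for every point y of Y with
image x, and every discrete valuation ring A of the residue field κ(x) through which Spec κ(x) ⟶
Spec k factors, the finite separable extension κ(y) of κ(x) is tamely ramified with respect to A. -/
theorem result
    (k : Type u) [Field k] [PerfectField k] {X Y : Scheme.{u}} (s : X ⟶ Spec (CommRingCat.of k))
    [IsProper s] (f : Y ⟶ X) [IsFinite f] [Etale f] (y : Y)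
    (A : ValuationSubring (X.residueField (f.base y))) [IsDiscreteValuationRing A]
    (a : Spec (CommRingCat.of A) ⟶ Spec (CommRingCat.of k))
    (ha : Spec.map (CommRingCat.ofHom A.subtype) ≫ a = X.fromSpecResidueField (f.base y) ≫ s) :
    EtRam.IsTamelyRamified A ((f.residueFieldMap y).hom.comp A.subtype) := by
  let ρ : X.residueField (f y) ⟶ Y.residueField y := f.residueFieldMap y
  let g : A →+* Y.residueField y := ρ.hom.comp A.subtype
  -- the valuative criterion
  let S : ValuativeCommSq s :=
    { R := A
      K := X.residueField (f y)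
      i₁ := X.fromSpecResidueField (f y)
      i₂ := a
      commSq := ⟨ha.symm⟩ }
  have hs : ValuativeCriterion.Existence s := by
    have : IsProper s := inferInstance
    rw [IsProper.eq_valuativeCriterion] at this
    exact ValuativeCriterion.existence this.1.1.1
  obtain ⟨⟨l⟩⟩ := hs S
  let h : Spec (CommRingCat.of A) ⟶ X := l.l
  have hh : Spec.map (CommRingCat.ofHom A.subtype) ≫ h = X.fromSpecResidueField (f y) := l.fac_left
  -- the base change of the cover
  let P := Limits.pullback f h
  haveI : IsFinite (Limits.pullback.snd f h) := MorphismProperty.pullback_snd f h inferInstance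
  haveI : Etale (Limits.pullback.snd f h) := MorphismProperty.pullback_snd f h inferInstance
  haveI : IsAffine P := isAffine_of_isAffineHom (Limits.pullback.snd f h)
  let φ : CommRingCat.of A ⟶ Γ(P, ⊤) := Spec.preimage (P.isoSpec.inv ≫ Limits.pullback.snd f h)
  have hφ : Spec.map φ = P.isoSpec.inv ≫ Limits.pullback.snd f h := Spec.map_preimage _
  have hfin : φ.hom.Finite := by
    rw [← IsFinite.SpecMap_iff, hφ]; infer_instance
  have het : φ.hom.Etale := by
    rw [← HasRingHomProperty.Spec_iff (P := @Etale), hφ]; infer_instance
  have hsq : Y.fromSpecResidueField y ≫ f = (Spec.map ρ ≫ Spec.map (CommRingCat.ofHom A.subtype)) ≫ h := by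
    rw [Category.assoc]
    erw [hh]
    exact (Scheme.Hom.SpecMap_residueFieldMap_fromSpecResidueField f y).symm
  let yA : Spec (Y.residueField y) ⟶ P := Limits.pullback.lift _ _ hsq
  let c : Γ(P, ⊤) ⟶ Y.residueField y := Spec.preimage (yA ≫ P.isoSpec.hom)
  have hcs : Spec.map c = yA ≫ P.isoSpec.hom := Spec.map_preimage _
  have hcφ : φ ≫ c = CommRingCat.ofHom A.subtype ≫ ρ := by
    apply Spec.map_injective
    rw [Spec.map_comp, Spec.map_comp, hcs, hφ, Category.assoc, Iso.hom_inv_id_assoc,
      Limits.pullback.lift_snd]
    rfl
  letI : Algebra A Γ(P, ⊤) := φ.hom.toAlgebra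
  haveI : Module.Finite A Γ(P, ⊤) := hfin
  haveI : Algebra.Etale A Γ(P, ⊤) := het
  have hc : c.hom.comp (algebraMap A Γ(P, ⊤)) = g := congrArg CommRingCat.Hom.hom hcφ
  -- generation
  have hgen : Subfield.closure (Set.range c.hom) = ⊤ := by
    let E := Subfield.closure (Set.range c.hom)
    let cE : Γ(P, ⊤) ⟶ CommRingCat.of E :=
      CommRingCat.ofHom (c.hom.codRestrict E fun z => Subfield.subset_closure ⟨z, rfl⟩)
    let inc : CommRingCat.of E ⟶ Y.residueField y := CommRingCat.ofHom E.subtype
    let ψ : Spec (CommRingCat.of E) ⟶ Y := Spec.map cE ≫ P.isoSpec.inv ≫ Limits.pullback.fst f h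
    have h1 : Spec.map inc ≫ ψ = Y.fromSpecResidueField y := by
      rw [← Spec.map_comp_assoc, show cE ≫ inc = c from rfl, hcs, Category.assoc,
        Iso.hom_inv_id_assoc, Limits.pullback.lift_fst]
    obtain ⟨⟨y', δ⟩, hψ⟩ := (Scheme.SpecToEquivOfField (E : Type u) Y).symm.surjective ψ
    have hy : y' = y := by
      have e1 := Scheme.fromSpecResidueField_apply y (IsLocalRing.closedPoint (Y.residueField y))
      rw [← h1, ← hψ] at e1
      exact (Scheme.fromSpecResidueField_apply y' _).symm.trans e1
    subst hy
    have h2 : δ ≫ inc = 𝟙 _ := by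
      apply Spec.map_injective
      rw [← cancel_mono (Y.fromSpecResidueField y'), Spec.map_comp, Category.assoc, Spec.map_id,
        Category.id_comp]
      conv_rhs => rw [← h1]
      exact congrArg _ hψ
    rw [eq_top_iff]
    intro z _
    have h3 : ((δ.hom z : E) : Y.residueField y') = z := RingHom.congr_fun (congrArg CommRingCat.Hom.hom h2) z
    rw [← h3]
    exact (δ.hom z).2
  have hg : Function.Injective g := ρ.hom.injective.comp Subtype.val_injective
  letI : Algebra (X.residueField (f y)) (Y.residueField y) := ρ.hom.toAlgebra
  haveI : FiniteDimensional (X.residueField (f y)) (Y.residueField y) := Groth.Agent.MorLib.GF.finite_residueFieldMap f y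
  have hV : ∀ V : ValuationSubring (Y.residueField y), EtRam.Dominates A g V → IsDiscreteValuationRing V :=
    fun V hd => Groth.Agent.EtRam46.isDVR_of_finite (X.residueField (f y)) hd
  refine (Groth.Agent.EtRam46.isTamelyRamified_iff hg hV).2 fun V hd => ?_
  haveI := hV V hd
  exact (Groth.Agent.EtRam46.unram_of_hom hg hd c.hom hc hgen).tame

end Groth.Agent.S18596
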