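import Groth.Statements.S18597
import Groth.Agent.EtRam46.Galois
import Groth.Agent.MorLib.GeomFibre
import Mathlib.AlgebraicGeometry.Morphisms.FormallyUnramified
import Mathlib.FieldTheory.IsAlgClosed.AlgebraicClosure
import Mathlib.GroupTheory.GroupAction.Quotient

set_option autoImplicit false
universe u
open EtRam


namespace Groth.Agent.S18597

open AlgebraicGeometry CategoryTheory in
/-- Let k be a perfect field and X a k-scheme. A finite étale cover of X by a torsor under a finite
group of order prime to the characteristic of k is curve-tame, i.e. tamely ramified at every place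
at infinity of every regular k-curve mapping to X. Stated here unfolded at a single place and for a
connected Galois cover Z ⟶ X (the X-automorphisms of Z act transitively on geometric fibres) whose
automorphism group has order invertible in k: for every point z of Z with image x and every discrete
valuation ring A of the residue field κ(x) through which Spec κ(x) ⟶ Spec k factors (so A contains k
and has the residue characteristic of k), the finite separable extension κ(z) of κ(x) is tamely
ramified with respect to A. Without the factorisation through Spec A the claim fails already for X =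
Spec ℚ, Z = Spec ℚ(√2) and A = ℤ localised at 2. (The published statement is for torsors under a
finite abelian group of order prime to the characteristic; a connected component of such a torsor is
a Galois cover of this kind.) -/
theorem result
    (k : Type u) [Field k] [PerfectField k] {X : Scheme.{u}} (s : X ⟶ Spec (CommRingCat.of k))
    (Z : FEt.Cat X) (hZ : PiSp.IsGaloisCover Z) (hn : (Nat.card (Aut Z) : k) ≠ 0) (z : Z.left)
    (A : ValuationSubring (X.residueField (Z.hom.base z))) [IsDiscreteValuationRing A]
    (a : Spec (CommRingCat.of A) ⟶ Spec (CommRingCat.of k))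
    (ha : Spec.map (CommRingCat.ofHom A.subtype) ≫ a = X.fromSpecResidueField (Z.hom.base z) ≫ s) :
    EtRam.IsTamelyRamified A ((Z.hom.residueFieldMap z).hom.comp A.subtype) := by
  classical
  obtain ⟨-, htrans⟩ := hZ
  let f : Z.left ⟶ X := Z.hom
  haveI : IsFinite f := Z.prop.1
  haveI : Etale f := Z.prop.2
  letI : Algebra (X.residueField (f z)) (Z.left.residueField z) := (f.residueFieldMap z).hom.toAlgebra
  let ρ : X.residueField (f z) ⟶ Z.left.residueField z := f.residueFieldMap z
  haveI : FiniteDimensional (X.residueField (f z)) (Z.left.residueField z) :=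
    Groth.Agent.MorLib.GF.finite_residueFieldMap f z
  haveI : FormallyUnramified f := inferInstance
  haveI : Algebra.IsSeparable (X.residueField (f z)) (Z.left.residueField z) := inferInstance
  -- the geometric point
  let Ω : Type u := AlgebraicClosure (X.residueField (f z))
  let η : X.residueField (f z) ⟶ CommRingCat.of Ω :=
    CommRingCat.ofHom (algebraMap (X.residueField (f z)) Ω)
  let ξ : Spec (CommRingCat.of Ω) ⟶ X := Spec.map η ≫ X.fromSpecResidueField (f z)
  have hξ : f z = Groth.Agent.MorLib.GF.pt ξ := by
    rw [Groth.Agent.MorLib.GF.pt_comp]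
    exact (Scheme.fromSpecResidueField_apply _ _).symm
  obtain ⟨hfinT, hcard⟩ := Groth.Agent.MorLib.GF.lifts_at f ξ z hξ
  rw [(Field.finSepDegree_eq_finrank_iff (X.residueField (f z)) (Z.left.residueField z)).2 inferInstance] at hcard
  -- the action of the automorphisms fixing `z`
  let act : Aut Z → FEt.fiberObj ξ Z → FEt.fiberObj ξ Z := fun σ s => (FEt.fiber ξ).map σ.hom s
  let H : Subgroup (Aut Z) :=
    { carrier := {σ | σ.hom.left z = z}
      one_mem' := by
        show (𝟙 Z : Z ⟶ Z).left z = z
        simp
      mul_mem' := fun {σ τ} hσ hτ => by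
        show (τ.hom ≫ σ.hom).left z = z
        have hτ' : τ.hom.left z = z := hτ
        have hσ' : σ.hom.left z = z := hσ
        simp [hτ', hσ']
      inv_mem' := fun {σ} hσ => by
        show σ.inv.left z = z
        have hσ' : σ.hom.left z = z := hσ
        conv_lhs => rw [← hσ']
        rw [← Scheme.Hom.comp_apply, ← MorphismProperty.Comma.comp_left, σ.hom_inv_id]
        simp }
  let T := {δ : Spec (CommRingCat.of Ω) ⟶ Z.left // δ ≫ f = ξ ∧ Groth.Agent.MorLib.GF.pt δ = z}
  letI : MulAction H T :=
    { smul := fun σ δ => ⟨δ.1 ≫ σ.1.hom.left, (act σ.1 ⟨δ.1, δ.2.1⟩).2, by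
        rw [Groth.Agent.MorLib.GF.pt_comp, δ.2.2]; exact σ.2⟩
      one_smul := fun δ => Subtype.ext (by
        show δ.1 ≫ (𝟙 Z : Z ⟶ Z).left = δ.1
        simp)
      mul_smul := fun σ τ δ => Subtype.ext (by
        show δ.1 ≫ (τ.1.hom ≫ σ.1.hom).left = (δ.1 ≫ τ.1.hom.left) ≫ σ.1.hom.left
        simp) }
  have htr : ∀ δ δ' : T, ∃ σ : H, σ • δ = δ' := by
    intro δ δ'
    obtain ⟨σ, hσ⟩ := htrans Ω ξ ⟨δ.1, δ.2.1⟩ ⟨δ'.1, δ'.2.1⟩
    have hσ' : δ.1 ≫ σ.hom.left = δ'.1 := congrArg Subtype.val hσ
    refine ⟨⟨σ, ?_⟩, Subtype.ext hσ'⟩
    show σ.hom.left z = z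
    have h1 := Groth.Agent.MorLib.GF.pt_comp δ.1 σ.hom.left
    rw [hσ', δ'.2.2, δ.2.2] at h1
    exact h1.symm
  haveI : Finite T := hfinT
  have hn0 : 0 < Module.finrank (X.residueField (f z)) (Z.left.residueField z) := Module.finrank_pos
  obtain ⟨δ₀⟩ : Nonempty T := (Nat.card_pos_iff.1 (hcard.symm ▸ hn0)).1
  -- the degree divides the order of the group
  have hdvd : Module.finrank (X.residueField (f z)) (Z.left.residueField z) ∣ Nat.card (Aut Z) := by
    rw [← hcard]
    refine dvd_trans ?_ (Subgroup.card_subgroup_dvd_card H)
    have e : (MulAction.stabilizer H δ₀).index = Nat.card T := by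
      rw [MulAction.index_stabilizer, ← Nat.card_coe_set_eq,
        show MulAction.orbit H δ₀ = Set.univ from Set.eq_univ_of_forall fun δ => htr δ₀ δ]
      exact Nat.card_congr (Equiv.Set.univ T)
    rw [← e]
    exact Subgroup.index_dvd_card _
  -- the residue extension is Galois
  obtain ⟨τ₀, hτ₀⟩ : ∃ τ : Z.left.residueField z ⟶ CommRingCat.of Ω,
      δ₀.1 = Spec.map τ ≫ Z.left.fromSpecResidueField z := by
    refine ⟨(Z.left.residueFieldCongr δ₀.2.2.symm).hom ≫
      Z.left.descResidueField (Scheme.stalkClosedPointTo δ₀.1), ?_⟩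
    rw [Spec.map_comp, Category.assoc, Scheme.residueFieldCongr_fromSpecResidueField,
      Scheme.descResidueField_stalkClosedPointTo_fromSpecResidueField]
  have hsurj : ∀ δ : T, ∃ e : Z.left.residueField z →ₐ[X.residueField (f z)] Z.left.residueField z,
      δ.1 = Spec.map (CommRingCat.ofHom e.toRingHom ≫ τ₀) ≫ Z.left.fromSpecResidueField z := by
    intro δ
    obtain ⟨σ, rfl⟩ := htr δ₀ δ
    let m : Spec (Z.left.residueField z) ⟶ Z.left := Z.left.fromSpecResidueField z ≫ σ.1.hom.left
    have hm : Groth.Agent.MorLib.GF.pt (Ω := Z.left.residueField z) m = z := by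
      rw [Groth.Agent.MorLib.GF.pt_comp]
      exact (congrArg (fun w => σ.1.hom.left w) (Scheme.fromSpecResidueField_apply z _)).trans σ.2
    let eh : Z.left.residueField z ⟶ Z.left.residueField z := (Z.left.residueFieldCongr hm.symm).hom ≫
      Z.left.descResidueField (K := Z.left.residueField z)
        (Scheme.stalkClosedPointTo (R := CommRingCat.of (Z.left.residueField z)) m)
    have heh : Spec.map eh ≫ Z.left.fromSpecResidueField z = m := by
      rw [Spec.map_comp, Category.assoc, Scheme.residueFieldCongr_fromSpecResidueField]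
      exact Scheme.descResidueField_stalkClosedPointTo_fromSpecResidueField _ _ _
    have hcomm : ρ ≫ eh = ρ := by
      rw [← Spec.map_inj, Spec.map_comp, ← cancel_mono (X.fromSpecResidueField (f z)), Category.assoc,
        Scheme.Hom.SpecMap_residueFieldMap_fromSpecResidueField, reassoc_of% heh]
      show (Z.left.fromSpecResidueField z ≫ σ.1.hom.left) ≫ f = _
      rw [Category.assoc]
      exact congrArg _ (MorphismProperty.Over.w σ.1.hom)
    refine ⟨{ eh.hom with commutes' := fun r => congr($hcomm r) }, ?_⟩
    show δ₀.1 ≫ σ.1.hom.left = _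
    rw [Spec.map_comp, Category.assoc]
    show _ = Spec.map τ₀ ≫ Spec.map eh ≫ _
    rw [heh, hτ₀, Category.assoc]
  choose e he using hsurj
  have hle : Nat.card T ≤ Nat.card (Z.left.residueField z →ₐ[X.residueField (f z)] Z.left.residueField z) :=
    Nat.card_le_card_of_injective e fun δ δ' h => Subtype.ext (by rw [he δ, he δ', h])
  haveI : IsGalois (X.residueField (f z)) (Z.left.residueField z) := by
    refine IsGalois.of_card_aut_eq_finrank _ _ (le_antisymm ?_ ?_)
    · rw [Nat.card_eq_fintype_card]; exact AlgEquiv.card_le
    · rw [← hcard, Nat.card_congr (algEquivEquivAlgHom (X.residueField (f z)) (Z.left.residueField z)).toEquiv]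
      exact hle
  -- the residue characteristic
  have hA : (Nat.card (Aut Z) : IsLocalRing.ResidueField A) ≠ 0 := by
    let ψ : k →+* A := (Spec.preimage a).hom
    rw [← map_natCast ((IsLocalRing.residue A).comp ψ), Ne, map_eq_zero]
    exact hn
  let g : A →+* Z.left.residueField z := ρ.hom.comp A.subtype
  have hg : Function.Injective g := ρ.hom.injective.comp Subtype.val_injective
  have hV : ∀ V : ValuationSubring (Z.left.residueField z), EtRam.Dominates A g V → IsDiscreteValuationRing V :=
    fun V hd => Groth.Agent.EtRam46.isDVR_of_finite (X.residueField (f z)) hd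
  refine (Groth.Agent.EtRam46.isTamelyRamified_iff hg hV).2 fun V hd => ?_
  exact Groth.Agent.EtRam46.tame_of_galois (X.residueField (f z)) hd
    (Groth.Agent.EtRam46.natCast_ne_zero_of_dvd hdvd hA)

end Groth.Agent.S18597
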