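import Groth.Statements.S1865
import Mathlib.AlgebraicGeometry.Morphisms.UniversallyOpen
import Mathlib.AlgebraicGeometry.Morphisms.QuasiCompact
import Mathlib.AlgebraicGeometry.PullbackCarrier

set_option autoImplicit false
set_option backward.isDefEq.respectTransparency false
set_option backward.isDefEq.respectTransparency.types false
universe u v
open CategoryTheory MonoidalCategory CartesianMonoidalCategory MonObj GrpObj AlgebraicGeometry
open GrpSch

namespace Groth.Agent.S1865

/-- A group scheme over a field contains an open and closed subset containing the identity point which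
is a countable union of affine opens. (The source does not mention the identity point; its
construction contains it, and without it the empty set would do.) -/
theorem result (K : Type u) [Field K] (G : Over (Spec (CommRingCat.of K))) [GrpObj G] : ∃ U : G.left.Opens, IsClosed (U : Set G.left) ∧ η[G].left (IsLocalRing.closedPoint K) ∈ U ∧ ∃ V : ℕ → G.left.Opens, (∀ n, IsAffineOpen (V n)) ∧ (U : Set G.left) = ⋃ n, (V n : Set G.left) := by
  classical
  have hopen : ∀ {X : Over (Spec (CommRingCat.of K))} (a : X ⟶ G), IsOpenMap ((fst X G ≫ a) * snd X G).left := by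
    intro X a
    let Φ : X ⊗ G ⟶ X ⊗ G := lift (fst X G) ((fst X G ≫ a) * snd X G)
    let Ψ : X ⊗ G ⟶ X ⊗ G := lift (fst X G) ((fst X G ≫ a)⁻¹ * snd X G)
    have : IsIso Φ := ⟨Ψ, by
      apply CartesianMonoidalCategory.hom_ext
      · simp [Φ, Ψ]
      · simp [Φ, Ψ, MonObj.comp_mul, GrpObj.comp_inv], by
      apply CartesianMonoidalCategory.hom_ext
      · simp [Φ, Ψ]
      · simp [Φ, Ψ, MonObj.comp_mul, GrpObj.comp_inv]⟩
    have : UniversallyOpen (snd X G).left := inferInstanceAs (UniversallyOpen (Limits.pullback.snd X.hom G.hom))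
    have h1 : Φ ≫ snd X G = (fst X G ≫ a) * snd X G := lift_snd _ _
    rw [← h1, Over.comp_left]
    exact (snd X G).left.isOpenMap.comp Φ.left.homeomorph.isOpenMap
  let m : G ⊗ G ⟶ G := (fst G G ≫ 𝟙 G) * snd G G
  let inv' : G ⟶ G := (𝟙 G)⁻¹
  have hinv : inv' ≫ inv' = 𝟙 G := by rw [GrpObj.comp_inv, Category.comp_id, _root_.inv_inv]
  let e₀ : G.left := η[G].left (IsLocalRing.closedPoint K)
  have hone : ∀ (X : Over (Spec (CommRingCat.of K))) (x : X.left), (1 : X ⟶ G).left x = e₀ := fun X x => by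
    rw [show (1 : X ⟶ G) = toUnit X ≫ η[G] from rfl, Over.comp_left, Scheme.Hom.comp_apply]
    exact congrArg η[G].left (Subsingleton.elim (α := PrimeSpectrum K) _ _)
  have hinve : inv'.left e₀ = e₀ := by
    show inv'.left (η[G].left _) = _
    rw [← Scheme.Hom.comp_apply, ← Over.comp_left]
    have h : η[G] ≫ inv' = (1 : 𝟙_ _ ⟶ G) := by
      rw [GrpObj.comp_inv, Category.comp_id, MonObj.one_eq_one, inv_one]
    rw [h, hone]
  obtain ⟨A, hA, heA, -⟩ := exists_isAffineOpen_mem_and_subset (x := e₀) (U := (⊤ : G.left.Opens)) trivial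
  -- the powers of a symmetric compact neighbourhood of the unit
  let prodSet : G.left.Opens → (G ⊗ G).left.Opens := fun W => (fst G G).left ⁻¹ᵁ W ⊓ (snd G G).left ⁻¹ᵁ W
  let sq : G.left.Opens → G.left.Opens := fun W =>
    ⟨m.left '' (prodSet W : Set (G ⊗ G).left), hopen (𝟙 G) _ (prodSet W).isOpen⟩
  let W : ℕ → G.left.Opens := fun n => sq^[n] (A ⊔ inv'.left ⁻¹ᵁ A)
  have hW0 : W 0 = A ⊔ inv'.left ⁻¹ᵁ A := rfl
  have hWs : ∀ n, W (n + 1) = sq (W n) := fun n => Function.iterate_succ_apply' sq n _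
  have hprod : ∀ (O : G.left.Opens), IsCompact (O : Set G.left) → IsCompact (prodSet O : Set (G ⊗ G).left) := fun O hO => by
    have : CompactSpace O.toScheme := isCompact_iff_compactSpace.mp hO
    have : QuasiCompact (O.ι ≫ G.hom) := (quasiCompact_iff_compactSpace _).mpr inferInstance
    have : CompactSpace ↥(Limits.pullback (O.ι ≫ G.hom) (O.ι ≫ G.hom)) :=
      (quasiCompact_iff_compactSpace (Limits.pullback.fst (O.ι ≫ G.hom) (O.ι ≫ G.hom) ≫ O.ι ≫ G.hom)).mp inferInstance
    have h := isCompact_range (Limits.pullback.map (O.ι ≫ G.hom) (O.ι ≫ G.hom) G.hom G.hom O.ι O.ι (𝟙 _)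
      (Category.comp_id _) (Category.comp_id _)).continuous
    rw [Scheme.Pullback.range_map, Scheme.Opens.range_ι] at h
    exact h
  have hcomp : ∀ n, IsCompact (W n : Set G.left) := by
    intro n
    induction n with
    | zero =>
      have : IsIso inv' := ⟨inv', hinv, hinv⟩
      exact hA.isCompact.union (hA.preimage_of_isIso inv'.left).isCompact
    | succ n ih =>
      rw [hWs]
      exact (hprod _ ih).image m.left.continuous
  have he : ∀ n, e₀ ∈ W n := by
    intro n
    induction n with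
    | zero => exact Or.inl heA
    | succ n ih =>
      rw [hWs]
      refine ⟨(lift (1 : 𝟙_ _ ⟶ G) 1).left (IsLocalRing.closedPoint K), ⟨?_, ?_⟩, ?_⟩
      · show (fst G G).left _ ∈ W n
        rw [← Scheme.Hom.comp_apply, ← Over.comp_left, lift_fst, hone]
        exact ih
      · show (snd G G).left _ ∈ W n
        rw [← Scheme.Hom.comp_apply, ← Over.comp_left, lift_snd, hone]
        exact ih
      · rw [← Scheme.Hom.comp_apply, ← Over.comp_left]
        have h : lift (1 : 𝟙_ (Over (Spec (CommRingCat.of K))) ⟶ G) 1 ≫ m = 1 := by simp [m, MonObj.comp_mul]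
        rw [h, hone]
  have hmono : ∀ n, ∀ x ∈ W n, x ∈ W (n + 1) := fun n x hx => by
    rw [hWs]
    refine ⟨(lift (𝟙 G) (1 : G ⟶ G)).left x, ⟨?_, ?_⟩, ?_⟩
    · show (fst G G).left _ ∈ W n
      rw [← Scheme.Hom.comp_apply, ← Over.comp_left, lift_fst]
      exact hx
    · show (snd G G).left _ ∈ W n
      rw [← Scheme.Hom.comp_apply, ← Over.comp_left, lift_snd, hone]
      exact he n
    · rw [← Scheme.Hom.comp_apply, ← Over.comp_left]
      have h : lift (𝟙 G) (1 : G ⟶ G) ≫ m = 𝟙 G := by simp [m, MonObj.comp_mul]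
      rw [h]
      rfl
  have hmono' : ∀ {n n' : ℕ}, n ≤ n' → ∀ x ∈ W n, x ∈ W n' := fun h => by
    induction h with
    | refl => exact fun x hx => hx
    | step _ ih => exact fun x hx => hmono _ x (ih x hx)
  have hinvW : ∀ n, ∀ x ∈ W n, inv'.left x ∈ W n := by
    intro n
    induction n with
    | zero =>
      rintro x (hx | hx)
      · refine Or.inr ?_
        show inv'.left (inv'.left x) ∈ A
        rw [← Scheme.Hom.comp_apply, ← Over.comp_left, hinv]
        exact hx
      · exact Or.inl hx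
    | succ n ih =>
      rw [hWs]
      rintro _ ⟨q, hq, rfl⟩
      refine ⟨(lift (snd G G ≫ inv') (fst G G ≫ inv')).left q, ⟨?_, ?_⟩, ?_⟩
      · show (fst G G).left _ ∈ W n
        rw [← Scheme.Hom.comp_apply, ← Over.comp_left, lift_fst, Over.comp_left, Scheme.Hom.comp_apply]
        exact ih _ hq.2
      · show (snd G G).left _ ∈ W n
        rw [← Scheme.Hom.comp_apply, ← Over.comp_left, lift_snd, Over.comp_left, Scheme.Hom.comp_apply]
        exact ih _ hq.1
      · rw [← Scheme.Hom.comp_apply, ← Over.comp_left, ← Scheme.Hom.comp_apply m.left, ← Over.comp_left]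
        have h : lift (snd G G ≫ inv') (fst G G ≫ inv') ≫ m = m ≫ inv' := by
          simp [m, inv', MonObj.comp_mul, GrpObj.comp_inv]
        rw [h]
  let U : G.left.Opens := ⨆ n, W n
  have hU : ∀ q : ↥(G ⊗ G).left, m.left q ∈ U → (snd G G).left q ∈ U → (fst G G).left q ∈ U := by
    intro q h1 h2
    obtain ⟨a, ha⟩ := TopologicalSpace.Opens.mem_iSup.1 h1
    obtain ⟨b, hb⟩ := TopologicalSpace.Opens.mem_iSup.1 h2
    refine TopologicalSpace.Opens.mem_iSup.2 ⟨max a b + 1, ?_⟩
    rw [hWs]
    refine ⟨(lift m (snd G G ≫ inv')).left q, ⟨?_, ?_⟩, ?_⟩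
    · show (fst G G).left _ ∈ W _
      rw [← Scheme.Hom.comp_apply, ← Over.comp_left, lift_fst]
      exact hmono' (le_max_left a b) _ ha
    · show (snd G G).left _ ∈ W _
      rw [← Scheme.Hom.comp_apply, ← Over.comp_left, lift_snd, Over.comp_left, Scheme.Hom.comp_apply]
      exact hinvW _ _ (hmono' (le_max_right a b) _ hb)
    · rw [← Scheme.Hom.comp_apply, ← Over.comp_left]
      have h : lift m (snd G G ≫ inv') ≫ m = fst G G := by
        simp [m, inv', MonObj.comp_mul, GrpObj.comp_inv]
      rw [h]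
  have hclosed : IsClosed (U : Set G.left) := by
    refine closure_subset_iff_isClosed.1 fun x hx => ?_
    let X : Over (Spec (CommRingCat.of K)) := Over.mk (G.left.fromSpecResidueField x ≫ G.hom)
    let a : X ⟶ G := Over.homMk (G.left.fromSpecResidueField x) rfl
    let M := (fst X G ≫ a) * snd X G
    let N : Set G.left := M.left '' ((snd X G).left ⁻¹' (U : Set G.left))
    have hNo : IsOpen N := hopen a _ (U.isOpen.preimage (snd X G).left.continuous)
    obtain ⟨z, hz⟩ : x ∈ Set.range a.left := (G.left.range_fromSpecResidueField x).symm.subset rfl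
    have hxN : x ∈ N := by
      refine ⟨(lift (𝟙 X) (1 : X ⟶ G)).left z, ?_, ?_⟩
      · show (snd X G).left _ ∈ U
        rw [← Scheme.Hom.comp_apply, ← Over.comp_left, lift_snd, hone]
        exact TopologicalSpace.Opens.mem_iSup.2 ⟨0, he 0⟩
      · rw [← Scheme.Hom.comp_apply, ← Over.comp_left]
        have h : lift (𝟙 X) (1 : X ⟶ G) ≫ M = a := by simp [M, MonObj.comp_mul]
        rw [h, hz]
    obtain ⟨_, ⟨p, hp, rfl⟩, hg⟩ := mem_closure_iff.1 hx N hNo hxN
    have h1 : (fst G G).left ((a ▷ G).left p) = x := by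
      rw [← Scheme.Hom.comp_apply, ← Over.comp_left, whiskerRight_fst, Over.comp_left, Scheme.Hom.comp_apply]
      exact (G.left.range_fromSpecResidueField x).subset ⟨_, rfl⟩
    rw [← h1]
    refine hU _ ?_ ?_
    · rw [← Scheme.Hom.comp_apply, ← Over.comp_left]
      have h : (a ▷ G) ≫ m = M := by simp [m, M, MonObj.comp_mul]
      rw [h]
      exact hg
    · rw [← Scheme.Hom.comp_apply, ← Over.comp_left, whiskerRight_snd]
      exact hp
  refine ⟨U, hclosed, TopologicalSpace.Opens.mem_iSup.2 ⟨0, he 0⟩, ?_⟩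
  have hfin : ∀ n, ∃ s : Set G.left.affineOpens, s.Finite ∧ (W n : Set G.left) = ⋃ i ∈ s, (i.1 : Set G.left) :=
    fun n => (TopologicalSpace.Opens.IsBasis.isCompact_open_iff_eq_finite_iUnion (fun i : G.left.affineOpens => i.1)
      (by rw [Subtype.range_coe]; exact G.left.isBasis_affineOpens) (fun i => i.2.isCompact) _).1 ⟨hcomp n, (W n).isOpen⟩
  choose s hs hWn using hfin
  let T : Set G.left.affineOpens := {⟨⊥, isAffineOpen_bot _⟩} ∪ ⋃ n, s n
  obtain ⟨V, hV⟩ := ((Set.countable_singleton _).union (Set.countable_iUnion fun n => (hs n).countable) :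
    T.Countable).exists_eq_range ⟨_, Or.inl rfl⟩
  refine ⟨fun n => (V n).1, fun n => (V n).2, ?_⟩
  ext x
  simp only [SetLike.mem_coe, TopologicalSpace.Opens.mem_iSup, Set.mem_iUnion, U]
  constructor
  · rintro ⟨n, hn⟩
    obtain ⟨i, hi, hxi⟩ := Set.mem_iUnion₂.1 ((hWn n).subset hn)
    obtain ⟨l, rfl⟩ := hV.subset (Or.inr (Set.mem_iUnion.2 ⟨n, hi⟩) : i ∈ T)
    exact ⟨l, hxi⟩
  · rintro ⟨l, hl⟩
    rcases hV.symm.subset ⟨l, rfl⟩ with h | h
    · rw [Set.mem_singleton_iff.1 h] at hl
      exact hl.elim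
    · obtain ⟨n, hn⟩ := Set.mem_iUnion.1 h
      exact ⟨n, (hWn n).symm.subset (Set.mem_iUnion₂.2 ⟨_, hn, hl⟩)⟩

end Groth.Agent.S1865
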