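import Groth.Statements.S18666
import Groth.Agent.MiscTwoH99.ProjGor.Basic

set_option autoImplicit false
universe u
open GrProj

namespace Groth.Agent.S18666

open AlgebraicGeometry Pointwise in
/-- Let A = ⊕_{n ≥ 0} A_n be a commutative Noetherian graded ring satisfying condition (#) — there is an
integer d_0 such that for every d ≥ d_0 the Veronese subring A^(d) is generated by A_d over A_0,
equivalently A_{(n+1)d} is additively generated by the products A_d A_{nd} for every n ≥ 1 — and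
assume A is a Gorenstein ring. Then X = Proj A is a Gorenstein scheme: all of its local rings are
Gorenstein local rings. (The Cohen–Macaulay case of the same lemma is stated separately.) -/
theorem result (A : Type u) [CommRing A] (𝒜 : ℕ → AddSubgroup A) [GradedRing 𝒜] [LocCoh.IsGorensteinRing A] (hsharp : ∃ d₀ : ℕ, ∀ d : ℕ, d₀ ≤ d → ∀ n : ℕ, 1 ≤ n → 𝒜 ((n + 1) * d) = AddSubgroup.closure ((𝒜 d : Set A) * (𝒜 (n * d) : Set A))) (x : Proj 𝒜) : LocCoh.IsGorensteinLocalRing ((Proj 𝒜).presheaf.stalk x) := by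
  classical
  let p := x.asHomogeneousIdeal.toIdeal
  obtain ⟨e, f₀, he, hf₀, hf₀p⟩ : ∃ (e : ℕ) (f₀ : A), 0 < e ∧ f₀ ∈ 𝒜 e ∧ f₀ ∉ p := by
    by_contra! h
    refine x.not_irrelevant_le fun a ha => ?_
    rw [← DirectSum.sum_support_decompose 𝒜 a]
    refine sum_mem fun i _ => ?_
    rcases Nat.eq_zero_or_pos i with rfl | hi
    · rw [show (DirectSum.decompose 𝒜 a 0 : A) = 0 from ha]
      exact zero_mem _
    · exact h i _ hi (SetLike.coe_mem _)
  obtain ⟨d, f, g, hd, hf, hfp, hg, hgp⟩ := Groth.Agent.MiscTwoH99.ProjGor.exists_units 𝒜 p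
    (hsharp.imp fun d₀ hd₀ d hd n hn => (hd₀ d hd n hn).trans (congrArg AddSubgroup.closure (Set.ext fun z => Set.mem_mul)))
    he hf₀ hf₀p
  haveI := Groth.Agent.MiscTwoH99.ProjGor.isGorenstein 𝒜 p hf hfp hg hgp hd
    (LocCoh.IsGorensteinRing.isGorensteinLocalRing_localization p)
  let e' : HomogeneousLocalization.AtPrime 𝒜 p ≃+* ((Proj 𝒜).presheaf.stalk x : Type u) :=
    (Proj.stalkIso 𝒜 x).commRingCatIsoToRingEquiv.symm
  haveI : IsNoetherianRing ((Proj 𝒜).presheaf.stalk x : Type u) := isNoetherianRing_of_ringEquiv _ e'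
  exact Groth.Agent.LC.gorenstein_of_ringEquiv e'

end Groth.Agent.S18666
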