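import Groth.Statements.S18694
import Groth.Agent.GrpSchLib.AffineHopf
import Mathlib.RingTheory.Ideal.GoingUp
import Mathlib.RingTheory.Ideal.Quotient.Operations

set_option autoImplicit false
open CategoryTheory MonoidalCategory CartesianMonoidalCategory MonObj GrpObj AlgebraicGeometry
universe u
open MultTori

namespace Groth.Agent.S18694

open MonoidalCategory CartesianMonoidalCategory
open scoped TensorProduct
open Groth.Agent.GrpSchLib

/-- An algebra map out of the Laurent polynomials with a unit lifting the image of the generator lifts. -/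
theorem algebraMap_comp_lift_eq {B C : Type u} [CommRing B] [CommRing C] [Algebra B C]
    (φ : MonoidAlgebra B (Multiplicative ℤ) →ₐ[B] C) (v : Bˣ)
    (h : algebraMap B C v = φ (MonoidAlgebra.single (Multiplicative.ofAdd 1) 1)) :
    (Algebra.ofId B C).comp
      (MonoidAlgebra.lift B B (Multiplicative ℤ) ((Units.coeHom B).comp (zpowersHom Bˣ v))) = φ := by
  let Φ : Multiplicative ℤ →* C := φ.toRingHom.toMonoidHom.comp (MonoidAlgebra.of B (Multiplicative ℤ))
  have hv : (Units.map (algebraMap B C : B →* C)).comp (zpowersHom Bˣ v) = Φ.toHomUnits :=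
    MonoidHom.ext_mint (Units.ext (by simp [Φ, zpowersHom_apply, h]))
  refine MonoidAlgebra.algHom_ext (fun z => ?_) (by ext)
  have := congrArg Units.val (DFunLike.congr_fun hv z)
  rw [MonoidHom.comp_apply, zpowersHom_apply, Units.coe_map] at this
  simpa [Φ, zpowersHom_apply] using this

theorem sp_self_hom (R : Type u) [CommRing R] :
    (AffineHopf.sp R R).hom = 𝟙 (Spec (CommRingCat.of R)) := by
  show Spec.map (CommRingCat.ofHom (algebraMap R R)) = _
  rw [Algebra.algebraMap_self, CommRingCat.ofHom_id, Spec.map_id]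

theorem isTerminal_sp_self (R : Type u) [CommRing R] : Nonempty (Limits.IsTerminal (AffineHopf.sp R R)) :=
  ⟨Limits.IsTerminal.ofUniqueHom (fun Y => Over.homMk Y.hom (by rw [sp_self_hom]; exact Category.comp_id Y.hom))
    (fun Y m => by
      refine Over.OverMorphism.ext ?_
      have := Over.w m
      rw [sp_self_hom] at this
      exact (Category.comp_id m.left).symm.trans this)⟩

/-- Units of the base changes of a finite algebra to the residue fields of a semilocal ring lift to a unit. -/
theorem exists_unit_lift {A B : Type u} [CommRing A] [Finite (MaximalSpectrum A)] [CommRing B] [Algebra A B]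
    [Module.Finite A B] (w : ∀ m : MaximalSpectrum A, (B ⊗[A] (A ⧸ m.asIdeal))ˣ) :
    ∃ v : Bˣ, ∀ m : MaximalSpectrum A, (v : B) ⊗ₜ[A] (1 : A ⧸ m.asIdeal) = (w m : B ⊗[A] (A ⧸ m.asIdeal)) := by
  classical
  haveI := Fintype.ofFinite (MaximalSpectrum A)
  have hco : Pairwise fun m n : MaximalSpectrum A => IsCoprime m.asIdeal n.asIdeal := fun m n h =>
    Ideal.isCoprime_iff_sup_eq.mpr (m.2.coprime_of_ne n.2 fun h' => h (MaximalSpectrum.ext h'))
  have hb : ∀ m : MaximalSpectrum A, ∃ b : B, b ⊗ₜ[A] (1 : A ⧸ m.asIdeal) = (w m : B ⊗[A] (A ⧸ m.asIdeal)) :=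
    fun m => Algebra.TensorProduct.includeLeft_surjective B (S := A) Ideal.Quotient.mk_surjective _
  choose b hb using hb
  have he : ∀ m : MaximalSpectrum A, ∃ e : A, ∀ n : MaximalSpectrum A,
      Ideal.Quotient.mk n.asIdeal e = if n = m then 1 else 0 := by
    intro m
    obtain ⟨e, he⟩ := Ideal.quotientInfToPiQuotient_surj hco fun n => if n = m then 1 else 0
    obtain ⟨e, rfl⟩ := Ideal.Quotient.mk_surjective e
    exact ⟨e, fun n => congrFun he n⟩
  choose e he using he
  have hv : ∀ n : MaximalSpectrum A, (∑ m, e m • b m) ⊗ₜ[A] (1 : A ⧸ n.asIdeal) = (w n : B ⊗[A] (A ⧸ n.asIdeal)) := by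
    intro n
    rw [TensorProduct.sum_tmul, Finset.sum_eq_single n, ← hb n]
    · rw [TensorProduct.smul_tmul, Algebra.smul_def, _root_.mul_one, Ideal.Quotient.algebraMap_eq, he, if_pos rfl]
    · intro m _ hm
      rw [TensorProduct.smul_tmul, Algebra.smul_def, _root_.mul_one, Ideal.Quotient.algebraMap_eq, he, if_neg (Ne.symm hm),
        TensorProduct.tmul_zero]
    · simp
  suffices hu : IsUnit (∑ m, e m • b m) from ⟨hu.unit, fun n => hv n⟩
  by_contra hu
  obtain ⟨M, hM, hmem⟩ := exists_max_ideal_of_mem_nonunits hu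
  let n : MaximalSpectrum A := ⟨M.comap (algebraMap A B), Ideal.isMaximal_comap_of_isIntegral_of_isMaximal M⟩
  let ψ : B ⊗[A] (A ⧸ n.asIdeal) →ₐ[A] B ⧸ M := Algebra.TensorProduct.lift (Ideal.Quotient.mkₐ A M)
    (Ideal.Quotient.liftₐ n.asIdeal (Algebra.ofId A (B ⧸ M))
      (fun a ha => Ideal.Quotient.eq_zero_iff_mem.mpr ha)) (fun _ _ => Commute.all _ _)
  have h0 : ψ (w n) = 0 := by
    rw [← hv n, Algebra.TensorProduct.lift_tmul, map_one, _root_.mul_one]
    exact Ideal.Quotient.eq_zero_iff_mem.mpr hmem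
  haveI : Nontrivial (B ⧸ M) := Ideal.Quotient.nontrivial_iff.mpr hM.ne_top
  exact ((w n).isUnit.map ψ).ne_zero h0

/-- In the case of the quasitrivial torus R_{B/A}(G_m), let A be a semilocal ring (finitely many maximal
ideals m, residue fields κ_m = A/m), B a finite étale A-algebra, and (P, q) a Weil restriction along
Spec B → Spec A of the multiplicative group over B (P an A-scheme with q : P ×_A B → G_{m,B}
universal). Then the reduction map P(A) → ∏_m P(κ_m) is surjective: every family (u_m) of κ_m-points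
of P over the closed points of Spec A is the family of restrictions of one section of P over A. (The
source states this for every invertible A-torus and reduces it to this case; the
invertible/quasitrivial notions are not available here, so only this case is stated.) -/
theorem result
    (A : Type u) [CommRing A] [Finite (MaximalSpectrum A)]
    (B : Type u) [CommRing B] [Algebra A B] [Module.Finite A B] [Algebra.Etale A B]
    (P : Over (Spec (CommRingCat.of A))) (q : Red.bc (Spec.map (CommRingCat.ofHom (algebraMap A B))) P ⟶ Red.Gm (Spec (CommRingCat.of B)))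
    (hP : WeilRes.IsWeilRes (Spec.map (CommRingCat.ofHom (algebraMap A B))) (Red.Gm (Spec (CommRingCat.of B))) P q)
    (u : ∀ m : MaximalSpectrum A, Spec (CommRingCat.of (A ⧸ m.asIdeal)) ⟶ P.left)
    (hu : ∀ m : MaximalSpectrum A, u m ≫ P.hom = (Spec.map (CommRingCat.ofHom (Ideal.Quotient.mk m.asIdeal)))) :
    ∃ s : Spec (CommRingCat.of A) ⟶ P.left, s ≫ P.hom = 𝟙 (Spec (CommRingCat.of A)) ∧
      ∀ m : MaximalSpectrum A, (Spec.map (CommRingCat.ofHom (Ideal.Quotient.mk m.asIdeal))) ≫ s = u m := by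
  let f := Spec.map (CommRingCat.ofHom (algebraMap A B))
  obtain ⟨eG'⟩ := AffineHopf.nonempty_DS_iso B ℤ
  let eG : AffineHopf.sp B (MonoidAlgebra B (Multiplicative ℤ)) ≅ Red.Gm (Spec (CommRingCat.of B)) :=
    (Grp.forget _).mapIso eG'
  let g : Multiplicative ℤ := Multiplicative.ofAdd 1
  let T : MaximalSpectrum A → Over (Spec (CommRingCat.of A)) := fun m => AffineHopf.sp A (A ⧸ m.asIdeal)
  have hε : ∀ m : MaximalSpectrum A, Nonempty (AffineHopf.sp B (B ⊗[A] (A ⧸ m.asIdeal)) ≅ Red.bc f (T m)) := by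
    intro m
    let γ₀ : Red.bc f (T m) ⟶ AffineHopf.sp B (B ⊗[A] (A ⧸ m.asIdeal)) :=
      (Limits.pullbackSymmetry .. ≪≫ pullbackSpecIso' A B (A ⧸ m.asIdeal)).hom.asOver (Spec (CommRingCat.of B))
    haveI : IsIso γ₀.left :=
      inferInstanceAs (IsIso (Limits.pullbackSymmetry .. ≪≫ pullbackSpecIso' A B (A ⧸ m.asIdeal)).hom)
    haveI : IsIso ((Over.forget _).map γ₀) := ‹IsIso γ₀.left›
    haveI : IsIso γ₀ := isIso_of_reflects_iso γ₀ (Over.forget _)
    exact ⟨(asIso γ₀).symm⟩
  let ε := fun m => (hε m).some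
  let um : ∀ m, T m ⟶ P := fun m => Over.homMk (u m) (hu m)
  choose φ hφ using fun m => AffineHopf.exists_eq_spMap ((ε m).hom ≫ WeilRes.restr f q (T m) (um m) ≫ eG.inv)
  have hu' : ∀ m : MaximalSpectrum A, IsUnit (φ m (MonoidAlgebra.single g 1)) := fun m =>
    ((Group.isUnit g).map (MonoidAlgebra.of B (Multiplicative ℤ))).map (φ m)
  let w : ∀ m : MaximalSpectrum A, (B ⊗[A] (A ⧸ m.asIdeal))ˣ := fun m => (hu' m).unit
  obtain ⟨v, hv⟩ := exists_unit_lift w
  let φ₀ : MonoidAlgebra B (Multiplicative ℤ) →ₐ[B] B :=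
    MonoidAlgebra.lift B B (Multiplicative ℤ) ((Units.coeHom B).comp (zpowersHom Bˣ v))
  obtain ⟨hTB⟩ := isTerminal_sp_self B
  let TA := AffineHopf.sp A A
  let τ : Red.bc f TA ⟶ AffineHopf.sp B B := hTB.from _
  obtain ⟨x, hx⟩ := (hP TA).2 (τ ≫ AffineHopf.spMap φ₀ ≫ eG.hom)
  refine ⟨x.left, (Over.w x).trans (sp_self_hom A), fun m => ?_⟩
  let j : T m ⟶ TA := AffineHopf.spMap (Algebra.ofId A (A ⧸ m.asIdeal))
  suffices h : j ≫ x = um m from congrArg CommaMorphism.left h
  refine (hP (T m)).1 ?_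
  rw [WeilRes.restr_comp, hx, ← cancel_epi (ε m).hom, ← cancel_mono eG.inv]
  simp only [Category.assoc, Iso.hom_inv_id, Category.comp_id]
  rw [hφ m, ← Category.assoc, ← Category.assoc,
    hTB.hom_ext (((ε m).hom ≫ (Over.pullback f).map j) ≫ τ) (AffineHopf.spMap (Algebra.ofId B _)),
    AffineHopf.spMap_comp]
  refine congrArg AffineHopf.spMap ?_
  exact algebraMap_comp_lift_eq (φ m) v (hv m)

end Groth.Agent.S18694
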