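import Groth.Statements.S18697
import Groth.Agent.TorusLift28.Norm
import Groth.Agent.S8197
import Groth.Agent.Sga3xB.MultBasic
import Groth.Agent.TransLib.MultEssFree
import Groth.Agent.GrpSchLib.MultTypeComm

set_option autoImplicit false
open CategoryTheory MonoidalCategory CartesianMonoidalCategory MonObj GrpObj AlgebraicGeometry
universe u
open MultTori

namespace Groth.Agent.S18697

set_option linter.style.haveILetI false
open Groth.Agent.GrpSchLib Groth.Agent.TorusLift28
open scoped TensorProduct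

/-- An isotrivial torus over a field is a torus. -/
theorem isTorus_of_finiteEtale {k : Type u} [Field k] {T : Over (Spec (CommRingCat.of k))} [GrpObj T]
    (hT : ∃ r : ℕ, TwC.Locally (Spec (CommRingCat.of k)) .finiteEtale
        (fun S' g => Red.IsSplitTorusWith (Fin r → ℤ) (Red.bc g T))) : Red.IsTorus T := by
  obtain ⟨r, S', f, hfin, het, hsurj, hloc⟩ := hT
  haveI := hfin
  haveI := het
  refine ⟨S', f, inferInstance, hsurj, fun V hV => ⟨f ⁻¹ᵁ V, f.isCompact_preimage hV.isCompact, ?_⟩, fun s' => ?_⟩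
  · exact Set.image_preimage_eq _ hsurj.surj
  · obtain ⟨U, hs, -, h⟩ := hloc s'
    exact ⟨U, hs, r, h⟩

set_option backward.isDefEq.respectTransparency false in
/-- Lifting for a commutative affine retract rational group, finite residue field case. -/
theorem exists_lift_finite {k : Type u} [Field k] {T : Over (Spec (CommRingCat.of k))} [GrpObj T] [IsAffine T.left]
    [ConnectedSpace T.left] (hcomm : ∀ (Y : Over (Spec (CommRingCat.of k))) (a b : Y ⟶ T), a * b = b * a)
    {U : T.left.Opens} (hU : (U : Set T.left).Nonempty) {n : ℕ}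
    {Y : (Spec (CommRingCat.of (MvPolynomial (Fin n) k))).Opens}
    (a : (U : Scheme.{u}) ⟶ (Y : Scheme.{u})) (b : (Y : Scheme.{u}) ⟶ (U : Scheme.{u})) (hab : a ≫ b = 𝟙 _)
    (ha : a ≫ Y.ι ≫ Spec.map (CommRingCat.ofHom (algebraMap k (MvPolynomial (Fin n) k))) = U.ι ≫ T.hom)
    (hb : b ≫ U.ι ≫ T.hom = Y.ι ≫ Spec.map (CommRingCat.ofHom (algebraMap k (MvPolynomial (Fin n) k))))
    {A κ : Type u} [CommRing A] [IsLocalRing A] [Algebra k A] [Field κ] [Finite κ] [Algebra k κ]
    (ρ : A →ₐ[k] κ) (hρ : Function.Surjective ρ) (w : AffineHopf.sp k κ ⟶ T) :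
    ∃ s : AffineHopf.sp k A ⟶ T, AffineHopf.spMap ρ ≫ s = w := by
  classical
  haveI : Finite k := Finite.of_injective _ (algebraMap k κ).injective
  haveI : FiniteDimensional k κ := Module.Finite.of_finite
  let p := ringChar k
  haveI : CharP k p := ringChar.charP k
  haveI : Fact p.Prime := ⟨CharP.char_is_prime k p⟩
  obtain ⟨f, hf, hdec⟩ := exists_polynomial a b hab ha hb hU w
  let H : Subgroup (AffineHopf.sp k κ ⟶ T) :=
    { carrier := {x | ∃ s : AffineHopf.sp k A ⟶ T, AffineHopf.spMap ρ ≫ s = x}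
      one_mem' := ⟨1, MonObj.comp_one _⟩
      mul_mem' := fun {x y} ⟨s, hs⟩ ⟨t, ht⟩ => ⟨s * t, by rw [MonObj.comp_mul, hs, ht]⟩
      inv_mem' := fun {x} ⟨s, hs⟩ => ⟨s⁻¹, by rw [GrpObj.comp_inv, hs]⟩ }
  have key : ∀ l : ℕ, f.totalDegree + 1 < l → l.Coprime (Module.finrank k κ) → w ^ l ∈ H := by
    intro l hl hcop
    haveI : NeZero l := ⟨by omega⟩
    let F := ULift.{u} (FiniteField.Extension k p l)
    letI : Field F := ULift.field
    letI : Algebra k F := ULift.algebra
    haveI : FiniteDimensional k F := Module.Finite.equiv ULift.moduleEquiv.symm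
    haveI : IsGalois k F := IsGalois.of_algEquiv (ULift.algEquiv (R := k) (A := FiniteField.Extension k p l)).symm
    have hdim : Module.finrank k F = l :=
      (ULift.moduleEquiv.finrank_eq).trans (FiniteField.finrank_extension k p l)
    have hL : IsField (F ⊗[k] κ) := isMaximal_bot_tensor F κ (by rw [hdim]; exact hcop)
    letI : Field (F ⊗[k] κ) := hL.toField
    let j : κ →ₐ[k] F ⊗[k] κ := Algebra.TensorProduct.includeRight
    have hj : Function.Injective j := Algebra.TensorProduct.includeRight_injective (algebraMap k F).injective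
    haveI : Finite (F ⊗[k] κ) := Module.finite_of_finite k
    have hcard : f.totalDegree < Nat.card (F ⊗[k] κ) := by
      have h1 : Nat.card k ^ l ≤ Nat.card (F ⊗[k] κ) := by
        rw [← FiniteField.natCard_extension k p l]
        exact Nat.card_le_card_of_injective
          (fun c => (Algebra.TensorProduct.includeLeft : F →ₐ[k] F ⊗[k] κ) (ULift.up c))
          ((Algebra.TensorProduct.includeLeft_injective (algebraMap k κ).injective).comp ULift.up_injective)
      have h2 : l < Nat.card k ^ l := Nat.lt_pow_self Finite.one_lt_card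
      omega
    obtain ⟨c, hc⟩ := exists_eval₂_ne_zero j.toRingHom hf (Or.inl hcard)
    obtain ⟨w₁, w₂, h₁, h₂, hw⟩ := hdec (F ⊗[k] κ) j c hc
    let ρ' := Algebra.TensorProduct.map (AlgHom.id k F) ρ
    have hρ' : Function.Surjective ρ' :=
      Algebra.TensorProduct.map_surjective (AlgHom.id k F) ρ Function.surjective_id hρ
    haveI : IsLocalRing (F ⊗[k] A) := by
      haveI : (RingHom.ker ρ').IsMaximal := RingHom.ker_isMaximal_of_surjective ρ' hρ'
      haveI : Nontrivial (F ⊗[k] A) := ρ'.toRingHom.domain_nontrivial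
      refine IsLocalRing.of_unique_max_ideal ⟨RingHom.ker ρ', inferInstance, fun M hM => ?_⟩
      letI : Algebra A (F ⊗[k] A) := Algebra.TensorProduct.rightAlgebra
      haveI : Module.Finite A (A ⊗[k] F) := inferInstance
      haveI : Algebra.IsIntegral A (A ⊗[k] F) := Algebra.IsIntegral.of_finite A _
      let c₀ := (Algebra.TensorProduct.comm k F A).symm.toRingEquiv
      haveI : (M.comap c₀.toRingHom).IsMaximal := Ideal.comap_isMaximal_of_surjective _ c₀.surjective
      have hm := IsLocalRing.eq_maximalIdeal (R := A)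
        (Ideal.isMaximal_comap_of_isIntegral_of_isMaximal (R := A) (M.comap c₀.toRingHom))
      refine ((RingHom.ker_isMaximal_of_surjective ρ' hρ').eq_of_le hM.ne_top ?_).symm
      rw [Algebra.TensorProduct.lTensor_ker ρ hρ, Ideal.map_le_iff_le_comap]
      intro z hz
      have hz' : z ∈ IsLocalRing.maximalIdeal A := by
        by_contra hu
        exact ((IsLocalRing.notMem_maximalIdeal.mp hu).map ρ).ne_zero hz
      rw [← hm] at hz'
      have h3 : c₀ (algebraMap A (A ⊗[k] F) z) ∈ M := hz'
      simpa [c₀] using h3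
    obtain ⟨s₁, hs₁⟩ := exists_lift_of_mem a b hab ha hb ρ' hρ' w₁ h₁
    obtain ⟨s₂, hs₂⟩ := exists_lift_of_mem a b hab ha hb ρ' hρ' w₂ h₂
    obtain ⟨s₀, hs₀⟩ := exists_lift_pow hcomm ρ w (s₁ * s₂) (by rw [MonObj.comp_mul, hs₁, hs₂, hw])
    exact ⟨s₀, by rw [hs₀, hdim]⟩
  let D := f.totalDegree + 2
  let e := Module.finrank k κ
  have he : 0 < e := Module.finrank_pos
  let l₁ := 1 + D * e
  let l₂ := 1 + D * e * l₁
  have hD : D ≤ D * e := Nat.le_mul_of_pos_right D he
  have h1 : w ^ l₁ ∈ H := key l₁ (by omega) (Nat.coprime_add_mul_right_left _ _ _ |>.mpr (Nat.coprime_one_left _))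
  have h2 : w ^ l₂ ∈ H := key l₂ (by have : D * e ≤ D * e * l₁ := Nat.le_mul_of_pos_right _ (by omega); omega) (by
    show (1 + D * e * l₁).Coprime e
    rw [Nat.mul_right_comm]
    exact Nat.coprime_add_mul_right_left _ _ _ |>.mpr (Nat.coprime_one_left _))
  have hcop : l₁.Coprime l₂ := (Nat.coprime_add_mul_right_right _ _ _).mpr (Nat.coprime_one_right _)
  have hb1 : ((l₁.gcdA l₂ : ℤ) * l₁ + l₁.gcdB l₂ * l₂) = 1 := by
    have := Nat.gcd_eq_gcd_ab l₁ l₂
    rw [hcop] at this
    rw [mul_comm, mul_comm (l₁.gcdB l₂)]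
    exact_mod_cast this.symm
  have h3 : w ^ (((l₁.gcdA l₂ : ℤ) * l₁ + l₁.gcdB l₂ * l₂)) ∈ H := by
    rw [zpow_add]
    refine H.mul_mem ?_ ?_ <;> rw [mul_comm, zpow_mul, zpow_natCast]
    · exact H.zpow_mem h1 _
    · exact H.zpow_mem h2 _
  rwa [hb1, zpow_one] at h3

set_option backward.isDefEq.respectTransparency false in
/-- (viii) ⇒ (iii): let k be a field and T an isotrivial k-torus (isomorphic to a split torus of some
rank after one finite étale surjective base change) which is retract rational over k: there are a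
nonempty open subscheme U of T, an open subscheme Y of an affine space over k and k-morphisms U → Y
→ U whose composite is the identity of U. Then for every local k-algebra A with residue field κ the
reduction map T(A) → T(κ) is surjective: every k-morphism Spec κ → T factors through an A-point of
T. -/
theorem result
    (k : Type u) [Field k] (T : Over (Spec (CommRingCat.of k))) [GrpObj T]
    (hT : ∃ r : ℕ, TwC.Locally (Spec (CommRingCat.of k)) .finiteEtale
        (fun S' g => Red.IsSplitTorusWith (Fin r → ℤ) (Red.bc g T)))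
    (hret : ∃ (U : T.left.Opens) (n : ℕ) (Y : (Spec (CommRingCat.of (MvPolynomial (Fin n) k))).Opens)
        (a : (U : Scheme.{u}) ⟶ (Y : Scheme.{u})) (b : (Y : Scheme.{u}) ⟶ (U : Scheme.{u})),
        (U : Set T.left).Nonempty ∧ a ≫ b = 𝟙 (U : Scheme.{u}) ∧
        a ≫ Y.ι ≫ Spec.map (CommRingCat.ofHom (algebraMap k (MvPolynomial (Fin n) k))) = U.ι ≫ T.hom ∧
        b ≫ U.ι ≫ T.hom = Y.ι ≫ Spec.map (CommRingCat.ofHom (algebraMap k (MvPolynomial (Fin n) k)))) :
    ∀ (A : Type u) [CommRing A] [IsLocalRing A] [Algebra k A]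
        (u : Spec (CommRingCat.of (IsLocalRing.ResidueField A)) ⟶ T.left),
        u ≫ T.hom = Spec.map (CommRingCat.ofHom ((IsLocalRing.residue A).comp (algebraMap k A))) →
        ∃ s : Spec (CommRingCat.of A) ⟶ T.left, s ≫ T.hom = Spec.map (CommRingCat.ofHom (algebraMap k A)) ∧
          Spec.map (CommRingCat.ofHom (IsLocalRing.residue A)) ≫ s = u := by
  intro A _ _ _ u hu
  obtain ⟨U, n, Y, a, b, hUne, hab, ha, hb⟩ := hret
  have hTt := isTorus_of_finiteEtale hT
  haveI : ConnectedSpace ↥T.left := S8197.connectedSpace_torus hTt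
  haveI : IsAffineHom T.hom := (TransLib.multTypeFT_essFree (Sga3xB.isMultTypeFT_of_isTorus hTt)).1
  haveI : IsAffine T.left := isAffine_of_isAffineHom T.hom
  let κ := IsLocalRing.ResidueField A
  let ρ : A →ₐ[k] κ := { IsLocalRing.residue A with commutes' := fun _ => rfl }
  let w : AffineHopf.sp k κ ⟶ T := Over.homMk u (hu.trans (by rfl))
  suffices h : ∃ s : AffineHopf.sp k A ⟶ T, AffineHopf.spMap ρ ≫ s = w by
    obtain ⟨s, hs⟩ := h
    exact ⟨s.left, Over.w s, congrArg CommaMorphism.left hs⟩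
  have hρ : Function.Surjective ρ := IsLocalRing.residue_surjective
  by_cases hfin : Finite κ
  · exact exists_lift_finite (fun Y a b => MultTypeComm.points_comm (Sga3xB.isMultTypeFT_of_isTorus hTt) a b)
      hUne a b hab ha hb ρ hρ w
  haveI : Infinite κ := not_finite_iff_infinite.mp hfin
  obtain ⟨f, hf, hdec⟩ := exists_polynomial a b hab ha hb hUne w
  obtain ⟨c, hc⟩ := exists_eval₂_ne_zero (RingHom.id κ) hf (Or.inr inferInstance)
  obtain ⟨w₁, w₂, h₁, h₂, hw⟩ := hdec κ (AlgHom.id k κ) c hc
  obtain ⟨s₁, hs₁⟩ := exists_lift_of_mem a b hab ha hb ρ hρ w₁ h₁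
  obtain ⟨s₂, hs₂⟩ := exists_lift_of_mem a b hab ha hb ρ hρ w₂ h₂
  refine ⟨s₁ * s₂, ?_⟩
  rw [MonObj.comp_mul, hs₁, hs₂, hw, AffineHopf.spMap_id, Category.id_comp]

end Groth.Agent.S18697
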