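import Groth.Statements.S18721
import Groth.Agent.ProjDualR.SkDual

set_option autoImplicit false
universe u
open CategoryTheory
attribute [local instance] HasDerivedCategory.standard
open QGor

namespace Groth.Agent.S18721

/-- Affine form. Let k be a field and A a finitely generated k-algebra, equidimensional of Krull
dimension n, and let ω be a dualizing complex of A normalized at every maximal ideal m (no nonzero
morphisms A/m → ω[i] in D(A) for i ≠ 0 — the canonical dualizing complex of Spec A over k). Put Z_i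
= Supp H^{-i}(ω). Then H^{-i}(ω) = 0 for every i > n, and for every k′ ≥ 1: A satisfies (S_{k′}) if
and only if dim Z_i ≤ i − k′ for all i ≠ n, where for i < k′ this means H^{-i}(ω) = 0. -/
theorem result (k A : Type u) [Field k] [CommRing A]
    [Algebra k A] (hft : Algebra.FiniteType k A) [IsNoetherianRing A]
    (hEq : EGA4.IsEquidim A) (n : ℕ) (hd : ringKrullDim A = n)
    (ω : Dual.D A) (hω : Dual.IsDualizing A ω)
    (hnorm : ∀ (m : Ideal A) (_ : m.IsMaximal) (i : ℤ), i ≠ 0 → Subsingleton (Dual.inD A (A ⧸ m) ⟶ ω⟦i⟧)) :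
    (∀ i : ℕ, n < i → Subsingleton (Dual.HD A ω (-(i : ℤ)))) ∧
    ∀ k' : ℕ, 1 ≤ k' →
      (LocCoh.HasSk k' A A ↔
        ∀ i : ℕ, i ≠ n →
          (i < k' → Subsingleton (Dual.HD A ω (-(i : ℤ)))) ∧
          (k' ≤ i → Module.supportDim A (Dual.HD A ω (-(i : ℤ))) ≤ ((i - k' : ℕ) : WithBot ℕ∞))) := by
  obtain ⟨m, hm, hmono, hmax, hdim⟩ := Groth.Agent.ProjDualR.SkDual.exists_degree hω hnorm
  have hann : Module.annihilator A A = ⊥ := Module.annihilator_eq_bot.2 inferInstance
  have hM : EGA4.IsEquidimModule A A := fun p hp => by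
    rw [hann] at hp
    rw [hEq p hp, Module.supportDim_self_eq_ringKrullDim]
  have hδ : Module.supportDim A A = n := by rw [Module.supportDim_self_eq_ringKrullDim, hd]
  have hE := fun i : ℕ => Groth.Agent.KFlatLib.exists_homRingLEquiv ω (-(i : ℤ))
  refine ⟨fun i hi => ?_, fun k' hk' => ?_⟩
  · rw [← Module.support_eq_empty_iff (R := A)]
    refine Set.eq_empty_of_forall_notMem fun p hp => ?_
    obtain ⟨e⟩ := hE i
    rw [← e.support_eq] at hp
    obtain ⟨c, d, hc, hdd⟩ := Groth.Agent.DualityLC.exists_depth_dim p A (Groth.Agent.DualityLC.mem_support_self p)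
    have := ((Groth.Agent.DualityLC.ext_range_at hω hm p A (Groth.Agent.DualityLC.mem_support_self p) c d hc hdd).1 _
      (Module.mem_support_iff.1 hp)).1
    have := Groth.Agent.ProjDualR.SkDual.extDegree_sub_dim A hω hm hmono hmax hdim hM n hδ p
      (Groth.Agent.DualityLC.mem_support_self p) d hdd
    omega
  · rw [Groth.Agent.ProjDualR.SkDual.hasSk_iff_supportDim A hω hm hmono hmax hdim hM n hδ k' hk']
    constructor
    · intro h i hi
      obtain ⟨e⟩ := hE i
      obtain ⟨h1, h2⟩ := h (-(i : ℤ)) (by omega)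
      refine ⟨fun hlt => ?_, fun hle => ?_⟩
      · haveI := h1 (by omega)
        exact e.symm.toEquiv.subsingleton
      · rw [← Module.supportDim_eq_of_equiv e]
        refine (h2 (by omega)).trans ?_
        exact_mod_cast (show (-(-(i : ℤ)) - (k' : ℤ)).toNat ≤ i - k' by omega)
    · intro h j hj
      by_cases hpos : j ≤ 0
      · obtain ⟨i, rfl⟩ : ∃ i : ℕ, j = -(i : ℤ) := ⟨(-j).toNat, by omega⟩
        obtain ⟨e⟩ := hE i
        obtain ⟨h1, h2⟩ := h i (by omega)
        refine ⟨fun hlt => ?_, fun hle => ?_⟩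
        · haveI := h1 (by omega)
          exact e.toEquiv.subsingleton
        · rw [Module.supportDim_eq_of_equiv e]
          refine (h2 (by omega)).trans ?_
          exact_mod_cast (show i - k' ≤ (-(-(i : ℤ)) - (k' : ℤ)).toNat by omega)
      · refine ⟨fun _ => ?_, fun hle => absurd hle (by omega)⟩
        rw [← Module.support_eq_empty_iff (R := A)]
        refine Set.eq_empty_of_forall_notMem fun p hp => ?_
        obtain ⟨c, d, hc, hdd⟩ := Groth.Agent.DualityLC.exists_depth_dim p A (Groth.Agent.DualityLC.mem_support_self p)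
        have := ((Groth.Agent.DualityLC.ext_range_at hω hm p A (Groth.Agent.DualityLC.mem_support_self p) c d hc hdd).1 _
          (Module.mem_support_iff.1 hp)).2
        obtain ⟨ε, -, hε⟩ := hdim p
        omega

end Groth.Agent.S18721
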