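import Groth.Statements.S1874
import Groth.Agent.IntMultLib.Proper
import Groth.Agent.IntMultLib.LocalAlg
import Groth.Agent.IntMultLib.Positivity

set_option autoImplicit false
universe u
open CategoryTheory AlgebraicGeometry
attribute [local instance] HasDerivedCategory.standard
open IntMult

namespace Groth.Agent.S1874

/-- Suppose the ideal of V in O_{X,ξ} is generated by a regular sequence g₁, …, g_c. Then c! ·
length(O_{W,ξ}/(g₁, …, g_c)^t O_{W,ξ}) / t^c tends to e(X, V·W, Z) as t → ∞ (so e is c! times the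
leading coefficient of that Hilbert polynomial), and e(X, V·W, Z) > 0. Here X is a nonsingular
variety over an algebraically closed field K (smooth, separated, of finite type, integral), V and W
are closed subvarieties given by quasi-coherent ideal sheaves with integral subschemes, of
dimensions r and s with dim X = n, intersecting properly, and ξ is the generic point of an
irreducible component Z of V ∩ W; e(X, V·W, Z) is the alternating sum of lengths of Tor over
O_{X,ξ}. -/
theorem result (K : Type u) [Field K] [IsAlgClosed K] (X : Scheme.{u}) (f : X ⟶ Spec (CommRingCat.of K)) [Smooth f] [IsSeparated f] [QuasiCompact f] [IsIntegral X] (IV IW : X.IdealSheafData) [IsIntegral IV.subscheme] [IsIntegral IW.subscheme] (n r s : ℕ) (hn : topologicalKrullDim X = n) (hr : topologicalKrullDim IV.support = r) (hs : topologicalKrullDim IW.support = s) (hprop : IntMult.ProperInt (IV.support : Set X) (IW.support : Set X) n r s) (ξ : X) (hξV : ξ ∈ IV.support) (hξW : ξ ∈ IW.support) (hmax : ∀ ξ' : X, ξ' ∈ IV.support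 → ξ' ∈ IW.support → ξ' ⤳ ξ → ξ' = ξ) (c : ℕ) (g : Fin c → ↑(X.presheaf.stalk ξ)) (hg : IntMult.stalkIdeal IV ξ = Ideal.span (Set.range g)) (hreg : RingTheory.Sequence.IsRegular (↑(X.presheaf.stalk ξ)) (List.ofFn g)) : Filter.Tendsto (fun t : ℕ => (c.factorial : ℝ) * ((Module.length (X.presheaf.stalk ξ) (↑(X.presheaf.stalk ξ) ⧸ (IntMult.stalkIdeal IW ξ ⊔ IntMult.stalkIdeal IV ξ ^ t))).toNat : ℝ) / (t : ℝ) ^ c) Filter.atTop (nhds (IntMult.mult IV IW ξ : ℝ)) ∧ 0 < IntMult.mult IV IW ξ := by
  obtain ⟨hR, hpV, hpW, hrad, d, a, b, hd, ha, hb, hab⟩ :=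
    IntMultLib.local_data f IV IW hn hr hs hprop hξV hξW hmax
  haveI := hR
  rw [hg] at ha hrad
  haveI := hpW
  let R : Type u := X.presheaf.stalk ξ
  let Q : Ideal R := IntMult.stalkIdeal IW ξ
  have hls : ∀ J : Ideal R, Module.length R ((R ⧸ Q) ⧸ J • (⊤ : Submodule R (R ⧸ Q))) =
      Module.length R (R ⧸ (J ⊔ Q)) := fun J =>
    (TensorProduct.quotTensorEquivQuotSMul (R ⧸ Q) J).length_eq.symm.trans
      (IntMultLib.length_quot_tensor_quot J Q)
  have hfin : Module.length R ((R ⧸ Q) ⧸ Ideal.span (Set.range g) • (⊤ : Submodule R (R ⧸ Q))) ≠ ⊤ := by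
    rw [hls]
    refine HSLib.length_ne_top_of_forall_isMaximal fun p hp => ?_
    rw [Module.support_eq_zeroLocus, Ideal.annihilator_quotient] at hp
    have hle : IsLocalRing.maximalIdeal R ≤ p.asIdeal := hrad ▸ p.2.radical_le_iff.2 hp
    exact (IsLocalRing.maximalIdeal.isMaximal R).eq_of_le p.2.ne_top hle ▸ inferInstance
  have h := ringKrullDim_add_length_eq_ringKrullDim_of_isRegular _ hreg
  have he : Ideal.ofList (List.ofFn g) = Ideal.span (Set.range g) :=
    congrArg Ideal.span (Set.ext fun x => List.mem_ofFn)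
  rw [ringKrullDim_eq_of_ringEquiv (Ideal.quotEquivOfEq he), ha, hd, List.length_ofFn] at h
  have hac : a + c = d := by exact_mod_cast h
  have hcb : c = b := by omega
  have hdim : Module.supportDim R (R ⧸ Q) = c := by
    rw [Module.supportDim_quotient_eq_ringKrullDim, hcb]
    exact hb
  have hgm : ∀ i, g i ∈ IsLocalRing.maximalIdeal R := fun i =>
    hrad ▸ Ideal.le_radical (Ideal.mem_sup_left (Ideal.subset_span (Set.mem_range_self i)))
  have hmult : IntMult.mult IV IW ξ = IntMultLib.kchi (R ⧸ Q) g := by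
    rw [IntMult.mult, IntMultLib.chi_symm, hg]
    exact IntMultLib.chi_quot_eq_kchi g hreg.toIsWeaklyRegular _
  rw [hmult]
  refine ⟨(IntMultLib.tendsto_samuel (R ⧸ Q) g hfin).congr fun t => ?_,
    IntMultLib.kchi_pos (R ⧸ Q) g hgm hfin hdim⟩
  rw [hls, hg, sup_comm]

end Groth.Agent.S1874
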