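import Groth.Statements.S18759
import Groth.Agent.ModPairLib95.ApproxSystem
import Groth.Agent.ModPairLib95.Descend
import Groth.Agent.LimitsH94.Approx.Eventually

set_option autoImplicit false
universe u
open CategoryTheory CategoryTheory.Limits AlgebraicGeometry TopologicalSpace
open ModPair

namespace Groth.Agent.S18759

open CategoryTheory CategoryTheory.Limits AlgebraicGeometry
set_option backward.isDefEq.respectTransparency false
set_option backward.isDefEq.respectTransparency.types false

/-- Let (X, I_X) and (Y, I_Y) be modulus pairs with X, Y quasi-compact and quasi-separated, and f : X ⟶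
Y an ambient morphism (modulus condition I_X ≤ I_Y.comap f) which is locally of finite type. Then X
⟶ Y is a cofiltered limit of Y-schemes X_i such that: (1) every X_i ⟶ Y is of finite presentation
and all transition maps X_i ⟶ X_j and projections X ⟶ X_i are closed immersions; (2) every X_i
carries a locally principal quasi-coherent ideal sheaf J_i whose pull-back to X is I_X and whose
pull-back along each transition map X_i ⟶ X_j of J_j is J_i; (3) every X_i ⟶ Y satisfies the modulus
condition for J_i, and if f is minimal all X_i ⟶ Y are minimal; (4) if f is proper all X_i ⟶ Y are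
proper; (5) if f is minimal and an isomorphism over the interior of Y, every X_i ⟶ Y is an
isomorphism over the interior of Y. (Part (5) is given here in the minimal case, where the interior
of (X_i, J_i) is the preimage of the interior of Y.) -/
theorem result {X Y : Scheme.{u}}
    [CompactSpace X] [QuasiSeparatedSpace X] [CompactSpace Y] [QuasiSeparatedSpace Y]
    (IX : X.IdealSheafData) (IY : Y.IdealSheafData) (hX : BlowUp.IsEffCartierIdeal IX)
    (hY : BlowUp.IsEffCartierIdeal IY) (f : X ⟶ Y) (hf : ModPair.IsAmbient IX IY f)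
    [LocallyOfFiniteType f] :
    ∃ (I : Type u) (_ : SmallCategory I) (_ : IsCofiltered I) (D : I ⥤ Over Y) (c : Cone D)
      (_ : IsLimit c) (e : c.pt ≅ Over.mk f) (J : ∀ i, (D.obj i).left.IdealSheafData),
      (∀ i, LocallyOfFinitePresentation (D.obj i).hom ∧ QuasiCompact (D.obj i).hom ∧
          QuasiSeparated (D.obj i).hom) ∧
        (∀ (i j : I) (t : i ⟶ j), IsClosedImmersion (D.map t).left) ∧
        (∀ i, IsClosedImmersion (c.π.app i).left) ∧
        (∀ i, Curv2.IsLocPrincipal (J i)) ∧
        (∀ i, IX = (J i).comap (e.inv.left ≫ (c.π.app i).left)) ∧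
        (∀ (i j : I) (t : i ⟶ j), J i = (J j).comap (D.map t).left) ∧
        (∀ i, ModPair.IsAmbient (J i) IY (D.obj i).hom) ∧
        (ModPair.IsMinimal IX IY f → ∀ i, ModPair.IsMinimal (J i) IY (D.obj i).hom) ∧
        (IsProper f → ∀ i, IsProper (D.obj i).hom) ∧
        (ModPair.IsMinimal IX IY f → IsIso (f ∣_ ModPair.interior IY) →
          ∀ i, IsIso ((D.obj i).hom ∣_ ModPair.interior IY)) := by
  classical
  obtain ⟨P, i, p, -, hp, hpc, hpq, hsep, hcl, hip⟩ := Groth.Agent.LimitsH94.Approx.exists_factor f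
  haveI : IsClosedImmersion i := hcl inferInstance
  haveI : CompactSpace P := QuasiCompact.compactSpace_of_compactSpace p
  haveI : QuasiSeparatedSpace P := quasiSeparatedSpace_of_quasiSeparated p
  have hYfg : Groth.Agent.MorLib.IdealFG.IsFG (IY.comap p) :=
    Groth.Agent.MorLib.IdealFG.isFG_comap (Groth.Agent.ModPairLib95.fg_of_isLocPrincipal hY) p
  obtain ⟨M, hM, hMi, hMmin⟩ : ∃ M : P.IdealSheafData, Groth.Agent.MorLib.IdealFG.IsFG M ∧ M.comap i = IX ∧
      (ModPair.IsMinimal IX IY f → M = IY.comap p) := by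
    by_cases hmin : ModPair.IsMinimal IX IY f
    · exact ⟨IY.comap p, hYfg, by rw [← Scheme.IdealSheafData.comap_comp, hip]; exact hmin.symm, fun _ => rfl⟩
    · obtain ⟨M, hM, hMi⟩ := Groth.Agent.ModPairLib95.exists_fg_comap_eq i IX
        (Groth.Agent.ModPairLib95.fg_of_isLocPrincipal hX)
      exact ⟨M, hM, hMi, fun h => absurd h hmin⟩
  obtain ⟨K₁, hK₁⟩ := Groth.Agent.ModPairLib95.exists_stage_isLocPrincipal i M hM
    (hMi.symm ▸ _root_.ModPairLib.isLocPrincipal_of_isEffCartier hX)
  obtain ⟨K₂, hK₂⟩ := Groth.Agent.ModPairLib95.exists_stage_comap_le' i M (IY.comap p) hM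
    (by rw [hMi, ← Scheme.IdealSheafData.comap_comp, hip]; exact hf)
  obtain ⟨K₃, hK₃⟩ : ∃ K₀ : Groth.Agent.MorLib.IdealFG.Sub i.ker, IsProper f →
      ∀ K, K₀ ≤ K → IsProper (K.1.subschemeι ≫ p) := by
    by_cases hpr : IsProper f
    · haveI := hsep inferInstance
      haveI : UniversallyClosed (i ≫ p) := by rw [hip]; infer_instance
      obtain ⟨K, hK⟩ := Groth.Agent.LimitsH94.Approx.exists_stage_isProper i p
      exact ⟨K, fun _ => hK⟩
    · exact ⟨Classical.arbitrary _, fun h => absurd h hpr⟩
  obtain ⟨K₄, hK₄⟩ : ∃ K₀ : Groth.Agent.MorLib.IdealFG.Sub i.ker, IsIso (f ∣_ ModPair.interior IY) →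
      ∀ K, K₀ ≤ K → IsIso ((K.1.subschemeι ≫ p) ∣_ ModPair.interior IY) := by
    by_cases his : IsIso (f ∣_ ModPair.interior IY)
    · haveI := his
      haveI := _root_.ModPairLib.isAffineHom_interior
        (_root_.ModPairLib.isLocPrincipal_of_isEffCartier hY)
      obtain ⟨K, hK⟩ := Groth.Agent.ModPairLib95.exists_stage_isIso_restrict i p f hip (ModPair.interior IY)
        (isCompact_iff_compactSpace.mpr (QuasiCompact.compactSpace_of_compactSpace (ModPair.interior IY).ι))
      exact ⟨K, fun _ => hK⟩
    · exact ⟨Classical.arbitrary _, fun h => absurd h his⟩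
  obtain ⟨K₀, hK₀⟩ := Finset.exists_le ({K₁, K₂, K₃, K₄} : Finset (Groth.Agent.MorLib.IdealFG.Sub i.ker))
  obtain ⟨J, _, _, _, D, π, hlim, z, hzi, hzw, hz⟩ :=
    Groth.Agent.ModPairLib95.exists_system_above i p f hip K₀
  have hπz : ∀ k, (π.app k).left ≫ z k = i := hzi
  refine ⟨Jᵒᵖ, inferInstance, inferInstance, D, Cone.mk (Over.mk f) π, hlim, Iso.refl _,
    fun k => M.comap (z k), fun k => ?_, fun k l a => ?_, fun k => ?_, fun k => ?_, fun k => ?_,
    fun k l a => ?_, fun k => ?_, fun hmin k => ?_, fun hpr k => ?_, fun _ his k => ?_⟩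
  all_goals first
    | (obtain ⟨K, e, hKle, hez, hzp⟩ := hz k)
  · haveI := Groth.Agent.MorLib.IdealFG.lfp_subschemeι K.2.2
    haveI : LocallyOfFinitePresentation (z k) := by rw [← hez]; infer_instance
    haveI : QuasiCompact (z k) := by rw [← hez]; infer_instance
    haveI : QuasiSeparated (z k) := by rw [← hez]; infer_instance
    rw [← hzp]
    exact ⟨inferInstance, inferInstance, inferInstance⟩
  · obtain ⟨L, e', -, hez', -⟩ := hz l
    haveI : IsClosedImmersion (z l) := by rw [← hez']; infer_instance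
    haveI : IsClosedImmersion (z k) := by rw [← hez]; infer_instance
    haveI : IsClosedImmersion ((D.map a).left ≫ z l) := by rw [hzw]; infer_instance
    exact IsClosedImmersion.of_comp (D.map a).left (z l)
  · haveI : IsClosedImmersion (z k) := by rw [← hez]; infer_instance
    haveI : IsClosedImmersion ((π.app k).left ≫ z k) := by rw [hπz]; infer_instance
    exact IsClosedImmersion.of_comp (π.app k).left (z k)
  · have h := hK₁ K ((hK₀ K₁ (by simp)).trans hKle)
    show Curv2.IsLocPrincipal (M.comap (z k))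
    rw [← hez, Scheme.IdealSheafData.comap_comp]
    intro x hx
    obtain ⟨V, hxV, a, ha⟩ := h (e.hom x) (by
      rw [Scheme.IdealSheafData.support_comap] at hx
      exact hx)
    refine ⟨⟨e.hom ⁻¹ᵁ V.1, V.2.preimage _⟩, hxV, (e.hom.app V.1).hom a, ?_⟩
    rw [Groth.Agent.ModPairLib95.ideal_comap_closed, ha, Ideal.map_span, Set.image_singleton]
  · show IX = (M.comap (z k)).comap (𝟙 X ≫ (π.app k).left)
    rw [Category.id_comp, ← Scheme.IdealSheafData.comap_comp, hπz, hMi]
  · rw [← Scheme.IdealSheafData.comap_comp, hzw]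
  · show M.comap (z k) ≤ IY.comap (D.obj k).hom
    rw [← hzp, Scheme.IdealSheafData.comap_comp, ← hez, Scheme.IdealSheafData.comap_comp,
      Scheme.IdealSheafData.comap_comp]
    exact Scheme.IdealSheafData.comap_mono _ (hK₂ K ((hK₀ K₂ (by simp)).trans hKle))
  · show M.comap (z k) = IY.comap (D.obj k).hom
    rw [← hzp, hMmin hmin, Scheme.IdealSheafData.comap_comp]
  · haveI := hK₃ hpr K ((hK₀ K₃ (by simp)).trans hKle)
    rw [← hzp, ← hez, Category.assoc]
    infer_instance
  · haveI := hK₄ his K ((hK₀ K₄ (by simp)).trans hKle)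
    rw [← hzp, ← hez, Category.assoc, morphismRestrict_comp]
    haveI : IsIso (e.hom ∣_ (K.1.subschemeι ≫ p) ⁻¹ᵁ ModPair.interior IY) := inferInstance
    infer_instance

end Groth.Agent.S18759
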