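import Groth.Statements.S18746
import Groth.Agent.S18759
import Groth.Agent.S0591
import Groth.Agent.S2074
import Groth.Agent.MorLib.Descend
import Groth.Agent.MorLib.DescendIso
import Groth.Agent.ModPairLib.Limit
import Groth.Agent.ModPairLib.Closure
import Groth.Agent.ModPairLib.MProd
import Groth.Agent.ModPairLib.Dense

set_option autoImplicit false
universe u
open CategoryTheory CategoryTheory.Limits AlgebraicGeometry TopologicalSpace
open ModPair

namespace Groth.Agent.S18746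

set_option backward.isDefEq.respectTransparency false
set_option backward.isDefEq.respectTransparency.types false

theorem transfer {P : MorphismProperty Scheme.{u}} [P.IsStableUnderBaseChange]
    {A A' X₀ T T' S : Scheme.{u}} {x : A ⟶ X₀} {q : A ⟶ T} {p₀ : X₀ ⟶ S} {a : T ⟶ S}
    (h : IsPullback x q p₀ a) {x' : A' ⟶ X₀} {q' : A' ⟶ T'} {a' : T' ⟶ S}
    (h' : IsPullback x' q' p₀ a') (b : T' ⟶ T) (hb : b ≫ a = a') (hq : P q) : P q' := by
  subst hb
  exact P.of_isPullback (IsPullback.of_right' h' h) hq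

theorem exists_stage_isProper {I : Type u} [SmallCategory I] [IsCofiltered I]
    (D : I ⥤ Scheme.{u}) (c : Cone D) (hc : IsLimit c)
    [∀ (i j : I) (t : i ⟶ j), IsAffineHom (D.map t)]
    (i₀ : I) [CompactSpace (D.obj i₀)] [QuasiSeparatedSpace (D.obj i₀)]
    {P₀ P : Scheme.{u}} (p₀ : P₀ ⟶ D.obj i₀) [LocallyOfFiniteType p₀] [QuasiCompact p₀]
    [QuasiSeparated p₀] (g : P ⟶ P₀) (p : P ⟶ c.pt) (sq : IsPullback g p p₀ (c.π.app i₀))
    [IsProper p] :
    ∃ (i : I) (φ : i ⟶ i₀), IsProper (pullback.snd p₀ (D.map φ)) := by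
  haveI : CompactSpace P₀ := QuasiCompact.compactSpace_of_compactSpace p₀
  haveI : QuasiSeparatedSpace P₀ := quasiSeparatedSpace_of_quasiSeparated p₀
  obtain ⟨i, φ, Xi, Yi, fi, gi, pY, pX, hYi, hXi, hfi⟩ :=
    Groth.Agent.S2074.result D c hc i₀ p₀ (𝟙 _) p (𝟙 c.pt) (c.π.app i₀) g
      (IsPullback.of_vert_isIso ⟨by simp⟩) sq
  haveI : IsIso gi := hYi.isIso_snd_of_isIso
  haveI := hfi
  have h := hXi.paste_vert hYi
  rw [Category.comp_id] at h
  exact ⟨i, φ, transfer (P := @IsProper) h (IsPullback.of_hasPullback _ _) (𝟙 _)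
    (Category.id_comp _) inferInstance⟩

theorem exists_stage_isIso {I : Type u} [SmallCategory I] [IsCofiltered I]
    (D : I ⥤ Scheme.{u}) (c : Cone D) (hc : IsLimit c)
    [∀ (i j : I) (t : i ⟶ j), IsAffineHom (D.map t)]
    (i₀ : I) [CompactSpace (D.obj i₀)] [QuasiSeparatedSpace (D.obj i₀)]
    {P₀ P : Scheme.{u}} (p₀ : P₀ ⟶ D.obj i₀) [LocallyOfFinitePresentation p₀] [QuasiCompact p₀]
    [QuasiSeparated p₀] (g : P ⟶ P₀) (p : P ⟶ c.pt) (sq : IsPullback g p p₀ (c.π.app i₀))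
    (U : (D.obj i₀).Opens) [QuasiCompact U.ι] (hp : IsIso (p ∣_ (c.π.app i₀ ⁻¹ᵁ U))) :
    ∃ (i : I) (φ : i ⟶ i₀), ∀ {k : I} (ψ : k ⟶ i),
      IsIso (pullback.snd p₀ (D.map (ψ ≫ φ)) ∣_ (D.map (ψ ≫ φ) ⁻¹ᵁ U)) := by
  haveI : ∀ {i j : I} (f : i ⟶ j), IsAffineHom (D.map f) := fun f => inferInstance
  haveI : CompactSpace (U : Scheme.{u}) := QuasiCompact.compactSpace_of_compactSpace U.ι
  haveI : QuasiCompact (p₀ ∣_ U) :=
    IsZariskiLocalAtTarget.restrict (P := @QuasiCompact) inferInstance U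
  haveI : QuasiSeparated (p₀ ∣_ U) :=
    IsZariskiLocalAtTarget.restrict (P := @QuasiSeparated) inferInstance U
  haveI : MorphismProperty.RespectsIso
      (@LocallyOfFinitePresentation : MorphismProperty Scheme.{u}) :=
    MorphismProperty.IsStableUnderBaseChange.respectsIso
  let π := c.π.app i₀
  have hA := (IsPullback.of_hasPullback (p₀ ∣_ U) (π ∣_ U)).paste_horiz
    (isPullback_morphismRestrict p₀ U).flip
  rw [morphismRestrict_ι] at hA
  have hB := (isPullback_morphismRestrict p (π ⁻¹ᵁ U)).flip.paste_horiz sq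
  have hiso : (MorphismProperty.isomorphisms Scheme.{u}) (pullback.snd (p₀ ∣_ U) (π ∣_ U)) :=
    transfer (P := MorphismProperty.isomorphisms Scheme.{u}) hB hA (𝟙 _) (Category.id_comp _) hp
  obtain ⟨i, φ, Xi, Yi, fi, gi, pY, pX, hYi, hXi, hfi⟩ :=
    Groth.Agent.MorLib.Desc.descend₂ D c hc
      (P := MorphismProperty.isomorphisms Scheme.{u}) (Q := @LocallyOfFinitePresentation)
      Groth.Agent.MorLib.Desc.core_iso (p₀ ∣_ U) U.ι
      (IsZariskiLocalAtTarget.restrict (P := @LocallyOfFinitePresentation) inferInstance U)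
      _ _ _ _ (isPullback_morphismRestrict π U) (IsPullback.of_hasPullback _ _) hiso
  refine ⟨i, φ, fun {k} ψ => ?_⟩
  let χ := D.map (ψ ≫ φ)
  have hR := (isPullback_morphismRestrict (pullback.snd p₀ χ) (χ ⁻¹ᵁ U)).flip.paste_horiz
    (IsPullback.of_hasPullback p₀ χ)
  have hS := hXi.paste_horiz (isPullback_morphismRestrict p₀ U).flip
  have w : (χ ∣_ U) ≫ U.ι = ((χ ⁻¹ᵁ U).ι ≫ D.map ψ) ≫ D.map φ := by
    rw [morphismRestrict_ι, Category.assoc, ← D.map_comp]
  exact transfer (P := MorphismProperty.isomorphisms Scheme.{u}) hS hR (hYi.lift _ _ w)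
    (by rw [hYi.lift_fst_assoc, morphismRestrict_ι]) hfi

theorem isIso_restrict_congr {X Y : Scheme.{u}} (f : X ⟶ Y) {U V : Y.Opens} (h : U = V)
    (hf : IsIso (f ∣_ U)) : IsIso (f ∣_ V) := h ▸ hf

theorem ker_open_eq {A B : Scheme.{u}} (ℓ : A ⟶ B) (O : B.Opens) [IsIso (ℓ ∣_ O)]
    [IsSchemeTheoreticallyDominant (ℓ ⁻¹ᵁ O).ι] : O.ι.ker = ℓ.ker := by
  have h : ((ℓ ∣_ O) ≫ O.ι).ker = ℓ.ker := by
    rw [morphismRestrict_ι, Scheme.Hom.ker_comp, Scheme.Hom.ker_eq_bot,
      Scheme.IdealSheafData.map_bot]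
  refine le_antisymm ((Scheme.Hom.le_ker_comp _ _).trans h.le) (h.ge.trans ?_)
  exact (Scheme.Hom.le_ker_comp (inv (ℓ ∣_ O)) _).trans (by rw [IsIso.inv_hom_id_assoc])

/-- Let (X_i, I_i) be a cofiltered system of quasi-compact quasi-separated schemes with quasi-coherent
ideal sheaves of effective Cartier divisors and affine, minimal transition morphisms, X its limit
with projections π_i and modulus I = I_i.comap π_i for all i, and s : Y ⟶ X an abstract admissible
blow-up of modulus pairs (I.comap s an effective Cartier ideal sheaf, s proper and an isomorphism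
over the interior of (X, I)). Then the blow-up descends: for some index i there are a scheme Y_i
with the ideal sheaf I_{Y_i} of an effective Cartier divisor, an abstract admissible blow-up s_i :
Y_i ⟶ X_i from (Y_i, I_{Y_i}) to (X_i, I_i), and an isomorphism over X between Y and the ambient
product of X and Y_i over X_i, namely the scheme-theoretic image of pr₁⁻¹(X°) ∩ pr₂⁻¹(Y_i°) in X
×_{X_i} Y_i. -/
theorem result {I : Type u}
    [SmallCategory I] [IsCofiltered I] (D : I ⥤ Scheme.{u}) (c : Cone D) (hc : IsLimit c)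
    [∀ (i j : I) (t : i ⟶ j), IsAffineHom (D.map t)]
    [∀ i, CompactSpace (D.obj i)] [∀ i, QuasiSeparatedSpace (D.obj i)]
    (J : ∀ i, (D.obj i).IdealSheafData) (hJ : ∀ i, BlowUp.IsEffCartierIdeal (J i))
    (hmin : ∀ (i j : I) (t : i ⟶ j), ModPair.IsMinimal (J i) (J j) (D.map t))
    (IX : c.pt.IdealSheafData) (hIX : ∀ i, IX = (J i).comap (c.π.app i))
    {Y : Scheme.{u}} (s : Y ⟶ c.pt) (hY : BlowUp.IsEffCartierIdeal (IX.comap s))
    (hs : ModPair.IsAdmBlowup (IX.comap s) IX s) :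
    ∃ (i : I) (Yi : Scheme.{u}) (IYi : Yi.IdealSheafData) (si : Yi ⟶ D.obj i),
      BlowUp.IsEffCartierIdeal IYi ∧ ModPair.IsAdmBlowup IYi (J i) si ∧
        ∃ e : Y ≅ ModPair.mprod (c.π.app i) si IX IYi,
          e.hom ≫ ModPair.mprodι (c.π.app i) si IX IYi ≫ pullback.fst (c.π.app i) si = s := by
  haveI : ∀ {i j : I} (f : i ⟶ j), IsAffineHom (D.map f) := fun f => inferInstance
  obtain ⟨i₀'⟩ : Nonempty I := IsCofiltered.nonempty
  have hX : BlowUp.IsEffCartierIdeal IX := by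
    rw [hIX i₀']; exact ModPairLib.isEffCartier_comap_π D c hc J hJ hmin i₀'
  haveI := isAffineHom_π_app D c hc i₀'
  haveI : CompactSpace c.pt := QuasiCompact.compactSpace_of_compactSpace (c.π.app i₀')
  haveI : QuasiSeparatedSpace c.pt := quasiSeparatedSpace_of_quasiSeparated (c.π.app i₀')
  obtain ⟨-, hsp, hsi⟩ := hs
  haveI := hsp
  haveI : CompactSpace Y := QuasiCompact.compactSpace_of_compactSpace s
  haveI : QuasiSeparatedSpace Y := quasiSeparatedSpace_of_quasiSeparated s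
  -- step 1: a finitely presented proper model
  obtain ⟨I', _, _, D', c', hc', e, J', hfp, -, hcl, -, -, -, -, -, hprop, hisoW⟩ :=
    Groth.Agent.S18759.result (IX.comap s) IX hY hX s (le_refl _)
  obtain ⟨i'⟩ : Nonempty I' := IsCofiltered.nonempty
  obtain ⟨hpfp, hpqc, hpqs⟩ := hfp i'
  have hPproper := hprop hsp i'
  have hPiso := hisoW rfl hsi i'
  haveI := hcl i'
  let P := (D'.obj i').left
  let p : P ⟶ c.pt := (D'.obj i').hom
  haveI : IsProper p := hPproper
  haveI : LocallyOfFinitePresentation p := hpfp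
  let jP : Y ⟶ P := e.inv.left ≫ (c'.π.app i').left
  haveI : IsClosedImmersion jP := inferInstanceAs (IsClosedImmersion (_ ≫ _))
  have hjp : jP ≫ p = s := Over.w (e.inv ≫ c'.π.app i')
  -- step 2: descend the model
  obtain ⟨i₀, P₀, p₀, g, h₀fp, h₀qc, h₀qs, sq⟩ := Groth.Agent.S0591.result D c hc P p
  haveI := h₀fp; haveI := h₀qc; haveI := h₀qs
  haveI := ModPairLib.isAffineHom_interior
    (ModPairLib.isLocPrincipal_of_isEffCartier (hJ i₀))
  have hU₀ : c.π.app i₀ ⁻¹ᵁ ModPair.interior (J i₀) = ModPair.interior IX := by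
    rw [ModPairLib.preimage_interior, ← hIX i₀]
  obtain ⟨i₁, φ₁, hi₁⟩ := exists_stage_isProper D c hc i₀ p₀ g p sq
  obtain ⟨i₂, φ₂, hi₂⟩ := exists_stage_isIso D c hc i₀ p₀ g p sq (ModPair.interior (J i₀))
    (isIso_restrict_congr p hU₀.symm hPiso)
  obtain ⟨i, ψ₁, ψ₂, hψ⟩ := IsCofiltered.cospan φ₁ φ₂
  let φ : i ⟶ i₀ := ψ₂ ≫ φ₂
  let Pi := pullback p₀ (D.map φ)
  let pi : Pi ⟶ D.obj i := pullback.snd p₀ (D.map φ)
  haveI hpi : IsProper pi :=
    transfer (P := @IsProper) (IsPullback.of_hasPullback p₀ (D.map φ₁))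
      (IsPullback.of_hasPullback p₀ (D.map φ)) (D.map ψ₁)
      (by rw [← D.map_comp, hψ]) hi₁
  have hUi : D.map φ ⁻¹ᵁ ModPair.interior (J i₀) = ModPair.interior (J i) := by
    rw [ModPairLib.preimage_interior]; exact congrArg ModPair.interior (hmin i i₀ φ).symm
  have hpiU : IsIso (pi ∣_ ModPair.interior (J i)) := isIso_restrict_congr pi hUi (hi₂ ψ₂)
  -- step 3: the scheme-theoretic image of the interior
  let Ui := ModPair.interior (J i)
  let U : Pi.Opens := pi ⁻¹ᵁ Ui
  haveI : IsAffineHom Ui.ι := ModPairLib.isAffineHom_interior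
    (ModPairLib.isLocPrincipal_of_isEffCartier (hJ i))
  haveI : QuasiCompact U.ι := MorphismProperty.of_isPullback (P := @QuasiCompact)
    (isPullback_morphismRestrict pi Ui) inferInstance
  let si : U.ι.image ⟶ D.obj i := U.ι.imageι ≫ pi
  let IYi := (J i).comap si
  haveI := ModPairLib.isSchemeTheoreticallyDominant_image U
  haveI := ModPairLib.quasiCompact_image U
  have hOY : U.ι.imageι ⁻¹ᵁ U = ModPair.interior IYi := by
    rw [← ModPairLib.preimage_interior]; rfl
  have hIYi : BlowUp.IsEffCartierIdeal IYi :=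
    ModPairLib.isEffCartier_of_dense
      ((ModPairLib.isLocPrincipal_of_isEffCartier (hJ i)).comap si) (U.ι.imageι ⁻¹ᵁ U) hOY.le
  haveI : IsProper si := inferInstanceAs (IsProper (_ ≫ _))
  haveI hsiU : IsIso (si ∣_ Ui) := by
    rw [morphismRestrict_comp]
    exact IsIso.comp_isIso' (ModPairLib.isIso_imageι_restrict U) hpiU
  -- step 4: the comparison with the product
  obtain ⟨gi, hgi⟩ : ∃ gi, IsPullback gi p pi (c.π.app i) := by
    have h' : IsPullback g p p₀ (c.π.app i ≫ D.map φ) := by rw [c.w]; exact sq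
    exact ⟨_, IsPullback.of_right' h' (IsPullback.of_hasPullback p₀ (D.map φ))⟩
  let π := c.π.app i
  let W := ModPair.interior IX
  have hW : π ⁻¹ᵁ Ui = W := by rw [ModPairLib.preimage_interior, ← hIX i]
  haveI : IsSchemeTheoreticallyDominant (s ⁻¹ᵁ W).ι := by
    have := ModPairLib.isSchemeTheoreticallyDominant_interior hY
    rwa [← ModPairLib.preimage_interior] at this
  have hlift : U.ι.imageι.ker ≤ (jP ≫ gi).ker := by
    have hr : Set.range ((s ⁻¹ᵁ W).ι ≫ jP ≫ gi) ⊆ Set.range U.ι := by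
      rw [Scheme.Opens.range_ι]
      rintro _ ⟨y, rfl⟩
      show pi (gi (jP y.1)) ∈ Ui
      rw [← Scheme.Hom.comp_apply, hgi.w, ← Scheme.Hom.comp_apply, reassoc_of% hjp]
      exact hW.ge y.2
    calc U.ι.imageι.ker = U.ι.ker := Scheme.IdealSheafData.ker_subschemeι _
      _ ≤ ((s ⁻¹ᵁ W).ι ≫ jP ≫ gi).ker := by
          rw [← IsOpenImmersion.lift_fac U.ι _ hr]; exact Scheme.Hom.le_ker_comp _ _
      _ = (jP ≫ gi).ker := by
          rw [Scheme.Hom.ker_comp, Scheme.Hom.ker_eq_bot, Scheme.IdealSheafData.map_bot]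
  let yi : Y ⟶ U.ι.image := IsClosedImmersion.lift U.ι.imageι (jP ≫ gi) hlift
  have hyi : yi ≫ U.ι.imageι = jP ≫ gi := IsClosedImmersion.lift_fac _ _ _
  have wl : s ≫ π = yi ≫ si := by
    simp only [si, reassoc_of% hyi, hgi.w, reassoc_of% hjp]; rfl
  let ℓ : Y ⟶ pullback π si := pullback.lift s yi wl
  let q : pullback π si ⟶ P := hgi.lift (pullback.snd π si ≫ U.ι.imageι) (pullback.fst π si)
    (by rw [Category.assoc]; exact pullback.condition.symm)
  have hq : q ≫ p = pullback.fst π si := hgi.lift_snd _ _ _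
  haveI : IsSeparated q := by
    have : IsSeparated (q ≫ p) := by rw [hq]; infer_instance
    exact IsSeparated.of_comp q p
  have hℓq : ℓ ≫ q = jP := by
    apply hgi.hom_ext
    · simp [q, ℓ, hyi]
    · simp [q, ℓ, hjp]
  haveI : IsClosedImmersion ℓ := by
    have : IsClosedImmersion (ℓ ≫ q) := by rw [hℓq]; infer_instance
    exact IsClosedImmersion.of_comp ℓ q
  have hℓs : ℓ ≫ pullback.fst π si = s := pullback.lift_fst _ _ _
  let O := ModPair.prodInterior π si IX IYi
  have hO : O = pullback.fst π si ⁻¹ᵁ W :=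
    ModPairLib.prodInterior_eq_fst (le_of_eq (hIX i)) rfl
  haveI hfstW : IsIso (pullback.fst π si ∣_ W) := by
    have hsn := ModPairLib.isIso_snd_restrict (p := si) (f := π) (IT := IX) (IS := J i)
      (hi := hsiU) (le_of_eq (hIX i))
    have : pullback.fst π si = (pullbackSymmetry π si).hom ≫ pullback.snd si π :=
      (pullbackSymmetry_hom_comp_snd π si).symm
    rw [this, morphismRestrict_comp]
    exact IsIso.comp_isIso' (IsZariskiLocalAtTarget.restrict
      (P := MorphismProperty.isomorphisms Scheme.{u}) (inferInstanceAs (IsIso _)) _) hsn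
  haveI : IsIso (ℓ ∣_ O) := by
    rw [hO]
    have h : IsIso ((ℓ ≫ pullback.fst π si) ∣_ W) := by rw [hℓs]; exact hsi
    rw [morphismRestrict_comp] at h
    exact IsIso.of_isIso_comp_right _ (pullback.fst π si ∣_ W)
  haveI : IsSchemeTheoreticallyDominant (ℓ ⁻¹ᵁ O).ι := by
    have hOl : ℓ ⁻¹ᵁ O = s ⁻¹ᵁ W := by
      rw [hO, ← Scheme.Hom.comp_preimage, hℓs]
    rw [hOl]; infer_instance
  have hker : (ModPair.mprodι π si IX IYi).ker = ℓ.ker :=
    (Scheme.IdealSheafData.ker_subschemeι _).trans (ker_open_eq ℓ O)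
  let a : Y ⟶ ModPair.mprod π si IX IYi := IsClosedImmersion.lift _ ℓ hker.le
  let b : ModPair.mprod π si IX IYi ⟶ Y := IsClosedImmersion.lift ℓ _ hker.ge
  have ha : a ≫ ModPair.mprodι π si IX IYi = ℓ := IsClosedImmersion.lift_fac _ _ _
  have hb : b ≫ ℓ = ModPair.mprodι π si IX IYi := IsClosedImmersion.lift_fac _ _ _
  refine ⟨i, U.ι.image, IYi, si, hIYi, ⟨rfl, inferInstance, hsiU⟩,
    ⟨a, b, ?_, ?_⟩, ?_⟩
  · rw [← cancel_mono ℓ, Category.assoc, hb, ha, Category.id_comp]
  · rw [← cancel_mono (ModPair.mprodι π si IX IYi), Category.assoc, ha, hb, Category.id_comp]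
  · show a ≫ ModPair.mprodι π si IX IYi ≫ pullback.fst π si = s
    rw [reassoc_of% ha, hℓs]

end Groth.Agent.S18746
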