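import Groth.Statements.S18754
import Groth.Agent.ModPairLib95.LimitFP

set_option autoImplicit false
universe u
open CategoryTheory CategoryTheory.Limits AlgebraicGeometry TopologicalSpace
open ModPair

namespace Groth.Agent.S18754

set_option backward.isDefEq.respectTransparency false
set_option backward.isDefEq.respectTransparency.types false

/-- Let (Y, I_Y) be a modulus pair with Y quasi-compact and quasi-separated, and let (X_i ⟶ Y) be a
cofiltered system of Y-schemes with affine transition morphisms such that every X_i is quasi-compact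
and quasi-separated, the pulled-back ideal I_Y.comap (X_i ⟶ Y) is the ideal of an effective Cartier
divisor, and X_i ⟶ Y is an abstract admissible blow-up of modulus pairs which is locally of finite
presentation. Let X be the limit of the system over Y and suppose that X ⟶ Y, with the pulled-back
modulus (assumed effective Cartier), is also an abstract admissible blow-up. Then X ⟶ Y is locally
of finite presentation: an abstract admissible blow-up of quasi-compact quasi-separated modulus
pairs which is not of finite presentation is never a limit of finitely presented ones. -/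
theorem result {Y : Scheme.{u}}
    [CompactSpace Y] [QuasiSeparatedSpace Y] (IY : Y.IdealSheafData) (hY : BlowUp.IsEffCartierIdeal IY)
    {I : Type u} [SmallCategory I] [IsCofiltered I] (D : I ⥤ Over Y) (c : Cone D) (hc : IsLimit c)
    [∀ (i j : I) (t : i ⟶ j), IsAffineHom (D.map t).left]
    [∀ i, CompactSpace (D.obj i).left] [∀ i, QuasiSeparatedSpace (D.obj i).left]
    (hI : ∀ i, BlowUp.IsEffCartierIdeal (IY.comap (D.obj i).hom))
    (hadm : ∀ i, ModPair.IsAdmBlowup (IY.comap (D.obj i).hom) IY (D.obj i).hom)
    [∀ i, LocallyOfFinitePresentation (D.obj i).hom]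
    (hX : BlowUp.IsEffCartierIdeal (IY.comap c.pt.hom))
    (hXadm : ModPair.IsAdmBlowup (IY.comap c.pt.hom) IY c.pt.hom) :
    LocallyOfFinitePresentation c.pt.hom := by
  let D' := D ⋙ Over.forget Y
  let c' := (Over.forget Y).mapCone c
  have hc' : IsLimit c' := isLimitOfPreserves _ hc
  haveI hA : ∀ (i j : I) (t : i ⟶ j), IsAffineHom (D'.map t) := fun i j t =>
    inferInstanceAs (IsAffineHom (D.map t).left)
  obtain ⟨i⟩ := IsCofiltered.nonempty (C := I)
  haveI : IsAffineHom (c'.π.app i) := by
    haveI : ∀ {i j : I} (t : i ⟶ j), IsAffineHom (D'.map t) := fun {i j} t => hA i j t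
    exact isAffineHom_π_app D' c' hc' i
  haveI : IsProper (c'.π.app i) := by
    haveI := (hadm i).2.1
    haveI : IsProper (c'.π.app i ≫ (D.obj i).hom) := by
      have e : c'.π.app i ≫ (D.obj i).hom = c.pt.hom := Over.w (c.π.app i)
      rw [e]; exact hXadm.2.1
    exact IsProper.of_comp (c'.π.app i) (D.obj i).hom
  haveI : IsFinite (c'.π.app i) := IsFinite.iff_isProper_and_isAffineHom.mpr ⟨inferInstance, inferInstance⟩
  haveI : CompactSpace (D'.obj i) := inferInstanceAs (CompactSpace (D.obj i).left)
  obtain ⟨j, φ, hj⟩ := Groth.Agent.ModPairLib95.exists_isClosedImmersion_π hc' i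
  let π : c.pt.left ⟶ (D.obj j).left := (c.π.app j).left
  haveI : IsClosedImmersion π := hj
  let s := (D.obj j).hom
  have e : π ≫ s = c.pt.hom := Over.w (c.π.app j)
  haveI : IsIso (s ∣_ ModPair.interior IY) := (hadm j).2.2
  have hiso : IsIso (π ∣_ (s ⁻¹ᵁ ModPair.interior IY)) := by
    have h : IsIso ((π ≫ s) ∣_ ModPair.interior IY) := by rw [e]; exact hXadm.2.2
    rw [morphismRestrict_comp] at h
    haveI := h
    exact IsIso.of_isIso_comp_right (π ∣_ (s ⁻¹ᵁ ModPair.interior IY)) (s ∣_ ModPair.interior IY)
  haveI : IsSchemeTheoreticallyDominant (s ⁻¹ᵁ ModPair.interior IY).ι := by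
    rw [ModPairLib.preimage_interior]
    exact ModPairLib.isSchemeTheoreticallyDominant_interior (hI j)
  have hker : π.ker = ⊥ := by
    refine le_bot_iff.mp ((Scheme.Hom.le_ker_comp
      (inv (π ∣_ (s ⁻¹ᵁ ModPair.interior IY)) ≫ (π ⁻¹ᵁ (s ⁻¹ᵁ ModPair.interior IY)).ι) π).trans ?_)
    rw [Category.assoc, ← morphismRestrict_ι, IsIso.inv_hom_id_assoc,
      Scheme.Hom.ker_eq_bot]
  haveI : IsIso π := IsClosedImmersion.isIso_iff_ker_eq_bot.mpr hker
  rw [← e]
  infer_instance

end Groth.Agent.S18754
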