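import Groth.Statements.S18776
import Groth.Agent.VBCurvesLib.Embed
import Groth.Agent.VBCurvesLib.RationalPoint
import Groth.Agent.S1536
import Groth.Agent.GrpSchLib.SmoothReduced
-- import your own Groth.Agent.* helpers here

set_option autoImplicit false
set_option linter.style.haveILetI false
set_option linter.unusedVariables false
set_option backward.isDefEq.respectTransparency false
set_option backward.isDefEq.respectTransparency.types false
universe u
open CategoryTheory CategoryTheory.Limits AlgebraicGeometry
open VBCurve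

namespace Groth.Agent.S18776

open Groth.Agent Groth.Agent.CurveBundle Groth.Agent.CurveSlope Groth.Agent.CurveStable Groth.Agent.VBCurvesLib

/-- Let k be a finite field and C a smooth proper geometrically integral curve over k (proper, smooth
and geometrically integral over k, of dimension one) of genus one, i.e. dim_k H^1(C, O_C) = 1, with
a k-rational point O (an elliptic curve over k). Let F and F' be finite locally free O_C-modules of
ranks r ≥ 1 and s ≥ 1 such that F is semistable in the sense that deg G · rk F ≤ deg F · rk G for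
every finite locally free submodule G of F of positive rank (the degree of a rank-n locally free
module being χ − n·χ(O_C)), and likewise for F'. Then for every finite locally free submodule G of F
⊗ F' of rank t ≥ 1 one has μ(G) − μ(F) − μ(F') ≤ 4, that is deg G · r · s ≤ t · (4 r s + deg F · s +
deg F' · r). (The published statement takes F and F' arbitrary; that form fails for F the direct sum
of invertible modules of degrees 5 and −5 and F' = O_C, so both are taken semistable here, as the
published argument requires.) -/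
theorem result (k : Type u) [Field k] [Finite k] (X : Scheme.{u}) [X.Over (Spec (CommRingCat.of k))]
    [IsProper (X ↘ Spec (CommRingCat.of k))] [Smooth (X ↘ Spec (CommRingCat.of k))]
    [GeometricallyIntegral (X ↘ Spec (CommRingCat.of k))] (hdim : topologicalKrullDim ↥X = 1)
    (hg : Curv2.genus k X = 1) (O : Spec (CommRingCat.of k) ⟶ X) (hO : O ≫ (X ↘ Spec (CommRingCat.of k)) = 𝟙 _)
    (F F' : X.Modules) (r s : ℕ) (hr : 0 < r) (hs : 0 < s)
    (hF : FlatMod.IsFinLocFreeOfRank r F) (hF' : FlatMod.IsFinLocFreeOfRank s F')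
    (hFss : (∀ (G : X.Modules) (r' : ℕ) (i : G ⟶ F), Mono i → 0 < r' → FlatMod.IsFinLocFreeOfRank r' G →
      Curv2.deg k X G r' * (r : ℤ) ≤ Curv2.deg k X F r * (r' : ℤ)))
    (hF'ss : (∀ (G : X.Modules) (r' : ℕ) (i : G ⟶ F'), Mono i → 0 < r' → FlatMod.IsFinLocFreeOfRank r' G →
      Curv2.deg k X G r' * (s : ℤ) ≤ Curv2.deg k X F' s * (r' : ℤ)))
    (G : X.Modules) (t : ℕ) (ht : 0 < t) (hG : FlatMod.IsFinLocFreeOfRank t G)
    (i : G ⟶ CohB1.tensorMod F F') [Mono i] :
    Curv2.deg k X G t * (r : ℤ) * (s : ℤ) ≤
      (t : ℤ) * (4 * (r : ℤ) * (s : ℤ) + Curv2.deg k X F r * (s : ℤ) + Curv2.deg k X F' s * (r : ℤ)) := by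
  haveI : GeometricallyConnected (X ↘ Spec (CommRingCat.of k)) := ⟨fun L _ y Z f1 f2 h => by
    haveI : IrreducibleSpace Z :=
      GeometricallyIrreducible.geometrically_irreducibleSpace (f := X ↘ Spec (CommRingCat.of k)) y f1 f2 h
    exact inferInstance⟩
  haveI := isIntegral_of_geometricallyConnected k (X := X)
  haveI := Groth.Agent.GrpSchLib.geometricallyReduced_of_smooth (X ↘ Spec (CommRingCat.of k))
  have hO' := Groth.Agent.S1536.result k X
  have hFf := isFinLocFree_of_rank hF
  rw [deg_eq_dg k hF, deg_eq_dg k hF', deg_eq_dg k hG]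
  obtain ⟨L, hL, hdL⟩ := exists_line_of_deg k hdim O hO (dg k F / (r : ℤ) + 2)
  obtain ⟨L', hL', hdL'⟩ := exists_line_of_deg k hdim O hO (dg k F' / (s : ℤ) + 2)
  have h1 := Int.mul_ediv_self_le (x := dg k F) (k := (r : ℤ)) (by omega)
  have h2 := Int.lt_mul_ediv_self_add (x := dg k F) (k := (r : ℤ)) (by omega)
  have h3 := Int.mul_ediv_self_le (x := dg k F') (k := (s : ℤ)) (by omega)
  have h4 := Int.lt_mul_ediv_self_add (x := dg k F') (k := (s : ℤ)) (by omega)
  obtain ⟨M, -, j, hj⟩ := exists_mono_copies k hO' hdim hg hr hF (fun G i hi hG => by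
    haveI := hi
    exact dg_mul_le_of_ss k hdim.le hF hFss i (coh_of_free k hG)) hL (by rw [hdL]; linarith)
  obtain ⟨M', -, j', hj'⟩ := exists_mono_copies k hO' hdim hg hs hF' (fun G i hi hG => by
    haveI := hi
    exact dg_mul_le_of_ss k hdim.le hF' hF'ss i (coh_of_free k hG)) hL' (by rw [hdL']; linarith)
  haveI := hj
  haveI := hj'
  have h := dg_le_of_mono_copies k hdim hFf hL hL' j j' i (isFinLocFree_of_rank hG)
  rw [hdL, hdL', rk_eq hG] at h
  have hrs : (0 : ℤ) ≤ (r : ℤ) * (s : ℤ) := by positivity
  have hts : (0 : ℤ) ≤ (t : ℤ) * (s : ℤ) := by positivity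
  have htr : (0 : ℤ) ≤ (t : ℤ) * (r : ℤ) := by positivity
  linear_combination mul_le_mul_of_nonneg_right h hrs + mul_le_mul_of_nonneg_left h1 hts +
    mul_le_mul_of_nonneg_left h3 htr

end Groth.Agent.S18776
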