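import Groth.Statements.S18787
import Groth.Agent.VBCurvesLib.AutCount
import Groth.Agent.S1536
import Groth.Agent.GrpSchLib.SmoothReduced
import Groth.Agent.Lib.CurveDeg
-- import your own Groth.Agent.* helpers here

set_option autoImplicit false
set_option linter.style.haveILetI false
set_option linter.unusedVariables false
set_option backward.isDefEq.respectTransparency false
set_option backward.isDefEq.respectTransparency.types false
universe u
open CategoryTheory CategoryTheory.Limits AlgebraicGeometry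
open VBCurve

namespace Groth.Agent.S18787

open CategoryTheory CategoryTheory.Limits AlgebraicGeometry

/-- Let k be a finite field and C a smooth proper geometrically integral curve over k (proper, smooth
and geometrically integral over k, of dimension one) of genus one, i.e. dim_k H^1(C, O_C) = 1, with
a k-rational point O (an elliptic curve over k); k is finite with q elements. Let L₁ and L₂ be
invertible O_C-modules of degree 0 (χ(L) − χ(O_C) = 0) and E = O_C ⊕ L₁ ⊕ L₂. Then the number of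
automorphisms of E is: (q³ − 1)(q³ − q)(q³ − q²) if L₁ ≅ L₂ ≅ O_C; (q − 1)³ (q + 1) q if L₁ ≅ L₂ and
L₁ ≇ O_C; (q − 1)³ (q + 1) q if L₁ ≇ L₂ and L₂ ≅ O_C; and (q − 1)³ if O_C, L₁, L₂ are pairwise
non-isomorphic. (In the third case the published value is (q − 1)² q³, and the published computation
gives (q − 1)³ q²; but there E ≅ O_C ⊕ O_C ⊕ L₁ with L₁ of degree 0 and non-trivial, whose
endomorphism ring is M₂(k) × k, so Aut(E) ≅ GL₂(k) × kˣ has (q − 1)³ (q + 1) q elements, the same
count as in the second case; the row states this corrected value.) (The published setting takes k of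
characteristic at least 5; the argument does not use this and the row allows every finite field.) -/
theorem result (k : Type u) [Field k] [Finite k] (X : Scheme.{u}) [X.Over (Spec (CommRingCat.of k))]
    [IsProper (X ↘ Spec (CommRingCat.of k))] [Smooth (X ↘ Spec (CommRingCat.of k))]
    [GeometricallyIntegral (X ↘ Spec (CommRingCat.of k))] (hdim : topologicalKrullDim ↥X = 1)
    (hg : Curv2.genus k X = 1) (O : Spec (CommRingCat.of k) ⟶ X) (hO : O ≫ (X ↘ Spec (CommRingCat.of k)) = 𝟙 _)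
    (L₁ L₂ : X.Modules) (hL₁ : PicF.IsInvertible L₁) (hL₂ : PicF.IsInvertible L₂)
    (hd₁ : Curv2.deg k X L₁ 1 = 0) (hd₂ : Curv2.deg k X L₂ 1 = 0) :
    (Nonempty (L₁ ≅ Coh.structureModule X) → Nonempty (L₂ ≅ Coh.structureModule X) →
      Nat.card (Aut (Coh.structureModule X ⊞ L₁ ⊞ L₂)) =
        (Nat.card k ^ 3 - 1) * (Nat.card k ^ 3 - Nat.card k) * (Nat.card k ^ 3 - Nat.card k ^ 2)) ∧
    (Nonempty (L₁ ≅ L₂) → ¬ Nonempty (L₁ ≅ Coh.structureModule X) →
      Nat.card (Aut (Coh.structureModule X ⊞ L₁ ⊞ L₂)) = (Nat.card k - 1) ^ 3 * (Nat.card k + 1) * Nat.card k) ∧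
    (¬ Nonempty (L₁ ≅ L₂) → Nonempty (L₂ ≅ Coh.structureModule X) →
      Nat.card (Aut (Coh.structureModule X ⊞ L₁ ⊞ L₂)) = (Nat.card k - 1) ^ 3 * (Nat.card k + 1) * Nat.card k) ∧
    (¬ Nonempty (L₁ ≅ Coh.structureModule X) → ¬ Nonempty (L₂ ≅ Coh.structureModule X) → ¬ Nonempty (L₁ ≅ L₂) →
      Nat.card (Aut (Coh.structureModule X ⊞ L₁ ⊞ L₂)) = (Nat.card k - 1) ^ 3) := by
  haveI : Subsingleton (Spec (CommRingCat.of k)) := inferInstanceAs (Subsingleton (PrimeSpectrum k))
  haveI : IsIntegral X := GeometricallyIntegral.isIntegral_of_subsingleton (X ↘ Spec (CommRingCat.of k))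
  haveI := GrpSchLib.geometricallyReduced_of_smooth (X ↘ Spec (CommRingCat.of k))
  haveI : GeometricallyConnected (X ↘ Spec (CommRingCat.of k)) := ⟨fun K _ y Z g₁ g₂ h =>
    haveI := GeometricallyIrreducible.geometrically_irreducibleSpace (f := X ↘ Spec (CommRingCat.of k)) y g₁ g₂ h
    show ConnectedSpace Z from { toNonempty := inferInstance }⟩
  have hh : Module.finrank k (Coh.HH X (Coh.structureModule X) 0) = 1 := S1536.result k X
  haveI := Fintype.ofFinite k
  have hd0 : Curv2.deg k X (Coh.structureModule X) 1 = 0 := CurveDeg.deg_structureModule k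
  have hO' := CurveDeg.isInvertible_structureModule (X := X)
  obtain ⟨e0⟩ := VBCurvesLib.nonempty_end_line k hh hdim hO'
  obtain ⟨e1⟩ := VBCurvesLib.nonempty_end_line k hh hdim hL₁
  obtain ⟨e2⟩ := VBCurvesLib.nonempty_end_line k hh hdim hL₂
  have hq1 : 1 ≤ Fintype.card k := Fintype.card_pos
  rw [Nat.card_eq_fintype_card (α := k)]
  have hz : ∀ {L M : X.Modules}, PicF.IsInvertible L → PicF.IsInvertible M →
      Curv2.deg k X L 1 = 0 → Curv2.deg k X M 1 = 0 → ¬ Nonempty (L ≅ M) → ∀ f : L ⟶ M, f = 0 :=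
    fun hL hM h h' hn f => VBCurvesLib.hom_eq_zero_of_not_iso k hdim hL hM (h.trans h'.symm) hn f
  have harith : (Fintype.card k - 1) * ∏ i : Fin 2, (Fintype.card k ^ 2 - Fintype.card k ^ (i : ℕ)) =
      (Fintype.card k - 1) ^ 3 * (Fintype.card k + 1) * Fintype.card k := by
    obtain ⟨m, hm⟩ : ∃ m, Fintype.card k = m + 1 := ⟨_, (Nat.sub_add_cancel hq1).symm⟩
    rw [hm, Fin.prod_univ_two, show (m + 1) ^ 2 = m * (m + 2) + 1 by ring]
    simp only [Fin.val_zero, Fin.val_one, pow_zero, pow_one, Nat.add_sub_cancel]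
    rw [show m * (m + 2) + 1 = (m + 1) * m + (m + 1) by ring, Nat.add_sub_cancel]
    ring
  refine ⟨fun ⟨a⟩ ⟨b⟩ => ?_, fun ⟨a⟩ hn => ?_, fun hn ⟨b⟩ => ?_, fun h1 h2 h12 => ?_⟩
  · rw [VBCurvesLib.card_aut_congr (biprod.mapIso (Iso.refl _) (biprod.mapIso a b)),
      VBCurvesLib.card_aut_three e0, Fin.prod_univ_three]
    simp
  · rw [VBCurvesLib.card_aut_congr (biprod.mapIso (Iso.refl (Coh.structureModule X))
      (biprod.mapIso (Iso.refl L₁) a.symm)), VBCurvesLib.card_aut_biprod,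
      VBCurvesLib.card_aut_simple e0, VBCurvesLib.card_aut_two e1, harith]
    · intro f
      apply biprod.hom_ext <;> rw [zero_comp] <;>
        exact hz hO' hL₁ hd0 hd₁ (fun ⟨c⟩ => hn ⟨c.symm⟩) _
    · intro f
      apply biprod.hom_ext' <;> rw [comp_zero] <;>
        exact hz hL₁ hO' hd₁ hd0 hn _
  · have hn1 : ¬ Nonempty (L₁ ≅ Coh.structureModule X) := fun ⟨c⟩ => hn ⟨c ≪≫ b.symm⟩
    rw [VBCurvesLib.card_aut_congr (biprod.mapIso (Iso.refl (Coh.structureModule X))
        (biprod.mapIso (Iso.refl L₁) b ≪≫ biprod.braiding _ _) ≪≫ (biprod.associator _ _ _).symm ≪≫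
        biprod.braiding _ _), VBCurvesLib.card_aut_biprod,
      VBCurvesLib.card_aut_simple e1, VBCurvesLib.card_aut_two e0, harith]
    · intro f
      apply biprod.hom_ext <;> rw [zero_comp] <;>
        exact hz hL₁ hO' hd₁ hd0 hn1 _
    · intro f
      apply biprod.hom_ext' <;> rw [comp_zero] <;>
        exact hz hO' hL₁ hd0 hd₁ (fun ⟨c⟩ => hn1 ⟨c.symm⟩) _
  · rw [VBCurvesLib.card_aut_biprod, VBCurvesLib.card_aut_biprod, VBCurvesLib.card_aut_simple e0,
      VBCurvesLib.card_aut_simple e1, VBCurvesLib.card_aut_simple e2]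
    · ring
    · exact hz hL₁ hL₂ hd₁ hd₂ h12
    · exact hz hL₂ hL₁ hd₂ hd₁ fun ⟨c⟩ => h12 ⟨c.symm⟩
    · intro f
      apply biprod.hom_ext <;> rw [zero_comp]
      · exact hz hO' hL₁ hd0 hd₁ (fun ⟨c⟩ => h1 ⟨c.symm⟩) _
      · exact hz hO' hL₂ hd0 hd₂ (fun ⟨c⟩ => h2 ⟨c.symm⟩) _
    · intro f
      apply biprod.hom_ext' <;> rw [comp_zero]
      · exact hz hL₁ hO' hd₁ hd0 h1 _
      · exact hz hL₂ hO' hd₂ hd0 h2 _

end Groth.Agent.S18787
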