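import Groth.Statements.S18788
import Groth.Agent.VBCurvesLib.AutCount
import Groth.Agent.AmpleVan.Tw
import Groth.Agent.Lib.CurveDualPrep
import Groth.Agent.S1536
import Groth.Agent.GrpSchLib.SmoothReduced
-- import your own Groth.Agent.* helpers here

set_option autoImplicit false
set_option linter.style.haveILetI false
set_option linter.unusedVariables false
set_option backward.isDefEq.respectTransparency false
set_option backward.isDefEq.respectTransparency.types false
universe u
open CategoryTheory CategoryTheory.Limits AlgebraicGeometry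
open VBCurve

namespace Groth.Agent.S18788

open CategoryTheory CategoryTheory.Limits AlgebraicGeometry

/-- Let k be a finite field and C a smooth proper geometrically integral curve over k (proper, smooth
and geometrically integral over k, of dimension one) of genus one, i.e. dim_k H^1(C, O_C) = 1, with
a k-rational point O (an elliptic curve over k); k is finite with q elements. Let F be an O_C-module
with a short exact sequence 0 → O_C → F → O_C → 0 that does not split, and L an invertible
O_C-module of degree 0 (χ(L) − χ(O_C) = 0). Then Aut(O_C ⊕ F) has (q − 1)² q³ elements, and if L ≇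
O_C then Aut(O_C ⊕ (L ⊗ F)) has (q − 1)² q elements. (The source states this for E = O_C ⊕ G with G
a geometrically indecomposable rank-2 bundle of degree 0, which it writes as L ⊗ F with F the
non-split self-extension of O_C by a classification it quotes; the row takes G in that form
directly. The accompanying count of isomorphism classes is not restated.) (The published setting
takes k of characteristic at least 5; the argument does not use this and the row allows every finite
field.) -/
theorem result (k : Type u) [Field k] [Finite k] (X : Scheme.{u}) [X.Over (Spec (CommRingCat.of k))]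
    [IsProper (X ↘ Spec (CommRingCat.of k))] [Smooth (X ↘ Spec (CommRingCat.of k))]
    [GeometricallyIntegral (X ↘ Spec (CommRingCat.of k))] (hdim : topologicalKrullDim ↥X = 1)
    (hg : Curv2.genus k X = 1) (O : Spec (CommRingCat.of k) ⟶ X) (hO : O ≫ (X ↘ Spec (CommRingCat.of k)) = 𝟙 _)
    (T : ShortComplex X.Modules) (hT : T.ShortExact)
    (e₁ : T.X₁ ≅ Coh.structureModule X) (e₃ : T.X₃ ≅ Coh.structureModule X) (hns : ¬ IsSplitEpi T.g)
    (L : X.Modules) (hL : PicF.IsInvertible L) (hdeg : Curv2.deg k X L 1 = 0) :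
    Nat.card (Aut (Coh.structureModule X ⊞ T.X₂)) = (Nat.card k - 1) ^ 2 * Nat.card k ^ 3 ∧
    (¬ Nonempty (L ≅ Coh.structureModule X) →
      Nat.card (Aut (Coh.structureModule X ⊞ CohB1.tensorMod L T.X₂)) = (Nat.card k - 1) ^ 2 * Nat.card k) := by
  haveI : Subsingleton (Spec (CommRingCat.of k)) := inferInstanceAs (Subsingleton (PrimeSpectrum k))
  haveI : IsIntegral X := GeometricallyIntegral.isIntegral_of_subsingleton (X ↘ Spec (CommRingCat.of k))
  haveI := GrpSchLib.geometricallyReduced_of_smooth (X ↘ Spec (CommRingCat.of k))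
  haveI : GeometricallyConnected (X ↘ Spec (CommRingCat.of k)) := ⟨fun K _ y Z g₁ g₂ h =>
    haveI := GeometricallyIrreducible.geometrically_irreducibleSpace (f := X ↘ Spec (CommRingCat.of k)) y g₁ g₂ h
    show ConnectedSpace Z from { toNonempty := inferInstance }⟩
  have hh : Module.finrank k (Coh.HH X (Coh.structureModule X) 0) = 1 := S1536.result k X
  haveI := Fintype.ofFinite k
  rw [Nat.card_eq_fintype_card (α := k)]
  have hd0 : Curv2.deg k X (Coh.structureModule X) 1 = 0 := CurveDeg.deg_structureModule k
  have hO' := CurveDeg.isInvertible_structureModule (X := X)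
  obtain ⟨e0⟩ := VBCurvesLib.nonempty_end_line k hh hdim hO'
  obtain ⟨hl, hr, hA, hz⟩ := VBCurvesLib.selfExt_count k hh hdim hO' hT e₁ e₃ hns
  refine ⟨?_, fun hn => ?_⟩
  · rw [VBCurvesLib.card_aut_biprod_mix _ _ hz, VBCurvesLib.card_aut_simple e0, hA, hl, hr]
    ring
  haveI : (AmpleVan.tw L).IsEquivalence := AmpleVan.isEquivalence_tw hL
  obtain ⟨D, hD, hdD, ⟨eD⟩⟩ := CurveDuality.exists_inverse_deg k hdim hL
  let eD' : (AmpleVan.tw L).obj D ≅ Coh.structureModule X := CurveTensor.commIso D L ≪≫ eD
  let eG : CohB1.tensorMod L T.X₂ ≅ (AmpleVan.tw L).obj T.X₂ := CurveTensor.commIso L T.X₂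
  have hnD : ¬ Nonempty (D ≅ Coh.structureModule X) := fun ⟨c⟩ => hn ⟨
    (CurveTensor.structureTensorIso L).symm ≪≫ ((AmpleVan.tw L).mapIso c.symm ≪≫ eD')⟩
  have hdD' : Curv2.deg k X D 1 = 0 := by rw [hdD, hdeg, neg_zero]
  haveI := hT.mono_f
  haveI := hT.epi_g
  have hin : ∀ g : D ⟶ T.X₂, g = 0 := fun g => by
    have h1 : g ≫ T.g = 0 := by
      rw [← cancel_mono e₃.hom, zero_comp]
      exact VBCurvesLib.hom_eq_zero_of_not_iso k hdim hD hO' (hdD'.trans hd0.symm) hnD _
    have h2 : hT.exact.lift g h1 = 0 := by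
      rw [← cancel_mono e₁.hom, zero_comp]
      exact VBCurvesLib.hom_eq_zero_of_not_iso k hdim hD hO' (hdD'.trans hd0.symm) hnD _
    rw [← hT.exact.lift_f g h1, h2, zero_comp]
  have hout : ∀ g : T.X₂ ⟶ D, g = 0 := fun g => by
    have hnD' : ¬ Nonempty (Coh.structureModule X ≅ D) := fun ⟨c⟩ => hnD ⟨c.symm⟩
    have h1 : T.f ≫ g = 0 := by
      rw [← cancel_epi e₁.inv, comp_zero]
      exact VBCurvesLib.hom_eq_zero_of_not_iso k hdim hO' hD (hd0.trans hdD'.symm) hnD' _
    have h2 : hT.exact.desc g h1 = 0 := by
      rw [← cancel_epi e₃.inv, comp_zero]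
      exact VBCurvesLib.hom_eq_zero_of_not_iso k hdim hO' hD (hd0.trans hdD'.symm) hnD' _
    rw [← hT.exact.g_desc g h1, h2, comp_zero]
  have hAG : Nat.card (Aut (CohB1.tensorMod L T.X₂)) = (Fintype.card k - 1) * Fintype.card k := by
    rw [VBCurvesLib.card_aut_congr eG, ← Nat.card_congr
      ((Functor.FullyFaithful.ofFullyFaithful (AmpleVan.tw L)).autMulEquivOfFullyFaithful T.X₂).toEquiv, hA]
  rw [VBCurvesLib.card_aut_biprod, VBCurvesLib.card_aut_simple e0, hAG]
  · ring
  · intro f
    obtain ⟨g, hg⟩ := (AmpleVan.tw L).map_surjective (eD'.hom ≫ f ≫ eG.hom)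
    rw [hin g, Functor.map_zero] at hg
    rw [← cancel_epi eD'.hom, ← cancel_mono eG.hom, Category.assoc, ← hg]
    simp
  · intro f
    obtain ⟨g, hg⟩ := (AmpleVan.tw L).map_surjective (eG.inv ≫ f ≫ eD'.inv)
    rw [hout g, Functor.map_zero] at hg
    rw [← cancel_epi eG.inv, ← cancel_mono eD'.inv, Category.assoc, ← hg]
    simp

end Groth.Agent.S18788
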