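import Groth.Statements.S18789
import Mathlib
import Groth.Agent.GrLib8.Basic

set_option autoImplicit false
universe u v w x
open TorusGr

namespace Groth.Agent.S18789
set_option maxHeartbeats 400000

theorem exists_homog_not_mem {M : Type v} [DecidableEq M] [AddCommGroup M] {A : Type w} [CommRing A]
    {σ : Type*} [SetLike σ A] [AddSubgroupClass σ A] (𝒜 : M → σ) [GradedRing 𝒜] (m : Ideal A) {a : A}
    (ha : a ∉ m) : ∃ i, (DirectSum.decompose 𝒜 a i : A) ∉ m := by
  classical
  by_contra h
  refine ha ?_
  rw [← DirectSum.sum_support_decompose 𝒜 a]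
  exact sum_mem fun i _ => not_not.1 fun h' => h ⟨i, h'⟩

open DirectSum in
/-- Let `A` be a commutative algebra over a field `k`, graded by an additive commutative group `M` (for
`M` the character group of a split torus `T` this is a `T`-action on `Spec A`, and an `M`-graded
`A`-module is a `T`-equivariant quasi-coherent sheaf), let `P` be a finitely generated projective
`A`-module with a compatible `M`-grading (a locally free `T`-sheaf of finite rank), and let `m` be a
homogeneous maximal ideal with residue field `k` (a `T`-fixed rational point). If homogeneous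
elements `f i` of `P` reduce to a basis of `P/mP`, then there is a homogeneous `s ∉ m` such that
after inverting `s` the `f i` generate `P` and every relation among them is killed by a power of
`s`: on the invariant open `D(s)` the module is free on the homogeneous sections `f i`, with the
weights of the fibre `P/mP`. (The published statement has `M ≅ ℤ^r`, a split torus; here `M` is any
additive commutative group, i.e. any diagonalizable group.) -/
theorem result
    {k : Type u} [Field k] {M : Type v} [AddCommGroup M] [DecidableEq M]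
    {A : Type w} [CommRing A] [Algebra k A] (𝒜 : M → Submodule k A) [GradedAlgebra 𝒜]
    {P : Type x} [AddCommGroup P] [Module A P] [Module k P] [IsScalarTower k A P]
    (ℳ : M → Submodule k P) [Decomposition ℳ] [SetLike.GradedSMul 𝒜 ℳ]
    [Module.Finite A P] [Module.Projective A P]
    (m : Ideal A) [m.IsMaximal] (hm : m.IsHomogeneous 𝒜)
    (hrat : Function.Surjective (algebraMap k (A ⧸ m)))
    {n : ℕ} (wt : Fin n → M) (f : Fin n → P) (hf : ∀ i, f i ∈ ℳ (wt i))
    (hli : LinearIndependent (A ⧸ m)
      (fun i => (Submodule.Quotient.mk (f i) : P ⧸ (m • (⊤ : Submodule A P)))))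
    (hsp : Submodule.span A (Set.range f) ⊔ m • (⊤ : Submodule A P) = ⊤) :
    ∃ s : A, SetLike.IsHomogeneousElem 𝒜 s ∧ s ∉ m ∧
      (∀ p : P, ∃ (N : ℕ) (c : Fin n → A), s ^ N • p = ∑ i, c i • f i) ∧
      (∀ c : Fin n → A, ∑ i, c i • f i = 0 → ∃ N : ℕ, ∀ i, s ^ N * c i = 0) := by
  classical
  set N : Submodule A P := Submodule.span A (Set.range f) with hN
  have comp_sum : ∀ (c : Fin n → A) (d : M), (decompose ℳ (∑ i, c i • f i) d : P) =
      ∑ i, (decompose 𝒜 (c i) (d - wt i) : A) • f i := by
    intro c d
    rw [decompose_sum, DFinsupp.finset_sum_apply, AddSubmonoidClass.coe_finsetSum]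
    exact Finset.sum_congr rfl fun i _ => GrLib8.decompose_smul_of_mem 𝒜 ℳ (hf i) _ _
  -- generation
  obtain ⟨a, ha1, ha⟩ := Submodule.exists_sub_one_mem_and_smul_eq_zero_of_fg_of_le_smul m
    (⊤ : Submodule A (P ⧸ N)) Module.Finite.fg_top (by
      rw [← Submodule.range_mkQ N, ← Submodule.map_top, ← Submodule.map_smul'']
      rw [Submodule.map_le_iff_le_comap, Submodule.comap_map_mkQ]
      exact hsp.ge)
  have ha' : ∀ p, a • p ∈ N := fun p => by
    have := ha (Submodule.Quotient.mk p) trivial
    rwa [← Submodule.Quotient.mk_smul, Submodule.Quotient.mk_eq_zero] at this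
  have ham : a ∉ m := fun h => (Ideal.ne_top_iff_one m).1 (Ideal.IsMaximal.ne_top inferInstance)
    (by simpa using sub_mem h ha1)
  obtain ⟨d, hd⟩ := exists_homog_not_mem 𝒜 m ham
  have hda : ∀ p, (decompose 𝒜 a d : A) • p ∈ N := by
    intro p
    rw [← sum_support_decompose ℳ p, Finset.smul_sum]
    refine sum_mem fun e _ => ?_
    obtain ⟨c, hc⟩ := (Submodule.mem_span_range_iff_exists_fun A).1 (ha' (decompose ℳ p e : P))
    have := congrArg (fun x => (decompose ℳ x (d + e) : P)) hc
    simp only [comp_sum, GrLib8.decompose_smul_of_mem 𝒜 ℳ (SetLike.coe_mem _), add_sub_cancel_right] at this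
    rw [show d + e - e = d by abel] at this
    rw [← this]
    exact sum_mem fun i _ => N.smul_mem _ (Submodule.subset_span ⟨i, rfl⟩)
  -- independence
  letI : Field (A ⧸ m) := Ideal.Quotient.field m
  obtain ⟨b, hb⟩ : ∃ b : Module.Basis (Fin n) (A ⧸ m) (P ⧸ (m • (⊤ : Submodule A P))),
      ∀ i, b i = Submodule.Quotient.mk (f i) := by
    refine ⟨Module.Basis.mk hli ?_, fun i => Module.Basis.mk_apply _ _ i⟩
    intro x _
    obtain ⟨p, rfl⟩ := Submodule.Quotient.mk_surjective _ x
    obtain ⟨y, hy, z, hz, rfl⟩ := Submodule.mem_sup.1 (show p ∈ N ⊔ m • ⊤ by rw [hsp]; trivial)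
    obtain ⟨c, rfl⟩ := (Submodule.mem_span_range_iff_exists_fun A).1 hy
    rw [Submodule.Quotient.mk_add, (Submodule.Quotient.mk_eq_zero _).2 hz, add_zero,
      ← Submodule.mkQ_apply, map_sum]
    refine sum_mem fun i _ => ?_
    rw [map_smul, ← algebraMap_smul (A ⧸ m) (c i)]
    exact Submodule.smul_mem _ _ (Submodule.subset_span ⟨i, rfl⟩)
  have hlift : ∀ j : Fin n, ∃ ψ : P →ₗ[A] A,
      (Ideal.Quotient.mkₐ A m).toLinearMap ∘ₗ ψ = ((b.coord j).restrictScalars A) ∘ₗ Submodule.mkQ _ :=
    fun j => Module.projective_lifting_property (Ideal.Quotient.mkₐ A m).toLinearMap _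
      Ideal.Quotient.mk_surjective
  choose ψ hψ using hlift
  have hkron : ∀ i j, Ideal.Quotient.mk m (ψ j (f i)) = (1 : Matrix (Fin n) (Fin n) (A ⧸ m)) j i := by
    intro i j
    refine (LinearMap.congr_fun (hψ j) (f i)).trans ?_
    change b.coord j (Submodule.Quotient.mk (f i)) = _
    rw [← hb i, Module.Basis.coord_apply, Module.Basis.repr_self, Finsupp.single_apply, Matrix.one_apply]
    simp only [eq_comm]
  let G : Matrix (Fin n) (Fin n) A := Matrix.of fun j i => ψ j (f i)
  have hdet : G.det ∉ m := by
    intro h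
    rw [← Ideal.Quotient.eq_zero_iff_mem, RingHom.map_det] at h
    have : (Ideal.Quotient.mk m).mapMatrix G = 1 := by
      ext j i
      exact hkron i j
    rw [this, Matrix.det_one] at h
    exact one_ne_zero h
  have hkill : ∀ c : Fin n → A, ∑ i, c i • f i = 0 → ∀ i, G.det * c i = 0 := by
    intro c hc i
    have hGc : G.mulVec c = 0 := by
      funext j
      have := congrArg (ψ j) hc
      simpa [G, Matrix.mulVec, dotProduct, mul_comm] using this
    have := congrArg (fun v => G.adjugate.mulVec v) hGc
    simp only [Matrix.mulVec_mulVec, Matrix.adjugate_mul, Matrix.mulVec_zero, Matrix.smul_mulVec,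
      Matrix.one_mulVec] at this
    exact congrFun this i
  obtain ⟨d', hd'⟩ := exists_homog_not_mem 𝒜 m hdet
  have hdrel : ∀ c : Fin n → A, ∑ i, c i • f i = 0 → ∀ i, (decompose 𝒜 G.det d' : A) * c i = 0 := by
    intro c hc i
    rw [← sum_support_decompose 𝒜 (c i), Finset.mul_sum]
    refine Finset.sum_eq_zero fun e _ => ?_
    have h0 := hkill (fun l => ↑(decompose 𝒜 (c l) (e + wt i - wt l))) (by
      rw [← comp_sum, hc, decompose_zero, DirectSum.zero_apply, ZeroMemClass.coe_zero]) i
    have := congrArg (fun x => (decompose 𝒜 x (d' + e) : A)) h0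
    simp only [decompose_zero, DirectSum.zero_apply, ZeroMemClass.coe_zero] at this
    rw [show e + wt i - wt i = e by abel, ← smul_eq_mul,
      GrLib8.decompose_smul_of_mem 𝒜 𝒜 (SetLike.coe_mem _), show d' + e - e = d' by abel,
      smul_eq_mul] at this
    exact this
  refine ⟨(decompose 𝒜 a d : A) * (decompose 𝒜 G.det d' : A),
    ⟨d + d', SetLike.GradedMul.mul_mem (SetLike.coe_mem _) (SetLike.coe_mem _)⟩,
    fun h => (Ideal.IsPrime.mem_or_mem inferInstance h).elim hd hd', fun p => ?_, fun c hc => ?_⟩
  · obtain ⟨c, hc⟩ := (Submodule.mem_span_range_iff_exists_fun A).1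
      (hda ((decompose 𝒜 G.det d' : A) • p))
    exact ⟨1, c, by rw [pow_one, mul_smul, hc]⟩
  · exact ⟨1, fun i => by rw [pow_one, mul_assoc, hdrel c hc i, mul_zero]⟩

end Groth.Agent.S18789
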