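import Groth.Statements.S18791
import Mathlib
import Groth.Agent.GrLib8.Basic

set_option autoImplicit false
universe u v w x
open TorusGr

namespace Groth.Agent.S18791

/-- Let `φ : B → A` be a degree-preserving homomorphism of commutative algebras over a field `k` graded
by an additive commutative group `M` (for `M` the character group of a split torus, an equivariant
morphism `Spec A → Spec B`), and let `m` be a maximal ideal of `A` containing all homogeneous
elements of non-zero degree (a fixed point). Then the ideal of those `b` whose image is zero in the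
local ring `A_m` is homogeneous: the homogeneous (weight) components of such a `b` again die in
`A_m`. Since `A_m` embeds in its completion when `A` is Noetherian, these are the elements of `B`
that die in the completed local ring. (The published lemma asserts moreover that, for `B = k[Y_1, …,
Y_d]` mapping the `Y_i` to semi-invariant lifts of a basis of `m/m²`, the kernel of the induced
surjection of completions `k[[Y]] → Â_m` is generated by semi-invariant polynomials; generation of
that kernel by polynomials can fail, so only the statement about polynomial elements of the kernel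
is recorded here. The published statement has `M ≅ ℤ^r` (a split torus) and `B` the polynomial ring
on the lifts; here `M` is any additive commutative group and `B` any `M`-graded `k`-algebra.) -/
theorem result
    {k : Type u} [Field k] {M : Type v} [AddCommGroup M] [DecidableEq M]
    {A : Type w} [CommRing A] [Algebra k A] (𝒜 : M → Submodule k A) [GradedAlgebra 𝒜]
    {B : Type x} [CommRing B] [Algebra k B] (ℬ : M → Submodule k B) [GradedAlgebra ℬ]
    (φ : B →ₐ[k] A) (hφ : ∀ i : M, ∀ b ∈ ℬ i, φ b ∈ 𝒜 i)
    (m : Ideal A) [m.IsMaximal] (hfix : ∀ i : M, i ≠ 0 → ∀ a ∈ 𝒜 i, a ∈ m) :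
    (RingHom.ker ((algebraMap A (Localization.AtPrime m)).comp (φ : B →+* A))).IsHomogeneous ℬ := by
  classical
  intro j b hb
  rw [RingHom.mem_ker, RingHom.comp_apply, IsLocalization.map_eq_zero_iff m.primeCompl] at hb ⊢
  obtain ⟨⟨s, hs⟩, hsb⟩ := hb
  change s * φ b = 0 at hsb
  set S := (DirectSum.decompose ℬ b).support
  set s₀ : A := ↑(DirectSum.decompose 𝒜 s 0)
  have h2 : s₀ ∉ m := by
    intro h0
    apply hs
    change s ∈ m
    rw [← DirectSum.sum_support_decompose 𝒜 s]
    refine sum_mem fun i _ => ?_
    rcases eq_or_ne i 0 with rfl | hi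
    · exact h0
    · exact hfix i hi _ (SetLike.coe_mem _)
  let G : Matrix S S A := Matrix.of fun n i => ↑(DirectSum.decompose 𝒜 s ((n : M) - i))
  let w : S → A := fun i => φ (DirectSum.decompose ℬ b (i : M) : B)
  have hGw : G.mulVec w = 0 := by
    funext n
    have hfun : φ b = ∑ i : S, w i := by
      conv_lhs => rw [← DirectSum.sum_support_decompose ℬ b]
      rw [map_sum]
      exact (Finset.sum_coe_sort S (fun i => φ (DirectSum.decompose ℬ b i : B))).symm
    have := congrArg (fun x => (DirectSum.decompose 𝒜 x (n : M) : A)) hsb
    simp only [DirectSum.decompose_zero, DirectSum.zero_apply, ZeroMemClass.coe_zero] at this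
    rw [Pi.zero_apply, ← this, hfun, Finset.mul_sum, DirectSum.decompose_sum, DFinsupp.finset_sum_apply,
      AddSubmonoidClass.coe_finsetSum]
    refine Finset.sum_congr rfl fun i _ => ?_
    simp only [w]
    rw [← smul_eq_mul s, GrLib8.decompose_smul_of_mem 𝒜 𝒜 (hφ _ _ (SetLike.coe_mem _))]
    rfl
  have hdet : G.det ∉ m := by
    intro hd
    rw [← Ideal.Quotient.eq_zero_iff_mem, RingHom.map_det] at hd
    have hdiag : (Ideal.Quotient.mk m).mapMatrix G = Matrix.diagonal fun _ => Ideal.Quotient.mk m s₀ := by
      ext n i
      rcases eq_or_ne n i with rfl | hni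
      · rw [RingHom.mapMatrix_apply, Matrix.map_apply, Matrix.diagonal_apply_eq]
        simp only [G, Matrix.of_apply]
        rw [sub_self]
      · rw [Matrix.diagonal_apply_ne _ hni]
        simp only [RingHom.mapMatrix_apply, Matrix.map_apply, G, Matrix.of_apply]
        exact Ideal.Quotient.eq_zero_iff_mem.2
          (hfix _ (fun h => hni (Subtype.ext (sub_eq_zero.1 h))) _ (SetLike.coe_mem _))
    rw [hdiag, Matrix.det_diagonal, Finset.prod_const, ← map_pow, Ideal.Quotient.eq_zero_iff_mem] at hd
    exact h2 (Ideal.IsPrime.mem_of_pow_mem inferInstance _ hd)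
  by_cases hj : j ∈ S
  · refine ⟨⟨G.det, hdet⟩, ?_⟩
    have := congrArg (fun v => G.adjugate.mulVec v) hGw
    simp only [Matrix.mulVec_mulVec, Matrix.adjugate_mul, Matrix.mulVec_zero, Matrix.smul_mulVec,
      Matrix.one_mulVec] at this
    exact congrFun this ⟨j, hj⟩
  · refine ⟨1, ?_⟩
    rw [DFinsupp.notMem_support_iff] at hj
    simp [hj]

end Groth.Agent.S18791
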