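import Groth.Statements.S18828
import Groth.Agent.S5336
import Groth.Agent.LocalCrit.Flatness
import Mathlib.AlgebraicGeometry.Morphisms.FlatMono
-- import your own Groth.Agent.* helpers here

set_option autoImplicit false
set_option linter.style.haveILetI false
universe u
open CategoryTheory MonoidalCategory CartesianMonoidalCategory MonObj AlgebraicGeometry
open AlgGrp

namespace Groth.Agent.S18828

open scoped TensorProduct in
/-- A local map of Noetherian local rings which is an isomorphism modulo every power of the maximal ideals
is flat. -/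
theorem flat_of_iso_mod_pow {A B : Type u} [CommRing A] [CommRing B] [IsLocalRing A] [IsLocalRing B]
    [IsNoetherianRing A] [IsNoetherianRing B] (φ : A →+* B) [IsLocalHom φ]
    (h : ∀ n : ℕ, Function.Surjective ((Ideal.Quotient.mk (IsLocalRing.maximalIdeal B ^ (n + 1))).comp φ) ∧
      ∀ a, φ a ∈ IsLocalRing.maximalIdeal B ^ (n + 1) ↔ a ∈ IsLocalRing.maximalIdeal A ^ (n + 1)) :
    φ.Flat := by
  algebraize [φ]
  show Module.Flat A B
  set m := IsLocalRing.maximalIdeal A with hm
  set n' := IsLocalRing.maximalIdeal B with hn
  have hle : m.map (algebraMap A B) ≤ n' := by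
    rw [Ideal.map_le_iff_le_comap]
    intro a ha
    exact map_nonunit φ a ha
  have hmap : m.map (algebraMap A B) = n' := by
    refine le_antisymm hle ?_
    refine Submodule.le_of_le_smul_of_le_jacobson_bot (I := n') (IsNoetherian.noetherian _)
      (IsLocalRing.maximalIdeal_le_jacobson ⊥) (fun x hx => ?_)
    obtain ⟨a, ha⟩ := (h 1).1 (Ideal.Quotient.mk _ x)
    rw [RingHom.comp_apply, Ideal.Quotient.eq] at ha
    have hxa : φ a ∈ n' := by
      have := n'.add_mem (Ideal.pow_le_self (by norm_num) ha) hx
      simpa using this
    have ham : a ∈ m := by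
      by_contra hna
      exact (IsLocalRing.mem_maximalIdeal _).mp hxa ((IsLocalRing.notMem_maximalIdeal.mp hna).map φ)
    refine Submodule.mem_sup.mpr ⟨φ a, Ideal.mem_map_of_mem _ ham, -(φ a - x), ?_, by ring⟩
    rw [smul_eq_mul, ← pow_two]
    exact neg_mem ha
  refine LocalCrit.flat_of_forall_quotient_pow (B := B) m ?_ (fun n => ?_)
  · exact hle.trans (IsLocalRing.maximalIdeal_le_jacobson ⊥)
  · haveI : Module.Flat (A ⧸ m ^ n) ((A ⧸ m ^ n) ⊗[A] B) := by
      rcases n with _ | n
      · haveI : Subsingleton (A ⧸ m ^ 0) := by
          rw [Ideal.Quotient.subsingleton_iff, pow_zero, Ideal.one_eq_top]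
        haveI := Module.subsingleton (A ⧸ m ^ 0) ((A ⧸ m ^ 0) ⊗[A] B)
        infer_instance
      · let g : (A ⧸ m ^ (n + 1)) →ₐ[A ⧸ m ^ (n + 1)] (A ⧸ m ^ (n + 1)) ⊗[A] B := Algebra.ofId _ _
        have hg : Function.Bijective g := by
          have hpow : (m ^ (n + 1)).map (algebraMap A B) = n' ^ (n + 1) := by rw [Ideal.map_pow, hmap]
          refine ⟨(injective_iff_map_eq_zero g).mpr fun c hc => ?_, fun y => ?_⟩
          · obtain ⟨c, rfl⟩ := Ideal.Quotient.mk_surjective c
            let r : (A ⧸ m ^ (n + 1)) ⊗[A] B →ₐ[A] B ⧸ n' ^ (n + 1) :=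
              Algebra.TensorProduct.lift
                (Ideal.Quotient.liftₐ _ ((Ideal.Quotient.mkₐ A (n' ^ (n + 1))).comp (Algebra.ofId A B))
                  fun a ha => Ideal.Quotient.eq_zero_iff_mem.mpr (((h n).2 a).mpr ha))
                (Ideal.Quotient.mkₐ A _) (fun _ _ => mul_comm _ _)
            have h0 := congrArg r hc
            rw [map_zero] at h0
            have h1 : Ideal.Quotient.mk (n' ^ (n + 1)) (φ c) = 0 := by
              rw [show Ideal.Quotient.mk (n' ^ (n + 1)) (φ c) = algebraMap A (B ⧸ n' ^ (n + 1)) c from rfl]
              simpa [g, r, Algebra.TensorProduct.algebraMap_apply] using h0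
            exact Ideal.Quotient.eq_zero_iff_mem.mpr (((h n).2 c).mp (Ideal.Quotient.eq_zero_iff_mem.mp h1))
          · induction y using TensorProduct.induction_on with
            | zero => exact ⟨0, map_zero g⟩
            | add x y hx hy =>
              obtain ⟨a, rfl⟩ := hx; obtain ⟨b, rfl⟩ := hy; exact ⟨a + b, map_add g a b⟩
            | tmul c b =>
              obtain ⟨a, ha⟩ := (h n).1 (Ideal.Quotient.mk _ b)
              rw [RingHom.comp_apply, Ideal.Quotient.eq] at ha
              refine ⟨c * Ideal.Quotient.mk _ a, ?_⟩
              show (c * Ideal.Quotient.mk _ a) ⊗ₜ[A] (1 : B) = c ⊗ₜ b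
              have h2 : ∀ z ∈ (m ^ (n + 1)).map (algebraMap A B), c ⊗ₜ[A] z = 0 := by
                intro z hz
                induction hz using Submodule.span_induction generalizing c with
                | mem z hz =>
                  obtain ⟨a', ha', rfl⟩ := hz
                  rw [Algebra.algebraMap_eq_smul_one, TensorProduct.tmul_smul, TensorProduct.smul_tmul',
                    Algebra.smul_def]
                  simp [Ideal.Quotient.eq_zero_iff_mem.mpr ha']
                | zero => simp
                | add x y _ _ hx hy => rw [TensorProduct.tmul_add, hx, hy, _root_.add_zero]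
                | smul t x _ hx =>
                  rw [smul_eq_mul, mul_comm t x]
                  have : c ⊗ₜ[A] (x * t) = (c ⊗ₜ[A] x) * ((1 : A ⧸ m ^ (n + 1)) ⊗ₜ[A] t) := by
                    simp [Algebra.TensorProduct.tmul_mul_tmul]
                  rw [this, hx, MulZeroClass.zero_mul]
              have h3 : (c * Ideal.Quotient.mk _ a) ⊗ₜ[A] (1 : B) = c ⊗ₜ φ a := by
                rw [show φ a = a • (1 : B) by rw [Algebra.smul_def, _root_.mul_one]; rfl, TensorProduct.tmul_smul,
                  TensorProduct.smul_tmul']
                congr 1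
                rw [Algebra.smul_def, mul_comm]
                rfl
              rw [h3, ← sub_eq_zero, ← TensorProduct.tmul_sub]
              exact h2 _ (hpow.symm ▸ ha)
        exact Module.Flat.of_linearEquiv (AlgEquiv.ofBijective g hg).symm.toLinearEquiv
    exact LocalCrit.keepsInjective_of_flat _ _



/-- Let k be a field and f : H → G a homomorphism of locally algebraic groups over k (group k-schemes
locally of finite type). Write e_H for the unit point of H (the image under the unit section of the
point pt of the base Spec k) and φ : O_{G,f(e_H)} → O_{H,e_H} for the induced local homomorphism of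
local rings. Assume (1) φ induces an isomorphism of completed local rings, stated here as: for every
n, φ followed by reduction modulo the (n+1)-st power of the maximal ideal of O_{H,e_H} is
surjective, and an element of O_{G,f(e_H)} maps into that power exactly when it lies in the (n+1)-st
power of the maximal ideal of O_{G,f(e_H)}; and (2) f is a monomorphism of schemes. Then f is an
open immersion. -/
theorem result (k : Type u) [Field k]
    (H G : Over (Spec (CommRingCat.of k))) [GrpObj H] [GrpObj G]
    [LocallyOfFiniteType H.hom] [LocallyOfFiniteType G.hom] (f : H ⟶ G) [IsMonHom f] [Mono f.left]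
    (pt : ↥(𝟙_ (Over (Spec (CommRingCat.of k)))).left)
    (h : ∀ n : ℕ,
      Function.Surjective ((Ideal.Quotient.mk (IsLocalRing.maximalIdeal
          ↑(H.left.presheaf.stalk (η[H].left.base pt)) ^ (n + 1))).comp
        (f.left.stalkMap (η[H].left.base pt)).hom) ∧
      ∀ a : ↑(G.left.presheaf.stalk (f.left.base (η[H].left.base pt))),
        (f.left.stalkMap (η[H].left.base pt)).hom a ∈
            IsLocalRing.maximalIdeal ↑(H.left.presheaf.stalk (η[H].left.base pt)) ^ (n + 1) ↔
          a ∈ IsLocalRing.maximalIdeal ↑(G.left.presheaf.stalk (f.left.base (η[H].left.base pt))) ^ (n + 1)) :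
    IsOpenImmersion f.left := by
  haveI : Mono f := (Over.forget _).mono_of_mono_map (inferInstanceAs (Mono f.left))
  haveI := LocallyOfFiniteType.isLocallyNoetherian H.hom
  haveI := LocallyOfFiniteType.isLocallyNoetherian G.hom
  haveI : LocallyOfFiniteType f.left := by
    have : LocallyOfFiniteType (f.left ≫ G.hom) := by rw [Over.w f]; infer_instance
    exact locallyOfFiniteType_of_comp f.left G.hom
  haveI : IsLocalHom (f.left.stalkMap (η[H].left.base pt)).hom := f.left.toLRSHom.prop _
  haveI : Flat f.left := S5336.result k H G f ⟨_, flat_of_iso_mod_pow _ h⟩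
  exact IsOpenImmersion.of_flat_of_mono f.left

end Groth.Agent.S18828
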