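import Groth.Statements.S18840
import Groth.Agent.VBCurvesLib.Ample
-- import your own Groth.Agent.* helpers here

set_option autoImplicit false
set_option linter.style.haveILetI false
set_option linter.unusedVariables false
set_option backward.isDefEq.respectTransparency false
set_option backward.isDefEq.respectTransparency.types false
universe u
open CategoryTheory CategoryTheory.Limits AlgebraicGeometry Polynomial
open VBCurve

namespace Groth.Agent.S18840

open Groth.Agent.CurveBundle Groth.Agent.CurveSlope Groth.Agent.CurveStable Groth.Agent.VBCurvesLib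

/-- Let k be an algebraically closed field of characteristic zero, X a smooth projective integral curve
over k with an ample invertible sheaf L, N ≥ 0 and P a rational polynomial. There is an integer l,
depending only on X, L, N and P, such that for every vector bundle F of rank r ≥ 1 on X which is a
quotient of O_X^N with Hilbert polynomial P (with respect to L), F is slope-semistable if and only
if dim H^0(X, F'(l)) / r' ≤ dim H^0(X, F(l)) / r for every sub-bundle (finite locally free
submodule) F' ⊂ F of rank r' ≥ 1; here G(l) = G ⊗ L^(⊗l). The source polarises X by a very ample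
O_X(1); only the positivity of its degree enters, so an ample L is taken. -/
theorem result (k : Type u) [Field k] [IsAlgClosed k] [CharZero k]
    (X : Scheme.{u}) [X.Over (Spec (CommRingCat.of k))]
    [IsIntegral X] [IsProper (X ↘ Spec (CommRingCat.of k))] [Smooth (X ↘ Spec (CommRingCat.of k))]
    (hdim : topologicalKrullDim X = 1)
    (L : X.Modules) (hLi : PicF.IsInvertible L) (hL : CohB1.IsAmple L)
    (N : ℕ) (P : ℚ[X]) :
    ∃ l : ℕ, ∀ (r : ℕ) (F : X.Modules) (q : FlatMod.freeMod X N ⟶ F),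
      0 < r → FlatMod.IsFinLocFreeOfRank r F → Epi q → ShStab.IsHilbPoly k X L F P →
        (ModFun.IsSlopeSemistable k X F r ↔
          ∀ (F' : X.Modules) (r' : ℕ) (i : F' ⟶ F), Mono i → 0 < r' → FlatMod.IsFinLocFreeOfRank r' F' →
            (Module.finrank k (Coh.HH X (ShStab.twist X L F' l) 0) : ℚ) / (r' : ℚ) ≤
              (Module.finrank k (Coh.HH X (ShStab.twist X L F l) 0) : ℚ) / (r : ℚ)) := by
  haveI := isLocallyNoetherian' k (X := X)
  have hO := Groth.Agent.CurveCohLib.finrank_h0_eq_one k X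
  have hδ := deg_pos_of_isAmple k hdim hL
  refine ⟨4 * Curv2.genus k X + 2 + ⌈|P.eval 0|⌉.toNat, fun r F q hr hF hq hP => ?_⟩
  haveI := hq
  set l := 4 * Curv2.genus k X + 2 + ⌈|P.eval 0|⌉.toNat with hl
  have hFf := isFinLocFree_of_rank hF
  have hT := Groth.Agent.InvX.isInvertible_tensorPow hLi l
  have hdT : Curv2.deg k X (CohB1.tensorPow L l) 1 = (l : ℤ) * Curv2.deg k X L 1 :=
    deg_tensorPow k hdim hLi l
  -- the Euler characteristic of F is bounded by P(0)
  have hP0 : -(⌈|P.eval 0|⌉.toNat : ℤ) ≤ Curv2.euler k X F := by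
    have h0 : (Curv2.euler k X (ShStab.twist X L F 0) : ℚ) = P.eval 0 := by simpa using hP 0
    have h1 : Curv2.euler k X (ShStab.twist X L F 0) = Curv2.euler k X F := by
      let e : ShStab.twist X L F 0 ≅ F := Groth.Agent.KFlatLib.tensorUnitIso F
      exact Groth.Agent.Euler.euler_congr (k := k) (M := ShStab.twist X L F 0) (N := F) e
    rw [h1] at h0
    have h2 : -|P.eval 0| ≤ (Curv2.euler k X F : ℚ) := by
      rw [h0]
      exact neg_abs_le _
    have h3 : (|P.eval 0| : ℚ) ≤ ((⌈|P.eval 0|⌉.toNat : ℤ) : ℚ) := by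
      rw [Int.toNat_of_nonneg (Int.ceil_nonneg (abs_nonneg _))]
      exact Int.le_ceil _
    have h4 : ((-(⌈|P.eval 0|⌉.toNat : ℤ) : ℤ) : ℚ) ≤ (Curv2.euler k X F : ℚ) := by
      push_cast at h3 ⊢
      linarith
    exact_mod_cast h4
  -- twisting
  let T := CohB1.tensorPow L l
  let V := ShStab.twist X L F l
  obtain ⟨hrV, hdV⟩ : rk V = rk F ∧ dg k V = dg k F + (rk F : ℤ) * Curv2.deg k X T 1 :=
    dg_twist k hdim hT hFf
  rw [rk_eq hF] at hrV hdV
  rw [hdT] at hdV
  have hVf : FlatMod.IsFinLocFree V := Groth.Agent.CurveHiggs.isFinLocFree_twist hT hFf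
  have hVc := coh_of_free k hVf
  have hd2 : (r : ℤ) * (2 * (Curv2.genus k X : ℤ) - 1) ≤ dg k V := by
    have h1 : (l : ℤ) ≤ (l : ℤ) * Curv2.deg k X L 1 := le_mul_of_one_le_right (by positivity) (by omega)
    have h2 : dg k F = Curv2.euler k X F - (r : ℤ) * (1 - (Curv2.genus k X : ℤ)) := by
      unfold dg
      rw [rk_eq hF, Groth.Agent.CurveDuality.euler_structure k hO hdim]
    have h3 : (⌈|P.eval 0|⌉.toNat : ℤ) ≤ (r : ℤ) * (⌈|P.eval 0|⌉.toNat : ℤ) :=
      le_mul_of_one_le_left (by positivity) (by exact_mod_cast hr)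
    have h4 := mul_le_mul_of_nonneg_left h1 (Int.natCast_nonneg r)
    have h5 : (l : ℤ) = 4 * (Curv2.genus k X : ℤ) + 2 + (⌈|P.eval 0|⌉.toNat : ℤ) := by
      rw [hl]; push_cast; ring
    have h6 : (r : ℤ) * (l : ℤ) = 4 * ((r : ℤ) * (Curv2.genus k X : ℤ)) + 2 * r +
        (r : ℤ) * (⌈|P.eval 0|⌉.toNat : ℤ) := by rw [h5]; ring
    nlinarith [mul_nonneg (Int.natCast_nonneg r) (Int.natCast_nonneg (Curv2.genus k X))]
  have hH1 : Subsingleton (Coh.HH X V 1) := by
    refine subsingleton_HH_one_of_free_quot k hO hdim hFf hT ?_ q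
    rw [hdT]
    have : (l : ℤ) ≤ (l : ℤ) * Curv2.deg k X L 1 := le_mul_of_one_le_right (by positivity) (by omega)
    omega
  have hV0 : (Module.finrank k (Coh.HH X V 0) : ℤ) = dg k V + (r : ℤ) * (1 - (Curv2.genus k X : ℤ)) := by
    have hχ := Groth.Agent.CurveDuality.euler_eq k hdim hVc
    haveI := hH1
    rw [Module.finrank_zero_of_subsingleton (R := k) (M := Coh.HH X V 1)] at hχ
    unfold dg
    rw [hrV, Groth.Agent.CurveDuality.euler_structure k hO hdim, hχ]
    push_cast
    ring
  have hrQ : (0 : ℚ) < r := by exact_mod_cast hr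
  have key : ∀ (F' : X.Modules) (r' : ℕ), 0 < r' →
      ((Module.finrank k (Coh.HH X (ShStab.twist X L F' l) 0) : ℚ) / (r' : ℚ) ≤
        (Module.finrank k (Coh.HH X V 0) : ℚ) / (r : ℚ) ↔
      (Module.finrank k (Coh.HH X (ShStab.twist X L F' l) 0) : ℤ) * (r : ℤ) ≤
        (r' : ℤ) * (dg k V + (r : ℤ) * (1 - (Curv2.genus k X : ℤ)))) := fun F' r' hr' => by
    rw [div_le_div_iff₀ (by exact_mod_cast hr' : (0 : ℚ) < r') hrQ, ← hV0, mul_comm (r' : ℤ)]
    exact_mod_cast Iff.rfl
  constructor
  · intro hss F' r' i hi hr' hF'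
    haveI := hi
    haveI : Mono (Groth.Agent.CurveHiggs.twist T i) :=
      Groth.Agent.CurveHiggs.mono_twist (isFinLocFree_of_rank (Groth.Agent.InvEnd.isFinLocFreeOfRank_one hT)) i
    obtain ⟨hr2, hd2'⟩ := dg_twist k hdim hT (isFinLocFree_of_rank hF')
    rw [rk_eq hF'] at hr2
    refine (key F' r' hr').2 ?_
    have hb := finrank_h0_le_of_bound k hO hdim hVf (dg k V) r hd2 (fun G j hj hG => by
      haveI := hj
      obtain ⟨G', j', hj', hG', hrG', hdG'⟩ := exists_untwist k hdim hT (Q := F) j hG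
      haveI := hj'
      have h := dg_mul_le_of_ss k hdim.le hF hss j' (coh_of_free k hG')
      rw [hrG', hdG', hdT] at h
      rw [hdV]
      linear_combination h) (ShStab.twist X L F' l) (Groth.Agent.CurveHiggs.twist T i) inferInstance
      (Groth.Agent.CurveHiggs.isFinLocFree_twist hT (isFinLocFree_of_rank hF'))
    rw [show rk (ShStab.twist X L F' l) = r' from hr2] at hb
    exact hb
  · intro h F' r' i hi hr' hF'
    have h1 := (key F' r' hr').1 (h F' r' i hi hr' hF')
    obtain ⟨hr2, hd2'⟩ : rk (ShStab.twist X L F' l) = rk F' ∧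
        dg k (ShStab.twist X L F' l) = dg k F' + (rk F' : ℤ) * Curv2.deg k X T 1 :=
      dg_twist k hdim hT (isFinLocFree_of_rank hF')
    rw [rk_eq hF'] at hr2 hd2'
    have hle := euler_le_h0 k hdim.le (coh_of_free k
      (Groth.Agent.CurveHiggs.isFinLocFree_twist hT (isFinLocFree_of_rank hF')) : Coh.IsCoh (ShStab.twist X L F' l))
    unfold dg at hd2'
    rw [hr2, rk_eq hF', hdT] at hd2'
    rw [hdV] at h1
    rw [deg_eq_dg k hF', deg_eq_dg k hF]
    have h2 : dg k F' = Curv2.euler k X F' - (r' : ℤ) * Curv2.euler k X (Coh.structureModule X) := by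
      unfold dg
      rw [rk_eq hF']
    rw [← h2, Groth.Agent.CurveDuality.euler_structure k hO hdim] at hd2'
    have h3 := mul_le_mul_of_nonneg_right hle (Int.natCast_nonneg r)
    linear_combination h1 + h3 - (r : ℤ) * hd2'

end Groth.Agent.S18840
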