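import Groth.Statements.S18841
import Groth.Agent.VarReg31.Quot
-- import your own Groth.Agent.* helpers here

set_option autoImplicit false
universe u
open CategoryTheory CategoryTheory.Limits AlgebraicGeometry Polynomial
open Variety

namespace Groth.Agent.S18841

/-- Let k be an algebraically closed field of characteristic zero, X a projective k-scheme embedded in
projective n-space by a closed immersion ι, with L ≅ ι^*O(1), and fix N ≥ 0 and a rational
polynomial P. There is an integer l_0 such that for every coherent O_X-module F which is a quotient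
q : O_X^N → F with Hilbert polynomial P with respect to L, writing G for the kernel of q, one has
for all l ≥ l_0: H^i(X, F(l)) = 0 and H^i(X, G(l)) = 0 for every i > 0, and G(l) is generated by its
global sections (twists M(l) = M ⊗ L^(⊗l)). -/
theorem result
    (k : Type u) [Field k] [IsAlgClosed k] [CharZero k]
    (X : Scheme.{u}) [X.Over (Spec (CommRingCat.of k))] [IsProper (X ↘ Spec (CommRingCat.of k))]
    (n : ℕ) (ι : X ⟶ CohB1.ProjSpace n k) [IsClosedImmersion ι]
    (hι : ι ≫ CohB1.ProjSpace.toSpec n k = X ↘ Spec (CommRingCat.of k))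
    (L : X.Modules) (hL : Nonempty (L ≅ (Scheme.Modules.pullback ι).obj (Twist.twistProjSpace n k 1)))
    (N : ℕ) (P : ℚ[X]) :
    ∃ l₀ : ℕ, ∀ (F : X.Modules) (q : FlatMod.freeMod X N ⟶ F),
      Coh.IsCoh F → Epi q → ShStab.IsHilbPoly k X L F P →
        ∀ l : ℕ, l₀ ≤ l →
          (∀ i : ℕ, 0 < i → Subsingleton (Coh.HH X (ShStab.twist X L F l) i)) ∧
          (∀ i : ℕ, 0 < i → Subsingleton (Coh.HH X (ShStab.twist X L (kernel q) l) i)) ∧
          Curv2.IsGloballyGenerated (ShStab.twist X L (kernel q) l) := by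
  haveI := Pic13Lib.isLocallyNoetherian_of_closed ι
  obtain ⟨m, hm⟩ := VarReg31.exists_regularity_quot ι hι N P hL
  refine ⟨m.toNat, fun F q hF hq hP l hl => ?_⟩
  obtain ⟨hG, hFr⟩ := hm F q hF hq hP
  have hO : Coh.IsCoh (FlatMod.freeMod X N) := Pic13Lib.isCoh_sigma_unit N
  have hGc : Coh.IsCoh (kernel q) := QCoh.isCoh_kernel hO hF q
  obtain ⟨eF⟩ := VarReg31.twist_iso ι hL F l
  obtain ⟨eG⟩ := VarReg31.twist_iso ι hL (kernel q) l
  refine ⟨fun i hi => QCoh.subsingleton_HH_of_iso eF.symm i
      (Pic13Lib.subsingleton_HH_of_isMRegular ι hF hFr hi (by omega)),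
    fun i hi => QCoh.subsingleton_HH_of_iso eG.symm i
      (Pic13Lib.subsingleton_HH_of_isMRegular ι hGc hG hi (by omega)),
    AmpleX.isGloballyGenerated_of_iso eG.symm
      (Pic13Lib.isGloballyGenerated_twistOn ι hGc (Pic13Lib.isMRegular_of_le ι hGc hG (by omega)))⟩


end Groth.Agent.S18841
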