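import Groth.Statements.S18848
import Groth.Agent.StabH89.TFSetup
import Groth.Agent.StabH89.TFPush

set_option autoImplicit false
universe u
open CategoryTheory CategoryTheory.Limits AlgebraicGeometry
open TFOne Groth.Agent.StabH89

namespace Groth.Agent.S18848

/-- Let R be a discrete valuation ring with residue field κ, f : X ⟶ Spec R flat and proper, and X_s its
special fibre, assumed reduced of pure dimension one with geometrically integral irreducible
components over κ. Let I be a coherent R-flat module on X whose restriction I(s) to X_s is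
torsion-free rank-1, E a locally free module of rank r > 0 on X with restriction E(s), and d an
integer with χ(I(s)) = d and deg E(s) = -r·d. For a closed subset T of X_s write I(s)_T for the
torsion-free quotient of I(s) on T (pinned by its defining property) and β(T) := r·χ(I(s)_T) +
deg(E(s)|_T) (the source's β cleared of the denominator r). Let Y be a closed subcurve of X_s (a
non-empty union of irreducible components), and let I^Y be the kernel of the composite I ⟶ i_* I(s)
⟶ i_* I(s)_Y, with restriction I^Y(s) to X_s and quotients I^Y(s)_T and numbers β^Y(T) :=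
r·χ(I^Y(s)_T) + deg(E(s)|_T) defined likewise. Assume I(s) is semistable with respect to E(s). Then
I^Y(s) is semistable with respect to E(s) if and only if β(Y) = 0 and I(s)_Y, viewed on the reduced
closed subscheme Y, is semistable with respect to E(s)|_Y. (Here β(Y) = 0 says that E(s)|_Y is a
polarisation for I(s)_Y, the source's implicit requirement for semistability with respect to
E(s)|_Y. The source states the conclusion for semistability of I^Y over Spec R, which it reduces at
once to the special fibre since I^Y and I agree off Y; it also asserts that I^Y(s) and I(s) are then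
Jordan–Hölder equivalent, which is not stated here; it takes f projective.) -/
theorem result (R : Type u) [CommRing R] [IsDomain R] [IsDiscreteValuationRing R] (X : Scheme.{u}) (f : X ⟶ Spec (CommRingCat.of R)) [Flat f] [IsProper f] (Xs : Scheme.{u}) [Xs.Over (Spec (CommRingCat.of (IsLocalRing.ResidueField R)))] (i : Xs ⟶ X) (hsq : IsPullback i (Xs ↘ Spec (CommRingCat.of (IsLocalRing.ResidueField R))) f (Spec.map (CommRingCat.ofHom (IsLocalRing.residue R)))) [IsReduced Xs] (hpure : ∀ C ∈ irreducibleComponents (Xs : Type u), topologicalKrullDim C = 1) (hgi : ∀ (C : Set Xs) (hC : C ∈ irreducibleComponents (Xs : Type u)), GeometricallyIntegral (VecSt.subschι Xs C (isClosed_of_mem_irreducibleComponents C hC) ≫ (Xs ↘ Spec (CommRingCat.of (IsLocalRing.ResidueField R))))) (I : X.Modules) (hIc : Coh.IsCoh I) (hIf : FlatMod.IsFlatOver f I) (hIs : TFOne.IsTF1 Xs ((Scheme.Modules.pullback i).obj I)) (E : X.Modules) (r : ℕ) (hr : 0 < r) (hE : FlatMod.IsFinLocFreeOfRank r E) (d : ℤ) (hχ : Curv2.euler (IsLocalRing.ResidueField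 R) Xs ((Scheme.Modules.pullback i).obj I) = d) (hEd : Curv2.deg (IsLocalRing.ResidueField R) Xs ((Scheme.Modules.pullback i).obj E) r = -(r : ℤ) * d) (hss : TFOne.IsSemistable Xs (IsLocalRing.ResidueField R) (Xs ↘ Spec (CommRingCat.of (IsLocalRing.ResidueField R))) ((Scheme.Modules.pullback i).obj I) ((Scheme.Modules.pullback i).obj E) r) (Y : Set Xs) (hY : IsClosed Y) (hYs : VecSt.IsSubcurve Xs Y) (GY : Xs.Modules) (πY : ((Scheme.Modules.pullback i).obj I) ⟶ GY) (hGY : TFOne.IsQuotOn Xs ((Scheme.Modules.pullback i).obj I) Y GY πY) (IY : X.Modules) (hIY : IY = kernel ((Scheme.Modules.pullbackPushforwardAdjunction i).unit.app I ≫ (Scheme.Modules.pushforward i).map πY)) : TFOne.IsSemistable Xs (IsLocalRing.ResidueField R) (Xs ↘ Spec (CommRingCat.of (IsLocalRing.ResidueField R))) ((Scheme.Modules.pullback i).obj IY) ((Scheme.Modules.pullback i).obj E) r ↔ (TFOne.rBeta Xs (IsLocalRing.ResidueField R) (Xs ↘ Spec (CommRingCat.of (IsLocalRing.ResidueField R))) Y hY ((Scheme.Modules.pullback i).obj E) r GY =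 0 ∧ TFOne.IsSemistable (VecSt.subsch Xs Y hY) (IsLocalRing.ResidueField R) (VecSt.subschι Xs Y hY ≫ (Xs ↘ Spec (CommRingCat.of (IsLocalRing.ResidueField R)))) ((Scheme.Modules.pullback (VecSt.subschι Xs Y hY)).obj GY) ((Scheme.Modules.pullback (VecSt.subschι Xs Y hY)).obj ((Scheme.Modules.pullback i).obj E)) r) := by
  haveI := isProper_special hsq
  haveI : IsNoetherian Xs := Groth.Agent.CurveCohLib.isNoetherian_of_proper (k := IsLocalRing.ResidueField R)
  have hE' := isFinLocFreeOfRank_special hsq hE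
  obtain ⟨a, b, w, hS, hN⟩ := exists_data hsq hIc hIf hGY hIY
  have hYu := isUnionComp_of_isSubcurve hYs
  have hN1 := isTF1_modif hIs hGY hS hN
  have hχN : Curv2.euler (IsLocalRing.ResidueField R) Xs ((Scheme.Modules.pullback i).obj IY) = d :=
    (euler_modif_total (IsLocalRing.ResidueField R) hIs hGY hS hN).trans hχ
  constructor
  · intro hssN
    have hY0 := rBeta_nonneg _ hE' hχ hEd hss hY hYu hGY
    obtain ⟨Y', hY'⟩ : ∃ Y', Y' = ⋃₀ {C | C ∈ irreducibleComponents (Xs : Type u) ∧ ¬ C ⊆ Y} := ⟨_, rfl⟩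
    have hY'u : IsUnionComp Y' := hY' ▸ isUnionComp_sUnion fun _ h => h.1
    have hY'c : IsClosed Y' := by
      rw [hY', Set.sUnion_eq_biUnion]
      exact (TopologicalSpace.NoetherianSpace.finite_irreducibleComponents.subset fun C hC => hC.1).isClosed_biUnion
        fun C hC => isClosed_of_mem_irreducibleComponents C hC.1
    obtain ⟨G2, π2, hG2⟩ := exists_isQuotOn hN1 hY'c hY'u
    have hu : Y ∪ Y' = Set.univ := hY' ▸ union_compl_eq_univ hY
    have hWc : IsClosed (∅ : Set Xs) := isClosed_empty
    have hWu : IsUnionComp (∅ : Set Xs) := fun x hx => absurd hx (Set.notMem_empty x)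
    have hWg : ∀ y ∈ genericPoints (Xs : Type u), (y ∈ (∅ : Set Xs) ↔ y ∈ Y ∧ y ∈ Y') := fun y hy => by
      rw [hY', mem_compl_components_iff hY hy]; simp
    obtain ⟨GW, πW, hGW⟩ := exists_isQuotOn hIs hWc hWu
    obtain ⟨GU, πU, hGU⟩ := exists_isQuotOn hIs (hY.union hY'c) (isUnionComp_union hYu hY'u)
    have heq := (rBeta_modif_eq_iff (IsLocalRing.ResidueField R) hE' hpure hIs hY hYu hGY hS hN hr hY'c hY'u hWc hWu hWg
      GW GU G2).2 ((euler_modif hIs hGY hS hN (IsLocalRing.ResidueField R) hpure hWg hG2 hGW hGU).2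
        fun y _ => hu ▸ trivial)
    rw [rBeta_empty _ hE' hWc hGW] at heq
    have hUc := hY.union hY'c
    have hU0 : TFOne.rBeta Xs (IsLocalRing.ResidueField R) (Xs ↘ Spec (CommRingCat.of (IsLocalRing.ResidueField R)))
        (Y ∪ Y') hUc ((Scheme.Modules.pullback i).obj E) r GU = 0 := by
      revert hUc hGU
      rw [hu]
      exact fun hGU hUc => rBeta_univ _ hE' hIs hGU hχ hEd hUc
    have h2 := rBeta_nonneg _ hE' hχN hEd hssN hY'c hY'u hG2
    refine ⟨by linarith, isTF1_pullback_quot hY hYs hIs hGY, ?_⟩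
    intro T hT hTs _ G π hπ
    haveI := hGY.1
    haveI := isIso_unit_subsch hY hYs hGY.2.1 hGY.2.2.1 hGY.2.2.2
    haveI : Epi (πY ≫ (Scheme.Modules.pullbackPushforwardAdjunction (VecSt.subschι Xs Y hY)).unit.app GY) :=
      epi_comp _ _
    obtain ⟨hq, hqu⟩ := isQuotOn_push hY hYs (Groth.Agent.ZClosLib.isCoh_pullback _ hGY.2.1).1
      (πY ≫ (Scheme.Modules.pullbackPushforwardAdjunction (VecSt.subschι Xs Y hY)).unit.app GY) hT
      (isUnionComp_of_isSubcurve hTs) hπ
    rw [rBeta_subsch _ hE' hY hYs hT (isUnionComp_of_isSubcurve hTs) hπ.2.1]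
    exact rBeta_nonneg _ hE' hχ hEd hss _ hqu hq
  · rintro ⟨hY0, -⟩
    refine ⟨hN1, fun Z hZ hZs _ GZ1 πZ1 hGZ1 => ?_⟩
    have hZu := isUnionComp_of_isSubcurve hZs
    obtain ⟨W, hW⟩ : ∃ W, W = ⋃₀ {C | C ∈ irreducibleComponents (Xs : Type u) ∧ C ⊆ Y ∩ Z} := ⟨_, rfl⟩
    have hWc : IsClosed W := hW ▸ isClosed_meet _
    have hWu : IsUnionComp W := hW ▸ isUnionComp_meet _
    obtain ⟨GW, πW, hGW⟩ := exists_isQuotOn hIs hWc hWu
    obtain ⟨GU, πU, hGU⟩ := exists_isQuotOn hIs (hY.union hZ) (isUnionComp_union hYu hZu)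
    have hβ := rBeta_modif (IsLocalRing.ResidueField R) hE' hpure hIs hY hYu hGY hS hN hZ hZu hWc hWu
      (fun y hy => mem_inter_components_iff hY hZ hW hy) hGZ1 hGW hGU
    have h1 := rBeta_nonneg _ hE' hχ hEd hss hWc hWu hGW
    have h2 := rBeta_nonneg _ hE' hχ hEd hss (hY.union hZ) (isUnionComp_union hYu hZu) hGU
    linarith

end Groth.Agent.S18848
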