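import Groth.Statements.S18863
import Groth.Agent.PRed28.GrpLimit
import Groth.Agent.PRed28.LimFlatBase
import Groth.Agent.SchTorsor.Props
import Groth.Agent.MorLib.LimExists
import Groth.Agent.FpqcDescLib.Basic

set_option autoImplicit false
universe u
open CategoryTheory CategoryTheory.Limits MonoidalCategory CartesianMonoidalCategory MonObj GrpObj AlgebraicGeometry
open NonAbH1

set_option linter.style.haveILetI false

namespace Groth.Agent.S18863

attribute [local instance] IsCofiltered.isConnected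

/-- A limit of pseudo-torsors is a pseudo-torsor. -/
theorem isPseudoTorsor_limit {X : Scheme.{u}} {I : Type u} [SmallCategory I] (G : I ⥤ Over X) (cG : Cone G)
    (hcG : IsLimit cG) [∀ i, GrpObj (G.obj i)] [GrpObj cG.pt] [∀ {i j : I} (φ : i ⟶ j), IsMonHom (G.map φ)]
    (p : ∀ i, cG.pt ⟶ G.obj i) (hp : ∀ i, p i = cG.π.app i) [∀ i, IsMonHom (p i)]
    (T : I ⥤ Over X) (aT : ∀ i, AlgGrp.Action (G.obj i) (T.obj i))
    (hT : ∀ i, IsPseudoTorsorSch (aT i))
    (hTm : ∀ (i j : I) (φ : i ⟶ j), AlgGrp.Action.IsEquivariant (aT i) ((aT j).restrict (G.map φ)) (T.map φ))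
    (cT : Cone T) (hcT : IsLimit cT) (a : AlgGrp.Action cG.pt cT.pt)
    (ha : ∀ i, AlgGrp.Action.IsEquivariant a ((aT i).restrict (p i)) (cT.π.app i)) :
    IsPseudoTorsorSch a := by
  haveI : ∀ i, IsIso (lift (aT i).act (snd (G.obj i) (T.obj i))) := hT
  have hpt : ∀ {Y : Over X} (g : Y ⟶ cG.pt) (x : Y ⟶ cT.pt) (i : I),
      lift g x ≫ a.act ≫ cT.π.app i = lift (g ≫ p i) (x ≫ cT.π.app i) ≫ (aT i).act := fun g x i => by
    rw [ha i, AlgGrp.Action.restrict_act, ← Category.assoc, lift_whiskerLeft, ← Category.assoc, lift_whiskerRight]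
  have hmp : ∀ {Y : Over X} {i j : I} (φ : i ⟶ j) (h : Y ⟶ G.obj i) (y : Y ⟶ T.obj i),
      lift h y ≫ (aT i).act ≫ T.map φ = lift (h ≫ G.map φ) (y ≫ T.map φ) ≫ (aT j).act := fun φ h y => by
    rw [hTm _ _ φ, AlgGrp.Action.restrict_act, ← Category.assoc, lift_whiskerLeft, ← Category.assoc, lift_whiskerRight]
  have huniq : ∀ {Y : Over X} {i : I} (h h' : Y ⟶ G.obj i) (y : Y ⟶ T.obj i),
      lift h y ≫ (aT i).act = lift h' y ≫ (aT i).act → h = h' := fun {Y i} h h' y e => by
    have e2 : lift h y ≫ lift (aT i).act (snd _ _) = lift h' y ≫ lift (aT i).act (snd _ _) := by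
      rw [comp_lift, comp_lift, e, lift_snd, lift_snd]
    have e3 := congrArg (· ≫ fst (G.obj i) (T.obj i)) ((cancel_mono _).mp e2)
    simpa using e3
  let comp : ∀ i, cT.pt ⊗ cT.pt ⟶ G.obj i := fun i =>
    lift (fst cT.pt cT.pt ≫ cT.π.app i) (snd cT.pt cT.pt ≫ cT.π.app i) ≫
      inv (lift (aT i).act (snd (G.obj i) (T.obj i))) ≫ fst (G.obj i) (T.obj i)
  have hcomp : ∀ i, lift (comp i) (snd cT.pt cT.pt ≫ cT.π.app i) ≫ (aT i).act = fst cT.pt cT.pt ≫ cT.π.app i := by
    intro i
    have h1 : inv (lift (aT i).act (snd (G.obj i) (T.obj i))) ≫ snd (G.obj i) (T.obj i) = snd _ _ := by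
      rw [IsIso.inv_comp_eq, lift_snd]
    have h2 : inv (lift (aT i).act (snd (G.obj i) (T.obj i))) ≫ (aT i).act = fst _ _ := by
      rw [IsIso.inv_comp_eq, lift_fst]
    let z := lift (fst cT.pt cT.pt ≫ cT.π.app i) (snd cT.pt cT.pt ≫ cT.π.app i) ≫
      inv (lift (aT i).act (snd (G.obj i) (T.obj i)))
    have hz : lift (comp i) (snd cT.pt cT.pt ≫ cT.π.app i) = z := by
      apply CartesianMonoidalCategory.hom_ext
      · simp [comp, z]
      · rw [lift_snd, Category.assoc, h1, lift_snd]
    rw [hz, Category.assoc, h2, lift_fst]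
  let cone : Cone G :=
    { pt := cT.pt ⊗ cT.pt
      π :=
        { app := comp
          naturality := fun i j φ => by
            show 𝟙 _ ≫ comp j = comp i ≫ G.map φ
            rw [Category.id_comp]
            refine huniq _ _ (snd cT.pt cT.pt ≫ cT.π.app j) ?_
            rw [hcomp j, ← cT.w φ, ← Category.assoc (snd _ _), ← hmp φ, reassoc_of% hcomp i] } }
  let gg : cT.pt ⊗ cT.pt ⟶ cG.pt := hcG.lift cone
  have hgg : ∀ i, gg ≫ p i = comp i := fun i => by rw [hp]; exact hcG.fac cone i
  refine ⟨lift gg (snd cT.pt cT.pt), ?_, ?_⟩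
  · apply CartesianMonoidalCategory.hom_ext
    · rw [Category.id_comp, Category.assoc, lift_fst]
      refine hcG.hom_ext fun i => huniq _ _ (snd cG.pt cT.pt ≫ cT.π.app i) ?_
      rw [← hp, Category.assoc, hgg]
      have h := congrArg (lift a.act (snd cG.pt cT.pt) ≫ ·) (hcomp i)
      simp only [comp_lift_assoc, lift_snd_assoc, lift_fst_assoc] at h
      rw [h, ← hpt, lift_fst_snd, Category.id_comp]
    · simp
  · apply CartesianMonoidalCategory.hom_ext
    · rw [Category.id_comp, Category.assoc, lift_fst]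
      refine hcT.hom_ext fun i => ?_
      rw [Category.assoc, hpt, hgg, hcomp]
    · simp

set_option backward.isDefEq.respectTransparency false in
/-- Let k be a field and X a quasi-compact k-scheme. Let (G_i)_{i ∈ I} be a cofiltered inverse system of
affine group schemes of finite type over k with limit G in the category of k-group schemes (a limit
cone of homomorphisms G → G_i), and (T_i)_{i ∈ I} an inverse system of X-schemes such that each T_i
is a torsor over X for the fpqc topology under the base change of G_i to X and each transition map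
T_j → T_i is equivariant along G_j → G_i. Let T be a limit of the T_i over X, with an action of the
base change of G to X for which every projection T → T_i is equivariant along G → G_i. Then T is a
torsor over X under the base change of G for the fpqc topology. (The source indexes the system by a
directed partially ordered set and also records that T is pointed over a rational point of X when
all the T_i are; the limit scheme, the limit group and the limit action, which exist and are unique,
are taken here as data.) -/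
theorem result (k : Type u) [Field k]
    (X : Scheme.{u}) [X.Over (Spec (CommRingCat.of k))] [CompactSpace X]
    {I : Type u} [SmallCategory I] [IsCofiltered I]
    (DG : I ⥤ Grp (Over (Spec (CommRingCat.of k))))
    [∀ i, IsAffineHom (DG.obj i).X.hom] [∀ i, LocallyOfFiniteType (DG.obj i).X.hom]
    (cG : Cone DG) (hcG : IsLimit cG)
    (DT : I ⥤ Over X)
    (aT : ∀ i, AlgGrp.Action (Red.bc (X ↘ Spec (CommRingCat.of k)) (DG.obj i).X) (DT.obj i))
    (hT : ∀ i, NonAbH1.IsTorsorFor Scheme.fpqcPrecoverage (aT i))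
    (hDT : ∀ (i j : I) (φ : i ⟶ j), AlgGrp.Action.IsEquivariant (aT i)
      ((aT j).restrict ((Over.pullback (X ↘ Spec (CommRingCat.of k))).map (DG.map φ).hom.hom)) (DT.map φ))
    (cT : Cone DT) (hcT : IsLimit cT)
    (a : AlgGrp.Action (Red.bc (X ↘ Spec (CommRingCat.of k)) cG.pt.X) cT.pt)
    (ha : ∀ i, AlgGrp.Action.IsEquivariant a
      ((aT i).restrict ((Over.pullback (X ↘ Spec (CommRingCat.of k))).map (cG.π.app i).hom.hom)) (cT.π.app i)) :
    NonAbH1.IsTorsorFor Scheme.fpqcPrecoverage a := by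
  let f := X ↘ Spec (CommRingCat.of k)
  let Fb := Over.pullback f
  haveI : ∀ i, IsAffine ((DG ⋙ Grp.forget _ ⋙ Over.forget _).obj i) := fun i =>
    @isAffine_of_isAffineHom _ _ (DG.obj i).X.hom (‹∀ i, IsAffineHom (DG.obj i).X.hom› i) _
  haveI : HasLimit ((DG ⋙ Grp.forget _) ⋙ Over.forget _) :=
    MorLib.LimExists.hasLimit_of_isAffine (DG ⋙ Grp.forget _ ⋙ Over.forget _)
  haveI : HasLimit (DG ⋙ Grp.forget _) := hasLimit_of_created _ (Over.forget _)
  obtain ⟨hL⟩ := PRed28.nonempty_isLimit_forget_grp DG cG hcG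
  let G' : I ⥤ Over X := (DG ⋙ Grp.forget _) ⋙ Fb
  let cG' : Cone G' := Fb.mapCone ((Grp.forget _).mapCone cG)
  have hcG' : IsLimit cG' := isLimitOfPreserves Fb hL
  letI : ∀ i, GrpObj (G'.obj i) := fun i => Red.grpObj_bc f (DG.obj i).X
  letI : GrpObj cG'.pt := Red.grpObj_bc f cG.pt.X
  haveI : ∀ {i j : I} (φ : i ⟶ j), IsMonHom (G'.map φ) := fun φ =>
    @Functor.map.instIsMonHom _ _ _ _ _ _ Fb _ _ _ _ _ (DG.map φ).hom.hom inferInstance
  haveI : ∀ i, @IsMonHom (Over X) _ _ cG'.pt (G'.obj i) _ _ (Fb.map (cG.π.app i).hom.hom) := fun i =>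
    @Functor.map.instIsMonHom _ _ _ _ _ _ Fb _ _ _ _ _ (cG.π.app i).hom.hom inferInstance
  refine ⟨isPseudoTorsor_limit G' cG' hcG' (fun i => Fb.map (cG.π.app i).hom.hom) (fun i => rfl) DT aT
    (fun i => (hT i).1) hDT cT hcT a ha, ?_⟩
  haveI := EtFound.fpqc_isAffineHom.{u}
  have haff : ∀ i, IsAffineHom (DT.obj i).hom := fun i => by
    haveI : IsAffineHom (DG.obj i).X.hom := ‹∀ i, IsAffineHom (DG.obj i).X.hom› i
    exact SchTorsor.torsor_property @IsAffineHom (hT i)
      (MorphismProperty.pullback_snd (P := @IsAffineHom) (DG.obj i).X.hom f ‹IsAffineHom (DG.obj i).X.hom›)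
  have hflat : ∀ i, Flat (DT.obj i).hom := fun i => by
    haveI : Flat (DG.obj i).X.hom := inferInstance
    exact SchTorsor.torsor_property @Flat (hT i)
      (MorphismProperty.pullback_snd (P := @Flat) (DG.obj i).X.hom f ‹Flat (DG.obj i).X.hom›)
  haveI := PRed28.flat_pt hcT haff hflat
  haveI := PRed28.surjective_pt hcT haff (fun i => SchTorsor.surjective_hom (hT i))
  haveI := PRed28.isAffineHom_pt hcT haff
  refine ⟨Presieve.singleton cT.pt.hom, FpqcDescLib.isCovering_of_quasiCompact cT.pt.hom, ?_⟩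
  rintro _ _ ⟨⟩
  exact ⟨𝟙 _, Category.id_comp _⟩

end Groth.Agent.S18863
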