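import Groth.Statements.S18876
import Groth.Statements.S18876
import Groth.Agent.AlgStLib.Calculus
import Groth.Agent.AlgStLib.FppfSite
import Groth.Agent.H23.QCCrit

set_option backward.isDefEq.respectTransparency false
set_option backward.isDefEq.respectTransparency.types false

set_option autoImplicit false
universe u
open Gerb

open CategoryTheory CategoryTheory.Functor AlgebraicGeometry Opposite
open Groth.Agent.FibBase Groth.Agent.AlgStLib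

namespace Groth.Agent.S18876

variable {S : Scheme.{u}} {𝒳 𝒴 : AlgSt.Cat S} {M : AlgSp.Sp S}

/-- Covering sieves of the spectrum of an algebraically closed field are trivial. -/
theorem id_mem {Ω : Type u} [Field Ω] [IsAlgClosed Ω] {t : Spec (CommRingCat.of Ω) ⟶ S}
    {R : Sieve (Over.mk t)} (hR : R ∈ QuotSh.J Scheme.fppfPrecoverage S (Over.mk t)) : R.arrows (𝟙 _) := by
  obtain ⟨ι, V, v, -, hlfp, hs, hmem⟩ := exists_fppf_of_mem_J hR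
  obtain ⟨i, z, hz⟩ := hs (IsLocalRing.closedPoint Ω)
  let w : (V i).left ⟶ Spec (CommRingCat.of Ω) := (v i).left
  have : LocallyOfFinitePresentation w := hlfp i
  have : Surjective w := ⟨fun x => ⟨z, Subsingleton.elim (α := PrimeSpectrum Ω) _ _⟩⟩
  obtain ⟨σ, hσ⟩ := Groth.Agent.H23.QCCrit.exists_geomPoint_lift w Ω (𝟙 _)
  let σ' : Over.mk t ⟶ V i := Over.homMk σ (by
    show σ ≫ (V i).hom = t
    rw [← Over.w (v i), ← Category.assoc]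
    erw [hσ]
    exact Category.id_comp _)
  have h : σ' ≫ v i = 𝟙 _ := Over.OverMorphism.ext hσ
  exact h ▸ R.downward_closed (hmem i) σ'

theorem sec_eq_of_lift {P : (Over S)ᵒᵖ ⥤ Type (u + 1)} {T : Over S} {a b : Stk.EltObj P} (φ : a ⟶ b)
    (h : (Stk.EltObj.forget P).IsHomLift (𝟙 T) φ) (ha : T = a.base) (hb : T = b.base) :
    P.map (eqToHom ha).op a.sec = P.map (eqToHom hb).op b.sec := by
  obtain ⟨A, s⟩ := a
  obtain ⟨B, s'⟩ := b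
  dsimp only at ha hb
  subst ha hb
  have hm : φ.hom = 𝟙 T := by simpa using map_eq_of_isHomLift_id h
  have := φ.map_sec
  simp only [hm] at this
  exact congrArg _ this.symm |>.trans (by simp)

/-- Morphisms over identities preserve sections. -/
theorem fibSec_eq_of_hom (π : 𝒳 ⥤ᵇ AlgSt.ofSp M) {T : Over S} {x y : 𝒳.p.Fiber T} (φ : x ⟶ y) :
    AlgSt.fibSec π x = AlgSt.fibSec π y :=
  have := φ.2
  sec_eq_of_lift (π.map φ.1) (π.preserves_isHomLift (𝟙 T) φ.1) _ _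

/-- Isomorphic functors have equal sections. -/
theorem fibSec_congr {π π' : 𝒳 ⥤ᵇ AlgSt.ofSp M} (i : π ≅ π') {T : Over S} (x : 𝒳.p.Fiber T) :
    AlgSt.fibSec π x = AlgSt.fibSec π' x :=
  sec_eq_of_lift (isoApp i x.1).hom (isoApp_lift i x.2) _ _

theorem geomPtBij_congr {π π' : 𝒳 ⥤ᵇ AlgSt.ofSp M} (i : π ≅ π') (h : AlgSt.GeomPtBij π) :
    AlgSt.GeomPtBij π' := fun Ω _ _ t => by
  obtain ⟨h₁, h₂⟩ := h Ω t
  refine ⟨fun m => ?_, fun x y hxy => h₂ x y (by rw [fibSec_congr i, fibSec_congr i, hxy])⟩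
  obtain ⟨x, hx⟩ := h₁ m
  exact ⟨x, (fibSec_congr i x).symm.trans hx⟩

section Gerbe

variable (F : 𝒳 ⥤ᵇ 𝒴)

/-- The image of an object of a fibre. -/
abbrev img {T : Over S} (x : 𝒳.p.Fiber T) : 𝒴.p.Fiber T := ⟨F.obj x.1, (F.w_obj x.1).trans x.2⟩

theorem fibSec_img (π : 𝒴 ⥤ᵇ AlgSt.ofSp M) {T : Over S} (x : 𝒳.p.Fiber T) :
    AlgSt.fibSec (BasedFunctor.comp F π) x = AlgSt.fibSec π (img F x) := rfl

variable (hY : FibCat.IsFibGrpd 𝒴.p) (hX : FibCat.IsFibGrpd 𝒳.p)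
  (hF : Gerb.IsGerbeOver (QuotSh.J Scheme.fppfPrecoverage S) F)
  {Ω : Type u} [Field Ω] [IsAlgClosed Ω] {t : Spec (CommRingCat.of Ω) ⟶ S}
include hF

include hY in
theorem exists_preimage (y : 𝒴.p.Fiber (Over.mk t)) :
    ∃ x : 𝒳.p.Fiber (Over.mk t), Nonempty (img F x ≅ y) := by
  obtain ⟨R, hR, h⟩ := hF.1 y.1
  have hRid : R.arrows (eqToHom y.2.symm) := by
    have := id_mem (R := R.pullback (eqToHom y.2.symm)) (GrothendieckTopology.pullback_stable _ _ hR)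
    simpa using this
  obtain ⟨x, g, hg⟩ := h _ hRid
  have hx : 𝒳.p.obj x = Over.mk t := (F.w_obj x).symm.trans (IsHomLift.domain_eq 𝒴.p (eqToHom y.2.symm) g)
  have hg' : 𝒴.p.IsHomLift (𝟙 (Over.mk t)) g := by
    refine IsHomLift.of_fac' _ _ _ ((F.w_obj x).trans hx) y.2 ?_
    rw [IsHomLift.fac' 𝒴.p (eqToHom y.2.symm) g]
    simp
  have : IsIso g := isIso_of_lift (p := 𝒴.p) (hp := hY) (𝟙 (Over.mk t)) g
  exact ⟨⟨x, hx⟩, ⟨fiberIsoMk (a := img F ⟨x, hx⟩) (asIso g) hg'⟩⟩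

include hX in
theorem iso_of_img_iso {x x' : 𝒳.p.Fiber (Over.mk t)} (b : img F x ≅ img F x') : Nonempty (x ≅ x') := by
  obtain ⟨x, hx⟩ := x
  obtain ⟨x', hx'⟩ := x'
  have hb : 𝒴.p.IsHomLift (𝟙 (𝒳.p.obj x)) b.hom.1 := isHomLift_id_congr hx.symm b.hom.2
  obtain ⟨R, hR, h⟩ := hF.2 x x' b.hom.1 hb
  have hRid : R.arrows (eqToHom hx.symm) := by
    have := id_mem (R := R.pullback (eqToHom hx.symm)) (GrothendieckTopology.pullback_stable _ _ hR)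
    simpa using this
  obtain ⟨x₀, φ, ψ, hφ, hψ, -⟩ := h _ hRid
  have h₀ : 𝒳.p.obj x₀ = Over.mk t := IsHomLift.domain_eq 𝒳.p (eqToHom hx.symm) φ
  have hφ' : 𝒳.p.IsHomLift (𝟙 (Over.mk t)) φ := by
    refine IsHomLift.of_fac' _ _ _ h₀ hx ?_
    rw [IsHomLift.fac' 𝒳.p (eqToHom hx.symm) φ]
    simp
  have hψ' : 𝒳.p.IsHomLift (𝟙 (Over.mk t)) ψ := by
    refine IsHomLift.of_fac' _ _ _ h₀ hx' ?_
    rw [IsHomLift.fac' 𝒳.p (eqToHom hx.symm) ψ]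
    simp
  have : IsIso φ := isIso_of_lift (p := 𝒳.p) (hp := hX) (𝟙 (Over.mk t)) φ
  have : IsIso ψ := isIso_of_lift (p := 𝒳.p) (hp := hX) (𝟙 (Over.mk t)) ψ
  let z : 𝒳.p.Fiber (Over.mk t) := ⟨x₀, h₀⟩
  exact ⟨(fiberIsoMk (a := z) (b := Fiber.mk hx) (asIso φ) hφ').symm ≪≫
    fiberIsoMk (a := z) (b := Fiber.mk hx') (asIso ψ) hψ'⟩

theorem geomPtBij_comp_iff (hY : FibCat.IsFibGrpd 𝒴.p) (hX : FibCat.IsFibGrpd 𝒳.p)
    (π : 𝒴 ⥤ᵇ AlgSt.ofSp M) : AlgSt.GeomPtBij (BasedFunctor.comp F π) ↔ AlgSt.GeomPtBij π := by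
  refine ⟨fun h Ω _ _ t => ?_, fun h Ω _ _ t => ?_⟩
  · obtain ⟨h₁, h₂⟩ := h Ω t
    refine ⟨fun m => ?_, fun y y' hyy => ?_⟩
    · obtain ⟨x, hx⟩ := h₁ m
      exact ⟨img F x, hx⟩
    · obtain ⟨x, ⟨e⟩⟩ := exists_preimage F hY hF y
      obtain ⟨x', ⟨e'⟩⟩ := exists_preimage F hY hF y'
      obtain ⟨i⟩ := h₂ x x' (by
        rw [fibSec_img, fibSec_img, fibSec_eq_of_hom π e.hom, fibSec_eq_of_hom π e'.hom, hyy])
      have hi : 𝒴.p.IsHomLift (𝟙 (Over.mk t)) (F.map i.hom.1) :=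
        have := i.hom.2
        F.preserves_isHomLift (𝟙 (Over.mk t)) i.hom.1
      exact ⟨e.symm ≪≫ fiberIsoMk (a := img F x) (b := img F x') (F.toFunctor.mapIso (ofFiberIso i)) hi ≪≫ e'⟩
  · obtain ⟨h₁, h₂⟩ := h Ω t
    refine ⟨fun m => ?_, fun x x' hxx => ?_⟩
    · obtain ⟨y, hy⟩ := h₁ m
      obtain ⟨x, ⟨e⟩⟩ := exists_preimage F hY hF y
      exact ⟨x, by rw [fibSec_img, fibSec_eq_of_hom π e.hom, hy]⟩
    · obtain ⟨b⟩ := h₂ (img F x) (img F x') hxx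
      exact iso_of_img_iso F hX hF b

end Gerbe

open CategoryTheory AlgebraicGeometry in
/-- Let S be a scheme and F : 𝒳 → 𝒴 a morphism of algebraic stacks over S which makes 𝒳 an fppf gerbe
over 𝒴 and through which every morphism from 𝒳 to an algebraic space factors, uniquely up to
2-isomorphism. Then 𝒴 admits a coarse moduli space exactly when 𝒳 does, and the two coarse moduli
spaces coincide: for every coarse moduli map π : 𝒴 → M the composite 𝒳 → 𝒴 → M is a coarse moduli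
map of 𝒳. (The published statement is about the rigidification F of 𝒳 along a flat finitely
presented subgroup stack of its inertia; only two of its properties are assumed here, that F is a
gerbe and that maps to algebraic spaces factor through F, which is what the published argument uses;
neither stack is assumed quasi-separated or locally of finite presentation over S, and their
diagonals are not assumed quasi-compact or separated.) -/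
theorem result (S : Scheme.{u}) (𝒳 𝒴 : AlgSt.Cat S)
    (h𝒳 : AlgSt.IsAlgStack Scheme.fppfPrecoverage 𝒳) (h𝒴 : AlgSt.IsAlgStack Scheme.fppfPrecoverage 𝒴)
    (F : 𝒳 ⥤ᵇ 𝒴) (hF : Gerb.IsGerbeOver (QuotSh.J Scheme.fppfPrecoverage S) F)
    (huniv : ∀ (N : AlgSp.Sp S), AlgSp.IsAlgSpace N → ∀ φ : 𝒳 ⥤ᵇ AlgSt.ofSp N,
      ∃ ψ : 𝒴 ⥤ᵇ AlgSt.ofSp N, Nonempty (BasedFunctor.comp F ψ ≅ φ) ∧
        ∀ ψ' : 𝒴 ⥤ᵇ AlgSt.ofSp N, Nonempty (BasedFunctor.comp F ψ' ≅ φ) → Nonempty (ψ' ≅ ψ)) :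
    ((∃ (M : AlgSp.Sp S) (π : 𝒴 ⥤ᵇ AlgSt.ofSp M), AlgSt.IsCoarseModuli π) ↔
        ∃ (M : AlgSp.Sp S) (π : 𝒳 ⥤ᵇ AlgSt.ofSp M), AlgSt.IsCoarseModuli π) ∧
      ∀ (M : AlgSp.Sp S) (π : 𝒴 ⥤ᵇ AlgSt.ofSp M), AlgSt.IsCoarseModuli π →
        AlgSt.IsCoarseModuli (BasedFunctor.comp F π) := by
  have hY := h𝒴.isStack.1
  have hX := h𝒳.isStack.1
  have key : ∀ (M : AlgSp.Sp S) (π : 𝒴 ⥤ᵇ AlgSt.ofSp M), AlgSt.IsCoarseModuli π →
      AlgSt.IsCoarseModuli (BasedFunctor.comp F π) := by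
    rintro M π ⟨⟨hM, hu⟩, hb⟩
    refine ⟨⟨hM, fun N hN φ => ?_⟩, (geomPtBij_comp_iff F hF hY hX π).2 hb⟩
    obtain ⟨ψ, ⟨i⟩, hψ⟩ := huniv N hN φ
    obtain ⟨g, ⟨j⟩, hg⟩ := hu N hN ψ
    refine ⟨g, ⟨whiskerLeftIso F j ≪≫ i⟩, fun g' ⟨k⟩ => hg g' ?_⟩
    exact hψ (BasedFunctor.comp π (AlgSt.ofSpMap g')) ⟨k⟩
  refine ⟨⟨fun ⟨M, π, hπ⟩ => ⟨M, _, key M π hπ⟩, ?_⟩, key⟩
  rintro ⟨M, π', ⟨hM, hu⟩, hb⟩
  obtain ⟨π, ⟨i⟩, -⟩ := huniv M hM π'
  refine ⟨M, π, ⟨hM, fun N hN χ => ?_⟩,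
    (geomPtBij_comp_iff F hF hY hX π).1 (geomPtBij_congr i.symm hb)⟩
  obtain ⟨g, ⟨j⟩, hg⟩ := hu N hN (BasedFunctor.comp F χ)
  obtain ⟨ψ, -, hψ⟩ := huniv N hN (BasedFunctor.comp F χ)
  obtain ⟨a⟩ := hψ (BasedFunctor.comp π (AlgSt.ofSpMap g)) ⟨(show BasedFunctor.comp F (BasedFunctor.comp π (AlgSt.ofSpMap g)) ≅ _ from
    whiskerRightIso i (AlgSt.ofSpMap g)) ≪≫ j⟩
  obtain ⟨c⟩ := hψ χ ⟨Iso.refl _⟩
  refine ⟨g, ⟨a ≪≫ c.symm⟩, fun g' ⟨k⟩ => hg g' ⟨whiskerRightIso i.symm (AlgSt.ofSpMap g') ≪≫ ?_⟩⟩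
  exact whiskerLeftIso F k

end Groth.Agent.S18876
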