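import Groth.Statements.S18879
import Groth.Agent.DimFormula.Scheme
import Groth.Agent.DimFormula.QuasiSection

set_option linter.style.haveILetI false

set_option autoImplicit false
universe u
open CategoryTheory AlgebraicGeometry
open Resolve

namespace Groth.Agent.S18879

/-- Let f : Y ⟶ X be a morphism locally of finite type between Noetherian separated schemes which is
birational: it maps the maximal points of Y bijectively onto the maximal points of X, and over every
maximal point of X its fibre is one point with the same residue field. Then for every point y of Y,
the Krull dimension of the local ring of Y at y is at most the Krull dimension of the local ring of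
X at f y (the codimension of a point does not increase along f). -/
theorem result {X Y : Scheme.{u}} (f : Y ⟶ X)
    [IsNoetherian X] [X.IsSeparated] [IsNoetherian Y] [Y.IsSeparated] [LocallyOfFiniteType f]
    (hf : RadPt.IsBirational f) (y : Y) :
    ringKrullDim (Y.presheaf.stalk y) ≤ ringKrullDim (X.presheaf.stalk (f.base y)) := by
  haveI := LocallyOfFiniteType.isLocallyNoetherian f
  obtain ⟨η, hη, hmax, he⟩ := Groth.Agent.DimFormula.exists_maximal_cd_eq_codim y
  have hgen : η ∈ genericPoints Y := by
    refine ⟨isIrreducible_singleton.closure, fun S hS hle => ?_⟩
    obtain ⟨z, hz⟩ := QuasiSober.sober hS.closure isClosed_closure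
    have hzη : z ⤳ η := hz.specializes (subset_closure (hle (subset_closure rfl)))
    rw [← hmax z hzη, hz.def]
    exact subset_closure
  have hy : f.base η ∈ genericPoints X := hf.1.mapsTo hgen
  have h0 : FibDim.rd f η = 0 := Groth.Agent.DimFormula.rd_eq_zero_of_closed f fun x' hx' _ =>
    (hf.2 _ hy).1 x' η hx' rfl
  have h1 := (Groth.Agent.DimFormula.cd_formula f hη).1
  have h2 := Groth.Agent.DimFormula.cd_le_codim (hη.map f.continuous)
  rw [Groth.Agent.DimFormula.ringKrullDim_stalk, Groth.Agent.DimFormula.ringKrullDim_stalk]
  exact_mod_cast (show Groth.Agent.DimFormula.codim y ≤ Groth.Agent.DimFormula.codim (f.base y) by omega)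

end Groth.Agent.S18879
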