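import Groth.Statements.S18900
import Groth.Agent.MiscTwoH99.DblCover.Glue

set_option autoImplicit false
universe u
open CategoryTheory CategoryTheory.Limits AlgebraicGeometry
open DblCov

namespace Groth.Agent.S18900

/-- Let f : X → Y be a double cover, i.e. a finite, flat, locally finitely presented morphism of rank 2
at every point, and assume 2 is invertible in O_Y(Y). Then X carries a Y-automorphism σ with σ ∘ σ =
id such that f is the quotient of X by the group generated by σ: f is affine and σ-invariant, and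
over every open subset of Y the sections of O_Y are exactly the σ-invariant sections of O_X. (The
source adds that σ has order exactly 2, which holds as soon as X is non-empty.) -/
theorem result {X Y : Scheme.{u}} (f : X ⟶ Y)
    [IsFinite f] [Flat f] [LocallyOfFinitePresentation f] (hrk : ∀ y : Y, f.finrank y = 2)
    (h2 : IsUnit (2 : Γ(Y, ⊤))) :
    ∃ σ : Aut X, σ.hom ≫ f = f ∧ σ * σ = 1 ∧ SGA1.IsQuot (Subgroup.zpowers σ).subtype f := by
  have hgood := fun y => MiscTwoH99.DblCover.exists_good f hrk y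
  let S := MiscTwoH99.DblCover.sigma h2 hgood
  have hSS : S ≫ S = 𝟙 X := MiscTwoH99.DblCover.sigma_sigma h2 hgood
  have hSf : S ≫ f = f := MiscTwoH99.DblCover.sigma_comp h2 hgood
  let σ : Aut X := ⟨S, S, hSS, hSS⟩
  have hσ : σ * σ = 1 := Iso.ext hSS
  have hcases : ∀ g : Subgroup.zpowers σ, g.1 = 1 ∨ g.1 = σ := fun g => by
    obtain ⟨n, hn⟩ := Subgroup.mem_zpowers_iff.mp g.2
    rcases Int.even_or_odd n with ⟨m, rfl⟩ | ⟨m, rfl⟩
    · left
      rw [← hn, zpow_add, ← (Commute.refl σ).mul_zpow, hσ, one_zpow]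
    · right
      rw [← hn, zpow_add, zpow_mul, zpow_two, hσ, one_zpow, zpow_one, one_mul]
  have hinv : ∀ g : Subgroup.zpowers σ, g.1.hom ≫ f = f := fun g => by
    rcases hcases g with h | h <;> rw [h]
    · exact Category.id_comp f
    · exact hSf
  refine ⟨σ, hSf, hσ, ⟨inferInstance, hinv, fun U => MiscTwoH99.DblCover.app_injective' hgood U,
    fun U s => ⟨?_, fun h => ?_⟩⟩⟩
  · rintro ⟨t, rfl⟩ g
    have h1 := Scheme.Hom.appLE_comp_appLE g.1.hom f U (f ⁻¹ᵁ U) (f ⁻¹ᵁ U) le_rfl
      (SGA1.preimage_le_of_inv (Subgroup.zpowers σ).subtype f hinv g U)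
    simp only [hinv g] at h1
    rw [← Scheme.Hom.app_eq_appLE] at h1
    exact congrArg (fun q => q.hom t) h1
  · exact MiscTwoH99.DblCover.mem_range_of_invariant h2 hgood s _ (h ⟨σ, Subgroup.mem_zpowers σ⟩)

end Groth.Agent.S18900
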