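import Groth.Statements.S18916
import Groth.Agent.RefX.Reflexive
import Groth.Agent.Triage.SliceCM

set_option autoImplicit false
universe u
open CategoryTheory CategoryTheory.Limits AlgebraicGeometry
open TFNodal

namespace Groth.Agent.S18916

/-- Let k be an algebraically closed field of characteristic zero, X a reduced proper curve over k (a
proper k-scheme of dimension one) without isolated points (no closed point is open, i.e. X is
one-dimensional at every point) and F a coherent O_X-module. Then the dual 𝓗om(F, O_X) is torsion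
free: no closed point of X is an associated point of it. -/
theorem result
    (k : Type u) [Field k] [IsAlgClosed k] [CharZero k]
    (X : Scheme.{u}) [X.Over (Spec (CommRingCat.of k))] [IsProper (X ↘ Spec (CommRingCat.of k))]
    [AlgebraicGeometry.IsReduced X] (hdim : topologicalKrullDim X = 1)
    (hpure : ∀ x : X, IsClosed ({x} : Set X) → ¬ IsOpen ({x} : Set X))
    (F : X.Modules) (hF : Coh.IsCoh F) (x : X) (hx : IsClosed ({x} : Set X)) :
    ¬ Curv2.IsAssPoint (RefHull.dual F) x := by
  haveI : IsLocallyNoetherian X := LocallyOfFiniteType.isLocallyNoetherian (X ↘ Spec (CommRingCat.of k))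
  intro hass
  obtain ⟨hprime, θ, hθ⟩ := isAssociatedPrime_iff.1
    (((Groth.Agent.RefX.dualStalk (Groth.Agent.QCoh.isCoh_iff_isFP.1 hF) x).isAssociatedPrime_iff).1 hass)
  have hkill : ∀ a ∈ IsLocalRing.maximalIdeal (X.presheaf.stalk x), a • θ = 0 := fun a ha => by
    rw [hθ] at ha
    simpa [Submodule.mem_colon_singleton] using ha
  have hθ0 : θ ≠ 0 := fun h0 => hprime.ne_top <| (Ideal.eq_top_iff_one _).2 <| by
    rw [hθ, h0]; simp [Submodule.mem_colon_singleton]
  obtain ⟨v, hv⟩ : ∃ v, θ v ≠ 0 := by
    by_contra! h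
    exact hθ0 (LinearMap.ext h)
  have hsoc : ∀ a ∈ IsLocalRing.maximalIdeal (X.presheaf.stalk x), a * θ v = 0 := fun a ha =>
    congrArg (fun φ : Module.Dual (X.presheaf.stalk x) (F.presheaf.stalk x) => φ v) (hkill a ha)
  have hu : IsUnit (θ v) := by
    by_contra h
    exact hv (IsReduced.eq_zero _ ⟨2, by rw [pow_two]; exact hsoc (θ v) h⟩)
  have hm : ∀ a ∈ IsLocalRing.maximalIdeal (X.presheaf.stalk x), a = 0 := fun a ha =>
    hu.mul_left_eq_zero.1 (hsoc a ha)
  refine hpure x hx (Groth.Agent.Triage.SliceCM.isOpen_singleton_of_minimal_scheme x hx fun w hw => ?_)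
  obtain ⟨p, rfl⟩ : w ∈ Set.range (X.fromSpecStalk x) := by rw [Scheme.range_fromSpecStalk]; exact hw
  have hp : p = IsLocalRing.closedPoint (X.presheaf.stalk x) := PrimeSpectrum.ext
    (le_antisymm (IsLocalRing.le_maximalIdeal p.isPrime.ne_top) fun a ha => by
      rw [hm a ha]; exact p.asIdeal.zero_mem)
  rw [hp]
  exact Scheme.fromSpecStalk_closedPoint

end Groth.Agent.S18916
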