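import Groth.Statements.S18918
import Groth.Agent.P1Deg.Split

set_option autoImplicit false
universe u
open CategoryTheory CategoryTheory.Limits AlgebraicGeometry
open FEt

namespace Groth.Agent.S18918

/-- Let f : X → Y be a finite étale morphism of degree n (f_*O_X locally free of rank n) and φ : X' → Y
a morphism from a nonempty connected scheme X'. Then the Y-morphisms X' → X (equivalently, the
sections of X ×_Y X' → X') form a finite set with at most n elements, and there are exactly n of
them if and only if the covering X ×_Y X' → X' is trivial, i.e. X ×_Y X' is isomorphic over X' to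
the disjoint union of n copies of X'. The source works with separated Noetherian schemes over an
algebraically closed field of characteristic zero; that setting is not needed for the statement. -/
theorem result
    {X Y X' : Scheme.{u}} (f : X ⟶ Y) [IsFinite f] [Etale f] (n : ℕ)
    (hdeg : FlatMod.IsFinLocFreeOfRank n ((Scheme.Modules.pushforward f).obj (Coh.structureModule X)))
    (φ : X' ⟶ Y) [Nonempty X'] [ConnectedSpace X'] :
    Finite (Over.mk φ ⟶ Over.mk f) ∧ Nat.card (Over.mk φ ⟶ Over.mk f) ≤ n ∧
      (Nat.card (Over.mk φ ⟶ Over.mk f) = n ↔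
        ∃ e : pullback f φ ≅ ∐ fun _ : Fin n => X',
          e.hom ≫ Sigma.desc (fun _ : Fin n => 𝟙 X') = pullback.snd f φ) := by
  let F : FEt.Cat Y := MorphismProperty.Over.mk ⊤ f ⟨inferInstance, inferInstance⟩
  let Z : FEt.Cat X' := (FEt.restrict φ).obj F
  obtain ⟨x⟩ := (inferInstance : Nonempty X')
  obtain ⟨Ω, _, _, ξ, -⟩ := Pi1X.exists_geometric_point x
  have hn : Nat.card (FEt.fiberObj ξ Z) = n :=
    (Nat.card_congr ((Pi1X.restrictFiberIso φ ξ).app F).toEquiv).trans
      ((P1Deg.rank_iff_card F n).1 hdeg Ω (ξ ≫ φ))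
  let e : (Over.mk φ ⟶ Over.mk f) ≃ P1Deg.Sections Z :=
    { toFun := fun s => ⟨pullback.lift s.left (𝟙 X') ((Over.w s).trans (Category.id_comp φ).symm),
        pullback.lift_snd _ _ _⟩
      invFun := fun t => Over.homMk (t.1 ≫ pullback.fst f φ) ((Category.assoc _ _ _).trans
        ((congrArg (t.1 ≫ ·) pullback.condition).trans ((Category.assoc _ _ _).symm.trans
          ((congrArg (· ≫ φ) t.2).trans (Category.id_comp φ)))))
      left_inv := fun s => Over.OverMorphism.ext (pullback.lift_fst _ _ _)
      right_inv := fun t => Subtype.ext (pullback.hom_ext (pullback.lift_fst _ _ _)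
        ((pullback.lift_snd _ _ _).trans t.2.symm)) }
  haveI := P1Deg.finite_sections Z
  have hle : Nat.card (P1Deg.Sections Z) ≤ n := hn ▸ P1Deg.card_sections_le ξ Z
  refine ⟨Finite.of_equiv _ e.symm, (Nat.card_congr e).trans_le hle, fun h => ?_, fun ⟨E, hE⟩ => ?_⟩
  · have hc : Nat.card (P1Deg.Sections Z) = n := (Nat.card_congr e).symm.trans h
    let eι : ULift.{u} (Fin n) ≃ P1Deg.Sections Z :=
      Equiv.ulift.trans ((Fintype.equivFin (Fin n)).trans
        ((finCongr (by simp [hc])).trans (Finite.equivFin (P1Deg.Sections Z)).symm))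
    obtain ⟨E, hE⟩ := P1Deg.exists_iso_of_card_sections Z ξ (by rw [hn, hc]) eι
    refine ⟨E ≪≫ P1Deg.copiesIso X' Equiv.ulift, ?_⟩
    rw [Iso.trans_hom, Category.assoc, ← Iso.eq_inv_comp]
    refine Sigma.hom_ext _ _ fun i => ?_
    refine Eq.trans ?_ ((eι i).2.symm.trans
      ((congrArg (· ≫ Z.hom) (hE i)).symm.trans (Category.assoc _ _ _)))
    rw [← Category.assoc]
    refine (congrArg (· ≫ Sigma.desc fun _ : Fin n => 𝟙 X') (Sigma.ι_desc _ _)).trans ?_
    exact Sigma.ι_desc _ _
  · refine le_antisymm ((Nat.card_congr e).trans_le hle) ?_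
    rw [Nat.card_congr e]
    refine (Nat.card_fin n).ge.trans (P1Deg.le_card_sections Z E fun i => ?_)
    refine (congrArg (fun m => Sigma.ι (fun _ : Fin n => X') i ≫ E.inv ≫ m) hE.symm).trans ?_
    rw [Iso.inv_hom_id_assoc]
    exact Sigma.ι_desc _ _

end Groth.Agent.S18918
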