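import Groth.Statements.S18923
import Groth.Agent.VBCurvesLib.ComponentEuler
-- import your own Groth.Agent.* helpers here

set_option autoImplicit false
set_option linter.style.haveILetI false
set_option linter.unusedVariables false
set_option backward.isDefEq.respectTransparency false
set_option backward.isDefEq.respectTransparency.types false
universe u
open CategoryTheory CategoryTheory.Limits AlgebraicGeometry
open VBCurve

namespace Groth.Agent.S18923

open Groth.Agent Groth.Agent.VBCurvesLib.Clopen TopologicalSpace StabCat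

/-- Let k be an algebraically closed field of characteristic zero, Y a smooth proper k-scheme of
dimension one, possibly disconnected but with no isolated points, and L an ample invertible
O_Y-module such that for every connected component U of Y, with j : U → Y, O_U = j_*(O_Y|_U) and L_U
= j_*(L|_U), one has χ(O_U) · (χ(L) − χ(O_Y)) = χ(O_Y) · (χ(L_U) − χ(O_U)) (all correction terms of
the components vanish). Let E and F be finite locally free O_Y-modules with nowhere-zero stalks,
both semistable of dimension one with respect to L, and write α(M) = χ(M ⊗ L) − χ(M). Then χ(E ⊗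
F)/α(E ⊗ F) = χ(E)/α(E) + χ(F)/α(F) − χ(O_Y)/(χ(L) − χ(O_Y)) as rational numbers; equivalently the
slope of E ⊗ F is the sum of the slopes of E and F. The published statement speaks of any two
semistable locally free sheaves; this row takes E and F with nowhere-zero stalks (support all of Y),
without which E ⊗ F can be zero and the slopes undefined. -/
theorem result
    (k : Type u) [Field k] [IsAlgClosed k] [CharZero k]
    (Y : Scheme.{u}) [Y.Over (Spec (CommRingCat.of k))] [IsProper (Y ↘ Spec (CommRingCat.of k))]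
    [Smooth (Y ↘ Spec (CommRingCat.of k))] (hdim : topologicalKrullDim Y = 1)
    (hpure : ∀ y : Y, ¬ IsOpen ({y} : Set Y))
    (L : Y.Modules) (hL : CohB1.IsAmple L)
    (hB : ∀ U : Y.Opens, IsClopen (U : Set Y) → _root_.IsConnected (U : Set Y) →
      Curv2.euler k Y ((Scheme.Modules.pushforward U.ι).obj ((Coh.structureModule Y).restrict U.ι)) * (Curv2.euler k Y L - Curv2.euler k Y (Coh.structureModule Y)) =
        Curv2.euler k Y (Coh.structureModule Y) * (Curv2.euler k Y ((Scheme.Modules.pushforward U.ι).obj (L.restrict U.ι)) - Curv2.euler k Y ((Scheme.Modules.pushforward U.ι).obj ((Coh.structureModule Y).restrict U.ι))))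
    (E F : Y.Modules) (hE : FlatMod.IsFinLocFree E) (hF : FlatMod.IsFinLocFree F)
    (hE0 : ∀ y : Y, ¬ Subsingleton (E.presheaf.stalk y)) (hF0 : ∀ y : Y, ¬ Subsingleton (F.presheaf.stalk y))
    (hEs : ShStab.IsSemistable k Y L E 1) (hFs : ShStab.IsSemistable k Y L F 1) :
    ((Curv2.euler k Y (CohB1.tensorMod E F) : ℚ) /
        ((Curv2.euler k Y (CohB1.tensorMod (CohB1.tensorMod E F) L) - Curv2.euler k Y (CohB1.tensorMod E F) : ℤ) : ℚ)) =
      (Curv2.euler k Y E : ℚ) / ((Curv2.euler k Y (CohB1.tensorMod E L) - Curv2.euler k Y E : ℤ) : ℚ) +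
        (Curv2.euler k Y F : ℚ) / ((Curv2.euler k Y (CohB1.tensorMod F L) - Curv2.euler k Y F : ℤ) : ℚ) -
        (Curv2.euler k Y (Coh.structureModule Y) : ℚ) /
          ((Curv2.euler k Y L - Curv2.euler k Y (Coh.structureModule Y) : ℤ) : ℚ) := by
  haveI := CurveCohLib.isNoetherian_of_proper (k := k) (X := Y)
  have hd : topologicalKrullDim Y ≤ 1 := hdim.le
  have hEc : Coh.IsCoh E := hEs.1
  have hFc : Coh.IsCoh F := hFs.1
  have hOc : Coh.IsCoh (Coh.structureModule Y) := AmpleVan.isCoh_invertible CurveDeg.isInvertible_structureModule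
  set T := CohB1.tensorMod E F with hT
  have hTf : FlatMod.IsFinLocFree T := KFlatLib.isFinLocFree_tensor hE hF
  have hTc : Coh.IsCoh T := CurveTensor.isCoh_tensor hE hFc
  obtain ⟨ex, ea, -⟩ := hp_values (k := k) hL hd hEc
  obtain ⟨fy, fb, -⟩ := hp_values (k := k) hL hd hFc
  have hαE := HilbPoly.alpha_pos hL hEc (HilbPoly.dim_of_isPure hEs.2.2.1 hEc hEs.2.1) (isHilbPoly_hp' (k := k) hL hd hEc)
  have hαF := HilbPoly.alpha_pos hL hFc (HilbPoly.dim_of_isPure hFs.2.2.1 hFc hFs.2.1) (isHilbPoly_hp' (k := k) hL hd hFc)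
  have hA : 0 < lead k L E := by
    rw [← ea] at hαE
    exact Int.cast_pos.1 hαE
  have hB' : 0 < lead k L F := by
    rw [← fb] at hαF
    exact Int.cast_pos.1 hαF
  have hLO : Curv2.euler k Y (CohB1.tensorMod (Coh.structureModule Y) L) = Curv2.euler k Y L :=
    Euler.euler_congr k (CurveTensor.structureTensorIso L)
  set x := Curv2.euler k Y E
  set y := Curv2.euler k Y F
  set A := lead k L E
  set B := lead k L F
  set c := Curv2.euler k Y (Coh.structureModule Y)
  set C := lead k L (Coh.structureModule Y) with hC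
  have hC' : C = Curv2.euler k Y L - c := by rw [hC, lead, hLO]
  have key : ∀ V : Y.Opens, IsClopen (V : Set Y) →
      A * B * C * Curv2.euler k Y ((partF V).obj T) =
          lead k L ((partF V).obj T) * (x * B * C + y * A * C - c * A * B) ∧
        ((V : Set Y).Nonempty → 0 < lead k L ((partF V).obj T) ∧ 0 < lead k L ((partF V).obj (Coh.structureModule Y))) := by
    refine clopen_induction _ ⟨?_, fun h => absurd h (by simp)⟩ (fun U hU hc => ?_) ?_
    · obtain ⟨h1, h2⟩ := euler_part_bot k hL hd hTc
      rw [h1, h2]; ring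
    · haveI := isIntegral_part k hU hc
      obtain ⟨hr, hzE⟩ := rk_pos k hU hc hE hE0
      obtain ⟨hs, hzF⟩ := rk_pos k hU hc hF hF0
      have hOf : FlatMod.IsFinLocFree (Coh.structureModule Y) := fun z =>
        let ⟨W, hy, he⟩ := InvEnd.isFinLocFreeOfRank_one CurveDeg.isInvertible_structureModule z
        ⟨W, 1, hy, he⟩
      obtain ⟨ssE, eE⟩ := part_of_semistable hL hd hEs hU hzE
      obtain ⟨-, eF⟩ := part_of_semistable hL hd hFs hU hzF
      have hx := (redEq_iff hL hd (isCoh_part U hU hEc) hEc).1 eE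
      have hy := (redEq_iff hL hd (isCoh_part U hU hFc) hFc).1 eF
      have aE := euler_component k hU hd hpure hc hL.1 hE
      have aF := euler_component k hU hd hpure hc hL.1 hF
      have aT := euler_component k hU hd hpure hc hL.1 hTf
      have aO := euler_component k hU hd hpure hc hL.1 hOf
      have hrO : CurveBundle.rk ((Coh.structureModule Y).restrict U.ι) = 1 :=
        (CurveSlope.rk_congr (Scheme.Modules.restrictUnitIso U.ι)).trans
          (CurveBundle.rk_eq (InvEnd.isFinLocFreeOfRank_one CurveDeg.isInvertible_structureModule))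
      rw [hrO, Nat.cast_one, one_mul] at aO
      obtain ⟨cT, rT⟩ := euler_component_tensor k hU hd hpure hc hE hF
      rw [rT, Nat.cast_mul] at aT
      have hcU := hB U hU hc
      change Curv2.euler k Y ((partF U).obj (Coh.structureModule Y)) * _ =
        c * (Curv2.euler k Y ((partF U).obj L) -
          Curv2.euler k Y ((partF U).obj (Coh.structureModule Y))) at hcU
      rw [← hC'] at hcU
      obtain ⟨-, ea', -⟩ := hp_values (k := k) hL hd ssE.1
      have hαU := HilbPoly.alpha_pos hL ssE.1 (HilbPoly.dim_of_isPure ssE.2.2.1 ssE.1 ssE.2.1)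
        (isHilbPoly_hp' (k := k) hL hd ssE.1)
      rw [← ea'] at hαU
      have hpos := Int.cast_pos.1 hαU
      rw [aE] at hpos
      set r := CurveBundle.rk (E.restrict U.ι)
      set s := CurveBundle.rk (F.restrict U.ι)
      set aU := Curv2.euler k Y ((partF U).obj L) - Curv2.euler k Y ((partF U).obj (Coh.structureModule Y))
      have haU : 0 < aU := pos_of_mul_pos_right hpos (Int.natCast_nonneg _)
      have hrZ : (0 : ℤ) < r := by exact_mod_cast hr
      have hsZ : (0 : ℤ) < s := by exact_mod_cast hs
      rw [aE] at hx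
      rw [aF] at hy
      refine ⟨?_, fun _ => ⟨by rw [lead, aT]; positivity, by rw [lead, aO]; exact haU⟩⟩
      rw [lead, aT, cT]
      linear_combination (B * C * s) * hx + (A * C * r) * hy - (A * B * r * s) * hcU
    · intro V U₁ U₂ hV h₁ h₂ hle hU₂ hP₁ hP₂
      obtain ⟨t1, t2⟩ := euler_parts k hL hd hTc hV h₁ h₂ hle hU₂
      obtain ⟨-, o2⟩ := euler_parts k hL hd hOc hV h₁ h₂ hle hU₂
      refine ⟨by rw [t1, t2, mul_add, hP₁.1, hP₂.1]; ring, fun hne => ?_⟩
      rw [t2, o2]
      rcases (U₁ : Set Y).eq_empty_or_nonempty with he | he₁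
      · obtain rfl : U₁ = ⊥ := Opens.ext he
        obtain ⟨-, z1⟩ := euler_part_bot k hL hd hTc
        obtain ⟨-, z2⟩ := euler_part_bot k hL hd hOc
        have := hP₂.2 (by rw [hU₂]; simpa using hne)
        omega
      · have h' := hP₁.2 he₁
        rcases (U₂ : Set Y).eq_empty_or_nonempty with he | he₂
        · obtain rfl : U₂ = ⊥ := Opens.ext he
          obtain ⟨-, z1⟩ := euler_part_bot k hL hd hTc
          obtain ⟨-, z2⟩ := euler_part_bot k hL hd hOc
          omega
        · have := hP₂.2 he₂
          omega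
  have hne : Nonempty Y := by
    by_contra h
    haveI := not_nonempty_iff.1 h
    have := hdim
    haveI hie : IsEmpty (IrreducibleCloseds Y) := ⟨fun Z => Z.2.nonempty.elim fun z _ => isEmptyElim z⟩
    have h9 := hdim
    rw [show topologicalKrullDim Y = ⊥ from Order.krullDim_eq_bot (α := IrreducibleCloseds Y)] at h9
    simp at h9
  obtain ⟨h1, h2⟩ := key ⊤ isClopen_univ
  obtain ⟨hTp, hCp⟩ := h2 (by simp)
  obtain ⟨t1, t2⟩ := euler_part_top k hL hd hTc
  rw [(euler_part_top k hL hd hOc).2] at hCp
  rw [t1, t2] at h1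
  rw [t2] at hTp
  show (Curv2.euler k Y T : ℚ) / ((lead k L T : ℤ) : ℚ) =
    (x : ℚ) / (A : ℚ) + (y : ℚ) / (B : ℚ) - (c : ℚ) / ((Curv2.euler k Y L - c : ℤ) : ℚ)
  rw [← hC']
  generalize lead k L T = W at h1 hTp ⊢
  generalize Curv2.euler k Y T = t at h1 ⊢
  have hT' : (W : ℚ) ≠ 0 := by exact_mod_cast hTp.ne'
  have hA' : (A : ℚ) ≠ 0 := by exact_mod_cast hA.ne'
  have hB'' : (B : ℚ) ≠ 0 := by exact_mod_cast hB'.ne'
  have hC'' : (C : ℚ) ≠ 0 := by exact_mod_cast hCp.ne'
  have h1' := congrArg (Int.cast : ℤ → ℚ) h1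
  simp only [Int.cast_mul, Int.cast_add, Int.cast_sub] at h1'
  field_simp
  linear_combination h1'

end Groth.Agent.S18923
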