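import Groth.Statements.S18927
-- import your own Groth.Agent.* helpers here

set_option autoImplicit false
universe u v
open W4c6secantcecovers

namespace Groth.Agent.S18927

open TensorProduct in
theorem contr_ιMulti_mul {R : Type u} [CommRing R] {r : ℕ} (j : Fin r) : ∀ (n : ℕ) (v : Fin n → (Fin r → R))
    (y : W4c6secantcecovers.SSLam R r),
    W4c6secantcecovers.ssContr R r j (ExteriorAlgebra.ιMulti R n v * y) =
      W4c6secantcecovers.ssContr R r j (ExteriorAlgebra.ιMulti R n v) * y +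
        (-1 : R) ^ n • (ExteriorAlgebra.ιMulti R n v * W4c6secantcecovers.ssContr R r j y) := by
  intro n
  induction n with
  | zero =>
    intro v y
    simp [ExteriorAlgebra.ιMulti_apply, W4c6secantcecovers.ssContr, CliffordAlgebra.contractLeft_one]
  | succ n ih =>
    intro v y
    rw [ExteriorAlgebra.ιMulti_succ_apply, mul_assoc]
    have hc : ∀ z : W4c6secantcecovers.SSLam R r,
        W4c6secantcecovers.ssContr R r j (ExteriorAlgebra.ι R (v 0) * z) =
          v 0 j • z - ExteriorAlgebra.ι R (v 0) * W4c6secantcecovers.ssContr R r j z :=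
      fun z => CliffordAlgebra.contractLeft_ι_mul (Q := (0 : QuadraticForm R (Fin r → R)))
        (LinearMap.proj (R := R) (φ := fun _ : Fin r => R) j) (v 0) z
    rw [hc, hc, ih, mul_add, sub_mul, smul_mul_assoc, mul_smul_comm, pow_succ, mul_comm ((-1 : R) ^ n), mul_smul,
      neg_one_smul, ← mul_assoc, ← mul_assoc]
    abel

theorem ιMulti_mul_eq_zero {R : Type u} [CommRing R] {r a b : ℕ} (h : r < a + b) (v : Fin a → (Fin r → R))
    (w : Fin b → (Fin r → R)) : ExteriorAlgebra.ιMulti R a v * ExteriorAlgebra.ιMulti R b w = 0 := by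
  rw [ExteriorAlgebra.ιMulti_mul_ιMulti]
  have : ExteriorAlgebra.ιMulti R (a + b) (M := Fin r → R) = 0 :=
    (Pi.basisFun R (Fin r)).ext_alternating fun u hu => by
      have := Fintype.card_le_of_injective u hu
      simp at this
      omega
  rw [this]
  rfl

theorem adjoint_term {R : Type u} [CommRing R] {r : ℕ} (j : Fin r) {k : ℕ} (hk : k < r)
    (e : Fin (k + 1) → (Fin r → R)) (f : Fin (r - k) → (Fin r → R)) :
    (-1 : R) ^ k.choose 2 • (W4c6secantcecovers.ssContr R r j (ExteriorAlgebra.ιMulti R (k + 1) e) *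
        ExteriorAlgebra.ιMulti R (r - k) f) =
      (-1 : R) ^ (k + 1).choose 2 • (ExteriorAlgebra.ιMulti R (k + 1) e *
        W4c6secantcecovers.ssContr R r j (ExteriorAlgebra.ιMulti R (r - k) f)) := by
  have h := contr_ιMulti_mul j (k + 1) e (ExteriorAlgebra.ιMulti R (r - k) f)
  rw [ιMulti_mul_eq_zero (by omega) e f, map_zero] at h
  rw [eq_neg_of_add_eq_zero_left h.symm, ← neg_smul, smul_smul, Nat.choose_succ_succ, Nat.choose_one_right,
    pow_succ, pow_add]
  congr 1
  ring

open TensorProduct in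
/-- Let R be a commutative ring, E = R^r the free module with its coordinate basis, S = R[X_1, …, X_r]
(the symmetric algebra of E), and N an R-module carrying R-linear operators φ_j (the action of the
j-th basis vector of E) and an R-bilinear form β with β(φ_j n, m) = β(n, φ_j m) for every j. On (ΛE
⊗ S) ⊗ N — all terms Λ^k(S ⊗ E) ⊗ N of the Scheja–Storch complex at once — let δ be the differential
sending (e_1 ∧ ⋯ ∧ e_k) ⊗ s ⊗ n to Σ_i (-1)^(i-1) (e_1 ∧ ⋯ ê_i ⋯ ∧ e_k) ⊗ x(e_i) s ⊗ n + Σ_i (-1)^i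
(e_1 ∧ ⋯ ê_i ⋯ ∧ e_k) ⊗ s ⊗ e_i · n, and pair a term u = ω ⊗ s ⊗ n of degree k with v = η ⊗ t ⊗ m by
⟨u, v⟩_k = (-1)^(k choose 2) β(n, m) · (ω ∧ η) ⊗ s t. Then the differential is adjoint to itself for
this pairing in complementary degrees: for u = (e_0 ∧ ⋯ ∧ e_k) ⊗ s ⊗ n of degree k + 1 ≤ r and v =
(f_1 ∧ ⋯ ∧ f_(r-k)) ⊗ t ⊗ m of degree r - k, ⟨δ u, v⟩_k = ⟨u, δ v⟩_(k+1). (The source takes E
finitely generated projective and N a module over the ambient algebra with a pairing satisfying ⟨f,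
g h⟩ = ⟨g f, h⟩; the proof runs on a basis, which is the form stated here, with the action of E
recorded by the operators φ_j.) -/
theorem result
    (R : Type u) [CommRing R] (r : ℕ) (N : Type v) [AddCommGroup N] [Module R N]
    (φ : Fin r → (N →ₗ[R] N)) (β : N →ₗ[R] N →ₗ[R] R)
    (hβ : ∀ (j : Fin r) (n m : N), β (φ j n) m = β n (φ j m))
    (k : ℕ) (hk : k < r)
    (e : Fin (k + 1) → (Fin r → R)) (f : Fin (r - k) → (Fin r → R))
    (s t : MvPolynomial (Fin r) R) (n m : N) :
    W4c6secantcecovers.ssPair R r N β k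
        (W4c6secantcecovers.ssDelta R r N φ ((ExteriorAlgebra.ιMulti R (k + 1) e ⊗ₜ[R] s) ⊗ₜ[R] n))
        ((ExteriorAlgebra.ιMulti R (r - k) f ⊗ₜ[R] t) ⊗ₜ[R] m) =
      W4c6secantcecovers.ssPair R r N β (k + 1)
        ((ExteriorAlgebra.ιMulti R (k + 1) e ⊗ₜ[R] s) ⊗ₜ[R] n)
        (W4c6secantcecovers.ssDelta R r N φ ((ExteriorAlgebra.ιMulti R (r - k) f ⊗ₜ[R] t) ⊗ₜ[R] m)) := by
  simp only [W4c6secantcecovers.ssDelta, W4c6secantcecovers.ssDKoszul, W4c6secantcecovers.ssDAct,
    W4c6secantcecovers.ssPair, W4c6secantcecovers.ssPairAux, LinearMap.sum_apply, LinearMap.add_apply,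
    LinearMap.smul_apply, map_sum, map_add, map_smul, TensorProduct.map_tmul, LinearMap.id_apply,
    LinearMap.mulLeft_apply, TensorProduct.curry_apply, LinearMap.comp_apply, LinearEquiv.coe_coe,
    TensorProduct.tensorTensorTensorComm_tmul, LinearMap.mul'_apply, TensorProduct.lift.tmul,
    TensorProduct.rid_tmul, Algebra.TensorProduct.tmul_mul_tmul, smul_add]
  refine Finset.sum_congr rfl fun j _ => ?_
  rw [hβ j n m]
  simp only [smul_comm ((-1 : R) ^ k.choose 2) (β _ _), smul_comm ((-1 : R) ^ (k + 1).choose 2) (β _ _)]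
  simp only [TensorProduct.smul_tmul', adjoint_term j hk e f]
  rw [mul_assoc (MvPolynomial.X j) s t, mul_left_comm s (MvPolynomial.X j) t]

end Groth.Agent.S18927
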