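import Groth.Statements.S18963
import Groth.Agent.H28.FaceEq
-- import your own Groth.Agent.* helpers here

set_option autoImplicit false
universe u
open CategoryTheory MonoidalCategory CartesianMonoidalCategory MonObj AlgebraicGeometry Opposite
open Magnet

namespace Groth.Agent.S18963

open Groth.Agent.H23.CharPts Groth.Agent.H28

/-- The origin is a face of the non-negative integers. -/
theorem isFace_bot : IsFace (AddSubmonoid.multiples (1 : ℤ)) ⊥ := by
  refine ⟨bot_le, fun x hx y hy hxy => ?_⟩
  obtain ⟨a, rfl⟩ := hx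
  obtain ⟨b, rfl⟩ := hy
  simp only [AddSubmonoid.mem_bot, nsmul_eq_mul, mul_one] at hxy ⊢
  omega

/-- Elements of size at least `k` lie in the `k`-th power of the complement of the origin. -/
theorem natCast_mem_Pk : ∀ k l : ℕ, k ≤ l → (l : ℤ) ∈ FacePow.Pk (AddSubmonoid.multiples (1 : ℤ)) ⊥ k
  | 0, l, _ => ⟨l, by simp⟩
  | k + 1, l, h => ⟨1, AddSubmonoid.mem_multiples 1, by simp, (l - 1 : ℕ),
      natCast_mem_Pk k (l - 1) (by omega), by omega⟩

/-- For the multiplicative monoid of the affine line with unit group G_m (the published statement: any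
Kempf monoid M with unit group G), let k be a field, X a k-scheme with an action a of the
multiplicative group G_m = D(ℤ) over k, and Y a k-scheme. Let γ₁ and γ₂ be two k-morphisms A^1 ×_k Y
→ X, where A^1 is the diagonalizable monoid scheme of the non-negative integers (the affine line
under multiplication), that are G_m-equivariant for G_m scaling the first factor — two Y-valued
points of the Białynicki-Birula functor D_X. Suppose γ₁ and γ₂ agree at every T-valued point (m, t)
of A^1 ×_k Y whose first coordinate m is nilpotent in the monoid A^1(T), i.e. some power of m is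
absorbing (equal to its product with any element); equivalently γ₁ and γ₂ agree on all infinitesimal
neighbourhoods of {0} ×_k Y. Then γ₁ = γ₂; that is, the canonical map from D_X to the formal
Białynicki-Birula functor is injective on Y-points. -/
theorem result (k : Type u) [Field k]
    (X Y : Over (Spec (CommRingCat.of k))) (a : AlgGrp.Action (Red.DS (Spec (CommRingCat.of k)) ℤ) X)
    (γ₁ γ₂ : (Magnet.attr (Magnet.MonAct.ofAction a) (AddSubmonoid.multiples (1 : ℤ))).obj (op Y))
    (h : ∀ (T : Over (Spec (CommRingCat.of k))) (m : T ⟶ Magnet.AMonS (Spec (CommRingCat.of k)) (AddSubmonoid.multiples (1 : ℤ))) (t : T ⟶ Y),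
      (∃ n : ℕ, ∀ m' : T ⟶ Magnet.AMonS (Spec (CommRingCat.of k)) (AddSubmonoid.multiples (1 : ℤ)), m ^ (n + 1) * m' = m ^ (n + 1)) →
      CartesianMonoidalCategory.lift m t ≫ γ₁.1 = CartesianMonoidalCategory.lift m t ≫ γ₂.1) :
    γ₁ = γ₂ := by
  apply Subtype.ext
  refine Over.OverMorphism.ext ?_
  let N := AddSubmonoid.multiples (1 : ℤ)
  let K := Y.left.affineCover
  refine Scheme.Cover.hom_ext (K.pullback₁ (snd (Magnet.AMonS (Spec (CommRingCat.of k)) N) Y).left) _ _ fun i => ?_
  let T : Over (Spec (CommRingCat.of k)) := Over.mk (K.f i ≫ Y.hom)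
  let v : T ⟶ Y := Over.homMk (K.f i) rfl
  haveI : IsAffine T.left := inferInstanceAs (IsAffine (Spec _))
  have key : (Magnet.AMonS (Spec (CommRingCat.of k)) N ◁ v) ≫ γ₁.1 = (Magnet.AMonS (Spec (CommRingCat.of k)) N ◁ v) ≫ γ₂.1 := by
    refine congrArg Subtype.val (FaceEq.eq_of_jk isFace_bot ⟨{1}, by simp [AddSubmonoid.multiples_eq_closure]⟩
      ((Magnet.attr _ N).map v.op γ₁) ((Magnet.attr _ N).map v.op γ₂) fun j _ => ?_)
    simp only [Magnet.MonAct.eqvHom_map_coe, Quiver.Hom.unop_op, ← Category.assoc]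
    let w := FaceThick.jk N ⊥ T j ≫ (Magnet.AMonS (Spec (CommRingCat.of k)) N ◁ v)
    have hw : CartesianMonoidalCategory.lift (FaceThick.jk N ⊥ T j ≫ fst _ T) (FaceThick.jk N ⊥ T j ≫ snd _ T ≫ v) = w := by
      apply CartesianMonoidalCategory.hom_ext <;> simp [w]
    show w ≫ γ₁.1 = w ≫ γ₂.1
    rw [← hw]
    refine h _ _ _ ⟨j, fun m' => chi_injective (MonoidHom.ext fun n => ?_)⟩
    let m := FaceThick.jk N ⊥ T j ≫ fst _ T
    show chi (m ^ (j + 1) * m') n = chi (m ^ (j + 1)) n
    have hpow : ∀ e : ℕ, chi (m ^ (e + 1)) n = chi m (n ^ (e + 1)) := by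
      intro e
      induction e with
      | zero => simp
      | succ e ih => rw [pow_succ m, chi_mul, ih, ← map_mul, ← pow_succ]
    rw [chi_mul, hpow j]
    obtain ⟨a, ha⟩ := n.toAdd.2
    have ha' : ((n.toAdd : N) : ℤ) = (a : ℤ) := by rw [← ha]; simp
    rcases Nat.eq_zero_or_pos a with h0 | h0
    · have hn : n = 1 := Multiplicative.toAdd.injective (Subtype.ext (by rw [ha', h0]; rfl))
      simp [hn]
    · have hmem : (((n ^ (j + 1)).toAdd : N) : ℤ) ∈ FacePow.Pk N ⊥ j := by
        rw [toAdd_pow, AddSubmonoidClass.coe_nsmul, ha', nsmul_eq_mul, ← Nat.cast_mul]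
        exact natCast_mem_Pk j _ (by nlinarith)
      rw [FaceThick.chi_jk N ⊥ T j hmem]
      exact zero_mul _
  let Q : Over (Spec (CommRingCat.of k)) :=
    Over.mk ((K.pullback₁ (snd (Magnet.AMonS (Spec (CommRingCat.of k)) N) Y).left).f i ≫ (Magnet.AMonS _ N ⊗ Y).hom)
  let p : Q ⟶ Magnet.AMonS _ N ⊗ Y := Over.homMk ((K.pullback₁ (snd (Magnet.AMonS (Spec (CommRingCat.of k)) N) Y).left).f i) rfl
  let q : Q ⟶ T := Over.homMk (Limits.pullback.snd _ _) (by
    show Limits.pullback.snd _ _ ≫ K.f i ≫ Y.hom = Limits.pullback.fst _ _ ≫ (Magnet.AMonS _ N ⊗ Y).hom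
    rw [← Over.w (snd (Magnet.AMonS _ N) Y), ← Category.assoc, ← Category.assoc]
    exact congrArg (· ≫ Y.hom) Limits.pullback.condition.symm)
  have hp : p = CartesianMonoidalCategory.lift (p ≫ fst _ _) q ≫ (Magnet.AMonS _ N ◁ v) := by
    apply CartesianMonoidalCategory.hom_ext
    · simp
    · simp only [Category.assoc, whiskerLeft_snd, lift_snd_assoc]
      exact Over.OverMorphism.ext Limits.pullback.condition
  have := congrArg (CartesianMonoidalCategory.lift (p ≫ fst _ _) q ≫ ·) key
  simp only [← Category.assoc, ← hp] at this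
  exact congrArg Over.Hom.left this

end Groth.Agent.S18963
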