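import Groth.Statements.S18964
import Groth.Agent.S18955
import Groth.Agent.S18958
import Groth.Agent.S18294
import Groth.Agent.MiscTwoH99.RepGlue
-- import your own Groth.Agent.* helpers here

set_option autoImplicit false
universe u
open CategoryTheory MonoidalCategory CartesianMonoidalCategory MonObj AlgebraicGeometry Opposite
open Magnet

namespace Groth.Agent.S18964

/-- Naturality of the evaluation at a point. -/
theorem evalAt_map {C : Type*} [Category C] [CartesianMonoidalCategory C] {A B X : C} [MonObj A] (ρ : Magnet.MonAct A B)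
    (a : Magnet.MonAct A X) (e : 𝟙_ C ⟶ B) {T T' : C} (t : T' ⟶ T) (φ : (Magnet.MonAct.eqvHom ρ a).obj (op T)) :
    (Magnet.MonAct.eqvHom.evalAt ρ a e).app (op T') ((Magnet.MonAct.eqvHom ρ a).map t.op φ) =
      t ≫ (Magnet.MonAct.eqvHom.evalAt ρ a e).app (op T) φ := by
  rw [Magnet.MonAct.eqvHom.evalAt_app, Magnet.MonAct.eqvHom.evalAt_app, Magnet.MonAct.eqvHom_map_coe]
  show lift (toUnit T' ≫ e) (𝟙 T') ≫ (B ◁ t) ≫ φ.1 = t ≫ lift (toUnit T ≫ e) (𝟙 T) ≫ φ.1
  rw [lift_whiskerLeft_assoc, comp_lift_assoc, ← Category.assoc t (toUnit T), comp_toUnit, Category.id_comp,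
    Category.comp_id]

/-- Open covers are coverings for the topology on schemes over `S` used for fppf sheaves. -/
theorem mem_J {S : Scheme.{u}} (T : Over S) (𝒱 : Scheme.OpenCover.{u + 1} T.left) :
    Sieve.generate (Presieve.ofArrows _ fun i => (Over.homMk (𝒱.f i) rfl : Over.mk (𝒱.f i ≫ T.hom) ⟶ T)) ∈
      QuotSh.J Scheme.fppfPrecoverage S T := by
  rw [GrothendieckTopology.mem_over_iff]
  refine GrothendieckTopology.superset_covering _ ?_
    (Precoverage.generate_mem_toGrothendieck (Scheme.zariskiPrecoverage_le_fppfPrecoverage _ 𝒱.mem₀))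
  rw [Sieve.generate_le_iff]
  rintro _ _ ⟨i⟩
  rw [Sieve.overEquiv_iff]
  exact Sieve.ofArrows_mk _ _ i

/-- A stable open subscheme carries an action. -/
theorem exists_action {S : Scheme.{u}} {G X : Over S} [GrpObj G] (a : AlgGrp.Action G X) (U : X.left.Opens)
    (hU : (CartesianMonoidalCategory.snd G X).left ⁻¹ᵁ U ≤ a.act.left ⁻¹ᵁ U) :
    ∃ (aU : AlgGrp.Action G (Over.mk (U.ι ≫ X.hom))),
      Magnet.MonAct.IsEquivariant (Magnet.MonAct.ofAction aU) (Magnet.MonAct.ofAction a)
        (Over.homMk U.ι rfl : Over.mk (U.ι ≫ X.hom) ⟶ X) := by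
  let j : Over.mk (U.ι ≫ X.hom) ⟶ X := Over.homMk U.ι rfl
  haveI : Mono j := (Over.forget S).mono_of_mono_map (inferInstanceAs (Mono U.ι))
  have hr : Set.range ((G ◁ j) ≫ a.act).left ⊆ Set.range U.ι := by
    rintro _ ⟨z, rfl⟩
    rw [Scheme.Opens.range_ι]
    refine hU (show (CartesianMonoidalCategory.snd G X).left ((G ◁ j).left z) ∈ U from ?_)
    rw [← Scheme.Hom.comp_apply, ← Over.comp_left, whiskerLeft_snd]
    exact ((CartesianMonoidalCategory.snd G _).left z).2
  let act : G ⊗ Over.mk (U.ι ≫ X.hom) ⟶ Over.mk (U.ι ≫ X.hom) :=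
    Over.homMk (IsOpenImmersion.lift U.ι ((G ◁ j) ≫ a.act).left hr) (by
      show IsOpenImmersion.lift U.ι _ hr ≫ U.ι ≫ X.hom = _
      rw [IsOpenImmersion.lift_fac_assoc]
      exact Over.w ((G ◁ j) ≫ a.act))
  have hact : act ≫ j = (G ◁ j) ≫ a.act := Over.OverMorphism.ext (IsOpenImmersion.lift_fac _ _ _)
  let b : Magnet.MonAct G (Over.mk (U.ι ≫ X.hom)) := Magnet.MonAct.mk' act
    (fun T x => by
      rw [← cancel_mono j, Category.assoc, hact, lift_whiskerLeft_assoc]
      exact (Magnet.MonAct.ofAction a).lift_one_act (x ≫ j))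
    (fun T g h x => by
      rw [← cancel_mono j, Category.assoc, hact, lift_whiskerLeft_assoc, Category.assoc, hact,
        lift_whiskerLeft_assoc, Category.assoc, hact, lift_whiskerLeft_assoc]
      exact (Magnet.MonAct.ofAction a).lift_mul_act g h (x ≫ j))
  exact ⟨b.toAction, hact⟩

/-- Let k be a field, M an affine monoid k-scheme, G an affine group k-scheme and i : G → M a
homomorphism of monoids which is an open immersion with scheme-theoretically dense image; let o :
Spec k → M be a zero of M (m·o = o = o·m), and assume that for every k-scheme T whose underlying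
scheme is the spectrum of a field, every open subset of M ×_k T which is stable under G acting by
left multiplication through i on the first factor and contains the zero section is the whole of M
×_k T. Let X be a k-scheme with an action aX of G such that the G-stable affine open subsets U of X
cover the fixed points: for every k-scheme T and every G-fixed T-valued point x of X, the preimages
under x of the G-stable affine opens cover T (equivalently, the open subfunctors U^G cover X^G; this
holds when X is locally linear, i.e. every point has a G-stable affine open neighbourhood). Then the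
functor D_X on k-schemes, whose value at Y is the set of k-morphisms M ×_k Y → X that are
G-equivariant for G acting on M ×_k Y by left multiplication through i on the first factor, is
representable by a k-scheme. (In the source M is a Kempf monoid with G its group of units;
affineness of G, density and openness of G in M and the displayed property of G-stable opens over
field extensions are the consequences of that hypothesis which the argument uses.) -/
theorem result (k : Type u) [Field k]
    (M G X : Over (Spec (CommRingCat.of k))) [MonObj M] [GrpObj G] [IsAffine M.left] [IsAffine G.left]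
    (i : G ⟶ M) [IsMonHom i] [IsOpenImmersion i.left] [IsSchemeTheoreticallyDominant i.left]
    (o : 𝟙_ (Over (Spec (CommRingCat.of k))) ⟶ M)
    (ho : ∀ (T : Over (Spec (CommRingCat.of k))) (m : T ⟶ M), m * (toUnit T ≫ o) = toUnit T ≫ o ∧ (toUnit T ≫ o) * m = toUnit T ≫ o)
    (hM : ∀ (T : Over (Spec (CommRingCat.of k))) (K : Type u) [Field K] (eT : T.left ≅ Spec (CommRingCat.of K))
      (W : (M ⊗ T).left.Opens),
      (CartesianMonoidalCategory.snd G (M ⊗ T)).left ⁻¹ᵁ W ≤
          ((((Magnet.MonAct.regular M).restrict i).prod (Magnet.MonAct.trivial G T)).act).left ⁻¹ᵁ W →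
      (CartesianMonoidalCategory.lift (toUnit T ≫ o) (𝟙 T)).left ⁻¹ᵁ W = ⊤ → W = ⊤)
    (aX : AlgGrp.Action G X)
    (hcov : ∀ (T : Over (Spec (CommRingCat.of k))) (x : (Magnet.MonAct.fixedPsh (Magnet.MonAct.ofAction aX)).obj (op T)),
      ⨆ (U : X.left.Opens) (_ : IsAffineOpen U ∧ (CartesianMonoidalCategory.snd G X).left ⁻¹ᵁ U ≤ aX.act.left ⁻¹ᵁ U),
        x.1.left ⁻¹ᵁ U = ⊤) :
    ∃ Z : Over (Spec (CommRingCat.of k)),
      Nonempty ((Magnet.MonAct.eqvHom ((Magnet.MonAct.regular M).restrict i) (Magnet.MonAct.ofAction aX)).RepresentableBy Z) := by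
  let ρ := (Magnet.MonAct.regular M).restrict i
  let b := Magnet.MonAct.ofAction aX
  let F := Magnet.MonAct.eqvHom ρ b
  let evo := Magnet.MonAct.eqvHom.evalAt ρ b o
  let Idx := {U : X.left.Opens // IsAffineOpen U ∧ (CartesianMonoidalCategory.snd G X).left ⁻¹ᵁ U ≤ aX.act.left ⁻¹ᵁ U}
  choose aU haU using fun U : Idx => exists_action aX U.1 U.2.2
  have hrep : ∀ U : Idx, ∃ Z : Over (Spec (CommRingCat.of k)),
      Nonempty ((Magnet.MonAct.eqvHom ρ (Magnet.MonAct.ofAction (aU U))).RepresentableBy Z) := fun U => by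
    haveI : IsAffine (Over.mk (U.1.ι ≫ X.hom)).left := U.2.1
    obtain ⟨Z, -, e, -⟩ := Groth.Agent.S18955.result k M G (Over.mk (U.1.ι ≫ X.hom)) i (aU U)
    exact ⟨Z, ⟨e⟩⟩
  choose Z hZ using hrep
  let R := fun U => (hZ U).some
  let jj : ∀ U : Idx, Over.mk (U.1.ι ≫ X.hom) ⟶ X := fun U => Over.homMk U.1.ι rfl
  haveI : ∀ U, IsOpenImmersion (jj U).left := fun U => inferInstanceAs (IsOpenImmersion U.1.ι)
  have hmono : ∀ U, Mono (jj U) := fun U => (Over.forget _).mono_of_mono_map (inferInstanceAs (Mono U.1.ι))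
  let post := fun U => Magnet.MonAct.eqvHom.postcomp ρ (jj U) (haU U)
  let el : ∀ U, F.obj (op (Z U)) := fun U => (post U).app _ ((R U).homEquiv (𝟙 _))
  have hel : ∀ U (T : Over (Spec (CommRingCat.of k))) (z : T ⟶ Z U),
      F.map z.op (el U) = (post U).app _ ((R U).homEquiv z) := fun U T z => by
    rw [(R U).homEquiv_eq z]
    exact Subtype.ext (Category.assoc _ _ _).symm
  refine Groth.Agent.MiscTwoH99.RepGlue.exists_representableBy (F := F) (fun T 𝒱 => ?_) Z el
    (fun U T φ => (evo.app (op T) φ).left ⁻¹ᵁ U.1) (fun U T z z' h => ?_) (fun U T φ T' t => ?_) (fun T φ => ?_)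
  · rw [Presieve.isSheafFor_iff_generate]
    exact (isSheaf_iff_isSheaf_of_type _ _).mp
      (Groth.Agent.S18294.result (Spec (CommRingCat.of k)) G M X ρ b) _ (mem_J T 𝒱)
  · rw [hel, hel] at h
    haveI := hmono U
    exact (R U).homEquiv.injective (Subtype.ext ((cancel_mono (jj U)).mp (congrArg Subtype.val h)))
  · have hpb := (Groth.Agent.S18958.result k M G X _ i o ho hM aX (aU U) (jj U) (haU U)).map
      ((CategoryTheory.evaluation _ _).obj (op T'))
    rw [CategoryTheory.Limits.Types.isPullback_iff] at hpb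
    have hev : evo.app (op T') (F.map t.op φ) = t ≫ evo.app (op T) φ := evalAt_map ρ b o t φ
    constructor
    · rintro ⟨z, hz⟩
      rw [hel] at hz
      have h1 := ConcreteCategory.congr_hom hpb.1 ((R U).homEquiv z)
      have h2 : evo.app (op T') ((post U).app _ ((R U).homEquiv z)) =
          (Magnet.MonAct.eqvHom.evalAt ρ (Magnet.MonAct.ofAction (aU U)) o).app (op T') ((R U).homEquiv z) ≫ jj U := h1
      rw [hz, hev] at h2
      rintro _ ⟨x, rfl⟩
      show (evo.app (op T) φ).left (t.left x) ∈ U.1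
      rw [← Scheme.Hom.comp_apply, ← Over.comp_left, h2]
      exact (((Magnet.MonAct.eqvHom.evalAt ρ (Magnet.MonAct.ofAction (aU U)) o).app (op T')
        ((R U).homEquiv z)).left x).2
    · intro hr
      have hr' : Set.range (t ≫ evo.app (op T) φ).left ⊆ Set.range U.1.ι := by
        rintro _ ⟨x, rfl⟩
        rw [Scheme.Opens.range_ι]
        exact hr ⟨x, rfl⟩
      let l : T' ⟶ Over.mk (U.1.ι ≫ X.hom) := Over.homMk (IsOpenImmersion.lift U.1.ι _ hr') (by
        show IsOpenImmersion.lift U.1.ι _ hr' ≫ U.1.ι ≫ X.hom = _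
        rw [IsOpenImmersion.lift_fac_assoc]
        exact Over.w (t ≫ evo.app (op T) φ))
      have hl : l ≫ jj U = t ≫ evo.app (op T) φ := Over.OverMorphism.ext (IsOpenImmersion.lift_fac _ _ _)
      obtain ⟨ψ, hψ, -⟩ := hpb.2.2 (F.map t.op φ) l (hev.trans hl.symm)
      obtain ⟨z, rfl⟩ := (R U).homEquiv.surjective ψ
      exact ⟨z, (hel U T' z).trans hψ⟩
  · let x : T ⟶ X := evo.app (op T) φ
    have hx : ∀ (T' : Over (Spec (CommRingCat.of k))) (t : T' ⟶ T) (g : T' ⟶ G),
        CartesianMonoidalCategory.lift g (t ≫ x) ≫ b.act = t ≫ x := fun T' t g => by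
      have hx' : t ≫ x = CartesianMonoidalCategory.lift (toUnit T' ≫ o) t ≫ φ.1 := by
        simp [x, evo, comp_lift_assoc]
      rw [hx', ← (Magnet.MonAct.mem_eqvHom_iff φ.1).mp φ.2 T' g (toUnit T' ≫ o) t]
      rw [Magnet.MonAct.lift_restrict_act, Magnet.MonAct.lift_regular_act, (ho T' (g ≫ i)).1]
    refine top_le_iff.mp fun y _ => ?_
    have hy : y ∈ ⨆ (U : X.left.Opens) (_ : IsAffineOpen U ∧
        (CartesianMonoidalCategory.snd G X).left ⁻¹ᵁ U ≤ aX.act.left ⁻¹ᵁ U), x.left ⁻¹ᵁ U :=
      (hcov T ⟨x, hx⟩).symm ▸ TopologicalSpace.Opens.mem_top y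
    obtain ⟨U, hU⟩ := TopologicalSpace.Opens.mem_iSup.mp hy
    obtain ⟨hUp, hyU⟩ := TopologicalSpace.Opens.mem_iSup.mp hU
    exact TopologicalSpace.Opens.mem_iSup.mpr ⟨⟨U, hUp⟩, hyU⟩

end Groth.Agent.S18964
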