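import Groth.Statements.S18974
import Mathlib
-- import your own Groth.Agent.* helpers here

set_option autoImplicit false
universe u
open CAlg

namespace Groth.Agent.S18974

section
open Polynomial
variable {A : Type u} [CommRing A] [Algebra ℚ A] (D : Derivation ℚ A A)
  (hnil : ∀ x : A, ∃ n : ℕ, ((D : A →ₗ[ℚ] A) ^ n) x = 0)

lemma iter_zero_of_le {x : A} {M N : ℕ} (h : M ≤ N) (hx : ((D : A →ₗ[ℚ] A) ^ M) x = 0) :
    ((D : A →ₗ[ℚ] A) ^ N) x = 0 := by
  rw [← Nat.sub_add_cancel h, pow_add, Module.End.mul_apply, hx, map_zero]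

noncomputable def expPoly (N : ℕ) (x : A) : A[X] :=
  ∑ n ∈ Finset.range N, ((n.factorial : ℚ)⁻¹ • C (((D : A →ₗ[ℚ] A) ^ n) x)) * X ^ n

lemma coeff_expPoly (N : ℕ) (x : A) (i : ℕ) :
    (expPoly D N x).coeff i = if i < N then (i.factorial : ℚ)⁻¹ • ((D : A →ₗ[ℚ] A) ^ i) x else 0 := by
  simp only [expPoly, finsetSum_coeff, coeff_mul_X_pow', smul_mul_assoc, coeff_smul, coeff_C]
  rcases lt_or_ge i N with h | h
  · rw [if_pos h, Finset.sum_eq_single i]
    · simp
    · intro n _ hn
      split_ifs with h1 h2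
      · omega
      · simp
      · simp
    · simp [h]
  · rw [if_neg (not_lt.mpr h)]
    refine Finset.sum_eq_zero fun n hn => ?_
    rw [Finset.mem_range] at hn
    split_ifs with h1 h2
    · omega
    · simp
    · simp

include hnil in
lemma exists_E : ∃ E : A → A[X], (∀ x i, (E x).coeff i = (i.factorial : ℚ)⁻¹ • ((D : A →ₗ[ℚ] A) ^ i) x) ∧
    ∀ x N, ((D : A →ₗ[ℚ] A) ^ N) x = 0 → E x = expPoly D N x := by
  classical
  have hc : ∀ x i, (expPoly D (Nat.find (hnil x)) x).coeff i = (i.factorial : ℚ)⁻¹ • ((D : A →ₗ[ℚ] A) ^ i) x := by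
    intro x i
    rw [coeff_expPoly]
    split_ifs with h
    · rfl
    · rw [iter_zero_of_le D (not_lt.mp h) (Nat.find_spec (hnil x)), smul_zero]
  refine ⟨fun x => expPoly D (Nat.find (hnil x)) x, hc, fun x N hN => Polynomial.ext fun i => ?_⟩
  rw [hc, coeff_expPoly]
  split_ifs with h
  · rfl
  · rw [iter_zero_of_le D (not_lt.mp h) hN, smul_zero]

lemma eq_of_derivative_eq {p q : A[X]} (h0 : p.coeff 0 = q.coeff 0) (hd : derivative p = derivative q) : p = q := by
  refine Polynomial.ext fun i => ?_
  cases i with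
  | zero => exact h0
  | succ i =>
    have h := congrArg (fun r => r.coeff i) hd
    simp only [coeff_derivative] at h
    have hu : IsUnit ((i : A) + 1) := by
      have h2 := (isUnit_iff_ne_zero.mpr (by positivity : ((i : ℚ) + 1) ≠ 0)).map (algebraMap ℚ A)
      simpa using h2
    exact hu.mul_left_injective h

include hnil in
lemma exists_hom : ∃ E : A →+* A[X], (∀ x N, ((D : A →ₗ[ℚ] A) ^ N) x = 0 → E x = expPoly D N x) ∧
    (∀ x, (E x).coeff 0 = x) ∧ (∀ x, derivative (E x) = E (D x)) ∧
    (∀ x i, (E x).coeff i = (i.factorial : ℚ)⁻¹ • ((D : A →ₗ[ℚ] A) ^ i) x) := by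
  obtain ⟨E, hc, hE⟩ := exists_E D hnil
  have h0 : ∀ x, (E x).coeff 0 = x := fun x => by simp [hc]
  have hd : ∀ x, derivative (E x) = E (D x) := fun x => Polynomial.ext fun i => by
    rw [coeff_derivative, hc, hc, pow_succ, Module.End.mul_apply]
    have h1 : (((i + 1).factorial : ℚ))⁻¹ * ((i : ℚ) + 1) = (i.factorial : ℚ)⁻¹ := by
      rw [Nat.factorial_succ]; push_cast
      have : (i.factorial : ℚ) ≠ 0 := by exact_mod_cast i.factorial_ne_zero
      field_simp
    rw [smul_mul_assoc, show ((i : A) + 1) = algebraMap ℚ A ((i : ℚ) + 1) by simp, mul_comm, ← Algebra.smul_def,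
      smul_smul, h1]
    rfl
  have hadd : ∀ x y, E (x + y) = E x + E y := fun x y => Polynomial.ext fun i => by
    simp [hc, smul_add]
  have hzero : E 0 = 0 := Polynomial.ext fun i => by simp [hc]
  have hone : E 1 = 1 := by
    rw [hE 1 1 (by simp)]
    simp [expPoly]
  have hmul : ∀ (k : ℕ) (x y : A) (m n : ℕ), m + n ≤ k → ((D : A →ₗ[ℚ] A) ^ m) x = 0 → ((D : A →ₗ[ℚ] A) ^ n) y = 0 →
      E (x * y) = E x * E y := by
    intro k
    induction k with
    | zero =>
      intro x y m n hmn hx hy
      obtain rfl : m = 0 := by omega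
      rw [pow_zero, Module.End.one_apply] at hx
      simp [hx, hzero]
    | succ k ih =>
      intro x y m n hmn hx hy
      rcases Nat.eq_zero_or_pos m with rfl | hm
      · rw [pow_zero, Module.End.one_apply] at hx
        simp [hx, hzero]
      rcases Nat.eq_zero_or_pos n with rfl | hn
      · rw [pow_zero, Module.End.one_apply] at hy
        simp [hy, hzero]
      refine eq_of_derivative_eq (by rw [mul_coeff_zero, h0, h0, h0]) ?_
      have hDx : ((D : A →ₗ[ℚ] A) ^ (m - 1)) (D x) = 0 := by
        rw [show D x = (D : A →ₗ[ℚ] A) x from rfl, ← Module.End.mul_apply, ← pow_succ, Nat.sub_add_cancel hm, hx]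
      have hDy : ((D : A →ₗ[ℚ] A) ^ (n - 1)) (D y) = 0 := by
        rw [show D y = (D : A →ₗ[ℚ] A) y from rfl, ← Module.End.mul_apply, ← pow_succ, Nat.sub_add_cancel hn, hy]
      rw [hd, Derivation.leibniz, derivative_mul, hd, hd, smul_eq_mul, smul_eq_mul, hadd,
        ih x (D y) m (n - 1) (by omega) hx hDy, mul_comm y (D x), ih (D x) y (m - 1) n (by omega) hDx hy, add_comm]
  let Eh : A →+* A[X] :=
    { toFun := E
      map_one' := hone
      map_mul' := fun x y => hmul _ x y _ _ le_rfl (hnil x).choose_spec (hnil y).choose_spec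
      map_zero' := hzero
      map_add' := hadd }
  exact ⟨Eh, hE, h0, hd, hc⟩

lemma D_eval (P : A[X]) (b : A) (Q : A[X]) (hQ : ∀ i, Q.coeff i = D (P.coeff i)) :
    D (P.eval b) = Q.eval b + (derivative P).eval b * D b := by
  induction P using Polynomial.induction_on' generalizing Q with
  | add p q hp hq =>
    have hsum : ∀ p : A[X], ∃ Q : A[X], ∀ i, Q.coeff i = D (p.coeff i) := fun p =>
      ⟨∑ i ∈ p.support, monomial i (D (p.coeff i)), fun i => by
        simp only [finsetSum_coeff, coeff_monomial, Finset.sum_ite_eq', mem_support_iff]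
        split_ifs with h
        · rfl
        · rw [Polynomial.notMem_support_iff.mp h, map_zero]⟩
    obtain ⟨Qp, hQp⟩ := hsum p
    obtain ⟨Qq, hQq⟩ := hsum q
    have : Q = Qp + Qq := Polynomial.ext fun i => by simp [hQ, hQp, hQq]
    rw [this, eval_add, map_add, hp Qp hQp, hq Qq hQq, map_add, eval_add, eval_add]
    ring
  | monomial n c =>
    have : Q = monomial n (D c) := Polynomial.ext fun i => by
      rw [hQ, coeff_monomial, coeff_monomial]
      split_ifs <;> simp
    rw [this, eval_monomial, eval_monomial, derivative_monomial, eval_monomial, Derivation.leibniz, Derivation.leibniz_pow,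
      smul_eq_mul, smul_eq_mul, smul_eq_mul, nsmul_eq_mul]
    ring

end

/-- Let A be a commutative algebra over the rationals, D a locally nilpotent derivation of A and a an
element with D a = 1; write A' for the quotient of A by the ideal generated by a. Then there is a
ring isomorphism from A onto the polynomial ring A'[Y] which sends every x to the (finite) sum over
n of (1/n!) (class of D^n x) Y^n; its inverse sends Y to a and the constant polynomial on the class
of x to the sum over n of ((-1)^n/n!) (D^n x) a^n, and under it D corresponds to the derivative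
d/dY. (The source says only that A is a ring, in a setting over a field of characteristic zero; the
rational coefficients 1/n! require an algebra over the rationals, which is the hypothesis taken
here. Both sums are written over any range beyond which the iterates of D vanish at x.) -/
theorem result
    (A : Type u) [CommRing A] [Algebra ℚ A] (D : Derivation ℚ A A)
    (hnil : ∀ x : A, ∃ n : ℕ, ((D : A →ₗ[ℚ] A) ^ n) x = 0) (a : A) (ha : D a = 1) :
    ∃ χ : A ≃+* Polynomial (A ⧸ Ideal.span ({a} : Set A)),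
      (∀ (x : A) (N : ℕ), ((D : A →ₗ[ℚ] A) ^ N) x = 0 →
        χ x = ∑ n ∈ Finset.range N,
          ((n.factorial : ℚ)⁻¹ • Polynomial.C (Ideal.Quotient.mk (Ideal.span ({a} : Set A)) (((D : A →ₗ[ℚ] A) ^ n) x))) *
            Polynomial.X ^ n) ∧
      χ.symm Polynomial.X = a ∧
      (∀ (x : A) (N : ℕ), ((D : A →ₗ[ℚ] A) ^ N) x = 0 →
        χ.symm (Polynomial.C (Ideal.Quotient.mk (Ideal.span ({a} : Set A)) x)) =
          ∑ n ∈ Finset.range N, (((-1 : ℚ) ^ n * (n.factorial : ℚ)⁻¹) • ((((D : A →ₗ[ℚ] A) ^ n) x) * a ^ n))) ∧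
      ∀ p : Polynomial (A ⧸ Ideal.span ({a} : Set A)), χ (D (χ.symm p)) = Polynomial.derivative p := by
  classical
  obtain ⟨E, hE, h0, hd, hc⟩ := exists_hom D hnil
  set I := Ideal.span ({a} : Set A)
  let π : A →+* A := (Polynomial.evalRingHom (-a)).comp E
  have hEa : E a = Polynomial.C a + Polynomial.X := by
    rw [hE a 2 (by simp [pow_two, Module.End.mul_apply, ha])]
    simp [expPoly, Finset.sum_range_succ, ha]
  have hπa : π a = 0 := by simp [π, hEa]
  have hDπ : ∀ x, D (π x) = 0 := by
    intro x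
    show D ((E x).eval (-a)) = 0
    rw [D_eval D (E x) (-a) (E (D x)) fun i => by
      rw [hc, hc, Derivation.map_smul, show D x = (D : A →ₗ[ℚ] A) x from rfl, ← Module.End.mul_apply, ← pow_succ,
        pow_succ', Module.End.mul_apply]
      rfl, hd, map_neg, ha]
    ring
  have hEconst : ∀ y, D y = 0 → E y = Polynomial.C y := fun y hy => by
    rw [hE y 1 (by simpa using hy)]
    simp [expPoly]
  have hπfix : ∀ y, D y = 0 → π y = y := fun y hy => by simp [π, hEconst y hy]
  have hmkπ : ∀ x, Ideal.Quotient.mk I (π x) = Ideal.Quotient.mk I x := fun x => by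
    show Ideal.Quotient.mk I ((E x).eval (-a)) = _
    rw [← Polynomial.eval₂_id, Polynomial.hom_eval₂, RingHom.comp_id, map_neg,
      Ideal.Quotient.eq_zero_iff_mem.mpr (Ideal.mem_span_singleton_self a), neg_zero, Polynomial.eval₂_at_zero, h0]
  have hπI : ∀ x ∈ I, π x = 0 := fun x hx => by
    obtain ⟨c, rfl⟩ := Ideal.mem_span_singleton'.mp hx
    rw [map_mul, hπa, mul_zero]
  let χ : A →+* Polynomial (A ⧸ I) := (Polynomial.mapRingHom (Ideal.Quotient.mk I)).comp E
  let ψ : Polynomial (A ⧸ I) →+* A := Polynomial.eval₂RingHom (Ideal.Quotient.lift I π hπI) a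
  have hχψ : χ.comp ψ = RingHom.id _ := by
    refine Polynomial.ringHom_ext (fun z => ?_) ?_
    · obtain ⟨x, rfl⟩ := Ideal.Quotient.mk_surjective z
      show (E (ψ (Polynomial.C (Ideal.Quotient.mk I x)))).map (Ideal.Quotient.mk I) = _
      rw [show ψ (Polynomial.C (Ideal.Quotient.mk I x)) = π x by simp [ψ], hEconst _ (hDπ x), Polynomial.map_C, hmkπ]
      rfl
    · show (E (ψ Polynomial.X)).map (Ideal.Quotient.mk I) = _
      rw [show ψ Polynomial.X = a by simp [ψ], hEa]
      simp [Ideal.Quotient.eq_zero_iff_mem.mpr (Ideal.mem_span_singleton_self a), I]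
  have hinj : Function.Injective χ := by
    rw [injective_iff_map_eq_zero]
    intro x hx
    have hall : ∀ i, ((D : A →ₗ[ℚ] A) ^ i) x ∈ I := fun i => by
      have h := congrArg (fun P => Polynomial.coeff P i) hx
      change ((E x).map (Ideal.Quotient.mk I)).coeff i = (0 : Polynomial (A ⧸ I)).coeff i at h
      rw [Polynomial.coeff_map, Polynomial.coeff_zero, Ideal.Quotient.eq_zero_iff_mem, hc] at h
      have h' := I.mul_mem_left (algebraMap ℚ A (i.factorial : ℚ)) h
      rwa [← Algebra.smul_def, smul_smul, mul_inv_cancel₀ (by exact_mod_cast i.factorial_ne_zero), one_smul] at h'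
    by_contra hx0
    obtain ⟨k, hk⟩ : ∃ k, Nat.find (hnil x) = k + 1 := Nat.exists_eq_succ_of_ne_zero fun h => hx0 (by
      have := Nat.find_spec (hnil x); rwa [h, pow_zero, Module.End.one_apply] at this)
    refine Nat.find_min (hnil x) (show k < Nat.find (hnil x) by omega) ?_
    have hD : D (((D : A →ₗ[ℚ] A) ^ k) x) = 0 := by
      show (D : A →ₗ[ℚ] A) (((D : A →ₗ[ℚ] A) ^ k) x) = 0
      rw [← Module.End.mul_apply, ← pow_succ', ← hk]; exact Nat.find_spec (hnil x)
    rw [← hπfix _ hD, hπI _ (hall k)]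
  have hψχ : ∀ x, ψ (χ x) = x := fun x => hinj (RingHom.congr_fun hχψ (χ x))
  let e : A ≃+* Polynomial (A ⧸ I) := RingEquiv.ofRingHom χ ψ hχψ (RingHom.ext hψχ)
  refine ⟨e, fun x N hN => ?_, by show ψ Polynomial.X = a; simp [ψ], fun x N hN => ?_, fun P => ?_⟩
  · show (E x).map (Ideal.Quotient.mk I) = _
    rw [hE x N hN, expPoly, Polynomial.map_sum]
    refine Finset.sum_congr rfl fun n _ => Polynomial.ext fun i => ?_
    simp only [Polynomial.coeff_map, Polynomial.coeff_mul_X_pow', Polynomial.coeff_smul, Polynomial.coeff_C]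
    split_ifs <;> simp [Algebra.smul_def, map_mul]
  · show ψ (Polynomial.C (Ideal.Quotient.mk I x)) = _
    rw [show ψ (Polynomial.C (Ideal.Quotient.mk I x)) = (E x).eval (-a) by simp [ψ, π], hE x N hN, expPoly,
      Polynomial.eval_finsetSum]
    refine Finset.sum_congr rfl fun n _ => ?_
    simp only [Polynomial.eval_mul, Polynomial.eval_smul, Polynomial.eval_C, Polynomial.eval_pow, Polynomial.eval_X,
      Algebra.smul_def, map_mul, map_pow, map_neg, map_one, Polynomial.algebraMap_apply]
    rw [neg_pow a n]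
    ring
  · obtain ⟨x, rfl⟩ : ∃ x, χ x = P := ⟨ψ P, RingHom.congr_fun hχψ P⟩
    show (E (D (ψ (χ x)))).map (Ideal.Quotient.mk I) = Polynomial.derivative ((E x).map (Ideal.Quotient.mk I))
    rw [hψχ, Polynomial.derivative_map, hd]

end Groth.Agent.S18974
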