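import Groth.Statements.S18982
import Groth.Agent.GITUnip.Orbit
import Groth.Agent.GITUnip.FnUnip
import Groth.Agent.GITQuot.Good
import Groth.Agent.S18964
-- import your own Groth.Agent.* helpers here

set_option autoImplicit false
universe u
open CategoryTheory MonoidalCategory CartesianMonoidalCategory MonObj AlgebraicGeometry Topology
open NRQuot

namespace Groth.Agent.S18982

/-- Fix an algebraically closed field k with characteristic zero. Suppose G is a unipotent group,
meaning an affine, smooth, connected group scheme of finite type over k with no non-trivial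
subtorus, and that G acts on a finite-type k-scheme X. Assume φ : X → Y is a good quotient (φ is
affine and invariant; for each open subset of Y, its functions are precisely the invariant functions
on the preimage; images of invariant closed subsets are closed; and taking images commutes with
intersecting families of invariant closed subsets), where Y is a finite-type k-scheme. Then φ is in
fact a geometric quotient, i.e. its fibres are orbits, which on k-points says: whenever two k-points
of X map to the same point of Y, some k-point of G carries one onto the other. (Unipotence is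
encoded as the absence of a non-trivial subtorus; for smooth connected groups over k the two notions
agree.) -/
theorem result
    (k : Type u) [Field k] [IsAlgClosed k] [CharZero k]
    (G X Y : Over (Spec (CommRingCat.of k))) [GrpObj G] [IsAffine G.left] [LocallyOfFiniteType G.hom]
    [Smooth G.hom] [ConnectedSpace G.left] (hG : Red.HasNoSubtorus k G)
    [LocallyOfFiniteType X.hom] [QuasiCompact X.hom] [LocallyOfFiniteType Y.hom] [QuasiCompact Y.hom]
    (a : AlgGrp.Action G X) (φ : X ⟶ Y) (h : NRQuot.IsGoodQuot a φ)
    (x₁ x₂ : 𝟙_ (Over (Spec (CommRingCat.of k))) ⟶ X) (hφ : x₁ ≫ φ = x₂ ≫ φ) :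
    ∃ g : 𝟙_ (Over (Spec (CommRingCat.of k))) ⟶ G, lift g x₁ ≫ a.act = x₂ := by
  have hU := GITUnip.isUnipotent_fn hG inferInstance
  haveI := h.affine
  have hcl : ∀ x : 𝟙_ (Over (Spec (CommRingCat.of k))) ⟶ X, IsClosed (Set.range (a.orbitMap x).left.base) := by
    intro x
    let y₀ := (x ≫ φ).left.base (IsLocalRing.closedPoint k)
    obtain ⟨V, hV, hy₀, -⟩ := exists_isAffineOpen_mem_and_subset (show y₀ ∈ (⊤ : Y.left.Opens) from trivial)
    let U : X.left.Opens := φ.left ⁻¹ᵁ V
    have hUaff : IsAffineOpen U := hV.preimage φ.left
    have hst : (CartesianMonoidalCategory.snd G X).left ⁻¹ᵁ U ≤ a.act.left ⁻¹ᵁ U := fun p hp => by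
      show φ.left.base (a.act.left.base p) ∈ V
      rw [← Scheme.Hom.comp_apply, h.inv.left]
      exact hp
    obtain ⟨b, hb⟩ := S18964.exists_action a U hst
    let j : Over.mk (U.ι ≫ X.hom) ⟶ X := Over.homMk U.ι rfl
    replace hb : b.act ≫ j = (G ◁ j) ≫ a.act := hb
    have hfib := GITQuot.Good.closure_orbit_subset a h.inv x
    have hxU : x.left.base (IsLocalRing.closedPoint k) ∈ U := hy₀
    have hrx : Set.range x.left.base ⊆ Set.range U.ι.base := by
      rintro _ ⟨t, rfl⟩
      rw [Scheme.Opens.range_ι, show t = IsLocalRing.closedPoint k from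
        Subsingleton.elim (α := Spec (CommRingCat.of k)) t _]
      exact hxU
    let xU : 𝟙_ (Over (Spec (CommRingCat.of k))) ⟶ Over.mk (U.ι ≫ X.hom) :=
      Over.homMk (IsOpenImmersion.lift U.ι x.left hrx) (by
        show IsOpenImmersion.lift U.ι x.left hrx ≫ U.ι ≫ X.hom = _
        rw [IsOpenImmersion.lift_fac_assoc]
        exact Over.w x)
    have hxU' : xU ≫ j = x := Over.OverMorphism.ext (IsOpenImmersion.lift_fac _ _ _)
    have horb : b.orbitMap xU ≫ j = a.orbitMap x := by
      rw [AlgGrp.Action.orbitMap, AlgGrp.Action.orbitMap, Category.assoc, hb, lift_whiskerLeft_assoc, Category.assoc,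
        hxU']
    haveI : IsAffine (Over.mk (U.ι ≫ X.hom)).left := hUaff
    haveI : LocallyOfFiniteType (Over.mk (U.ι ≫ X.hom)).hom := inferInstanceAs (LocallyOfFiniteType (U.ι ≫ X.hom))
    have hclU := GITUnip.isClosed_range_orbitMap b hU xU
    have hrange : Set.range (a.orbitMap x).left.base = U.ι.base '' Set.range (b.orbitMap xU).left.base := by
      rw [← horb, ← Set.range_comp]
      rfl
    refine closure_subset_iff_isClosed.mp fun p hp => ?_
    have hpU : p ∈ U := by
      show φ.left.base p ∈ V
      rw [show φ.left.base p = y₀ from hfib hp]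
      exact hy₀
    rw [hrange] at hp ⊢
    obtain ⟨C, hC, hCe⟩ := U.ι.isOpenEmbedding.isEmbedding.isClosed_iff.mp hclU
    have h1 : p ∈ C := closure_minimal (by rintro _ ⟨q, hq, rfl⟩; exact hCe.ge hq) hC hp
    exact ⟨⟨p, hpU⟩, hCe.le h1, rfl⟩
  exact GITQuot.Good.exists_translate a h x₁ x₂ hφ (hcl x₁) (hcl x₂)

end Groth.Agent.S18982
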