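import Groth.Statements.S18983
import Mathlib
-- import your own Groth.Agent.* helpers here

set_option autoImplicit false
universe u v w
open CAlg

namespace Groth.Agent.S18983

/-- A graded invariant subspace has a homogeneous basis of Jordan chains. -/
lemma exists_chains {k : Type u} [Field k] {Λ : Type v} [AddCommGroup Λ] {V : Type w} [AddCommGroup V]
    [Module k V] [FiniteDimensional k V] (𝒱 : Λ → Submodule k V) (hind : iSupIndep 𝒱)
    (A : Module.End k V) (χ : Λ) (hhom : ∀ (μ : Λ) (v : V), v ∈ 𝒱 μ → A v ∈ 𝒱 (μ + χ))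
    (N₀ : ℕ) (hN₀ : A ^ N₀ = 0) :
    ∀ (d : ℕ) (W : Submodule k V), Module.finrank k W = d → (∀ w ∈ W, A w ∈ W) → W ≤ ⨆ μ, W ⊓ 𝒱 μ →
      ∃ (ι : Type w) (_ : Fintype ι) (n : ι → ℕ) (e : (Σ i : ι, Fin (n i + 1)) → V),
        (∀ p, ∃ μ, e p ∈ 𝒱 μ) ∧ (∀ i, A (e ⟨i, 0⟩) = 0) ∧
        (∀ (i : ι) (l : Fin (n i)), A (e ⟨i, l.succ⟩) = e ⟨i, l.castSucc⟩) ∧
        LinearIndependent k e ∧ Submodule.span k (Set.range e) = W := by
  classical
  have hhomj : ∀ (j : ℕ) (μ : Λ) (v : V), v ∈ 𝒱 μ → (A ^ j) v ∈ 𝒱 (μ + j • χ) := by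
    intro j
    induction j with
    | zero => intro μ v hv; simpa using hv
    | succ j ih =>
      intro μ v hv
      rw [pow_succ', Module.End.mul_apply, succ_nsmul, ← add_assoc]
      exact hhom _ _ (ih μ v hv)
  intro d
  induction d using Nat.strong_induction_on with
  | _ d ih =>
    intro W hd hinv hgr
    by_cases hW : W = ⊥
    · refine ⟨PEmpty, inferInstance, fun i => i.elim, fun p => p.1.elim, fun p => p.1.elim, fun i => i.elim,
        fun i => i.elim, linearIndependent_empty_type, ?_⟩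
      rw [hW, Set.range_eq_empty, Submodule.span_empty]
    have hex : ∃ N, ∀ w ∈ W, (A ^ N) w = 0 := ⟨N₀, fun w _ => by rw [hN₀]; rfl⟩
    have hNspec := Nat.find_spec hex
    obtain ⟨m, hm⟩ : ∃ m, Nat.find hex = m + 1 := by
      refine ⟨Nat.find hex - 1, (Nat.succ_pred_eq_of_ne_zero fun h => hW ?_).symm⟩
      rw [h] at hNspec
      exact (Submodule.eq_bot_iff W).mpr fun w hw => by simpa using hNspec w hw
    rw [hm] at hNspec
    obtain ⟨μ, v, hvW, hvμ, hv⟩ : ∃ μ v, v ∈ W ∧ v ∈ 𝒱 μ ∧ (A ^ m) v ≠ 0 := by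
      by_contra hcon
      push Not at hcon
      refine Nat.find_min hex (show m < Nat.find hex by omega) fun w hw => ?_
      have : (⨆ μ, W ⊓ 𝒱 μ) ≤ LinearMap.ker (A ^ m) := iSup_le fun μ x hx => hcon μ x hx.1 hx.2
      exact this (hgr hw)
    set ν := μ + m • χ with hν
    have hu : (A ^ m) v ∉ ⨆ μ', ⨆ (_ : μ' ≠ ν), 𝒱 μ' := fun h =>
      hv (Submodule.disjoint_def.mp (hind ν) _ (hhomj m μ v hvμ) h)
    obtain ⟨φ₀, hφ₀, hφ₀'⟩ := Submodule.exists_dual_map_eq_bot_of_notMem hu inferInstance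
    let φ : V →ₗ[k] k := (φ₀ ((A ^ m) v))⁻¹ • φ₀
    have hφu : φ ((A ^ m) v) = 1 := by simp [φ, inv_mul_cancel₀ hφ₀]
    have hφother : ∀ μ' ≠ ν, ∀ x ∈ 𝒱 μ', φ x = 0 := fun μ' hμ' x hx => by
      have : φ₀ x ∈ Submodule.map φ₀ (⨆ μ', ⨆ (_ : μ' ≠ ν), 𝒱 μ') :=
        Submodule.mem_map_of_mem (Submodule.mem_iSup_of_mem μ' (Submodule.mem_iSup_of_mem hμ' hx))
      rw [hφ₀', Submodule.mem_bot] at this
      simp [φ, this]
    let W' : Submodule k V := W ⊓ ⨅ j : Fin (m + 1), LinearMap.ker (φ.comp (A ^ (j : ℕ)))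
    have hW'iff : ∀ x, x ∈ W' ↔ x ∈ W ∧ ∀ j ≤ m, φ ((A ^ j) x) = 0 := fun x => by
      simp only [W', Submodule.mem_inf, Submodule.mem_iInf, LinearMap.mem_ker, LinearMap.comp_apply]
      exact and_congr_right fun _ => ⟨fun h j hj => h ⟨j, by omega⟩, fun h j => h j (by omega)⟩
    have hkill : ∀ j, m < j → ∀ x ∈ W, (A ^ j) x = 0 := fun j hj x hx => by
      obtain ⟨i, rfl⟩ : ∃ i, j = i + (m + 1) := ⟨j - (m + 1), by omega⟩
      rw [pow_add, Module.End.mul_apply, hNspec x hx, map_zero]
    have hinv' : ∀ x ∈ W', A x ∈ W' := fun x hx => by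
      obtain ⟨hxW, hxj⟩ := (hW'iff x).mp hx
      refine (hW'iff _).mpr ⟨hinv x hxW, fun j hj => ?_⟩
      rw [← Module.End.mul_apply, ← pow_succ]
      rcases Nat.lt_or_ge j m with h | h
      · exact hxj (j + 1) h
      · rw [hkill (j + 1) (by omega) x hxW, map_zero]
    have hgr' : W' ≤ ⨆ μ', W' ⊓ 𝒱 μ' := fun x hx => by
      obtain ⟨hxW, hxj⟩ := (hW'iff x).mp hx
      obtain ⟨f, hf, hsum⟩ := (Submodule.mem_iSup_iff_exists_finsupp _ x).mp (hgr hxW)
      rw [← hsum]
      refine Submodule.sum_mem _ fun μ' hμ' => Submodule.mem_iSup_of_mem μ' ⟨(hW'iff _).mpr ⟨(hf μ').1, fun j hj => ?_⟩, (hf μ').2⟩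
      by_cases he : μ' + j • χ = ν
      · have := hxj j hj
        rw [← hsum, Finsupp.sum, map_sum, map_sum, Finset.sum_eq_single μ'] at this
        · exact this
        · intro μ'' _ hne
          exact hφother _ (fun h => hne (add_right_cancel (h.trans he.symm))) _ (hhomj j μ'' _ (hf μ'').2)
        · exact fun h => absurd hμ' h
      · exact hφother _ he _ (hhomj j μ' _ (hf μ').2)
    have hchainW : ∀ j, (A ^ j) v ∈ W := by
      intro j
      induction j with
      | zero => simpa using hvW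
      | succ j ihj => rw [pow_succ', Module.End.mul_apply]; exact hinv _ ihj
    -- the chain is complementary to `W'`
    let c : (Fin (m + 1) → k) →ₗ[k] V := Fintype.linearCombination k fun l : Fin (m + 1) => (A ^ (m - (l : ℕ))) v
    have hc : ∀ a, c a = ∑ l, a l • (A ^ (m - (l : ℕ))) v := fun a => Fintype.linearCombination_apply k _ a
    have hcW : ∀ a, c a ∈ W := fun a => by
      rw [hc]; exact Submodule.sum_mem _ fun l _ => W.smul_mem _ (hchainW _)
    let Φ : (Fin (m + 1) → k) →ₗ[k] (Fin (m + 1) → k) :=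
      LinearMap.pi fun j => φ.comp ((A ^ (j : ℕ)).comp c)
    have hΦ : Function.Injective Φ := (injective_iff_map_eq_zero Φ).mpr fun a ha => by
      by_contra hne
      obtain ⟨l, hl, hlmax⟩ := Finset.exists_max_image (Finset.univ.filter fun l => a l ≠ 0) id (by
        obtain ⟨l, hl⟩ := Function.ne_iff.mp hne
        exact ⟨l, by simpa using hl⟩)
      have h1 := congrFun ha l
      change φ ((A ^ (l : ℕ)) (c a)) = 0 at h1
      rw [hc, map_sum, map_sum, Finset.sum_eq_single l] at h1
      · rw [map_smul, map_smul, ← Module.End.mul_apply, ← pow_add, Nat.add_sub_cancel' (by omega), hφu,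
          smul_eq_mul, mul_one] at h1
        exact (Finset.mem_filter.mp hl).2 h1
      · intro j _ hjl
        rw [map_smul, map_smul, ← Module.End.mul_apply, ← pow_add]
        rcases lt_or_gt_of_ne hjl with h | h
        · rw [hkill _ (by omega) v hvW, map_zero, smul_zero]
        · rw [show a j = 0 from by
            by_contra hj
            exact absurd (hlmax j (by simpa using hj)) (not_le.mpr h), zero_smul]
      · simp
    have hΦ' : Function.Surjective Φ := LinearMap.injective_iff_surjective.mp hΦ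
    have hdisj : ∀ a, c a ∈ W' → a = 0 := fun a ha =>
      hΦ (by rw [map_zero]; exact funext fun j => ((hW'iff _).mp ha).2 j (by omega))
    have hlt : W' < W := lt_of_le_of_ne inf_le_left fun h => hv (by
      have := ((hW'iff v).mp (h ▸ hvW)).2 m le_rfl
      rw [hφu] at this
      exact absurd this one_ne_zero)
    obtain ⟨ι, hι, n, e, heμ, he0, hesucc, hli, hsp⟩ :=
      ih _ (hd ▸ Submodule.finrank_lt_finrank_of_lt hlt) W' rfl hinv' hgr'
    let n' : Option ι → ℕ := fun o => o.elim m n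
    let e' : (Σ o : Option ι, Fin (n' o + 1)) → V
      | ⟨none, l⟩ => (A ^ (m - (l : ℕ))) v
      | ⟨some i, l⟩ => e ⟨i, l⟩
    refine ⟨Option ι, inferInstance, n', e', ?_, ?_, ?_, ?_, ?_⟩
    · rintro ⟨_ | i, l⟩
      · exact ⟨_, hhomj _ μ v hvμ⟩
      · exact heμ ⟨i, l⟩
    · rintro (_ | i)
      · show A ((A ^ (m - ((0 : Fin (m + 1)) : ℕ))) v) = 0
        rw [← Module.End.mul_apply, ← pow_succ', Fin.val_zero, Nat.sub_zero, hkill _ (Nat.lt_succ_self m) v hvW]
      · exact he0 i
    · rintro (_ | i) l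
      · show A ((A ^ (m - (l.succ : ℕ))) v) = (A ^ (m - (l.castSucc : ℕ))) v
        rw [← Module.End.mul_apply, ← pow_succ', Fin.val_succ, Fin.val_castSucc]
        have := l.isLt
        rw [show m - ((l : ℕ) + 1) + 1 = m - (l : ℕ) by have : (l : ℕ) < m := l.isLt; omega]
      · exact hesucc i l
    · rw [Fintype.linearIndependent_iff]
      intro a ha
      rw [Fintype.sum_sigma, Fintype.sum_option] at ha
      have hsome : ∑ i, ∑ l, a ⟨some i, l⟩ • e ⟨i, l⟩ ∈ W' := by
        rw [← hsp]
        exact Submodule.sum_mem _ fun i _ => Submodule.sum_mem _ fun l _ =>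
          Submodule.smul_mem _ _ (Submodule.subset_span ⟨_, rfl⟩)
      have h0 : c (fun l => a ⟨none, l⟩) + ∑ i, ∑ l, a ⟨some i, l⟩ • e ⟨i, l⟩ = 0 := by rw [hc]; exact ha
      have hnone := hdisj _ (by
        rw [eq_neg_of_add_eq_zero_left h0]
        exact W'.neg_mem hsome)
      have h1 : ∑ i, ∑ l, a ⟨some i, l⟩ • e ⟨i, l⟩ = 0 := by
        rwa [hnone, map_zero, zero_add] at h0
      have h2 := Fintype.linearIndependent_iff.mp hli (fun p => a ⟨some p.1, p.2⟩) (by
        rw [Fintype.sum_sigma]; exact h1)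
      rintro ⟨_ | i, l⟩
      · exact congrFun hnone l
      · exact h2 ⟨i, l⟩
    · refine le_antisymm (Submodule.span_le.mpr ?_) fun x hx => ?_
      · rintro _ ⟨⟨_ | i, l⟩, rfl⟩
        · exact hchainW _
        · exact hlt.le (hsp ▸ Submodule.subset_span ⟨_, rfl⟩ : e ⟨i, l⟩ ∈ W')
      · obtain ⟨a, ha⟩ := hΦ' (fun j => φ ((A ^ (j : ℕ)) x))
        have hca : c a ∈ Submodule.span k (Set.range e') := by
          rw [hc]
          exact Submodule.sum_mem _ fun l _ => Submodule.smul_mem _ _ (Submodule.subset_span ⟨⟨none, l⟩, rfl⟩)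
        have hrest : x - c a ∈ W' := (hW'iff _).mpr ⟨sub_mem hx (hcW a), fun j hj => by
          have := congrFun ha ⟨j, by omega⟩
          change φ ((A ^ j) (c a)) = φ ((A ^ j) x) at this
          rw [map_sub, map_sub, this, sub_self]⟩
        rw [← hsp] at hrest
        have hrest' : x - c a ∈ Submodule.span k (Set.range e') :=
          Submodule.span_mono (by rintro _ ⟨⟨i, l⟩, rfl⟩; exact ⟨⟨some i, l⟩, rfl⟩) hrest
        simpa using add_mem hrest' hca

/-- Let k be a field, Λ an additive commutative group, V a finite-dimensional k-vector space which is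
the internal direct sum of subspaces V_μ indexed by Λ (a representation of a torus with character
group Λ), and A a nilpotent endomorphism of V mapping each V_μ into V_{μ+χ} for a fixed χ (the
infinitesimal generator of an action of the additive group on which the torus acts through the
character χ). Then V has a basis consisting of homogeneous vectors e_{i,l}, 0 ≤ l ≤ n_i, with A
e_{i,0} = 0 and A e_{i,l+1} = e_{i,l}: a weight basis bringing A into Jordan normal form. (The
source states this, over an algebraically closed field of characteristic zero, as a decomposition of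
every representation of the semidirect product of the additive group with a torus into twists of
symmetric powers of the standard two-dimensional representation by characters; the first line of its
proof reduces that to the present statement, which is what is proved, and which holds over any
field.) -/
theorem result
    (k : Type u) [Field k] (Λ : Type v) [AddCommGroup Λ] [DecidableEq Λ]
    (V : Type w) [AddCommGroup V] [Module k V] [FiniteDimensional k V]
    (𝒱 : Λ → Submodule k V) (h𝒱 : DirectSum.IsInternal 𝒱)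
    (A : Module.End k V) (hA : IsNilpotent A) (χ : Λ)
    (hhom : ∀ (μ : Λ) (v : V), v ∈ 𝒱 μ → A v ∈ 𝒱 (μ + χ)) :
    ∃ (ι : Type w) (_ : Finite ι) (n : ι → ℕ) (b : Module.Basis (Σ i : ι, Fin (n i + 1)) k V),
      (∀ (i : ι) (l : Fin (n i + 1)), ∃ μ : Λ, b ⟨i, l⟩ ∈ 𝒱 μ) ∧
      (∀ i : ι, A (b ⟨i, 0⟩) = 0) ∧
      ∀ (i : ι) (l : Fin (n i)), A (b ⟨i, l.succ⟩) = b ⟨i, l.castSucc⟩ := by
  classical
  obtain ⟨N₀, hN₀⟩ := hA
  obtain ⟨ι, hι, n, e, h1, h2, h3, hli, hsp⟩ :=
    exists_chains 𝒱 h𝒱.submodule_iSupIndep A χ hhom N₀ hN₀ _ ⊤ rfl (fun _ _ => Submodule.mem_top) (by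
      simp only [top_inf_eq]; exact h𝒱.submodule_iSup_eq_top.ge)
  refine ⟨ι, inferInstance, n, Module.Basis.mk hli hsp.ge, fun i l => ?_, fun i => ?_, fun i l => ?_⟩
  · rw [Module.Basis.mk_apply]; exact h1 _
  · rw [Module.Basis.mk_apply]; exact h2 i
  · rw [Module.Basis.mk_apply, Module.Basis.mk_apply]; exact h3 i l

end Groth.Agent.S18983
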