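import Groth.Statements.S19035
import Mathlib
-- import your own Groth.Agent.* helpers here

set_option autoImplicit false
universe u v w x
open CAlg

namespace Groth.Agent.S19035

/-- Let p be a prime and k a perfect field of characteristic p. Let (A_i) be a directed system of
finitely generated commutative k-algebras, indexed by a nonempty directed preorder, with compatible
k-algebra transition maps, and let B be a finitely generated k-algebra with compatible k-algebra
maps A_i → B which present B as the direct limit of the system (every element of B is the image of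
an element of some A_i, and two elements of some A_i with the same image in B have the same image in
some A_j). Then the p-typical Witt vectors commute with this direct limit: every Witt vector over B
is the image of a Witt vector over some A_i, and two Witt vectors over some A_i with the same image
over B already have the same image over some A_j. (Both finiteness hypotheses matter: for an
arbitrary filtered direct limit of commutative rings either assertion can fail.) -/
theorem result
    (p : ℕ) [Fact p.Prime] (k : Type u) [Field k] [CharP k p] [PerfectRing k p]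
    {ι : Type v} [Preorder ι] [IsDirected ι (· ≤ ·)] [Nonempty ι]
    (A : ι → Type w) [∀ i, CommRing (A i)] [∀ i, Algebra k (A i)]
    [∀ i, Algebra.FiniteType k (A i)]
    (f : ∀ i j, i ≤ j → (A i →ₐ[k] A j))
    (hf : ∀ i j l (hij : i ≤ j) (hjl : j ≤ l) (x : A i),
      f j l hjl (f i j hij x) = f i l (hij.trans hjl) x)
    (B : Type x) [CommRing B] [Algebra k B] [Algebra.FiniteType k B]
    (g : ∀ i, A i →ₐ[k] B)
    (hfg : ∀ i j (hij : i ≤ j) (x : A i), g j (f i j hij x) = g i x)
    (hsurj : ∀ b : B, ∃ i, ∃ x : A i, g i x = b)
    (hinj : ∀ i (x y : A i), g i x = g i y → ∃ j, ∃ hij : i ≤ j, f i j hij x = f i j hij y) :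
    (∀ w : WittVector p B, ∃ i, ∃ v : WittVector p (A i),
        WittVector.map (g i).toRingHom v = w) ∧
    (∀ i (v v' : WittVector p (A i)),
        WittVector.map (g i).toRingHom v = WittVector.map (g i).toRingHom v' →
        ∃ j, ∃ hij : i ≤ j,
          WittVector.map (f i j hij).toRingHom v = WittVector.map (f i j hij).toRingHom v') := by
  classical
  haveI : ∀ i, IsNoetherianRing (A i) := fun i => Algebra.FiniteType.isNoetherianRing k (A i)
  obtain ⟨n, π, hπ⟩ := Algebra.FiniteType.iff_quotient_mvPolynomial''.mp (inferInstance : Algebra.FiniteType k B)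
  choose idx pre hpre using fun t : Fin n => hsurj (π (MvPolynomial.X t))
  obtain ⟨i₀, hi₀⟩ := Finite.exists_le idx
  have hg : Function.Surjective (g i₀) := by
    intro b
    obtain ⟨q, rfl⟩ := hπ b
    refine ⟨MvPolynomial.aeval (fun t => f (idx t) i₀ (hi₀ t) (pre t)) q, ?_⟩
    rw [MvPolynomial.comp_aeval_apply]
    exact AlgHom.congr_fun (MvPolynomial.algHom_ext fun t => by simp [hfg, hpre]) q
  refine ⟨fun w => ⟨i₀, ?_⟩, fun i v v' hvv => ?_⟩
  · choose c hc using fun t => hg (w.coeff t)
    exact ⟨WittVector.mk p c, WittVector.ext fun t => by simp [hc]⟩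
  · obtain ⟨S, hS⟩ := IsNoetherian.noetherian (RingHom.ker (g i).toRingHom)
    have hS' : ∀ s : (S : Set (A i)), ∃ j, ∃ hij : i ≤ j, f i j hij s = 0 := fun s => by
      obtain ⟨j, hij, h⟩ := hinj i s 0 (by
        rw [map_zero]; exact RingHom.mem_ker.mp (hS.le (Submodule.subset_span s.2)))
      exact ⟨j, hij, by rw [h, map_zero]⟩
    choose js hjs hzero using hS'
    obtain ⟨j, hij, hj⟩ : ∃ j, i ≤ j ∧ ∀ s, js s ≤ j := by
      obtain ⟨j, hj⟩ := Finite.exists_le js
      obtain ⟨l, hl1, hl2⟩ := directed_of (· ≤ ·) i j
      exact ⟨l, hl1, fun s => (hj s).trans hl2⟩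
    refine ⟨j, hij, WittVector.ext fun t => ?_⟩
    have hker : RingHom.ker (g i).toRingHom ≤ RingHom.ker (f i j hij).toRingHom := by
      rw [← hS, Ideal.span_le]
      intro s hs
      rw [SetLike.mem_coe, RingHom.mem_ker]
      show f i j hij s = 0
      rw [← hf i (js ⟨s, hs⟩) j (hjs ⟨s, hs⟩) (hj _), hzero ⟨s, hs⟩, map_zero]
    have h : g i (v.coeff t - v'.coeff t) = 0 := by
      rw [map_sub, sub_eq_zero]
      simpa using congrArg (fun w => WittVector.coeff w t) hvv
    simp only [WittVector.map_coeff]
    exact sub_eq_zero.mp ((map_sub _ _ _).symm.trans (hker h))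

end Groth.Agent.S19035
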