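import Groth.Statements.S19039
import Groth.Agent.GITLine.Dense
import Mathlib.Algebra.Polynomial.Basis
-- import your own Groth.Agent.* helpers here

set_option autoImplicit false
universe u
open Instab

namespace Groth.Agent.S19039

open CategoryTheory MonoidalCategory CartesianMonoidalCategory MonObj GrpObj AlgebraicGeometry in
/-- The case n = 1 for a scheme X separated over an affine base Spec R, stated as the two facts that
identify equivariant families with maps whose orbit map extends. Let G_m act on X (a left action a :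
G_m × X → X over Spec R) and on A¹ × T through the scaling action on A¹, for an R-scheme T; write j
: G_m → A¹ for the inclusion t ↦ t. (a) If u, v : A¹ × T → X are G_m-equivariant R-morphisms with
the same restriction to the section {1} × T, then u = v. (b) If x : T → X is an R-morphism and u :
A¹ × T → X is an R-morphism whose restriction along j × T is the orbit family (g, t) ↦ g · x(t),
then u is G_m-equivariant. (The source works with an algebraic space X quasi-separated and locally
of finite presentation over a base B with an action of G_mⁿ and deduces that X⁺ → X is a locally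
finitely presented unramified monomorphism; only the elementary identification for n = 1 is stated
here, which uses separatedness alone.) -/
theorem result
    (R : Type u) [CommRing R] (X : Over (Spec (CommRingCat.of R))) [IsSeparated X.hom]
    (a : AlgGrp.Action (ThetaS.Gm R) X) (T : Over (Spec (CommRingCat.of R))) :
    (∀ u v : ThetaS.Line R ⊗ T ⟶ X,
        (α_ (ThetaS.Gm R) (ThetaS.Line R) T).inv ≫ ((ThetaS.lineAction R).act ▷ T) ≫ u = (ThetaS.Gm R ◁ u) ≫ a.act →
        (α_ (ThetaS.Gm R) (ThetaS.Line R) T).inv ≫ ((ThetaS.lineAction R).act ▷ T) ≫ v = (ThetaS.Gm R ◁ v) ≫ a.act →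
        lift ((1 : T ⟶ ThetaS.Gm R) ≫ (CoactBr.pt (ThetaS.linePt (ThetaS.zPow R 1)) : ThetaS.Gm R ⟶ ThetaS.Line R)) (𝟙 T) ≫ u =
          lift ((1 : T ⟶ ThetaS.Gm R) ≫ (CoactBr.pt (ThetaS.linePt (ThetaS.zPow R 1)) : ThetaS.Gm R ⟶ ThetaS.Line R)) (𝟙 T) ≫ v →
        u = v) ∧
    (∀ (x : T ⟶ X) (u : ThetaS.Line R ⊗ T ⟶ X),
        ((CoactBr.pt (ThetaS.linePt (ThetaS.zPow R 1)) : ThetaS.Gm R ⟶ ThetaS.Line R) ▷ T) ≫ u = (ThetaS.Gm R ◁ x) ≫ a.act →
        (α_ (ThetaS.Gm R) (ThetaS.Line R) T).inv ≫ ((ThetaS.lineAction R).act ▷ T) ≫ u =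
          (ThetaS.Gm R ◁ u) ≫ a.act) := by
  let ιA : (Polynomial R) →ₐ[R] ThetaS.Lau R := ThetaS.linePt (ThetaS.zPow R 1)
  let j : ThetaS.Gm R ⟶ ThetaS.Line R := CoactBr.pt ιA
  have hzpow : ∀ n : ℕ, (ThetaS.zPow R 1) ^ n = ThetaS.zPow R n := fun n => by
    induction n with
    | zero => simp
    | succ n ih => rw [pow_succ, ih, ThetaS.zPow_mul]; simp
  -- `R[x] → R[z, z⁻¹]` has a linear retraction
  obtain ⟨r, hr⟩ : ∃ r : ThetaS.Lau R →ₗ[R] (Polynomial R), r ∘ₗ ιA.toLinearMap = LinearMap.id := by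
    let b : Module.Basis (Multiplicative ℤ) R (ThetaS.Lau R) :=
      Module.Basis.ofRepr (MonoidAlgebra.coeffLinearEquiv R)
    refine ⟨b.constr R fun g => if 0 ≤ g.toAdd then (Polynomial.X : Polynomial R) ^ g.toAdd.toNat else 0, ?_⟩
    refine (Polynomial.basisMonomials R).ext fun n => ?_
    simp only [LinearMap.comp_apply, LinearMap.id_apply, Polynomial.coe_basisMonomials, AlgHom.toLinearMap_apply]
    have h : ιA (Polynomial.monomial n 1) = b (Multiplicative.ofAdd (n : ℤ)) := by
      show Polynomial.aeval (ThetaS.zPow R 1) (Polynomial.monomial n (1 : R)) = _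
      rw [Polynomial.aeval_monomial, map_one, _root_.one_mul, hzpow]
      rfl
    rw [h, Module.Basis.constr_basis]
    simp [Polynomial.X_pow_eq_monomial]
  have hinj : ∀ (C : Type u) [CommRing C] [Algebra R C],
      Function.Injective (Algebra.TensorProduct.map ιA (AlgHom.id R C)) := by
    intro C _ _
    refine Function.LeftInverse.injective (g := TensorProduct.map r (LinearMap.id : C →ₗ[R] C)) fun z => ?_
    induction z using TensorProduct.induction_on with
    | zero => simp
    | tmul a c => simpa using congrArg (TensorProduct.tmul R · c) (LinearMap.congr_fun hr a)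
    | add p q hp hq => simp only [map_add, hp, hq]
  have K : ∀ (T' : Over (Spec (CommRingCat.of R))) (u v : ThetaS.Line R ⊗ T' ⟶ X),
      (j ▷ T') ≫ u = (j ▷ T') ≫ v → u = v :=
    fun T' u v => Groth.Agent.GITLine.eq_of_whiskerRight_comp ιA hinj T' u v
  -- `j` is equivariant
  have hj : (ThetaS.Gm R ◁ j) ≫ (ThetaS.lineAction R).act = μ[ThetaS.Gm R] ≫ j := by
    let L := ThetaS.Lau R
    let il : L →ₐ[R] TensorProduct R L L := Algebra.TensorProduct.includeLeft
    let ir : L →ₐ[R] TensorProduct R L L := Algebra.TensorProduct.includeRight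
    letI := @braidedAlgSpec (CommRingCat.of R)
    let e := lift (CoactBr.pt il) (CoactBr.pt ir)
    let M := Functor.LaxMonoidal.μ (algSpec (CommRingCat.of R)) (Opposite.op (CommAlgCat.of R L))
      (Opposite.op (CommAlgCat.of R L))
    have he : e ≫ M = 𝟙 _ := by
      rw [CoactBr.lift_pt_pt]
      have : Algebra.TensorProduct.lift il ir (fun _ _ => .all _ _) = AlgHom.id R (TensorProduct R L L) :=
        Algebra.TensorProduct.ext' fun a b => by simp [il, ir]
      rw [this]
      exact CoactBr.pt_id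
    haveI : IsIso M := (Functor.Monoidal.μIso (algSpec (CommRingCat.of R)) (Opposite.op (CommAlgCat.of R L))
      (Opposite.op (CommAlgCat.of R L))).isIso_hom
    haveI : IsIso e := by
      rw [(Iso.comp_hom_eq_id (Functor.Monoidal.μIso (algSpec (CommRingCat.of R)) (Opposite.op (CommAlgCat.of R L))
        (Opposite.op (CommAlgCat.of R L)))).mp he]
      exact Iso.isIso_inv _
    apply (cancel_epi e).mp
    rw [lift_whiskerLeft_assoc, ← CoactBr.pt_comp,
      show ir.comp ιA = ThetaS.linePt (ir (ThetaS.zPow R 1)) from Polynomial.algHom_ext (by simp [ιA]),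
      ThetaS.lineAction_pt, ← Category.assoc, ← Hom.mul_def, CoactBr.pt_mul_pt, ← CoactBr.pt_comp]
    congr 1
    apply Polynomial.algHom_ext
    simp [ιA, il, ir, L, Bialgebra.comulAlgHom_apply]
  -- hence the orbit of the point `1` is `j`
  have hone : lift (𝟙 (ThetaS.Gm R)) ((1 : ThetaS.Gm R ⟶ ThetaS.Gm R) ≫ j) ≫ (ThetaS.lineAction R).act = j := by
    rw [← lift_whiskerLeft, Category.assoc, hj, ← Category.assoc, ← Hom.mul_def, _root_.mul_one, Category.id_comp]
  refine ⟨fun u v hu hv huv => ?_, fun x u hu => ?_⟩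
  · have key : ∀ w : ThetaS.Line R ⊗ T ⟶ X,
        (α_ (ThetaS.Gm R) (ThetaS.Line R) T).inv ≫ ((ThetaS.lineAction R).act ▷ T) ≫ w = (ThetaS.Gm R ◁ w) ≫ a.act →
        (j ▷ T) ≫ w = (ThetaS.Gm R ◁ (lift ((1 : T ⟶ ThetaS.Gm R) ≫ j) (𝟙 T) ≫ w)) ≫ a.act := by
      intro w hw
      rw [MonoidalCategory.whiskerLeft_comp, Category.assoc, ← hw, ← Category.assoc, ← Category.assoc]
      congr 1
      apply CartesianMonoidalCategory.hom_ext
      · rw [whiskerRight_fst]
        conv_lhs => rw [← hone, ← Category.assoc, comp_lift, Category.comp_id, ← Category.assoc, MonObj.comp_one]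
        rw [Category.assoc, Category.assoc, whiskerRight_fst, ← Category.assoc, ← Category.assoc]
        congr 1
        apply CartesianMonoidalCategory.hom_ext
        · rw [lift_fst, Category.assoc, Category.assoc, associator_inv_fst_fst, whiskerLeft_fst]
        · rw [lift_snd, Category.assoc, Category.assoc, associator_inv_fst_snd, whiskerLeft_snd_assoc, lift_fst,
            ← Category.assoc, MonObj.comp_one]
      · rw [whiskerRight_snd, Category.assoc, Category.assoc, whiskerRight_snd, associator_inv_snd,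
          whiskerLeft_snd_assoc, lift_snd, Category.comp_id]
    exact K T u v (by rw [key u hu, key v hv]; exact congrArg (fun z => (ThetaS.Gm R ◁ z) ≫ a.act) huv)
  · let σ : ∀ M : Over (Spec (CommRingCat.of R)), M ⊗ (ThetaS.Gm R ⊗ T) ⟶ ThetaS.Gm R ⊗ (M ⊗ T) := fun M =>
      lift (snd _ _ ≫ fst _ _) (lift (fst _ _) (snd _ _ ≫ snd _ _))
    let τ : ThetaS.Gm R ⊗ (ThetaS.Line R ⊗ T) ⟶ ThetaS.Line R ⊗ (ThetaS.Gm R ⊗ T) :=
      lift (snd _ _ ≫ fst _ _) (lift (fst _ _) (snd _ _ ≫ snd _ _))
    have hτ : τ ≫ σ (ThetaS.Line R) = 𝟙 _ := by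
      apply CartesianMonoidalCategory.hom_ext
      · simp [τ, σ]
      · apply CartesianMonoidalCategory.hom_ext <;> simp [τ, σ]
    have hσ : (j ▷ (ThetaS.Gm R ⊗ T)) ≫ σ (ThetaS.Line R) = σ (ThetaS.Gm R) ≫ (ThetaS.Gm R ◁ (j ▷ T)) := by
      apply CartesianMonoidalCategory.hom_ext
      · simp [σ]
      · apply CartesianMonoidalCategory.hom_ext <;> simp [σ]
    have h2 : (ThetaS.Gm R ◁ (j ▷ T)) ≫ (α_ (ThetaS.Gm R) (ThetaS.Line R) T).inv ≫
        ((ThetaS.lineAction R).act ▷ T) ≫ u = (ThetaS.Gm R ◁ (j ▷ T)) ≫ (ThetaS.Gm R ◁ u) ≫ a.act := by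
      rw [MonoidalCategory.associator_inv_naturality_middle_assoc, ← MonoidalCategory.comp_whiskerRight_assoc, hj,
        MonoidalCategory.comp_whiskerRight_assoc, hu, ← MonoidalCategory.whiskerLeft_comp_assoc, hu,
        MonoidalCategory.whiskerLeft_comp, Category.assoc, ← Category.assoc (μ[ThetaS.Gm R] ▷ T),
        ← MonoidalCategory.whisker_exchange, Category.assoc, a.mul_act, MonoidalCategory.tensor_whiskerLeft]
      simp
    have h3 := K (ThetaS.Gm R ⊗ T) (σ _ ≫ (α_ (ThetaS.Gm R) (ThetaS.Line R) T).inv ≫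
        ((ThetaS.lineAction R).act ▷ T) ≫ u) (σ _ ≫ (ThetaS.Gm R ◁ u) ≫ a.act)
      (by rw [← Category.assoc, hσ, Category.assoc, h2, ← Category.assoc, ← hσ, Category.assoc])
    have h4 := congrArg (τ ≫ ·) h3
    simp only [← Category.assoc τ, hτ, Category.id_comp] at h4
    exact h4

end Groth.Agent.S19039
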