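import Groth.Statements.S19060
import Groth.Agent.QCoh.FlatAffine
import Groth.Agent.QCoh.FlatExchange
import Groth.Agent.QCoh.LocalExchange
import Groth.Agent.QCoh.FlatFibre
import Groth.Agent.Snapper.DimVanish
import Groth.Agent.S2446
import Groth.Agent.S0002
-- import your own Groth.Agent.* helpers here

set_option autoImplicit false
universe u
open CategoryTheory CategoryTheory.Limits AlgebraicGeometry Opposite
open Curves

set_option backward.isDefEq.respectTransparency false
set_option backward.isDefEq.respectTransparency.types false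
set_option linter.style.haveILetI false
open AlgebraicGeometry CategoryTheory
open Groth.Agent

namespace Groth.Agent.S19060

/-- Let R be a Noetherian ring and X a relative curve over Spec R (proper and smooth, with geometrically
connected fibres of dimension one, and projective: X carries an ample invertible module). Let F be a
coherent O_X-module which is flat over Spec R (every stalk is a flat module over the local ring of
the base). If H^1(X, F) is a projective R-module, then H^0(X, F) is a projective R-module. (The
source says only that F is an O_X-module flat over the base; F is taken coherent here, as the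
finiteness of its cohomology over R used there requires.) -/
theorem result (R : Type u) [CommRing R] [IsNoetherianRing R]
    (X : Scheme.{u}) [X.Over (Spec (CommRingCat.of R))] [IsProper (X ↘ Spec (CommRingCat.of R))]
    [Smooth (X ↘ Spec (CommRingCat.of R))] [GeometricallyConnected (X ↘ Spec (CommRingCat.of R))]
    (hdim : ∀ s : Spec (CommRingCat.of R), topologicalKrullDim ↥((X ↘ Spec (CommRingCat.of R)).fiber s) = 1)
    (hproj : ∃ M : X.Modules, CohB1.IsAmple M)
    (F : X.Modules) (hF : Coh.IsCoh F) (hfl : FlatMod.IsFlatOver (X ↘ Spec (CommRingCat.of R)) F)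
    (h1 : Module.Projective R (Coh.HH X F 1)) :
    Module.Projective R (Coh.HH X F 0) := by
  haveI : CompactSpace X := QuasiCompact.compactSpace_of_compactSpace (X ↘ Spec (CommRingCat.of R))
  haveI : X.IsSeparated := ⟨by
    rw [← Limits.terminal.comp_from (X ↘ Spec (CommRingCat.of R))]
    infer_instance⟩
  obtain ⟨P, hP⟩ := QCoh.exists_isBCModel F hF hfl
  have hfl' := QCoh.flat_of_isBCModel hP
  obtain ⟨ι, _, U, hcov, hU⟩ := QCoh.exists_affine_cover (X := X)
  -- the complex computes the cohomology linearly
  have hlin : ∀ p : ℕ, Nonempty (Coh.HH X F p ≃ₗ[R]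
      CohIII.T P (-(p : ℤ)) (ModuleCat.of R R)) := fun p => by
    obtain ⟨eC⟩ := QCoh.nonempty_tfun_iso (A := R) F hF.1 hcov hU p
    obtain ⟨eP⟩ := hP.2.2.2.2.1 p
    obtain ⟨l⟩ := QCoh.nonempty_tfun_linearEquiv (eC ≪≫ eP.symm) (ModuleCat.of R R)
    obtain ⟨e⟩ := QCoh.cxMod_homology_equiv (Coh.toGlobal (X ↘ Spec (CommRingCat.of R))) U hcov hU hF.1 p
    exact ⟨e.symm.trans ((((HomologicalComplex.homologyFunctor _ _ p).mapIso
      (QCoh.tensorSelfIso (P := QCoh.cechA (A := R) F U)).symm).toLinearEquiv).trans l)⟩
  -- no cohomology above degree one on the fibres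
  have hzero : ∀ (x : PrimeSpectrum R) (j : ℕ), 2 ≤ j → CohIII.dRank P (-(j : ℤ)) x = 0 := by
    intro x j hj
    refine (QCoh.subsingleton_fibreH_iff hP x j).1 ?_
    haveI : IsProper ((X ↘ Spec (CommRingCat.of R)).fiberToSpecResidueField x) :=
      MorphismProperty.pullback_snd _ _ inferInstance
    haveI : CompactSpace ↥((X ↘ Spec (CommRingCat.of R)).fiber x) :=
      QuasiCompact.compactSpace_of_compactSpace ((X ↘ Spec (CommRingCat.of R)).fiberToSpecResidueField x)
    haveI : IsLocallyNoetherian ((X ↘ Spec (CommRingCat.of R)).fiber x) :=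
      LocallyOfFiniteType.isLocallyNoetherian ((X ↘ Spec (CommRingCat.of R)).fiberToSpecResidueField x)
    haveI : IsNoetherian ((X ↘ Spec (CommRingCat.of R)).fiber x) := {}
    haveI : ((X ↘ Spec (CommRingCat.of R)).fiber x).IsSeparated := ⟨by
      rw [← Limits.terminal.comp_from ((X ↘ Spec (CommRingCat.of R)).fiberToSpecResidueField x)]
      infer_instance⟩
    exact Snapper.subsingleton_HH_of_dim_le (d := 1) (by rw [hdim x]; norm_num)
      (QCoh.isQCoh_pullback _ hF.1) (by lia)
  have hvan : ∀ j : ℕ, 2 ≤ j → Subsingleton (P.homology (-(j : ℤ))) := by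
    intro j hj
    refine Module.subsingleton_of_localization_maximal (R := R)
      (fun J hJ => LocalizedModule J.primeCompl (P.homology (-(j : ℤ))))
      (fun J hJ => LocalizedModule.mkLinearMap J.primeCompl _) fun J hJ => ?_
    let x : PrimeSpectrum R := ⟨J, hJ.isPrime⟩
    have hd : CohIII.dRank (QCoh.locCx P x) (-(j : ℤ)) (IsLocalRing.closedPoint _) = 0 := by
      rw [QCoh.dRank_locCx_closedPoint]; exact hzero x j hj
    haveI := ModuleCat.subsingleton_of_isZero (QCoh.epi_and_isZero_of_dRank (P := QCoh.locCx P x)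
      (FlatCxLib.flat_bcCx_X P hfl') (QCoh.finite_bcCx_X_aux P _ hP.1) hd).2.2
    obtain ⟨e⟩ := QCoh.nonempty_homology_locCx P x (-(j : ℤ))
    haveI := e.symm.toEquiv.subsingleton
    exact (LocalizedModule.equivTensorProduct J.primeCompl (P.homology (-(j : ℤ)))).toEquiv.subsingleton
  have hflatneg : ∀ q ≤ (-1 : ℤ), Module.Flat R ((CohIII.TFun P q).obj (ModuleCat.of R R)) := by
    intro q hq
    obtain ⟨j, rfl⟩ : ∃ j : ℕ, q = -(j : ℤ) := ⟨(-q).toNat, by lia⟩
    show Module.Flat R (CohIII.T P (-(j : ℤ)) (ModuleCat.of R R))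
    rcases (show j = 1 ∨ 2 ≤ j by lia) with rfl | hj
    · obtain ⟨l⟩ := hlin 1
      haveI := h1
      haveI : Module.Flat R (Coh.HH X F 1) := Module.Flat.of_projective
      exact Module.Flat.of_linearEquiv l.symm
    · haveI := hvan j hj
      haveI := (FlatCxLib.tUnitIso (P := P) (-(j : ℤ))).toLinearEquiv.toEquiv.subsingleton
      infer_instance
  obtain ⟨c, hc⟩ := hP.2.2.1
  have hexn := (S2446.result P hfl' c hc (-1)).2 hflatneg
  have hex0 : QCoh.IsExactT P 0 := QCoh.isExactT_of_vanish hfl' 0 fun q hq => by
    rcases lt_or_gt_of_ne hq with h | h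
    · exact hexn q (by lia)
    · exact QCoh.isExactT_of_isZero (hP.2.2.2.1 q h)
  have hflat0 : Module.Flat R ((CohIII.TFun P 0).obj (ModuleCat.of R R)) :=
    (S2446.result P hfl' c hc 0).1 (fun q hq => by
      rcases eq_or_lt_of_le hq with rfl | h
      · exact hex0
      · exact hexn q (by lia)) 0 le_rfl
  obtain ⟨l⟩ := hlin 0
  haveI : Module.Flat R (Coh.HH X F 0) := by
    haveI : Module.Flat R (CohIII.T P (-((0 : ℕ) : ℤ)) (ModuleCat.of R R)) := by
      rw [Nat.cast_zero, neg_zero]; exact hflat0
    exact Module.Flat.of_linearEquiv l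
  haveI : Module.Finite R (Coh.HH X F 0) := S0002.result R X F hF 0
  haveI : Module.FinitePresentation R (Coh.HH X F 0) := Module.finitePresentation_of_finite R _
  exact Module.Flat.projective_of_finitePresentation

end Groth.Agent.S19060
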