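import Groth.Statements.S19073
import Groth.Agent.SurfInt.Adj.Apps
import Groth.Agent.H44Adj.ExtExists
import Groth.Agent.Lib.CurveStable
import Groth.Agent.QCoh.LocFree

set_option autoImplicit false
set_option linter.style.haveILetI false
set_option linter.unusedSectionVars false
set_option backward.isDefEq.respectTransparency false
set_option backward.isDefEq.respectTransparency.types false
universe u
open CategoryTheory CategoryTheory.Limits AlgebraicGeometry
open Surf

namespace Groth.Agent.S19073

/-- Let X be a surface over an algebraically closed field k (an integral scheme of dimension two all of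
whose local rings are regular, with a closed immersion into some P^n_k over k), and let L₁, L₂ be
invertible O_X-modules which are numerically equivalent: (L₁·M) = (L₂·M) for every invertible
O_X-module M, where (L·M) = χ(O_X) − χ(L) − χ(M) + χ(L ⊗ M) is the intersection number. Then χ(X,
L₁) = χ(X, L₂). -/
theorem result (k : Type u) [Field k] [IsAlgClosed k] (X : Scheme.{u}) [X.Over (Spec (CommRingCat.of k))]
    [AlgebraicGeometry.IsIntegral X] (hdim : topologicalKrullDim X = 2) (hreg : ∀ x : X, IsRegularLocalRing (X.presheaf.stalk x))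
    (hproj : ∃ (n : ℕ) (ι : X ⟶ CohB1.ProjSpace n k), IsClosedImmersion ι ∧ ι ≫ CohB1.ProjSpace.toSpec n k = (X ↘ (Spec (CommRingCat.of k))))
    (L₁ L₂ : X.Modules) (hL₁ : PicF.IsInvertible L₁) (hL₂ : PicF.IsInvertible L₂)
    (hnum : ∀ M : X.Modules, PicF.IsInvertible M →
      FGA.intNum k X 2 ![L₁, M] (Coh.structureModule X) = FGA.intNum k X 2 ![L₂, M] (Coh.structureModule X)) :
    Curv2.euler k X L₁ = Curv2.euler k X L₂ := by
  open Groth.Agent in
  haveI := SurfInt.isProper_of_proj k hproj
  obtain ⟨A, hA⟩ := SurfInt.exists_isAmple_of_proj k hproj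
  obtain ⟨W, hW⟩ := H44Adj.exists_isExtPow (E := Omega.sheaf (X ↘ Spec (CommRingCat.of k))) (i := 2)
    (QCoh.isQCoh_of_isFinLocFree (CurveStable.isFinLocFree_of_rank (SurfInt.Adj.omega_rank_two k hdim hreg)))
  have h1 := SurfInt.Adj.riemann_roch k hdim hreg hW hA hL₁
  have h2 := SurfInt.Adj.riemann_roch k hdim hreg hW hA hL₂
  have hWi := SurfInt.Adj.isInvertible_canonical k hdim hreg hW
  have e1 : SurfInt.dot k L₁ L₁ = SurfInt.dot k L₂ L₂ := by
    rw [show SurfInt.dot k L₁ L₁ = SurfInt.dot k L₂ L₁ from hnum L₁ hL₁, SurfInt.dot_comm k hdim.le hL₂ hL₁]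
    exact hnum L₂ hL₂
  have e2 : SurfInt.dot k L₁ W = SurfInt.dot k L₂ W := hnum W hWi
  omega

end Groth.Agent.S19073
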