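import Groth.Statements.S19098
-- import your own Groth.Agent.* helpers here

set_option autoImplicit false
universe u
open CategoryTheory MonoidalCategory CartesianMonoidalCategory MonObj AlgebraicGeometry
open ChGrp

namespace Groth.Agent.S19098

/-- Let S be a scheme, G an S-group scheme acting on an S-scheme X through a, and h an S-point of G. Let
i : Z → G be a homomorphism and ψ : Ψ → G a monomorphism with a G-action on Ψ under which ψ
intertwines with conjugation, and o an S-point of Ψ over h, such that (Ψ, o) is the homogeneous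
space G/Z for the fppf topology through the orbit map g ↦ g h g⁻¹ (so Z is the centralizer of h and
Ψ its conjugacy class). Let incl : X^h → X be a monomorphism whose points are the points of X fixed
by h, with the Z-action restricted from a; let σ : S_Ψ → G ×_S X be a monomorphism whose points are
the pairs (g, x) with g a point of Ψ and g x = x (the part of the global stabilizer over Ψ), with
the G-action by conjugation on the first entry and by a on the second; and let Φ : G ×_S X^h → S_Ψ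
be the morphism (g, x) ↦ (g h g⁻¹, g x). Then Φ makes S_Ψ, with its G-action, the balanced product G
×^Z X^h for the fppf topology: Φ is G-equivariant, it is a Z-torsor for the action z (g, x) = (g
z⁻¹, z x), and it has sections fppf-locally on S_Ψ. (The source works with algebraic spaces of
finite type over the complex numbers and a semisimple conjugacy class Ψ, where the identification of
Ψ with G/Z comes from the theory of algebraic groups; here that identification is the hypothesis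
hhom, the base is arbitrary and X is a scheme.) -/
theorem result
    {S : Scheme.{u}} {G X Z Ψ Xh SΨ : Over S} [GrpObj G] [GrpObj Z]
    (a : AlgGrp.Action G X) (h : 𝟙_ (Over S) ⟶ G)
    (i : Z ⟶ G) [IsMonHom i]
    (ψ : Ψ ⟶ G) [Mono ψ] (aΨ : AlgGrp.Action G Ψ)
    (hψ : aΨ.act ≫ ψ = fst G Ψ * (snd G Ψ ≫ ψ) * (fst G Ψ)⁻¹)
    (o : 𝟙_ (Over S) ⟶ Ψ) (ho : o ≫ ψ = h)
    (hhom : ChGrp.IsHomog Scheme.fppfPrecoverage i aΨ o)
    (incl : Xh ⟶ X) [Mono incl]
    (hXh : ∀ (T : Over S) (x : T ⟶ X), (∃ y : T ⟶ Xh, y ≫ incl = x) ↔ lift (toUnit T ≫ h) x ≫ a.act = x)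
    (aXh : AlgGrp.Action Z Xh) (hincl : AlgGrp.Action.IsEquivariant aXh (a.restrict i) incl)
    (σ : SΨ ⟶ G ⊗ X) [Mono σ]
    (hSΨ : ∀ (T : Over S) (g : T ⟶ G) (x : T ⟶ X),
      (∃ q : T ⟶ SΨ, q ≫ σ = lift g x) ↔ ((∃ y : T ⟶ Ψ, y ≫ ψ = g) ∧ lift g x ≫ a.act = x))
    (aS : AlgGrp.Action G SΨ)
    (hσ : aS.act ≫ σ = lift (fst G SΨ * (snd G SΨ ≫ σ ≫ fst G X) * (fst G SΨ)⁻¹)
      (lift (fst G SΨ) (snd G SΨ ≫ σ ≫ snd G X) ≫ a.act))
    (Φ : G ⊗ Xh ⟶ SΨ)
    (hΦ : Φ ≫ σ = lift (fst G Xh * (toUnit (G ⊗ Xh) ≫ h) * (fst G Xh)⁻¹)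
      (lift (fst G Xh) (snd G Xh ≫ incl) ≫ a.act)) :
    ChGrp.IsBalProd Scheme.fppfPrecoverage i aXh aS Φ := by
  have hΦp : ∀ (T : Over S) (g : T ⟶ G) (y : T ⟶ Xh), lift g y ≫ Φ ≫ σ =
      lift (g * (toUnit T ≫ h) * g⁻¹) (lift g (y ≫ incl) ≫ a.act) := by
    intro T g y
    rw [hΦ, comp_lift, comp_mul, comp_mul, GrpObj.comp_inv, lift_fst, ← Category.assoc (lift g y) (toUnit _),
      toUnit_unique (lift g y ≫ toUnit (G ⊗ Xh)) (toUnit T), ← Category.assoc _ (lift (fst G Xh) _), comp_lift,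
      lift_fst, lift_snd_assoc]
  have hΦ1 : ∀ (T : Over S) (g : T ⟶ G) (y : T ⟶ Xh), lift g y ≫ Φ ≫ σ ≫ fst G X =
      g * (toUnit T ≫ h) * g⁻¹ := by
    intro T g y
    have e := congrArg (· ≫ fst G X) (hΦp T g y)
    simpa only [Category.assoc, lift_fst] using e
  have hΦ2 : ∀ (T : Over S) (g : T ⟶ G) (y : T ⟶ Xh), lift g y ≫ Φ ≫ σ ≫ snd G X =
      lift g (y ≫ incl) ≫ a.act := by
    intro T g y
    have e := congrArg (· ≫ snd G X) (hΦp T g y)
    simpa only [Category.assoc, lift_snd] using e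
  have hσp : ∀ (T : Over S) (g : T ⟶ G) (s : T ⟶ SΨ), lift g s ≫ aS.act ≫ σ =
      lift (g * (s ≫ σ ≫ fst G X) * g⁻¹) (lift g (s ≫ σ ≫ snd G X) ≫ a.act) := by
    intro T g s
    rw [hσ, comp_lift, comp_mul, comp_mul, GrpObj.comp_inv, lift_fst, lift_snd_assoc,
      ← Category.assoc _ (lift (fst G SΨ) _), comp_lift, lift_fst, lift_snd_assoc]
  have horb : ∀ (T : Over S) (g : T ⟶ G), g ≫ aΨ.orbitMap o ≫ ψ = g * (toUnit T ≫ h) * g⁻¹ := by
    intro T g
    rw [AlgGrp.Action.comp_orbitMap_assoc, hψ, comp_mul, comp_mul, GrpObj.comp_inv, lift_fst, lift_snd_assoc,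
      Category.assoc, ho]
  have hincl' : ∀ (T : Over S) (z : T ⟶ Z) (y : T ⟶ Xh),
      (lift z y ≫ aXh.act) ≫ incl = lift (z ≫ i) (y ≫ incl) ≫ a.act := by
    intro T z y
    rw [Category.assoc, hincl, lift_whiskerLeft_assoc, AlgGrp.Action.lift_restrict_act]
  obtain ⟨-, hpb, hloc⟩ := hhom
  have hcomm : ∀ (T : Over S) (z : T ⟶ Z), (z ≫ i) * (toUnit T ≫ h) * (z ≫ i)⁻¹ = toUnit T ≫ h := by
    intro T z
    have h' := congrArg (fun f => lift (1 : T ⟶ G) z ≫ f ≫ ψ) hpb.w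
    simp only [Category.assoc] at h'
    rw [lift_fst_assoc, lift_whiskerLeft_assoc, ← Category.assoc (lift _ _) μ[G], ← Hom.mul_def, horb, horb] at h'
    simpa using h'.symm
  refine ⟨?_, ?_, ?_⟩
  · apply AlgGrp.Action.hom_ext_lift₂
    intro T g p
    obtain ⟨g', y, rfl⟩ : ∃ g' y, p = lift g' y :=
      ⟨p ≫ fst G Xh, p ≫ snd G Xh, by rw [← comp_lift, lift_fst_snd, Category.comp_id]⟩
    rw [← Category.assoc, AlgGrp.Action.lift_prod_act, AlgGrp.Action.lift_trivial_act, lift_whiskerLeft_assoc,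
      ← cancel_mono σ, Category.assoc, Category.assoc,
      show lift g g' ≫ (NonAbH1.trivialAction G).act = g * g' from (Hom.mul_def g g').symm, hΦp, hσp]
    simp only [Category.assoc]
    rw [hΦ1, hΦ2, AlgGrp.Action.lift_mul_act]
    simp only [_root_.mul_inv_rev, _root_.mul_assoc]
  · have hw : (twist i aXh).act ≫ Φ = snd Z (G ⊗ Xh) ≫ Φ := by
      apply AlgGrp.Action.hom_ext_lift₂
      intro T z p
      obtain ⟨g, y, rfl⟩ : ∃ g y, p = lift g y :=
        ⟨p ≫ fst G Xh, p ≫ snd G Xh, by rw [← comp_lift, lift_fst_snd, Category.comp_id]⟩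
      rw [lift_snd_assoc, ← Category.assoc, ChGrp.lift_twist_act, ← cancel_mono σ, Category.assoc, Category.assoc,
        hΦp, hΦp, hincl', ← AlgGrp.Action.lift_mul_act, inv_mul_cancel_right]
      congr 1
      have hc := hcomm T z
      rw [mul_inv_eq_iff_eq_mul] at hc
      rw [show g * (z ≫ i)⁻¹ * (toUnit T ≫ h) * (g * (z ≫ i)⁻¹)⁻¹ =
        g * ((z ≫ i)⁻¹ * ((toUnit T ≫ h) * (z ≫ i))) * g⁻¹ by group, ← hc, inv_mul_cancel_left]
    have key : ∀ (T : Over S) (p₁ p₂ : T ⟶ G ⊗ Xh), p₁ ≫ Φ = p₂ ≫ Φ →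
        ∃ z : T ⟶ Z, lift z p₂ ≫ (twist i aXh).act = p₁ ∧
          ∀ z' : T ⟶ Z, lift z' p₂ ≫ (twist i aXh).act = p₁ → z' = z := by
      intro T p₁ p₂ hp
      obtain ⟨g₁, x₁, rfl⟩ : ∃ g x, p₁ = lift g x :=
        ⟨p₁ ≫ fst G Xh, p₁ ≫ snd G Xh, by rw [← comp_lift, lift_fst_snd, Category.comp_id]⟩
      obtain ⟨g₂, x₂, rfl⟩ : ∃ g x, p₂ = lift g x :=
        ⟨p₂ ≫ fst G Xh, p₂ ≫ snd G Xh, by rw [← comp_lift, lift_fst_snd, Category.comp_id]⟩
      have h1 := congrArg (fun f => f ≫ σ ≫ fst G X) hp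
      have h2 := congrArg (fun f => f ≫ σ ≫ snd G X) hp
      simp only [Category.assoc] at h1 h2
      rw [hΦ1, hΦ1] at h1
      rw [hΦ2, hΦ2] at h2
      have ho' : g₁ ≫ aΨ.orbitMap o = g₂ ≫ aΨ.orbitMap o := by
        rw [← cancel_mono ψ, Category.assoc, Category.assoc, horb, horb, h1]
      let c := hpb.lift g₁ g₂ ho'
      have hc1 : c ≫ fst G Z = g₁ := hpb.lift_fst g₁ g₂ ho'
      have hc : c = lift g₁ (c ≫ snd G Z) := by rw [← hc1, ← comp_lift, lift_fst_snd, Category.comp_id]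
      have hc2 : c ≫ (G ◁ i) ≫ μ[G] = g₂ := hpb.lift_snd g₁ g₂ ho'
      have hz : (c ≫ snd G Z) ≫ i = g₁⁻¹ * g₂ := by
        rw [hc, lift_whiskerLeft_assoc, ← Hom.mul_def] at hc2
        rw [← hc2, inv_mul_cancel_left]
      refine ⟨c ≫ snd G Z, ?_, fun z' hz' => ?_⟩
      · rw [ChGrp.lift_twist_act, hz]
        congr 1
        · group
        · rw [← cancel_mono incl, hincl', hz, AlgGrp.Action.lift_mul_act, ← h2, ← AlgGrp.Action.lift_mul_act,
            inv_mul_cancel, AlgGrp.Action.lift_one_act]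
      · rw [ChGrp.lift_twist_act] at hz'
        have h3 := congrArg (· ≫ fst G Xh) hz'
        simp only [lift_fst] at h3
        have h4 : z' ≫ i = g₁⁻¹ * g₂ := by rw [← h3]; group
        have h5 : lift g₁ z' = c := hpb.hom_ext (by rw [hc1, lift_fst]) (by
          rw [hc2, lift_whiskerLeft_assoc, ← Hom.mul_def, h4, mul_inv_cancel_left])
        rw [← h5, lift_snd]
    choose zc hzc huniq using key
    exact ⟨⟨hw⟩, ⟨Limits.PullbackCone.IsLimit.mk hw
      (fun s => lift (zc _ s.fst s.snd s.condition) s.snd)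
      (fun s => hzc _ s.fst s.snd s.condition) (fun s => lift_snd _ _)
      (fun s m hm1 hm2 => by
        have hm : m = lift (m ≫ fst Z (G ⊗ Xh)) s.snd := by
          rw [← hm2, ← comp_lift, lift_fst_snd, Category.comp_id]
        rw [hm, huniq _ s.fst s.snd s.condition (m ≫ fst Z (G ⊗ Xh)) (by rw [← hm, hm1])])⟩⟩
  · obtain ⟨⟨yΨ, hyΨ⟩, hfix⟩ := (hSΨ SΨ (σ ≫ fst G X) (σ ≫ snd G X)).1
      ⟨𝟙 SΨ, by rw [Category.id_comp, ← comp_lift, lift_fst_snd, Category.comp_id]⟩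
    obtain ⟨R, hR, hsec⟩ := hloc
    refine ⟨R.pullbackArrows yΨ.left, Precoverage.pullbackArrows_mem yΨ.left hR, ?_⟩
    rintro V v ⟨V₀, u, hu⟩
    obtain ⟨s, hs⟩ := hsec u hu
    let T : Over S := Over.mk (Limits.pullback.snd u yΨ.left ≫ SΨ.hom)
    let t : T ⟶ SΨ := Over.homMk (Limits.pullback.snd u yΨ.left) rfl
    have hs' : s ≫ (aΨ.orbitMap o).left = u := hs
    let g : T ⟶ G := Over.homMk (Limits.pullback.fst u yΨ.left ≫ s) (by
      show (Limits.pullback.fst u yΨ.left ≫ s) ≫ G.hom = Limits.pullback.snd u yΨ.left ≫ SΨ.hom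
      rw [Category.assoc, ← Over.w (aΨ.orbitMap o), ← Category.assoc s, hs', ← Category.assoc,
        Limits.pullback.condition, Category.assoc, Over.w yΨ])
    have hg : g ≫ aΨ.orbitMap o = t ≫ yΨ := by
      refine Over.OverMorphism.ext ?_
      show (Limits.pullback.fst u yΨ.left ≫ s) ≫ (aΨ.orbitMap o).left = Limits.pullback.snd u yΨ.left ≫ yΨ.left
      rw [Category.assoc, hs', Limits.pullback.condition]
    have hg0 : g * (toUnit T ≫ h) * g⁻¹ = t ≫ σ ≫ fst G X := by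
      rw [← horb, ← Category.assoc, hg, Category.assoc, hyΨ]
    have hfix' : lift (t ≫ σ ≫ fst G X) (t ≫ σ ≫ snd G X) ≫ a.act = t ≫ σ ≫ snd G X := by
      have := congrArg (t ≫ ·) hfix
      simpa only [← Category.assoc, comp_lift] using this
    obtain ⟨y, hy⟩ := (hXh T (lift g⁻¹ (t ≫ σ ≫ snd G X) ≫ a.act)).2 (by
      rw [← AlgGrp.Action.lift_mul_act,
        show (toUnit T ≫ h) * g⁻¹ = g⁻¹ * (g * (toUnit T ≫ h) * g⁻¹) by group,
        hg0, AlgGrp.Action.lift_mul_act, hfix'])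
    refine ⟨(lift g y).left, ?_⟩
    have hl : lift g y ≫ Φ = t := by
      rw [← cancel_mono σ, Category.assoc, hΦp, hy, ← AlgGrp.Action.lift_mul_act, mul_inv_cancel,
        AlgGrp.Action.lift_one_act, hg0, ← comp_lift, ← comp_lift, lift_fst_snd, Category.comp_id]
    exact congrArg CommaMorphism.left hl

end Groth.Agent.S19098
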