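import Groth.Statements.S19099
import Groth.Agent.GITBal.Covers
-- import your own Groth.Agent.* helpers here

set_option autoImplicit false
universe u
open CategoryTheory MonoidalCategory CartesianMonoidalCategory MonObj AlgebraicGeometry
open ChGrp

namespace Groth.Agent.S19099

/-- Let S be a scheme, i : G → Q a monomorphic homomorphism of S-group schemes (a closed subgroup), h an
S-point of G whose image in Q is central, and X an S-scheme with a G-action a. Let incl : X^h → X be
a monomorphism whose points are the points of X fixed by h, with a G-action making incl equivariant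
(X^h is G-stable since h is central in G). Let Y with its Q-action and j : Q ×_S X → Y be the
balanced product Q ×^G X for the fppf topology, Y' with j' : Q ×_S X^h → Y' the balanced product Q
×^G X^h, and m : Y' → Y the morphism under which j' followed by m is Q × incl followed by j. Then m
is a monomorphism, a point of Y factors through m exactly when it is fixed by h acting on Y through
the Q-action, and m is a closed immersion if incl is one: Q ×^G X^h is the fixed locus of h in Q ×^G
X. (The source states this for a smooth algebraic space X of finite type over the complex numbers,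
as an equality of closed subspaces, and argues on closed points; the form here is the one its
computation gives for the fppf quotients over any base, with X a scheme.) -/
theorem result
    {S : Scheme.{u}} {Q G X Xh Y Y' : Over S} [GrpObj Q] [GrpObj G]
    (i : G ⟶ Q) [IsMonHom i] [Mono i]
    (h : 𝟙_ (Over S) ⟶ G)
    (hcent : ∀ (T : Over S) (q : T ⟶ Q), q * (toUnit T ≫ h ≫ i) = (toUnit T ≫ h ≫ i) * q)
    (a : AlgGrp.Action G X)
    (incl : Xh ⟶ X) [Mono incl]
    (hXh : ∀ (T : Over S) (x : T ⟶ X), (∃ y : T ⟶ Xh, y ≫ incl = x) ↔ lift (toUnit T ≫ h) x ≫ a.act = x)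
    (aXh : AlgGrp.Action G Xh) (hincl : AlgGrp.Action.IsEquivariant aXh a incl)
    (aY : AlgGrp.Action Q Y) (j : Q ⊗ X ⟶ Y) (hY : ChGrp.IsBalProd Scheme.fppfPrecoverage i a aY j)
    (aY' : AlgGrp.Action Q Y') (j' : Q ⊗ Xh ⟶ Y') (hY' : ChGrp.IsBalProd Scheme.fppfPrecoverage i aXh aY' j')
    (m : Y' ⟶ Y) (hm : j' ≫ m = (Q ◁ incl) ≫ j) :
    Mono m ∧
      (∀ (T : Over S) (y : T ⟶ Y), (∃ y' : T ⟶ Y', y' ≫ m = y) ↔ lift (toUnit T ≫ h ≫ i) y ≫ aY.act = y) ∧
      (IsClosedImmersion incl.left → IsClosedImmersion m.left) := by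
  obtain ⟨heq, hpb, hloc⟩ := hY
  obtain ⟨-, hpb', hloc'⟩ := hY'
  have hj := GITBal.covers_of_isLocallyTrivialFor j.left hloc
  have hj' := GITBal.covers_of_isLocallyTrivialFor j'.left hloc'
  have hequiv : ∀ (T : Over S) (g q : T ⟶ Q) (x : T ⟶ X),
      lift (g * q) x ≫ j = lift g (lift q x ≫ j) ≫ aY.act := by
    intro T g q x
    have h' := congrArg (lift g (lift q x) ≫ ·) heq
    simp only [← Category.assoc, lift_whiskerLeft] at h'
    rw [AlgGrp.Action.lift_prod_act, AlgGrp.Action.lift_trivial_act] at h'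
    rw [← h']
    congr 2
  have htwist : ∀ (T : Over S) (g : T ⟶ G) (q : T ⟶ Q) (x : T ⟶ X),
      lift (q * (g ≫ i)⁻¹) (lift g x ≫ a.act) ≫ j = lift q x ≫ j := by
    intro T g q x
    have h' := congrArg (lift g (lift q x) ≫ ·) hpb.w
    simp only [← Category.assoc, lift_snd] at h'
    rwa [ChGrp.lift_twist_act] at h'
  have hfib : ∀ (T : Over S) (q₁ q₂ : T ⟶ Q) (x₁ x₂ : T ⟶ X), lift q₁ x₁ ≫ j = lift q₂ x₂ ≫ j →
      ∃ g : T ⟶ G, q₁ = q₂ * (g ≫ i)⁻¹ ∧ x₁ = lift g x₂ ≫ a.act := by
    intro T q₁ q₂ x₁ x₂ e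
    let c := hpb.lift _ _ e
    have h1 : c ≫ (twist i a).act = lift q₁ x₁ := hpb.lift_fst _ _ e
    have h2 : c ≫ snd G (Q ⊗ X) = lift q₂ x₂ := hpb.lift_snd _ _ e
    have hc : c = lift (c ≫ fst G (Q ⊗ X)) (lift q₂ x₂) := by
      rw [← h2, ← comp_lift, lift_fst_snd, Category.comp_id]
    rw [hc, ChGrp.lift_twist_act] at h1
    have hq := congrArg (· ≫ fst Q X) h1
    have hx := congrArg (· ≫ snd Q X) h1
    simp only [lift_fst] at hq
    simp only [lift_snd] at hx
    exact ⟨_, hq.symm, hx.symm⟩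
  have hmp : ∀ (T : Over S) (q : T ⟶ Q) (x : T ⟶ Xh),
      (lift q x ≫ j') ≫ m = lift q (x ≫ incl) ≫ j := by
    intro T q x
    rw [Category.assoc, hm, lift_whiskerLeft_assoc]
  -- lifts along j'
  have hlift' : ∀ (T : Over S) (y : T ⟶ Y'), ∃ (P : Over S) (p : P ⟶ T) (q : P ⟶ Q) (x : P ⟶ Xh),
      Epi p ∧ lift q x ≫ j' = p ≫ y := by
    intro T y
    refine ⟨Limits.pullback y j', Limits.pullback.fst y j', Limits.pullback.snd y j' ≫ fst Q Xh,
      Limits.pullback.snd y j' ≫ snd Q Xh,
      (hj'.over_pullback y _ _ (IsPullback.of_hasPullback y j')).over_epi, ?_⟩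
    rw [← comp_lift, lift_fst_snd, Category.comp_id, Limits.pullback.condition]
  have hmono : Mono m := by
    refine ⟨fun {T} a₁ a₂ e => ?_⟩
    obtain ⟨P₁, p₁, q₁, x₁, _, h₁⟩ := hlift' T a₁
    obtain ⟨P, p₂, q₂, x₂, _, h₂⟩ := hlift' P₁ (p₁ ≫ a₂)
    rw [← cancel_epi p₁, ← cancel_epi p₂, ← h₂, ← h₁, ← Category.assoc p₂]
    have e' : lift (p₂ ≫ q₁) ((p₂ ≫ x₁) ≫ incl) ≫ j = lift q₂ (x₂ ≫ incl) ≫ j := by
      rw [← hmp, ← hmp, h₂, ← comp_lift, Category.assoc p₂ (lift q₁ x₁) j', h₁]
      simp only [Category.assoc, e]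
    obtain ⟨g, hq, hx⟩ := hfib _ _ _ _ _ e'
    have hx' : p₂ ≫ x₁ = lift g x₂ ≫ aXh.act := by
      rw [← cancel_mono incl, hx, Category.assoc, hincl, lift_whiskerLeft_assoc]
    rw [comp_lift, hq, hx']
    have h' := congrArg (lift g (lift q₂ x₂) ≫ ·) hpb'.w
    simp only [← Category.assoc, lift_snd] at h'
    rwa [ChGrp.lift_twist_act] at h'
  -- the point criterion downstairs
  have hfixed : ∀ (T : Over S) (q : T ⟶ Q) (x : T ⟶ X),
      lift (toUnit T ≫ h ≫ i) (lift q x ≫ j) ≫ aY.act = lift q x ≫ j ↔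
        lift (toUnit T ≫ h) x ≫ a.act = x := by
    intro T q x
    have e1 : lift q (lift (toUnit T ≫ h) x ≫ a.act) ≫ j =
        lift (toUnit T ≫ h ≫ i) (lift q x ≫ j) ≫ aY.act := by
      rw [← hequiv, ← hcent, ← htwist T (toUnit T ≫ h) (q * (toUnit T ≫ h ≫ i)) x, Category.assoc,
        mul_inv_cancel_right]
    rw [← e1]
    constructor
    · intro e
      obtain ⟨g, hq, hx⟩ := hfib _ _ _ _ _ e
      have hg : g = 1 := by
        rw [left_eq_mul, inv_eq_one] at hq
        rw [← cancel_mono i, hq, MonObj.one_comp]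
      rw [hx, hg, AlgGrp.Action.lift_one_act]
    · intro e
      rw [e]
  refine ⟨hmono, ?_, ?_⟩
  · intro T y
    constructor
    · rintro ⟨y', rfl⟩
      obtain ⟨P, p, q, x, _, hp⟩ := hlift' T y'
      have hy : p ≫ y' ≫ m = lift q (x ≫ incl) ≫ j := by rw [← hmp, hp, Category.assoc]
      rw [← cancel_epi p, comp_lift_assoc, hy, ← Category.assoc p (toUnit T),
        toUnit_unique (p ≫ toUnit T) (toUnit P), hfixed]
      exact (hXh P _).1 ⟨x, rfl⟩
    · intro hy
      let P := Limits.pullback y j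
      let p : P ⟶ T := Limits.pullback.fst y j
      let l : P ⟶ Q ⊗ X := Limits.pullback.snd y j
      have hp : FpqcDescLib.Covers p.left :=
        hj.over_pullback y _ _ (IsPullback.of_hasPullback y j)
      have hl : lift (l ≫ fst Q X) (l ≫ snd Q X) ≫ j = p ≫ y := by
        rw [← comp_lift, lift_fst_snd, Category.comp_id]
        exact Limits.pullback.condition.symm
      obtain ⟨x, hx⟩ := (hXh P (l ≫ snd Q X)).2 ((hfixed P (l ≫ fst Q X) _).1 (by
        rw [hl, ← toUnit_unique (p ≫ toUnit T) (toUnit P), Category.assoc, ← comp_lift_assoc, hy]))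
      have hlm : (lift (l ≫ fst Q X) x ≫ j') ≫ m = p ≫ y := by rw [hmp, hx, hl]
      obtain ⟨y', hy', -⟩ := hp.over_desc (lift (l ≫ fst Q X) x ≫ j') fun W b c e => by
        rw [← cancel_mono m]
        simp only [Category.assoc] at hlm ⊢
        rw [hlm, reassoc_of% e]
      have := hp.over_epi
      exact ⟨y', by rw [← cancel_epi p, ← Category.assoc, hy', hlm]⟩
  · intro hc
    have hpt : ∀ (T : Over S) (u : T ⟶ Q ⊗ X) (y' : T ⟶ Y'), u ≫ j = y' ≫ m →
        ∃ v : T ⟶ Q ⊗ Xh, v ≫ Q ◁ incl = u ∧ v ≫ j' = y' := by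
      intro T u y' e
      have hu : lift (u ≫ fst Q X) (u ≫ snd Q X) = u := by rw [← comp_lift, lift_fst_snd, Category.comp_id]
      obtain ⟨P, p, q, x, _, hp⟩ := hlift' T y'
      have hfix : lift (toUnit T ≫ h) (u ≫ snd Q X) ≫ a.act = u ≫ snd Q X := by
        rw [← hfixed T (u ≫ fst Q X), hu, e, ← cancel_epi p, comp_lift_assoc, ← Category.assoc p (toUnit T),
          toUnit_unique (p ≫ toUnit T) (toUnit P), ← Category.assoc p y', ← hp, hmp, hfixed]
        exact (hXh P _).1 ⟨x, rfl⟩
      obtain ⟨x', hx'⟩ := (hXh T _).2 hfix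
      have hv : lift (u ≫ fst Q X) x' ≫ Q ◁ incl = u := by rw [lift_whiskerLeft, hx', hu]
      refine ⟨lift (u ≫ fst Q X) x', hv, ?_⟩
      rw [← cancel_mono m, hmp, hx', hu, e]
    choose v hv1 hv2 using hpt
    have : Mono (Q ◁ incl) := ⟨fun b c e => by
      refine CartesianMonoidalCategory.hom_ext _ _ ?_ ?_
      · simpa using congrArg (· ≫ fst Q X) e
      · rw [← cancel_mono incl]
        simpa using congrArg (· ≫ snd Q X) e⟩
    have hsq : IsPullback (Q ◁ incl) j' j m := ⟨⟨hm.symm⟩, ⟨Limits.PullbackCone.IsLimit.mk hm.symm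
      (fun s => v _ s.fst s.snd s.condition) (fun s => hv1 _ s.fst s.snd s.condition)
      (fun s => hv2 _ s.fst s.snd s.condition)
      (fun s n h1 _ => by rw [← cancel_mono (Q ◁ incl), h1, hv1 _ s.fst s.snd s.condition])⟩⟩
    have hwh : IsPullback (snd Q Xh) (Q ◁ incl) incl (snd Q X) :=
      ⟨⟨(whiskerLeft_snd _ _).symm⟩, ⟨Limits.PullbackCone.IsLimit.mk (whiskerLeft_snd _ _).symm
        (fun s => lift (s.snd ≫ fst Q X) s.fst) (fun s => lift_snd _ _)
        (fun s => by
          refine CartesianMonoidalCategory.hom_ext _ _ ?_ ?_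
          · simp
          · simpa using s.condition)
        (fun s n h1 h2 => by
          refine CartesianMonoidalCategory.hom_ext _ _ ?_ ?_
          · rw [← h2]; simp
          · simpa using h1)⟩⟩
    have : IsClosedImmersion (Q ◁ incl).left :=
      MorphismProperty.of_isPullback (P := @IsClosedImmersion) (hwh.map (Over.forget S)) hc
    exact hj.isClosedImmersion m.left (Q ◁ incl).left j'.left (hsq.map (Over.forget S))

end Groth.Agent.S19099
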