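import Groth.Statements.S19100
import Groth.Agent.GITUnip.FreeAction
import Groth.Agent.GITUnip.GeomFibre
import Groth.Agent.S19098
import Groth.Agent.GITBal.Covers
-- import your own Groth.Agent.* helpers here

set_option autoImplicit false
open CategoryTheory MonoidalCategory CartesianMonoidalCategory MonObj AlgebraicGeometry
open ChGrp

namespace Groth.Agent.S19100

/-- Work over S = Spec ℂ. Let G be a connected affine group scheme of finite type over ℂ acting on a
smooth ℂ-scheme X through a, with finite stabilizer: the global stabilizer S_X, given as a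
monomorphism σX : S_X → G × X whose points are the pairs (g, x) with g x = x, is finite over X. Let
h be a complex point of G, i : Z → G a homomorphism and ψ : Ψ → G a closed immersion with a G-action
lifting conjugation and a point o over h such that (Ψ, o) is the homogeneous space G/Z for the fppf
topology through g ↦ g h g⁻¹ (Z is the centralizer of h and Ψ its conjugacy class, which is closed).
Let p : P → G be a parabolic subgroup and l : Z → P a Levi subgroup of P with l followed by p equal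
to i. Let incl : X^h → X be the monomorphism of points fixed by h with its Z-action, σ : S_Ψ → G × X
the monomorphism of pairs (g, x) with g in Ψ and g x = x, with G acting by conjugation and by a, and
Φ : G × X^h → S_Ψ the morphism (g, x) ↦ (g h g⁻¹, g x). Let Y with a G-action and jY : G × X → Y be
the balanced product G ×^P X for the fppf topology (P acting on X through p), q : Y → X the morphism
with jY followed by q equal to the action, assumed separated, and j : S_Ψ → Y the morphism with Φ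
followed by j equal to (G × incl) followed by jY. Then j is a closed immersion. (The source states
it for a smooth algebraic space X and concludes that j is a regular embedding, which for the smooth
spaces S_Ψ and G ×_P X amounts to j being a closed immersion, the assertion its proof establishes
and the one made here; X is a scheme here, and the projection q with its separatedness, implicit in
the source's G/P × X, is part of the data.) -/
theorem result
    {G X Z Ψ P Xh SX SΨ Y : Over (Spec (CommRingCat.of ℂ))} [GrpObj G] [GrpObj Z] [GrpObj P]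
    [IsAffine G.left] [LocallyOfFiniteType G.hom] [ConnectedSpace G.left]
    [Smooth X.hom] (a : AlgGrp.Action G X)
    (σX : SX ⟶ G ⊗ X) [Mono σX]
    (hSX : ∀ (T : Over (Spec (CommRingCat.of ℂ))) (g : T ⟶ G) (x : T ⟶ X),
      (∃ s : T ⟶ SX, s ≫ σX = lift g x) ↔ lift g x ≫ a.act = x)
    [IsFinite (σX ≫ snd G X).left]
    (h : 𝟙_ (Over (Spec (CommRingCat.of ℂ))) ⟶ G)
    (i : Z ⟶ G) [IsMonHom i]
    (ψ : Ψ ⟶ G) [IsClosedImmersion ψ.left] (aΨ : AlgGrp.Action G Ψ)
    (hψ : aΨ.act ≫ ψ = fst G Ψ * (snd G Ψ ≫ ψ) * (fst G Ψ)⁻¹)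
    (o : 𝟙_ (Over (Spec (CommRingCat.of ℂ))) ⟶ Ψ) (ho : o ≫ ψ = h)
    (hhom : ChGrp.IsHomog Scheme.fppfPrecoverage i aΨ o)
    (p : P ⟶ G) [IsMonHom p] (hP : Red.IsParabolicOver ℂ p)
    (l : Z ⟶ P) [IsMonHom l] (hl : l ≫ p = i) (hL : Par.IsLevi l)
    (incl : Xh ⟶ X) [Mono incl]
    (hXh : ∀ (T : Over (Spec (CommRingCat.of ℂ))) (x : T ⟶ X),
      (∃ y : T ⟶ Xh, y ≫ incl = x) ↔ lift (toUnit T ≫ h) x ≫ a.act = x)
    (aXh : AlgGrp.Action Z Xh) (hincl : AlgGrp.Action.IsEquivariant aXh (a.restrict i) incl)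
    (σ : SΨ ⟶ G ⊗ X) [Mono σ]
    (hSΨ : ∀ (T : Over (Spec (CommRingCat.of ℂ))) (g : T ⟶ G) (x : T ⟶ X),
      (∃ s : T ⟶ SΨ, s ≫ σ = lift g x) ↔ ((∃ y : T ⟶ Ψ, y ≫ ψ = g) ∧ lift g x ≫ a.act = x))
    (aS : AlgGrp.Action G SΨ)
    (hσ : aS.act ≫ σ = lift (fst G SΨ * (snd G SΨ ≫ σ ≫ fst G X) * (fst G SΨ)⁻¹)
      (lift (fst G SΨ) (snd G SΨ ≫ σ ≫ snd G X) ≫ a.act))
    (Φ : G ⊗ Xh ⟶ SΨ)
    (hΦ : Φ ≫ σ = lift (fst G Xh * (toUnit (G ⊗ Xh) ≫ h) * (fst G Xh)⁻¹)
      (lift (fst G Xh) (snd G Xh ≫ incl) ≫ a.act))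
    (aY : AlgGrp.Action G Y) (jY : G ⊗ X ⟶ Y)
    (hY : ChGrp.IsBalProd Scheme.fppfPrecoverage p (a.restrict p) aY jY)
    (q : Y ⟶ X) (hq : jY ≫ q = a.act) [IsSeparated q.left]
    (j : SΨ ⟶ Y) (hj : Φ ≫ j = (G ◁ incl) ≫ jY) :
    IsClosedImmersion j.left := by
  haveI hpc : IsClosedImmersion p.left := hP.2.1
  haveI : Mono p := Over.mono_of_mono_left p
  haveI : Mono ψ := Over.mono_of_mono_left ψ
  obtain ⟨-, hml, -, U, _, u, ⟨hum, huc, hun, husm, -, hugeo, -⟩, hiso⟩ := hL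
  haveI := hum
  haveI := huc
  haveI := husm
  haveI : Mono u := Over.mono_of_mono_left u
  haveI := hiso
  haveI : IsClosedImmersion (u ≫ p).left := inferInstanceAs (IsClosedImmersion (u.left ≫ p.left))
  haveI : IsAffine U.left := isAffine_of_isAffineHom (u ≫ p).left
  let s₀ : (Spec (CommRingCat.of ℂ) : Scheme) := IsLocalRing.closedPoint ℂ
  haveI : ConnectedSpace U.left := GITUnip.connectedSpace_of_bc (Red.geomPt s₀) U (hugeo s₀).1
  have hU := GITUnip.isUnipotent_fn (GITUnip.hasNoSubtorus_of_bc (Red.geomPt s₀) U (hugeo s₀).2) inferInstance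
  -- the stabiliser inside the unipotent radical
  let SU := Limits.pullback σX ((u ≫ p) ▷ X)
  let σU : SU ⟶ U ⊗ X := Limits.pullback.snd σX ((u ≫ p) ▷ X)
  haveI : Mono σU := inferInstanceAs (Mono (Limits.pullback.snd σX ((u ≫ p) ▷ X)))
  have hSU : ∀ (T : Over (Spec (CommRingCat.of ℂ))) (g : T ⟶ U) (x : T ⟶ X),
      (∃ s : T ⟶ SU, s ≫ σU = lift g x) ↔ lift g x ≫ (a.restrict (u ≫ p)).act = x := by
    intro T g x
    rw [AlgGrp.Action.lift_restrict_act, ← hSX T (g ≫ u ≫ p) x]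
    constructor
    · rintro ⟨s, hs⟩
      refine ⟨s ≫ Limits.pullback.fst σX ((u ≫ p) ▷ X), ?_⟩
      rw [Category.assoc, Limits.pullback.condition, ← Category.assoc, hs, lift_whiskerRight]
    · rintro ⟨s, hs⟩
      exact ⟨Limits.pullback.lift s (lift g x) (by rw [hs, lift_whiskerRight]), Limits.pullback.lift_snd _ _ _⟩
  haveI : IsClosedImmersion ((u ≫ p) ▷ X).left :=
    MorphismProperty.pullbackMap (P := @IsClosedImmersion) (i₁ := (u ≫ p).left) (i₂ := 𝟙 X.left) inferInstance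
      (inferInstanceAs (IsClosedImmersion (𝟙 X.left))) (Over.w _).symm (Category.id_comp _).symm
  haveI : IsClosedImmersion (Limits.pullback.fst σX ((u ≫ p) ▷ X)).left :=
    MorphismProperty.of_isPullback (P := @IsClosedImmersion)
      ((IsPullback.of_hasPullback σX ((u ≫ p) ▷ X)).map (Over.forget _)).flip
      (show IsClosedImmersion ((u ≫ p) ▷ X).left from ‹_›)
  haveI : IsFinite (σU ≫ snd U X).left := by
    have e : σU ≫ snd U X = Limits.pullback.fst σX ((u ≫ p) ▷ X) ≫ σX ≫ snd G X := by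
      rw [Limits.pullback.condition_assoc, whiskerRight_snd]
    rw [e, Over.comp_left]
    infer_instance
  have hfree : ∀ (T : Over (Spec (CommRingCat.of ℂ))) (v : T ⟶ U) (x : T ⟶ X),
      lift (v ≫ u ≫ p) x ≫ a.act = x → v = 1 := fun T v x e =>
    GITUnip.eq_one_of_fixed hU (a.restrict (u ≫ p)) σU hSU v x (by rwa [AlgGrp.Action.lift_restrict_act])
  -- the centraliser
  have horb : ∀ (T : Over (Spec (CommRingCat.of ℂ))) (g : T ⟶ G),
      g ≫ aΨ.orbitMap o ≫ ψ = g * (toUnit T ≫ h) * g⁻¹ := by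
    intro T g
    rw [AlgGrp.Action.comp_orbitMap_assoc, hψ, comp_mul, comp_mul, GrpObj.comp_inv, lift_fst, lift_snd_assoc,
      Category.assoc, ho]
  have hcomm : ∀ (T : Over (Spec (CommRingCat.of ℂ))) (z : T ⟶ Z),
      Commute (z ≫ i) (toUnit T ≫ h) := by
    intro T z
    have h' := congrArg (fun f => lift (1 : T ⟶ G) z ≫ f ≫ ψ) hhom.2.1.w
    simp only [Category.assoc] at h'
    rw [lift_fst_assoc, lift_whiskerLeft_assoc, ← Category.assoc (lift _ _) μ[G], ← Hom.mul_def, horb, horb] at h'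
    simp only [_root_.one_mul, inv_one, _root_.mul_one] at h'
    rw [eq_mul_inv_iff_mul_eq] at h'
    exact h'.symm
  have hcent : ∀ (T : Over (Spec (CommRingCat.of ℂ))) (g : T ⟶ G), Commute g (toUnit T ≫ h) →
      ∃ z : T ⟶ Z, z ≫ i = g := by
    intro T g hg
    have e : (1 : T ⟶ G) ≫ aΨ.orbitMap o = g ≫ aΨ.orbitMap o := by
      rw [← cancel_mono ψ, Category.assoc, Category.assoc, horb, horb, hg.eq]
      group
    have h1 := hhom.2.1.lift_fst _ _ e
    have h2 := hhom.2.1.lift_snd _ _ e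
    refine ⟨hhom.2.1.lift _ _ e ≫ snd G Z, ?_⟩
    generalize hhom.2.1.lift _ _ e = c at h1 h2 ⊢
    rw [show c = lift (c ≫ fst G Z) (c ≫ snd G Z) from by rw [← comp_lift, lift_fst_snd, Category.comp_id],
      h1, lift_whiskerLeft_assoc, ← Hom.mul_def, _root_.one_mul] at h2
    exact h2
  -- the decomposition of the parabolic
  have hdec : ∀ (T : Over (Spec (CommRingCat.of ℂ))) (π : T ⟶ P),
      ∃ (z : T ⟶ Z) (v : T ⟶ U), (z ≫ l) * (v ≫ u) = π := by
    intro T π
    refine ⟨(π ≫ inv ((l ⊗ₘ u) ≫ μ)) ≫ fst Z U, (π ≫ inv ((l ⊗ₘ u) ≫ μ)) ≫ snd Z U, ?_⟩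
    rw [Hom.mul_def, ← lift_map_assoc, ← comp_lift, lift_fst_snd, Category.comp_id, Category.assoc,
      IsIso.inv_hom_id, Category.comp_id]
  have hinj : ∀ (T : Over (Spec (CommRingCat.of ℂ))) (z : T ⟶ Z) (v : T ⟶ U),
      (z ≫ l) * (v ≫ u) = 1 → v = 1 := by
    intro T z v e
    have e' : lift z v ≫ (l ⊗ₘ u) ≫ μ = lift 1 1 ≫ (l ⊗ₘ u) ≫ μ := by
      rw [lift_map_assoc, lift_map_assoc, ← Hom.mul_def, ← Hom.mul_def, MonObj.one_comp, MonObj.one_comp,
        _root_.one_mul, e]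
    simpa using congrArg (· ≫ snd Z U) ((cancel_mono ((l ⊗ₘ u) ≫ μ)).mp e')
  -- a fixed point moved by the parabolic to a fixed point comes from the centraliser
  have key : ∀ (T : Over (Spec (CommRingCat.of ℂ))) (π : T ⟶ P) (x : T ⟶ X),
      lift (toUnit T ≫ h) x ≫ a.act = x →
      lift (toUnit T ≫ h) (lift (π ≫ p) x ≫ a.act) ≫ a.act = lift (π ≫ p) x ≫ a.act →
      ∃ z : T ⟶ Z, z ≫ l = π := by
    intro T π x hx hπx
    obtain ⟨z, v, rfl⟩ := hdec T π
    obtain ⟨zh, hzh⟩ := hcent T (toUnit T ≫ h) (Commute.refl _)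
    set H := toUnit T ≫ h with hH
    let V := v ≫ u ≫ p
    have hπ : ((z ≫ l) * (v ≫ u)) ≫ p = (z ≫ i) * V := by
      rw [MonObj.mul_comp, Category.assoc, hl, Category.assoc]
    rw [hπ] at hπx
    -- translate by the centraliser
    have h1 : lift H (lift V x ≫ a.act) ≫ a.act = lift V x ≫ a.act := by
      have h2 := congrArg (fun y => lift (z ≫ i)⁻¹ y ≫ a.act) hπx
      simp only [← AlgGrp.Action.lift_mul_act] at h2
      rw [← _root_.mul_assoc, ← _root_.mul_assoc, inv_mul_cancel_left,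
        show (z ≫ i)⁻¹ * H * (z ≫ i) = H by rw [(hcomm T z).inv_left.eq, inv_mul_cancel_right]] at h2
      rwa [← AlgGrp.Action.lift_mul_act]
    -- the commutator lies in the unipotent radical
    obtain ⟨v', hv'⟩ := hun T (zh ≫ l)⁻¹ v⁻¹
    have hv'p : v' ≫ u ≫ p = H⁻¹ * V⁻¹ * H := by
      have h2 := congrArg (· ≫ p) hv'
      simp only [MonObj.mul_comp, GrpObj.inv_comp, inv_inv, Category.assoc, hl, hzh] at h2
      exact h2.symm
    have hfix : lift ((v' * v) ≫ u ≫ p) x ≫ a.act = x := by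
      rw [MonObj.mul_comp, hv'p]
      show lift (H⁻¹ * V⁻¹ * H * V) x ≫ a.act = x
      rw [show H⁻¹ * V⁻¹ * H * V = H⁻¹ * (V⁻¹ * (H * V)) by group, AlgGrp.Action.lift_mul_act,
        AlgGrp.Action.lift_mul_act, AlgGrp.Action.lift_mul_act, h1, ← AlgGrp.Action.lift_mul_act _ V⁻¹,
        inv_mul_cancel, AlgGrp.Action.lift_one_act]
      conv_lhs => rw [← hx]
      rw [← AlgGrp.Action.lift_mul_act, inv_mul_cancel, AlgGrp.Action.lift_one_act]
    have hvv := congrArg (· ≫ u ≫ p) (hfree T _ x hfix)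
    simp only [MonObj.mul_comp, MonObj.one_comp, hv'p] at hvv
    have hcV : Commute V H := by
      have h4 : H⁻¹ * V⁻¹ * H * V = 1 := hvv
      calc V * H = V * H * (H⁻¹ * V⁻¹ * H * V) := by rw [h4, _root_.mul_one]
        _ = H * V := by group
    obtain ⟨w, hw⟩ := hcent T V hcV
    have hwu : w ≫ l = v ≫ u := by
      rw [← cancel_mono p, Category.assoc, hl, hw, Category.assoc]
    have hv1 : v = 1 := hinj T w⁻¹ v (by rw [GrpObj.inv_comp, hwu, inv_mul_cancel])
    exact ⟨z, by rw [hv1, MonObj.one_comp, _root_.mul_one]⟩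
  -- the covering by pairs
  obtain ⟨-, hpbΦ, hlocΦ⟩ := S19098.result a h i ψ aΨ hψ o ho hhom incl hXh aXh hincl σ hSΨ aS hσ Φ hΦ
  have hΦc := GITBal.covers_of_isLocallyTrivialFor Φ.left hlocΦ
  have hjp : ∀ (T : Over (Spec (CommRingCat.of ℂ))) (g : T ⟶ G) (x : T ⟶ Xh),
      (lift g x ≫ Φ) ≫ j = lift g (x ≫ incl) ≫ jY := by
    intro T g x
    rw [Category.assoc, hj, lift_whiskerLeft_assoc]
  have hlift : ∀ (T : Over (Spec (CommRingCat.of ℂ))) (s : T ⟶ SΨ),
      ∃ (R : Over (Spec (CommRingCat.of ℂ))) (r : R ⟶ T) (g : R ⟶ G) (x : R ⟶ Xh),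
        Epi r ∧ lift g x ≫ Φ = r ≫ s := by
    intro T s
    refine ⟨Limits.pullback s Φ, Limits.pullback.fst s Φ, Limits.pullback.snd s Φ ≫ fst G Xh,
      Limits.pullback.snd s Φ ≫ snd G Xh,
      (hΦc.over_pullback s _ _ (IsPullback.of_hasPullback s Φ)).over_epi, ?_⟩
    rw [← comp_lift, lift_fst_snd, Category.comp_id, Limits.pullback.condition]
  have hmono : Mono j := by
    refine ⟨fun {T} s₁ s₂ e => ?_⟩
    obtain ⟨R₁, r₁, g₁, x₁, _, h₁⟩ := hlift T s₁
    obtain ⟨R, r₂, g₂, x₂, _, h₂⟩ := hlift R₁ (r₁ ≫ s₂)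
    rw [← cancel_epi r₁, ← cancel_epi r₂, ← h₂, ← h₁, ← Category.assoc r₂]
    have e' : lift (r₂ ≫ g₁) ((r₂ ≫ x₁) ≫ incl) ≫ jY = lift g₂ (x₂ ≫ incl) ≫ jY := by
      rw [← hjp, ← hjp, h₂, ← comp_lift, Category.assoc r₂ (lift g₁ x₁) Φ, h₁]
      simp only [Category.assoc, e]
    let c := hY.2.1.lift _ _ e'
    have h3 : c ≫ (twist p (a.restrict p)).act = _ := hY.2.1.lift_fst _ _ e'
    have h4 : c ≫ snd P (G ⊗ X) = _ := hY.2.1.lift_snd _ _ e'
    have hc : c = lift (c ≫ fst P (G ⊗ X)) (lift g₂ (x₂ ≫ incl)) := by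
      rw [← h4, ← comp_lift, lift_fst_snd, Category.comp_id]
    rw [hc, ChGrp.lift_twist_act, AlgGrp.Action.lift_restrict_act] at h3
    have hq1 := congrArg (· ≫ fst G X) h3
    have hq2 := congrArg (· ≫ snd G X) h3
    simp only [lift_fst] at hq1
    simp only [lift_snd] at hq2
    obtain ⟨z, hz⟩ := key R (c ≫ fst P (G ⊗ X)) (x₂ ≫ incl) ((hXh R _).1 ⟨x₂, rfl⟩) (by
      rw [hq2]
      exact (hXh R _).1 ⟨r₂ ≫ x₁, rfl⟩)
    rw [← hz, Category.assoc, hl] at hq1 hq2
    have hx : r₂ ≫ x₁ = lift z x₂ ≫ aXh.act := by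
      rw [← cancel_mono incl, ← hq2, Category.assoc, hincl, lift_whiskerLeft_assoc,
        AlgGrp.Action.lift_restrict_act]
    rw [comp_lift, ← hq1, hx]
    have h' := congrArg (lift z (lift g₂ x₂) ≫ ·) hpbΦ.w
    simp only [← Category.assoc, lift_snd] at h'
    rwa [ChGrp.lift_twist_act] at h'
  -- properness
  haveI : Epi Φ := hΦc.over_epi
  have hjq : j ≫ q = σ ≫ snd G X := by
    rw [← cancel_epi Φ, reassoc_of% hj, hq, reassoc_of% hΦ, lift_snd]
    rw [show G ◁ incl = lift (fst G Xh) (snd G Xh ≫ incl) from by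
      rw [← lift_whiskerLeft, lift_fst_snd, Category.id_comp]]
  obtain ⟨c, hc⟩ := (hSX SΨ (σ ≫ fst G X) (σ ≫ snd G X)).mpr
    ((hSΨ SΨ _ _).mp ⟨𝟙 SΨ, by rw [Category.id_comp, ← comp_lift, lift_fst_snd, Category.comp_id]⟩).2
  rw [← comp_lift, lift_fst_snd, Category.comp_id] at hc
  obtain ⟨⟨y, hy⟩, -⟩ := (hSΨ SΨ (σ ≫ fst G X) (σ ≫ snd G X)).mp
    ⟨𝟙 SΨ, by rw [Category.id_comp, ← comp_lift, lift_fst_snd, Category.comp_id]⟩
  have sqc : IsPullback c y (σX ≫ fst G X) ψ := by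
    have w : c ≫ σX ≫ fst G X = y ≫ ψ := by rw [← Category.assoc, hc, hy]
    have key' : ∀ t : Limits.PullbackCone (σX ≫ fst G X) ψ, ∃ r : t.pt ⟶ SΨ, r ≫ σ = t.fst ≫ σX := by
      intro t
      obtain ⟨r, hr⟩ := (hSΨ t.pt (t.fst ≫ σX ≫ fst G X) (t.fst ≫ σX ≫ snd G X)).mpr
        ⟨⟨t.snd, t.condition.symm⟩, (hSX _ _ _).mp ⟨t.fst, by rw [← comp_lift, ← comp_lift, lift_fst_snd,
          Category.comp_id]⟩⟩
      exact ⟨r, by rw [hr, ← comp_lift, ← comp_lift, lift_fst_snd, Category.comp_id]⟩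
    choose r hr using key'
    refine ⟨⟨w⟩, ⟨Limits.PullbackCone.IsLimit.mk w r (fun t => ?_) (fun t => ?_) fun t m h1 _ => ?_⟩⟩
    · rw [← cancel_mono σX, Category.assoc, hc, hr]
    · rw [← cancel_mono ψ, Category.assoc, hy, reassoc_of% (hr t), t.condition]
    · rw [← cancel_mono σ, hr, ← h1, Category.assoc, hc]
  haveI : IsClosedImmersion c.left := MorphismProperty.of_isPullback (P := @IsClosedImmersion) (sqc.map (Over.forget _)).flip
    (show IsClosedImmersion ψ.left from ‹_›)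
  haveI : IsFinite (j.left ≫ q.left) := by
    rw [← Over.comp_left, hjq, ← hc, Category.assoc, Over.comp_left]
    infer_instance
  haveI : IsProper (j.left ≫ q.left) := inferInstance
  haveI : IsProper j.left := IsProper.of_comp j.left q.left
  haveI := hmono
  haveI : Mono j.left := inferInstanceAs (Mono ((Over.forget _).map j))
  exact (IsClosedImmersion.iff_isProper_and_mono _).mpr ⟨inferInstance, inferInstance⟩

end Groth.Agent.S19100
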