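import Groth.Statements.S19129
import Groth.Agent.EtDual68.ASResult
-- import your own Groth.Agent.* helpers here

set_option autoImplicit false
universe u
open CategoryTheory CategoryTheory.Limits AlgebraicGeometry Opposite
open EtDual

namespace Groth.Agent.S19129

/-- Let p be a prime and R a regular local ring of characteristic p which is strictly henselian
(henselian with separably closed residue field), of Krull dimension d > 0; let Y = Spec R with
closed point y and punctured spectrum U. Then the local cohomology groups H^i_y(Y_et, Z/p) of the
constant étale sheaf Z/p with support in the closed point vanish for every i ≤ d; in particular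
H^d_y(Y_et, Z/p) = 0. -/
theorem result
    (p : ℕ) [Fact p.Prime] (R : Type u) [CommRing R] [IsRegularLocalRing R]
    [HenselianLocalRing R] [IsSepClosed (IsLocalRing.ResidueField R)] [CharP R p]
    (d : ℕ) (hd : ringKrullDim R = d) (hd0 : 0 < d) (i : ℕ) (hi : i ≤ d) :
    IsZero ((EtDual.HY (FEt.puncturedSpec R).ι i).obj (EtCoh.const (Spec (CommRingCat.of R)) (ZMod p))) := by
  exact Groth.Agent.EtDual68.ASResult.isZero_HY_of_regular p R d hd hd0 i hi

end Groth.Agent.S19129
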