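import Groth.Statements.S19141
import Groth.Agent.Sga3xB.ImageSepGlobal

set_option autoImplicit false
set_option linter.style.haveILetI false
open CategoryTheory MonoidalCategory CartesianMonoidalCategory MonObj GrpObj AlgebraicGeometry
universe u
open SGA3x

namespace Groth.Agent.S19141

/-- Let f : H ⟶ G be a homomorphism of S-group schemes, with H of multiplicative type (of arbitrary
type) and G separated and of finite presentation over S. Then there is a closed subgroup scheme Q of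
G, of multiplicative type, such that f factors through a faithfully flat (flat and surjective)
homomorphism f' : H ⟶ Q; and the pair (Q, f') is unique: for any other such factorization f = f'' ≫
j'' through a closed subgroup Q'' of multiplicative type there is an isomorphism Q ≅ Q'' over S
carrying j to j'' and f' to f''. (Q is called the image of f.) -/
theorem result {S : Scheme.{u}} (H G : Over S) [GrpObj H] [GrpObj G]
    (hH : TwC.Locally S TwC.Topology.fpqc (fun S' g => ∃ (M : Type) (_ : AddCommGroup M), Nonempty (Grp.mk (Red.bc g H) ≅ Grp.mk (Red.DS S' M))))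
    [IsSeparated G.hom] [QuasiCompact G.hom] [LocallyOfFinitePresentation G.hom] (f : H ⟶ G) [IsMonHom f] :
    (∃ (Q : Over S) (_ : GrpObj Q) (j : Q ⟶ G) (_ : IsMonHom j) (f' : H ⟶ Q) (_ : IsMonHom f'),
      IsClosedImmersion j.left ∧ TwC.Locally S TwC.Topology.fpqc (fun S' g => ∃ (M : Type) (_ : AddCommGroup M), Nonempty (Grp.mk (Red.bc g Q) ≅ Grp.mk (Red.DS S' M))) ∧
      Flat f'.left ∧ Surjective f'.left ∧ f' ≫ j = f) ∧
    (∀ (Q₁ Q₂ : Over S) [GrpObj Q₁] [GrpObj Q₂] (j₁ : Q₁ ⟶ G) (j₂ : Q₂ ⟶ G) [IsMonHom j₁] [IsMonHom j₂]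
      (f₁ : H ⟶ Q₁) (f₂ : H ⟶ Q₂) [IsMonHom f₁] [IsMonHom f₂],
      IsClosedImmersion j₁.left → IsClosedImmersion j₂.left →
      TwC.Locally S TwC.Topology.fpqc (fun S' g => ∃ (M : Type) (_ : AddCommGroup M), Nonempty (Grp.mk (Red.bc g Q₁) ≅ Grp.mk (Red.DS S' M))) →
      TwC.Locally S TwC.Topology.fpqc (fun S' g => ∃ (M : Type) (_ : AddCommGroup M), Nonempty (Grp.mk (Red.bc g Q₂) ≅ Grp.mk (Red.DS S' M))) →
      Flat f₁.left → Surjective f₁.left → f₁ ≫ j₁ = f →
      Flat f₂.left → Surjective f₂.left → f₂ ≫ j₂ = f →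
      ∃ e : Q₁ ≅ Q₂, e.hom ≫ j₂ = j₁ ∧ f₁ ≫ e.hom = f₂) := by
  obtain ⟨S', l, hlf, hls, hqc, hloc⟩ := hH
  haveI := hlf
  haveI := hls
  have hl : FpqcDescLib.Covers l :=
    FpqcDescLib.covers_of_hcov l ⟨S', l, 𝟙 _, Category.id_comp _, hls, hlf, hqc⟩
  obtain ⟨E, sE, p, j, hp, hj, hpj, hjc, hfl, hsu, hdom, hE⟩ :=
    Sga3xB.exists_image_sep (fun _ _ => True) (fun _ _ _ h => h) l hl
      (fun s' => by
        obtain ⟨U, hU, M, iM, e⟩ := hloc s'
        exact ⟨U, hU, M, iM, trivial, e⟩) f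
  refine ⟨⟨E, sE, j, hj, p, hp, hjc, ⟨S', l, hlf, hls, hqc, fun s' => ?_⟩, hfl, hsu, hpj⟩, ?_⟩
  · obtain ⟨V, hV, L, iL, -, -, e⟩ := hE s'
    exact ⟨V, hV, L, iL, e⟩
  · intro Q₁ Q₂ _ _ j₁ j₂ _ _ f₁ f₂ _ _ h₁ h₂ _ _ hf₁ hs₁ e₁ hf₂ hs₂ e₂
    haveI := h₁
    haveI := h₂
    haveI := hjc
    haveI := hdom
    haveI : IsAffineHom H.hom := Sga3xB.isAffineHom_of_locally l hl hloc
    haveI : QuasiCompact (f.left ≫ G.hom) := by rw [Over.w f]; infer_instance
    haveI : QuasiCompact f.left := QuasiCompact.of_comp f.left G.hom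
    haveI : QuasiCompact (f₁.left ≫ j₁.left) := by rw [← Over.comp_left, e₁]; infer_instance
    haveI : QuasiCompact (f₂.left ≫ j₂.left) := by rw [← Over.comp_left, e₂]; infer_instance
    haveI : QuasiCompact f₁.left := QuasiCompact.of_comp f₁.left j₁.left
    haveI : QuasiCompact f₂.left := QuasiCompact.of_comp f₂.left j₂.left
    obtain ⟨a₁, ha₁, hp₁⟩ := Sga3xB.exists_iso_of_dom p j f₁
      (FpqcDescLib.covers_of_isCovering (FpqcDescLib.isCovering_of_quasiCompact _)) j₁ (e₁.trans hpj.symm)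
    obtain ⟨a₂, ha₂, hp₂⟩ := Sga3xB.exists_iso_of_dom p j f₂
      (FpqcDescLib.covers_of_isCovering (FpqcDescLib.isCovering_of_quasiCompact _)) j₂ (e₂.trans hpj.symm)
    refine ⟨a₁.symm ≪≫ a₂, ?_, ?_⟩
    · rw [Iso.trans_hom, Iso.symm_hom, Category.assoc, ha₂, Iso.inv_comp_eq, ha₁]
    · rw [Iso.trans_hom, Iso.symm_hom, ← hp₁, Category.assoc, Iso.hom_inv_id_assoc, hp₂]

end Groth.Agent.S19141
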