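import Groth.Statements.S19163
import Groth.Agent.TransLib.Universal
import Groth.Agent.TransLib.MultEssFree
import Groth.Agent.MultTransp18.Mono

set_option autoImplicit false
set_option linter.style.haveILetI false
open CategoryTheory MonoidalCategory CartesianMonoidalCategory MonObj GrpObj AlgebraicGeometry
universe u
open SGA3x

namespace Groth.Agent.S19163

open CategoryTheory.Limits in
set_option backward.isDefEq.respectTransparency false in
/-- Diagonalisable groups are essentially free. -/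
theorem essFree_DS (S : Scheme.{u}) (M : Type) [AddCommGroup M] : SGA3x.IsEssentiallyFree (Red.DS S M).hom := by
  intro s
  obtain ⟨U, hU, hsU, -⟩ := exists_isAffineOpen_mem_and_subset (show s ∈ (⊤ : S.Opens) from trivial)
  haveI : IsAffine (U : Scheme.{u}) := hU
  refine ⟨U, hsU, hU, U, hU, 𝟙 _, inferInstance, inferInstance, fun x => ⟨⊤, trivial, ?_, ?_⟩⟩
  all_goals
    obtain ⟨hA, hP⟩ := TransLib.exists_chart_DS (T := (U : Scheme.{u})) M
    let b := Limits.IsTerminal.from specULiftZIsTerminal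
    let k : Red.bc (𝟙 _ ≫ U.ι) (Red.DS S M) ≅ Red.DS (U : Scheme.{u}) M :=
      ((Over.pullbackComp (𝟙 _ ≫ U.ι) (b S)).app (Red.diag (ULift.{u} ℤ) M)).symm ≪≫
        eqToIso (congrArg (fun z => Red.bc z (Red.diag (ULift.{u} ℤ) M)) (specULiftZIsTerminal.hom_ext _ _))
    haveI : IsIso k.hom.left := inferInstanceAs (IsIso ((Over.forget _).map k.hom))
  · haveI : IsAffine (pullback (Red.DS S M).hom (𝟙 _ ≫ U.ι)) := IsAffine.of_isIso k.hom.left
    exact isAffineOpen_top _
  · let Z : Scheme.{u} := pullback (Red.DS S M).hom (𝟙 _ ≫ U.ι)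
    let φ : ((⊤ : Z.Opens) : Scheme.{u}) ⟶ (Red.DS (U : Scheme.{u}) M).left := (⊤ : Z.Opens).ι ≫ k.hom.left
    haveI : IsIso (⊤ : Z.Opens).ι := Scheme.topIso Z |>.isIso_hom
    haveI : IsIso φ := inferInstanceAs (IsIso (_ ≫ k.hom.left))
    letI := (Red.DS (U : Scheme.{u}) M).hom.appTop.hom.toAlgebra
    letI := ((⊤ : Z.Opens).ι ≫ pullback.snd (Red.DS S M).hom (𝟙 _ ≫ U.ι)).appTop.hom.toAlgebra
    haveI := hP
    have hw : φ ≫ (Red.DS (U : Scheme.{u}) M).hom = (⊤ : Z.Opens).ι ≫ pullback.snd (Red.DS S M).hom (𝟙 _ ≫ U.ι) := by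
      rw [Category.assoc]
      exact congrArg (_ ≫ ·) (Over.w k.hom)
    let e : Γ((Red.DS (U : Scheme.{u}) M).left, ⊤) ≃ₐ[Γ((U : Scheme.{u}), ⊤)] Γ(((⊤ : Z.Opens) : Scheme.{u}), ⊤) :=
      { (asIso φ.appTop).commRingCatIsoToRingEquiv with
        commutes' := fun r => congrArg (fun m => m.appTop.hom r) hw }
    exact Module.Projective.of_equiv e.toLinearEquiv

set_option backward.isDefEq.respectTransparency false in
/-- Let Γ be a non-trivial totally ordered commutative group and H ⟶ G a closed immersion of reductive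
S-groups (a homomorphism which is a closed immersion). Let A_H with υ_H, resp. A_G with υ_G,
represent the functor of group homomorphisms D_S(Γ) ⟶ H, resp. D_S(Γ) ⟶ G, and let φ : A_H ⟶ A_G be
the S-morphism induced by composing with H ⟶ G (the universal family over A_H followed by H ⟶ G is
the pull-back of υ_G along φ). Then φ is a closed immersion, locally of finite presentation. -/
theorem result {S : Scheme.{u}}
    (Γ : Type) [AddCommGroup Γ] [LinearOrder Γ] [IsOrderedAddMonoid Γ] [Nontrivial Γ]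
    (H G : Over S) [GrpObj H] [GrpObj G] (hH : Red.IsReductive H) (hG : Red.IsReductive G)
    (k : H ⟶ G) [IsMonHom k] (hk : IsClosedImmersion k.left)
    (AH : Over S) (υH : Red.DS S Γ ⊗ AH ⟶ H) (hAH : AutFam.RepresentsHom (Red.DS S Γ) H AH υH)
    (AG : Over S) (υG : Red.DS S Γ ⊗ AG ⟶ G) (hAG : AutFam.RepresentsHom (Red.DS S Γ) G AG υG)
    (φ : AH ⟶ AG) (hφ : (Red.DS S Γ ◁ φ) ≫ υG = υH ≫ k) :
    IsClosedImmersion φ.left ∧ LocallyOfFinitePresentation φ.left := by
  haveI := hk
  haveI : Mono k.left := inferInstance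
  haveI : Mono k := Over.mono_of_mono_left k
  obtain ⟨Z, c, hc, hfp, hZ⟩ := TransLib.exists_closed_universal_essFree (X := AG) (essFree_DS S Γ) υG k
  haveI : Mono c := Over.mono_of_mono_left c
  obtain ⟨z, hz⟩ := (hZ φ).mpr ⟨υH, hφ.symm⟩
  obtain ⟨l, hl⟩ := (hZ c).mp ⟨𝟙 Z, Category.id_comp c⟩
  have hlfam : AutFam.IsHomFamily (Red.DS S Γ) H l := fun X g₁ g₂ t => by
    rw [← cancel_mono k, MonObj.mul_comp, Category.assoc, Category.assoc, Category.assoc, hl,
      lift_whiskerLeft_assoc, lift_whiskerLeft_assoc, lift_whiskerLeft_assoc]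
    exact hAG.1 X g₁ g₂ (t ≫ c)
  obtain ⟨a, ha, -⟩ := hAH.2 Z l hlfam
  have hcfam : AutFam.IsHomFamily (Red.DS S Γ) G ((Red.DS S Γ ◁ c) ≫ υG) := fun X g₁ g₂ t => by
    rw [lift_whiskerLeft_assoc, lift_whiskerLeft_assoc, lift_whiskerLeft_assoc]
    exact hAG.1 X g₁ g₂ (t ≫ c)
  have hac : a ≫ φ = c := (hAG.2 Z _ hcfam).unique
    (by rw [MonoidalCategory.whiskerLeft_comp, Category.assoc, hφ, ← Category.assoc, ha, hl]) rfl
  have hza : z ≫ a = 𝟙 AH := by
    refine (hAH.2 AH υH hAH.1).unique ?_ (by rw [MonoidalCategory.whiskerLeft_id, Category.id_comp])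
    rw [MonoidalCategory.whiskerLeft_comp, Category.assoc, ha, ← cancel_mono k, Category.assoc, hl, ← Category.assoc,
      ← MonoidalCategory.whiskerLeft_comp, hz, hφ]
  have haz : a ≫ z = 𝟙 Z := by rw [← cancel_mono c, Category.assoc, hz, hac, Category.id_comp]
  haveI : IsIso z := ⟨a, hza, haz⟩
  haveI : IsIso z.left := inferInstanceAs (IsIso ((Over.forget S).map z))
  haveI : LocallyOfFinitePresentation k.left := by
    haveI := hH.2.1
    haveI := hG.2.1
    haveI : LocallyOfFinitePresentation (k.left ≫ G.hom) := by rw [Over.w]; infer_instance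
    exact AlgSpPts.locallyOfFinitePresentation_of_comp k.left G.hom
  haveI := hfp (by
    haveI : IsAffine (Red.diag (ULift.{u} ℤ) Γ).left := inferInstanceAs (IsAffine (Spec _))
    haveI : IsAffineHom (Red.diag (ULift.{u} ℤ) Γ).hom := isAffineHom_of_isAffine _
    haveI : IsAffineHom (Red.DS S Γ).hom := MorphismProperty.pullback_snd _ _ inferInstance
    infer_instance) inferInstance
  haveI := hc
  rw [← hz, Over.comp_left]
  exact ⟨inferInstance, inferInstance⟩

end Groth.Agent.S19163
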