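import Groth.Statements.S19176
import Mathlib.RingTheory.MvPolynomial.Ideal
import Mathlib.LinearAlgebra.Dimension.Constructions
import Mathlib.Tactic
-- import your own Groth.Agent.* helpers here

set_option autoImplicit false
universe u
open PlaneCurve

namespace Groth.Agent.S19176

open MvPolynomial in
theorem finrank_box {k : Type u} [Field k] (a b : ℕ) :
    Module.finrank k (MvPolynomial (Fin 2) k ⧸ Ideal.span
      ({X 0 ^ a, X 1 ^ b} : Set (MvPolynomial (Fin 2) k))) = a * b := by
  classical
  let e : Fin a × Fin b → (Fin 2 →₀ ℕ) := fun ij => Finsupp.single 0 (ij.1 : ℕ) + Finsupp.single 1 (ij.2 : ℕ)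
  have e0 : ∀ ij, e ij 0 = (ij.1 : ℕ) := fun ij => by simp [e]
  have e1 : ∀ ij, e ij 1 = (ij.2 : ℕ) := fun ij => by simp [e]
  have einj : Function.Injective e := fun x y h =>
    Prod.ext (Fin.ext (by rw [← e0, ← e0, h])) (Fin.ext (by rw [← e1, ← e1, h]))
  let φ : MvPolynomial (Fin 2) k →ₗ[k] (Fin a × Fin b → k) := LinearMap.pi fun ij => lcoeff k (e ij)
  have hsurj : Function.Surjective φ := by
    intro g
    refine ⟨∑ ij, monomial (e ij) (g ij), ?_⟩
    funext ij
    simp [φ, coeff_sum, coeff_monomial, einj.eq_iff]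
  let J : Ideal (MvPolynomial (Fin 2) k) := Ideal.span {X 0 ^ a, X 1 ^ b}
  have hJ : J = Ideal.span ((fun s => monomial s (1 : k)) ''
      {Finsupp.single 0 a, Finsupp.single 1 b}) := by
    simp [J, Set.image_pair, X_pow_eq_monomial]
  have hker : LinearMap.ker φ = J.restrictScalars k := by
    ext f
    rw [Submodule.restrictScalars_mem, hJ, mem_ideal_span_monomial_image, LinearMap.mem_ker]
    constructor
    · intro h xi hxi
      by_contra hc
      have h0 : xi 0 < a := by
        by_contra hh; exact hc ⟨_, Or.inl rfl, Finsupp.single_le_iff.2 (not_lt.1 hh)⟩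
      have h1 : xi 1 < b := by
        by_contra hh; exact hc ⟨_, Or.inr rfl, Finsupp.single_le_iff.2 (not_lt.1 hh)⟩
      have he : e (⟨xi 0, h0⟩, ⟨xi 1, h1⟩) = xi := by
        ext i; fin_cases i <;> simp [e]
      have := congrFun h (⟨xi 0, h0⟩, ⟨xi 1, h1⟩)
      simp [φ, he] at this
      exact (mem_support_iff.1 hxi) this
    · intro h
      funext ij
      show coeff (e ij) f = 0
      by_contra hc
      obtain ⟨s, hs, hle⟩ := h (e ij) (mem_support_iff.2 hc)
      rcases hs with rfl | rfl
      · have := Finsupp.single_le_iff.1 hle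
        rw [e0] at this
        exact absurd ij.1.isLt (not_lt.2 this)
      · have := Finsupp.single_le_iff.1 hle
        rw [e1] at this
        exact absurd ij.2.isLt (not_lt.2 this)
  have h := ((Submodule.quotEquivOfEq _ _ hker.symm).trans
    (φ.quotKerEquivOfSurjective hsurj)).finrank_eq
  rw [Module.finrank_fintype_fun_eq_card, Fintype.card_prod, Fintype.card_fin, Fintype.card_fin] at h
  rw [← h]
  exact ((Submodule.Quotient.restrictScalarsEquiv k J).finrank_eq).symm


open MvPolynomial in
/-- Let k be a field of characteristic p (p = 0 allowed) and F = y² − x³ in k[x, y] (x the variable of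
index 0, y of index 1). The singular subscheme of the plane curve F = 0, cut out by F and its two
partial derivatives, is finite over k of degree 4 when p = 2, of degree 3 when p = 3, and of degree
2 otherwise: the k-dimension of k[x, y]/(F, ∂F/∂x, ∂F/∂y) is that number. (The source phrases this
through the complete local ring of a cusp; the row is the computation for the standard cusp y² =
x³.) -/
theorem result (k : Type u) [Field k] (p : ℕ) [CharP k p] :
    Module.finrank k (MvPolynomial (Fin 2) k ⧸ Ideal.span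
      ({X 1 ^ 2 - X 0 ^ 3, pderiv 0 (X 1 ^ 2 - X 0 ^ 3), pderiv 1 (X 1 ^ 2 - X 0 ^ 3)} :
        Set (MvPolynomial (Fin 2) k))) = (if p = 2 then 4 else if p = 3 then 3 else 2) := by
  classical
  set F : MvPolynomial (Fin 2) k := X 1 ^ 2 - X 0 ^ 3 with hF
  have hx : pderiv 0 F = -(C (3 : k) * X 0 ^ 2) := by
    simp [hF, pderiv_pow, pderiv_X, Pi.single_apply, map_ofNat]
  have hy : pderiv 1 F = C (2 : k) * X 1 := by
    simp [hF, pderiv_pow, pderiv_X, Pi.single_apply, map_ofNat]
  rw [hx, hy, Ideal.span_insert, Ideal.span_insert, Ideal.span_singleton_neg]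
  by_cases hp2 : p = 2
  · subst hp2
    have h2 : (2 : k) = 0 := by exact_mod_cast CharP.cast_eq_zero k 2
    have h3 : (3 : k) = 1 := by linear_combination h2
    rw [if_pos rfl, h2, h3, map_zero, map_one, zero_mul, one_mul, Ideal.span_singleton_zero, sup_bot_eq]
    have : Ideal.span {F} ⊔ Ideal.span {X 0 ^ 2} = Ideal.span ({X 0 ^ 2, X 1 ^ 2} : Set (MvPolynomial (Fin 2) k)) := by
      rw [← Ideal.span_insert]
      apply le_antisymm <;> rw [Ideal.span_le, Set.insert_subset_iff, Set.singleton_subset_iff]
      · exact ⟨Ideal.mem_span_pair.2 ⟨-X 0, 1, by rw [hF]; ring⟩, Ideal.subset_span (by simp)⟩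
      · exact ⟨Ideal.subset_span (by simp), Ideal.mem_span_pair.2 ⟨1, X 0, by rw [hF]; ring⟩⟩
    rw [this, finrank_box]
  · have h2 : (2 : k) ≠ 0 := by
      intro h
      have := (CharP.cast_eq_zero_iff k p 2).1 (by exact_mod_cast h)
      rcases CharP.char_is_prime_or_zero k p with hp | hp
      · exact hp2 ((Nat.prime_dvd_prime_iff_eq hp Nat.prime_two).1 this)
      · subst hp; simp at this
    rw [if_neg hp2, Ideal.span_singleton_mul_left_unit ((Ne.isUnit h2).map C)]
    by_cases hp3 : p = 3
    · subst hp3
      have h3 : (3 : k) = 0 := by exact_mod_cast CharP.cast_eq_zero k 3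
      rw [if_pos rfl, h3, map_zero, zero_mul, Ideal.span_singleton_zero, bot_sup_eq]
      have : Ideal.span {F} ⊔ Ideal.span {X 1} = Ideal.span ({X 0 ^ 3, X 1 ^ 1} : Set (MvPolynomial (Fin 2) k)) := by
        rw [← Ideal.span_insert]
        apply le_antisymm <;> rw [Ideal.span_le, Set.insert_subset_iff, Set.singleton_subset_iff]
        · exact ⟨Ideal.mem_span_pair.2 ⟨-1, X 1, by rw [hF]; ring⟩, Ideal.subset_span (by simp)⟩
        · exact ⟨Ideal.mem_span_pair.2 ⟨-1, X 1, by rw [hF]; ring⟩, Ideal.subset_span (by simp)⟩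
      rw [this, finrank_box]
    · have h3 : (3 : k) ≠ 0 := by
        intro h
        have := (CharP.cast_eq_zero_iff k p 3).1 (by exact_mod_cast h)
        rcases CharP.char_is_prime_or_zero k p with hp | hp
        · exact hp3 ((Nat.prime_dvd_prime_iff_eq hp Nat.prime_three).1 this)
        · subst hp; simp at this
      rw [if_neg hp3, Ideal.span_singleton_mul_left_unit ((Ne.isUnit h3).map C)]
      have : Ideal.span {F} ⊔ (Ideal.span {X 0 ^ 2} ⊔ Ideal.span {X 1}) =
          Ideal.span ({X 0 ^ 2, X 1 ^ 1} : Set (MvPolynomial (Fin 2) k)) := by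
        rw [← Ideal.span_insert, pow_one]
        refine sup_eq_right.2 ?_
        rw [Ideal.span_singleton_le_iff_mem]
        exact Ideal.mem_span_pair.2 ⟨-X 0, X 1, by rw [hF]; ring⟩
      rw [this, finrank_box]

end Groth.Agent.S19176
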