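import Groth.Statements.S19181
import Mathlib
-- import your own Groth.Agent.* helpers here

set_option autoImplicit false
universe u
open CAlg

namespace Groth.Agent.S19181

open MvPolynomial

theorem X0_regular_mod {R : Type u} [CommRing R] (g : MvPolynomial (Fin 2) R)
    (hg : ∀ c : Polynomial R, aeval ![(0 : Polynomial R), Polynomial.X] g * c = 0 → c = 0)
    (s : MvPolynomial (Fin 2) R) (h : X 0 * s ∈ Ideal.span ({g} : Set _)) :
    s ∈ Ideal.span ({g} : Set _) := by
  obtain ⟨c, hc⟩ := Ideal.mem_span_singleton'.1 h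
  have hc0 : aeval ![(0 : Polynomial R), Polynomial.X] c = 0 := by
    apply hg
    rw [mul_comm, ← map_mul, hc, map_mul]
    simp
  have key : ∀ q : MvPolynomial (Fin 2) R, ∃ d : MvPolynomial (Fin 2) R, q =
      Polynomial.aeval (X 1 : MvPolynomial (Fin 2) R) (aeval ![(0 : Polynomial R), Polynomial.X] q) + X 0 * d := by
    intro q
    induction q using MvPolynomial.induction_on with
    | C a => exact ⟨0, by simp⟩
    | add p q hp hq =>
      obtain ⟨d, hd⟩ := hp
      obtain ⟨e, he⟩ := hq
      refine ⟨d + e, ?_⟩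
      simp only [map_add]
      linear_combination hd + he
    | mul_X p i hp =>
      obtain ⟨d, hd⟩ := hp
      fin_cases i
      · refine ⟨p, ?_⟩
        simp [mul_comm]
      · refine ⟨d * X 1, ?_⟩
        simp only [map_mul, aeval_X, Fin.mk_one, Matrix.cons_val_one, Matrix.cons_val_zero, Polynomial.aeval_X]
        linear_combination (X 1 : MvPolynomial (Fin 2) R) * hd
  obtain ⟨d, hd⟩ := key c
  rw [hc0, map_zero, zero_add] at hd
  refine Ideal.mem_span_singleton'.2 ⟨d, ?_⟩
  refine (MvPolynomial.isRegular_X (n := (0 : Fin 2)) (R := R)).left ?_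
  show X 0 * (d * g) = X 0 * s
  rw [← hc, hd]
  ring

theorem sat {R : Type u} [CommRing R] (g : MvPolynomial (Fin 2) R)
    (hg : ∀ c : Polynomial R, aeval ![(0 : Polynomial R), Polynomial.X] g * c = 0 → c = 0)
    (s : MvPolynomial (Fin 2) R) :
    (∃ n : ℕ, X 0 ^ n * s ∈ Ideal.span ({X 0 ^ 2 * g} : Set (MvPolynomial (Fin 2) R))) ↔
      s ∈ Ideal.span ({g} : Set (MvPolynomial (Fin 2) R)) := by
  constructor
  · rintro ⟨n, hn⟩
    have h : X 0 ^ n * s ∈ Ideal.span ({g} : Set _) :=
      Ideal.span_singleton_le_span_singleton.2 (Dvd.intro_left _ rfl) hn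
    clear hn
    induction n generalizing s with
    | zero => simpa using h
    | succ n ih => exact ih s (X0_regular_mod g hg _ (by rwa [pow_succ', mul_assoc] at h))
  · intro h
    obtain ⟨c, rfl⟩ := Ideal.mem_span_singleton'.1 h
    exact ⟨2, Ideal.mem_span_singleton'.2 ⟨c, by ring⟩⟩

open MvPolynomial in
/-- Let R be a commutative ring, a₁, a₂ ∈ R, and C ⊂ A²_R the curve y² + a₁xy = x³ + a₂x², blown up at
the section x = y = 0. In the chart where x = yα (variables y = X 0, α = X 1) the equation of C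
becomes y²·g₁ with g₁ = 1 + a₁α − yα³ − a₂α², and the y-saturation of the ideal (y²g₁) is (g₁): for
s ∈ R[y, α], some yⁿs lies in (y²g₁) if and only if s ∈ (g₁). In the chart where y = xβ (variables x
= X 0, β = X 1) the equation becomes x²·g₂ with g₂ = β² + a₁β − x − a₂, and some xⁿs lies in (x²g₂)
if and only if s ∈ (g₂). In other words the strict transform of C is cut out by g₁, resp. g₂, in the
two charts. -/
theorem result (R : Type u) [CommRing R] (a₁ a₂ : R) :
    (∀ s : MvPolynomial (Fin 2) R,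
      (∃ n : ℕ, X 0 ^ n * s ∈ Ideal.span ({X 0 ^ 2 * (1 + C a₁ * X 1 - X 0 * X 1 ^ 3 - C a₂ * X 1 ^ 2)} :
        Set (MvPolynomial (Fin 2) R))) ↔
      s ∈ Ideal.span ({1 + C a₁ * X 1 - X 0 * X 1 ^ 3 - C a₂ * X 1 ^ 2} : Set (MvPolynomial (Fin 2) R))) ∧
    (∀ s : MvPolynomial (Fin 2) R,
      (∃ n : ℕ, X 0 ^ n * s ∈ Ideal.span ({X 0 ^ 2 * (X 1 ^ 2 + C a₁ * X 1 - X 0 - C a₂)} :
        Set (MvPolynomial (Fin 2) R))) ↔
      s ∈ Ideal.span ({X 1 ^ 2 + C a₁ * X 1 - X 0 - C a₂} : Set (MvPolynomial (Fin 2) R))) := by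
  refine ⟨sat _ (fun c h => ?_), sat _ (fun c h => ?_)⟩
  · simp at h
    have hm : ∀ n, ((1 + Polynomial.C a₁ * Polynomial.X - Polynomial.C a₂ * Polynomial.X ^ 2) * c).coeff n = 0 := by
      rw [h]; simp
    ext n
    rw [Polynomial.coeff_zero]
    induction n using Nat.strong_induction_on with
    | _ n ih =>
      have := hm n
      rw [sub_mul, add_mul, one_mul, Polynomial.coeff_sub, Polynomial.coeff_add, mul_assoc, mul_assoc,
        Polynomial.coeff_C_mul, Polynomial.coeff_C_mul] at this
      match n, ih with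
      | 0, _ => simpa [Polynomial.coeff_X_pow_mul'] using this
      | 1, ih => simpa [Polynomial.coeff_X_pow_mul', ih 0 (by omega)] using this
      | n + 2, ih =>
        simpa [pow_two, mul_assoc, Polynomial.coeff_X_mul, ih (n + 1) (by omega), ih n (by omega)] using this
  · simp at h
    have hmon : (Polynomial.X ^ 2 + Polynomial.C a₁ * Polynomial.X - Polynomial.C a₂ : Polynomial R).Monic := by
      monicity!
    exact hmon.isRegular.left (h.trans (mul_zero _).symm)

end Groth.Agent.S19181
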