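import Groth.Statements.S19182
import Mathlib
-- import your own Groth.Agent.* helpers here

set_option autoImplicit false
universe u
open CAlg

namespace Groth.Agent.S19182

open MvPolynomial in
theorem chart2 {R : Type u} [CommRing R] (a₁ a₂ : R) :
    Algebra.Smooth R (MvPolynomial (Fin 2) R ⧸
      Ideal.span ({X 1 ^ 2 + C a₁ * X 1 - X 0 - C a₂} : Set (MvPolynomial (Fin 2) R))) := by
  let g : MvPolynomial (Fin 2) R := X 1 ^ 2 + C a₁ * X 1 - X 0 - C a₂
  let f : MvPolynomial (Fin 2) R →ₐ[R] Polynomial R := aeval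
    ![Polynomial.X ^ 2 + Polynomial.C a₁ * Polynomial.X - Polynomial.C a₂, Polynomial.X]
  have hf : ∀ a ∈ Ideal.span ({g} : Set _), f a = 0 := by
    intro a ha
    obtain ⟨c, rfl⟩ := Ideal.mem_span_singleton'.1 ha
    simp [f, g]
  let φ := Ideal.Quotient.liftₐ (Ideal.span ({g} : Set _)) f hf
  let ψ : Polynomial R →ₐ[R] MvPolynomial (Fin 2) R ⧸ Ideal.span ({g} : Set _) :=
    Polynomial.aeval (Ideal.Quotient.mk _ (X 1))
  have e1 : φ.comp ψ = AlgHom.id R _ := by
    apply Polynomial.algHom_ext
    show φ (ψ Polynomial.X) = Polynomial.X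
    rw [show ψ Polynomial.X = Ideal.Quotient.mk _ (X 1) from Polynomial.aeval_X _]
    show f (X 1) = Polynomial.X
    simp [f]
  have e2 : ψ.comp φ = AlgHom.id R _ := by
    apply Ideal.Quotient.algHom_ext
    ext i
    fin_cases i
    · show ψ (f (X 0)) = Ideal.Quotient.mk _ (X 0)
      have : (Ideal.Quotient.mk (Ideal.span ({g} : Set _))) g = 0 :=
        Ideal.Quotient.eq_zero_iff_mem.2 (Ideal.mem_span_singleton_self g)
      simp only [g, map_sub, map_add, map_mul, map_pow] at this
      simp only [f, ψ, aeval_X, Matrix.cons_val_zero, map_sub, map_add, map_mul, map_pow,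
        Polynomial.aeval_X, Polynomial.aeval_C, ← Ideal.Quotient.mk_algebraMap, MvPolynomial.algebraMap_eq]
      linear_combination this
    · show ψ (f (X 1)) = Ideal.Quotient.mk _ (X 1)
      simp [f, ψ]
  haveI : Algebra.Smooth R (Polynomial R) :=
    { formallySmooth := inferInstance, finitePresentation := inferInstance }
  exact Algebra.Smooth.of_equiv (AlgEquiv.ofAlgHom φ ψ e1 e2).symm

open MvPolynomial in
theorem chart1 {R : Type u} [CommRing R] (a₁ a₂ : R) :
    Algebra.Smooth R (MvPolynomial (Fin 2) R ⧸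
      Ideal.span ({1 + C a₁ * X 1 - X 0 * X 1 ^ 3 - C a₂ * X 1 ^ 2} : Set (MvPolynomial (Fin 2) R))) := by
  let g : MvPolynomial (Fin 2) R := 1 + C a₁ * X 1 - X 0 * X 1 ^ 3 - C a₂ * X 1 ^ 2
  let L := Localization.Away (Polynomial.X : Polynomial R)
  let α : L := algebraMap (Polynomial R) L Polynomial.X
  let u : L := IsLocalization.Away.invSelf (Polynomial.X : Polynomial R)
  have hu : α * u = 1 := IsLocalization.Away.mul_invSelf _
  let f : MvPolynomial (Fin 2) R →ₐ[R] L := aeval
    ![(1 + algebraMap R L a₁ * α - algebraMap R L a₂ * α ^ 2) * u ^ 3, α]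
  have hf0 : f g = 0 := by
    have h3 : u ^ 3 * α ^ 3 = 1 := by rw [← mul_pow, mul_comm, hu, one_pow]
    simp only [f, g, map_sub, map_add, map_mul, map_pow, map_one, aeval_X, aeval_C,
      Matrix.cons_val_zero, Matrix.cons_val_one]
    linear_combination (-(1 + algebraMap R L a₁ * α - algebraMap R L a₂ * α ^ 2)) * h3
  have hf : ∀ a ∈ Ideal.span ({g} : Set _), f a = 0 := by
    intro a ha
    obtain ⟨c, rfl⟩ := Ideal.mem_span_singleton'.1 ha
    rw [map_mul, hf0, mul_zero]
  let Q := MvPolynomial (Fin 2) R ⧸ Ideal.span ({g} : Set _)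
  let φ : Q →ₐ[R] L := Ideal.Quotient.liftₐ _ f hf
  let m : MvPolynomial (Fin 2) R →ₐ[R] Q := Ideal.Quotient.mkₐ R _
  have hg : m g = 0 := Ideal.Quotient.eq_zero_iff_mem.2 (Ideal.mem_span_singleton_self g)
  have hg' : 1 + algebraMap R Q a₁ * m (X 1) - m (X 0) * m (X 1) ^ 3
      - algebraMap R Q a₂ * m (X 1) ^ 2 = 0 := by
    rw [← hg]
    simp only [g, map_sub, map_add, map_mul, map_pow, map_one]
    simp [← MvPolynomial.algebraMap_eq]
  let ψ₀ : Polynomial R →ₐ[R] Q := Polynomial.aeval (m (X 1))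
  have hunit : ∀ y : Submonoid.powers (Polynomial.X : Polynomial R), IsUnit (ψ₀ y) := by
    rintro ⟨_, n, rfl⟩
    simp only [map_pow]
    apply IsUnit.pow
    simp only [ψ₀, Polynomial.aeval_X]
    refine IsUnit.of_mul_eq_one
      (-algebraMap R Q a₁ + m (X 0) * m (X 1) ^ 2 + algebraMap R Q a₂ * m (X 1)) ?_
    linear_combination -hg'
  let ψ : L →ₐ[R] Q := IsLocalization.liftAlgHom (M := Submonoid.powers (Polynomial.X : Polynomial R)) hunit
  have hψα : ψ α = m (X 1) := by simp [ψ, α, ψ₀]
  have e1 : φ.comp ψ = AlgHom.id R L := by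
    apply IsLocalization.algHom_ext (Submonoid.powers (Polynomial.X : Polynomial R))
    ext
    show φ (ψ α) = α
    rw [hψα]
    show f (X 1) = α
    simp [f]
  have e2 : ψ.comp φ = AlgHom.id R Q := by
    apply Ideal.Quotient.algHom_ext
    ext i
    fin_cases i
    · show ψ (f (X 0)) = m (X 0)
      have h1 : ψ α * ψ u = 1 := by rw [← map_mul, hu, map_one]
      have h3 : ψ u ^ 3 * ψ α ^ 3 = 1 := by rw [← mul_pow, mul_comm, h1, one_pow]
      simp only [f, aeval_X, Matrix.cons_val_zero, map_mul, map_sub, map_add, map_one, map_pow,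
        AlgHom.commutes]
      rw [hψα] at h3 ⊢
      linear_combination (ψ u ^ 3) * hg' + m (X 0) * h3
    · show ψ (f (X 1)) = m (X 1)
      simp only [f, aeval_X, Matrix.cons_val_one, Matrix.cons_val_zero]
      exact hψα
  haveI : Algebra.Smooth R (Polynomial R) :=
    { formallySmooth := inferInstance, finitePresentation := inferInstance }
  haveI : Algebra.Smooth (Polynomial R) L := Algebra.Smooth.of_isLocalization_Away Polynomial.X
  haveI : Algebra.Smooth R L := Algebra.Smooth.comp R (Polynomial R) L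
  exact Algebra.Smooth.of_equiv (AlgEquiv.ofAlgHom φ ψ e1 e2).symm

open MvPolynomial in
/-- Let R be a commutative ring and a₁, a₂ ∈ R. The two affine charts of the blow-up of the plane curve
y² + a₁xy = x³ + a₂x² at the section x = y = 0, with coordinate rings R[y, α]/(1 + a₁α − yα³ − a₂α²)
and R[x, β]/(β² + a₁β − x − a₂) (variables indexed 0 and 1 in this order), are smooth R-algebras
(formally smooth of finite presentation). This is the local computation behind the statement that
the blow-up of a Weierstrass curve along a section through its singular locus is a smooth proper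
curve of genus 0. -/
theorem result (R : Type u) [CommRing R] (a₁ a₂ : R) :
    Algebra.Smooth R (MvPolynomial (Fin 2) R ⧸
      Ideal.span ({1 + C a₁ * X 1 - X 0 * X 1 ^ 3 - C a₂ * X 1 ^ 2} : Set (MvPolynomial (Fin 2) R))) ∧
    Algebra.Smooth R (MvPolynomial (Fin 2) R ⧸
      Ideal.span ({X 1 ^ 2 + C a₁ * X 1 - X 0 - C a₂} : Set (MvPolynomial (Fin 2) R))) := by
  exact ⟨chart1 a₁ a₂, chart2 a₁ a₂⟩

end Groth.Agent.S19182
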