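import Groth.Statements.S19221
import Mathlib.LinearAlgebra.ExteriorPower.Basic
import Mathlib.LinearAlgebra.Matrix.Determinant.Basic
import Mathlib.LinearAlgebra.ExteriorAlgebra.OfAlternating
import Mathlib.GroupTheory.Perm.Basic

set_option autoImplicit false
universe u
open SymRep

namespace Groth.Agent.S19221

/-- The integral cycle vectors. -/
def zI (c : Fin 2) (i j l : Fin 4) (c' : Fin 2) (a b : Fin 4) : ℤ :=
  if c' = c then
    ((if a = i ∧ b = j then 1 else 0) + (if a = j ∧ b = l then 1 else 0) + (if a = l ∧ b = i then 1 else 0)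
      - (if a = j ∧ b = i then 1 else 0) - (if a = l ∧ b = j then 1 else 0) - (if a = i ∧ b = l then 1 else 0))
  else 0

/-- The four factors. -/
def gen : Fin 4 → Fin 2 × Fin 4 × Fin 4 × Fin 4 := ![(0, 0, 1, 2), (1, 0, 1, 2), (0, 0, 2, 3), (1, 0, 2, 3)]

/-- The four test coordinates. -/
def crd : Fin 4 → Fin 2 × Fin 4 × Fin 4 := ![(0, 0, 1), (1, 0, 1), (0, 2, 3), (1, 2, 3)]

/-- The test minor of a permuted product. -/
def minor (σ : Equiv.Perm (Fin 4)) : Matrix (Fin 4) (Fin 4) ℤ := fun r s =>
  zI (gen r).1 (gen r).2.1 (gen r).2.2.1 (gen r).2.2.2 (crd s).1 (σ.symm (crd s).2.1) (σ.symm (crd s).2.2)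

theorem sum_minor_ne_zero : (∑ σ : Equiv.Perm (Fin 4), (minor σ).det) ≠ 0 := by decide +kernel

/-- Let k be a field of characteristic zero and F the k-space of functions Fin 2 → Fin 4 → Fin 4 → k,
with the symmetric group of Fin 4 acting through P σ f c a b = f c (σ⁻¹ a) (σ⁻¹ b). The signed edge
vectors of the complete graph on four vertices live in F as the functions antisymmetric in the two
vertex arguments, and for a colour c and an oriented 3-cycle i → j → l → i the cycle vector z c i j
l is the function equal, in colour c, to +1 at (i,j), (j,l), (l,i), to −1 at (j,i), (l,j), (i,l) and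
to 0 elsewhere (and 0 in the other colour); these cycle vectors span k² ⊗ (cycle space), the
representation written C² ⊗ q in the published text. Let Γ be the graph with edges 01, 02, 03, 12,
23 (a 4-cycle with one chord), whose cycle space is spanned by the cycles (0,1,2) and (0,2,3), and
let ω be the product in the exterior algebra of F of the four vectors z 0 0 1 2, z 1 0 1 2, z 0 0 2
3, z 1 0 2 3 (a generator of the top exterior power of k² ⊗ q_Γ). Then ω is fixed by the stabiliser
of Γ in the symmetric group (generated by the transpositions (0 2) and (1 3)), and the sum over all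
24 permutations σ of the images of ω under the maps induced by P σ is nonzero: the projection of ω
to the invariants of the fourth exterior power of k² ⊗ q_{K₄} does not vanish. (The published
statement is over the complex numbers; a field of characteristic zero is used here. The published
statement also asserts that this map is an isomorphism onto the one-dimensional space of
S₄-invariants of the fourth exterior power of k² ⊗ q_{K₄}; only its non-vanishing is stated here.) -/
theorem result (k : Type u) [Field k] [CharZero k]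
    (P : Equiv.Perm (Fin 4) → ((Fin 2 → Fin 4 → Fin 4 → k) →ₗ[k] (Fin 2 → Fin 4 → Fin 4 → k)))
    (hP : ∀ (σ : Equiv.Perm (Fin 4)) (f : Fin 2 → Fin 4 → Fin 4 → k) (c : Fin 2) (a b : Fin 4),
      P σ f c a b = f c (σ.symm a) (σ.symm b))
    (z : Fin 2 → Fin 4 → Fin 4 → Fin 4 → (Fin 2 → Fin 4 → Fin 4 → k))
    (hz : ∀ (c : Fin 2) (i j l : Fin 4) (c' : Fin 2) (a b : Fin 4), z c i j l c' a b =
      if c' = c then
        ((if a = i ∧ b = j then 1 else 0) + (if a = j ∧ b = l then 1 else 0) + (if a = l ∧ b = i then 1 else 0)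
          - (if a = j ∧ b = i then 1 else 0) - (if a = l ∧ b = j then 1 else 0) - (if a = i ∧ b = l then 1 else 0))
      else 0)
    (ω : ExteriorAlgebra k (Fin 2 → Fin 4 → Fin 4 → k))
    (hω : ω = ExteriorAlgebra.ι k (z 0 0 1 2) * ExteriorAlgebra.ι k (z 1 0 1 2) *
      ExteriorAlgebra.ι k (z 0 0 2 3) * ExteriorAlgebra.ι k (z 1 0 2 3)) :
    ExteriorAlgebra.map (P (Equiv.swap 0 2)) ω = ω ∧
    ExteriorAlgebra.map (P (Equiv.swap 1 3)) ω = ω ∧
    (∑ σ : Equiv.Perm (Fin 4), ExteriorAlgebra.map (P σ) ω) ≠ 0 := by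
  classical
  let v : Fin 4 → (Fin 2 → Fin 4 → Fin 4 → k) := fun r => z (gen r).1 (gen r).2.1 (gen r).2.2.1 (gen r).2.2.2
  have hωv : ω = ExteriorAlgebra.ιMulti k 4 v := by
    rw [hω, ExteriorAlgebra.ιMulti_apply]
    simp [v, gen, List.ofFn_succ, mul_assoc]
  have hzval : ∀ c i j l c' a b, z c i j l c' a b = (zI c i j l c' a b : k) := fun c i j l c' a b => by
    rw [hz, zI]
    push_cast
    rfl
  have hperm : ∀ (σ : Equiv.Perm (Fin 4)) c i j l, P σ (z c i j l) = z c (σ i) (σ j) (σ l) := by
    intro σ c i j l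
    funext c' a b
    rw [hP, hz, hz]
    simp only [Equiv.symm_apply_eq]
  have hrev : ∀ c i j l, z c l j i = - z c i j l := by
    intro c i j l
    funext c' a b
    rw [Pi.neg_apply, Pi.neg_apply, Pi.neg_apply, hz, hz]
    by_cases h : c' = c
    · simp only [h, if_true, and_comm]
      abel
    · simp [h]
  have hrot : ∀ c i j l, z c j l i = z c i j l := by
    intro c i j l
    funext c' a b
    rw [hz, hz]
    by_cases h : c' = c
    · simp only [h, if_true]
      abel
    · simp [h]
  have hanti : ∀ x y, ExteriorAlgebra.ι k x * ExteriorAlgebra.ι k y =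
      -(ExteriorAlgebra.ι k y * ExteriorAlgebra.ι k (x : Fin 2 → Fin 4 → Fin 4 → k)) :=
    fun x y => eq_neg_of_add_eq_zero_left (ExteriorAlgebra.ι_add_mul_swap x y)
  refine ⟨?_, ?_, ?_⟩
  · rw [hω]
    simp only [map_mul, ExteriorAlgebra.map_apply_ι, hperm]
    rw [show (Equiv.swap (0 : Fin 4) 2) 0 = 2 from rfl, show (Equiv.swap (0 : Fin 4) 2) 1 = 1 from rfl,
      show (Equiv.swap (0 : Fin 4) 2) 2 = 0 from rfl, show (Equiv.swap (0 : Fin 4) 2) 3 = 3 from rfl]
    have h2 : ∀ c, z c 2 0 3 = - z c 0 2 3 := fun c => by rw [hrot c 3 2 0, hrev c 0 2 3]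
    simp only [hrev _ 0 1 2, h2, map_neg, neg_mul, mul_neg, neg_neg]
  · rw [hω]
    simp only [map_mul, ExteriorAlgebra.map_apply_ι, hperm]
    rw [show (Equiv.swap (1 : Fin 4) 3) 0 = 0 from rfl, show (Equiv.swap (1 : Fin 4) 3) 1 = 3 from rfl,
      show (Equiv.swap (1 : Fin 4) 3) 2 = 2 from rfl, show (Equiv.swap (1 : Fin 4) 3) 3 = 1 from rfl]
    have h1 : ∀ c, z c 0 3 2 = - z c 0 2 3 := fun c => by rw [hrot c 2 0 3, hrot c 3 2 0, hrev c 0 2 3]
    have h2 : ∀ c, z c 0 2 1 = - z c 0 1 2 := fun c => by rw [hrot c 1 0 2, hrot c 2 1 0, hrev c 0 1 2]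
    simp only [h1, h2, map_neg, neg_mul, mul_neg, neg_neg]
    set A := ExteriorAlgebra.ι k (z 0 0 1 2)
    set B := ExteriorAlgebra.ι k (z 1 0 1 2)
    set C := ExteriorAlgebra.ι k (z 0 0 2 3)
    set D := ExteriorAlgebra.ι k (z 1 0 2 3)
    have e1 : D * A = -(A * D) := hanti _ _
    have e2 : C * A = -(A * C) := hanti _ _
    have e3 : D * B = -(B * D) := hanti _ _
    have e4 : C * B = -(B * C) := hanti _ _
    calc C * D * A * B = C * (D * A) * B := by simp only [mul_assoc]
      _ = -((C * A) * (D * B)) := by rw [e1]; simp only [mul_neg, neg_mul, mul_assoc]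
      _ = -((A * C) * (B * D)) := by rw [e2, e3]; simp only [neg_mul, mul_neg, neg_neg]
      _ = -(A * (C * B) * D) := by simp only [mul_assoc]
      _ = A * B * C * D := by rw [e4]; simp only [mul_neg, neg_mul, neg_neg, mul_assoc]
  · let pr : (Fin 2 → Fin 4 → Fin 4 → k) →ₗ[k] (Fin 4 → k) :=
      LinearMap.pi fun s => LinearMap.proj (crd s).2.2 ∘ₗ LinearMap.proj (crd s).2.1 ∘ₗ LinearMap.proj (crd s).1
    let f : (i : ℕ) → (Fin 2 → Fin 4 → Fin 4 → k) [⋀^Fin i]→ₗ[k] k :=
      Pi.single 4 ((Matrix.detRowAlternating : (Fin 4 → k) [⋀^Fin 4]→ₗ[k] k).compLinearMap pr)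
    intro h0
    have h := congrArg (ExteriorAlgebra.liftAlternating f) h0
    rw [map_sum, map_zero] at h
    refine sum_minor_ne_zero ?_
    apply Int.cast_injective (α := k)
    rw [Int.cast_zero, Int.cast_sum, ← h]
    refine Finset.sum_congr rfl fun σ _ => ?_
    rw [hωv, ExteriorAlgebra.map_apply_ιMulti, ExteriorAlgebra.liftAlternating_apply_ιMulti, Int.cast_det]
    simp only [f, Pi.single_eq_same]
    refine congrArg Matrix.det ?_
    funext r s
    show (minor σ r s : k) = P σ (v r) (crd s).1 (crd s).2.1 (crd s).2.2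
    rw [hP]
    exact (hzval _ _ _ _ _ _ _).symm

end Groth.Agent.S19221
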