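import Groth.Statements.S19223
import Groth.Agent.S7725
import Mathlib.RepresentationTheory.Homological.GroupCohomology.LongExactSequence
import Mathlib.RingTheory.Henselian

set_option autoImplicit false
attribute [local instance] Units.mulDistribMulActionRight
open GalCoh

namespace Groth.Agent.S19223

open CategoryTheory CategoryTheory.Limits

theorem exact_elements {k : Type} [CommRing k] {G : Type} [Group G] {X : ShortComplex (Rep.{0} k G)} (h : X.Exact) :
    (∀ a, X.g.hom (X.f.hom a) = 0) ∧ ∀ y, X.g.hom y = 0 → ∃ a, X.f.hom a = y := by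
  have hr : LinearMap.range X.f.hom.toLinearMap = LinearMap.ker X.g.hom.toLinearMap :=
    (h.map (forget₂ (Rep k G) (ModuleCat k))).moduleCat_range_eq_ker
  exact ⟨fun a => hr.le ⟨a, rfl⟩, fun y hy => hr.ge hy⟩

theorem map_nsmul' {k : Type} [CommRing k] {G : Type} [Group G] {A B : Rep.{0} k G} (f : A ⟶ B) (j : ℕ) (a : A) :
    f.hom (j • a) = j • f.hom a :=
  map_nsmul f.hom.toLinearMap j a

theorem root_unique {R : Type} [CommRing R] [IsLocalRing R] {N : ℕ} (hN : IsUnit (N : R)) {c : R}
    (hc : IsLocalRing.residue R c = 1) (h : c ^ N = 1) : c = 1 := by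
  have hs : IsUnit (∑ i ∈ Finset.range N, c ^ i) := by
    rw [← IsLocalRing.residue_ne_zero_iff_isUnit, map_sum]
    simp only [map_pow, hc, one_pow, Finset.sum_const, Finset.card_range, nsmul_one]
    rw [← map_natCast (IsLocalRing.residue R), IsLocalRing.residue_ne_zero_iff_isUnit]
    exact hN
  have h0 := geom_sum_mul c N
  rw [h, sub_self] at h0
  exact sub_eq_zero.1 ((hs.mul_right_eq_zero).1 h0)

theorem root_exists {R : Type} [CommRing R] [HenselianLocalRing R] {N : ℕ} (hN0 : N ≠ 0) (hN : IsUnit (N : R))
    {u : R} (hu : IsLocalRing.residue R u = 1) : ∃ a : R, a ^ N = u ∧ IsLocalRing.residue R a = 1 := by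
  obtain ⟨a, ha, ha'⟩ := HenselianLocalRing.is_henselian (Polynomial.X ^ N - Polynomial.C u)
    (Polynomial.monic_X_pow_sub_C u hN0) 1 (by
      rw [← IsLocalRing.residue_eq_zero_iff]
      simp [hu]) (by
      simpa [Polynomial.derivative_X_pow] using hN)
  refine ⟨a, sub_eq_zero.1 (by simpa using ha), ?_⟩
  rw [← sub_eq_zero, ← map_one (IsLocalRing.residue R), ← map_sub, IsLocalRing.residue_eq_zero_iff]
  exact ha'

/-- For a strictly henselian local ring R whose residue field k has characteristic p ≥ 0, and a finite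
group G of order prime to p acting on R by ring automorphisms (hence on the unit groups R^× and
k^×), consider the homomorphism H^n(G, R^×) → H^n(G, k^×) induced by the reduction map. It is
bijective for every n ≥ 2; it is also bijective for n = 1 provided that p = 0 or the only p-power
root of unity in R is 1. (The reduction map on cohomology is pinned by its values on units; groups,
rings and modules are taken in the lowest universe, as integral coefficients in the group-cohomology
library require.) -/
theorem result (R : Type) [CommRing R]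
    [HenselianLocalRing R] [IsSepClosed (IsLocalRing.ResidueField R)] (p : ℕ) [CharP (IsLocalRing.ResidueField R) p]
    (G : Type) [Group G] [Finite G] [MulSemiringAction G R] (hp : ¬ p ∣ Nat.card G)
    (φ : Rep.ofMulDistribMulAction G Rˣ ⟶ Rep.ofMulDistribMulAction G (IsLocalRing.ResidueField R)ˣ)
    (hφ : ∀ x : Rˣ, Additive.toMul (φ.hom (Additive.ofMul x)) = Units.map (IsLocalRing.residue R).toMonoidHom x)
    (n : ℕ) (hn : 1 ≤ n) (h1 : n = 1 → p ≠ 0 → ∀ (ζ : Rˣ) (m : ℕ), ζ ^ p ^ m = 1 → ζ = 1) :
    Function.Bijective ((groupCohomology.functor ℤ G n).map φ).hom := by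
  classical
  let S : ShortComplex (Rep.{0} ℤ G) := ShortComplex.mk (kernel.ι φ) φ (kernel.condition φ)
  have hφ' : ∀ y, φ.hom y = Additive.ofMul (Units.map (IsLocalRing.residue R).toMonoidHom (Additive.toMul y)) :=
    fun y => congrArg Additive.ofMul (hφ (Additive.toMul y))
  haveI : Epi φ := (Rep.epi_iff_surjective φ).2 fun z => by
    obtain ⟨x, hx⟩ := IsLocalRing.residue_surjective (R := R) (Units.val (Additive.toMul z : (IsLocalRing.ResidueField R)ˣ))
    have hx' : IsUnit x := by
      rw [← IsLocalRing.residue_ne_zero_iff_isUnit, hx]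
      exact Units.ne_zero _
    refine ⟨Additive.ofMul hx'.unit, (hφ' _).trans ?_⟩
    exact congrArg Additive.ofMul (Units.ext hx)
  have hS : S.ShortExact :=
    { exact := ShortComplex.exact_of_f_is_kernel _ (kernelIsKernel φ) }
  have hinj := (Rep.mono_iff_injective S.f).1 hS.mono_f
  obtain ⟨hcomp, hker0⟩ := exact_elements hS.exact
  have hN0 : Nat.card G ≠ 0 := Nat.card_pos.ne'
  have hN : IsUnit (Nat.card G : R) := by
    rw [← IsLocalRing.residue_ne_zero_iff_isUnit, map_natCast]
    exact fun h => hp ((CharP.cast_eq_zero_iff (IsLocalRing.ResidueField R) p _).1 h)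
  let v : S.X₁ → Rˣ := fun a => Additive.toMul (α := Rˣ) (S.f.hom a)
  have hv : ∀ (a : S.X₁) (j : ℕ), v (j • a) = v a ^ j := fun a j =>
    congrArg (Additive.toMul (α := Rˣ)) (map_nsmul' S.f j a)
  have hvinj : Function.Injective v := fun a b h => hinj (Additive.toMul.injective h)
  have hone : ∀ a : S.X₁, IsLocalRing.residue R (v a : R) = 1 := fun a => by
    have h : φ.hom (S.f.hom a) = 0 := hcomp a
    rw [hφ'] at h
    exact congrArg Units.val (congrArg (Additive.toMul (α := (IsLocalRing.ResidueField R)ˣ)) h)
  have hdiv : Function.Bijective fun a : S.X₁ => Nat.card G • a := by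
    refine ⟨fun a b hab => hvinj ?_, fun z => ?_⟩
    · have h : v a ^ Nat.card G = v b ^ Nat.card G := by rw [← hv, ← hv]; exact congrArg v hab
      refine div_eq_one.1 (Units.ext ?_)
      refine root_unique hN ?_ ?_
      · rw [div_eq_mul_inv, Units.val_mul, map_mul, hone, one_mul, map_units_inv, hone, inv_one]
      · rw [← Units.val_pow_eq_pow_val, div_pow, div_eq_one.2 h, Units.val_one]
    · obtain ⟨a, ha, ha1⟩ := root_exists (N := Nat.card G) hN0 hN (hone z)
      have hau : IsUnit a := by
        rw [← IsLocalRing.residue_ne_zero_iff_isUnit, ha1]; exact one_ne_zero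
      obtain ⟨w, hw⟩ := hker0 (Additive.ofMul hau.unit) ((hφ' _).trans (congrArg Additive.ofMul (Units.ext ha1)))
      refine ⟨w, hvinj (Units.ext ?_)⟩
      rw [hv, Units.val_pow_eq_pow_val, show v w = hau.unit from congrArg (Additive.toMul (α := Rˣ)) hw]
      exact ha
  have hzero : ∀ i, 0 < i → IsZero (groupCohomology S.X₁ i) := fun i hi =>
    haveI := S7725.result ℤ G S.X₁ hdiv i hi
    ModuleCat.isZero_of_subsingleton _
  obtain ⟨m, rfl⟩ : ∃ m, n = m + 1 := ⟨n - 1, by omega⟩
  have h2 := groupCohomology.mapShortComplex₂_exact hS (m + 1)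
  have hm : Mono ((groupCohomology.functor ℤ G (m + 1)).map φ) :=
    h2.mono_g ((hzero _ (by omega)).eq_of_src _ _)
  have h3 := groupCohomology.mapShortComplex₃_exact hS (i := m + 1) (j := m + 2) rfl
  have he : Epi ((groupCohomology.functor ℤ G (m + 1)).map φ) :=
    h3.epi_f ((hzero _ (by omega)).eq_of_tgt _ _)
  exact ⟨(ModuleCat.mono_iff_injective _).1 hm, (ModuleCat.epi_iff_surjective _).1 he⟩

end Groth.Agent.S19223
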