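import Groth.Statements.S19240
import Groth.Agent.H44Univ.Descend
import Groth.Agent.HTopAwn.Scheme

set_option autoImplicit false
universe u
open FrobSch
set_option linter.style.haveILetI false

namespace Groth.Agent.S19240

open CategoryTheory CategoryTheory.Limits AlgebraicGeometry in
/-- Let k be a perfect field of characteristic p > 0 and let u : X ⟶ Y be a k-morphism between integral
k-schemes (separated, of finite type and quasi-projective over k) which is a universal
homeomorphism, and assume Y is normal. Then the degree of the function field of X over that of Y is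
p ^ n for some natural number n, and for this n there is a universal homeomorphism v : Y ⟶ X^{(n)},
where X^{(n)} is the base change of X along the n-th power of the Frobenius of Spec k, such that v
is a k-morphism, u followed by v is the n-th relative Frobenius of X over k (its composite with the
projection X^{(n)} ⟶ X is the n-th power of the absolute Frobenius of X) and v followed by the base
change of u is the n-th relative Frobenius of Y over k (the composite of v with the projection to X
and with u is the n-th power of the absolute Frobenius of Y). -/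
theorem result
    (p : ℕ) [Fact p.Prime] (k : Type u) [Field k] [CharP k p] [PerfectField k]
    {X Y : Scheme.{u}} (fX : X ⟶ Spec (CommRingCat.of k)) (fY : Y ⟶ Spec (CommRingCat.of k))
    [IsIntegral X] [IsIntegral Y] [FrobSch.IsCharP X p] [FrobSch.IsCharP Y p]
    [IsSeparated fX] [IsSeparated fY] [LocallyOfFiniteType fX] [LocallyOfFiniteType fY]
    (hqX : ∃ (N : ℕ) (i : X ⟶ CohB1.ProjSpace N k), IsImmersion i ∧ i ≫ CohB1.ProjSpace.toSpec N k = fX)
    (hqY : ∃ (N : ℕ) (i : Y ⟶ CohB1.ProjSpace N k), IsImmersion i ∧ i ≫ CohB1.ProjSpace.toSpec N k = fY)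
    (hY : Pi1.IsNormalScheme Y)
    (u : X ⟶ Y) (hu : u ≫ fY = fX) (huniv : FlatMor.IsUnivHomeo u)
    (e : u (genericPoint X) = genericPoint Y) :
    ∃ n : ℕ,
      @Module.finrank Y.functionField X.functionField _ _
          (Y.presheaf.stalkSpecializes (specializes_of_eq e) ≫ u.stalkMap (genericPoint X)).hom.toAlgebra.toModule = p ^ n ∧
      ∃ v : Y ⟶ pullback fX ((fun g : Spec (CommRingCat.of k) ⟶ Spec (CommRingCat.of k) => g ≫ FrobSch.frob (Spec (CommRingCat.of k)) p)^[n] (𝟙 (Spec (CommRingCat.of k)))),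
        FlatMor.IsUnivHomeo v ∧
        v ≫ pullback.snd fX ((fun g : Spec (CommRingCat.of k) ⟶ Spec (CommRingCat.of k) => g ≫ FrobSch.frob (Spec (CommRingCat.of k)) p)^[n] (𝟙 (Spec (CommRingCat.of k)))) = fY ∧
        u ≫ v ≫ pullback.fst fX ((fun g : Spec (CommRingCat.of k) ⟶ Spec (CommRingCat.of k) => g ≫ FrobSch.frob (Spec (CommRingCat.of k)) p)^[n] (𝟙 (Spec (CommRingCat.of k)))) =
          (fun g : X ⟶ X => g ≫ FrobSch.frob X p)^[n] (𝟙 X) ∧
        v ≫ pullback.fst fX ((fun g : Spec (CommRingCat.of k) ⟶ Spec (CommRingCat.of k) => g ≫ FrobSch.frob (Spec (CommRingCat.of k)) p)^[n] (𝟙 (Spec (CommRingCat.of k)))) ≫ u =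
          (fun g : Y ⟶ Y => g ≫ FrobSch.frob Y p)^[n] (𝟙 Y) := by
  haveI : IsFinite u := by
    haveI : LocallyOfFiniteType (u ≫ fY) := by rw [hu]; infer_instance
    haveI := locallyOfFiniteType_of_comp u fY
    exact (IsFinite.iff_isIntegralHom_and_locallyOfFiniteType _).2
      ⟨MorLib.isIntegralHom_of_isUnivHomeo huniv, inferInstance⟩
  letI := (H44Univ.ffMap u e).toAlgebra
  haveI : IsPurelyInseparable Y.functionField X.functionField :=
    H44Univ.isPurelyInseparable_ffMap p u e (MorLib.universallyInjective_of_isUnivHomeo huniv)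
  haveI : FiniteDimensional Y.functionField X.functionField := H44Univ.finiteDimensional_ffMap u e
  haveI : CharP Y.functionField p := (CharP.charP_iff_prime_eq_zero Fact.out).2 (by
    rw [← map_natCast (Y.presheaf.germ ⊤ (genericPoint Y) trivial).hom, FrobSch.IsCharP.natCast_eq_zero,
      map_zero])
  haveI : ExpChar Y.functionField p := ExpChar.prime Fact.out
  obtain ⟨n, hn⟩ := IsPurelyInseparable.finrank_eq_pow (F := Y.functionField) (E := X.functionField) p
  refine ⟨n, hn, ?_⟩
  have hpow : ∀ z : X.functionField, z ^ p ^ n ∈ (H44Univ.ffMap u e).range :=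
    H44Univ.pow_mem_of_finrank p n hn
  haveI : X.IsSeparated := by
    rw [Scheme.isSeparated_iff, show terminal.from X = fX ≫ terminal.from _ from terminal.hom_ext _ _]
    infer_instance
  haveI : Y.IsSeparated := by
    rw [Scheme.isSeparated_iff, show terminal.from Y = fY ≫ terminal.from _ from terminal.hom_ext _ _]
    infer_instance
  have hcov : ∀ y : Y, ∃ V : Y.Opens, IsAffineOpen V ∧ y ∈ V ∧ genericPoint Y ∈ V := fun y => by
    obtain ⟨V, hV, hy, -⟩ := exists_isAffineOpen_mem_and_subset (x := y) (U := ⊤) trivial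
    exact ⟨V, hV, hy, (genericPoint_spec Y).mem_open_set_iff V.isOpen |>.mpr ⟨y, trivial, hy⟩⟩
  choose V hVa hyV hηV using hcov
  choose w hw using fun y => H44Univ.exists_descend_affine p u e hY n hpow (hVa y) (hηV y)
  have key : ∀ (y : Y) {T : Scheme.{u}} (a : T ⟶ X) (b : T ⟶ (V y : Scheme.{u})), a ≫ u = b ≫ (V y).ι →
      b ≫ w y = a ≫ H44Univ.Fr p n X := by
    intro y T a b hab
    obtain ⟨a', ha1, ha2⟩ := (isPullback_morphismRestrict u (V y)).exists_lift b a (by simpa using hab.symm)
    rw [← ha1, Category.assoc, hw, ← Category.assoc, ha2]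
  let 𝒰 : Y.OpenCover := Y.openCoverOfIsOpenCover V (TopologicalSpace.IsOpenCover.mk
    (top_le_iff.1 fun y _ => TopologicalSpace.Opens.mem_iSup.2 ⟨y, hyV y⟩))
  have hcompat : ∀ i j, pullback.fst (𝒰.f i) (𝒰.f j) ≫ w i = pullback.snd (𝒰.f i) (𝒰.f j) ≫ w j := by
    intro i j
    have hbc : FlatMor.IsUnivHomeo (pullback.fst (pullback.fst (𝒰.f i) (𝒰.f j) ≫ 𝒰.f i) u) :=
      HTopAwn.isUnivHomeo_of_isPullback (IsPullback.of_hasPullback _ _) huniv
    haveI := MorLib.surjective_of_isUnivHomeo hbc
    haveI : IsReduced (pullback (𝒰.f i) (𝒰.f j)) :=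
      isReduced_of_isOpenImmersion (pullback.fst (𝒰.f i) (𝒰.f j) ≫ 𝒰.f i)
    refine ext_of_isDominant (pullback.fst (pullback.fst (𝒰.f i) (𝒰.f j) ≫ 𝒰.f i) u) ?_
    refine (Category.assoc _ _ _).symm.trans ((key i (pullback.snd (pullback.fst (𝒰.f i) (𝒰.f j) ≫ 𝒰.f i) u) _
      (pullback.condition.symm.trans (Category.assoc _ _ _).symm)).trans ((key j _ _ ?_).symm.trans
      (Category.assoc _ _ _)))
    refine pullback.condition.symm.trans ?_
    rw [pullback.condition (f := 𝒰.f i) (g := 𝒰.f j)]
    exact (Category.assoc _ _ _).symm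
  let v' : Y ⟶ X := 𝒰.glueMorphisms w hcompat
  have hv' : u ≫ v' = H44Univ.Fr p n X := by
    refine Scheme.Cover.hom_ext (𝒰.pullback₁ u) _ _ fun i => ?_
    show pullback.fst u (𝒰.f i) ≫ u ≫ v' = pullback.fst u (𝒰.f i) ≫ _
    rw [pullback.condition_assoc, show 𝒰.f i ≫ v' = w i from Scheme.Cover.ι_glueMorphisms 𝒰 w hcompat i]
    exact key i _ _ pullback.condition
  haveI := MorLib.surjective_of_isUnivHomeo huniv
  have h1 : v' ≫ fX = fY ≫ H44Univ.Fr p n (Spec (CommRingCat.of k)) := by
    refine ext_of_isDominant u ?_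
    rw [← Category.assoc, hv', H44Univ.Fr_comp, ← Category.assoc, hu]
  have h2 : v' ≫ u = H44Univ.Fr p n Y := by
    refine ext_of_isDominant u ?_
    rw [← Category.assoc, hv', H44Univ.Fr_comp]
  refine ⟨pullback.lift v' fY h1, ?_, pullback.lift_snd _ _ _, ?_, ?_⟩
  · have hfst : FlatMor.IsUnivHomeo (pullback.fst fX (H44Univ.Fr p n (Spec (CommRingCat.of k)))) :=
      HTopAwn.isUnivHomeo_of_isPullback (IsPullback.of_hasPullback _ _) (H44Univ.isUnivHomeo_Fr p n _)
    refine MorLib.isUnivHomeo_two_out_of_three_right u _ ?_ huniv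
    refine MorLib.isUnivHomeo_two_out_of_three_left _ _ ?_ hfst
    rw [Category.assoc, pullback.lift_fst, hv']
    exact H44Univ.isUnivHomeo_Fr p n X
  · rw [pullback.lift_fst]; exact hv'
  · rw [pullback.lift_fst_assoc]; exact h2

end Groth.Agent.S19240
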