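import Groth.Prelude.Def_EtBase
import Groth.Agent.EtSupp70.Devissage
import Groth.Agent.BrauerXPoint.Torsion
import Groth.Agent.GalEt.Multiplication
import Mathlib.Topology.KrullDimension
import Mathlib.CategoryTheory.Adjunction.Additive

set_option autoImplicit false
universe u
open CategoryTheory CategoryTheory.Limits AlgebraicGeometry Opposite

namespace Groth.Agent.S19255

set_option backward.isDefEq.respectTransparency.types false

/-- multiplication by positive integers is invertible -/
def IsDiv {X : Scheme.{u}} (F : EtCoh.Ab X) : Prop := ∀ m : ℕ, 0 < m → IsIso (m • 𝟙 F)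

variable {X : Scheme.{u}}

theorem isDiv_of_iso {A B : EtCoh.Ab X} (e : A ≅ B) (h : IsDiv A) : IsDiv B := fun m hm => by
  have := h m hm
  have he : e.inv ≫ (m • 𝟙 A) ≫ e.hom = m • 𝟙 B := by simp
  rw [← he]
  infer_instance

theorem isDiv_kernel {A B : EtCoh.Ab X} (f : A ⟶ B) (hA : IsDiv A) (hB : IsDiv B) : IsDiv (kernel f) := fun m hm => by
  have := hA m hm
  have := hB m hm
  let e := kernel.mapIso f f (asIso (m • 𝟙 A)) (asIso (m • 𝟙 B)) (by simp)
  have he : e.hom = m • 𝟙 (kernel f) := by
    rw [← cancel_mono (kernel.ι f)]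
    simp [e]
  rw [← he]
  infer_instance

theorem isDiv_cokernel {A B : EtCoh.Ab X} (f : A ⟶ B) (hA : IsDiv A) (hB : IsDiv B) : IsDiv (cokernel f) := fun m hm => by
  have := hA m hm
  have := hB m hm
  let e := cokernel.mapIso f f (asIso (m • 𝟙 A)) (asIso (m • 𝟙 B)) (by simp)
  have he : e.hom = m • 𝟙 (cokernel f) := by
    rw [← cancel_epi (cokernel.π f)]
    simp [e]
  rw [← he]
  infer_instance

theorem isDiv_map {Y : Scheme.{u}} (G : EtCoh.Ab X ⥤ EtCoh.Ab Y) [G.Additive] {A : EtCoh.Ab X} (hA : IsDiv A) :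
    IsDiv (G.obj A) := fun m hm => by
  have := hA m hm
  have he : G.map (m • 𝟙 A) = m • 𝟙 (G.obj A) := by rw [Functor.map_nsmul, G.map_id]
  rw [← he]
  infer_instance

/-- Let X be a Noetherian scheme of Krull dimension at most d and F an abelian sheaf on the small etale
site of X which is a sheaf of ℚ-vector spaces, i.e. multiplication by every positive integer is
bijective on the sections of F over every etale X-scheme. Then Hⁱ(X_et, F) = 0 for every i > d. -/
theorem result (X : Scheme.{u}) [IsNoetherian X] (d : ℕ)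
    (hd : topologicalKrullDim ↥X ≤ d) (F : EtCoh.Ab X)
    (hF : ∀ (U : X.Etale) (m : ℕ), 0 < m → Function.Bijective (fun s : EtCoh.sect F U => m • s))
    (i : ℕ) (hi : d < i) : Subsingleton (EtCoh.H X F i) := by
  haveI hadd : ∀ {Y Z : Scheme.{u}} (f : Y ⟶ Z), (EtCoh.push f).Additive := fun f =>
    haveI : (EtCoh.push f).IsRightAdjoint := (EtCoh.pullPushAdj f).isRightAdjoint
    haveI := preservesBinaryBiproducts_of_preservesBinaryProducts (EtCoh.push f)
    Functor.additive_of_preservesBinaryBiproducts _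
  haveI hadd' : ∀ {Y Z : Scheme.{u}} (f : Y ⟶ Z), (EtCoh.pull f).Additive := fun f =>
    haveI : (EtCoh.pull f).IsLeftAdjoint := (EtCoh.pullPushAdj f).isLeftAdjoint
    haveI := preservesBinaryBiproducts_of_preservesBinaryCoproducts (EtCoh.pull f)
    Functor.additive_of_preservesBinaryBiproducts _
  have hdiv : IsDiv F := fun m hm => by
    have : ∀ U, IsIso ((m • 𝟙 F : F ⟶ F).hom.app U) := fun U => by
      rw [ConcreteCategory.isIso_iff_bijective]
      exact hF U.unop m hm
    have : IsIso (m • 𝟙 F : F ⟶ F).hom := NatIso.isIso_of_isIso_app _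
    have : IsIso ((sheafToPresheaf X.smallEtaleTopology AddCommGrpCat.{u + 1}).map (m • 𝟙 F : F ⟶ F)) := this
    exact isIso_of_reflects_iso (m • 𝟙 F : F ⟶ F) (sheafToPresheaf X.smallEtaleTopology AddCommGrpCat.{u + 1})
  have hP : EtSupp70.IsDevissageClass (IsDiv (X := X)) :=
    { iso := isDiv_of_iso
      ker := isDiv_kernel
      coker := isDiv_cokernel
      pp := fun x _ hA => isDiv_map _ (isDiv_map _ hA)
      sub := fun W _ hA => isDiv_kernel _ hA (isDiv_map _ (isDiv_map _ hA)) }
  let cl : X → TopologicalSpace.IrreducibleCloseds X := fun x =>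
    ⟨closure {x}, isIrreducible_singleton.closure, isClosed_closure⟩
  have hbd : ∀ x, Order.height (cl x) ≤ d := fun x =>
    WithBot.coe_le_coe.1 ((Order.height_le_krullDim (cl x)).trans hd)
  have hφ : ∀ {x y : X}, x ⤳ y → x ≠ y → (Order.height (cl y)).toNat < (Order.height (cl x)).toNat := by
    intro x y hxy hne
    have hlt : cl y < cl x := by
      refine lt_of_le_of_ne (specializes_iff_closure_subset.1 hxy) fun h => hne (hxy.antisymm ?_).eq
      exact specializes_iff_closure_subset.2 (congrArg SetLike.coe h).ge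
    have hfin := lt_of_le_of_lt (hbd y) (ENat.natCast_lt_top d)
    have h1 := Order.height_strictMono hlt hfin
    rw [← ENat.natCast_toNat hfin.ne, ← ENat.natCast_toNat (ne_top_of_le_ne_top (ENat.natCast_ne_top d) (hbd x))] at h1
    exact_mod_cast h1
  refine EtSupp70.subsingleton_H_of_dimFunction hP _ hφ (fun G x q hG hq => ?_) d F i hdiv
    (fun x _ => ENat.toNat_le_of_le_natCast (hbd x)) hi
  obtain ⟨n, rfl⟩ : ∃ n, q = n + 1 := ⟨q - 1, by omega⟩
  refine subsingleton_of_forall_eq 0 fun α => ?_
  obtain ⟨m, hm, hα⟩ := isOfFinAddOrder_iff_nsmul_eq_zero.1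
    (BrauerXPoint.isAddTorsion_H_push (k := X.residueField x) (X.fromSpecResidueField x) _ n α)
  exact GalEt.eq_zero_of_isIso_nsmul (hP.pp x hG m hm) hα

end Groth.Agent.S19255
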