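import Groth.Statements.S19273
import Mathlib
-- import your own Groth.Agent.* helpers here

set_option autoImplicit false
universe u
open CAlg

namespace Groth.Agent.S19273

open KaehlerDifferential in
/-- Let A be an integral domain of prime characteristic p, x_1, …, x_N elements of A, r ≤ N, B =
A[1/(x_1⋯x_r)] with u_i the unit of B defined by x_i for i ≤ r, and suppose that the module Ω_A of
absolute Kähler differentials of A is free with a basis b indexed by {1, …, N} ⊔ ι whose i-th vector
is d(x_i) for i ≤ N. Then the module of logarithmic 1-forms — the A-submodule of Ω_B spanned by the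
image of Ω_A and the forms u_i⁻¹ · d(x_i), i ≤ r — is a free A-module: it has a basis indexed by {1,
…, N} ⊔ ι whose vector at i ≤ r is u_i⁻¹ · d(x_i), at r < i ≤ N is d(x_i), and at k ∈ ι is the image
of b_k. (In the published statement A is a regular local F-finite algebra over the prime field with
maximal ideal (x_1, …, x_N), the basis of Ω_A comes from the preceding lemma, and the assertion
covers the logarithmic q-forms for all q together with their identification with the log de Rham
complex of the log ring; only the degree-one freeness is stated here, from the properties of A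
actually used.) -/
theorem result (p : ℕ) [Fact p.Prime]
    {A B : Type u} [CommRing A] [IsDomain A] [CharP A p] [CommRing B] [Algebra A B] {r N : ℕ}
    (hr : r ≤ N) (x : Fin N → A) [IsLocalization.Away (∏ i : Fin r, x (Fin.castLE hr i)) B]
    (u : Fin r → Bˣ) (hu : ∀ i, (u i : B) = algebraMap A B (x (Fin.castLE hr i)))
    {ι : Type u} (b : Module.Basis (Fin N ⊕ ι) A (Ω[A⁄ℤ])) (hb : ∀ i, b (Sum.inl i) = D ℤ A (x i)) :
    ∃ e : Module.Basis (Fin N ⊕ ι) A
        (W4c6katofilta.logForms1 (fun i : Fin r => x (Fin.castLE hr i)) u),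
      (∀ i : Fin r, (e (Sum.inl (Fin.castLE hr i)) : Ω[B⁄ℤ]) =
          ((u i)⁻¹ : Bˣ) • KaehlerDifferential.map ℤ ℤ A B (D ℤ A (x (Fin.castLE hr i)))) ∧
      (∀ i : Fin N, r ≤ (i : ℕ) →
          (e (Sum.inl i) : Ω[B⁄ℤ]) = KaehlerDifferential.map ℤ ℤ A B (D ℤ A (x i))) ∧
      (∀ k : ι, (e (Sum.inr k) : Ω[B⁄ℤ]) = KaehlerDifferential.map ℤ ℤ A B (b (Sum.inr k))) := by
  classical
  let M := Submonoid.powers (∏ i : Fin r, x (Fin.castLE hr i))
  haveI : IsLocalization M B := ‹IsLocalization.Away (∏ i : Fin r, x (Fin.castLE hr i)) B›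
  have hne : ∀ i, x i ≠ 0 := fun i h => b.ne_zero (Sum.inl i) (by rw [hb, h, map_zero])
  have hinj : Function.Injective (algebraMap A B) :=
    IsLocalization.injective (M := M) B (powers_le_nonZeroDivisors_of_noZeroDivisors (Finset.prod_ne_zero_iff.mpr fun i _ => hne _))
  let φ := KaehlerDifferential.map ℤ ℤ A B
  let w : Module.Basis (Fin N ⊕ ι) B (Ω[B⁄ℤ]) := b.ofIsLocalizedModule B M φ
  have hw : ∀ s, w s = φ (b s) := fun s => b.ofIsLocalizedModule_apply B M φ s
  let c : Fin N ⊕ ι → Bˣ := Sum.elim (fun i => if h : (i : ℕ) < r then (u ⟨i, h⟩)⁻¹ else 1) (fun _ => 1)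
  let v : Fin N ⊕ ι → Ω[B⁄ℤ] := fun s => (c s : B) • φ (b s)
  have hv : ∀ i : Fin r, v (Sum.inl (Fin.castLE hr i)) = ((u i)⁻¹ : Bˣ) • φ (KaehlerDifferential.D ℤ A (x (Fin.castLE hr i))) := by
    intro i
    simp only [v, c, Sum.elim_inl, hb, Fin.val_castLE]
    rw [dif_pos i.2]
    rfl
  have hli : LinearIndependent A v := by
    have h1 : LinearIndependent B v := by
      have : LinearIndependent B (c • ⇑w) := w.linearIndependent.units_smul c
      convert this using 1
      funext s
      rw [Pi.smul_apply', hw]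
      rfl
    refine h1.restrict_scalars (fun a a' h => hinj ?_)
    simpa [Algebra.smul_def] using h
  have hspan : Submodule.span A (Set.range v) = W4c6katofilta.logForms1 (fun i : Fin r => x (Fin.castLE hr i)) u := by
    refine le_antisymm (Submodule.span_le.mpr ?_) (Submodule.span_le.mpr ?_)
    · rintro _ ⟨i | k, rfl⟩
      · by_cases h : (i : ℕ) < r
        · refine Submodule.subset_span (Or.inr ⟨⟨i, h⟩, ?_⟩)
          exact (hv ⟨i, h⟩).symm
        · exact Submodule.subset_span (Or.inl ⟨b (Sum.inl i), by simp [v, c, h, φ]⟩)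
      · exact Submodule.subset_span (Or.inl ⟨b (Sum.inr k), by simp [v, c, φ]⟩)
    · rintro _ (⟨z, rfl⟩ | ⟨i, rfl⟩)
      · have hz : z ∈ Submodule.span A (Set.range b) := by rw [b.span_eq]; trivial
        have h1 : φ z ∈ Submodule.span A (φ '' Set.range b) := by
          rw [← Submodule.map_span]; exact ⟨z, hz, rfl⟩
        refine (Submodule.span_le.mpr ?_) h1
        rintro _ ⟨_, ⟨i | k, rfl⟩, rfl⟩
        · by_cases h : (i : ℕ) < r
          · have : φ (b (Sum.inl i)) = x i • v (Sum.inl i) := by
              simp only [v, c, Sum.elim_inl, dif_pos h]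
              rw [← IsScalarTower.algebraMap_smul B (x i), smul_smul,
                show x i = x (Fin.castLE hr ⟨i, h⟩) from rfl, ← hu ⟨i, h⟩, Units.mul_inv, one_smul]
            rw [this]
            exact Submodule.smul_mem _ _ (Submodule.subset_span ⟨_, rfl⟩)
          · exact Submodule.subset_span ⟨Sum.inl i, by simp [v, c, h]⟩
        · exact Submodule.subset_span ⟨Sum.inr k, by simp [v, c]⟩
      · exact Submodule.subset_span ⟨_, hv i⟩
  let e := (Module.Basis.span hli).map (LinearEquiv.ofEq _ _ hspan)
  have he : ∀ s, (e s : Ω[B⁄ℤ]) = v s := fun s => by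
    simp only [e, Module.Basis.map_apply, LinearEquiv.coe_ofEq_apply]
    exact congrArg Subtype.val (Module.Basis.span_apply hli s) |>.trans rfl
  refine ⟨e, fun i => (he _).trans (hv i), fun i hi => ?_, fun k => ?_⟩
  · rw [he]
    simp [v, c, hb, Nat.not_lt.mpr hi, φ]
  · rw [he]
    simp [v, c, φ]

end Groth.Agent.S19273
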