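import Groth.Statements.S19274
import Groth.Agent.WittFilLib.Fil
import Mathlib.RingTheory.WittVector.InitTail
import Mathlib.RingTheory.WittVector.Domain

set_option autoImplicit false
universe u
open WittFil

namespace Groth.Agent.S19274

/-- Let A be a unique factorisation domain of characteristic p, x a prime element of A, B = A[1/x] with
u the unit of B defined by x, m ≥ 1, and n an integer NOT divisible by p^m. For e in B and k ≥ 0
write fil_k(e) for the set of truncated p-typical Witt vectors of length k over B whose j-th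
coordinate y_j satisfies y_j ^ (p ^ (k−1−j)) · e ∈ A for all j < k (the filtered piece; fil_k(u^n)
is the piece of index n). Then fil_{m+1}(u^n) is contained in fil_{m+1}(u^(n−1)) + V(fil_m(u^n))
(the reverse inclusion is immediate): every a in fil_{m+1}(u^n) can be written a = b + V(y) with b
in fil_{m+1}(u^(n−1)) and y a Witt vector over B whose length-m truncation lies in fil_m(u^n), V(y)
being truncated to length m+1. (In the source A is a henselian discrete valuation ring, n = p^r·l >
1 with p not dividing l, and the condition reads m ≥ r + 1.) -/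
theorem result (p : ℕ) [Fact p.Prime]
    {A B : Type u} [CommRing A] [IsDomain A] [UniqueFactorizationMonoid A] [CharP A p]
    [CommRing B] [Algebra A B] (x : A) (hx : Prime x) [IsLocalization.Away x B] (u : Bˣ)
    (hu : (u : B) = algebraMap A B x) (m : ℕ) (hm : 0 < m) (n : ℤ) (hn : ¬ ((p : ℤ) ^ m ∣ n)) :
    ∀ a ∈ WittFil.fil p (m + 1) (A := A) ((u ^ n : Bˣ) : B),
      ∃ b ∈ WittFil.fil p (m + 1) (A := A) ((u ^ (n - 1) : Bˣ) : B),
        ∃ y : WittVector p B,
          WittVector.truncate m y ∈ WittFil.fil p m (A := A) ((u ^ n : Bˣ) : B) ∧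
            a = b + WittVector.truncate (m + 1) (WittVector.verschiebung y) := by
  intro a ha
  have hPI : Groth.Agent.WittFilLib.PowIn A B := Groth.Agent.WittFilLib.powIn_of_away x hx.ne_zero
  obtain ⟨w, rfl⟩ := WittVector.truncate_surjective p (m + 1) B a
  rw [Groth.Agent.WittFilLib.mem_fil_truncate_iff] at ha
  set N := p ^ m with hN
  have hNpos : 0 < N := pow_pos (Fact.out : p.Prime).pos m
  have hNn : ((N : ℕ) : ℤ) = (p : ℤ) ^ m := by simp [hN]
  set q := n / (N : ℤ) with hq
  obtain ⟨z, hz⟩ := ha 0 (by omega)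
  simp only [add_tsub_cancel_right, Nat.sub_zero, ← hN] at hz
  have hr0 : 0 < n % (N : ℤ) := by
    rcases (Int.emod_nonneg n (by omega : (N : ℤ) ≠ 0)).lt_or_eq with h | h
    · exact h
    · exact absurd (hNn ▸ Int.dvd_of_emod_eq_zero h.symm) hn
  have hrN : n % (N : ℤ) < N := Int.emod_lt_of_pos n (by omega)
  have hnqr : n = (N : ℤ) * q + n % (N : ℤ) := (Int.mul_ediv_add_emod n N).symm
  obtain ⟨r, hr⟩ := Int.eq_ofNat_of_zero_le hr0.le
  -- `w₀ u^(q+1)` lies in `A` and is divisible by `x`, so `w₀ u^q` lies in `A`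
  have h1 : (w.coeff 0 * ((u ^ (q + 1) : Bˣ) : B)) ^ N = algebraMap A B (z * x ^ (N - r)) := by
    rw [map_mul, hz, map_pow, ← hu, mul_pow, mul_assoc, ← Units.val_pow_eq_pow_val,
      ← Units.val_pow_eq_pow_val, ← Units.val_mul, ← zpow_natCast, ← zpow_mul, ← zpow_natCast,
      ← zpow_add, Nat.cast_sub (by omega : r ≤ N)]
    congr 3
    rw [hr] at hnqr
    push_cast
    linarith
  obtain ⟨y, hy⟩ := hPI.2 _ _ hNpos ⟨_, h1.symm⟩
  have hy' : y ^ N = z * x ^ (N - r) := hPI.1 (by rw [map_pow, hy, h1])
  obtain ⟨y', rfl⟩ : x ∣ y :=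
    hx.dvd_of_dvd_pow (n := N) (hy' ▸ Dvd.dvd.mul_left (dvd_pow_self x (by omega)) z)
  have hy'' : w.coeff 0 * ((u ^ q : Bˣ) : B) = algebraMap A B y' := by
    rw [map_mul, ← hu, zpow_add_one, Units.val_mul, mul_comm (u : B), ← mul_assoc] at hy
    exact (u.isUnit.mul_left_inj.1 hy).symm
  have hb : w.coeff 0 ^ N * ((u ^ (n - 1) : Bˣ) : B) = algebraMap A B (y' ^ N * x ^ (r - 1)) := by
    rw [map_mul, map_pow, map_pow, ← hy'', ← hu, mul_pow, mul_assoc, ← Units.val_pow_eq_pow_val,
      ← Units.val_pow_eq_pow_val, ← Units.val_mul, ← zpow_natCast, ← zpow_mul, ← zpow_natCast,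
      ← zpow_add, Nat.cast_sub (by omega : 1 ≤ r)]
    congr 3
    rw [hr] at hnqr
    push_cast
    linarith
  refine ⟨WittVector.truncate (m + 1) (WittVector.teichmuller p (w.coeff 0)), ?_,
    w.shift 1, ?_, ?_⟩
  · rw [Groth.Agent.WittFilLib.mem_fil_truncate_iff]
    intro j hj
    rcases j with _ | i
    · simp only [add_tsub_cancel_right, Nat.sub_zero, ← hN, WittVector.teichmuller_coeff_zero]
      exact ⟨_, hb.symm⟩
    · rw [WittVector.teichmuller_coeff_pos (p := p) _ _ (Nat.succ_pos i),
        zero_pow (pow_ne_zero _ (Fact.out : p.Prime).ne_zero), zero_mul]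
      exact zero_mem _
  · rw [Groth.Agent.WittFilLib.mem_fil_truncate_iff]
    intro j hj
    rw [WittVector.shift_coeff, add_comm 1 j, show m - 1 - j = m + 1 - 1 - (j + 1) by omega]
    exact ha (j + 1) (by omega)
  · rw [← map_add]
    congr 1
    conv_lhs => rw [← WittVector.init_add_tail w 1]
    have e1 : WittVector.init 1 w = WittVector.teichmuller p (w.coeff 0) := by
      ext i
      rcases i with _ | i
      · simp [WittVector.init, WittVector.select, WittVector.coeff_mk]
      · simp [WittVector.init, WittVector.select, WittVector.coeff_mk,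
          WittVector.teichmuller_coeff_pos (p := p) _ _ (Nat.succ_pos i)]
    have e2 : WittVector.tail 1 w = WittVector.verschiebung (w.shift 1) := by
      ext i
      rcases i with _ | i
      · simp [WittVector.tail, WittVector.select, WittVector.coeff_mk]
      · simp [WittVector.tail, WittVector.select, WittVector.coeff_mk, WittVector.shift_coeff,
          WittVector.verschiebung_coeff_succ, add_comm]
    rw [e1, e2]

end Groth.Agent.S19274
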