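import Groth.Statements.S19284
import Groth.Agent.MiscTwoH99.SplitPlace.Decomp
import Mathlib.FieldTheory.Galois.Basic
import Mathlib.FieldTheory.Normal.Closure
import Mathlib.FieldTheory.Finite.Basic
import Mathlib.RingTheory.IntegralDomain

set_option autoImplicit false
universe u
open NumberField

namespace Groth.Agent.S19284

/-- Let L/K be a finite extension of number fields and Ω an algebraic closure of K. Suppose that L/K is
almost abelian in the non-abelian way: for some prime number p there is a bijection between the set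
of K-embeddings L → Ω and Z/p under which every K-automorphism of Ω acts by an affine transformation
x ↦ a x + b with a ≠ 0, and L/K is not an abelian extension (it is not Galois with commutative
automorphism group). Then there is an intermediate extension K ⊂ E ⊂ Ω contained in the normal
closure of L, Galois over K with nontrivial cyclic group, such that for every finite place w of K
which is unramified in L (every prime of the integers of L above w has ramification index 1), either
E admits a K-algebra embedding into the completion K_w (since E/K is Galois: w splits completely in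
E) or L admits a K-algebra embedding into K_w (L has a place of degree 1 over w). (Only finite
places are treated here.) -/
theorem result (K L Ω : Type u) [Field K] [NumberField K]
    [Field L] [NumberField L] [Algebra K L] [Field Ω] [Algebra K Ω] [IsAlgClosure K Ω]
    (p : ℕ) (hp : p.Prime) (e : (L →ₐ[K] Ω) ≃ ZMod p)
    (haff : ∀ σ : Ω ≃ₐ[K] Ω, ∃ a b : ZMod p, a ≠ 0 ∧
      ∀ φ : L →ₐ[K] Ω, e (σ.toAlgHom.comp φ) = a * e φ + b)
    (hnab : IsGalois K L → ∃ σ τ : L ≃ₐ[K] L, σ * τ ≠ τ * σ) :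
    ∃ E : IntermediateField K Ω, E ≤ IntermediateField.normalClosure K L Ω ∧
      FiniteDimensional K E ∧ IsGalois K E ∧ IsCyclic (E ≃ₐ[K] E) ∧ 1 < Module.finrank K E ∧
      ∀ w : IsDedekindDomain.HeightOneSpectrum (NumberField.RingOfIntegers K),
        (∀ P : Ideal (NumberField.RingOfIntegers L), P.IsPrime → P.LiesOver w.asIdeal →
          P.ramificationIdx (NumberField.RingOfIntegers K) = 1) →
        Nonempty (E →ₐ[K] w.adicCompletion K) ∨ Nonempty (L →ₐ[K] w.adicCompletion K) := by
  classical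
  haveI : Fact p.Prime := ⟨hp⟩
  haveI : Algebra.IsAlgebraic K Ω := IsAlgClosure.isAlgebraic
  haveI : IsAlgClosed Ω := IsAlgClosure.isAlgClosed K
  haveI : CharZero Ω := charZero_of_injective_algebraMap (algebraMap K Ω).injective
  haveI : IsGalois K Ω := IsGalois.mk
  let N := IntermediateField.normalClosure K L Ω
  haveI : NumberField N := NumberField.of_module_finite K N
  haveI : IsGalois K N := IsGalois.mk
  let ι : (L →ₐ[K] Ω) → (L →ₐ[K] N) := fun φ => φ.codRestrict N.toSubalgebra fun x => φ.fieldRange_le_normalClosure ⟨x, rfl⟩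
  let act : (N ≃ₐ[K] N) → (L →ₐ[K] Ω) → (L →ₐ[K] Ω) := fun τ φ => N.val.comp (τ.toAlgHom.comp (ι φ))
  have hlift : ∀ (τ : N ≃ₐ[K] N) φ, (τ.liftNormal Ω).toAlgHom.comp φ = act τ φ := fun τ φ => AlgHom.ext fun x =>
    τ.liftNormal_commutes Ω (ι φ x)
  have hmul : ∀ (σ τ : N ≃ₐ[K] N) φ, act (σ * τ) φ = act σ (act τ φ) := fun σ τ φ => AlgHom.ext fun x => rfl
  have hone : ∀ φ, act 1 φ = φ := fun φ => AlgHom.ext fun x => rfl
  have hfaith : ∀ τ : N ≃ₐ[K] N, (∀ φ, act τ φ = φ) → τ = 1 := by
    intro τ h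
    refine AlgEquiv.ext fun x => Subtype.ext ?_
    let S := IntermediateField.fixedField (Subgroup.zpowers (τ.liftNormal Ω))
    have hS : N ≤ S := by
      refine iSup_le fun φ => ?_
      rintro _ ⟨y, rfl⟩
      intro g
      have : (τ.liftNormal Ω) ∈ MulAction.stabilizer (Ω ≃ₐ[K] Ω) (φ y) := AlgHom.congr_fun ((hlift τ φ).trans (h φ)) y
      exact Subgroup.zpowers_le.2 this g.2
    exact (τ.liftNormal_commutes Ω x).symm.trans (hS x.2 ⟨_, Subgroup.mem_zpowers _⟩)
  have hex : ∀ τ : N ≃ₐ[K] N, ∃ a b : ZMod p, a ≠ 0 ∧ ∀ φ, e (act τ φ) = a * e φ + b := fun τ => by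
    obtain ⟨a, b, ha, h⟩ := haff (τ.liftNormal Ω)
    exact ⟨a, b, ha, fun φ => by rw [← hlift]; exact h φ⟩
  choose a b ha hab using hex
  have hb : ∀ τ, b τ = e (act τ (e.symm 0)) := fun τ => by rw [hab, Equiv.apply_symm_apply, mul_zero, zero_add]
  have ha' : ∀ τ, a τ = e (act τ (e.symm 1)) - b τ := fun τ => by
    rw [hab, Equiv.apply_symm_apply, mul_one, add_sub_cancel_right]
  have hamul : ∀ σ τ, a (σ * τ) = a σ * a τ ∧ b (σ * τ) = a σ * b τ + b σ := fun σ τ => by
    have hbb : b (σ * τ) = a σ * b τ + b σ := by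
      rw [hb, hmul, hab, hab, Equiv.apply_symm_apply, mul_zero, zero_add]
    refine ⟨?_, hbb⟩
    rw [ha', hmul, hab, hab, Equiv.apply_symm_apply, hbb]
    ring
  have haone : a 1 = 1 := by rw [ha', hb, hone, hone, Equiv.apply_symm_apply, Equiv.apply_symm_apply, sub_zero]
  let χ : (N ≃ₐ[K] N) →* (ZMod p)ˣ := MonoidHom.toHomUnits
    { toFun := a, map_one' := haone, map_mul' := fun σ τ => (hamul σ τ).1 }
  have hχ : ∀ τ, τ ∈ χ.ker ↔ a τ = 1 := fun τ => by
    rw [MonoidHom.mem_ker, Units.ext_iff]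
    rfl
  let H : Subgroup (N ≃ₐ[K] N) := χ.ker
  let E0 : IntermediateField K N := IntermediateField.fixedField H
  let eE : E0 ≃ₐ[K] IntermediateField.lift E0 := IntermediateField.liftAlgEquiv E0
  let q := (IsGalois.normalAutEquivQuotient (K := K) (L := N) H).symm
  haveI hcyc : IsCyclic (E0 ≃ₐ[K] E0) := by
    refine isCyclic_of_subgroup_isDomain
      (((Units.coeHom (ZMod p)).comp (QuotientGroup.kerLift χ)).comp q.toMonoidHom) ?_
    exact (Units.val_injective.comp (QuotientGroup.kerLift_injective χ)).comp q.injective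
  refine ⟨IntermediateField.lift E0, IntermediateField.lift_le E0, Module.Finite.equiv eE.toLinearEquiv,
    IsGalois.of_algEquiv eE, (AlgEquiv.autCongr eE).isCyclic.1 hcyc, ?_, fun w hw => ?_⟩
  · rw [← eE.toLinearEquiv.finrank_eq]
    by_contra hlt
    have h1 : Module.finrank K E0 = 1 := le_antisymm (not_lt.1 hlt) Module.finrank_pos
    rw [← IsGalois.card_aut_eq_finrank, Nat.card_congr q.toEquiv] at h1
    have hH : ∀ τ, a τ = 1 := fun τ => by
      haveI : Subsingleton ((N ≃ₐ[K] N) ⧸ H) := (Nat.card_eq_one_iff_unique.1 h1).1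
      rw [← hχ, ← QuotientGroup.eq_one_iff]
      exact Subsingleton.elim _ _
    have hcomm : ∀ σ τ : N ≃ₐ[K] N, σ * τ = τ * σ := fun σ τ => by
      have hb' : ∀ σ τ, b (σ * τ) = b (τ * σ) := fun σ τ => by
        rw [(hamul σ τ).2, (hamul τ σ).2, hH, hH, one_mul, one_mul, add_comm]
      refine mul_inv_eq_one.1 (hfaith _ fun φ => e.injective ?_)
      have : ∀ φ, act (σ * τ) φ = act (τ * σ) φ := fun φ => e.injective (by rw [hab, hab, hH, hH, hb'])
      rw [hmul, this, ← hmul, mul_inv_cancel, hone]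
    have hinj : Function.Injective b := fun σ τ h => by
      refine mul_inv_eq_one.1 (hfaith _ fun φ => e.injective ?_)
      have : ∀ φ, act σ φ = act τ φ := fun φ => e.injective (by rw [hab, hab, hH, hH, h])
      rw [hmul, this, ← hmul, mul_inv_cancel, hone]
    have hcard : Module.finrank K N ≤ Module.finrank K L := by
      rw [← IsGalois.card_aut_eq_finrank, ← AlgHom.card K L Ω, ← Nat.card_eq_fintype_card, Nat.card_congr e]
      exact Nat.card_le_card_of_injective b hinj
    let φ₀ := ι (e.symm 0)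
    have hle := LinearMap.finrank_le_finrank_of_injective (f := φ₀.toLinearMap) φ₀.toRingHom.injective
    let eL : L ≃ₐ[K] N := AlgEquiv.ofBijective φ₀ ⟨φ₀.toRingHom.injective,
      (LinearMap.injective_iff_surjective_of_finrank_eq_finrank (f := φ₀.toLinearMap) (le_antisymm hle hcard)).1 φ₀.toRingHom.injective⟩
    obtain ⟨σ, τ, hne⟩ := hnab (IsGalois.of_algEquiv eL.symm)
    exact hne ((AlgEquiv.autCongr eL).injective (by rw [map_mul, map_mul]; exact hcomm _ _))
  · open Pointwise in
    obtain ⟨Q, hQm, hQ⟩ := Ideal.exists_maximal_ideal_liesOver_of_isIntegral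
      (S := NumberField.RingOfIntegers N) w.asIdeal
    haveI := hQm
    haveI := hQ
    have hI : Q.inertia (N ≃ₐ[K] N) = ⊥ := (Subgroup.eq_bot_iff_forall _).2 fun σ hσ => hfaith σ fun φ =>
      AlgHom.ext fun x => congrArg (fun z : N => (z : Ω))
        (Groth.Agent.MiscTwoH99.SplitPlace.inertia_fixes w Q (ι φ) hw σ hσ x)
    obtain ⟨π, hπ, hπ2⟩ := Groth.Agent.MiscTwoH99.SplitPlace.exists_uniformizer_of_inertia_eq_bot w Q hI
    haveI := Groth.Agent.MiscTwoH99.SplitPlace.finite_quotient w
    haveI := w.isMaximal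
    letI := Ideal.Quotient.field w.asIdeal
    letI := Ideal.Quotient.field Q
    haveI : Finite (NumberField.RingOfIntegers N ⧸ Q) :=
      Ideal.finiteQuotientOfFreeOfNeBot _ (Ideal.ne_bot_of_liesOver_of_ne_bot w.ne_bot Q)
    haveI : IsCyclic (MulAction.stabilizer (N ≃ₐ[K] N) Q) := by
      refine isCyclic_of_injective (Ideal.Quotient.stabilizerHom Q w.asIdeal (N ≃ₐ[K] N)) ?_
      rw [← MonoidHom.ker_eq_bot_iff, Ideal.Quotient.ker_stabilizerHom, Subgroup.eq_bot_iff_forall]
      intro σ hσ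
      exact Subtype.ext ((Subgroup.eq_bot_iff_forall _).1 hI σ hσ)
    obtain ⟨⟨g, hgD⟩, hg⟩ := IsCyclic.exists_generator (α := MulAction.stabilizer (N ≃ₐ[K] N) Q)
    have hgen : ∀ (S : Subgroup (N ≃ₐ[K] N)), g ∈ S → ∀ σ ∈ MulAction.stabilizer (N ≃ₐ[K] N) Q, σ ∈ S := by
      intro S hgS σ hσ
      obtain ⟨n, hn⟩ := hg ⟨σ, hσ⟩
      have : g ^ n = σ := congrArg Subtype.val hn
      exact this ▸ zpow_mem hgS n
    by_cases hag : a g = 1
    · refine Or.inl ?_
      obtain ⟨f⟩ := Groth.Agent.MiscTwoH99.SplitPlace.nonempty_algHom_of_fixed w Q π hπ hπ2 E0.val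
        fun σ hσ x => x.2 ⟨σ, hgen H ((hχ g).2 hag) σ hσ⟩
      exact ⟨f.comp eE.symm.toAlgHom⟩
    · refine Or.inr ?_
      let φ₁ := e.symm (b g / (1 - a g))
      have h0 : (1 : ZMod p) - a g ≠ 0 := sub_ne_zero.2 (Ne.symm hag)
      have hfix : act g φ₁ = φ₁ := e.injective (by
        rw [hab, Equiv.apply_symm_apply]
        field_simp
        ring)
      exact Groth.Agent.MiscTwoH99.SplitPlace.nonempty_algHom_of_fixed w Q π hπ hπ2 (ι φ₁) fun σ hσ x =>
        hgen (MulAction.stabilizer (N ≃ₐ[K] N) (ι φ₁ x)) (Subtype.ext (AlgHom.congr_fun hfix x)) σ hσ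

end Groth.Agent.S19284
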