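import Groth.Statements.S19309
import Mathlib
-- import your own Groth.Agent.* helpers here

set_option autoImplicit false
universe u
open PowerSeries LaurentSeries
open CAlg

namespace Groth.Agent.S19309

/-- Let k be a field, R a commutative k-algebra, B a finitely presented R⟦X⟧-algebra (an affine scheme V
= Spec B of finite presentation over the disc D_R = Spec R⟦X⟧) and s : B → R((X)) an R⟦X⟧-algebra
map (a section of V over the punctured disc). Then there is an ideal I of R such that for every ring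
map φ : R → R', writing θ : R((X)) → R'((X)) for the ring map compatible with R⟦X⟧ → R'⟦X⟧, the
section s extends to a section over D_{R'} — an R⟦X⟧-algebra map s' : B → R'⟦X⟧ whose composite with
R'⟦X⟧ → R'((X)) is θ ∘ s — if and only if φ kills I. In other words the sub-presheaf of Spec R where
s extends over the disc is the closed subscheme defined by I. -/
theorem result
    (k : Type u) [Field k] (R : Type u) [CommRing R] [Algebra k R]
    (B : Type u) [CommRing B] [Algebra R⟦X⟧ B] [Algebra.FinitePresentation R⟦X⟧ B]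
    (s : B →ₐ[R⟦X⟧] R⸨X⸩) :
    ∃ I : Ideal R, ∀ (R' : Type u) [CommRing R'] (φ : R →+* R') (θ : R⸨X⸩ →+* R'⸨X⸩),
      θ.comp (algebraMap R⟦X⟧ R⸨X⸩) = (algebraMap R'⟦X⟧ R'⸨X⸩).comp (PowerSeries.map φ) →
      ((∃ s' : B →+* R'⟦X⟧, s'.comp (algebraMap R⟦X⟧ B) = PowerSeries.map φ ∧
          (algebraMap R'⟦X⟧ R'⸨X⸩).comp s' = θ.comp s.toRingHom) ↔ I ≤ RingHom.ker φ) := by
  refine ⟨Ideal.span {r | ∃ (b : B) (n : ℤ), n < 0 ∧ (s b).coeff n = r}, fun R' _ φ θ hθ => ?_⟩
  have hc : ∀ (x : R⸨X⸩) (i : ℤ), (θ x).coeff i = φ (x.coeff i) := by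
    intro x i
    obtain ⟨⟨p, ⟨_, N, rfl⟩⟩, hp⟩ := IsLocalization.surj (Submonoid.powers (PowerSeries.X : R⟦X⟧)) x
    have hp' : θ x * algebraMap R'⟦X⟧ R'⸨X⸩ (PowerSeries.X ^ N) = algebraMap R'⟦X⟧ R'⸨X⸩ (PowerSeries.map φ p) := by
      have h1 := congrArg θ hp
      have e1 : ∀ q, θ (algebraMap R⟦X⟧ R⸨X⸩ q) = algebraMap R'⟦X⟧ R'⸨X⸩ (PowerSeries.map φ q) :=
        fun q => RingHom.congr_fun hθ q
      rw [map_mul] at h1
      simp only [e1, map_pow, PowerSeries.map_X] at h1
      simpa using h1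
    have k1 := congrArg (fun y => HahnSeries.coeff y (i + N)) hp
    have k2 := congrArg (fun y => HahnSeries.coeff y (i + N)) hp'
    simp only [LaurentSeries.coe_algebraMap, HahnSeries.ofPowerSeries_X_pow, HahnSeries.coeff_mul_single_add,
      mul_one] at k1 k2
    rw [k1, k2, PowerSeries.coeff_coe, PowerSeries.coeff_coe]
    split_ifs
    · simp
    · rw [PowerSeries.coeff_map]
  have hinj : Function.Injective (algebraMap R'⟦X⟧ R'⸨X⸩) := HahnSeries.ofPowerSeries_injective
  constructor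
  · rintro ⟨s', -, hs'⟩
    rw [Ideal.span_le]
    rintro _ ⟨b, n, hn, rfl⟩
    rw [SetLike.mem_coe, RingHom.mem_ker, ← hc, ← show algebraMap R'⟦X⟧ R'⸨X⸩ (s' b) = θ (s b) from RingHom.congr_fun hs' b,
      LaurentSeries.coe_algebraMap, PowerSeries.coeff_coe, if_pos hn]
  · intro hI
    have hex : ∀ b : B, ∃ p : R'⟦X⟧, algebraMap R'⟦X⟧ R'⸨X⸩ p = θ (s b) := by
      intro b
      refine ⟨PowerSeries.mk fun n => (θ (s b)).coeff (n : ℤ), ?_⟩
      ext i
      rw [LaurentSeries.coe_algebraMap, PowerSeries.coeff_coe]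
      split_ifs with h
      · rw [hc]
        exact (hI (Ideal.subset_span ⟨b, i, h, rfl⟩)).symm
      · rw [PowerSeries.coeff_mk, Int.natAbs_of_nonneg (not_lt.mp h)]
    choose g hg using hex
    let s' : B →+* R'⟦X⟧ :=
      { toFun := g
        map_one' := hinj (by rw [hg, map_one, map_one, map_one])
        map_mul' := fun a b => hinj (by rw [hg, map_mul, map_mul, map_mul, hg, hg])
        map_zero' := hinj (by rw [hg, map_zero, map_zero, map_zero])
        map_add' := fun a b => hinj (by rw [hg, map_add, map_add, map_add, hg, hg]) }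
    refine ⟨s', RingHom.ext fun p => hinj ?_, RingHom.ext hg⟩
    show algebraMap R'⟦X⟧ R'⸨X⸩ (g (algebraMap R⟦X⟧ B p)) = _
    rw [hg, AlgHom.commutes]
    exact RingHom.congr_fun hθ p

end Groth.Agent.S19309
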