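import Groth.Statements.S19314
import Groth.Agent.StabH89.Bound2
import Groth.Agent.StabH89.EmbedPow

set_option autoImplicit false
universe u
open CategoryTheory CategoryTheory.Limits AlgebraicGeometry
open DecSh

namespace Groth.Agent.S19314

open Groth.Agent Groth.Agent.StabH89
open scoped Groth.Agent.H23.PicMul

set_option linter.style.haveILetI false

/-- Let k be an algebraically closed field of characteristic zero, X a reduced proper k-scheme of
dimension one without isolated points, L an ample invertible O_X-module, χ the Euler characteristic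
over k and α(M) = χ(M ⊗ L) − χ(M) the multiplicity. Fix δ > 0, integers α and e, natural numbers a
and b and an O_X-module D. Then the family of coherent O_X-modules F with torsion free stalks, α(F)
= α and χ(F) = e (fixed Hilbert polynomial) for which there is a δ-semistable tensor field of type
(a, b) on F with values in D is bounded: there are a k-scheme T of finite type and a coherent module
on X ×_k T among whose fibres at k-points every member occurs up to isomorphism. (The published
corollary is for a reduced projective curve with D locally free, in a section whose polarisation is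
very ample. The bound on the maximal slope that drives the proof uses none of these, and boundedness
for an ample L follows from the very ample case by passing to a power of L, which rescales all
multiplicities.) -/
theorem result
    (k : Type u) [Field k] [IsAlgClosed k] [CharZero k]
    (X : Scheme.{u}) [X.Over (Spec (CommRingCat.of k))] [IsProper (X ↘ Spec (CommRingCat.of k))]
    [AlgebraicGeometry.IsReduced X] (hdim : topologicalKrullDim X = 1)
    (hpure : ∀ x : X, ¬ IsOpen ({x} : Set X))
    (L : X.Modules) (hL : CohB1.IsAmple L)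
    (δ : ℚ) (hδ : 0 < δ) (α e : ℤ) (a b : ℕ) (D : X.Modules) :
    Pic13.IsBounded k X (fun F => Coh.IsCoh F ∧ TorSh.IsTorsionFree F ∧ DecSh.mult k X L F = α ∧
      Curv2.euler k X F = e ∧ ∃ T : DecSh.TF F a b D, T.IsSemistable k L δ) := by
  haveI : IsNoetherian X := CurveCohLib.isNoetherian_of_proper (k := k)
  haveI : Nonempty X := by
    by_contra h
    rw [not_nonempty_iff] at h
    haveI := h
    have h0 : topologicalKrullDim X ≤ 0 := by
      haveI : IsEmpty (TopologicalSpace.IrreducibleCloseds X) := ⟨fun A => h.false A.isIrreducible.nonempty.some⟩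
      exact Order.krullDim_nonpos_of_subsingleton
    rw [hdim] at h0
    exact absurd h0 (not_le_of_gt zero_lt_one)
  obtain ⟨n, p, i, hp, hcl, hi, ⟨e'⟩⟩ := exists_embedding_pow (X ↘ Spec (CommRingCat.of k)) hL
  haveI := hcl
  have hA : CohB1.IsAmple (Pic13Lib.oX i 1) := AmpleX.isAmple_of_iso e'.symm (AmpleX.isAmple_tensorPow hL hp)
  refine isBounded_of_sub_euler_le i hdim hpure hi hA (exists_form_generic i)
    (max e 0 + ⌈δ * (a : ℚ)⌉) e ((p : ℤ) * α) _ ?_
  rintro F ⟨hF, htf, hα, he, T, hT⟩
  refine ⟨hF, htf, fun G g hg hG hG0 => ?_, he, ?_⟩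
  · have hc0 : (0 : ℤ) ≤ ⌈δ * (a : ℚ)⌉ := Int.ceil_nonneg (mul_nonneg hδ.le (Nat.cast_nonneg a))
    by_cases hiso : IsIso g
    · rw [CurveCohLib.euler_congr (k := k) (asIso g), he]
      exact le_add_of_le_of_nonneg (le_max_left _ _) hc0
    · haveI := hg
      have h1 := decMult_bounds (k := k) hdim hpure hL hF htf g hG hG0
      have h2 := slope_bound (k := k) hdim hpure hL hF htf T hδ hT g hG hG0 hiso
      rw [hα] at h1 h2
      rw [he] at h2
      have hc : δ * (a : ℚ) ≤ (⌈δ * (a : ℚ)⌉ : ℚ) := Int.le_ceil _
      have hG1 : (1 : ℚ) ≤ (DecSh.mult k X L G : ℚ) := by exact_mod_cast h1.1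
      have hG2 : (DecSh.mult k X L G : ℚ) ≤ (α : ℚ) := by exact_mod_cast h1.2
      have he0 : (e : ℚ) ≤ ((max e 0 : ℤ) : ℚ) := by exact_mod_cast le_max_left e 0
      have he1 : (0 : ℚ) ≤ ((max e 0 : ℤ) : ℚ) := by exact_mod_cast le_max_right e 0
      have hc1 : (0 : ℚ) ≤ δ * (a : ℚ) := mul_nonneg hδ.le (Nat.cast_nonneg a)
      have key : (α : ℚ) * (Curv2.euler k X G : ℚ) ≤ (α : ℚ) * (((max e 0 : ℤ) : ℚ) + (⌈δ * (a : ℚ)⌉ : ℚ)) := by
        nlinarith [mul_le_mul_of_nonneg_left he0 (le_trans zero_le_one hG1),
          mul_le_mul_of_nonneg_right hG2 he1]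
      have h3 : (Curv2.euler k X G : ℚ) ≤ ((max e 0 + ⌈δ * (a : ℚ)⌉ : ℤ) : ℚ) := by
        push_cast at key ⊢
        exact le_of_mul_le_mul_left key (lt_of_lt_of_le zero_lt_one (hG1.trans hG2))
      exact_mod_cast h3
  · have h1 := euler_twist_nat i hdim hF 1
    obtain ⟨f⟩ := twistOn_eq_pw i F 1
    obtain ⟨g⟩ : Nonempty (CohB1.tensorPow (Pic13Lib.oX i 1) 1 ≅ CohB1.tensorPow L p) :=
      H23.PicMul.cl_eq_iff.1 (by rw [H23.PicMul.cl_tensorPow, pow_one]; exact H23.PicMul.cl_eq_iff.2 ⟨e'⟩)
    rw [CurveCohLib.euler_congr (k := k) (f ≪≫ PicGrp.tensorModIso (Iso.refl F) g),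
      euler_pw k hL.1 hF ((Topology.IsInducing.topologicalKrullDim_le Topology.IsInducing.subtypeVal).trans
        (hdim.le.trans_eq rfl)) p,
      show HilbPoly.mult k L 1 F = α from (decMult_eq F).symm.trans hα] at h1
    push_cast at h1
    linarith

end Groth.Agent.S19314
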