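import Groth.Statements.S19316
import Groth.Agent.StabH89.Bound2
import Groth.Agent.StabH89.EmbedPow
import Groth.Agent.StabH89.ParSlope
import Groth.Agent.Lib.CurvePsi

set_option autoImplicit false
universe u
open CategoryTheory CategoryTheory.Limits AlgebraicGeometry
open DecSh

namespace Groth.Agent.S19316

open Groth.Agent Groth.Agent.StabH89
open scoped Groth.Agent.H23.PicMul

set_option linter.style.haveILetI false
set_option backward.isDefEq.respectTransparency false
set_option backward.isDefEq.respectTransparency.types false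

section Aux

variable {k : Type u} [Field k] {X : Scheme.{u}} [X.Over (Spec (CommRingCat.of k))]
  [IsProper (X ↘ Spec (CommRingCat.of k))]

theorem mult_locFree (hdim : topologicalKrullDim X = 1) {L E : X.Modules} (hL : PicF.IsInvertible L) {r : ℕ}
    (hE : FlatMod.IsFinLocFreeOfRank r E) :
    DecSh.mult k X L E = r * Curv2.deg k X L 1 := by
  haveI : IsNoetherian X := CurveCohLib.isNoetherian_of_proper (k := k)
  have h : Curv2.deg k X (CohB1.tensorMod E L) (r * 1) = r * Curv2.deg k X L 1 + (1 : ℕ) * Curv2.deg k X E r :=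
    CurvePsi.deg_tensor_locFree k hdim.le hE (InvEnd.isFinLocFreeOfRank_one hL)
  unfold DecSh.mult
  unfold Curv2.deg at h ⊢
  simp only [Nat.cast_one, one_mul, mul_one] at h ⊢
  linarith

end Aux

/-- Let k be an algebraically closed field of characteristic zero, Y a smooth proper k-scheme of
dimension one without isolated points (possibly disconnected) and L an ample invertible O_Y-module.
Fix finitely many effective Cartier ideal sheaves I_1, …, I_ν on Y (the divisors D_i), rational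
weights κ_i with 0 < κ_i < 1, δ > 0, natural numbers r, a, b and an integer d. Consider the locally
free O_Y-modules E of rank r and degree d (χ(E) − r·χ(O_Y) = d) for which there exist k-subspaces
K_i ⊂ H⁰(E ⊗ O_{D_i}) with quotients of dimension r and a tensor field of type (a, b) on E with
values in some O_Y-module, (κ, δ)-semistable with respect to L. This family is bounded: there is n₀
such that for every such E and every n ≥ n₀, H¹(Y, E ⊗ L^{⊗n}) = 0 and E ⊗ L^{⊗n} is globally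
generated. (The published statement fixes the target det(E)^{⊗c} ⊗ L' of the tensor field and takes
the D_i to be the pairs of points over the nodes; allowing any target and any effective divisors
gives a larger family, bounded by the same argument.) -/
theorem result
    (k : Type u) [Field k] [IsAlgClosed k] [CharZero k]
    (Y : Scheme.{u}) [Y.Over (Spec (CommRingCat.of k))] [IsProper (Y ↘ Spec (CommRingCat.of k))]
    [Smooth (Y ↘ Spec (CommRingCat.of k))] (hdim : topologicalKrullDim Y = 1)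
    (hpure : ∀ y : Y, ¬ IsOpen ({y} : Set Y))
    (L : Y.Modules) (hL : CohB1.IsAmple L)
    {ν : ℕ} (I : Fin ν → Y.IdealSheafData) (hI : ∀ i, FGA.IsEffCartier (I i))
    (κ : Fin ν → ℚ) (hκ : ∀ i, 0 < κ i ∧ κ i < 1) (δ : ℚ) (hδ : 0 < δ)
    (r a b : ℕ) (d : ℤ) :
    ∃ n₀ : ℕ, ∀ n : ℕ, n₀ ≤ n → ∀ E : Y.Modules,
      (FlatMod.IsFinLocFreeOfRank r E ∧ Curv2.deg k Y E r = d ∧
        ∃ (K : ∀ i, Submodule k (ParSh.fibD Y (I i) E)),
          (∀ i, Module.finrank k (ParSh.fibD Y (I i) E ⧸ K i) = r) ∧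
          ∃ (D : Y.Modules) (T : DecSh.TF E a b D), T.IsParSemistable k I K κ L δ) →
      Subsingleton (Coh.HH Y (CohB1.tensorMod E (CohB1.tensorPow L n)) 1) ∧
        Curv2.IsGloballyGenerated (CohB1.tensorMod E (CohB1.tensorPow L n)) := by
  haveI : IsNoetherian Y := CurveCohLib.isNoetherian_of_proper (k := k)
  haveI : AlgebraicGeometry.IsReduced Y := AlgSpLib.isReduced_of_smooth (Y ↘ Spec (CommRingCat.of k))
  haveI : Nonempty Y := by
    by_contra h
    rw [not_nonempty_iff] at h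
    haveI := h
    have h0 : topologicalKrullDim Y ≤ 0 := by
      haveI : IsEmpty (TopologicalSpace.IrreducibleCloseds Y) := ⟨fun A => h.false A.isIrreducible.nonempty.some⟩
      exact Order.krullDim_nonpos_of_subsingleton
    rw [hdim] at h0
    exact absurd h0 (not_le_of_gt zero_lt_one)
  obtain ⟨N, p, i, hp, hcl, hi, ⟨e'⟩⟩ := exists_embedding_pow (Y ↘ Spec (CommRingCat.of k)) hL
  haveI := hcl
  have hA : CohB1.IsAmple (Pic13Lib.oX i 1) := AmpleX.isAmple_of_iso e'.symm (AmpleX.isAmple_tensorPow hL hp)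
  let e : ℤ := d + r * Curv2.euler k Y (Coh.structureModule Y)
  let α : ℤ := r * Curv2.deg k Y L 1
  let C : ℤ := max e 0 + ⌈δ * (a : ℚ) + (r : ℚ) * (ν : ℚ)⌉
  choose m hm using fun s : Fin p => exists_uniform_regular i hdim hpure hi hA (exists_form_generic i)
    (C + (s : ℕ) * max α 0) (e + (s : ℕ) * α) ((p : ℤ) * α)
  refine ⟨p * Finset.univ.sup fun s => (m s).toNat, fun n hn E hEP => ?_⟩
  obtain ⟨hE, hd, K, hK, D, T, hT⟩ := hEP
  have hEf := CurveStable.isFinLocFree_of_rank hE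
  have hEc : Coh.IsCoh E := CurveDeg.isCoh_of_isFinLocFree hEf
  have htf : TorSh.IsTorsionFree E := isTorsionFree_of_finLocFree hEf
  have hχ : Curv2.euler k Y E = e := by
    have := hd
    unfold Curv2.deg at this
    show _ = d + _
    omega
  have hα : DecSh.mult k Y L E = α := mult_locFree hdim hL.1 hE
  have hd1 : ∀ M : Y.Modules, topologicalKrullDim ↥(CohB1.support M) ≤ ((1 : ℕ) : WithBot ℕ∞) := fun M =>
    (Topology.IsInducing.topologicalKrullDim_le Topology.IsInducing.subtypeVal).trans (hdim.le.trans_eq rfl)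
  have hCbound : ∀ (G : Y.Modules) (g : G ⟶ E), Mono g → Coh.IsCoh G → ¬ IsZero G →
      Curv2.euler k Y G ≤ C ∧ DecSh.mult k Y L G ≤ α := by
    intro G g hg hG hG0
    haveI := hg
    have hc0 : (0 : ℤ) ≤ ⌈δ * (a : ℚ) + (r : ℚ) * (ν : ℚ)⌉ :=
      Int.ceil_nonneg (add_nonneg (mul_nonneg hδ.le (Nat.cast_nonneg a)) (mul_nonneg (Nat.cast_nonneg r) (Nat.cast_nonneg ν)))
    by_cases hiso : IsIso g
    · refine ⟨?_, le_of_eq ((decMult_iso hL.1 (asIso g)).trans hα)⟩
      rw [CurveCohLib.euler_congr (k := k) (asIso g), hχ]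
      exact le_add_of_le_of_nonneg (le_max_left _ _) hc0
    · obtain ⟨⟨h1, h1'⟩, h2⟩ := par_slope_bound (k := k) hdim hpure hL hE I K hK κ hκ T hδ hT g hG hG0 hiso
      rw [hα] at h1' h2
      refine ⟨?_, h1'⟩
      rw [hχ] at h2
      have hc : δ * (a : ℚ) + (r : ℚ) * (ν : ℚ) ≤ (⌈δ * (a : ℚ) + (r : ℚ) * (ν : ℚ)⌉ : ℚ) := Int.le_ceil _
      have hG1 : (1 : ℚ) ≤ (DecSh.mult k Y L G : ℚ) := by exact_mod_cast h1
      have hG2 : (DecSh.mult k Y L G : ℚ) ≤ (α : ℚ) := by exact_mod_cast h1'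
      have he0 : (e : ℚ) ≤ ((max e 0 : ℤ) : ℚ) := by exact_mod_cast le_max_left e 0
      have he1 : (0 : ℚ) ≤ ((max e 0 : ℤ) : ℚ) := by exact_mod_cast le_max_right e 0
      have hc1 : (0 : ℚ) ≤ δ * (a : ℚ) := mul_nonneg hδ.le (Nat.cast_nonneg a)
      have key : (α : ℚ) * (Curv2.euler k Y G : ℚ) ≤
          (α : ℚ) * (((max e 0 : ℤ) : ℚ) + (⌈δ * (a : ℚ) + (r : ℚ) * (ν : ℚ)⌉ : ℚ)) := by
        nlinarith [mul_le_mul_of_nonneg_left he0 (le_trans zero_le_one hG1),
          mul_le_mul_of_nonneg_right hG2 he1, mul_le_mul_of_nonneg_left hc (le_trans zero_le_one (hG1.trans hG2))]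
      have h3 : (Curv2.euler k Y G : ℚ) ≤ ((C : ℤ) : ℚ) := by
        simp only [C]
        push_cast at key ⊢
        exact le_of_mul_le_mul_left key (lt_of_lt_of_le zero_lt_one (hG1.trans hG2))
      exact_mod_cast h3
  let s : Fin p := ⟨n % p, Nat.mod_lt n hp⟩
  let q : ℕ := n / p
  let F : Y.Modules := HilbPoly.pw L E (n % p)
  have hF : Coh.IsCoh F := HilbPoly.isCoh_pw hL.1 hEc _
  have hFχ : ∀ j : ℕ, Curv2.euler k Y (HilbPoly.pw L E j) = e + j * α := fun j => by
    rw [euler_pw k hL.1 hEc (hd1 E) j, hχ, ← decMult_eq, hα]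
  have hFm : mOne i F = (p : ℤ) * α := by
    have h1 := euler_twist_nat i hdim hF 1
    obtain ⟨f⟩ := twistOn_eq_pw i F 1
    obtain ⟨g⟩ : Nonempty (CohB1.tensorMod (CohB1.tensorPow L (n % p)) (CohB1.tensorPow (Pic13Lib.oX i 1) 1) ≅
        CohB1.tensorPow L (n % p + p)) :=
      H23.PicMul.cl_eq_iff.1 (show PicF.cl (CohB1.tensorPow L (n % p)) * PicF.cl (CohB1.tensorPow (Pic13Lib.oX i 1) 1) = _ by
        rw [H23.PicMul.cl_tensorPow (Pic13Lib.oX i 1), pow_one, H23.PicMul.cl_eq_iff.2 ⟨e'⟩,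
          H23.PicMul.cl_tensorPow, H23.PicMul.cl_tensorPow, H23.PicMul.cl_tensorPow, pow_add])
    obtain ⟨e2⟩ := ProjRegular.tensor_assoc_iso E (CohB1.tensorPow L (n % p))
      (CohB1.tensorPow (Pic13Lib.oX i 1) 1) (CohB1.tensorPow L (n % p + p)) g
    have h0 : Curv2.euler k Y (Pic13.twistOn k i F ((1 : ℕ) : ℤ)) = e + ((n % p + p : ℕ) : ℤ) * α :=
      (CurveCohLib.euler_congr (k := k) (f ≪≫ e2)).trans (hFχ _)
    have h3 : Curv2.euler k Y F = e + ((n % p : ℕ) : ℤ) * α := hFχ _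
    rw [h0, h3] at h1
    push_cast at h1
    linarith
  have hFC : ∀ (G : Y.Modules) (g : G ⟶ F), Mono g → Coh.IsCoh G → ¬ IsZero G →
      Curv2.euler k Y G ≤ C + (s : ℕ) * max α 0 := by
    intro G g hg hG hG0
    have hLs : PicF.IsInvertible (CohB1.tensorPow L (n % p)) := InvX.isInvertible_tensorPow hL.1 _
    obtain ⟨J, hJ, ⟨eJ⟩⟩ := H23.PicInv.exists_inverse hLs
    haveI := AmpleVan.isEquivalence_tw hJ
    obtain ⟨e3⟩ := ProjRegular.tensor_assoc_iso E (CohB1.tensorPow L (n % p)) J _ eJ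
    let g' : CohB1.tensorMod G J ⟶ E := (AmpleVan.tw J).map g ≫ (e3 ≪≫ AmpleVan.twUnit.app E).hom
    haveI : Mono ((AmpleVan.tw J).map g) := inferInstance
    haveI : Mono g' := mono_comp _ _
    have hGJ : Coh.IsCoh (CohB1.tensorMod G J) := AmpleVan.isCoh_tensor hG (AmpleVan.isCoh_invertible hJ)
    have hGJ0 : ¬ IsZero (CohB1.tensorMod G J) := fun hz => hG0 <|
      (IsZero.iff_id_eq_zero _).2 <| (AmpleVan.tw J).map_injective (hz.eq_of_src _ _)
    obtain ⟨hb1, hb2⟩ := hCbound _ g' inferInstance hGJ hGJ0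
    obtain ⟨c⟩ : Nonempty (CohB1.tensorMod J (CohB1.tensorPow L (n % p)) ≅ Coh.structureModule Y) :=
      H23.PicMul.cl_eq_iff.1 ((show PicF.cl (CohB1.tensorMod J (CohB1.tensorPow L (n % p))) =
        PicF.cl J * PicF.cl (CohB1.tensorPow L (n % p)) from rfl).trans
          ((mul_comm _ _).trans (H23.PicMul.cl_eq_iff.2 ⟨eJ⟩)))
    obtain ⟨e4⟩ := ProjRegular.tensor_assoc_iso G J (CohB1.tensorPow L (n % p)) _ c
    refine le_of_eq_of_le ((CurveCohLib.euler_congr (k := k) ((e4 ≪≫ AmpleVan.twUnit.app G).symm)).trans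
      (euler_pw k hL.1 hGJ (hd1 _) (n % p))) ?_
    rw [← decMult_eq]
    refine add_le_add hb1 (mul_le_mul_of_nonneg_left (hb2.trans (le_max_left _ _)) (Int.natCast_nonneg _))
  have hreg := hm s F hF (isTorsionFree_tensor (InvX.isInvertible_tensorPow hL.1 _) htf) hFC (hFχ (n % p)) hFm
  have hq : m s ≤ (q : ℤ) := by
    have h1 : (m s).toNat ≤ Finset.univ.sup fun s => (m s).toNat :=
      Finset.le_sup (f := fun s => (m s).toNat) (Finset.mem_univ s)
    have h2 : (Finset.univ.sup fun s => (m s).toNat) ≤ q :=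
      (Nat.le_div_iff_mul_le hp).2 (by rw [mul_comm]; exact hn)
    omega
  have hreg' := Pic13Lib.isMRegular_of_le i hF hreg hq
  obtain ⟨g⟩ : Nonempty (CohB1.tensorMod (CohB1.tensorPow L (n % p)) (Pic13Lib.oX i (q : ℤ)) ≅ CohB1.tensorPow L n) :=
    H23.PicMul.cl_eq_iff.1 (show PicF.cl (CohB1.tensorPow L (n % p)) * PicF.cl (Pic13Lib.oX i (q : ℤ)) = _ by
      rw [← cl_pow_oX, H23.PicMul.cl_tensorPow, H23.PicMul.cl_tensorPow, H23.PicMul.cl_eq_iff.2 ⟨e'⟩,
        H23.PicMul.cl_tensorPow, H23.PicMul.cl_tensorPow, ← pow_mul, ← pow_add]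
      exact congrArg _ (Nat.mod_add_div n p))
  obtain ⟨e5⟩ := ProjRegular.tensor_assoc_iso E (CohB1.tensorPow L (n % p)) (Pic13Lib.oX i (q : ℤ))
    (CohB1.tensorPow L n) g
  refine ⟨?_, ?_⟩
  · haveI := Pic13Lib.subsingleton_HH_of_isMRegular i hF hreg' le_rfl (d := (q : ℤ)) (by omega)
    exact QCoh.subsingleton_HH_of_iso e5 1 this
  · exact AmpleX.isGloballyGenerated_of_iso e5 (Pic13Lib.isGloballyGenerated_twistOn i hF hreg')

end Groth.Agent.S19316
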