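import Groth.Statements.S19322
import Groth.Agent.S8355
import Mathlib.Algebra.Category.ModuleCat.Subobject
import Mathlib.Algebra.Homology.ShortComplex.ModuleCat
import Mathlib.LinearAlgebra.FiniteDimensional.Lemmas

set_option autoImplicit false
universe v u
open CategoryTheory CategoryTheory.Limits
open SpSeq

namespace Groth.Agent.S19322

variable {K : Type u} [Field K]

lemma finite_homology_le (S : ShortComplex (ModuleCat.{v} K)) [Module.Finite K S.X₂] :
    Module.Finite K S.homology ∧ Module.finrank K S.homology ≤ Module.finrank K S.X₂ ∧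
    (Module.finrank K S.homology = Module.finrank K S.X₂ → S.f = 0 ∧ S.g = 0) := by
  have e : S.homology ≃ₗ[K] (LinearMap.ker S.g.hom) ⧸ (LinearMap.range S.moduleCatToCycles) :=
    S.moduleCatHomologyIso.toLinearEquiv
  have : Module.Finite K S.homology := Module.Finite.equiv e.symm
  have h1 := Submodule.finrank_quotient_add_finrank (LinearMap.range S.moduleCatToCycles)
  have h2 := Submodule.finrank_le (LinearMap.ker S.g.hom)
  have h3 := e.finrank_eq
  refine ⟨this, by omega, fun h => ?_⟩
  have hk : LinearMap.ker S.g.hom = ⊤ := Submodule.eq_top_of_finrank_eq (by omega)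
  have hr : LinearMap.range S.moduleCatToCycles = ⊥ := Submodule.finrank_eq_zero.1 (by omega)
  constructor
  · ext x
    have : S.moduleCatToCycles x ∈ LinearMap.range S.moduleCatToCycles := ⟨x, rfl⟩
    rw [hr, Submodule.mem_bot] at this
    exact congrArg Subtype.val this
  · ext x
    exact (LinearMap.ker_eq_top.1 hk) ▸ rfl

lemma finrank_isZero {M : ModuleCat.{v} K} (h : IsZero M) : Module.finrank K M = 0 := by
  have := ModuleCat.subsingleton_of_isZero h
  exact Module.finrank_zero_of_subsingleton

lemma finrank_cokernel_add {M N : ModuleCat.{v} K} (f : M ⟶ N) [Mono f] [Module.Finite K N] :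
    Module.finrank K (cokernel f : ModuleCat.{v} K) + Module.finrank K M = Module.finrank K N := by
  have e : (cokernel f : ModuleCat.{v} K) ≃ₗ[K] N ⧸ LinearMap.range f.hom :=
    (ModuleCat.cokernelIsoRangeQuotient f).toLinearEquiv
  rw [e.finrank_eq,
    ← LinearMap.finrank_range_of_inj ((ModuleCat.mono_iff_injective f).1 inferInstance)]
  exact Submodule.finrank_quotient_add_finrank _

lemma finite_subobject {M : ModuleCat.{v} K} [Module.Finite K M] (S : Subobject M) :
    Module.Finite K (S : ModuleCat.{v} K) :=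
  Module.Finite.of_injective S.arrow.hom ((ModuleCat.mono_iff_injective S.arrow).1 inferInstance)

lemma sum_gr {M : ModuleCat.{v} K} [Module.Finite K M] (F : ℤ → Subobject M) (hF : Antitone F)
    (c : ℤ) : ∀ d, c ≤ d → (∑ p ∈ Finset.Ico c d, Module.finrank K (SpSeq.grPiece F hF p : ModuleCat.{v} K)) +
      Module.finrank K (F d : ModuleCat.{v} K) = Module.finrank K (F c : ModuleCat.{v} K) := by
  intro d hd
  induction d, hd using Int.le_induction with
  | base => simp
  | succ d hd ih =>
    have he : Finset.Ico c (d + 1) = insert d (Finset.Ico c d) := by ext; simp; omega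
    rw [← ih, he, Finset.sum_insert (by simp), add_comm (Module.finrank K _), add_assoc]
    congr 1
    have := finite_subobject (F d)
    exact finrank_cokernel_add ((F (d + 1)).ofLE (F d) (hF (Int.le_add_one le_rfl)))


/-- Let K be a field and E a cohomological spectral sequence of K-vector spaces, pages from r₀,
concentrated in the first quadrant on page r₀ and with all terms of page r₀ finite-dimensional, and
let H be abutment data for E whose filtration in degree n is finite, H n finite-dimensional. If the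
dimensions of the page-r₀ terms E^{s, n-s}, 0 ≤ s ≤ n, add up to the dimension of H n, then every
position of total degree n is stationary from page r₀ on: all differentials into and out of it
vanish on every page. (The printed statement takes r₀ a positive integer and n ≥ 0; neither
restriction is needed.) -/
theorem result
    {K : Type u} [Field K] {r₀ : ℤ}
    (E : CohomologicalSpectralSequence (ModuleCat.{v} K) r₀) (H : ℤ → ModuleCat.{v} K)
    (a : SpSeq.Abutment E H) (n : ℤ) (hfin : a.IsFinite n)
    (hquad : ∀ pq : ℤ × ℤ, pq.1 < 0 ∨ pq.2 < 0 → IsZero ((E.page r₀ le_rfl).X pq))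
    (hfd : ∀ pq : ℤ × ℤ, Module.Finite K ((E.page r₀ le_rfl).X pq))
    (hH : Module.Finite K (H n))
    (hsum : ∑ s ∈ Finset.Icc (0 : ℤ) n, Module.finrank K ((E.page r₀ le_rfl).X (s, n - s)) =
      Module.finrank K (H n)) :
    ∀ s : ℤ, SpSeq.StationaryAt E (s, n - s) r₀ := by
  have hz : ∀ pq : ℤ × ℤ, IsZero ((E.page r₀ le_rfl).X pq) → SpSeq.StationaryAt E pq r₀ := by
    intro pq h
    refine ⟨le_rfl, fun r h₀ _ => ?_⟩
    have hk := (Groth.Agent.S8355.result E r₀ le_rfl pq h).1 r h₀
    exact ⟨hk.eq_of_tgt _ _, hk.eq_of_src _ _⟩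
  have hgr0 : ∀ p : ℤ, (p < 0 ∨ n < p) →
      IsZero (SpSeq.grPiece (a.fil n) (a.anti n) p) := by
    intro p hp
    have := (Groth.Agent.S8355.result E r₀ le_rfl (p, n - p) (hquad _ (by simp; omega))).2 H a
    simp only at this
    have key : ∀ m : ℤ, m = n → IsZero (SpSeq.grPiece (a.fil m) (a.anti m) p) →
        IsZero (SpSeq.grPiece (a.fil n) (a.anti n) p) := fun m hm h => by subst hm; exact h
    exact key _ (by omega) this
  have hstep : ∀ (pq : ℤ × ℤ) (k : ℤ) (hk : r₀ ≤ k), Module.Finite K ((E.page k hk).X pq) ∧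
      Module.finrank K ((E.page k hk).X pq) ≤ Module.finrank K ((E.page r₀ le_rfl).X pq) := by
    intro pq k hk
    induction k, hk using Int.le_induction with
    | base => exact ⟨hfd pq, le_rfl⟩
    | succ k hk ih =>
      have := ih.1
      haveI : Module.Finite K ((E.page k hk).sc pq).X₂ := this
      obtain ⟨h1, h2, -⟩ := finite_homology_le ((E.page k hk).sc pq)
      let e := (E.iso k (k + 1) pq rfl hk).toLinearEquiv
      haveI : Module.Finite K ((E.page k hk).homology pq) := h1
      exact ⟨Module.Finite.equiv e, e.finrank_eq.symm.trans_le (h2.trans ih.2)⟩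
  have hmono : ∀ (pq : ℤ × ℤ) (k : ℤ) (hk : r₀ ≤ k) (l : ℤ) (hkl : k ≤ l),
      Module.finrank K ((E.page l (hk.trans hkl)).X pq) ≤ Module.finrank K ((E.page k hk).X pq) := by
    intro pq k hk l hkl
    induction l, hkl using Int.le_induction with
    | base => exact le_rfl
    | succ l hl ih =>
      haveI : Module.Finite K ((E.page l (hk.trans hl)).sc pq).X₂ := (hstep pq l (hk.trans hl)).1
      obtain ⟨-, h2, -⟩ := finite_homology_le ((E.page l (hk.trans hl)).sc pq)
      exact (E.iso l (l + 1) pq rfl (hk.trans hl)).toLinearEquiv.finrank_eq.symm.trans_le (h2.trans ih)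
  have hgr : ∀ p : ℤ, Module.finrank K (SpSeq.grPiece (a.fil n) (a.anti n) p : ModuleCat.{v} K) =
      Module.finrank K ((E.page (a.rk (p, n - p)) (a.stat _).1).X (p, n - p)) := by
    intro p
    have key : ∀ m : ℤ, m = n → Module.finrank K (SpSeq.grPiece (a.fil m) (a.anti m) p : ModuleCat.{v} K) =
        Module.finrank K (SpSeq.grPiece (a.fil n) (a.anti n) p : ModuleCat.{v} K) := fun m hm => by subst hm; rfl
    exact (key _ (by simp)).symm.trans (a.β (p, n - p)).toLinearEquiv.finrank_eq.symm
  obtain ⟨⟨c₀, hc₀⟩, d₀, hd₀⟩ := hfin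
  change a.fil n c₀ = ⊤ at hc₀
  change a.fil n d₀ = ⊥ at hd₀
  let c := min c₀ 0
  let d := max d₀ (max c₀ (n + 1))
  have hctop : a.fil n c = ⊤ := top_le_iff.1 (hc₀ ▸ a.anti n (min_le_left _ _))
  have hdbot : a.fil n d = ⊥ := le_bot_iff.1 (hd₀ ▸ a.anti n (le_max_left _ _))
  have hsum' := sum_gr (a.fil n) (a.anti n) c d ((min_le_left _ _).trans ((le_max_left _ _).trans (le_max_right _ _)))
  have hd0 : Module.finrank K (a.fil n d : ModuleCat.{v} K) = 0 := by
    rw [hdbot]; exact finrank_isZero ((isZero_zero _).of_iso Subobject.botCoeIsoZero)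
  have hctop' : Module.finrank K (a.fil n c : ModuleCat.{v} K) = Module.finrank K (H n) := by
    rw [hctop]
    exact (asIso ((⊤ : Subobject (H n)).arrow)).toLinearEquiv.finrank_eq
  have hres : ∑ p ∈ Finset.Icc (0 : ℤ) n, Module.finrank K (SpSeq.grPiece (a.fil n) (a.anti n) p : ModuleCat.{v} K) =
      ∑ p ∈ Finset.Ico c d, Module.finrank K (SpSeq.grPiece (a.fil n) (a.anti n) p : ModuleCat.{v} K) := by
    refine Finset.sum_subset (fun p hp => ?_) (fun p hp hp' => finrank_isZero (hgr0 p ?_))
    · rw [Finset.mem_Icc] at hp; rw [Finset.mem_Ico]; simp only [c, d]; omega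
    · rw [Finset.mem_Icc] at hp'; omega
  have heq : ∀ p ∈ Finset.Icc (0 : ℤ) n,
      Module.finrank K ((E.page (a.rk (p, n - p)) (a.stat _).1).X (p, n - p)) =
        Module.finrank K ((E.page r₀ le_rfl).X (p, n - p)) := by
    refine (Finset.sum_eq_sum_iff_of_le fun p _ => (hstep _ _ _).2).1 ?_
    rw [hsum, ← Finset.sum_congr rfl (fun p _ => hgr p), hres]
    omega
  intro s
  by_cases hs : s < 0 ∨ n < s
  · exact hz _ (hquad _ (by simp; omega))
  refine ⟨le_rfl, fun r h₀ _ => ?_⟩
  by_cases hr : a.rk (s, n - s) ≤ r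
  · exact (a.stat (s, n - s)).2 r h₀ hr
  have h1 := heq s (Finset.mem_Icc.2 (by omega))
  have h2 := hmono (s, n - s) (r + 1) (by omega) (a.rk (s, n - s)) (by omega)
  have h3 := (hstep (s, n - s) r h₀).2
  haveI : Module.Finite K ((E.page r h₀).sc (s, n - s)).X₂ := (hstep (s, n - s) r h₀).1
  obtain ⟨-, g2, g3⟩ := finite_homology_le ((E.page r h₀).sc (s, n - s))
  have h4 := (E.iso r (r + 1) (s, n - s) rfl h₀).toLinearEquiv.finrank_eq
  obtain ⟨hf, hg⟩ := g3 (by
    change Module.finrank K ((E.page r h₀).homology (s, n - s)) = Module.finrank K ((E.page r h₀).X (s, n - s))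
    change Module.finrank K ((E.page r h₀).homology (s, n - s)) ≤ Module.finrank K ((E.page r h₀).X (s, n - s)) at g2
    omega)
  have hprev : (ComplexShape.up' (⟨r, 1 - r⟩ : ℤ × ℤ)).prev (s, n - s) = (s, n - s) - (r, 1 - r) :=
    ComplexShape.prev_eq' _ (by simp)
  have hnext : (ComplexShape.up' (⟨r, 1 - r⟩ : ℤ × ℤ)).next (s, n - s) = (s, n - s) + (r, 1 - r) :=
    ComplexShape.next_eq' _ (by simp)
  exact ⟨hprev ▸ hf, hnext ▸ hg⟩

end Groth.Agent.S19322
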