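import Groth.Statements.S19323
import Groth.Agent.S8355

set_option autoImplicit false
universe v u
open CategoryTheory CategoryTheory.Limits
open SpSeq

namespace Groth.Agent.S19323

lemma mono_homologyMap_of_zeros {C : Type u} [Category.{v} C] [Abelian C] {S T : ShortComplex C}
    (φ : S ⟶ T) (h1 : S.f = 0) (h2 : S.g = 0) (h3 : T.f = 0) (h4 : T.g = 0) [Mono φ.τ₂] :
    Mono (ShortComplex.homologyMap φ) := by
  have := S.isIso_homologyπ h1
  have := S.isIso_iCycles h2
  have := T.isIso_homologyπ h3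
  have := T.isIso_iCycles h4
  have hm : Mono (ShortComplex.cyclesMap φ) := by
    have : ShortComplex.cyclesMap φ = S.iCycles ≫ φ.τ₂ ≫ inv T.iCycles := by
      rw [← ShortComplex.cyclesMap_i_assoc, IsIso.hom_inv_id, Category.comp_id]
    rw [this]; infer_instance
  have : ShortComplex.homologyMap φ = inv S.homologyπ ≫ ShortComplex.cyclesMap φ ≫ T.homologyπ := by
    rw [← ShortComplex.homologyπ_naturality, IsIso.inv_hom_id_assoc]
  rw [this]; infer_instance


/-- In an abelian category let E and E' be first-quadrant E₂ cohomological spectral sequences and φ : E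
⟶ E' a morphism of spectral sequences such that (i) every differential of E' leaving a position
whose first coordinate is nonzero vanishes, (ii) on every page the map φ at each position followed
by the outgoing differential of E' is zero, and (iii) φ is a monomorphism at every position of page
2. Then E degenerates at page 2. -/
theorem result
    {C : Type u} [Category.{v} C] [Abelian C]
    (E E' : E₂CohomologicalSpectralSequence C) (φ : E ⟶ E')
    (hE : ∀ pq : ℤ × ℤ, pq.1 < 0 ∨ pq.2 < 0 → IsZero ((E.page 2 le_rfl).X pq))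
    (hE' : ∀ pq : ℤ × ℤ, pq.1 < 0 ∨ pq.2 < 0 → IsZero ((E'.page 2 le_rfl).X pq))
    (hd' : ∀ (r : ℤ) (hr : 2 ≤ r) (pq : ℤ × ℤ), pq.1 ≠ 0 →
      (E'.page r hr).d pq (pq + (r, 1 - r)) = 0)
    (hφd : ∀ (r : ℤ) (hr : 2 ≤ r) (pq : ℤ × ℤ),
      (φ.hom r hr).f pq ≫ (E'.page r hr).d pq (pq + (r, 1 - r)) = 0)
    (hmono : ∀ pq : ℤ × ℤ, Mono ((φ.hom 2 le_rfl).f pq)) :
    SpSeq.Degenerates E 2 := by
  have hd : ∀ (r : ℤ) (hr : 2 ≤ r) (pq : ℤ × ℤ),
      (∀ x : ℤ × ℤ, r ≤ x.1 → Mono ((φ.hom r hr).f x)) →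
      ∀ pq', (E.page r hr).d pq pq' = 0 := by
    intro r hr pq hm pq'
    by_cases hrel : pq + (r, 1 - r) = pq'
    swap
    · exact (E.page r hr).shape _ _ hrel
    subst hrel
    by_cases hp : pq.1 < 0
    · exact ((Groth.Agent.S8355.result E 2 le_rfl pq (hE pq (Or.inl hp))).1 r hr).eq_of_src _ _
    · have := hm (pq + (r, 1 - r)) (by simp; omega)
      rw [← cancel_mono ((φ.hom r hr).f (pq + (r, 1 - r))), zero_comp, ← (φ.hom r hr).comm, hφd]
  have hm : ∀ (r : ℤ) (hr : 2 ≤ r) (x : ℤ × ℤ), r ≤ x.1 → Mono ((φ.hom r hr).f x) := by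
    intro r hr
    induction r, hr using Int.le_induction with
    | base => exact fun x _ => hmono x
    | succ r hr ih =>
      intro x hx
      have := ih x (by omega)
      have h1 : (E.page r hr).d ((ComplexShape.up' (⟨r, 1 - r⟩ : ℤ × ℤ)).prev x) x = 0 := hd r hr _ ih _
      have h2 : (E.page r hr).d x ((ComplexShape.up' (⟨r, 1 - r⟩ : ℤ × ℤ)).next x) = 0 := hd r hr _ ih _
      have hprev : (ComplexShape.up' (⟨r, 1 - r⟩ : ℤ × ℤ)).prev x = x - (r, 1 - r) :=
        ComplexShape.prev_eq' _ (by simp)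
      have hnext : (ComplexShape.up' (⟨r, 1 - r⟩ : ℤ × ℤ)).next x = x + (r, 1 - r) :=
        ComplexShape.next_eq' _ (by simp)
      have h3 : (E'.page r hr).d ((ComplexShape.up' (⟨r, 1 - r⟩ : ℤ × ℤ)).prev x) x = 0 := by
        rw [hprev]
        have := hd' r hr (x - (r, 1 - r)) (by simp; omega)
        rwa [sub_add_cancel] at this
      have h4 : (E'.page r hr).d x ((ComplexShape.up' (⟨r, 1 - r⟩ : ℤ × ℤ)).next x) = 0 := by
        rw [hnext]; exact hd' r hr x (by omega)
      have hM : Mono (HomologicalComplex.homologyMap (φ.hom r hr) x) := by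
        haveI : Mono ((HomologicalComplex.shortComplexFunctor C _ x).map (φ.hom r hr)).τ₂ := this
        exact mono_homologyMap_of_zeros _ h1 h2 h3 h4
      have e : (φ.hom (r + 1) (by omega)).f x = (E.iso r (r + 1) x rfl hr).inv ≫
          HomologicalComplex.homologyMap (φ.hom r hr) x ≫ (E'.iso r (r + 1) x rfl hr).hom := by
        rw [φ.comm r (r + 1) x rfl hr, Iso.inv_hom_id_assoc]
      rw [e]; infer_instance
  exact ⟨le_rfl, fun r h₀ _ pq pq' => hd r h₀ pq (hm r h₀) pq'⟩

end Groth.Agent.S19323
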