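import Groth.Statements.S19331
import Groth.Agent.ModPairLib95.FiniteExtend

set_option autoImplicit false
universe u
open CategoryTheory CategoryTheory.Limits AlgebraicGeometry TopologicalSpace
open ModPair

namespace Groth.Agent.S19331

set_option backward.isDefEq.respectTransparency false
set_option backward.isDefEq.respectTransparency.types false

/-- Let (S, I) be a modulus pair, i.e. a scheme with the quasi-coherent ideal sheaf of an effective
Cartier divisor, with S quasi-compact and quasi-separated and with interior U, and let t₀ : T₀ ⟶ U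
be a finite surjective morphism. Then there are a finite surjective morphism t : T ⟶ S such that the
pulled-back modulus I.comap t is again the ideal sheaf of an effective Cartier divisor, making T ⟶ S
a minimal morphism of modulus pairs, and an open immersion j : T₀ ⟶ T with image t⁻¹(U) and j ≫ t =
t₀ ≫ (U ⟶ S), so that t₀ is the interior of t. -/
theorem result {S : Scheme.{u}}
    [CompactSpace S] [QuasiSeparatedSpace S] (I : S.IdealSheafData)
    (hI : BlowUp.IsEffCartierIdeal I) {T₀ : Scheme.{u}}
    (t₀ : T₀ ⟶ (ModPair.interior I : Scheme.{u})) [IsFinite t₀] [Surjective t₀] :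
    ∃ (T : Scheme.{u}) (t : T ⟶ S) (j : T₀ ⟶ T), IsFinite t ∧ Surjective t ∧
      BlowUp.IsEffCartierIdeal (I.comap t) ∧ IsOpenImmersion j ∧
      Set.range j.base = t.base ⁻¹' (ModPair.interior I : Set S) ∧
      j ≫ t = t₀ ≫ (ModPair.interior I).ι := by
  let U := ModPair.interior I
  haveI := ModPairLib.isAffineHom_interior (ModPairLib.isLocPrincipal_of_isEffCartier hI)
  haveI := ModPairLib.isSchemeTheoreticallyDominant_interior hI
  have hU : IsCompact (U : Set S) := by
    rw [← Scheme.Opens.range_ι U]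
    haveI : CompactSpace (U : Scheme.{u}) := QuasiCompact.compactSpace_of_compactSpace U.ι
    exact isCompact_range U.ι.continuous
  obtain ⟨T₁, t₁, j₁, ht₁, hj₁, hp⟩ := Groth.Agent.ModPairLib95.exists_finite_extend U hU t₀
  let V : T₁.Opens := t₁ ⁻¹ᵁ U
  have hrange : ∀ v : T₁, v ∈ V → ∃ x, j₁ x = v := fun v hv => by
    obtain ⟨x, -, hx⟩ := Scheme.exists_preimage_of_isPullback hp (⟨t₁ v, hv⟩ : U.toScheme) v rfl
    exact ⟨x, hx⟩
  haveI : QuasiCompact V.ι := MorphismProperty.of_isPullback (P := @QuasiCompact)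
    (isPullback_morphismRestrict t₁ U) (inferInstanceAs (QuasiCompact U.ι))
  have hj₁V : Set.range j₁ ⊆ Set.range V.ι := by
    rw [Scheme.Opens.range_ι]
    rintro _ ⟨x, rfl⟩
    show t₁ (j₁ x) ∈ U
    have h := congr($(hp.w) x)
    exact h ▸ (t₀ x).2
  let e := IsOpenImmersion.lift V.ι j₁ hj₁V
  have he : e ≫ V.ι = j₁ := IsOpenImmersion.lift_fac _ _ _
  haveI : IsOpenImmersion e := by
    haveI : IsOpenImmersion (e ≫ V.ι) := by rw [he]; infer_instance
    exact IsOpenImmersion.of_comp e V.ι
  haveI : Surjective e := ⟨fun v => by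
    obtain ⟨x, hx⟩ := hrange v.1 v.2
    refine ⟨x, V.ι.isOpenEmbedding.injective ?_⟩
    rw [← Scheme.Hom.comp_apply, he]; exact hx⟩
  haveI : IsOpenImmersion V.ι.toImage := by
    have hp' : IsPullback (𝟙 _) V.ι.toImage V.ι V.ι.imageι :=
      IsPullback.of_isLimit (c := PullbackCone.mk (𝟙 _) V.ι.toImage (by simp))
        (PullbackCone.IsLimit.mk _ (fun s => s.fst) (fun s => by simp)
          (fun s => by rw [← cancel_mono V.ι.imageι, Category.assoc, Scheme.Hom.toImage_imageι, s.condition])
          (fun s m h₁ _ => by simpa using h₁))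
    exact MorphismProperty.of_isPullback (P := @IsOpenImmersion) hp' inferInstance
  let t : V.ι.image ⟶ S := V.ι.imageι ≫ t₁
  have hj : (e ≫ V.ι.toImage) ≫ t = t₀ ≫ U.ι := by
    show (e ≫ V.ι.toImage) ≫ V.ι.imageι ≫ t₁ = _
    rw [Category.assoc, Scheme.Hom.toImage_imageι_assoc, ← Category.assoc, he]
    exact hp.w.symm
  have hjr : Set.range (e ≫ V.ι.toImage).base = t.base ⁻¹' (U : Set S) := by
    ext z
    constructor
    · rintro ⟨x, rfl⟩
      show t ((e ≫ V.ι.toImage) x) ∈ U
      rw [← Scheme.Hom.comp_apply, hj]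
      exact (t₀ x).2
    · intro hz
      obtain ⟨x, hx⟩ := hrange (V.ι.imageι z) hz
      refine ⟨x, V.ι.imageι.isClosedEmbedding.injective ?_⟩
      show V.ι.imageι ((e ≫ V.ι.toImage) x) = _
      rw [← Scheme.Hom.comp_apply, Category.assoc, Scheme.Hom.toImage_imageι, he, hx]
  haveI : IsFinite t := inferInstance
  refine ⟨V.ι.image, t, e ≫ V.ι.toImage, inferInstance, ?_, ?_, inferInstance, hjr, hj⟩
  · refine ⟨Set.range_eq_univ.mp (Set.eq_univ_of_univ_subset ?_)⟩
    rw [← U.ι.denseRange.closure_eq]
    refine closure_minimal ?_ t.isClosedMap.isClosed_range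
    rintro _ ⟨u, rfl⟩
    obtain ⟨x, hx⟩ := t₀.surjective u
    refine ⟨(e ≫ V.ι.toImage) x, ?_⟩
    rw [← Scheme.Hom.comp_apply, hj, Scheme.Hom.comp_apply, hx]
  · haveI := ModPairLib.isSchemeTheoreticallyDominant_image V
    haveI := ModPairLib.quasiCompact_image V
    refine ModPairLib.isEffCartier_of_dense
      ((ModPairLib.isLocPrincipal_of_isEffCartier hI).comap t) (V.ι.imageι ⁻¹ᵁ V) ?_
    exact le_of_eq (ModPairLib.preimage_interior I t)

end Groth.Agent.S19331
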