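import Groth.Statements.S19336
import Groth.Agent.BlowUp95.Separate

set_option autoImplicit false
universe u
open CategoryTheory CategoryTheory.Limits AlgebraicGeometry TopologicalSpace
open ModPair

namespace Groth.Agent.S19336

/-- Let (S, I) be a modulus pair, i.e. a scheme S with the quasi-coherent ideal sheaf I of an effective
Cartier divisor, with S quasi-compact and quasi-separated and with interior U, and let (V_i) be a
covering of U by quasi-compact open subsets. Then there are a quasi-coherent ideal sheaf F of finite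
type on S whose support is disjoint from U, a blow-up b : Y ⟶ S of S in F (an admissible blow-up)
such that I.comap b is again the ideal sheaf of an effective Cartier divisor, and a covering of Y by
quasi-compact open subsets W_j such that each W_j ∩ b⁻¹(U) is contained in b⁻¹(V_i) for some i: the
Zariski covering of the interior extends, after an admissible blow-up, to a Zariski covering of the
total space. -/
theorem result {S : Scheme.{u}}
    [CompactSpace S] [QuasiSeparatedSpace S] (I : S.IdealSheafData)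
    (hI : BlowUp.IsEffCartierIdeal I) {ι : Type u} (V : ι → S.Opens)
    (hVU : ∀ i, V i ≤ ModPair.interior I) (hVqc : ∀ i, IsCompact (V i : Set S))
    (hcov : ModPair.interior I ≤ ⨆ i, V i) :
    ∃ (F : S.IdealSheafData) (Y : Scheme.{u}) (b : Y ⟶ S) (κ : Type u) (W : κ → Y.Opens),
      BlowUp.IsAdmissibleFor (ModPair.interior I) F ∧ BlowUp.IsBlowUp b F ∧
        BlowUp.IsEffCartierIdeal (I.comap b) ∧ (∀ k, IsCompact (W k : Set Y)) ∧
        (⨆ k, W k) = ⊤ ∧ ∀ k, ∃ i, W k ⊓ b ⁻¹ᵁ ModPair.interior I ≤ b ⁻¹ᵁ V i := by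
  classical
  have hI' := ModPairLib.isLocPrincipal_of_isEffCartier hI
  have := ModPairLib.isAffineHom_interior hI'
  have : CompactSpace (ModPair.interior I).toScheme :=
    QuasiCompact.compactSpace_of_compactSpace (ModPair.interior I).ι
  have hUc : IsCompact (ModPair.interior I : Set S) :=
    isCompact_iff_compactSpace.mpr this
  obtain ⟨t, ht⟩ := hUc.elim_finite_subcover (fun i ↦ (V i : Set S)) (fun i ↦ (V i).2)
    (fun x hx ↦ by simpa using TopologicalSpace.Opens.mem_iSup.1 (hcov hx))
  choose J hJfg hJ using fun i ↦ Groth.Agent.BlowUp95.exists_fg_ideal_support ((V i : Set S)ᶜ)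
    (V i).2.isClosed_compl (by rw [compl_compl]; exact hVqc i)
  set F := ⨆ i : t, J i with hFdef
  have hFsupp : (F.support : Set S) = (ModPair.interior I : Set S)ᶜ := by
    ext x
    rw [hFdef, Scheme.IdealSheafData.support_iSup, TopologicalSpace.Closeds.coe_iInf, Set.mem_iInter]
    simp only [hJ, Set.mem_compl_iff, SetLike.mem_coe]
    refine ⟨fun h hx ↦ ?_, fun h i hx ↦ h (hVU _ hx)⟩
    obtain ⟨i, hi, hxi⟩ := Set.mem_iUnion₂.1 (ht hx)
    exact h ⟨i, hi⟩ hxi
  have hFfg : BlowUp.IsFiniteTypeIdeal F := fun U ↦ by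
    rw [hFdef, Scheme.IdealSheafData.ideal_iSup, iSup_apply]
    exact Submodule.fg_iSup _ fun i ↦ hJfg i U
  obtain ⟨Y, b, hb⟩ := Groth.Agent.BlowUpLib.exists_blowUp (C := F)
  have hE := ModPairLib.isLocPrincipal_of_isEffCartier hb.1
  set E := F.comap b with hEdef
  let Q : ι → Y.IdealSheafData := fun i ↦ ModPairLib.colon ((J i).comap b) E hE
  have hQE (i : t) : Q i * E = (J i).comap b :=
    ModPairLib.colon_mul hb.1 (Groth.Agent.BlowUp95.le_sup_comap b (le_iSup (fun i : t ↦ J i) i))
  have htop : ⨆ i : t, Q i = ⊤ := by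
    refine top_le_iff.1 (ModPairLib.le_of_mul_le_mul hb.1 ?_)
    calc ⊤ * E ≤ E := Groth.Agent.BlowUp95.top_mul_le E
      _ = ⨆ i : t, (J i).comap b := (Scheme.IdealSheafData.map_gc b).l_iSup
      _ ≤ (⨆ i : t, Q i) * E := iSup_le fun i ↦ (hQE i).ge.trans
          (Groth.Agent.BlowUp95.mul_le_mul' (le_iSup (fun i : t ↦ Q i) i) le_rfl)
  have hint : ∀ y, y ∈ ModPair.interior E ↔ b y ∈ ModPair.interior I := fun y ↦ by
    show y ∉ (E.support : Set Y) ↔ _
    rw [hEdef, Scheme.IdealSheafData.support_comap]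
    show ¬ (b y ∈ (F.support : Set S)) ↔ _
    rw [hFsupp]
    exact not_not
  let κ := {W : Y.affineOpens // ∃ i : t, W.1 ≤ (Q i).support.compl}
  refine ⟨F, Y, b, κ, fun k ↦ k.1.1, ⟨hFfg, ?_⟩, hb, ?_, fun k ↦ k.1.2.isCompact, ?_, ?_⟩
  · rw [hFsupp]; exact disjoint_compl_left
  · have := ModPairLib.isSchemeTheoreticallyDominant_interior hb.1
    have := ModPairLib.isAffineHom_interior hE
    refine ModPairLib.isEffCartier_of_dense (hI'.comap b) (ModPair.interior E) fun y hy ↦ ?_
    rw [← ModPairLib.preimage_interior]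
    exact (hint y).1 hy
  · refine top_unique fun y _ ↦ ?_
    have : ∃ i : t, y ∈ (Q i).support.compl := by
      by_contra hno
      simp only [not_exists] at hno
      have h1 : y ∈ ((⨆ i : t, Q i).support : Set Y) := by
        rw [Scheme.IdealSheafData.support_iSup, TopologicalSpace.Closeds.coe_iInf, Set.mem_iInter]
        exact fun i ↦ not_not.1 (hno i)
      rw [htop, Scheme.IdealSheafData.support_top] at h1
      exact h1
    obtain ⟨i, hi⟩ := this
    obtain ⟨_, ⟨W, hW, rfl⟩, hyW, hWQ⟩ := Y.isBasis_affineOpens.exists_subset_of_mem_open hi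
      (Q i).support.compl.2
    exact TopologicalSpace.Opens.mem_iSup.2 ⟨⟨⟨W, hW⟩, i, hWQ⟩, hyW⟩
  · rintro ⟨W, i, hWi⟩
    refine ⟨i, fun y hy ↦ ?_⟩
    by_contra hyV
    have h1 : y ∈ ((Q i * E).support : Set Y) := by
      rw [hQE, Scheme.IdealSheafData.support_comap]
      show b y ∈ ((J i).support : Set S)
      rw [hJ]
      exact hyV
    rw [Scheme.IdealSheafData.support_mul] at h1
    exact h1.elim (hWi hy.1) ((hint y).2 hy.2)

end Groth.Agent.S19336
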