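import Groth.Statements.S19339
import Groth.Agent.ModPairLib95.EtaleResidue

set_option autoImplicit false
universe u
open CategoryTheory CategoryTheory.Limits AlgebraicGeometry TopologicalSpace
open ModPair

open TensorProduct

namespace Groth.Agent.S19339

set_option backward.isDefEq.respectTransparency false
set_option backward.isDefEq.respectTransparency.types false

/-- Let X be a scheme and (w_j : W_j ⟶ X) an fppf covering, i.e. a jointly surjective family of
morphisms each of which is flat and of finite presentation (locally of finite presentation,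
quasi-compact and quasi-separated). Then it is refined by a family of composites V_k ⟶ U_k ⟶ X in
which the u_k : U_k ⟶ X are étale morphisms such that every point of X is the image of a point of
some U_k with trivial residue field extension, and the v_k : V_k ⟶ U_k are finite, flat and
surjective: each composite v_k ≫ u_k factors through some w_j. (The covering condition on the family
(u_k) is stated here pointwise, every point lifting to some U_k with the same residue field; a
Nisnevich covering in the stronger sense with members of finite presentation and a finite splitting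
stratification is not asserted.) -/
theorem result {X : Scheme.{u}}
    {ι : Type u} (W : ι → Scheme.{u}) (w : ∀ j, W j ⟶ X)
    (hw : Presieve.ofArrows W w ∈
      Scheme.precoverage (@Flat ⊓ @LocallyOfFinitePresentation ⊓ @QuasiCompact ⊓ @QuasiSeparated) X) :
    ∃ (κ : Type u) (U V : κ → Scheme.{u}) (u : ∀ k, U k ⟶ X) (v : ∀ k, V k ⟶ U k),
      (∀ k, Etale (u k)) ∧
        (∀ x : X, ∃ (k : κ) (y : U k), (u k).base y = x ∧ IsIso ((u k).residueFieldMap y)) ∧
        (∀ k, IsFinite (v k) ∧ Flat (v k) ∧ Surjective (v k)) ∧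
        ∀ k, ∃ (j : ι) (r : V k ⟶ W j), r ≫ w j = v k ≫ u k := by
  open Groth.Agent in
  obtain ⟨hcov, hP⟩ := (Scheme.ofArrows_mem_precoverage_iff _).mp hw
  choose j hj using hcov
  choose z hz using hj
  have key : ∀ x : X, ∃ (U V : Scheme.{u}) (u : U ⟶ X) (v : V ⟶ U) (r : V ⟶ W (j x)),
      Etale u ∧ (∃ y : U, u.base y = x ∧ IsIso (u.residueFieldMap y)) ∧
        (IsFinite v ∧ Flat v ∧ Surjective v) ∧ r ≫ w (j x) = v ≫ u := by
    intro x
    obtain ⟨⟨⟨h1, h2⟩, h3⟩, h4⟩ := hP (j x)
    obtain ⟨D, hD, hxD, -⟩ := exists_isAffineOpen_mem_and_subset (X := X) (U := ⊤) (x := x) trivial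
    obtain ⟨U, hU, hzU, hUD⟩ := exists_isAffineOpen_mem_and_subset (U := w (j x) ⁻¹ᵁ D) (x := z x)
      (show w (j x) (z x) ∈ D by rw [hz x]; exact hxD)
    letI : Algebra Γ(X, D) Γ(W (j x), U) := ((w (j x)).appLE D U hUD).hom.toAlgebra
    haveI : Module.Flat Γ(X, D) Γ(W (j x), U) :=
      HasRingHomProperty.appLE @Flat (w (j x)) inferInstance ⟨D, hD⟩ ⟨U, hU⟩ hUD
    haveI : Algebra.FinitePresentation Γ(X, D) Γ(W (j x), U) :=
      HasRingHomProperty.appLE @LocallyOfFinitePresentation (w (j x)) inferInstance ⟨D, hD⟩ ⟨U, hU⟩ hUD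
    let q : PrimeSpectrum Γ(W (j x), U) := hU.primeIdealOf ⟨z x, hzU⟩
    obtain ⟨h, hh, hff⟩ := PerfMor.exists_ff_away Γ(X, D) Γ(W (j x), U) q
    haveI := hff
    let Bh := Localization.Away h
    let p : Ideal Γ(X, D) := q.asIdeal.comap (algebraMap Γ(X, D) Γ(W (j x), U))
    have hd : Disjoint (Submonoid.powers h : Set Γ(X, D)) p :=
      (Ideal.disjoint_powers_iff_notMem_of_isPrime _).2 hh
    haveI hpr : (p.map (algebraMap Γ(X, D) Bh)).IsPrime :=
      IsLocalization.isPrime_of_isPrime_disjoint (Submonoid.powers h) _ _ inferInstance hd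
    obtain ⟨C, _, _, P, hPp', T, _, _, j₀, hE, hPp, hres, hT1, hT3, hT4, hj₀⟩ :=
      ModPairLib95.exists_etale_resTriv Bh (Bh ⊗[Γ(X, D)] Γ(W (j x), U)) (p.map (algebraMap Γ(X, D) Bh))
    haveI := hE
    haveI := hT1
    haveI := hT3
    haveI := hT4
    haveI := hPp'
    haveI : IsOpenImmersion hD.fromSpec := hD.isOpenImmersion_fromSpec
    let φ : Γ(X, D) ⟶ CommRingCat.of C :=
      CommRingCat.ofHom (algebraMap Γ(X, D) Bh) ≫ CommRingCat.ofHom (algebraMap Bh C)
    haveI : Etale (Spec.map φ) := by
      haveI : Etale (Spec.map (CommRingCat.ofHom (algebraMap Bh C))) := by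
        rw [HasRingHomProperty.Spec_iff (P := @Etale), CommRingCat.hom_ofHom, RingHom.etale_algebraMap]
        infer_instance
      haveI : IsOpenImmersion (Spec.map (CommRingCat.ofHom (algebraMap Γ(X, D) Bh))) :=
        IsOpenImmersion.of_isLocalization h
      rw [Spec.map_comp]
      infer_instance
    obtain ⟨g1, g2, g3, -⟩ := FppfRefine.specMap_props C T
    let J : Γ(W (j x), U) →+* T :=
      j₀.comp (Algebra.TensorProduct.includeRight (R := Γ(X, D)) (A := Bh) (B := Γ(W (j x), U))).toRingHom
    refine ⟨Spec (CommRingCat.of C), Spec (CommRingCat.of T), Spec.map φ ≫ hD.fromSpec,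
      Spec.map (CommRingCat.ofHom (algebraMap C T)), Spec.map (CommRingCat.ofHom J) ≫ hU.fromSpec,
      inferInstance, ⟨(⟨P, hPp'⟩ : PrimeSpectrum C), ?_, ?_⟩, ⟨g2, g3, g1⟩, ?_⟩
    · have h5 : Spec.map φ (⟨P, hPp'⟩ : PrimeSpectrum C) = hD.primeIdealOf ⟨w (j x) (z x), hUD hzU⟩ := by
        apply PrimeSpectrum.ext
        show (P.comap (algebraMap Bh C)).comap (algebraMap Γ(X, D) Bh) = _
        rw [hPp]
        exact (IsLocalization.comap_map_of_isPrime_disjoint (Submonoid.powers h) Bh inferInstance hd).trans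
          (congrArg PrimeSpectrum.asIdeal
            (IsAffineOpen.comap_primeIdealOf_appLE (f := w (j x)) D hD U hU hUD hzU))
      show hD.fromSpec (Spec.map φ (⟨P, hPp'⟩ : PrimeSpectrum C)) = x
      rw [h5, hD.fromSpec_primeIdealOf]
      exact hz x
    · haveI : IsIso ((Spec.map φ).residueFieldMap (⟨P, hPp'⟩ : PrimeSpectrum C)) :=
        ModPairLib95.isIso_residueFieldMap_specMap φ _
          (ModPairLib95.ResTriv.comp hres (ModPairLib95.resTriv_localization h _))
      rw [Scheme.residueFieldMap_comp]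
      infer_instance
    · rw [Category.assoc, ← IsAffineOpen.SpecMap_appLE_fromSpec (w (j x)) hD hU hUD,
        ← Spec.map_comp_assoc, ← Spec.map_comp_assoc]
      congr 2
      ext b
      show J (algebraMap Γ(X, D) Γ(W (j x), U) b) = algebraMap C T (algebraMap Bh C (algebraMap Γ(X, D) Bh b))
      have h8 := RingHom.congr_fun hj₀ (algebraMap Γ(X, D) Bh b)
      simp only [J, RingHom.comp_apply, AlgHom.toRingHom_eq_coe, RingHom.coe_coe, AlgHom.commutes] at h8 ⊢
      rw [IsScalarTower.algebraMap_apply Γ(X, D) Bh (Bh ⊗[Γ(X, D)] Γ(W (j x), U))]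
      exact h8
  choose U V u v r hu hy hv hr using key
  exact ⟨X, U, V, u, v, hu, fun x => ⟨x, hy x⟩, hv, fun x => ⟨j x, r x, hr x⟩⟩

end Groth.Agent.S19339
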