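import Groth.Statements.S19352
import Groth.Agent.SurfInt.Sections
import Groth.Agent.CurveCohLib.Clifford
import Groth.Agent.CurveCohLib.Rank

set_option autoImplicit false
set_option linter.style.haveILetI false
set_option linter.unusedSectionVars false
set_option backward.isDefEq.respectTransparency false
set_option backward.isDefEq.respectTransparency.types false
universe u
open CategoryTheory CategoryTheory.Limits AlgebraicGeometry
open Surf

namespace Groth.Agent.S19352

/-- Let k be an algebraically closed field and X a nonsingular projective surface over k, namely an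
integral scheme, smooth over k, of dimension two, given with a closed immersion ι into a projective
space P^n_k over k, and let H = ι^* O(1) be the invertible module of a hyperplane section. If L is
an invertible O_X-module (the module of a divisor D) with dim_k H^0(X, L) > 1, then (L·H) > 0. Here
(A·B) denotes the intersection number of two invertible modules, the alternating sum χ(O_X) − χ(A) −
χ(B) + χ(A ⊗ B) of Euler characteristics (cohomology in degrees at most two); for two invertible
modules this agrees with the same sum formed from their inverses. -/
theorem result (k : Type u) [Field k] [IsAlgClosed k]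
    (X : Scheme.{u}) [X.Over (Spec (CommRingCat.of k))] [AlgebraicGeometry.IsIntegral X]
    [Smooth (X ↘ Spec (CommRingCat.of k))] (hdim : topologicalKrullDim X = 2)
    (n : ℕ) (ι : X ⟶ CohB1.ProjSpace n k) [IsClosedImmersion ι]
    (hι : ι ≫ CohB1.ProjSpace.toSpec n k = X ↘ Spec (CommRingCat.of k))
    (L : X.Modules) (hL : PicF.IsInvertible L)
    (hsec : 1 < Module.finrank k (Coh.HH X L 0)) :
    0 < FGA.intNum k X 2 ![L, (Scheme.Modules.pullback ι).obj (Twist.twistProjSpace n k 1)] (Coh.structureModule X) := by
  open Groth.Agent in
  haveI : IsProper (X ↘ Spec (CommRingCat.of k)) := SurfInt.isProper_of_proj k ⟨n, ι, inferInstance, hι⟩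
  have hH := SurfInt.isAmple_pullback_O1 ι
  haveI : Nontrivial (Coh.HH X L 0) := Module.nontrivial_of_finrank_pos (R := k) (by omega)
  obtain ⟨s, hs⟩ := SurfInt.exists_section_ne_zero (F := L) inferInstance
  obtain ⟨hc, -⟩ := SurfInt.isInverseOf_zeroScheme hL s hs
  have hne : PicF2.zeroScheme L s ≠ ⊤ := fun h => by
    obtain ⟨e⟩ := SurfInt.nonempty_iso_of_zeroScheme_eq_top hL s hs h
    rw [(CurveCohLib.hhEquiv (k := k) e 0).finrank_eq, CurveCohLib.Clifford.finrank_h0_structure k] at hsec
    omega
  show 0 < SurfInt.dot k L _
  rw [SurfInt.dot_section_eq k hdim.le hL hH.1 s hs]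
  exact SurfInt.degOn_effCartier_ample_pos k hdim hc hne hH

end Groth.Agent.S19352
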