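import Groth.Statements.S1936
import Groth.Agent.S1341
import Groth.Agent.S1342
import Groth.Agent.Triage.CMMor
import Groth.Agent.GrpdLib.Affine
import Mathlib.AlgebraicGeometry.Morphisms.UniversallyOpen

set_option autoImplicit false
set_option backward.isDefEq.respectTransparency false
set_option backward.isDefEq.respectTransparency.types false
universe u
open CategoryTheory CategoryTheory.Limits AlgebraicGeometry
open Grpd

namespace Groth.Agent.S1936

/-- Let (U, R, s, t, c) be a groupoid scheme over S with s, t flat and locally of finite presentation.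
There is an open U' ⊆ U such that t⁻¹(U') is exactly the set of points of R at which s is
Cohen–Macaulay, s⁻¹(U') is exactly the set of points at which t is Cohen–Macaulay, and both t
restricted to s⁻¹(U') and s restricted to t⁻¹(U') are surjective onto U. (Part (5), that the
restriction of R to U' is a groupoid with Cohen–Macaulay s', t', then follows and is not restated.)
Cohen–Macaulay at a point: flat there with Cohen–Macaulay fibre local ring (Grpd.IsCMAt). (A
groupoid scheme carries U, R, s, t, c, e, i over S with the groupoid axioms on T-points; 'finite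
locally free' is finite, flat and locally of finite presentation; C ⊂ Γ(U) is the ring of functions
a with s♯(a) = t♯(a) and M = Spec C.) -/
theorem result (S : Scheme.{u}) (G : Grpd.GroupoidScheme S) [Flat G.s] [LocallyOfFinitePresentation G.s] [Flat G.t] [LocallyOfFinitePresentation G.t] : ∃ U' : G.U.Opens, (G.t ⁻¹ᵁ U' : Set G.R) = {r | Grpd.IsCMAt G.s r} ∧ (G.s ⁻¹ᵁ U' : Set G.R) = {r | Grpd.IsCMAt G.t r} ∧ ⇑G.t '' (G.s ⁻¹ᵁ U' : Set G.R) = Set.univ ∧ ⇑G.s '' (G.t ⁻¹ᵁ U' : Set G.R) = Set.univ := by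
  have hiff : ∀ {X Y : Scheme.{u}} (f : X ⟶ Y) (x : X), Grpd.IsCMAt f x ↔ MoreMor.IsCMAt f x := fun f x => by
    rw [Groth.Agent.Triage.CMMor.isCMAt_iff]
    exact Iff.rfl
  have hbc : ∀ {X Y X' Y' : Scheme.{u}} (f : X ⟶ Y) [Flat f] [LocallyOfFinitePresentation f] (f' : X' ⟶ Y')
      (g' : X' ⟶ X) (g : Y' ⟶ Y), IsPullback g' f' f g → ∀ x' : X', MoreMor.IsCMAt f' x' ↔ MoreMor.IsCMAt f (g' x') :=
    fun f _ _ f' g' g hc x' => Set.ext_iff.1 (Groth.Agent.S1342.result f f' g' g hc) x'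
  let W : Set G.R := {r | MoreMor.IsCMAt G.s r}
  have hW : IsOpen W := (Groth.Agent.S1341.result G.s).1
  have hne : ∀ u : G.U, ∃ r ∈ W, G.s r = u := fun u => by
    have hsu : G.s (G.e u) = u := by rw [← Scheme.Hom.comp_apply, G.e_s]; rfl
    have : Nonempty (G.s.fiber u) := ⟨hsu ▸ G.s.asFiber (G.e u)⟩
    obtain ⟨z, hz⟩ := ((Groth.Agent.S1341.result G.s).2 u).nonempty
    exact ⟨G.s.fiberι u z, hz, (G.s.range_fiberι u).subset ⟨z, rfl⟩⟩
  -- composing does not change being Cohen-Macaulay, so the locus only depends on the target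
  have hc : ∀ p : ↥(Limits.pullback G.s G.t), MoreMor.IsCMAt G.s (G.c p) ↔
      MoreMor.IsCMAt G.s (Limits.pullback.fst G.s G.t p) := fun p => by
    rw [← hbc G.s _ _ _ (Groth.Agent.GrpdLib.isPullback_snd_c G).flip p,
      ← hbc G.s _ _ _ (IsPullback.of_hasPullback G.s G.t) p]
  have hsat : ∀ r r' : G.R, G.t r = G.t r' → r ∈ W → r' ∈ W := by
    intro r r' h hr
    obtain ⟨q, hq₁, hq₂⟩ := Scheme.Pullback.exists_preimage_pullback (f := G.t) (g := G.t) r r' h
    let a := Limits.pullback.fst G.t G.t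
    let b := Limits.pullback.snd G.t G.t
    have h1 : (a ≫ G.i) ≫ G.s = b ≫ G.t := by rw [Category.assoc, G.i_s]; exact Limits.pullback.condition
    let d := Limits.pullback.lift (a ≫ G.i) b h1 ≫ G.c
    have h2 : a ≫ G.s = d ≫ G.t := by rw [G.comp_t, Category.assoc, G.i_t]
    let ψ := Limits.pullback.lift a d h2
    have h3 : ψ ≫ G.c = b := by
      have h4 := G.assoc a (a ≫ G.i) b (by rw [Category.assoc, G.i_t]) h1
      simp only [G.comp_i] at h4
      refine h4.symm.trans ?_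
      have h5 : a ≫ G.t ≫ G.e = b ≫ G.t ≫ G.e := Limits.pullback.condition_assoc _
      simp only [h5]
      exact G.e_comp b
    show MoreMor.IsCMAt G.s r'
    rw [← hq₂, show Limits.pullback.snd G.t G.t = ψ ≫ G.c from h3.symm, Scheme.Hom.comp_apply, hc,
      ← Scheme.Hom.comp_apply, Limits.pullback.lift_fst]
    show MoreMor.IsCMAt G.s (Limits.pullback.fst G.t G.t q)
    rw [hq₁]
    exact hr
  let U' : G.U.Opens := ⟨G.t '' W, G.t.isOpenMap _ hW⟩
  have h₁ : (G.t ⁻¹ᵁ U' : Set G.R) = W :=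
    subset_antisymm (fun r' ⟨r, hr, h⟩ => hsat r r' h hr) fun r hr => ⟨r, hr, rfl⟩
  have : IsIso G.i := by
    have hii : G.i ≫ G.i = 𝟙 G.R := by
      have h4 := G.assoc (G.i ≫ G.i) G.i (𝟙 G.R) (by rw [Category.assoc, G.i_s]) (by rw [G.i_s, Category.id_comp])
      simp only [G.i_comp G.i] at h4
      have h6 : Limits.pullback.lift G.i (𝟙 G.R) (by rw [G.i_s, Category.id_comp]) ≫ G.c = G.s ≫ G.e := by
        simpa using G.i_comp (𝟙 G.R)
      simp only [h6] at h4
      have h7 : G.i ≫ G.s ≫ G.e = 𝟙 G.R ≫ G.t ≫ G.e := by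
        rw [← Category.assoc, G.i_s, Category.id_comp]
      simp only [h7] at h4
      rw [G.e_comp] at h4
      have h8 : G.s ≫ G.e = (G.i ≫ G.i) ≫ G.s ≫ G.e := by
        rw [Category.assoc, ← Category.assoc G.i G.s, G.i_s, ← Category.assoc, G.i_t]
      have h9 := G.comp_e (G.i ≫ G.i)
      simp only [← h8] at h9
      exact (h4.trans h9).symm
    exact ⟨G.i, hii, hii⟩
  have hti : ∀ r, MoreMor.IsCMAt G.t r ↔ MoreMor.IsCMAt G.s (G.i r) := fun r =>
    hbc G.s G.t G.i (𝟙 _) (IsPullback.of_horiz_isIso ⟨by rw [Category.comp_id, G.i_s]⟩) r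
  refine ⟨U', ?_, ?_, ?_, ?_⟩
  · rw [h₁]
    ext r
    exact (hiff _ r).symm
  · ext r
    show G.s r ∈ U' ↔ Grpd.IsCMAt G.t r
    rw [hiff, hti]
    have : G.t (G.i r) = G.s r := by rw [← Scheme.Hom.comp_apply, G.i_t]
    rw [← this]
    exact Set.ext_iff.1 h₁ (G.i r)
  · refine Set.eq_univ_iff_forall.2 fun u => ?_
    obtain ⟨r, hr, rfl⟩ := hne u
    refine ⟨G.i r, ?_, by rw [← Scheme.Hom.comp_apply, G.i_t]⟩
    show G.s (G.i r) ∈ U'
    rw [← Scheme.Hom.comp_apply, G.i_s]
    exact (Set.ext_iff.1 h₁ r).2 hr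
  · refine Set.eq_univ_iff_forall.2 fun u => ?_
    obtain ⟨r, hr, rfl⟩ := hne u
    exact ⟨r, (Set.ext_iff.1 h₁ r).2 hr, rfl⟩

end Groth.Agent.S1936
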