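import Groth.Statements.S19383
import Mathlib
-- import your own Groth.Agent.* helpers here

set_option autoImplicit false
universe u
open CAlg

namespace Groth.Agent.S19383

/-- Over a discrete valuation ring, let V be a henselian discrete valuation ring with maximal ideal 𝔪
and B a Noetherian V-algebra, B̂ its 𝔪B-adic completion. Then B is flat over V if and only if B̂ is
flat over V. (The published lemma takes V an excellent normal ring with an ideal I such that (V,
V/I) is a henselian pair and B of finite type; in that generality it fails: for V = ℤ_p[[x]], I =
(p) and B = V[y]/(x, py − 1) ≅ ℚ_p one has IB = B, so B̂ = 0 is flat while B is not flat over V.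
Over a discrete valuation ring flatness is torsion-freeness and the statement holds for every
Noetherian B.) -/
theorem result
    (V : Type u) [CommRing V] [IsDomain V] [IsDiscreteValuationRing V] [HenselianLocalRing V]
    (B : Type u) [CommRing B] [Algebra V B] [IsNoetherianRing B] :
    Module.Flat V B ↔
      Module.Flat V (AdicCompletion ((IsLocalRing.maximalIdeal V).map (algebraMap V B)) B) := by
  let J := (IsLocalRing.maximalIdeal V).map (algebraMap V B)
  haveI : IsScalarTower V B (AdicCompletion J B) := inferInstance
  constructor
  · intro h
    exact Module.Flat.trans V B (AdicCompletion J B)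
  · intro h
    obtain ⟨π, hπ⟩ := IsDiscreteValuationRing.exists_irreducible V
    have hm : IsLocalRing.maximalIdeal V = Ideal.span {π} :=
      (IsDiscreteValuationRing.irreducible_iff_uniformizer π).1 hπ
    have hJ : J = Ideal.span {algebraMap V B π} := by
      simp only [J, hm, Ideal.map_span, Set.image_singleton]
    have hreg : ∀ b : B, algebraMap V B π * b = 0 → b = 0 := by
      intro b hb
      have h1 : AdicCompletion.of J B b = 0 := by
        refine Module.Flat.isSMulRegular_of_nonZeroDivisors (M := AdicCompletion J B)
          (mem_nonZeroDivisors_of_ne_zero hπ.ne_zero) ?_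
        simp only [smul_zero]
        rw [← algebraMap_smul B π (AdicCompletion.of J B b), ← map_smul, smul_eq_mul, hb, map_zero]
      have h2 : b ∈ (⨅ n : ℕ, J ^ n • ⊤ : Submodule B B) := by
        rw [Submodule.mem_iInf]
        intro n
        have := congrArg (fun z => z.val n) h1
        rw [← Submodule.Quotient.mk_eq_zero]
        exact this
      obtain ⟨⟨r, hr⟩, hrb⟩ := (Ideal.mem_iInf_smul_pow_eq_bot_iff J b).1 h2
      rw [hJ, Ideal.mem_span_singleton'] at hr
      obtain ⟨c, rfl⟩ := hr
      rw [← hrb]
      show (c * algebraMap V B π) * b = 0
      rw [mul_assoc, hb, mul_zero]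
    rw [Module.Flat.flat_iff_torsion_eq_bot_of_isBezout, Submodule.eq_bot_iff]
    rintro x ⟨⟨a, ha⟩, hax⟩
    replace ha : a ≠ 0 := nonZeroDivisors.ne_zero ha
    obtain ⟨n, u, rfl⟩ := IsDiscreteValuationRing.eq_unit_mul_pow_irreducible ha hπ
    rw [Submonoid.smul_def] at hax
    simp only [Algebra.smul_def, map_mul, map_pow, mul_assoc] at hax
    replace hax := ((Units.isUnit u).map (algebraMap V B)).mul_right_eq_zero.1 hax
    have key : ∀ m : ℕ, algebraMap V B π ^ m * x = 0 → x = 0 := by
      intro m
      induction m with
      | zero => simp
      | succ m ih => exact fun hm => ih (hreg _ (by rw [← mul_assoc, ← pow_succ']; exact hm))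
    exact key n hax

end Groth.Agent.S19383
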