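import Groth.Statements.S19403
import Groth.Agent.GITZMT.Main
-- import your own Groth.Agent.* helpers here

set_option autoImplicit false
universe u
open TensorProduct
open GLin

namespace Groth.Agent.S19403

/-- The equivariant form of Zariski's Main Theorem. Let k be an algebraically closed field of
characteristic zero, A a finitely generated commutative Hopf algebra over k all of whose
finite-dimensional comodules are semisimple (a reductive group G), R and S finitely generated
commutative k-algebras with multiplicative A-coactions (G acting on the affine schemes X = Spec R, Y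
= Spec S), and S → R an algebra map compatible with the coactions (a G-morphism φ : X → Y) which is
quasi-finite. Then there exist a finitely generated commutative k-algebra B with a multiplicative
A-coaction (an affine G-scheme Z), an algebra map ψ : S → B compatible with the coactions and
finite, and an algebra map i : B → R compatible with the coactions such that Spec R → Spec B is an
open immersion, with i ∘ ψ the given map S → R (φ factors as an equivariant open immersion followed
by a finite G-morphism). -/
theorem result (k : Type u) [Field k] [IsAlgClosed k] [CharZero k]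
    (A : Type u) [CommRing A] [HopfAlgebra k A] [Algebra.FiniteType k A] (hG : HopfRep.IsLinearlyReductive k A)
    (S : Type u) [CommRing S] [Algebra k S] [Algebra.FiniteType k S] [HopfRep.Comod k A S] [GLin.IsCoactAlg k A S]
    (R : Type u) [CommRing R] [Algebra k R] [Algebra.FiniteType k R] [HopfRep.Comod k A R] [GLin.IsCoactAlg k A R]
    [Algebra S R] [IsScalarTower k S R] [Algebra.QuasiFinite S R]
    (hequiv : (∀ s : S, HopfRep.Comod.coact (k := k) (A := A) (algebraMap S R s) =
      Algebra.TensorProduct.map (IsScalarTower.toAlgHom k S R) (AlgHom.id k A) (HopfRep.Comod.coact (k := k) (A := A) s))) :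
    ∃ (B : Type u) (_ : CommRing B) (_ : Algebra k B) (_ : HopfRep.Comod k A B) (_ : GLin.IsCoactAlg k A B),
      Algebra.FiniteType k B ∧
      ∃ (ψ : S →ₐ[k] B) (i : B →ₐ[k] R),
        (∀ s : S, HopfRep.Comod.coact (k := k) (A := A) (ψ s) =
        Algebra.TensorProduct.map ψ (AlgHom.id k A) (HopfRep.Comod.coact (k := k) (A := A) s)) ∧
        (∀ s : B, HopfRep.Comod.coact (k := k) (A := A) (i s) =
        Algebra.TensorProduct.map i (AlgHom.id k A) (HopfRep.Comod.coact (k := k) (A := A) s)) ∧
        i.comp ψ = IsScalarTower.toAlgHom k S R ∧ ψ.toRingHom.Finite ∧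
        AlgebraicGeometry.IsOpenImmersion (AlgebraicGeometry.Spec.map (CommRingCat.ofHom i.toRingHom)) := by
  haveI : Algebra.FiniteType S R := Algebra.FiniteType.of_restrictScalars_finiteType k S R
  obtain ⟨B₀, hfin, hsub, himm⟩ := Groth.Agent.GITZMT.exists_stable_subalgebra hequiv
  let B := B₀.restrictScalars k
  letI cB : HopfRep.Comod k A B :=
    ComodSub.Comod.restr (inferInstance : HopfRep.Comod k A R) B.toSubmodule hsub
  have hinj : Function.Injective (Algebra.TensorProduct.map B.val (AlgHom.id k A)) :=
    Module.Flat.rTensor_preserves_injective_linearMap B.val.toLinearMap Subtype.val_injective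
  have hval : ∀ b : B, Algebra.TensorProduct.map B.val (AlgHom.id k A) (HopfRep.Comod.coact (k := k) (A := A) b) =
      HopfRep.Comod.coact (k := k) (A := A) (b : R) := fun b =>
    ComodSub.restr_coact_coe (inferInstance : HopfRep.Comod k A R) B.toSubmodule hsub b
  haveI hBc : GLin.IsCoactAlg k A B :=
    { coact_one := hinj (by rw [hval, map_one]; exact GLin.IsCoactAlg.coact_one)
      coact_mul := fun x y => hinj (by
        rw [map_mul (Algebra.TensorProduct.map B.val (AlgHom.id k A)), hval, hval, hval]
        exact GLin.IsCoactAlg.coact_mul _ _) }
  let ψ : S →ₐ[k] B := (IsScalarTower.toAlgHom k S R).codRestrict B fun s => B₀.algebraMap_mem s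
  have hψfin : ψ.toRingHom.Finite := by
    show (algebraMap S B₀).Finite
    exact RingHom.finite_algebraMap.mpr hfin
  refine ⟨B, inferInstance, inferInstance, cB, hBc, ?_, ψ, B.val, fun s => hinj ?_, fun b => (hval b).symm, rfl, hψfin, himm⟩
  · haveI : Algebra.FiniteType k B₀ := Algebra.FiniteType.trans (S := S) inferInstance inferInstance
    exact (inferInstance : Algebra.FiniteType k B₀)
  · rw [hval, ← AlgHom.comp_apply, ← Algebra.TensorProduct.map_comp]
    exact hequiv s

end Groth.Agent.S19403
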