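import Groth.Statements.S19408
import Groth.Agent.ComodLib.Invariants
import Groth.Agent.ComodLib.Integral
import Mathlib.RingTheory.Etale.Basic
import Mathlib.RingTheory.Smooth.Flat
import Mathlib.RingTheory.TensorProduct.Quotient
-- import your own Groth.Agent.* helpers here

set_option autoImplicit false
universe u
open TensorProduct
open GLin

namespace Groth.Agent.S19408

/-- Let k be an algebraically closed field of characteristic zero, A a finitely generated commutative
Hopf algebra over k all of whose finite-dimensional comodules are semisimple (a reductive group G),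
S and R finitely generated commutative k-algebras with multiplicative A-coactions (G acting on
affine Y = Spec S and X = Spec R), S → R an algebra map compatible with the coactions (a G-morphism
θ : X → Y), S₀ → S and R₀ → R injective k-algebra maps whose images are the subrings of invariants,
and S₀ → R₀ an algebra map with S₀ → R₀ → R equal to S₀ → S → R (θ/G). Suppose R is étale over S, R₀
is étale over S₀, and the canonical map S ⊗_{S₀} R₀ → R is bijective (θ and θ/G étale and X ≅ Y
×_{Y//G} X//G). Let J be an ideal of S which is a subcomodule (Y' = V(J) a closed G-invariant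
subscheme), let S/J and R/JR carry A-coactions for which the quotient maps are compatible with the
coactions (the induced actions on Y' and X' = Y' ×_Y X), and let S₁ → S/J and R₁ → R/JR be injective
k-algebra maps whose images are the subrings of invariants, with S₁ → R₁ an algebra map such that S₁
→ R₁ → R/JR equals S₁ → S/J → R/JR. Then R/JR is étale over S/J, R₁ is étale over S₁, and the
canonical map (S/J) ⊗_{S₁} R₁ → R/JR is bijective (θ' : X' → Y' and θ'/G are étale and X' ≅ Y'
×_{Y'//G} X'//G). -/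
theorem result (k : Type u) [Field k] [IsAlgClosed k] [CharZero k]
    (A : Type u) [CommRing A] [HopfAlgebra k A] [Algebra.FiniteType k A] (hG : HopfRep.IsLinearlyReductive k A)
    (S : Type u) [CommRing S] [Algebra k S] [Algebra.FiniteType k S] [HopfRep.Comod k A S] [GLin.IsCoactAlg k A S]
    (R : Type u) [CommRing R] [Algebra k R] [Algebra.FiniteType k R] [HopfRep.Comod k A R] [GLin.IsCoactAlg k A R]
    [Algebra S R] [IsScalarTower k S R]
    (hequiv : (∀ s : S, HopfRep.Comod.coact (k := k) (A := A) (algebraMap S R s) =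
      Algebra.TensorProduct.map (IsScalarTower.toAlgHom k S R) (AlgHom.id k A) (HopfRep.Comod.coact (k := k) (A := A) s)))
    (S₀ : Type u) [CommRing S₀] [Algebra k S₀] [Algebra S₀ S] [IsScalarTower k S₀ S]
    (hS₀i : Function.Injective (algebraMap S₀ S)) (hS₀ : (IsScalarTower.toAlgHom k S₀ S).range = GLin.invariants k A S)
    (R₀ : Type u) [CommRing R₀] [Algebra k R₀] [Algebra R₀ R] [IsScalarTower k R₀ R]
    (hR₀i : Function.Injective (algebraMap R₀ R)) (hR₀ : (IsScalarTower.toAlgHom k R₀ R).range = GLin.invariants k A R)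
    [Algebra S₀ R₀] [Algebra S₀ R] [IsScalarTower S₀ S R] [IsScalarTower S₀ R₀ R]
    (het : Algebra.Etale S R) (het₀ : Algebra.Etale S₀ R₀)
    (hcart : Function.Bijective (Algebra.TensorProduct.productMap (IsScalarTower.toAlgHom S₀ S R) (IsScalarTower.toAlgHom S₀ R₀ R)))
    (J : Ideal S) (hJ : HopfRep.IsSubcomod (k := k) (A := A) (J.restrictScalars k))
    [HopfRep.Comod k A (S ⧸ J)] [GLin.IsCoactAlg k A (S ⧸ J)]
    (hqS : (∀ s : S, HopfRep.Comod.coact (k := k) (A := A) ((Ideal.Quotient.mkₐ k J) s) =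
        Algebra.TensorProduct.map (Ideal.Quotient.mkₐ k J) (AlgHom.id k A) (HopfRep.Comod.coact (k := k) (A := A) s)))
    [HopfRep.Comod k A (R ⧸ J.map (algebraMap S R))] [GLin.IsCoactAlg k A (R ⧸ J.map (algebraMap S R))]
    (hqR : (∀ s : R, HopfRep.Comod.coact (k := k) (A := A) ((Ideal.Quotient.mkₐ k (J.map (algebraMap S R))) s) =
        Algebra.TensorProduct.map (Ideal.Quotient.mkₐ k (J.map (algebraMap S R))) (AlgHom.id k A) (HopfRep.Comod.coact (k := k) (A := A) s)))
    (S₁ : Type u) [CommRing S₁] [Algebra k S₁] [Algebra S₁ (S ⧸ J)] [IsScalarTower k S₁ (S ⧸ J)]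
    (hS₁i : Function.Injective (algebraMap S₁ (S ⧸ J)))
    (hS₁ : (IsScalarTower.toAlgHom k S₁ (S ⧸ J)).range = GLin.invariants k A (S ⧸ J))
    (R₁ : Type u) [CommRing R₁] [Algebra k R₁] [Algebra R₁ (R ⧸ J.map (algebraMap S R))] [IsScalarTower k R₁ (R ⧸ J.map (algebraMap S R))]
    (hR₁i : Function.Injective (algebraMap R₁ (R ⧸ J.map (algebraMap S R))))
    (hR₁ : (IsScalarTower.toAlgHom k R₁ (R ⧸ J.map (algebraMap S R))).range = GLin.invariants k A (R ⧸ J.map (algebraMap S R)))
    [Algebra S₁ R₁] [Algebra S₁ (R ⧸ J.map (algebraMap S R))]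
    [IsScalarTower S₁ (S ⧸ J) (R ⧸ J.map (algebraMap S R))] [IsScalarTower S₁ R₁ (R ⧸ J.map (algebraMap S R))] :
    Algebra.Etale (S ⧸ J) (R ⧸ J.map (algebraMap S R)) ∧ Algebra.Etale S₁ R₁ ∧
      Function.Bijective (Algebra.TensorProduct.productMap
        (IsScalarTower.toAlgHom S₁ (S ⧸ J) (R ⧸ J.map (algebraMap S R)))
        (IsScalarTower.toAlgHom S₁ R₁ (R ⧸ J.map (algebraMap S R)))) := by
  obtain ⟨α, hα, hα1⟩ := ComodLib.exists_integral_of_isLinearlyReductive hG
  let JR : Ideal R := J.map (algebraMap S R)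
  -- the first base change
  haveI := het
  haveI := het₀
  have het' : Algebra.Etale (S ⧸ J) (R ⧸ J.map (algebraMap S R)) :=
    Algebra.Etale.of_equiv (Algebra.TensorProduct.quotIdealMapEquivQuotTensor R J).symm
  -- the invariants of the quotients are images of invariants
  have hmkS : Hoch.IsComodHom A (Ideal.Quotient.mkₐ k J).toLinearMap := LinearMap.ext fun s => by
    refine (hqS s).trans ?_
    simp only [LinearMap.comp_apply]
    induction HopfRep.Comod.coact (k := k) (A := A) s using TensorProduct.induction_on with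
    | zero => simp
    | tmul x y => simp
    | add x y hx hy => simp only [map_add, hx, hy]
  have hmkR : Hoch.IsComodHom A (Ideal.Quotient.mkₐ k JR).toLinearMap := LinearMap.ext fun r => by
    refine (hqR r).trans ?_
    simp only [LinearMap.comp_apply]
    induction HopfRep.Comod.coact (k := k) (A := A) r using TensorProduct.induction_on with
    | zero => simp
    | tmul x y => simp [JR]
    | add x y hx hy => simp only [map_add, hx, hy]
  have memS₀ : ∀ s : S₀, algebraMap S₀ S s ∈ GLin.invariants k A S := fun s => hS₀ ▸ ⟨s, rfl⟩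
  have memR₀ : ∀ r : R₀, algebraMap R₀ R r ∈ GLin.invariants k A R := fun r => hR₀ ▸ ⟨r, rfl⟩
  have ha : ∀ s : S₀, ∃ s' : S₁, algebraMap S₁ (S ⧸ J) s' = Ideal.Quotient.mk J (algebraMap S₀ S s) := fun s => by
    have h := ComodLib.map_mem_fixedPts hmkS (show algebraMap S₀ S s ∈ HopfRep.fixedPts k A S from memS₀ s)
    have h' : Ideal.Quotient.mk J (algebraMap S₀ S s) ∈ GLin.invariants k A (S ⧸ J) := h
    rw [← hS₁] at h'
    exact h'
  have hb : ∀ r : R₀, ∃ r' : R₁, algebraMap R₁ (R ⧸ JR) r' = Ideal.Quotient.mk JR (algebraMap R₀ R r) := fun r => by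
    have h := ComodLib.map_mem_fixedPts hmkR (show algebraMap R₀ R r ∈ HopfRep.fixedPts k A R from memR₀ r)
    have h' : Ideal.Quotient.mk JR (algebraMap R₀ R r) ∈ GLin.invariants k A (R ⧸ J.map (algebraMap S R)) := h
    rw [← hR₁] at h'
    exact h'
  choose a ha using ha
  choose b hb using hb
  let aH : S₀ →+* S₁ :=
    { toFun := a
      map_one' := hS₁i (by rw [ha, map_one, map_one, map_one])
      map_mul' := fun x y => hS₁i (by rw [ha, map_mul, map_mul, map_mul, ha, ha])
      map_zero' := hS₁i (by rw [ha, map_zero, map_zero, map_zero])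
      map_add' := fun x y => hS₁i (by rw [ha, map_add, map_add, map_add, ha, ha]) }
  let bH : R₀ →+* R₁ :=
    { toFun := b
      map_one' := hR₁i (by rw [hb, map_one, map_one, map_one])
      map_mul' := fun x y => hR₁i (by rw [hb, map_mul, map_mul, map_mul, hb, hb])
      map_zero' := hR₁i (by rw [hb, map_zero, map_zero, map_zero])
      map_add' := fun x y => hR₁i (by rw [hb, map_add, map_add, map_add, hb, hb]) }
  have hbs : Function.Surjective b := fun r' => by
    obtain ⟨r, hr⟩ := Ideal.Quotient.mk_surjective (algebraMap R₁ (R ⧸ JR) r')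
    have h1 : algebraMap R₁ (R ⧸ JR) r' ∈ HopfRep.fixedPts k A (R ⧸ J.map (algebraMap S R)) := by
      show algebraMap R₁ (R ⧸ JR) r' ∈ GLin.invariants k A (R ⧸ J.map (algebraMap S R))
      rw [← hR₁]
      exact ⟨r', rfl⟩
    have h2 : ComodLib.rey α r ∈ GLin.invariants k A R := ComodLib.rey_mem_fixedPts hα r
    rw [← hR₀] at h2
    obtain ⟨r₀, hr₀⟩ := h2
    refine ⟨r₀, hR₁i ?_⟩
    refine (hb r₀).trans ((congrArg (Ideal.Quotient.mk JR) hr₀).trans ?_)
    refine (ComodLib.map_rey (α := α) hmkR r).trans ?_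
    rw [show (Ideal.Quotient.mkₐ k JR).toLinearMap r = algebraMap R₁ (R ⧸ JR) r' from hr]
    exact ComodLib.rey_of_fixed hα1 h1
  letI : Algebra S₀ S₁ := aH.toAlgebra
  letI : Algebra S₀ R₁ := (bH.comp (algebraMap S₀ R₀)).toAlgebra
  haveI : IsScalarTower S₀ S₁ (S ⧸ J) := IsScalarTower.of_algebraMap_eq fun s => (ha s).symm
  haveI : IsScalarTower S₀ R₁ (R ⧸ JR) := IsScalarTower.of_algebraMap_eq fun s => by
    show algebraMap S₀ (R ⧸ JR) s = algebraMap R₁ (R ⧸ JR) (b (algebraMap S₀ R₀ s))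
    rw [hb, ← IsScalarTower.algebraMap_apply S₀ R₀ R]
    rfl
  haveI : IsScalarTower S₀ S₁ R₁ := IsScalarTower.of_algebraMap_eq fun s => hR₁i (by
    rw [← IsScalarTower.algebraMap_apply S₀ R₁ (R ⧸ JR),
      ← IsScalarTower.algebraMap_apply S₁ R₁ (R ⧸ JR), IsScalarTower.algebraMap_apply S₁ (S ⧸ J) (R ⧸ JR)]
    rw [show algebraMap S₁ (S ⧸ J) (algebraMap S₀ S₁ s) = _ from ha s]
    show algebraMap S₀ (R ⧸ JR) s = Ideal.Quotient.mk JR (algebraMap S R (algebraMap S₀ S s))
    rw [← IsScalarTower.algebraMap_apply S₀ S R]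
    rfl)
  let bA : R₀ →ₐ[S₀] R₁ := { bH with commutes' := fun s => rfl }
  -- the cartesian square restricts
  let q : S ⊗[S₀] R₀ →ₐ[S₀] (S ⧸ J) ⊗[S₀] R₀ :=
    Algebra.TensorProduct.map (Ideal.Quotient.mkₐ S₀ J) (AlgHom.id S₀ R₀)
  have hq : Function.Surjective q :=
    Algebra.TensorProduct.map_surjective (Ideal.Quotient.mkₐ S₀ J) (AlgHom.id S₀ R₀)
      (Ideal.Quotient.mkₐ_surjective S₀ J) Function.surjective_id
  let iS : S ⧸ J →ₐ[S₀] R ⧸ JR :=
    { algebraMap (S ⧸ J) (R ⧸ JR) with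
      commutes' := fun s => by
        show Ideal.Quotient.mk JR (algebraMap S R (algebraMap S₀ S s)) = Ideal.Quotient.mk JR (algebraMap S₀ R s)
        rw [← IsScalarTower.algebraMap_apply S₀ S R] }
  let φ' : (S ⧸ J) ⊗[S₀] R₀ →ₐ[S₀] R ⧸ JR :=
    Algebra.TensorProduct.productMap iS ((IsScalarTower.toAlgHom S₀ R₁ (R ⧸ JR)).comp bA)
  let φ : S ⊗[S₀] R₀ →ₐ[S₀] R :=
    Algebra.TensorProduct.productMap (IsScalarTower.toAlgHom S₀ S R) (IsScalarTower.toAlgHom S₀ R₀ R)
  have hφq : φ'.comp q = (Ideal.Quotient.mkₐ S₀ JR).comp φ := by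
    apply Algebra.TensorProduct.ext
    · ext s
      simp [φ', φ, q, iS, JR]
    · ext r
      simp [φ', φ, q, iS, bA, bH, hb, JR]
  have hφ' : Function.Injective φ' := (injective_iff_map_eq_zero φ').mpr fun w hw => by
    obtain ⟨z, rfl⟩ := hq w
    have h1 : φ z ∈ JR := Ideal.Quotient.eq_zero_iff_mem.mp ((DFunLike.congr_fun hφq z).symm.trans hw)
    have h2 : JR = (J.map (Algebra.TensorProduct.includeLeft : S →ₐ[S₀] S ⊗[S₀] R₀).toRingHom).map φ.toRingHom := by
      rw [Ideal.map_map]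
      refine congrArg (fun f => J.map f) (RingHom.ext fun s => ?_)
      simp [φ]
    rw [h2] at h1
    obtain ⟨z', hz', hzz⟩ := (Ideal.mem_map_iff_of_surjective φ.toRingHom hcart.2).mp h1
    obtain rfl : z' = z := hcart.1 hzz
    have h3 : J.map (Algebra.TensorProduct.includeLeft : S →ₐ[S₀] S ⊗[S₀] R₀).toRingHom ≤ RingHom.ker q.toRingHom := by
      rw [Ideal.map_le_iff_le_comap]
      intro s hs
      show q (s ⊗ₜ[S₀] (1 : R₀)) = 0
      simp [q, Ideal.Quotient.eq_zero_iff_mem.mpr hs]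
    exact h3 hz'
  have hφ's : Function.Surjective φ' := fun y => by
    obtain ⟨r, rfl⟩ := Ideal.Quotient.mk_surjective y
    obtain ⟨z, rfl⟩ := hcart.2 r
    exact ⟨q z, DFunLike.congr_fun hφq z⟩
  -- the invariant square
  haveI : Module.Flat S₀ R₀ := inferInstance
  let ρ : S₁ ⊗[S₀] R₀ →ₐ[S₁] R₁ := Algebra.TensorProduct.lift (Algebra.ofId S₁ R₁) bA fun _ _ => Commute.all _ _
  let inc : S₁ ⊗[S₀] R₀ →ₐ[S₀] (S ⧸ J) ⊗[S₀] R₀ :=
    Algebra.TensorProduct.map (IsScalarTower.toAlgHom S₀ S₁ (S ⧸ J)) (AlgHom.id S₀ R₀)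
  have hρ : ∀ z, algebraMap R₁ (R ⧸ JR) (ρ z) = φ' (inc z) := by
    intro z
    induction z using TensorProduct.induction_on with
    | zero => simp
    | add x y hx hy => simp only [map_add, hx, hy]
    | tmul s r =>
      simp [ρ, inc, φ', iS, bA, ← IsScalarTower.algebraMap_apply S₁ R₁ (R ⧸ JR),
        IsScalarTower.algebraMap_apply S₁ (S ⧸ J) (R ⧸ JR)]
  have hinc : Function.Injective inc :=
    Module.Flat.rTensor_preserves_injective_linearMap (IsScalarTower.toAlgHom S₀ S₁ (S ⧸ J)).toLinearMap hS₁i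
  have hρb : Function.Bijective ρ := by
    refine ⟨fun z z' h => hinc (hφ' ?_), fun r' => ?_⟩
    · rw [← hρ, ← hρ, h]
    · obtain ⟨r, rfl⟩ := hbs r'
      exact ⟨(1 : S₁) ⊗ₜ[S₀] r, by simp [ρ, bA]; rfl⟩
  refine ⟨het', Algebra.Etale.of_equiv (AlgEquiv.ofBijective ρ hρb), ?_, ?_⟩
  · -- injective
    intro w w' h
    let ψ : (S ⧸ J) ⊗[S₀] R₀ →ₐ[S₀] (S ⧸ J) ⊗[S₁] R₁ :=
      Algebra.TensorProduct.productMap
        ((Algebra.TensorProduct.includeLeft : S ⧸ J →ₐ[S₁] (S ⧸ J) ⊗[S₁] R₁).restrictScalars S₀)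
        (((Algebra.TensorProduct.includeRight : R₁ →ₐ[S₁] (S ⧸ J) ⊗[S₁] R₁).restrictScalars S₀).comp bA)
    have hψ : Function.Surjective ψ := fun z => by
      induction z using TensorProduct.induction_on with
      | zero => exact ⟨0, map_zero _⟩
      | add x y hx hy =>
        obtain ⟨x', rfl⟩ := hx
        obtain ⟨y', rfl⟩ := hy
        exact ⟨x' + y', map_add _ _ _⟩
      | tmul s r' =>
        obtain ⟨r, rfl⟩ := hbs r'
        exact ⟨s ⊗ₜ[S₀] r, by simp [ψ, bA]; rfl⟩
    have hψφ : ∀ z, Algebra.TensorProduct.productMap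
        (IsScalarTower.toAlgHom S₁ (S ⧸ J) (R ⧸ J.map (algebraMap S R)))
        (IsScalarTower.toAlgHom S₁ R₁ (R ⧸ J.map (algebraMap S R))) (ψ z) = φ' z := by
      intro z
      induction z using TensorProduct.induction_on with
      | zero => simp
      | add x y hx hy => simp only [map_add, hx, hy]
      | tmul s r => simp [ψ, φ', iS, bA, JR]
    obtain ⟨v, rfl⟩ := hψ w
    obtain ⟨v', rfl⟩ := hψ w'
    rw [hψφ, hψφ] at h
    rw [hφ' h]
  · intro y
    obtain ⟨w, rfl⟩ := hφ's y
    induction w using TensorProduct.induction_on with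
    | zero => exact ⟨0, by simp⟩
    | add x y hx hy =>
      obtain ⟨x', hx'⟩ := hx
      obtain ⟨y', hy'⟩ := hy
      exact ⟨x' + y', by rw [map_add, map_add, hx', hy']⟩
    | tmul s r => exact ⟨s ⊗ₜ[S₁] bA r, by simp [φ', iS, bA, JR]⟩

end Groth.Agent.S19408
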