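import Groth.Statements.S19412
import Mathlib.RingTheory.Etale.Basic
import Mathlib.RingTheory.Spectrum.Prime.Topology
import Mathlib.RingTheory.RingHom.Surjective
import Mathlib.RingTheory.Spectrum.Prime.RingHom
import Mathlib.Tactic.Ring
-- import your own Groth.Agent.* helpers here

set_option autoImplicit false
universe u
open TensorProduct
open GLin

namespace Groth.Agent.S19412

/-- Let k be an algebraically closed field of characteristic zero, A a finitely generated commutative
Hopf algebra over k (an algebraic group G), S and R finitely generated commutative k-algebras with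
multiplicative A-coactions (G acting on affine Y = Spec S, X = Spec R), S → R an algebra map
compatible with the coactions (a G-morphism φ : X → Y), S₀ → S and R₀ → R injective k-algebra maps
whose images are the subrings of invariants, and S₀ → R₀ an algebra map with S₀ → R₀ → R equal to S₀
→ S → R (φ/G). Suppose R₀ is étale over S₀ and the canonical map S ⊗_{S₀} R₀ → R is bijective (φ is
strongly étale: φ/G étale and X ≅ Y ×_{Y//G} X//G). Then R is étale over S (φ étale), and for every
k-point x of X: every k-point of G fixing the image point φ(x) fixes x (φ restricted to the orbit of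
x is injective), and the orbit of x is closed if and only if the orbit of φ(x) is closed. (The
published item also asserts that φ is surjective; that fails when φ is the inclusion of a proper
saturated open subset, which is strongly étale, so surjectivity is not asserted here.) -/
theorem result (k : Type u) [Field k] [IsAlgClosed k] [CharZero k]
    (A : Type u) [CommRing A] [HopfAlgebra k A] [Algebra.FiniteType k A]
    (S : Type u) [CommRing S] [Algebra k S] [Algebra.FiniteType k S] [HopfRep.Comod k A S] [GLin.IsCoactAlg k A S]
    (R : Type u) [CommRing R] [Algebra k R] [Algebra.FiniteType k R] [HopfRep.Comod k A R] [GLin.IsCoactAlg k A R]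
    [Algebra S R] [IsScalarTower k S R]
    (hequiv : (∀ s : S, HopfRep.Comod.coact (k := k) (A := A) (algebraMap S R s) =
      Algebra.TensorProduct.map (IsScalarTower.toAlgHom k S R) (AlgHom.id k A) (HopfRep.Comod.coact (k := k) (A := A) s)))
    (S₀ : Type u) [CommRing S₀] [Algebra k S₀] [Algebra S₀ S] [IsScalarTower k S₀ S]
    (hS₀i : Function.Injective (algebraMap S₀ S)) (hS₀ : (IsScalarTower.toAlgHom k S₀ S).range = GLin.invariants k A S)
    (R₀ : Type u) [CommRing R₀] [Algebra k R₀] [Algebra R₀ R] [IsScalarTower k R₀ R]
    (hR₀i : Function.Injective (algebraMap R₀ R)) (hR₀ : (IsScalarTower.toAlgHom k R₀ R).range = GLin.invariants k A R)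
    [Algebra S₀ R₀] [Algebra S₀ R] [IsScalarTower S₀ S R] [IsScalarTower S₀ R₀ R]
    (het₀ : Algebra.Etale S₀ R₀)
    (hcart : Function.Bijective (Algebra.TensorProduct.productMap (IsScalarTower.toAlgHom S₀ S R) (IsScalarTower.toAlgHom S₀ R₀ R))) :
    Algebra.Etale S R ∧
      ∀ x : R →ₐ[k] k,
        (∀ g : A →ₐ[k] k, GLin.actPt k g (x.comp (IsScalarTower.toAlgHom k S R)) = x.comp (IsScalarTower.toAlgHom k S R) →
          GLin.actPt k g x = x) ∧
        (GLin.IsClosedOrbit k A x ↔ GLin.IsClosedOrbit k A (x.comp (IsScalarTower.toAlgHom k S R))) := by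
  have het : Algebra.Etale S R := by
    let Φ : TensorProduct S₀ S R₀ →ₐ[S] R := AlgHom.mk
      ((Algebra.TensorProduct.productMap (IsScalarTower.toAlgHom S₀ S R) (IsScalarTower.toAlgHom S₀ R₀ R)).toRingHom)
      (fun s => by
        show Algebra.TensorProduct.productMap (IsScalarTower.toAlgHom S₀ S R) (IsScalarTower.toAlgHom S₀ R₀ R)
          (s ⊗ₜ (1 : R₀)) = algebraMap S R s
        simp)
    haveI := het₀
    exact Algebra.Etale.of_equiv (AlgEquiv.ofBijective Φ hcart)
  refine ⟨het, fun x => ?_⟩
  set φ := IsScalarTower.toAlgHom k S R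
  set y := x.comp φ
  have horb : ∀ s, GLin.orbitHom k A x (algebraMap S R s) = GLin.orbitHom k A y s := by
    intro s
    simp only [GLin.orbitHom, AlgHom.comp_apply, GLin.coactAlgHom_apply, hequiv]
    generalize HopfRep.Comod.coact (k := k) (A := A) s = z
    induction z using TensorProduct.induction_on with
    | zero => simp
    | tmul a b => simp [y, φ]
    | add p q hp hq => simp only [map_add, hp, hq]
  have hinv : ∀ f : R₀, GLin.orbitHom k A x (algebraMap R₀ R f) = algebraMap k A (x (algebraMap R₀ R f)) := by
    intro f
    have hf : algebraMap R₀ R f ∈ GLin.invariants k A R := hR₀ ▸ ⟨f, rfl⟩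
    rw [GLin.mem_invariants_iff] at hf
    simp only [GLin.orbitHom, AlgHom.comp_apply, GLin.coactAlgHom_apply, hf]
    simp [Algebra.algebraMap_eq_smul_one]
  -- `R` is generated by the images of `S` and `R₀`
  have hgen : ∀ (P : R → Prop), P 0 → (∀ a b, P a → P b → P (a + b)) →
      (∀ (s : S) (f : R₀), P (algebraMap S R s * algebraMap R₀ R f)) → ∀ r, P r := by
    intro P h0 hadd hmul r
    obtain ⟨z, rfl⟩ := hcart.2 r
    induction z using TensorProduct.induction_on with
    | zero => rw [map_zero]; exact h0
    | tmul s f => simpa using hmul s f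
    | add p q hp hq => rw [map_add]; exact hadd _ _ hp hq
  let I : Ideal R := Ideal.span (Set.range fun f : R₀ => algebraMap R₀ R f - algebraMap k R (x (algebraMap R₀ R f)))
  let π : S →+* R ⧸ I := (Ideal.Quotient.mk I).comp (algebraMap S R)
  have hπ : Function.Surjective π := by
    intro q
    obtain ⟨r, rfl⟩ := Ideal.Quotient.mk_surjective q
    revert r
    refine hgen _ ⟨0, by simp⟩ ?_ ?_
    · rintro a b ⟨p, hp⟩ ⟨q, hq⟩; exact ⟨p + q, by rw [map_add, hp, hq, map_add]⟩
    · intro s f
      refine ⟨x (algebraMap R₀ R f) • s, Ideal.Quotient.eq.mpr ?_⟩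
      have : algebraMap S R (x (algebraMap R₀ R f) • s) - algebraMap S R s * algebraMap R₀ R f =
          -(algebraMap S R s * (algebraMap R₀ R f - algebraMap k R (x (algebraMap R₀ R f)))) := by
        rw [Algebra.smul_def, map_mul, ← IsScalarTower.algebraMap_apply k S R]; ring
      rw [this]
      exact I.neg_mem (I.mul_mem_left _ (Ideal.subset_span ⟨f, rfl⟩))
  have hI : ∀ r ∈ I, GLin.orbitHom k A x r = 0 := by
    intro r hr
    refine (Submodule.span_le.mpr ?_ : I ≤ RingHom.ker (GLin.orbitHom k A x).toRingHom) hr
    rintro _ ⟨f, rfl⟩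
    show GLin.orbitHom k A x _ = 0
    rw [map_sub, hinv, AlgHom.commutes, sub_self]
  refine ⟨fun g hg => ?_, ?_⟩
  · refine AlgHom.ext fun r => ?_
    refine hgen (fun r => GLin.actPt k g x r = x r) (by simp) (fun a b ha hb => by simp only [map_add, ha, hb]) ?_ r
    intro s f
    simp only [map_mul]
    congr 1
    · have := AlgHom.congr_fun hg s
      simp only [GLin.actPt, AlgHom.comp_apply] at this ⊢
      rw [horb]; exact this
    · simp [GLin.actPt, hinv]
  · let F := PrimeSpectrum.comap (algebraMap S R)
    let E := PrimeSpectrum.comap (Ideal.Quotient.mk I)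
    have hE : Topology.IsClosedEmbedding (PrimeSpectrum.comap π) :=
      PrimeSpectrum.isClosedEmbedding_comap_of_surjective _ π hπ
    let O := Set.range (PrimeSpectrum.comap (GLin.orbitHom k A x).toRingHom)
    have hOy : Set.range (PrimeSpectrum.comap (GLin.orbitHom k A y).toRingHom) = F '' O := by
      rw [← Set.range_comp]
      congr 1
      funext q
      refine PrimeSpectrum.ext ?_
      ext s
      show GLin.orbitHom k A y s ∈ q.asIdeal ↔ GLin.orbitHom k A x (algebraMap S R s) ∈ q.asIdeal
      rw [horb]
    have hOE : O ⊆ Set.range E := by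
      rintro _ ⟨q, rfl⟩
      rw [show E = PrimeSpectrum.comap (Ideal.Quotient.mk I) from rfl,
        range_comap_of_surjective _ _ Ideal.Quotient.mk_surjective, Ideal.mk_ker]
      intro r hr
      show GLin.orbitHom k A x r ∈ q.asIdeal
      rw [hI r hr]; exact q.asIdeal.zero_mem
    have hFO : F '' O = PrimeSpectrum.comap π '' (E ⁻¹' O) := by
      rw [show PrimeSpectrum.comap π = F ∘ E from PrimeSpectrum.comap_comp _ _, Set.image_comp,
        Set.image_preimage_eq_of_subset hOE]
    unfold GLin.IsClosedOrbit
    rw [hOy]
    constructor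
    · intro h
      rw [hFO]
      exact hE.isClosedMap _ (h.preimage (PrimeSpectrum.continuous_comap _))
    · intro h
      have hEc : Topology.IsClosedEmbedding E :=
        PrimeSpectrum.isClosedEmbedding_comap_of_surjective _ _ Ideal.Quotient.mk_surjective
      have : O = E '' (PrimeSpectrum.comap π ⁻¹' (F '' O)) := by
        rw [hFO, Set.preimage_image_eq _ hE.injective, Set.image_preimage_eq_of_subset hOE]
      show IsClosed O
      rw [this]
      exact hEc.isClosedMap _ (h.preimage (PrimeSpectrum.continuous_comap _))

end Groth.Agent.S19412
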