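import Groth.Statements.S19419
import Groth.Agent.H23.FlatPushPull
import Groth.Agent.H23.GysinLib
import Groth.Agent.CycLib.Flat
import Groth.Agent.VarDim.Top
import Groth.Agent.VarDim.Fibre
import Groth.Agent.CycLib.P1Div
import Groth.Agent.CycLib.DivMap
import Groth.Agent.FibDim.AffineSpaceFibre

set_option autoImplicit false
universe u
open CategoryTheory CategoryTheory.Limits AlgebraicGeometry
open Cyc

namespace Groth.Agent.S19419

/-- Let X be a smooth proper integral curve over an algebraically closed field k, with generic point η,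
and ψ : X → X a flat endomorphism over k. Let Y = X ×_k X with its two projections, m = ψ × id : Y →
Y (first projection intertwines ψ, second projection unchanged), d : X → Y the diagonal and g = (id,
ψ) : X → Y the graph of ψ. For the dimension function δ on Y induced from weight 0 on Spec k, the
flat pull-back of cycles along m in relative dimension 0 takes the diagonal divisor [Δ], the cycle
equal to 1 at d(η) and 0 elsewhere, to the graph divisor [Γ_ψ], the cycle equal to 1 at g(η) and 0
elsewhere: (ψ × id)^*[Δ] = [Γ_ψ]. The published statement allows any endomorphism ψ and reads the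
pull-back on divisors; flatness of ψ is what the flat pull-back of cycles requires (the intended
case is the Frobenius endomorphism), and iterating gives [Γ_{ψ^n}] = ((ψ × id)^*)^n [Δ]. -/
theorem result (k : Type u) [Field k]
    [IsAlgClosed k] (X : Scheme.{u}) (f : X ⟶ Spec (CommRingCat.of k)) [Smooth f] [IsProper f]
    [IsIntegral X] (hdim : topologicalKrullDim ↥X = 1) (ψ : X ⟶ X) (hψ : ψ ≫ f = f) [Flat ψ]
    (m : pullback f f ⟶ pullback f f) (hm₁ : m ≫ pullback.fst f f = pullback.fst f f ≫ ψ)
    (hm₂ : m ≫ pullback.snd f f = pullback.snd f f) (g : X ⟶ pullback f f)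
    (hg₁ : g ≫ pullback.fst f f = 𝟙 X) (hg₂ : g ≫ pullback.snd f f = ψ)
    (δ : ↥(pullback f f) → ℤ) (hδ : Cyc.DeltaCompat (pullback.fst f f ≫ f) δ (fun _ => 0)) :
    Cyc.pullFun m δ δ 0
        (Set.indicator ({pullback.diagonal f (genericPoint ↥X)} : Set ↥(pullback f f)) (fun _ => (1 : ℤ))) =
      Set.indicator ({g (genericPoint ↥X)} : Set ↥(pullback f f)) (fun _ => (1 : ℤ)) := by
  classical
  haveI := LocallyOfFiniteType.isLocallyNoetherian f
  haveI : LocallyOfFiniteType (ψ ≫ f) := hψ.symm ▸ (inferInstance : LocallyOfFiniteType f)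
  haveI : LocallyOfFiniteType ψ := locallyOfFiniteType_of_comp ψ f
  haveI := LocallyOfFiniteType.isLocallyNoetherian (pullback.fst f f ≫ f)
  let Δ := pullback.diagonal f
  let q₁ := pullback.fst f f
  have hηψ : ψ (genericPoint X) = genericPoint X := by
    obtain ⟨z, hz, hz'⟩ := Groth.Agent.CycLib.exists_generization ψ
      (genericPoint_specializes (ψ (genericPoint X)))
    have : z = genericPoint X := (hz.antisymm (genericPoint_specializes z)).eq
    exact this ▸ hz'
  -- relative dimensions on the curve
  have hdeg : ∀ x : X, Groth.Agent.FibDim.rd f x = if x = genericPoint X then 1 else 0 := by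
    have hrd : ∀ x : X, Groth.Agent.VarDim.deg f x = Groth.Agent.FibDim.rd f x := fun x => by
      have h1 := Groth.Agent.VarDim.deg_eq_tdeg f x
      rw [Groth.Agent.VarDim.tdeg_eq_rdeg, ← Groth.Agent.FibDim.rd_eq_rdeg] at h1
      exact_mod_cast h1
    have hη : Groth.Agent.FibDim.rd f (genericPoint X) = 1 := by
      have h1 := (Groth.Agent.VarDim.topologicalKrullDim_eq_deg_genericPoint f).symm.trans hdim
      rw [hrd] at h1
      exact_mod_cast h1
    intro x
    split_ifs with hx
    · exact hx ▸ hη
    · have hlt : x < genericPoint X := lt_of_le_not_ge (α := X) (genericPoint_specializes x)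
        fun h' => hx ((genericPoint_specializes x).antisymm h').eq.symm
      have h2 := Groth.Agent.VarDim.deg_strictMono f hlt
      rw [hrd, hrd, hη] at h2
      omega
  have hψ0 : ∀ x : X, Groth.Agent.FibDim.rd ψ x = 0 := by
    intro x
    have h1 := Groth.Agent.CycLib.rd_comp ψ f x
    rw [show Groth.Agent.FibDim.rd (ψ ≫ f) x = Groth.Agent.FibDim.rd f x by rw [hψ], hdeg, hdeg] at h1
    rcases eq_or_ne x (genericPoint X) with rfl | hx
    · rw [if_pos rfl, if_pos hηψ] at h1; omega
    · rw [if_neg hx] at h1; omega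
  have hsq : IsPullback q₁ m ψ q₁ := by
    refine IsPullback.of_bot (h₂₁ := q₁) (v₂₁ := pullback.snd f f) (h₃₁ := f) (v₂₂ := f) ?_
      hm₁.symm (IsPullback.of_hasPullback f f)
    rw [hm₂, hψ]
    exact IsPullback.of_hasPullback f f
  haveI : LocallyOfFiniteType m := MorphismProperty.of_isPullback hsq inferInstance
  have hm0 : ∀ y, Groth.Agent.FibDim.rd m y = 0 := fun y =>
    Nat.le_zero.1 ((Groth.Agent.FibDim.rd_baseChange_le hsq y).trans (hψ0 _).le)
  have hmf : m ≫ q₁ ≫ f = q₁ ≫ f := by rw [← Category.assoc, hm₁, Category.assoc, hψ]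
  have hδeq : ∀ y, δ y = (Groth.Agent.FibDim.rd (q₁ ≫ f) y : ℤ) := fun y => by
    simpa using Groth.Agent.CycLib.deltaCompat_eq (q₁ ≫ f) hδ y
  have hshift : Groth.Agent.H23.FlatShift.HasShift m δ δ 0 := fun y _ => by
    have h1 := Groth.Agent.CycLib.rd_comp m (q₁ ≫ f) y
    rw [hmf, hm0, add_zero] at h1
    rw [hδeq, hδeq, h1, add_zero]
  have hd : Cyc.IsDimFun (pullback f f) δ :=
    Groth.Agent.CycLib.isDimFun_of_deltaCompat (q₁ ≫ f)
      (Groth.Agent.CycLib.isSetup_spec_field k) hδ
  have hdiag : IsPullback ψ g Δ m := by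
    refine IsPullback.of_bot (v₂₁ := q₁) (v₂₂ := q₁) ?_ (pullback.hom_ext ?_ ?_) hsq.flip
    · rw [hg₁, pullback.diagonal_fst]
      exact IsPullback.of_vert_isIso ⟨by simp⟩
    · simp [Δ, hm₁, reassoc_of% hg₁]
    · simp [Δ, hm₂, hg₂]
  haveI : IsSeparated f := inferInstance
  haveI : IsClosedImmersion g := MorphismProperty.of_isPullback hdiag inferInstance
  let η := genericPoint X
  have hδΔ : ∀ x, δ (Δ x) = (Groth.Agent.FibDim.rd f x : ℤ) := fun x => by
    have h1 := Groth.Agent.CycLib.rd_comp Δ (q₁ ≫ f) x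
    rw [show Δ ≫ q₁ ≫ f = f by simp [Δ, q₁],
      show Groth.Agent.FibDim.rd Δ x = 0 from Groth.Agent.FibDim.rd_eq_zero_of_quasiFinite Δ x] at h1
    rw [hδeq, h1, add_zero]
  have hδg : ∀ x, δ (g x) = (Groth.Agent.FibDim.rd f x : ℤ) := fun x => by
    have h1 := Groth.Agent.CycLib.rd_comp g (q₁ ≫ f) x
    rw [show g ≫ q₁ ≫ f = f by rw [← Category.assoc, hg₁, Category.id_comp],
      show Groth.Agent.FibDim.rd g x = 0 from Groth.Agent.FibDim.rd_eq_zero_of_quasiFinite g x] at h1
    rw [hδeq, h1, add_zero]
  -- the fundamental cycle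
  let α : AlgebraicCycle X ℤ := Function.locallyFinsuppWithin.single η (1 : ℤ)
  have hα : ∀ x, α x = if x = η then 1 else 0 := fun x => by
    exact Function.locallyFinsuppWithin.single_apply
  have hpull : ⇑α = Cyc.pullFun ψ (fun x => δ (g x)) (fun x => δ (Δ x)) 0 ⇑α := by
    funext x
    simp only [Cyc.pullFun, hα, hδΔ, hδg, hdeg, add_zero]
    rcases eq_or_ne x η with rfl | hx
    · rw [if_pos rfl, if_pos (by rw [if_pos rfl, if_pos hηψ]), if_pos hηψ, one_mul]
      have hfield : ∀ z : X, z = η → IsField (X.presheaf.stalk z) := fun z hz =>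
        hz ▸ (Field.toIsField X.functionField)
      rw [((IsLocalRing.isField_iff_maximalIdeal_eq).1 (hfield _ hηψ)), Ideal.map_bot,
        (Submodule.quotEquivOfEqBot _ rfl).length_eq]
      letI := (hfield η rfl).toField
      rw [Module.length_eq_finrank, Module.finrank_self]
      rfl
    · rcases eq_or_ne (ψ x) η with h | h
      · simp only [η] at h hx; simp [η, hx, h]
      · simp only [η] at h hx; simp [η, hx, h]
  have key := Groth.Agent.H23.FlatShift.map_pullFun_baseChange hdiag hshift hd
    (Groth.Agent.H23.GysinLib.deltaCompat_closedImmersion Δ δ)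
    (Groth.Agent.H23.GysinLib.deltaCompat_closedImmersion g δ) α α hpull
  have hmap : ∀ (j : X ⟶ pullback f f) [IsClosedImmersion j],
      ⇑(AlgebraicCycle.map j (fun x => δ (j x)) δ α) =
        Set.indicator ({j η} : Set ↥(pullback f f)) (fun _ => (1 : ℤ)) := fun j _ => by
    funext y
    rw [Groth.Agent.CycLib.map_apply']
    have h1 : AlgebraicCycle.mapCoeff j (fun x => δ (j x)) δ η = 1 := by
      rw [AlgebraicCycle.mapCoeff, if_pos rfl]
      exact Groth.Agent.CycLib.residueDegree_preimmersion j η
    by_cases hy : y = j η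
    · subst hy
      rw [Set.indicator_of_mem (Set.mem_singleton _),
        show (j ⁻¹' {j η} : Set X) = {η} from Set.ext fun x => j.isEmbedding.injective.eq_iff,
        finsum_mem_singleton, hα, if_pos rfl, h1]
      simp
    · rw [Set.indicator_of_notMem (by simpa using hy)]
      refine finsum_mem_eq_zero_of_forall_eq_zero fun x (hx : j x = y) => ?_
      rw [hα, if_neg (fun e : x = η => hy (e ▸ hx.symm)), zero_mul]
  rw [hmap Δ, hmap g] at key
  exact key

end Groth.Agent.S19419
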