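import Groth.Statements.S19437
import Mathlib
-- import your own Groth.Agent.* helpers here

set_option autoImplicit false
universe u
open CAlg

namespace Groth.Agent.S19437

section
open MvPowerSeries
variable {k : Type u} [Field k]

local notation "P2" => MvPowerSeries (Fin 2) k

/-- The exponent `(i, j)`. -/
noncomputable def ex (i j : ℕ) : Fin 2 →₀ ℕ := Finsupp.single 0 i + Finsupp.single 1 j

lemma ex_zero (i j : ℕ) : ex i j 0 = i := by simp [ex]

lemma ex_one (i j : ℕ) : ex i j 1 = j := by simp [ex]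

lemma eq_ex (e : Fin 2 →₀ ℕ) : e = ex (e 0) (e 1) :=
  Finsupp.ext (Fin.forall_fin_two.mpr ⟨(ex_zero _ _).symm, (ex_one _ _).symm⟩)

lemma ex_inj {i j i' j' : ℕ} : ex i j = ex i' j' ↔ i = i' ∧ j = j' := by
  refine ⟨fun h => ?_, fun ⟨h, h'⟩ => by rw [h, h']⟩
  exact ⟨by simpa [ex_zero] using DFunLike.congr_fun h 0, by simpa [ex_one] using DFunLike.congr_fun h 1⟩

/-- The ideal `(xy, x^a, y^b)`. -/
noncomputable def stdIdeal (a b : ℕ) : Ideal P2 := Ideal.span {X 0 * X 1, X 0 ^ a, X 1 ^ b}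

lemma coeff_eq_zero_of_mem {a b : ℕ} {f : P2} (hf : f ∈ stdIdeal a b) (e : Fin 2 →₀ ℕ)
    (he : (e 1 = 0 ∧ e 0 < a) ∨ (e 0 = 0 ∧ e 1 < b)) (ha : 1 ≤ a) (hb : 1 ≤ b) : coeff e f = 0 := by
  rw [stdIdeal, Ideal.mem_span_insert] at hf
  obtain ⟨u, z, hz, rfl⟩ := hf
  rw [Ideal.mem_span_insert] at hz
  obtain ⟨v, z, hz, rfl⟩ := hz
  obtain ⟨w, rfl⟩ := Ideal.mem_span_singleton'.mp hz
  have h1 : coeff e (u * (X 0 * X 1)) = 0 := by
    rcases he with ⟨h, _⟩ | ⟨h, _⟩
    · exact (MvPowerSeries.X_dvd_iff (s := (1 : Fin 2))).mp ⟨u * X 0, by ring⟩ e h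
    · exact (MvPowerSeries.X_dvd_iff (s := (0 : Fin 2))).mp ⟨u * X 1, by ring⟩ e h
  have h2 : coeff e (v * X 0 ^ a) = 0 :=
    (MvPowerSeries.X_pow_dvd_iff (s := (0 : Fin 2))).mp ⟨v, by ring⟩ e (by omega)
  have h3 : coeff e (w * X 1 ^ b) = 0 :=
    (MvPowerSeries.X_pow_dvd_iff (s := (1 : Fin 2))).mp ⟨w, by ring⟩ e (by omega)
  simp [map_add, h1, h2, h3]

lemma mem_stdIdeal {a b : ℕ} (ha : 1 ≤ a) (hb : 1 ≤ b) {f : P2}
    (hx : ∀ i < a, coeff (ex i 0) f = 0) (hy : ∀ j < b, coeff (ex 0 j) f = 0) : f ∈ stdIdeal a b := by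
  classical
  have hco : ∀ (c : (Fin 2 →₀ ℕ) → k) e, coeff e (c : P2) = c e := fun c e => rfl
  let f₁ : P2 := fun e => if e 1 = 0 then coeff e f else 0
  let f₂ : P2 := fun e => if e 1 ≠ 0 ∧ e 0 = 0 then coeff e f else 0
  let f₃ : P2 := fun e => if e 1 ≠ 0 ∧ e 0 ≠ 0 then coeff e f else 0
  have hsum : f = f₁ + f₂ + f₃ := by
    ext e
    rw [map_add, map_add]
    show coeff e f = (if e 1 = 0 then coeff e f else 0) + (if e 1 ≠ 0 ∧ e 0 = 0 then coeff e f else 0) + (if e 1 ≠ 0 ∧ e 0 ≠ 0 then coeff e f else 0)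
    by_cases h1 : e 1 = 0 <;> by_cases h0 : e 0 = 0 <;> simp [h1, h0]
  have h1 : f₁ ∈ stdIdeal a b := by
    obtain ⟨g, hg⟩ := (MvPowerSeries.X_pow_dvd_iff (s := (0 : Fin 2)) (φ := f₁) (n := a)).mpr fun e he => by
      show (if e 1 = 0 then coeff e f else 0) = 0
      split_ifs with h
      · rw [eq_ex e, h]; exact hx _ he
      · rfl
    rw [hg]
    exact Ideal.mul_mem_right _ _ (Ideal.subset_span (by simp))
  have h2 : f₂ ∈ stdIdeal a b := by
    obtain ⟨g, hg⟩ := (MvPowerSeries.X_pow_dvd_iff (s := (1 : Fin 2)) (φ := f₂) (n := b)).mpr fun e he => by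
      show (if e 1 ≠ 0 ∧ e 0 = 0 then coeff e f else 0) = 0
      split_ifs with h
      · rw [eq_ex e, h.2]; exact hy _ he
      · rfl
    rw [hg]
    exact Ideal.mul_mem_right _ _ (Ideal.subset_span (by simp))
  have h3 : f₃ ∈ stdIdeal a b := by
    obtain ⟨g, hg⟩ := (MvPowerSeries.X_dvd_iff (s := (0 : Fin 2)) (φ := f₃)).mpr fun e he => by
      show (if e 1 ≠ 0 ∧ e 0 ≠ 0 then coeff e f else 0) = 0
      simp [he]
    obtain ⟨g', hg'⟩ := (MvPowerSeries.X_dvd_iff (s := (1 : Fin 2)) (φ := g)).mpr fun e he => by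
      have h := congrArg (coeff (Finsupp.single 0 1 + e)) hg
      rw [show (X 0 : P2) = monomial (Finsupp.single 0 1) 1 from rfl, coeff_add_monomial_mul, one_mul] at h
      rw [← h]
      show (if (Finsupp.single 0 1 + e : Fin 2 →₀ ℕ) 1 ≠ 0 ∧ _ then _ else _) = 0
      rw [if_neg]
      simp [he]
    rw [hg, hg', ← mul_assoc]
    exact Ideal.mul_mem_right _ _ (Ideal.subset_span (by simp))
  rw [hsum]
  exact add_mem (add_mem h1 h2) h3

/-- Coefficients modulo `(xy, x^(p+1), y^(q+1))`. -/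
noncomputable def coef (p q : ℕ) : P2 →ₗ[k] k × (Fin p → k) × (Fin q → k) :=
  (coeff (ex 0 0)).prod ((LinearMap.pi fun i : Fin p => coeff (ex ((i : ℕ) + 1) 0)).prod
    (LinearMap.pi fun j : Fin q => coeff (ex 0 ((j : ℕ) + 1))))

lemma coef_surjective (p q : ℕ) : Function.Surjective (coef (k := k) p q) := by
  classical
  rintro ⟨c, u, v⟩
  refine ⟨(fun e => if e 1 = 0 then (if h : e 0 = 0 then c else if h' : e 0 - 1 < p then u ⟨_, h'⟩ else 0)
    else if h'' : e 1 - 1 < q then v ⟨_, h''⟩ else 0 : (Fin 2 →₀ ℕ) → k), ?_⟩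
  refine Prod.ext ?_ (Prod.ext (funext fun i => ?_) (funext fun j => ?_))
  · show (if ex 0 0 1 = 0 then _ else _) = c
    simp [ex_zero, ex_one]
  · show (if ex (i + 1) 0 1 = 0 then _ else _) = u i
    simp [ex_zero, ex_one]
  · show (if ex 0 (j + 1) 1 = 0 then _ else _) = v j
    simp [ex_zero, ex_one]

lemma ker_coef (p q : ℕ) : LinearMap.ker (coef (k := k) p q) = (stdIdeal (p + 1) (q + 1)).restrictScalars k := by
  ext f
  rw [LinearMap.mem_ker, Submodule.restrictScalars_mem]
  constructor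
  · intro h
    refine mem_stdIdeal (Nat.le_add_left 1 p) (Nat.le_add_left 1 q) (fun i hi => ?_) fun j hj => ?_
    · cases i with
      | zero => exact congrArg Prod.fst h
      | succ i => exact congrFun (congrArg (fun w => w.2.1) h) ⟨i, by omega⟩
    · cases j with
      | zero => exact congrArg Prod.fst h
      | succ j => exact congrFun (congrArg (fun w => w.2.2) h) ⟨j, by omega⟩
  · intro h
    refine Prod.ext ?_ (Prod.ext (funext fun i => ?_) (funext fun j => ?_))
    · exact coeff_eq_zero_of_mem h _ (Or.inl ⟨ex_one _ _, by rw [ex_zero]; omega⟩) (by omega) (by omega)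
    · exact coeff_eq_zero_of_mem h _ (Or.inl ⟨ex_one _ _, by rw [ex_zero]; omega⟩) (by omega) (by omega)
    · exact coeff_eq_zero_of_mem h _ (Or.inr ⟨ex_zero _ _, by rw [ex_one]; omega⟩) (by omega) (by omega)

lemma finrank_coefTarget (p q : ℕ) : Module.finrank k (k × (Fin p → k) × (Fin q → k)) = 1 + (p + q) := by
  simp

lemma finrank_quot_eq (J : Ideal P2) {W : Type u} [AddCommGroup W] [Module k W] (L : P2 →ₗ[k] W)
    (hL : Function.Surjective L) (hker : LinearMap.ker L = J.restrictScalars k) :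
    Module.finrank k (P2 ⧸ J) = Module.finrank k W :=
  (((Submodule.Quotient.restrictScalarsEquiv k J).symm.trans (Submodule.quotEquivOfEq _ _ hker.symm)).trans
    (L.quotKerEquivOfSurjective hL)).finrank_eq

lemma coeff_X_pow_ex (s : Fin 2) (m : ℕ) (e : Fin 2 →₀ ℕ) :
    coeff e ((X s : P2) ^ m) = if e = Finsupp.single s m then 1 else 0 := by
  classical
  exact MvPowerSeries.coeff_X_pow e s m

end

/-- Ideals of colength n of the complete local ring of a node. Let k be a field and J an ideal of the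
power series ring k[[x,y]] in two variables x, y which contains xy and whose quotient is
finite-dimensional over k of dimension n ≥ 2. Then there are integers a, b ≥ 1 such that either a +
b = n + 1 and J is generated by xy, x^a, y^b, or a + b = n and J is generated by xy and x^a + α y^b
for some nonzero scalar α. -/
theorem result (k : Type u) [Field k]
    (J : Ideal (MvPowerSeries (Fin 2) k))
    (hxy : (MvPowerSeries.X 0 * MvPowerSeries.X 1 : MvPowerSeries (Fin 2) k) ∈ J)
    [Module.Finite k (MvPowerSeries (Fin 2) k ⧸ J)] (n : ℕ) (hn : Module.finrank k (MvPowerSeries (Fin 2) k ⧸ J) = n)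
    (h2 : 2 ≤ n) :
    ∃ a b : ℕ, 1 ≤ a ∧ 1 ≤ b ∧
      ((a + b = n + 1 ∧
        J = Ideal.span {MvPowerSeries.X 0 * MvPowerSeries.X 1, MvPowerSeries.X 0 ^ a, MvPowerSeries.X 1 ^ b}) ∨
       (a + b = n ∧ ∃ α : k, α ≠ 0 ∧
        J = Ideal.span {MvPowerSeries.X 0 * MvPowerSeries.X 1,
          MvPowerSeries.X 0 ^ a + MvPowerSeries.C α * MvPowerSeries.X 1 ^ b})) := by
  classical
  let P2 := MvPowerSeries (Fin 2) k
  have hunit : ∀ u : P2, MvPowerSeries.constantCoeff u ≠ 0 → IsUnit u := fun u hu =>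
    MvPowerSeries.isUnit_iff_constantCoeff.mpr (isUnit_iff_ne_zero.mpr hu)
  have hJtop : J ≠ ⊤ := fun h => by
    subst h
    haveI : Subsingleton (P2 ⧸ (⊤ : Ideal P2)) := Ideal.Quotient.subsingleton_iff.mpr rfl
    rw [Module.finrank_zero_of_subsingleton] at hn
    omega
  haveI : IsArtinianRing (P2 ⧸ J) := isArtinian_of_tower k inferInstance
  have hpow : ∀ s : Fin 2, ∃ N, (MvPowerSeries.X s : P2) ^ N ∈ J := by
    intro s
    obtain ⟨N, hN⟩ := IsArtinianRing.isNilpotent_jacobson_bot (R := P2 ⧸ J)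
    have hmem : Ideal.Quotient.mk J (MvPowerSeries.X s) ∈ Ideal.jacobson (⊥ : Ideal (P2 ⧸ J)) := by
      rw [Ideal.mem_jacobson_bot]
      intro y
      obtain ⟨y, rfl⟩ := Ideal.Quotient.mk_surjective y
      rw [← map_mul, ← map_one (Ideal.Quotient.mk J), ← map_add]
      exact (hunit _ (by simp)).map _
    have := Ideal.pow_mem_pow hmem N
    rw [hN, ← map_pow] at this
    exact ⟨N, Ideal.Quotient.eq_zero_iff_mem.mp this⟩
  let a := Nat.find (hpow 0)
  let b := Nat.find (hpow 1)
  have haJ : (MvPowerSeries.X 0 : P2) ^ a ∈ J := Nat.find_spec (hpow 0)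
  have hbJ : (MvPowerSeries.X 1 : P2) ^ b ∈ J := Nat.find_spec (hpow 1)
  have ha1 : 1 ≤ a := Nat.one_le_iff_ne_zero.mpr fun h => hJtop ((Ideal.eq_top_iff_one J).mpr (by simpa [h] using haJ))
  have hb1 : 1 ≤ b := Nat.one_le_iff_ne_zero.mpr fun h => hJtop ((Ideal.eq_top_iff_one J).mpr (by simpa [h] using hbJ))
  obtain ⟨p, hp⟩ : ∃ p, a = p + 1 := ⟨a - 1, by omega⟩
  obtain ⟨q, hq⟩ : ∃ q, b = q + 1 := ⟨b - 1, by omega⟩
  rw [hp] at haJ; rw [hq] at hbJ
  have hminA : ∀ i < p + 1, (MvPowerSeries.X 0 : P2) ^ i ∉ J := fun i hi => Nat.find_min (hpow 0) ((show i < a by omega))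
  have hminB : ∀ i < q + 1, (MvPowerSeries.X 1 : P2) ^ i ∉ J := fun i hi => Nat.find_min (hpow 1) ((show i < b by omega))
  have hstd : stdIdeal (p + 1) (q + 1) ≤ J := Ideal.span_le.mpr (by rintro _ (rfl | rfl | rfl); exacts [hxy, haJ, hbJ])
  have hconst : ∀ f ∈ J, MvPowerSeries.constantCoeff f = 0 := fun f hf => by
    by_contra h; exact hJtop (Ideal.eq_top_of_isUnit_mem _ hf (hunit f h))
  -- multiplying by a variable isolates one axis
  have hlow : ∀ (s t : Fin 2), s ≠ t → ∀ (m : ℕ), (∀ i < m + 1, (MvPowerSeries.X s : P2) ^ i ∉ J) →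
      ∀ f ∈ J, ∀ i, i < m → MvPowerSeries.coeff (Finsupp.single s i) f = 0 := by
    intro s t hst m hmin f hf i
    induction i using Nat.strong_induction_on with
    | _ i ih =>
      intro him
      by_contra hne
      have hdec : ∃ u : P2, MvPowerSeries.constantCoeff u ≠ 0 ∧ MvPowerSeries.X s * f - MvPowerSeries.X s ^ (i + 1) * u ∈ J := by
        let f₁ : P2 := fun e => if e t = 0 then MvPowerSeries.coeff e f else 0
        have hco : ∀ e, MvPowerSeries.coeff e f₁ = if e t = 0 then MvPowerSeries.coeff e f else 0 := fun e => rfl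
        have hsingle : ∀ e : Fin 2 →₀ ℕ, e t = 0 → e = Finsupp.single s (e s) := fun e he => by
          ext x
          rcases eq_or_ne x s with rfl | hx
          · simp
          · obtain rfl : x = t := by omega
            simp [he, hx]
        obtain ⟨u, hu⟩ := (MvPowerSeries.X_pow_dvd_iff (s := s) (φ := f₁) (n := i)).mpr fun e he => by
          rw [hco]
          split_ifs with h
          · rw [hsingle e h]; exact ih _ he (by omega)
          · rfl
        have hrest : MvPowerSeries.X t ∣ f - f₁ := MvPowerSeries.X_dvd_iff.mpr fun e he => by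
          rw [map_sub, hco, if_pos he, sub_self]
        obtain ⟨w, hw⟩ := hrest
        refine ⟨u, fun h0 => hne ?_, ?_⟩
        · have h1 : MvPowerSeries.coeff (Finsupp.single s i + 0) f₁ = MvPowerSeries.coeff 0 u := by
            rw [hu, MvPowerSeries.X_pow_eq, MvPowerSeries.coeff_add_monomial_mul, one_mul]
          rw [add_zero, hco, if_pos (by simp [Finsupp.single_apply, hst]), MvPowerSeries.coeff_zero_eq_constantCoeff, h0] at h1
          exact h1
        · have hst' : (MvPowerSeries.X s * MvPowerSeries.X t : P2) ∈ J := by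
            rcases (show (s = 0 ∧ t = 1) ∨ (s = 1 ∧ t = 0) by omega) with ⟨rfl, rfl⟩ | ⟨rfl, rfl⟩
            · exact hxy
            · rw [mul_comm]; exact hxy
          rw [show MvPowerSeries.X s * f - MvPowerSeries.X s ^ (i + 1) * u = MvPowerSeries.X s * MvPowerSeries.X t * w by
            rw [show f = f₁ + (f - f₁) by ring, hw, hu, pow_succ]; ring]
          exact J.mul_mem_right _ hst'
      obtain ⟨u, hu0, hu⟩ := hdec
      obtain ⟨v, hv⟩ := hunit u hu0
      have h2 : MvPowerSeries.X s ^ (i + 1) * u ∈ J := by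
        have := sub_mem (J.mul_mem_left (MvPowerSeries.X s) hf) hu
        rwa [sub_sub_cancel] at this
      refine hmin (i + 1) (by omega) ?_
      have := J.mul_mem_right (↑v⁻¹ : P2) h2
      rwa [← hv, mul_assoc, Units.mul_inv, mul_one] at this
  have hlowA : ∀ f ∈ J, ∀ i < p, MvPowerSeries.coeff (ex i 0) f = 0 := fun f hf i hi => by
    simpa [ex] using hlow 0 1 (by decide) p hminA f hf i hi
  have hlowB : ∀ f ∈ J, ∀ j < q, MvPowerSeries.coeff (ex 0 j) f = 0 := fun f hf j hj => by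
    simpa [ex] using hlow 1 0 (by decide) q hminB f hf j hj
  have hmem' : ∀ f ∈ J, MvPowerSeries.coeff (ex p 0) f = 0 → MvPowerSeries.coeff (ex 0 q) f = 0 →
      f ∈ stdIdeal (p + 1) (q + 1) := fun f hf hc hd =>
    mem_stdIdeal (Nat.le_add_left 1 p) (Nat.le_add_left 1 q)
      (fun i hi => (Nat.lt_succ_iff_lt_or_eq.mp hi).elim (hlowA f hf i) fun h => h ▸ hc)
      (fun j hj => (Nat.lt_succ_iff_lt_or_eq.mp hj).elim (hlowB f hf j) fun h => h ▸ hd)
  by_cases hJle : J ≤ stdIdeal (p + 1) (q + 1)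
  · have hJeq : J = stdIdeal (p + 1) (q + 1) := le_antisymm hJle hstd
    refine ⟨p + 1, q + 1, by omega, by omega, Or.inl ⟨?_, hJeq⟩⟩
    have := finrank_quot_eq J (coef p q) (coef_surjective p q) (by rw [ker_coef, hJeq])
    rw [hn, finrank_coefTarget] at this
    omega
  · obtain ⟨f₀, hf₀, hf₀'⟩ := SetLike.not_le_iff_exists.mp hJle
    set c := MvPowerSeries.coeff (ex p 0) f₀
    set d := MvPowerSeries.coeff (ex 0 q) f₀
    let g₀ : P2 := MvPowerSeries.C c * MvPowerSeries.X 0 ^ p + MvPowerSeries.C d * MvPowerSeries.X 1 ^ q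
    have hconst0 : MvPowerSeries.coeff (ex 0 0) f₀ = 0 := by
      rw [show ex 0 0 = 0 by simp [ex], MvPowerSeries.coeff_zero_eq_constantCoeff]; exact hconst f₀ hf₀
    have hp0 : p = 0 → c = 0 := fun h => by simp only [c, h]; exact hconst0
    have hq0 : q = 0 → d = 0 := fun h => by simp only [d, h]; exact hconst0
    have hcoef : ∀ i j, MvPowerSeries.coeff (ex i j) g₀ = (if i = p ∧ j = 0 then c else 0) + (if i = 0 ∧ j = q then d else 0) := by
      intro i j
      simp only [g₀, map_add, MvPowerSeries.coeff_C_mul, coeff_X_pow_ex,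
        show Finsupp.single (0 : Fin 2) p = ex p 0 by simp [ex], show Finsupp.single (1 : Fin 2) q = ex 0 q by simp [ex], ex_inj]
      split_ifs <;> simp
    have hdiff : f₀ - g₀ ∈ stdIdeal (p + 1) (q + 1) := by
      refine mem_stdIdeal (Nat.le_add_left 1 p) (Nat.le_add_left 1 q) (fun i hi => ?_) fun j hj => ?_
      · rw [map_sub, hcoef]
        rcases Nat.lt_succ_iff_lt_or_eq.mp hi with h | rfl
        · rw [hlowA f₀ hf₀ i h, if_neg (by omega)]
          split_ifs with h2
          · rw [hq0 h2.2.symm]; simp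
          · simp
        · rw [if_pos ⟨rfl, rfl⟩]
          split_ifs with h2
          · rw [hq0 h2.2.symm]; simp [c]
          · simp [c]
      · rw [map_sub, hcoef]
        rcases Nat.lt_succ_iff_lt_or_eq.mp hj with h | rfl
        · rw [hlowB f₀ hf₀ j h, if_neg (c := 0 = 0 ∧ j = q) (by omega)]
          split_ifs with h2
          · rw [hp0 h2.1.symm]; simp
          · simp
        · rw [if_pos (c := 0 = 0 ∧ j = j) ⟨rfl, rfl⟩]
          split_ifs with h2
          · rw [hp0 h2.1.symm]; simp [d]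
          · simp [d]
    have hg₀J : g₀ ∈ J := by
      have := sub_mem hf₀ (hstd hdiff)
      rwa [sub_sub_cancel] at this
    have hc : c ≠ 0 := fun h => by
      by_cases hd : d = 0
      · exact hf₀' (hmem' f₀ hf₀ h hd)
      · refine hminB q (Nat.lt_succ_self q) ?_
        have h' : MvPowerSeries.C d * MvPowerSeries.X 1 ^ q ∈ J := by simpa [g₀, h] using hg₀J
        have := J.mul_mem_left (MvPowerSeries.C d⁻¹) h'
        rwa [← mul_assoc, ← map_mul, inv_mul_cancel₀ hd, map_one, one_mul] at this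
    have hd : d ≠ 0 := fun h => by
      refine hminA p (Nat.lt_succ_self p) ?_
      have h' : MvPowerSeries.C c * MvPowerSeries.X 0 ^ p ∈ J := by simpa [g₀, h] using hg₀J
      have := J.mul_mem_left (MvPowerSeries.C c⁻¹) h'
      rwa [← mul_assoc, ← map_mul, inv_mul_cancel₀ hc, map_one, one_mul] at this
    have hp1 : 1 ≤ p := Nat.one_le_iff_ne_zero.mpr fun h => hc (hp0 h)
    have hq1 : 1 ≤ q := Nat.one_le_iff_ne_zero.mpr fun h => hd (hq0 h)
    let α := d / c
    let h₀ : P2 := MvPowerSeries.X 0 ^ p + MvPowerSeries.C α * MvPowerSeries.X 1 ^ q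
    have hgh : g₀ = MvPowerSeries.C c * h₀ := by
      simp only [g₀, h₀, mul_add, ← mul_assoc, ← map_mul, α, mul_div_cancel₀ _ hc]
    have hh₀J : h₀ ∈ J := by
      have := J.mul_mem_left (MvPowerSeries.C c⁻¹) hg₀J
      rwa [hgh, ← mul_assoc, ← map_mul, inv_mul_cancel₀ hc, map_one, one_mul] at this
    have hcoefh : ∀ i j, MvPowerSeries.coeff (ex i j) h₀ = c⁻¹ * MvPowerSeries.coeff (ex i j) g₀ := fun i j => by
      rw [hgh, MvPowerSeries.coeff_C_mul, ← mul_assoc, inv_mul_cancel₀ hc, one_mul]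
    have hdec : ∀ f ∈ J, f - MvPowerSeries.C (MvPowerSeries.coeff (ex p 0) f) * h₀ ∈ stdIdeal (p + 1) (q + 1) := by
      intro f hf
      have hc1 : MvPowerSeries.coeff (ex p 0) h₀ = 1 := by
        rw [hcoefh, hcoef, if_pos ⟨rfl, rfl⟩, if_neg (by omega), add_zero, inv_mul_cancel₀ hc]
      set F := f - MvPowerSeries.C (MvPowerSeries.coeff (ex p 0) f) * h₀ with hF
      have hFJ : F ∈ J := sub_mem hf (J.mul_mem_left _ hh₀J)
      have hF0 : MvPowerSeries.coeff (ex p 0) F = 0 := by
        rw [hF, map_sub, MvPowerSeries.coeff_C_mul, hc1, mul_one, sub_self]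
      by_contra hcon
      have hFq : MvPowerSeries.coeff (ex 0 q) F ≠ 0 := fun h => hcon (hmem' F hFJ hF0 h)
      refine hminB q (Nat.lt_succ_self q) ?_
      have hFd : F - MvPowerSeries.C (MvPowerSeries.coeff (ex 0 q) F) * MvPowerSeries.X 1 ^ q ∈ stdIdeal (p + 1) (q + 1) := by
        refine mem_stdIdeal (Nat.le_add_left 1 p) (Nat.le_add_left 1 q) (fun i hi => ?_) fun j hj => ?_
        · rw [map_sub, MvPowerSeries.coeff_C_mul, coeff_X_pow_ex, show Finsupp.single (1 : Fin 2) q = ex 0 q by simp [ex]]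
          rw [if_neg (by rw [ex_inj]; omega), mul_zero, sub_zero]
          rcases Nat.lt_succ_iff_lt_or_eq.mp hi with h | rfl
          · exact hlowA F hFJ i h
          · exact hF0
        · rw [map_sub, MvPowerSeries.coeff_C_mul, coeff_X_pow_ex, show Finsupp.single (1 : Fin 2) q = ex 0 q by simp [ex]]
          rcases Nat.lt_succ_iff_lt_or_eq.mp hj with h | rfl
          · rw [if_neg (by rw [ex_inj]; omega), mul_zero, sub_zero]; exact hlowB F hFJ j h
          · rw [if_pos rfl, mul_one, sub_self]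
      have h' := sub_mem hFJ (hstd hFd)
      rw [sub_sub_cancel] at h'
      have := J.mul_mem_left (MvPowerSeries.C (MvPowerSeries.coeff (ex 0 q) F)⁻¹) h'
      rwa [← mul_assoc, ← map_mul, inv_mul_cancel₀ hFq, map_one, one_mul] at this
    refine ⟨p, q, hp1, hq1, Or.inr ⟨?_, α, div_ne_zero hd hc, ?_⟩⟩
    · let v := coef p q h₀
      have hv : v ≠ 0 := fun h => hminA p (Nat.lt_succ_self p) (by
        have h1 : h₀ ∈ stdIdeal (p + 1) (q + 1) := by
          rw [← Submodule.restrictScalars_mem k, ← ker_coef]; exact h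
        have := coeff_eq_zero_of_mem h1 (ex p 0) (Or.inl ⟨ex_one _ _, by rw [ex_zero]; omega⟩) (by omega) (by omega)
        rw [hcoefh, hcoef, if_pos ⟨rfl, rfl⟩, if_neg (by omega), add_zero, inv_mul_cancel₀ hc] at this
        exact absurd this one_ne_zero)
      have hker : LinearMap.ker ((k ∙ v).mkQ.comp (coef p q)) = J.restrictScalars k := by
        ext f
        rw [LinearMap.mem_ker, LinearMap.comp_apply, Submodule.mkQ_apply, Submodule.Quotient.mk_eq_zero,
          Submodule.mem_span_singleton, Submodule.restrictScalars_mem]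
        constructor
        · rintro ⟨r, hr⟩
          have h1 : f - r • h₀ ∈ stdIdeal (p + 1) (q + 1) := by
            rw [← Submodule.restrictScalars_mem k, ← ker_coef, LinearMap.mem_ker, map_sub, map_smul, hr, sub_self]
          have h2 := add_mem (hstd h1) (Submodule.smul_of_tower_mem J r hh₀J)
          rwa [sub_add_cancel] at h2
        · intro hf
          refine ⟨MvPowerSeries.coeff (ex p 0) f, ?_⟩
          have h1 := hdec f hf
          rw [← MvPowerSeries.smul_eq_C_mul, ← Submodule.restrictScalars_mem k, ← ker_coef, LinearMap.mem_ker,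
            map_sub, map_smul, sub_eq_zero] at h1
          exact h1.symm
      have h := finrank_quot_eq J ((k ∙ v).mkQ.comp (coef p q)) ((Submodule.mkQ_surjective _).comp (coef_surjective p q)) hker
      have h' := Submodule.finrank_quotient_add_finrank (k ∙ v)
      rw [finrank_span_singleton hv, finrank_coefTarget] at h'
      omega
    · refine le_antisymm (fun f hf => ?_) (Ideal.span_le.mpr (by rintro _ (rfl | rfl); exacts [hxy, hh₀J]))
      have hgen : stdIdeal (p + 1) (q + 1) ≤ Ideal.span {MvPowerSeries.X 0 * MvPowerSeries.X 1, h₀} := by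
        refine Ideal.span_le.mpr ?_
        rintro _ (rfl | rfl | rfl)
        · exact Ideal.subset_span (Or.inl rfl)
        · refine Ideal.mem_span_pair.mpr ⟨-(MvPowerSeries.C α * MvPowerSeries.X 1 ^ (q - 1)), MvPowerSeries.X 0, ?_⟩
          obtain ⟨q', rfl⟩ : ∃ q', q = q' + 1 := ⟨q - 1, by omega⟩
          simp only [h₀, Nat.add_sub_cancel, pow_succ]
          ring
        · refine Ideal.mem_span_pair.mpr ⟨-(MvPowerSeries.C α⁻¹ * MvPowerSeries.X 0 ^ (p - 1)), MvPowerSeries.C α⁻¹ * MvPowerSeries.X 1, ?_⟩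
          obtain ⟨p', rfl⟩ : ∃ p', p = p' + 1 := ⟨p - 1, by omega⟩
          simp only [h₀, Nat.add_sub_cancel, pow_succ]
          have : MvPowerSeries.C α⁻¹ * MvPowerSeries.C α = (1 : P2) := by
            rw [← map_mul, inv_mul_cancel₀ (div_ne_zero hd hc), map_one]
          linear_combination (MvPowerSeries.X 1 ^ q * MvPowerSeries.X 1) * this
      have h1 := add_mem (hgen (hdec f hf)) (Ideal.mul_mem_left _ (MvPowerSeries.C (MvPowerSeries.coeff (ex p 0) f))
        (Ideal.subset_span (Or.inr rfl) : h₀ ∈ Ideal.span {MvPowerSeries.X 0 * MvPowerSeries.X 1, h₀}))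
      rwa [sub_add_cancel] at h1

end Groth.Agent.S19437
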