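import Groth.Statements.S19438
import Mathlib
-- import your own Groth.Agent.* helpers here

set_option autoImplicit false
universe u
open CAlg

namespace Groth.Agent.S19438

/-- First assertion: let A be a Noetherian local commutative algebra over a field k with maximal ideal
M, residue field k (the map from k to A/M is onto) and embedding dimension dim M/M^2 at least 2, and
let I be a proper ideal with A/I finite-dimensional over k. If A/I is generated as a k-algebra by
one element, then some element of I does not lie in M^2; that is, the finite closed subscheme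
defined by I lies on a smooth hypersurface germ (it is curvilinear). (The published statement is for
the local ring of a smooth surface at a closed point; only a Noetherian local algebra with residue
field k and embedding dimension at least 2 is assumed here, which is what the published argument
uses.) -/
theorem result (k : Type u) [Field k]
    (A : Type u) [CommRing A] [Algebra k A] [IsNoetherianRing A] [IsLocalRing A]
    (hres : Function.Surjective (algebraMap k (IsLocalRing.ResidueField A)))
    (hemb : 2 ≤ Module.finrank (IsLocalRing.ResidueField A) (IsLocalRing.CotangentSpace A))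
    (I : Ideal A) (hI : I ≠ ⊤) [Module.Finite k (A ⧸ I)]
    (f : A ⧸ I) (hf : Algebra.adjoin k {f} = ⊤) :
    ∃ g ∈ I, g ∉ IsLocalRing.maximalIdeal A ^ 2 := by
  classical
  set M := IsLocalRing.maximalIdeal A with hM
  by_contra hcon
  push Not at hcon
  have hIM : I ≤ M := IsLocalRing.le_maximalIdeal hI
  obtain ⟨g₀, hg₀⟩ := Ideal.Quotient.mk_surjective f
  obtain ⟨c, hc⟩ := hres (IsLocalRing.residue A g₀)
  set g := g₀ - algebraMap k A c with hgdef
  have hgM : g ∈ M := by
    rw [← IsLocalRing.residue_eq_zero_iff, hgdef, map_sub, ← hc]
    exact sub_self _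
  have hspan : M ≤ Ideal.span {g} ⊔ M ^ 2 := by
    intro x hx
    have hxf : Ideal.Quotient.mk I x ∈ Algebra.adjoin k {f} := by rw [hf]; trivial
    rw [Algebra.adjoin_singleton_eq_range_aeval] at hxf
    obtain ⟨P, hP⟩ := hxf
    have h1 : x - Polynomial.aeval g₀ P ∈ I := by
      rw [← Ideal.Quotient.eq, ← hP]
      show Polynomial.aeval f P = Ideal.Quotient.mkₐ k I (Polynomial.aeval g₀ P)
      rw [← Polynomial.aeval_algHom_apply, Ideal.Quotient.mkₐ_eq_mk, hg₀]
    obtain ⟨Q, hQ⟩ := Polynomial.X_sub_C_dvd_sub_C_eval (a := c) (p := P)
    have h2 : Polynomial.aeval g₀ P - algebraMap k A (P.eval c) ∈ Ideal.span {g} := by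
      refine Ideal.mem_span_singleton.mpr ⟨Polynomial.aeval g₀ Q, ?_⟩
      have := congrArg (Polynomial.aeval g₀) hQ
      simpa [hgdef] using this
    have hM2 : M ^ 2 ≤ M := Ideal.pow_le_self two_ne_zero
    have h3 : algebraMap k A (P.eval c) = 0 := by
      by_contra h
      have hu : IsUnit (algebraMap k A (P.eval c)) :=
        (isUnit_iff_ne_zero.mpr fun h0 => h (by rw [h0, map_zero])).map _
      have hmem : algebraMap k A (P.eval c) ∈ M := by
        have := sub_mem (sub_mem hx (hIM h1)) ((Ideal.span_le.mpr (Set.singleton_subset_iff.mpr hgM)) h2)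
        simpa using this
      exact (IsLocalRing.mem_maximalIdeal _).mp hmem hu
    rw [h3, sub_zero] at h2
    have := add_mem (Submodule.mem_sup_right (hcon _ h1) : _ ∈ Ideal.span {g} ⊔ M ^ 2) (Submodule.mem_sup_left h2)
    simpa using this
  have hle : M ≤ Ideal.span {g} :=
    Submodule.le_of_le_smul_of_le_jacobson_bot (I := M) (IsNoetherian.noetherian M)
      (IsLocalRing.maximalIdeal_le_jacobson _) (by rwa [Ideal.smul_eq_mul, ← sq])
  have hMg : M = Ideal.span {g} := le_antisymm hle (Ideal.span_le.mpr (Set.singleton_subset_iff.mpr hgM))
  have h1 : Module.finrank (IsLocalRing.ResidueField A) (IsLocalRing.CotangentSpace A) ≤ 1 := by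
    rw [← IsLocalRing.spanFinrank_maximalIdeal_eq_finrank_cotangentSpace, show IsLocalRing.maximalIdeal A = Ideal.span {g} from hMg]
    calc (Submodule.span A ({g} : Set A)).spanFinrank ≤ ({g} : Set A).ncard :=
          Submodule.spanFinrank_span_le_ncard_of_finite (Set.finite_singleton g)
      _ = 1 := Set.ncard_singleton g
  omega

end Groth.Agent.S19438
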