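import Groth.Statements.S19448
import Mathlib
import Groth.Agent.CA2H40.TameAut
-- import your own Groth.Agent.* helpers here

set_option autoImplicit false
universe u
open CAlg

namespace Groth.Agent.S19448

/-- Let k be a field, A a Noetherian local k-algebra with maximal ideal M and residue field k, and G a
finite group with |G| ≠ 0 in k acting on A by k-algebra automorphisms. An element of G which acts
trivially on M/M^2 acts trivially on A; in other words the stabilizer acts faithfully on the
cotangent space whenever it acts faithfully on the local ring. -/
theorem result (k : Type u) [Field k] (A : Type u) [CommRing A]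
    [Algebra k A] [IsLocalRing A] [IsNoetherianRing A]
    (hres : Function.Surjective (algebraMap k (IsLocalRing.ResidueField A)))
    (G : Type u) [Group G] [Finite G] [MulSemiringAction G A] [SMulCommClass G k A]
    (hG : (Nat.card G : k) ≠ 0) (g : G)
    (hg : ∀ a ∈ IsLocalRing.maximalIdeal A, g • a - a ∈ IsLocalRing.maximalIdeal A ^ 2) (a : A) :
    g • a = a := by
  have hn : IsUnit (Nat.card G : A) := CA2H40.isUnit_natCast_of_field hG
  have hiter : ∀ (i : ℕ) (b : A), (fun b => g • b)^[i] b = g ^ i • b := by
    intro i b; induction i with
    | zero => simp
    | succ i ih => rw [Function.iterate_succ_apply', ih, smul_smul, pow_succ']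
  refine CA2H40.eq_self_of_tame (MulSemiringAction.toRingHom G A g) (Nat.card G) hn (fun b => ?_)
    (fun b => ?_) hg a
  · show (fun b => g • b)^[Nat.card G] b = b
    rw [hiter, pow_card_eq_one', one_smul]
  · obtain ⟨c, hc⟩ := hres (IsLocalRing.residue A b)
    have hc' : b - algebraMap k A c ∈ IsLocalRing.maximalIdeal A := by
      rw [← IsLocalRing.residue_eq_zero_iff, map_sub, ← hc, sub_eq_zero]; rfl
    have e : g • b - b = g • (b - algebraMap k A c) - (b - algebraMap k A c) := by
      rw [smul_sub, Algebra.algebraMap_eq_smul_one, smul_comm g c (1 : A), smul_one]; ring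
    show g • b - b ∈ _
    rw [e]
    exact Ideal.pow_le_self two_ne_zero (hg _ hc')

end Groth.Agent.S19448
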