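import Groth.Statements.S19449
import Mathlib.LinearAlgebra.Matrix.Determinant.Basic
import Mathlib.Algebra.MvPolynomial.Rename
import Mathlib.Data.Prod.Lex

set_option autoImplicit false
universe u
open SymRep

namespace Groth.Agent.S19449

open MvPolynomial in
theorem monomial_eq_prod {k : Type u} [Field k] {n : ℕ} (m : Fin n × Fin 2 →₀ ℕ) :
    monomial m (1 : k) = ∏ j : Fin n, (X (j, 0) ^ m (j, 0) * X (j, 1) ^ m (j, 1)) := by
  rw [monomial_eq, map_one, one_mul, Finsupp.prod_fintype _ _ (fun _ => pow_zero _), Fintype.prod_prod_type]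
  simp only [Fin.prod_univ_two]

/-- The exponent of a product of monomials. -/
noncomputable def expo {n : ℕ} (q : Fin n → ℕ × ℕ) : Fin n × Fin 2 →₀ ℕ :=
  Finsupp.equivFunOnFinite.symm fun v => if v.2 = 0 then (q v.1).1 else (q v.1).2

theorem expo_injective {n : ℕ} : Function.Injective (expo (n := n)) := fun q q' h => funext fun i => by
  refine Prod.ext ?_ ?_
  · simpa [expo] using DFunLike.congr_fun h (i, 0)
  · simpa [expo] using DFunLike.congr_fun h (i, 1)

open MvPolynomial in
theorem det_eq {k : Type u} [Field k] {n : ℕ} (p : Fin n → ℕ × ℕ) :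
    (Matrix.of fun i j : Fin n =>
      (X (i, 0) : MvPolynomial (Fin n × Fin 2) k) ^ (p j).1 * X (i, 1) ^ (p j).2).det =
    ∑ σ : Equiv.Perm (Fin n), (Equiv.Perm.sign σ : ℤˣ) • monomial (expo (p ∘ σ.symm)) (1 : k) := by
  rw [Matrix.det_apply]
  refine Finset.sum_congr rfl fun σ _ => ?_
  congr 1
  rw [monomial_eq_prod, ← Equiv.prod_comp σ (fun j => X (j, 0) ^ _ * X (j, 1) ^ _)]
  refine Finset.prod_congr rfl fun j _ => ?_
  simp [expo]

/-- Over a field k of characteristic zero, let the symmetric group S_n act on the polynomial ring in the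
2n variables x_i, y_i (i < n; the variable (i, 0) is x_i and (i, 1) is y_i) by permuting the index
i, and for an n-tuple p of pairs (p_j, q_j) of exponents let Δ_p be the determinant det(x_i^{p_j}
y_i^{q_j}). A polynomial is alternating — each permutation acts on it by its sign — exactly when it
is a k-linear combination of the Δ_p; and the Δ_p for p strictly increasing in the lexicographic
order on pairs (one for each n-element set of exponent pairs) are linearly independent. Hence these
Δ_p form a basis of the space of alternating polynomials. -/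
theorem result (k : Type u) [Field k] [CharZero k] (n : ℕ) :
    (∀ f : MvPolynomial (Fin n × Fin 2) k,
      (∀ σ : Equiv.Perm (Fin n),
          MvPolynomial.rename (fun v : Fin n × Fin 2 => (σ v.1, v.2)) f = ((Equiv.Perm.sign σ : ℤˣ) : ℤ) • f) ↔
        f ∈ Submodule.span k (Set.range fun p : Fin n → ℕ × ℕ =>
          (Matrix.of fun i j : Fin n =>
            (MvPolynomial.X (i, 0) : MvPolynomial (Fin n × Fin 2) k) ^ (p j).1 * MvPolynomial.X (i, 1) ^ (p j).2).det)) ∧
    LinearIndependent k (fun p : {p : Fin n → ℕ ×ₗ ℕ // StrictMono p} =>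
      (Matrix.of fun i j : Fin n =>
        (MvPolynomial.X (i, 0) : MvPolynomial (Fin n × Fin 2) k) ^ (ofLex (p.1 j)).1 *
          MvPolynomial.X (i, 1) ^ (ofLex (p.1 j)).2).det) := by
  classical
  refine ⟨fun f => ⟨fun hf => ?_, fun hf σ => ?_⟩, ?_⟩
  · set V := Submodule.span k (Set.range fun p : Fin n → ℕ × ℕ =>
      (Matrix.of fun i j : Fin n =>
        (MvPolynomial.X (i, 0) : MvPolynomial (Fin n × Fin 2) k) ^ (p j).1 * MvPolynomial.X (i, 1) ^ (p j).2).det)
    have key : ∀ g : MvPolynomial (Fin n × Fin 2) k, (∑ σ : Equiv.Perm (Fin n),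
        ((Equiv.Perm.sign σ : ℤˣ) : ℤ) • MvPolynomial.rename (fun v : Fin n × Fin 2 => (σ v.1, v.2)) g) ∈ V := by
      intro g
      induction g using MvPolynomial.induction_on' with
      | monomial m c =>
        have hm : MvPolynomial.monomial m c = c • MvPolynomial.monomial m (1 : k) := by
          rw [MvPolynomial.smul_monomial, smul_eq_mul, mul_one]
        have : (∑ σ : Equiv.Perm (Fin n), ((Equiv.Perm.sign σ : ℤˣ) : ℤ) •
            MvPolynomial.rename (fun v : Fin n × Fin 2 => (σ v.1, v.2)) (MvPolynomial.monomial m c)) =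
            c • (Matrix.of fun i j : Fin n => (MvPolynomial.X (i, 0) : MvPolynomial (Fin n × Fin 2) k) ^
              (m (j, 0)) * MvPolynomial.X (i, 1) ^ (m (j, 1))).det := by
          rw [Matrix.det_apply, Finset.smul_sum]
          refine Finset.sum_congr rfl fun σ _ => ?_
          rw [hm, map_smul, monomial_eq_prod, map_prod, smul_comm]
          simp only [Units.smul_def, map_mul, map_pow, MvPolynomial.rename_X, Matrix.of_apply]
        rw [this]
        exact V.smul_mem _ (Submodule.subset_span ⟨fun j => (m (j, 0), m (j, 1)), rfl⟩)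
      | add a b ha hb =>
        simp only [map_add, smul_add, Finset.sum_add_distrib]
        exact V.add_mem ha hb
    have h := key f
    simp only [hf, smul_smul, ← Units.val_mul, Int.units_mul_self, Units.val_one, one_smul, Finset.sum_const] at h
    rw [Finset.card_univ, ← Nat.cast_smul_eq_nsmul k] at h
    have := V.smul_mem ((Fintype.card (Equiv.Perm (Fin n)) : k))⁻¹ h
    rwa [smul_smul, inv_mul_cancel₀ (by exact_mod_cast Fintype.card_ne_zero), one_smul] at this
  · induction hf using Submodule.span_induction with
    | mem g hg =>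
      obtain ⟨p, rfl⟩ := hg
      dsimp only
      rw [AlgHom.map_det]
      refine (congrArg Matrix.det ?_).trans ((Matrix.det_permute σ (Matrix.of fun i j : Fin n =>
        (MvPolynomial.X (i, 0) : MvPolynomial (Fin n × Fin 2) k) ^ (p j).1 * MvPolynomial.X (i, 1) ^ (p j).2)).trans ?_)
      · ext i j
        simp
      · rw [zsmul_eq_mul]
    | zero => simp
    | add a b _ _ ha hb => rw [map_add, ha, hb, smul_add]
    | smul c a _ ha => rw [map_smul, ha, smul_comm]
  · rw [linearIndependent_iff']
    intro S g hg q hq
    have h := congrArg (MvPolynomial.coeff (expo (fun j => ofLex (q.1 j)))) hg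
    rw [MvPolynomial.coeff_sum, MvPolynomial.coeff_zero, Finset.sum_eq_single_of_mem q hq] at h
    · rw [MvPolynomial.coeff_smul, det_eq (fun j => ofLex (q.1 j)), MvPolynomial.coeff_sum,
        Finset.sum_eq_single_of_mem (1 : Equiv.Perm (Fin n)) (Finset.mem_univ _)] at h
      · simpa [Function.comp_def, Equiv.Perm.one_def] using h
      · intro σ _ hσ
        rw [Units.smul_def, MvPolynomial.coeff_smul, MvPolynomial.coeff_monomial, if_neg, smul_zero]
        intro he
        refine hσ (Equiv.ext fun i => ?_)
        have h1 : ∀ i, q.1 (σ.symm i) = q.1 i := fun i => ofLex_inj.1 (congrFun (expo_injective he) i)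
        have h2 := q.2.injective (h1 (σ i))
        rw [Equiv.symm_apply_apply] at h2
        simpa using h2.symm
    · intro q' _ hne
      rw [MvPolynomial.coeff_smul, det_eq (fun j => ofLex (q'.1 j)), MvPolynomial.coeff_sum,
        Finset.sum_eq_zero, smul_zero]
      intro σ _
      rw [Units.smul_def, MvPolynomial.coeff_smul, MvPolynomial.coeff_monomial, if_neg, smul_zero]
      intro he
      refine hne (Subtype.ext ?_)
      have h1 : q'.1 ∘ σ.symm = q.1 := funext fun i => ofLex_inj.1 (congrFun (expo_injective he) i)
      refine funext fun i => ?_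
      have h2 : Set.range q'.1 = Set.range q.1 := by
        rw [← h1, Set.range_comp, σ.symm.surjective.range_eq, Set.image_univ]
      exact congrFun ((StrictMono.range_inj q'.2 q.2).1 h2) i

end Groth.Agent.S19449
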