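import Groth.Statements.S19450
import Groth.Agent.SymProdLib.Singular

set_option autoImplicit false
universe u
open CategoryTheory CategoryTheory.Limits AlgebraicGeometry
open SymProd

namespace Groth.Agent.S19450

/-- Let k be an algebraically closed field, X an irreducible smooth separated k-scheme of dimension d ≥
2 in which every finite set of points lies in an affine open (as for X quasi-projective), n ≥ 2, and
q : X ×_k ⋯ ×_k X → Y (n factors) a symmetric product over k, i.e. a quotient by the symmetric group
permuting the factors. Then for a closed point z of the n-fold product, the local ring of Y at q(z)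
is regular if and only if the n components of z are pairwise distinct points of X; that is, the
singular locus of the n-th symmetric power is the image of the big diagonal. -/
theorem result (k : Type u) [Field k] [IsAlgClosed k]
    (X : Scheme.{u}) (f : X ⟶ Spec (CommRingCat.of k)) [Smooth f] [IsSeparated f]
    [IrreducibleSpace X]
    (d : ℕ) (hd : 2 ≤ d) (hdim : topologicalKrullDim X = d) (hAF : SymProd.IsAF f)
    (n : ℕ) (hn : 2 ≤ n) (Y : Scheme.{u}) (q : SymProd.fibPow f n ⟶ Y) (g : Y ⟶ Spec (CommRingCat.of k))
    (hY : SymProd.IsSymProd f n q g) (z : SymProd.fibPow f n) (hz : IsClosed ({z} : Set (SymProd.fibPow f n))) :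
    IsRegularLocalRing (Y.presheaf.stalk (q.base z)) ↔
      Function.Injective (fun i : Fin n => (WidePullback.π (fun _ : Fin n => f) i).base z) := by
  haveI : Finite (ULift.{u} (Equiv.Perm (Fin n))) := inferInstance
  haveI : Smooth (WidePullback.base fun _ : Fin n => f) := Groth.Agent.SymProdLib.smooth_base f n
  haveI : IsFinite q := SGA1Q.isFinite_of_isQuot hY.isQuot hY.over inferInstance
  haveI : LocallyOfFiniteType g := SGA1Q.locallyOfFiniteType_of_isQuot hY.isQuot hY.over inferInstance
  haveI : IsLocallyNoetherian Y := LocallyOfFiniteType.isLocallyNoetherian g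
  haveI : SmoothOfRelativeDimension d f := Groth.Agent.SymProdLib.smoothOfRelativeDimension_of_irreducible d hdim
  exact ⟨Groth.Agent.SymProdLib.injective_of_isRegularLocalRing_stalk d hd hY z hz,
    Groth.Agent.SymProdLib.isRegularLocalRing_stalk_of_injective hY z⟩

end Groth.Agent.S19450
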