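import Groth.Statements.S19453
import Mathlib
-- import your own Groth.Agent.* helpers here

set_option autoImplicit false
universe u
open CAlg

namespace Groth.Agent.S19453

/-- Converse direction: let k be a field, A a regular local k-algebra of Krull dimension 2 with maximal
ideal M and residue field k, and I an ideal with A/I of finite dimension n ≥ 1 over k. If some
element of I does not lie in M^2, then A/I is isomorphic as a k-algebra to k[x]/(x^n): a cluster
lying on a smooth curve germ of a smooth surface is curvilinear, with coordinate ring generated by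
one element. -/
theorem result (k : Type u) [Field k]
    (A : Type u) [CommRing A] [Algebra k A] [IsRegularLocalRing A] (hdim : ringKrullDim A = 2)
    (hres : Function.Surjective (algebraMap k (IsLocalRing.ResidueField A)))
    (I : Ideal A) [Module.Finite k (A ⧸ I)] (n : ℕ) (hn : Module.finrank k (A ⧸ I) = n) (h1 : 1 ≤ n)
    (g : A) (hgI : g ∈ I) (hg : g ∉ IsLocalRing.maximalIdeal A ^ 2) :
    Nonempty ((A ⧸ I) ≃ₐ[k] (Polynomial k ⧸ Ideal.span {(Polynomial.X : Polynomial k) ^ n})) := by
  classical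
  set M := IsLocalRing.maximalIdeal A with hM
  have hsf : Module.finrank (IsLocalRing.ResidueField A) (IsLocalRing.CotangentSpace A) = 2 := by
    have h := IsRegularLocalRing.spanFinrank_maximalIdeal (R := A)
    rw [hdim, IsLocalRing.spanFinrank_maximalIdeal_eq_finrank_cotangentSpace] at h
    exact_mod_cast h
  haveI hnt : Nontrivial (A ⧸ I) := by
    by_contra h
    rw [not_nontrivial_iff_subsingleton] at h
    rw [Module.finrank_zero_of_subsingleton] at hn
    omega
  have hI : I ≠ ⊤ := Ideal.Quotient.nontrivial_iff.mp hnt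
  have hIM : I ≤ M := IsLocalRing.le_maximalIdeal hI
  have hgM : g ∈ M := hIM hgI
  have hg0 : M.toCotangent ⟨g, hgM⟩ ≠ 0 := fun h => hg (by rw [Ideal.toCotangent_eq_zero] at h; exact h)
  obtain ⟨w, hw⟩ : ∃ w : IsLocalRing.CotangentSpace A,
      w ∉ Submodule.span (IsLocalRing.ResidueField A) {M.toCotangent ⟨g, hgM⟩} := by
    by_contra hcon
    push Not at hcon
    have := finrank_span_singleton (K := IsLocalRing.ResidueField A) hg0
    rw [show Submodule.span (IsLocalRing.ResidueField A) {M.toCotangent ⟨g, hgM⟩} = ⊤ from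
      eq_top_iff.mpr fun w _ => hcon w, finrank_top] at this
    exact absurd (hsf.symm.trans this) (by omega)
  obtain ⟨⟨h, hhM⟩, rfl⟩ := M.toCotangent_surjective w
  have hgen : M ≤ Ideal.span {g, h} ⊔ M ^ 2 := by
    intro x hx
    let V := Submodule.span (IsLocalRing.ResidueField A) (Set.range ![M.toCotangent ⟨g, hgM⟩, M.toCotangent ⟨h, hhM⟩])
    have hli : LinearIndependent (IsLocalRing.ResidueField A) ![M.toCotangent ⟨g, hgM⟩, M.toCotangent ⟨h, hhM⟩] := by
      rw [LinearIndependent.pair_iff' hg0]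
      exact fun a ha => hw (Submodule.mem_span_singleton.mpr ⟨a, ha⟩)
    have htop : V = ⊤ := hli.span_eq_top_of_card_eq_finrank (by rw [Fintype.card_fin]; exact hsf.symm)
    have hx' : M.toCotangent ⟨x, hx⟩ ∈ V := by rw [htop]; trivial
    obtain ⟨cs, hcs⟩ := (Submodule.mem_span_range_iff_exists_fun _).mp hx'
    choose a ha using fun i => IsLocalRing.residue_surjective (cs i)
    have h2 : M.toCotangent (a 0 • ⟨g, hgM⟩ + a 1 • ⟨h, hhM⟩) = M.toCotangent ⟨x, hx⟩ := by
      rw [← hcs, Fin.sum_univ_two, map_add, map_smul, map_smul, ← ha 0, ← ha 1]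
      rfl
    rw [Ideal.toCotangent_eq] at h2
    have h3 : x = (a 0 * g + a 1 * h) - ((a 0 * g + a 1 * h) - x) := by ring
    rw [h3]
    exact sub_mem (Submodule.mem_sup_left (Ideal.mem_span_pair.mpr ⟨_, _, rfl⟩)) (Submodule.mem_sup_right h2)
  have hMgh : M = Ideal.span {g, h} := le_antisymm
    (Submodule.le_of_le_smul_of_le_jacobson_bot (I := M) (IsNoetherian.noetherian M)
      (IsLocalRing.maximalIdeal_le_jacobson _) (by rwa [Ideal.smul_eq_mul, ← sq]))
    (Ideal.span_le.mpr (by rintro _ (rfl | rfl); exacts [hgM, hhM]))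
  set ξ : A ⧸ I := Ideal.Quotient.mk I h
  let φ : Polynomial k →ₐ[k] A ⧸ I := Polynomial.aeval ξ
  haveI : IsLocalRing (A ⧸ I) := IsLocalRing.of_surjective' (Ideal.Quotient.mk I) Ideal.Quotient.mk_surjective
  haveI : IsArtinianRing (A ⧸ I) := isArtinian_of_tower k inferInstance
  have hmax : ∀ z : A ⧸ I, ∃ (c : k) (w : A ⧸ I), z = algebraMap k (A ⧸ I) c + ξ * w := by
    intro z
    obtain ⟨a, rfl⟩ := Ideal.Quotient.mk_surjective z
    obtain ⟨c, hc⟩ := hres (IsLocalRing.residue A a)
    have hm : a - algebraMap k A c ∈ Ideal.span {g, h} := by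
      rw [← hMgh, hM, ← IsLocalRing.residue_eq_zero_iff, map_sub, ← hc]
      exact sub_self _
    obtain ⟨u, v, huv⟩ := Ideal.mem_span_pair.mp hm
    refine ⟨c, Ideal.Quotient.mk I v, ?_⟩
    rw [show a = algebraMap k A c + h * v + u * g by linear_combination -huv, map_add, map_add, map_mul, map_mul,
      Ideal.Quotient.eq_zero_iff_mem.mpr hgI, mul_zero, add_zero]
    rfl
  obtain ⟨N, hN⟩ : ∃ N, ξ ^ N = 0 := by
    obtain ⟨N, hN⟩ := IsArtinianRing.isNilpotent_jacobson_bot (R := A ⧸ I)
    refine ⟨N, ?_⟩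
    have hmem : ξ ∈ Ideal.jacobson (⊥ : Ideal (A ⧸ I)) := by
      refine IsLocalRing.maximalIdeal_le_jacobson _ ((IsLocalRing.mem_maximalIdeal ξ).mpr fun hu => ?_)
      obtain ⟨b, hb⟩ := hu.exists_right_inv
      obtain ⟨b, rfl⟩ := Ideal.Quotient.mk_surjective b
      rw [← map_mul, ← map_one (Ideal.Quotient.mk I), Ideal.Quotient.eq] at hb
      exact (IsLocalRing.maximalIdeal.isMaximal A).ne_top ((Ideal.eq_top_iff_one _).mpr (by
        have h2 := sub_mem (Ideal.mul_mem_right b M hhM) (hIM hb)
        rwa [sub_sub_cancel] at h2))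
    have := Ideal.pow_mem_pow hmem N
    rwa [hN] at this
  have hsurj : Function.Surjective φ := by
    have key : ∀ (m : ℕ) (z : A ⧸ I), ∃ (P : Polynomial k) (w : A ⧸ I), z = φ P + ξ ^ m * w := by
      intro m
      induction m with
      | zero => exact fun z => ⟨0, z, by simp⟩
      | succ m ih =>
        intro z
        obtain ⟨P, w, hz⟩ := ih z
        obtain ⟨c, w', hw'⟩ := hmax w
        refine ⟨P + Polynomial.X ^ m * Polynomial.C c, w', ?_⟩
        simp only [φ, map_add, map_mul, map_pow, Polynomial.aeval_X, Polynomial.aeval_C] at hz ⊢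
        rw [hz, hw', pow_succ]
        ring
    intro z
    obtain ⟨P, w, hz⟩ := key N z
    exact ⟨P, by rw [hz, hN, zero_mul, add_zero]⟩
  haveI : (RingHom.ker φ.toRingHom).IsPrincipal := IsPrincipalIdealRing.principal _
  set G := Submodule.IsPrincipal.generator (RingHom.ker φ.toRingHom)
  have hG : Ideal.span {G} = RingHom.ker φ.toRingHom := Ideal.span_singleton_generator _
  have hXN : (Polynomial.X : Polynomial k) ^ N ∈ Ideal.span {G} := by
    rw [hG, RingHom.mem_ker]
    simpa [φ] using hN
  obtain ⟨j, -, hj⟩ := (dvd_prime_pow Polynomial.prime_X N).mp (Ideal.mem_span_singleton.mp hXN)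
  have hspan : RingHom.ker φ.toRingHom = Ideal.span {(Polynomial.X : Polynomial k) ^ j} := by
    rw [← hG, Ideal.span_singleton_eq_span_singleton]; exact hj
  let e : (Polynomial k ⧸ Ideal.span {(Polynomial.X : Polynomial k) ^ j}) ≃ₐ[k] A ⧸ I :=
    (Ideal.quotientEquivAlgOfEq k hspan.symm).trans (Ideal.quotientKerAlgEquivOfSurjective hsurj)
  have hjn : j = n := by
    rw [← hn, ← e.toLinearEquiv.finrank_eq, finrank_quotient_span_eq_natDegree, Polynomial.natDegree_X_pow]
  subst hjn
  exact ⟨e.symm⟩

end Groth.Agent.S19453
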