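import Groth.Statements.S19462
import Mathlib
-- import your own Groth.Agent.* helpers here

set_option autoImplicit false
universe u
open GrNak

namespace Groth.Agent.S19462

section
open DirectSum
variable {R : Type u} [CommRing R] {σ : Type u} [SetLike σ R] [AddSubmonoidClass σ R] (𝒜 : ℤ → σ) [GradedRing 𝒜]
variable {M : Type u} [AddCommGroup M] [Module R M] {τ : Type u} [SetLike τ M] [AddSubmonoidClass τ M] (ℳ : ℤ → τ)
  [DirectSum.Decomposition ℳ] [SetLike.GradedSMul 𝒜 ℳ]

theorem decompose_smul_of_mem {t : M} {e : ℤ} (ht : t ∈ ℳ e) (a : R) (n : ℤ) :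
    ((DirectSum.decompose ℳ (a • t)) n : M) = (DirectSum.decompose 𝒜 a (n - e) : R) • t := by
  classical
  induction a using DirectSum.Decomposition.inductionOn 𝒜 with
  | zero => simp
  | homogeneous b =>
    rename_i i
    have hbt : (b : R) • t ∈ ℳ (i + e) := SetLike.GradedSMul.smul_mem b.2 ht
    rcases eq_or_ne (i + e) n with h | h
    · subst h
      rw [DirectSum.decompose_of_mem_same ℳ hbt, add_sub_cancel_right, DirectSum.decompose_of_mem_same 𝒜 b.2]
    · rw [DirectSum.decompose_of_mem_ne ℳ hbt h,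
        DirectSum.decompose_of_mem_ne 𝒜 b.2 (fun h' => h (by rw [h', sub_add_cancel])), zero_smul]
  | add a b ha hb =>
    rw [add_smul, DirectSum.decompose_add, DirectSum.add_apply, AddMemClass.coe_add, ha, hb,
      DirectSum.decompose_add, DirectSum.add_apply, AddMemClass.coe_add, add_smul]

theorem exists_homogeneous_generators [Module.Finite R M] :
    ∃ (K : ℕ) (t : Fin K → M) (e : Fin K → ℤ), (∀ j, t j ∈ ℳ (e j)) ∧
      Submodule.span R (Set.range t) = ⊤ := by
  classical
  obtain ⟨F, hF⟩ := (Module.finite_def.mp ‹_› : (⊤ : Submodule R M).FG)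
  let κ₀ := Σ x : F, (DirectSum.decompose ℳ (x : M)).support
  let t₀ : κ₀ → M := fun i => (DirectSum.decompose ℳ (i.1 : M) i.2 : M)
  refine ⟨Fintype.card κ₀, t₀ ∘ (Fintype.equivFin κ₀).symm,
    fun j => ((Fintype.equivFin κ₀).symm j).2, fun j => SetLike.coe_mem _, ?_⟩
  rw [(Fintype.equivFin κ₀).symm.surjective.range_comp t₀, ← top_le_iff, ← hF, Submodule.span_le]
  intro x hx
  rw [SetLike.mem_coe, ← DirectSum.sum_support_decompose ℳ x]
  exact sum_mem fun n hn => Submodule.subset_span ⟨⟨⟨x, hx⟩, ⟨n, hn⟩⟩, rfl⟩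

include 𝒜 in
theorem mem_of_sum_smul {K : ℕ} {t : Fin K → M} {e : Fin K → ℤ} (ht : ∀ j, t j ∈ ℳ (e j)) {n : ℤ} {x : M}
    (hx : x ∈ ℳ n) (c : Fin K → R) (hc : ∑ j, c j • t j = x) :
    x = ∑ j, (DirectSum.decompose 𝒜 (c j) (n - e j) : R) • t j := by
  conv_lhs => rw [← DirectSum.decompose_of_mem_same ℳ hx, ← hc]
  rw [DirectSum.decompose_sum]
  have h : ∀ (s : Finset (Fin K)) (g : Fin K → ⨁ i, ℳ i), (((∑ i ∈ s, g i) n : ℳ n) : M) = ∑ i ∈ s, ((g i n : ℳ n) : M) := fun s g =>
    map_sum ((AddSubmonoidClass.subtype (ℳ n)).comp (DFinsupp.evalAddMonoidHom (β := fun i => ℳ i) n)) g s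
  rw [h]
  exact Finset.sum_congr rfl fun j _ => decompose_smul_of_mem 𝒜 ℳ (ht j) _ _


/-- All components of degree below `n` vanish. -/
def Above (n : ℕ) (r : R) : Prop := ∀ i : ℤ, i < n → (decompose 𝒜 r i : R) = 0

variable (hneg : ∀ i : ℤ, i < 0 → ∀ x ∈ 𝒜 i, x = 0)
include hneg

theorem Above.mul {m n : ℕ} {a b : R} (ha : Above 𝒜 m a) (hb : Above 𝒜 n b) : Above 𝒜 (m + n) (a * b) := by
  classical
  intro i hi
  rw [decompose_mul, DirectSum.coe_mul_apply]
  refine Finset.sum_eq_zero fun jl hjl => ?_
  obtain ⟨-, h⟩ := Finset.mem_filter.mp hjl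
  rcases lt_or_ge jl.1 (m : ℤ) with h1 | h1
  · rw [ha _ h1, zero_mul]
  · rw [hb _ (by omega), mul_zero]

omit hneg in
theorem Above.sum {n : ℕ} {κ : Type*} (s : Finset κ) (f : κ → R) (h : ∀ k ∈ s, Above 𝒜 n (f k)) :
    Above 𝒜 n (∑ k ∈ s, f k) := by
  classical
  intro i hi
  rw [decompose_sum]
  refine (map_sum ((AddSubmonoidClass.subtype (𝒜 i)).comp (DFinsupp.evalAddMonoidHom (β := fun i => 𝒜 i) i)) _ s).trans ?_
  exact Finset.sum_eq_zero fun k hk => h k hk i hi

theorem eq_zero_of_idempotent_above {K : ℕ} (E : Fin K → Fin K → R) (hE : ∀ a b, Above 𝒜 1 (E a b))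
    (hid : ∀ a b, E a b = ∑ c, E a c * E c b) : ∀ a b, E a b = 0 := by
  classical
  have key : ∀ n, ∀ a b, Above 𝒜 (n + 1) (E a b) := by
    intro n
    induction n with
    | zero => exact hE
    | succ n ih =>
      intro a b
      rw [hid a b]
      exact Above.sum 𝒜 _ _ fun c _ => (ih a c).mul 𝒜 hneg (hE c b)
  intro a b
  rw [← sum_support_decompose 𝒜 (E a b)]
  refine Finset.sum_eq_zero fun i _ => key i.toNat a b i ?_
  omega

end

/-- Let k be a field and R a commutative ℤ-graded k-algebra whose pieces of negative degree vanish and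
whose degree-zero piece is the image of k, and let M be a finitely generated ℤ-graded R-module,
graded compatibly with R. Then M is a projective R-module if and only if M has an R-basis consisting
of homogeneous elements, i.e. M is a free graded module. (The published statement takes R a graded
quotient of a polynomial ring k[x_0, …, x_n] with its standard grading; stated here for any
commutative graded k-algebra concentrated in non-negative degrees with degree-zero part k, to which
the same graded-Nakayama argument applies.) -/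
theorem result {k : Type u} [Field k] {R : Type u} [CommRing R] [Algebra k R]
    {σ : Type u} [SetLike σ R] [AddSubmonoidClass σ R] (𝒜 : ℤ → σ) [GradedRing 𝒜]
    (hneg : ∀ i : ℤ, i < 0 → ∀ x ∈ 𝒜 i, x = 0)
    (hk : ∀ c : k, algebraMap k R c ∈ 𝒜 0) (h0 : ∀ x ∈ 𝒜 0, ∃ c : k, algebraMap k R c = x)
    {M : Type u} [AddCommGroup M] [Module R M] [Module.Finite R M]
    {τ : Type u} [SetLike τ M] [AddSubmonoidClass τ M] (ℳ : ℤ → τ) [DirectSum.Decomposition ℳ]
    [SetLike.GradedSMul 𝒜 ℳ] :
    Module.Projective R M ↔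
      ∃ (ι : Type u) (b : Module.Basis ι R M), ∀ i : ι, SetLike.IsHomogeneousElem ℳ (b i) := by
  classical
  constructor
  · intro hproj
    have hu : ∀ r ∈ 𝒜 0, r ≠ 0 → IsUnit r := by
      intro r hr hr0
      obtain ⟨c, rfl⟩ := h0 r hr
      exact (isUnit_iff_ne_zero.mpr fun hc => hr0 (by rw [hc, map_zero])).map (algebraMap k R)
    have hex : ∃ K, ∃ (t : Fin K → M) (e : Fin K → ℤ), (∀ j, t j ∈ ℳ (e j)) ∧ Submodule.span R (Set.range t) = ⊤ :=
      exists_homogeneous_generators ℳ
    obtain ⟨t, e, ht, htop⟩ := Nat.find_spec hex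
    have hmin : ∀ c : Fin (Nat.find hex) → R, ∑ j, c j • t j = 0 → ∀ j, Above 𝒜 1 (c j) := by
      intro c hc b i hi
      rcases lt_or_eq_of_le (show i ≤ 0 by omega) with hi | rfl
      · exact hneg i hi _ (SetLike.coe_mem _)
      by_contra hb
      have h := mem_of_sum_smul 𝒜 ℳ ht (ZeroMemClass.zero_mem (ℳ (e b))) c hc
      let c' : Fin (Nat.find hex) → R := fun j => (DirectSum.decompose 𝒜 (c j) (e b - e j) : R)
      obtain ⟨u, hu⟩ : IsUnit (c' b) := by
        show IsUnit (DirectSum.decompose 𝒜 (c b) (e b - e b) : R)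
        rw [sub_self]
        exact hu _ (SetLike.coe_mem _) hb
      have h2 : (0 : M) = (u : R) • t b + ∑ j ∈ Finset.univ.erase b, c' j • t j := by
        rw [hu, Finset.add_sum_erase _ (fun j => c' j • t j) (Finset.mem_univ b)]; exact h
      have hmem : t b ∈ Submodule.span R (t '' {b' | b' ≠ b}) := by
        have : t b = (↑u⁻¹ : R) • -(∑ j ∈ Finset.univ.erase b, c' j • t j) := by
          rw [eq_neg_of_add_eq_zero_right h2.symm, neg_neg, smul_smul, Units.inv_mul, one_smul]
        rw [this]
        exact Submodule.smul_mem _ _ (Submodule.neg_mem _ (Submodule.sum_mem _ fun j hj =>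
          Submodule.smul_mem _ _ (Submodule.subset_span ⟨j, Finset.ne_of_mem_erase hj, rfl⟩)))
      let s := ({b}ᶜ : Finset (Fin (Nat.find hex))).equivFin.symm
      have hlt : ({b}ᶜ : Finset (Fin (Nat.find hex))).card < Nat.find hex := by
        rw [Finset.card_compl, Fintype.card_fin, Finset.card_singleton]
        have := b.isLt; omega
      refine Nat.find_min hex hlt ⟨fun j => t (s j), fun j => e (s j), fun j => ht _, eq_top_iff.2 (htop.ge.trans (Submodule.span_le.2 ?_))⟩
      have hs : t '' {b' | b' ≠ b} ⊆ Set.range (fun j => t (s j)) := by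
        rintro _ ⟨b', hb', rfl⟩
        obtain ⟨j, hj⟩ := s.surjective ⟨b', by simpa using hb'⟩
        exact ⟨j, by simp only [hj]⟩
      rintro _ ⟨j, rfl⟩
      rcases eq_or_ne j b with rfl | hj
      · exact Submodule.span_mono hs hmem
      · exact Submodule.subset_span (hs ⟨j, hj, rfl⟩)
    let π : (Fin (Nat.find hex) → R) →ₗ[R] M := Fintype.linearCombination R t
    have hπ : Function.Surjective π := LinearMap.range_eq_top.mp (by rw [Fintype.range_linearCombination, htop])
    obtain ⟨s, hs⟩ := Module.projective_lifting_property π LinearMap.id hπ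
    let ε : (Fin (Nat.find hex) → R) →ₗ[R] (Fin (Nat.find hex) → R) := LinearMap.id - s.comp π
    have hπε : ∀ v, π (ε v) = 0 := fun v => by
      show π (v - s (π v)) = 0
      rw [map_sub, ← LinearMap.comp_apply π s, hs, LinearMap.id_apply, sub_self]
    have hεε : ∀ v, ε (ε v) = ε v := fun v => by
      show ε v - s (π (ε v)) = ε v
      rw [hπε, map_zero, sub_zero]
    let E : Fin (Nat.find hex) → Fin (Nat.find hex) → R := fun a b => ε (Pi.single b 1) a
    have hexp : ∀ v a, ε v a = ∑ b, v b * E a b := fun v a => by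
      conv_lhs => rw [pi_eq_sum_univ' v]
      rw [map_sum, Finset.sum_apply]
      exact Finset.sum_congr rfl fun b _ => by rw [map_smul, Pi.smul_apply, smul_eq_mul]
    have hE0 := eq_zero_of_idempotent_above 𝒜 hneg E (fun a b => hmin (ε (Pi.single b 1))
      (by rw [← Fintype.linearCombination_apply]; exact hπε _) a) fun a b => by
        show ε (Pi.single b 1) a = _
        rw [← hεε, hexp]
        exact Finset.sum_congr rfl fun c _ => mul_comm _ _
    have hker : Function.Injective π := (injective_iff_map_eq_zero π).mpr fun v hv => by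
      have : ε v = v := by show v - s (π v) = v; rw [hv, map_zero, sub_zero]
      rw [← this]
      exact funext fun a => by rw [hexp]; simp [hE0]
    let bM := ((Pi.basisFun R (Fin (Nat.find hex))).map (LinearEquiv.ofBijective π ⟨hker, hπ⟩)).reindex Equiv.ulift.symm
    refine ⟨ULift.{u} (Fin (Nat.find hex)), bM, fun i => ⟨e i.down, ?_⟩⟩
    have : bM i = t i.down := by
      simp only [bM, Module.Basis.reindex_apply, Module.Basis.map_apply, Pi.basisFun_apply, Equiv.symm_symm]
      show π (Pi.single i.down 1) = t i.down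
      rw [Fintype.linearCombination_apply_single, one_smul]
    rw [this]
    exact ht _
  · rintro ⟨ι, b, -⟩
    exact Module.Projective.of_basis b

end Groth.Agent.S19462
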