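import Groth.Statements.S19480
import Groth.Agent.MiscTwoH99.Quiet.Frob
import Mathlib.RingTheory.Regular.Flat

set_option autoImplicit false
open CategoryTheory AlgebraicGeometry MvPolynomial
universe u
open Quiet

namespace Groth.Agent.S19480

open Groth.Agent.MiscTwoH99 in
theorem isPushout_quotientMap {P Q : Type u} [CommRing P] [CommRing Q] (F : P →+* Q) (I : Ideal P) :
    IsPushout (CommRingCat.ofHom F) (CommRingCat.ofHom (Ideal.Quotient.mk I))
      (CommRingCat.ofHom (Ideal.Quotient.mk (I.map F)))
      (CommRingCat.ofHom (Ideal.quotientMap (I.map F) F Ideal.le_comap_map)) := by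
  refine ⟨⟨?_⟩, ⟨Limits.PushoutCocone.IsColimit.mk _
    (fun s => CommRingCat.ofHom (Ideal.Quotient.lift (I.map F) s.inl.hom fun b hb => ?_))
    (fun s => ?_) (fun s => ?_) (fun s m hl hr => ?_)⟩⟩
  · ext x
    simp
  · refine (Ideal.map_le_iff_le_comap.2 fun x hx => ?_ : I.map F ≤ RingHom.ker s.inl.hom) hb
    show s.inl.hom (F x) = 0
    rw [show s.inl.hom (F x) = s.inr.hom (Ideal.Quotient.mk I x) from congr($(s.condition).hom x),
      Ideal.Quotient.eq_zero_iff_mem.2 hx, map_zero]
  · ext x
    simp
  · refine CommRingCat.hom_ext (Ideal.Quotient.ringHom_ext (RingHom.ext fun x => ?_))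
    simpa using congr($(s.condition).hom x)
  · refine CommRingCat.hom_ext (Ideal.Quotient.ringHom_ext (RingHom.ext fun x => ?_))
    simpa using congr($(hl).hom x)

open RingTheory.Sequence in
theorem isRegular_map {R S : Type u} [CommRing R] [CommRing S] (f : R →+* S) (hf : f.FaithfullyFlat)
    {rs : List R} (h : IsRegular R rs) : IsRegular S (rs.map f) := by
  letI := f.toAlgebra
  haveI : Module.FaithfullyFlat R S := hf
  exact IsRegular.of_faithfullyFlat h

/-- Let k be a perfect field of prime characteristic p, A a smooth k-algebra of characteristic p and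
t_1, …, t_n a regular sequence in A, so that A₀ = A/(t_1^p, …, t_n^p) is a p-good algebra when A has
a system of parameters; let v_1, …, v_m ∈ A[Y_1, …, Y_r] have images forming a regular sequence in
A₀[Y_1, …, Y_r], and put B_0 = A[Y]/(t_1^p, …, t_n^p, v_1, …, v_m). Identify A^{1/p} with A as a
ring, so that u_i = t_i^p and the Frobenius x ↦ x^p of A[Y] carries the ideal (t_i^p, v_j) into
(u_i^p, v_j^p) = (t_i^{p²}, v_j^p). Then: (ii) (t_1^{p²}, …, t_n^{p²}, v_1^p, …, v_m^p) is a regular
sequence in A[Y]; (iii) the induced ring map β : B_0 → B = A[Y]/(t_i^{p²}, v_j^p) is faithfully flat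
and Spec β is an extraction of p-th roots, i.e. every point of Spec B_0 has an affine open
neighbourhood with affine preimage over which the ring map is a tower of finitely many elementary
extractions R → R[x]/(x^p − a). (The published statement also assumes B_0 faithfully flat and
syntomic over A₀ and A good; these are not used for (ii) and (iii) and are not assumed here. The v_j
are taken in A[Y] rather than in A₀[Y], which is how their p-th powers in A^{1/p}[Y] are meant.) -/
theorem result (p : ℕ) [Fact p.Prime]
    (k : Type u) [Field k] [CharP k p] [PerfectRing k p] (A : Type u) [CommRing A] [Algebra k A]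
    [CharP A p] [Algebra.Smooth k A] (n : ℕ) (t : Fin n → A) (ht : RingTheory.Sequence.IsRegular A (List.ofFn t))
    (r m : ℕ) (v : Fin m → MvPolynomial (Fin r) A)
    (hv : RingTheory.Sequence.IsRegular
      (MvPolynomial (Fin r) A ⧸ Ideal.span (Set.range fun i => C (t i) ^ p))
      (List.ofFn fun j => Ideal.Quotient.mk (Ideal.span (Set.range fun i => C (t i) ^ p)) (v j))) :
    RingTheory.Sequence.IsRegular (MvPolynomial (Fin r) A)
        (List.ofFn (fun i => C (t i) ^ (p ^ 2)) ++ List.ofFn (fun j => v j ^ p)) ∧
      (Ideal.quotientMap ((Ideal.span (Set.range (fun i => C (t i) ^ p) ∪ Set.range v)).map (frobenius (MvPolynomial (Fin r) A) p)) (frobenius (MvPolynomial (Fin r) A) p) Ideal.le_comap_map).FaithfullyFlat ∧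
      Quiet.IsPthRoot p (Spec.map (CommRingCat.ofHom (Ideal.quotientMap ((Ideal.span (Set.range (fun i => C (t i) ^ p) ∪ Set.range v)).map (frobenius (MvPolynomial (Fin r) A) p)) (frobenius (MvPolynomial (Fin r) A) p) Ideal.le_comap_map))) := by
  classical
  let P := MvPolynomial (Fin r) A
  haveI : Algebra.Smooth A P := ⟨inferInstance, inferInstance⟩
  haveI : Algebra.Smooth k P := Algebra.Smooth.comp k A P
  have hA : (p : A) = 0 := CharP.cast_eq_zero A p
  have hP : (p : P) = 0 := CharP.cast_eq_zero P p
  have hF : frobenius P p = Groth.Agent.MiscTwoH99.Quiet.powH p hP 1 := RingHom.ext fun x => by simp [frobenius_def]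
  have ffA : (frobenius A p).FaithfullyFlat := by
    rw [show frobenius A p = Groth.Agent.MiscTwoH99.Quiet.powH p hA 1 from RingHom.ext fun x => by simp [frobenius_def]]
    exact Groth.Agent.MiscTwoH99.Quiet.faithfullyFlat_powH_of_smooth (k := k) A hA
  have ffP : (frobenius P p).FaithfullyFlat := by
    rw [hF]
    exact Groth.Agent.MiscTwoH99.Quiet.faithfullyFlat_powH_of_smooth (k := k) P hP
  have rootP : Quiet.IsPthRoot p (Spec.map (CommRingCat.ofHom (frobenius P p))) := by
    rw [hF]
    exact Groth.Agent.MiscTwoH99.Quiet.isPthRoot_frobenius_of_smooth (k := k) P hP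
  have sq := isPushout_quotientMap (frobenius P p) (Ideal.span (Set.range (fun i => C (t i) ^ p) ∪ Set.range v))
  refine ⟨?_, ?_, Groth.Agent.Quiet5.isPthRoot_of_isPullback (isPullback_SpecMap_of_isPushout _ _ _ _ sq) rootP⟩
  · haveI : Nontrivial A := by
      by_contra h
      rw [not_nontrivial_iff_subsingleton] at h
      exact ht.2 (Subsingleton.elim _ _)
    have ffC : (algebraMap A P).FaithfullyFlat := RingHom.faithfullyFlat_algebraMap_iff.2 inferInstance
    have h1 : RingTheory.Sequence.IsRegular P (List.ofFn fun i => (C (t i) : P) ^ p) := by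
      have := isRegular_map (algebraMap A P) ffC (isRegular_map (frobenius A p) ffA ht)
      simpa [List.map_ofFn, Function.comp_def, frobenius_def, P, MvPolynomial.algebraMap_eq] using this
    have hI : Ideal.ofList (List.ofFn fun i => (C (t i) : P) ^ p) = Ideal.span (Set.range fun i => C (t i) ^ p) := by
      simp only [Ideal.ofList, List.mem_ofFn]
      rfl
    have h2 : RingTheory.Sequence.IsWeaklyRegular P (List.ofFn (fun i => (C (t i) : P) ^ p) ++ List.ofFn v) := by
      rw [RingTheory.Sequence.isWeaklyRegular_append_iff]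
      refine ⟨h1.1, ?_⟩
      let e : (P ⧸ (Ideal.ofList (List.ofFn fun i => (C (t i) : P) ^ p) • ⊤ : Submodule P P)) ≃ₗ[P]
          (P ⧸ Ideal.span (Set.range fun i => (C (t i) : P) ^ p)) :=
        Submodule.quotEquivOfEq _ _ (by rw [hI, smul_eq_mul, Ideal.mul_top])
      rw [e.isWeaklyRegular_congr, ← RingTheory.Sequence.isWeaklyRegular_map_algebraMap_iff
        (P ⧸ Ideal.span (Set.range fun i => (C (t i) : P) ^ p))]
      simpa [List.map_ofFn, Function.comp_def] using hv.1
    have h3 : RingTheory.Sequence.IsRegular P (List.ofFn (fun i => (C (t i) : P) ^ p) ++ List.ofFn v) := by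
      refine ⟨h2, fun h => hv.2 ?_⟩
      have hm := congrArg (Ideal.map (Ideal.Quotient.mk (Ideal.span (Set.range fun i => (C (t i) : P) ^ p)))) h
      rw [smul_eq_mul, Ideal.mul_top, Ideal.map_top, Ideal.ofList_append, Ideal.map_sup, hI,
        Ideal.map_quotient_self, bot_sup_eq, Ideal.map_ofList, List.map_ofFn] at hm
      rw [smul_eq_mul, Ideal.mul_top]
      exact hm
    have := isRegular_map (frobenius P p) ffP h3
    simpa [List.map_ofFn, Function.comp_def, frobenius_def, ← pow_mul, ← pow_two] using this
  · haveI := (RingHom.isStableUnderCobaseChange_toMorphismProperty_iff (P := RingHom.FaithfullyFlat)).mpr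
      RingHom.FaithfullyFlat.isStableUnderBaseChange
    exact MorphismProperty.of_isPushout (P := RingHom.toMorphismProperty RingHom.FaithfullyFlat) sq.flip ffP

end Groth.Agent.S19480
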