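import Groth.Statements.S19482
import Groth.Agent.VBCurvesLib.EssFinite
-- import your own Groth.Agent.* helpers here

set_option autoImplicit false
set_option linter.style.haveILetI false
set_option linter.unusedVariables false
set_option backward.isDefEq.respectTransparency false
set_option backward.isDefEq.respectTransparency.types false
universe u
open CategoryTheory CategoryTheory.Limits AlgebraicGeometry
open VBCurve

namespace Groth.Agent.S19482

open Groth.Agent Groth.Agent.CurveBundle Groth.Agent.CurveSlope Groth.Agent.CurveStable Groth.Agent.CurveDuality Groth.Agent.VBCurvesLib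
open Groth.Agent.CurveHiggs (twist twist_comp twist_zero mono_twist)

/-- Let X be a smooth proper integral curve over an algebraically closed field k. Say that a finite
locally free O_X-module E of rank r is essentially finite if it is slope-semistable of degree 0
(degree = χ(E) − r·χ(O_X); semistable: every finite locally free submodule of positive rank has
degree ≤ 0) and there exist a finite locally free module G which is finite in the sense of Weil —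
P(G) ≅ Q(G) for two distinct polynomials P ≠ Q with natural-number coefficients, where P(G) is the
direct sum over i of P_i copies of G^{⊗ i} — and sub-bundles F₂ ⊆ F₁ ⊆ G (monomorphisms F₂ → F₁ → G
whose cokernels are finite locally free), with F₁ and F₂ slope-semistable of degree 0, such that E ≅
F₁/F₂. If E₁ of rank r₁ and E₂ of rank r₂ are essentially finite, then E₁ ⊗ E₂ is finite locally
free of rank r₁ r₂ and essentially finite. (The predicate is written out in full three times; the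
curve is smooth, proper and integral of dimension one over an algebraically closed field, so
slope-semistability has its usual meaning.) -/
theorem result (k : Type u) [Field k] [IsAlgClosed k] (X : Scheme.{u}) [X.Over (Spec (CommRingCat.of k))]
    [IsIntegral X] [IsProper (X ↘ Spec (CommRingCat.of k))] [Smooth (X ↘ Spec (CommRingCat.of k))]
    (hdim : topologicalKrullDim X = 1)
    (r₁ r₂ : ℕ) (E₁ E₂ : X.Modules) (hE₁ : FlatMod.IsFinLocFreeOfRank r₁ E₁) (hE₂ : FlatMod.IsFinLocFreeOfRank r₂ E₂)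
    (h₁ : (Curv2.deg k X E₁ r₁ = 0 ∧ ModFun.IsSlopeSemistable k X E₁ r₁ ∧
      ∃ (s : ℕ) (G : X.Modules) (s₁ : ℕ) (F₁ : X.Modules) (s₂ : ℕ) (F₂ : X.Modules) (i₁ : F₁ ⟶ G) (i₂ : F₂ ⟶ F₁),
        FlatMod.IsFinLocFreeOfRank s G ∧
        (∃ P Q : Polynomial ℕ, P ≠ Q ∧ Nonempty ((∐ fun i : Fin (P.natDegree + 1) => ∐ fun _ : Fin (P.coeff ↑i) => CohB1.tensorPow G ↑i) ≅
          (∐ fun i : Fin (Q.natDegree + 1) => ∐ fun _ : Fin (Q.coeff ↑i) => CohB1.tensorPow G ↑i))) ∧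
        FlatMod.IsFinLocFreeOfRank s₁ F₁ ∧ FlatMod.IsFinLocFreeOfRank s₂ F₂ ∧ Mono i₁ ∧ Mono i₂ ∧
        FlatMod.IsFinLocFree (cokernel i₁) ∧ FlatMod.IsFinLocFree (cokernel i₂) ∧
        Curv2.deg k X F₁ s₁ = 0 ∧ ModFun.IsSlopeSemistable k X F₁ s₁ ∧
        Curv2.deg k X F₂ s₂ = 0 ∧ ModFun.IsSlopeSemistable k X F₂ s₂ ∧
        Nonempty (E₁ ≅ cokernel i₂)))
    (h₂ : (Curv2.deg k X E₂ r₂ = 0 ∧ ModFun.IsSlopeSemistable k X E₂ r₂ ∧
      ∃ (s : ℕ) (G : X.Modules) (s₁ : ℕ) (F₁ : X.Modules) (s₂ : ℕ) (F₂ : X.Modules) (i₁ : F₁ ⟶ G) (i₂ : F₂ ⟶ F₁),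
        FlatMod.IsFinLocFreeOfRank s G ∧
        (∃ P Q : Polynomial ℕ, P ≠ Q ∧ Nonempty ((∐ fun i : Fin (P.natDegree + 1) => ∐ fun _ : Fin (P.coeff ↑i) => CohB1.tensorPow G ↑i) ≅
          (∐ fun i : Fin (Q.natDegree + 1) => ∐ fun _ : Fin (Q.coeff ↑i) => CohB1.tensorPow G ↑i))) ∧
        FlatMod.IsFinLocFreeOfRank s₁ F₁ ∧ FlatMod.IsFinLocFreeOfRank s₂ F₂ ∧ Mono i₁ ∧ Mono i₂ ∧
        FlatMod.IsFinLocFree (cokernel i₁) ∧ FlatMod.IsFinLocFree (cokernel i₂) ∧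
        Curv2.deg k X F₁ s₁ = 0 ∧ ModFun.IsSlopeSemistable k X F₁ s₁ ∧
        Curv2.deg k X F₂ s₂ = 0 ∧ ModFun.IsSlopeSemistable k X F₂ s₂ ∧
        Nonempty (E₂ ≅ cokernel i₂))) :
    FlatMod.IsFinLocFreeOfRank (r₁ * r₂) (CohB1.tensorMod E₁ E₂) ∧
    (Curv2.deg k X (CohB1.tensorMod E₁ E₂) (r₁ * r₂) = 0 ∧ ModFun.IsSlopeSemistable k X (CohB1.tensorMod E₁ E₂) (r₁ * r₂) ∧
      ∃ (s : ℕ) (G : X.Modules) (s₁ : ℕ) (F₁ : X.Modules) (s₂ : ℕ) (F₂ : X.Modules) (i₁ : F₁ ⟶ G) (i₂ : F₂ ⟶ F₁),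
        FlatMod.IsFinLocFreeOfRank s G ∧
        (∃ P Q : Polynomial ℕ, P ≠ Q ∧ Nonempty ((∐ fun i : Fin (P.natDegree + 1) => ∐ fun _ : Fin (P.coeff ↑i) => CohB1.tensorPow G ↑i) ≅
          (∐ fun i : Fin (Q.natDegree + 1) => ∐ fun _ : Fin (Q.coeff ↑i) => CohB1.tensorPow G ↑i))) ∧
        FlatMod.IsFinLocFreeOfRank s₁ F₁ ∧ FlatMod.IsFinLocFreeOfRank s₂ F₂ ∧ Mono i₁ ∧ Mono i₂ ∧
        FlatMod.IsFinLocFree (cokernel i₁) ∧ FlatMod.IsFinLocFree (cokernel i₂) ∧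
        Curv2.deg k X F₁ s₁ = 0 ∧ ModFun.IsSlopeSemistable k X F₁ s₁ ∧
        Curv2.deg k X F₂ s₂ = 0 ∧ ModFun.IsSlopeSemistable k X F₂ s₂ ∧
        Nonempty ((CohB1.tensorMod E₁ E₂) ≅ cokernel i₂)) := by
  haveI := CurveCohLib.isNoetherian_of_proper (k := k) (X := X)
  haveI := isLocallyNoetherian' k (X := X)
  obtain ⟨hd₁, hs₁, s, G, a₁, F, a₂, F', i, i', hG, ⟨P, Q, hPQ, ⟨eP⟩⟩, hF, hF', hi, hi', hc, hc',
    hdF, hsF, hdF', hsF', ⟨e⟩⟩ := h₁
  obtain ⟨hd₂, hs₂, t, H, b₁, K, b₂, K', j, j', hH, ⟨P', Q', hPQ', ⟨eP'⟩⟩, hK, hK', hj, hj', hg, hg',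
    hdK, hsK, hdK', hsK', ⟨e'⟩⟩ := h₂
  haveI := hi; haveI := hi'; haveI := hj; haveI := hj'
  have hGf := isFinLocFree_of_rank hG
  have hHf := isFinLocFree_of_rank hH
  have hFf := isFinLocFree_of_rank hF
  have hKf := isFinLocFree_of_rank hK
  have hE₁f := isFinLocFree_of_rank hE₁
  have hE₂f := isFinLocFree_of_rank hE₂
  obtain ⟨P'', Q'', hne, ⟨eW⟩⟩ := weilFinite_tensor k hdim hGf hHf P Q P' Q' hPQ eP hPQ' eP'
  let W := (DCoh.tensorBi.obj G).obj H
  have hWf : FlatMod.IsFinLocFree W := KFlatLib.isFinLocFree_tensor hGf hHf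
  have hW := ss0_of_weilFinite k hdim hWf P'' Q'' hne eW
  let A := (DCoh.tensorBi.obj F).obj K
  have hAf : FlatMod.IsFinLocFree A := KFlatLib.isFinLocFree_tensor hFf hKf
  haveI : Mono (twist K i) := mono_twist hKf i
  haveI : Mono ((DCoh.tensorBi.obj G).map j) :=
    (CurveTensor.shortExact_tensor hGf _ _ _ (shortExact_cokernel_of_mono j)).mono_f
  let ι : A ⟶ W := twist K i ≫ (DCoh.tensorBi.obj G).map j
  haveI : Mono ι := mono_comp _ _
  have hAd : dg k A = 0 := by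
    rw [(dg_tensor k hdim hFf hKf).2, ← deg_eq_dg k hF, ← deg_eq_dg k hK, hdF, hdK, mul_zero, mul_zero,
      add_zero]
  have hWc := coh_of_free k hWf
  obtain ⟨hA, hcok⟩ := SS0.sub_quot k hdim (shortExact_cokernel_of_mono ι) hW hAf hAd
    (QCoh.isCoh_cokernel (coh_of_free k hAf).1 hWc ι)
  let p : F ⟶ E₁ := cokernel.π i' ≫ e.inv
  let q : K ⟶ E₂ := cokernel.π j' ≫ e'.inv
  haveI : Epi p := epi_comp _ _
  haveI : Epi q := epi_comp _ _
  haveI : Epi ((DCoh.tensorBi.obj K).map p) :=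
    (CurveTensor.shortExact_tensor hKf _ _ _ (shortExact_kernel_of_epi p)).epi_g
  haveI : Epi ((DCoh.tensorBi.obj E₁).map q) :=
    (CurveTensor.shortExact_tensor hE₁f _ _ _ (shortExact_kernel_of_epi q)).epi_g
  let π : A ⟶ (DCoh.tensorBi.obj E₁).obj E₂ :=
    ((CurveTensor.commIso F K).hom ≫ (DCoh.tensorBi.obj K).map p ≫ (CurveTensor.commIso K E₁).hom) ≫
      (DCoh.tensorBi.obj E₁).map q
  haveI : Epi π := inferInstance
  let B := (DCoh.tensorBi.obj E₁).obj E₂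
  have hBf : FlatMod.IsFinLocFree B := KFlatLib.isFinLocFree_tensor hE₁f hE₂f
  obtain ⟨hrB, hdB⟩ := dg_tensor k hdim hE₁f hE₂f
  rw [← deg_eq_dg k hE₁, ← deg_eq_dg k hE₂, hd₁, hd₂, mul_zero, mul_zero, add_zero] at hdB
  rw [rk_eq hE₁, rk_eq hE₂] at hrB
  have hBr : FlatMod.IsFinLocFreeOfRank (r₁ * r₂) B := hrB ▸ isFinLocFreeOfRank_rk hBf
  have hAc := coh_of_free k hAf
  have hBc := coh_of_free k hBf
  have hKc := QCoh.isCoh_kernel hAc hBc π
  have hKer := isFinLocFree_of_mono k hdim.le hKc (kernel.ι π) hAf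
  have hKd : dg k (kernel π) = 0 := by
    have := dg_add k _ _ _ (shortExact_kernel_of_epi π) hKc hAc hBc
    rw [hAd, hdB] at this
    omega
  obtain ⟨hK0, hB⟩ := SS0.sub_quot k hdim (shortExact_kernel_of_epi π) hA hKer hKd hBc
  let eB : B ≅ cokernel (kernel.ι π) :=
    (show IsColimit (CokernelCofork.ofπ π (kernel.condition π)) from
      (shortExact_kernel_of_epi π).gIsCokernel).coconePointUniqueUpToIso (colimit.isColimit _)
  have hc₂ : FlatMod.IsFinLocFree (cokernel (kernel.ι π)) := fun x =>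
    let ⟨U, n, hx, ⟨a⟩⟩ := hBf x
    ⟨U, n, hx, ⟨(Scheme.Modules.restrictFunctor U.ι).mapIso eB.symm ≪≫ a⟩⟩
  exact ⟨hBr, hB.deg_eq k hBr, hB.slopeSemistable k hBr, rk W, W, rk A, A, rk (kernel π), kernel π, ι,
    kernel.ι π, isFinLocFreeOfRank_rk hWf, ⟨P'', Q'', hne, ⟨eW⟩⟩, isFinLocFreeOfRank_rk hAf,
    isFinLocFreeOfRank_rk hKer, inferInstance, inferInstance, hcok.1, hc₂,
    hA.deg_eq k (isFinLocFreeOfRank_rk hAf), hA.slopeSemistable k (isFinLocFreeOfRank_rk hAf),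
    hK0.deg_eq k (isFinLocFreeOfRank_rk hKer), hK0.slopeSemistable k (isFinLocFreeOfRank_rk hKer), ⟨eB⟩⟩

end Groth.Agent.S19482
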