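import Groth.Statements.S1949
import Groth.Agent.IntMultLib.FamilyFibre
import Groth.Agent.IntMultLib.AssocScheme
import Groth.Agent.H23.RatOn
import Groth.Agent.H23.C1Comm

set_option linter.style.haveILetI false
set_option backward.isDefEq.respectTransparency.types false

set_option autoImplicit false
universe u
open CategoryTheory CategoryTheory.Limits AlgebraicGeometry
attribute [local instance] HasDerivedCategory.standard
open IntMult

namespace Groth.Agent.S1949

/-- Let W → P^1_X be a closed immersion with W integral of dimension s + 1 (for the dimension function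
δP on P^1_X induced from δ) dominating P^1_K (dense image under P^1_X → P^1_K), W_0, W_∞ → X its
pullbacks along the sections at 0 and ∞, and V ⊆ X the closure of a point v with δ(v) = r, such that
[V] intersects [W_0]_s and [W_∞]_s properly. Then [V]·[W_0]_s ∼_rat [V]·[W_∞]_s as (r + s −
n)-cycles on X. (The source allows any two closed points a, b of P^1; they are taken to be 0 and ∞,
to which any two distinct closed points are carried by an automorphism of P^1 over the algebraically
closed K.) Here X is a nonsingular variety over the algebraically closed field K (smooth, separated,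
quasi-compact, integral) with dimension function δ (transcendence degree) and n = dim X; cycles are
Mathlib AlgebraicCycles with Cyc.Zk membership, proper intersection is IntMult.IntersectProperly and
α · β is the Tor-formula intersection product on coefficient functions (IntMult.interProd), bundled
where needed as 'any cycle with these coefficients'. -/
theorem result (K : Type u) [Field K] [IsAlgClosed K] (X : Scheme.{u}) (f : X ⟶ Spec (CommRingCat.of K)) [Smooth f] [IsSeparated f] [QuasiCompact f] [IsIntegral X] (δ : X → ℤ) (hX : Cyc.IsSetup X δ) (hδ : Cyc.DeltaCompat f δ (fun _ => 0)) (n : ℤ) (hn : δ (genericPoint X) = n) (δP : ↥(CohB1.ProjSpaceOver 1 X) → ℤ) (hP : Cyc.DeltaCompat (CohB1.ProjSpaceOver.toBase 1 X) δP δ) (r s : ℤ) (W : Scheme.{u}) [IsIntegral W] (ιW : W ⟶ CohB1.ProjSpaceOver 1 X) [IsClosedImmersion ιW] (hW : δP (ιW (genericPoint W)) = s + 1) (hdom : ∀ U : (CohB1.ProjSpaceOver 1 (Spec (CommRingCat.of K))).Opens, (U : Set ↥(CohB1.ProjSpaceOver 1 (Spec (CommRingCat.of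 K)))).Nonempty → ∃ w : W, (ιW ≫ P1.toP1 f) w ∈ U) (v : X) (hv : δ v = r) (h0 : IntMult.IntersectProperly δ n (Set.indicator {v} 1) (Cyc.subschemeFun δ s (pullback.snd ιW (P1.sect X 0)))) (h1 : IntMult.IntersectProperly δ n (Set.indicator {v} 1) (Cyc.subschemeFun δ s (pullback.snd ιW (P1.sect X 1)))) (γ₀ γ₁ : AlgebraicCycle X ℤ) (hγ₀ : ⇑γ₀ = IntMult.interProd δ n (Set.indicator {v} 1) (Cyc.subschemeFun δ s (pullback.snd ιW (P1.sect X 0)))) (hγ₁ : ⇑γ₁ = IntMult.interProd δ n (Set.indicator {v} 1) (Cyc.subschemeFun δ s (pullback.snd ιW (P1.sect X 1)))) : Cyc.RatEquiv δ (r + s - n) γ₀ γ₁ := by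
  classical
  let P := CohB1.ProjSpaceOver 1 X
  let π := CohB1.ProjSpaceOver.toBase 1 X
  let D : Fin (1 + 1) → ↥P := fun j => P1.sect X j (genericPoint X)
  let w := ιW (genericPoint W)
  let k := r + s - n
  haveI := Groth.Agent.IntMultLib.smooth_p1Over X
  haveI : IsIntegral P := Groth.Agent.IntMultLib.isIntegral_p1Over f
  haveI := hX.1
  have hdP := Groth.Agent.H23.SetupLFT.isSetup π hX hP
  haveI := hdP.1
  have hK : Cyc.DeltaCompat (π ≫ f) δP (fun _ => 0) := Groth.Agent.IntMultLib.deltaCompat_trans π f hP hδ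
  have hsect : ∀ j y, δP (P1.sect X j y) = δ y := fun j y => Groth.Agent.H23.P1Fam.delta_sect hP j y
  have hD : ∀ j, δP (D j) = n := fun j => (hsect j _).trans hn
  have hw : δP w = s + 1 := hW
  have hgen : δP (genericPoint ↥P) = n + 1 := by
    obtain ⟨g, hg1, hg2, hg3⟩ := Groth.Agent.IntMultLib.exists_cylinder f hδ hP (genericPoint X)
    have h : g = genericPoint ↥P :=
      ((hg3 _ (genericPoint_specializes _)).fst.antisymm (genericPoint_specializes g)).eq
    rw [← h, hg2, hn]
  obtain ⟨ζ, hζπ, hζδ, hcyl⟩ := Groth.Agent.IntMultLib.exists_cylinder f hδ hP v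
  have hζv : δP ζ = r + 1 := by rw [hζδ, hv]
  have hmem : ∀ j {p}, D j ⤳ p → ∃ x, P1.sect X j x = p := fun j p h =>
    h.mem_closed (P1.sect X j).isClosedEmbedding.isClosed_range ⟨_, rfl⟩
  have hDy : ∀ j y, D j ⤳ P1.sect X j y := fun j y => (genericPoint_specializes y).map (P1.sect X j).continuous
  have hvy : ∀ {j y}, ζ ⤳ P1.sect X j y → v ⤳ y := fun {j y} h => by
    have h' := h.map π.continuous
    rwa [show π ζ = v from hζπ, show π (P1.sect X j y) = y from Groth.Agent.IntMultLib.toBase_sect_apply j y] at h'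
  have hnot : ∀ j, w ∉ Set.range (P1.sect X j) := by
    rintro j ⟨y, hy⟩
    let pt : ↥(Spec (CommRingCat.of K)) := IsLocalRing.closedPoint K
    obtain ⟨c, hc⟩ := hdom (Groth.Agent.H23.P1Sect.V (Spec (CommRingCat.of K)) (1 - j))
      ⟨_, Groth.Agent.H23.P1Sect.sect_mem (Spec (CommRingCat.of K)) (1 - j) pt⟩
    have hfst : P1.toP1 f ≫ Groth.Agent.H23.P1Sect.pr (Spec (CommRingCat.of K)) = Groth.Agent.H23.P1Sect.pr X :=
      (pullback.lift_fst _ _ _).trans (Category.comp_id _)
    have hc' : ιW c ∈ Groth.Agent.H23.P1Sect.V X (1 - j) := by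
      show Groth.Agent.H23.P1Sect.pr X (ιW c) ∈ Groth.Agent.H23.P1Sect.jZ (1 - j) ''ᵁ ⊤
      rw [← hfst]
      simpa using hc
    obtain ⟨y', hy'⟩ : ιW c ∈ Set.range (P1.sect X j) :=
      ((genericPoint_specializes c).map ιW.continuous).mem_closed
        (P1.sect X j).isClosedEmbedding.isClosed_range ⟨y, hy⟩
    exact Groth.Agent.H23.P1Fam.sect_ne j y' (hy' ▸ hc')
  let Wf : Fin (1 + 1) → X → ℤ := fun j => Cyc.subschemeFun δ s (pullback.snd ιW (P1.sect X j))
  have hWp : ∀ j, IntMult.IntersectProperly δ n (Set.indicator {v} 1) (Wf j) := Fin.forall_fin_two.2 ⟨h0, h1⟩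
  let F : Fin (1 + 1) → ↥P → ℤ := fun j =>
    IntMult.interProd δP (n + 1) (Set.indicator {w} 1) (Set.indicator {D j} 1)
  have hF : ∀ j, (∀ y, F j (P1.sect X j y) = Wf j y) ∧ ∀ p, p ∉ Set.range (P1.sect X j) → F j p = 0 := fun j => by
    obtain ⟨a, b⟩ := Groth.Agent.IntMultLib.interProd_point_sect f hP hn s hw j (hnot j)
    exact ⟨fun y => (a y).trans (Groth.Agent.IntMultLib.subschemeFun_fibre_congr hP s ιW j y).symm, b⟩
  have hwy : ∀ j y, w ⤳ P1.sect X j y → δ y ≤ s := fun j y h => by
    have := Groth.Agent.CycLib.delta_lt hdP.2.2 h fun e => hnot j ⟨y, e.symm⟩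
    rw [hw, hsect] at this
    omega
  have hbound : ∀ j y, w ⤳ P1.sect X j y → v ⤳ y → δ y ≤ k := fun j y h hv' => by
    obtain ⟨u, hu, hwu, hDu, hdu, hmax⟩ :=
      Groth.Agent.IntMultLib.exists_gen_expected (π ≫ f) hK hgen h (hDy j y)
    obtain ⟨y', rfl⟩ := hmem j hDu
    have hy' := hwy j y' hwu
    rw [hw, hD, hsect] at hdu
    have hpos := (Groth.Agent.IntMultLib.mult_pt_data (π ≫ f) hK hgen hwu hDu fun z a b c => hmax z a b c).1
      (by rw [hw, hD, hsect]; omega)
    have hne : Wf j y' ≠ 0 := by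
      rw [← (hF j).1 y']
      show IntMult.interProd δP _ _ _ (P1.sect X j y') ≠ 0
      rw [Groth.Agent.IntMultLib.interProd_indicator, if_pos ⟨hwu, hDu, by rw [hw, hD, hsect]; omega⟩]
      exact hpos.ne'
    have := hWp j v y' y (by simp) hne hv' ((P1.sect X j).isClosedEmbedding.isInducing.specializes_iff.1 hu)
    rw [hv] at this
    omega
  have hcommon : ∀ j y z, ζ ⤳ z → w ⤳ z → z ⤳ P1.sect X j y → δP z ≤ k + 1 := fun j y z h1 h2 h3 => by
    obtain ⟨u, hu, hzu, hDu, hdu, -⟩ :=
      Groth.Agent.IntMultLib.exists_gen_expected (π ≫ f) hK hgen h3 (hDy j y)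
    obtain ⟨y', rfl⟩ := hmem j hDu
    have := hbound j y' (h2.trans hzu) (hvy (h1.trans hzu))
    rw [hD, hsect] at hdu
    omega
  -- the cycle on the product
  let T : Set ↥P := closure {ζ} ∩ closure {w}
  haveI : CompactSpace ↥P := QuasiCompact.compactSpace_of_compactSpace (π ≫ f)
  let Smax : Set ↥P := {z | z ∈ T ∧ (∀ t ∈ T, t ⤳ z → t = z) ∧ z ∈ Set.univ}
  have hfin : Smax.Finite :=
    Groth.Agent.H23.C1Comm.finite_maximal_inter (isClosed_closure.inter isClosed_closure) isCompact_univ
  let G : ↥P → ℤ := IntMult.interProd δP (n + 1) (Set.indicator {ζ} 1) (Set.indicator {w} 1)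
  let α : ↥P → ℤ := fun z => if z ∈ Smax ∧ δP z = k + 1 then G z else 0
  have hα : ∀ z, α z ≠ 0 → ζ ⤳ z ∧ w ⤳ z ∧ δP z = k + 1 := fun z h => by
    simp only [α, ne_eq, ite_eq_right_iff, not_forall] at h
    obtain ⟨⟨h1, h2⟩, -⟩ := h
    exact ⟨specializes_iff_mem_closure.2 h1.1.1, specializes_iff_mem_closure.2 h1.1.2, h2⟩
  have hSfin : {z | α z ≠ 0}.Finite := hfin.subset fun z h => by
    simp only [α, Set.mem_setOf_eq, ne_eq, ite_eq_right_iff, not_forall] at h
    exact h.fst.1
  let S := hSfin.toFinset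
  have hS : ∀ z, z ∈ S ↔ α z ≠ 0 := fun z => hSfin.mem_toFinset
  have hproper : ∀ j, IntMult.IntersectProperly δP (n + 1) α (Set.indicator {D j} 1) := fun j a b z ha hb haz hbz => by
    obtain rfl : b = D j := by simpa using Set.mem_of_indicator_ne_zero hb
    obtain ⟨y, rfl⟩ := hmem j hbz
    obtain ⟨h1, h2, h3⟩ := hα a ha
    have := hbound j y (h2.trans haz) (hvy (h1.trans haz))
    rw [h3, hD, hsect]
    omega
  have hagree : ∀ j y a, a ⤳ P1.sect X j y → α a = G a := fun j y a ha => by
    show ite _ _ _ = _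
    split_ifs with h
    · rfl
    · symm
      by_contra hne
      apply h
      simp only [G, Groth.Agent.IntMultLib.interProd_indicator, ne_eq, ite_eq_right_iff, not_forall] at hne
      obtain ⟨⟨h1, h2, h3⟩, -⟩ := hne
      rw [hζv, hw] at h3
      have h4 : δP a = k + 1 := by omega
      refine ⟨⟨⟨specializes_iff_mem_closure.1 h1, specializes_iff_mem_closure.1 h2⟩, fun t ht hta => ?_,
        Set.mem_univ _⟩, h4⟩
      refine Groth.Agent.IntMultLib.eq_of_specializes_of_delta_le (π ≫ f) hK hta ?_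
      rw [h4]
      exact hcommon j y t (specializes_iff_mem_closure.2 ht.1) (specializes_iff_mem_closure.2 ht.2) (hta.trans ha)
  have hval : ∀ j x, IntMult.interProd δ n (Set.indicator {v} 1) (Wf j) x =
      ∑ ξ ∈ S, α ξ * Cyc.subschemeFun δ k (pullback.snd (IntMult.ptIdeal ξ).subschemeι (P1.sect X j)) x := fun j x => by
    rw [← (Groth.Agent.IntMultLib.interProd_sect_eq_sum f hP hn k (fun ξ h => (hα ξ h).2.2) S hS j (hproper j)).1 x,
      Groth.Agent.IntMultLib.interProd_indicator_right,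
      finsum_congr (g := fun a => if a ⤳ P1.sect X j x ∧ D j ⤳ P1.sect X j x ∧
          δP a + δP (D j) - (n + 1) = δP (P1.sect X j x) then
        G a * IntMult.mult (IntMult.ptIdeal a) (IntMult.ptIdeal (D j)) (P1.sect X j x) else 0) fun a => ?_,
      ← Groth.Agent.IntMultLib.interProd_indicator_right]
    swap
    · split_ifs with h
      · rw [hagree j x a h.1]
      · rfl
    rw [← Groth.Agent.IntMultLib.interProd_assoc_at (π ≫ f) hK hgen ζ w (D j) (P1.sect X j x) ?_ ?_ ?_,
      Groth.Agent.IntMultLib.interProd_comm δP _ (Set.indicator {ζ} 1),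
      (Groth.Agent.IntMultLib.interProd_sect_cylinder hP n j hζπ hζδ hcyl (Wf j) (F j) (hF j).1 (hF j).2).1 x,
      Groth.Agent.IntMultLib.interProd_comm δ n]
    · intro z h1 h2 h3
      have := hcommon j x z h1 h2 h3
      rw [hζv, hw]
      omega
    · intro z h1 h2 _
      obtain ⟨y, rfl⟩ := hmem j h2
      have := hwy j y h1
      rw [hw, hD, hsect]
      omega
    · intro z h1 h2 h3 _
      obtain ⟨y, rfl⟩ := hmem j h3
      have := hbound j y h2 (hvy h1)
      rw [hζv, hw, hD, hsect]
      omega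
  let Gd : ↥P → X → ℤ := fun ξ => if α ξ ≠ 0 then fun x =>
    Cyc.subschemeFun δ k (pullback.snd (IntMult.ptIdeal ξ).subschemeι (P1.sect X 0)) x -
    Cyc.subschemeFun δ k (pullback.snd (IntMult.ptIdeal ξ).subschemeι (P1.sect X 1)) x else fun _ => 0
  refine Groth.Agent.H23.RatOn.ratEquiv (Groth.Agent.H23.RatOn.congr
    (Groth.Agent.H23.RatOn.sum hX.2.2 α Gd (fun _ => Set.univ) (fun _ => subset_rfl) (fun ξ => ?_)
      (fun x => ⟨Set.univ, isOpen_univ, trivial, hSfin.subset fun ξ h => h.2⟩)) fun x => ?_)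
  · by_cases h : α ξ ≠ 0
    · simp only [Gd, if_pos h]
      exact Groth.Agent.IntMultLib.zeroOn_fibre_diff hX hP k (hα ξ h).2.2
        fun j => Groth.Agent.IntMultLib.not_mem_range_of_properly hP hn j (hproper j) h
    · simp only [Gd, if_neg h]
      exact Groth.Agent.H23.RatOn.zero _
  · rw [congrFun hγ₀ x, congrFun hγ₁ x, hval 0 x, hval 1 x,
      finsum_eq_sum_of_support_subset (s := S) _ fun ξ h => (hS ξ).2 (left_ne_zero_of_mul h),
      ← Finset.sum_sub_distrib]
    refine Finset.sum_congr rfl fun ξ hξ => ?_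
    simp only [Gd, if_pos ((hS ξ).1 hξ), mul_sub]

end Groth.Agent.S1949
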