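import Groth.Statements.S19493
import Groth.Agent.EtHull69.Radicial

set_option autoImplicit false
set_option backward.isDefEq.respectTransparency.types false
universe u
open CategoryTheory AlgebraicGeometry
open EtHull

namespace Groth.Agent.S19493

/-- Let f : S' → S be a morphism of locally Noetherian schemes which is integral, radicial (universally
injective) and surjective, and which matches embedded points: a point s' of S' is an embedded
associated point of O_{S'} (an associated point that is a proper specialization of another
associated point) if and only if f(s') is an embedded associated point of O_S. Let a : X → S be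
faithfully flat, g : E → S étale and u : X → E a morphism with u ≫ g = a, so that X → E → S is a
factorization of a through an étale S-scheme. Let E' → S' be the base change of g along f, with
projection φ : E' → E, and u' : X' → E' the base change of u along φ (so X' = X ×_S S'). Then u is
scheme-theoretically dominant if and only if u' is. (The source allows algebraic spaces; schemes
here.) -/
theorem result {X E S S' E' X' : Scheme.{u}}
    [IsLocallyNoetherian S] [IsLocallyNoetherian S'] (f : S' ⟶ S) [IsIntegralHom f]
    [UniversallyInjective f] [Surjective f]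
    (hemb : ∀ s' : S', (s' ∈ AssSch.Ass (Coh.structureModule S') ∧ ∃ t ∈ AssSch.Ass (Coh.structureModule S'), t ⤳ s' ∧ t ≠ s') ↔
      (f.base s' ∈ AssSch.Ass (Coh.structureModule S) ∧ ∃ t ∈ AssSch.Ass (Coh.structureModule S), t ⤳ f.base s' ∧ t ≠ f.base s'))
    (a : X ⟶ S) [Flat a] [Surjective a] (g : E ⟶ S) [Etale g] (u : X ⟶ E) (hu : u ≫ g = a)
    (g' : E' ⟶ S') (φ : E' ⟶ E) (hE : IsPullback φ g' g f)
    (u' : X' ⟶ E') (ψ : X' ⟶ X) (hX : IsPullback ψ u' u φ) :
    IsSchemeTheoreticallyDominant u ↔ IsSchemeTheoreticallyDominant u' := by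
  have : Etale g' := MorphismProperty.of_isPullback hE ‹Etale g›
  have : IsLocallyNoetherian E := LocallyOfFiniteType.isLocallyNoetherian g
  have : IsLocallyNoetherian E' := LocallyOfFiniteType.isLocallyNoetherian g'
  have : Flat (u ≫ g) := by rwa [hu]
  have : Flat u := EtHull69.flat_of_comp_etale u g
  have : Flat u' := MorphismProperty.of_isPullback hX ‹Flat u›
  have : Surjective φ := MorphismProperty.of_isPullback hE.flip ‹Surjective f›
  -- `f` is a homeomorphism
  have hem : Topology.IsEmbedding f.base :=
    (Topology.IsClosedEmbedding.of_continuous_injective_isClosedMap f.continuous f.injective f.isClosedMap).isEmbedding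
  have hmax : ∀ s' : S', (∀ t, t ⤳ s' → t = s') ↔ (∀ t, t ⤳ f.base s' → t = f.base s') := by
    intro s'
    refine ⟨fun h t ht => ?_, fun h t ht => hem.injective (h _ (ht.map f.continuous))⟩
    obtain ⟨t', rfl⟩ := f.surjective t
    rw [h t' (hem.isInducing.specializes_iff.1 ht)]
  -- associated points correspond
  have key : ∀ (Z : Scheme.{u}) [IsLocallyNoetherian Z] (z : Z), z ∈ AssSch.Ass (Coh.structureModule Z) →
      (∃ t ∈ AssSch.Ass (Coh.structureModule Z), t ⤳ z ∧ t ≠ z) ∨ (∀ t, t ⤳ z → t = z) := by
    intro Z _ z hz
    refine or_iff_not_imp_left.2 fun hne t ht => ?_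
    obtain ⟨m, hmt, hm⟩ := Groth.Agent.FibDim.exists_maximal_generization t
    obtain rfl : m = z := by_contra fun hmz => hne ⟨m, AssLib.mem_ass_of_maximal hm, hmt.trans ht, hmz⟩
    exact (ht.antisymm hmt).eq
  have hass : ∀ s' : S', s' ∈ AssSch.Ass (Coh.structureModule S') ↔
      f.base s' ∈ AssSch.Ass (Coh.structureModule S) := by
    intro s'
    constructor
    · intro h
      rcases key S' s' h with h' | h'
      · exact ((hemb s').1 ⟨h, h'⟩).1
      · exact AssLib.mem_ass_of_maximal ((hmax s').1 h')
    · intro h
      rcases key S (f.base s') h with h' | h'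
      · exact ((hemb s').2 ⟨h, h'⟩).1
      · exact AssLib.mem_ass_of_maximal ((hmax s').2 h')
  have hw : ∀ z' : E', g.base (φ.base z') = f.base (g'.base z') := fun z' =>
    (Scheme.Hom.comp_apply φ g z').symm.trans
      ((congrArg (fun r : E' ⟶ S => r.base z') hE.w).trans (Scheme.Hom.comp_apply g' f z'))
  have hassE : ∀ z' : E', z' ∈ AssSch.Ass (Coh.structureModule E') ↔
      φ.base z' ∈ AssSch.Ass (Coh.structureModule E) := fun z' =>
    ⟨fun h => EtHull69.mem_ass_of_map g _ ((hw z').symm ▸ (hass _).1 (EtHull69.ass_map g' h)),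
      fun h => EtHull69.mem_ass_of_map g' _ ((hass _).2 (hw z' ▸ EtHull69.ass_map g h))⟩
  have hrange : ∀ z' : E', z' ∈ Set.range u'.base ↔ φ.base z' ∈ Set.range u.base := by
    intro z'
    constructor
    · rintro ⟨x', rfl⟩
      exact ⟨ψ.base x', (Scheme.Hom.comp_apply ψ u x').symm.trans
        ((congrArg (fun r : X' ⟶ E => r.base x') hX.w).trans (Scheme.Hom.comp_apply u' φ x'))⟩
    · rintro ⟨x, hx⟩
      obtain ⟨p, -, hp⟩ := Scheme.exists_preimage_of_isPullback hX x z' hx
      exact ⟨p, hp⟩
  constructor
  · intro h
    refine EtHull69.sd_of_ass_subset_range u' fun z' hz' => ?_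
    exact (hrange z').2 (EtHull69.ass_subset_range u ((hassE z').1 hz'))
  · intro h
    refine EtHull69.sd_of_ass_subset_range u fun z hz => ?_
    obtain ⟨z', rfl⟩ := φ.surjective z
    exact (hrange z').1 (EtHull69.ass_subset_range u' ((hassE z').2 hz))

end Groth.Agent.S19493
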