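import Groth.Statements.S19494
import Groth.Agent.EtHull69.Finest

set_option autoImplicit false
open CategoryTheory AlgebraicGeometry
set_option backward.isDefEq.respectTransparency.types false
universe u
open EtHull

namespace Groth.Agent.S19494

/-- Let S be a Noetherian scheme all of whose local rings are geometrically unibranch and whose
structure sheaf has no embedded associated points, and let f : X → S be flat, surjective and of
finite presentation. Call an admissible factorization a factorization X → E → S of f with E → S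
étale and affine and X → E scheme-theoretically dominant. Then any two admissible factorizations X →
E₁ → S and X → E₂ → S have an infimum: an admissible factorization X → E → S together with
compatible S-morphisms E₁ → E and E₂ → E, such that every admissible factorization X → E' → S
receiving compatible S-morphisms E₁ → E' and E₂ → E' admits a compatible morphism E → E'. (The
source allows X to be an algebraic space; X is a scheme here.) -/
theorem result {X S : Scheme.{u}} [IsNoetherian S]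
    (hS : ∀ s : S, CAlg2.IsGeomUnibranch (S.presheaf.stalk s))
    (hemb : AssSch.NoEmbedded (Coh.structureModule S))
    (f : X ⟶ S) [Flat f] [Surjective f] [LocallyOfFinitePresentation f] [QuasiCompact f]
    [QuasiSeparated f]
    (E₁ E₂ : Scheme.{u}) (g₁ : E₁ ⟶ S) (g₂ : E₂ ⟶ S) (u₁ : X ⟶ E₁) (u₂ : X ⟶ E₂)
    [Etale g₁] [Etale g₂] [IsAffineHom g₁] [IsAffineHom g₂]
    [IsSchemeTheoreticallyDominant u₁] [IsSchemeTheoreticallyDominant u₂]
    (h₁ : u₁ ≫ g₁ = f) (h₂ : u₂ ≫ g₂ = f) :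
    ∃ (E : Scheme.{u}) (g : E ⟶ S) (u : X ⟶ E) (v₁ : E₁ ⟶ E) (v₂ : E₂ ⟶ E),
      Etale g ∧ IsAffineHom g ∧ IsSchemeTheoreticallyDominant u ∧ u ≫ g = f ∧
      u₁ ≫ v₁ = u ∧ u₂ ≫ v₂ = u ∧ v₁ ≫ g = g₁ ∧ v₂ ≫ g = g₂ ∧
      ∀ (E' : Scheme.{u}) (g' : E' ⟶ S) (u' : X ⟶ E') (w₁ : E₁ ⟶ E') (w₂ : E₂ ⟶ E'),
        Etale g' → IsAffineHom g' → IsSchemeTheoreticallyDominant u' → u' ≫ g' = f →
        u₁ ≫ w₁ = u' → u₂ ≫ w₂ = u' → w₁ ≫ g' = g₁ → w₂ ≫ g' = g₂ →
        ∃ w : E ⟶ E', u ≫ w = u' ∧ v₁ ≫ w = w₁ ∧ v₂ ≫ w = w₂ := by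
  let A₁ : EtHull69.Fac f := ⟨E₁, g₁, u₁, inferInstance, inferInstance, inferInstance, h₁⟩
  let A₂ : EtHull69.Fac f := ⟨E₂, g₂, u₂, inferInstance, inferInstance, inferInstance, h₂⟩
  have htriv : ∃ B : EtHull69.Fac f, A₁.Le B ∧ A₂.Le B :=
    ⟨⟨S, 𝟙 S, f, inferInstance, inferInstance, EtHull69.sd_of_ass_subset_range f fun z _ => f.surjective z,
      Category.comp_id f⟩, ⟨g₁, h₁, Category.comp_id _⟩, ⟨g₂, h₂, Category.comp_id _⟩⟩
  obtain ⟨M, ⟨⟨v₁, hv₁, hv₁g⟩, v₂, hv₂, hv₂g⟩, hM⟩ := EtHull69.exists_finest hS hemb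
    (fun B => A₁.Le B ∧ A₂.Le B) htriv (fun A B hA hB C _ _ hC => ⟨hC A₁ hA.1 hB.1, hC A₂ hA.2 hB.2⟩)
  refine ⟨M.E, M.g, M.u, v₁, v₂, M.etale, M.affine, M.sd, M.w, hv₁, hv₂, hv₁g, hv₂g, ?_⟩
  intro E' g' u' w₁ w₂ hg' hga' hu' hu'f hw₁ hw₂ hw₁g hw₂g
  obtain ⟨w, hw, hwg⟩ := hM ⟨E', g', u', hg', hga', hu', hu'f⟩ ⟨⟨w₁, hw₁, hw₁g⟩, w₂, hw₂, hw₂g⟩
  refine ⟨w, hw, ?_, ?_⟩
  · refine S2299.result u₁ g' (v₁ ≫ w) w₁ ?_ ?_
    · exact (Category.assoc _ _ _).trans ((congrArg (v₁ ≫ ·) hwg).trans (hv₁g.trans hw₁g.symm))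
    · exact (Category.assoc _ _ _).symm.trans ((congrArg (· ≫ w) hv₁).trans (hw.trans hw₁.symm))
  · refine S2299.result u₂ g' (v₂ ≫ w) w₂ ?_ ?_
    · exact (Category.assoc _ _ _).trans ((congrArg (v₂ ≫ ·) hwg).trans (hv₂g.trans hw₂g.symm))
    · exact (Category.assoc _ _ _).symm.trans ((congrArg (· ≫ w) hv₂).trans (hw.trans hw₂.symm))

end Groth.Agent.S19494
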