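import Groth.Statements.S19502
import Mathlib.Analysis.Normed.Group.InfiniteSum
import Mathlib.Algebra.Order.BigOperators.Group.Finset
-- import your own Groth.Agent.* helpers here

set_option autoImplicit false
universe u
open W4c3ghconstell

namespace Groth.Agent.S19502

/-- Let ι index the irreducible representations, θ : ι → ℚ a weight which is negative exactly on the
finite set D₋, h h' : ι → ℕ with h' ≤ h pointwise (the isotypic dimensions of an object and of a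
sub-object) and Σ_i θ_i h_i summable. For a finite set D of indices put S_D = Σ_{i ∉ D} θ_i h_i, d =
#(D ∖ D₋) and θ̃_D = Σ_{i ∈ D} θ_i h'_i + (S_D / d) · Σ_{i ∈ D ∖ D₋} h'_i / h_i, the modified weight
attached to the parameters chosen for D (a quotient by zero is read as zero). Then for finite sets
D₋ ⊆ D ⊆ D̃ contained in the locus θ ≠ 0: (first error term) θ̃_{D̃} − θ̃_D = Σ_{τ ∈ D̃ ∖ D} (θ_τ
h_τ + S_{D̃}/d̃) · (h'_τ/h_τ − (1/d) Σ_{σ ∈ D ∖ D₋} h'_σ/h_σ); (second error term) Σ_i θ_i h'_i −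
θ̃_D = Σ_{τ ∉ D} θ_τ h_τ · (h'_τ/h_τ − (1/d) Σ_{σ ∈ D ∖ D₋} h'_σ/h_σ). -/
theorem result {ι : Type u} [DecidableEq ι]
    (θ : ι → ℚ) (h h' : ι → ℕ) (hle : ∀ i, h' i ≤ h i) (hfin : {i | θ i < 0}.Finite)
    (hsum : Summable (fun i => (θ i : ℝ) * (h i : ℝ))) (D D' : Finset ι)
    (hDm : hfin.toFinset ⊆ D) (hDD' : D ⊆ D') (hsupp : ∀ i ∈ D', θ i ≠ 0) :
    (((∑ i ∈ D', (θ i : ℝ) * (h' i : ℝ)) + ((∑' i, if i ∈ D' then (0 : ℝ) else (θ i : ℝ) * (h i : ℝ)) / ((D' \ hfin.toFinset).card : ℝ)) * (∑ σ ∈ D' \ hfin.toFinset, ((h' σ : ℝ) / (h σ : ℝ)))) - ((∑ i ∈ D, (θ i : ℝ) * (h' i : ℝ)) + ((∑' i, if i ∈ D then (0 : ℝ) else (θ i : ℝ) * (h i : ℝ)) / ((D \ hfin.toFinset).card : ℝ)) * (∑ σ ∈ D \ hfin.toFinset, ((h' σ : ℝ) / (h σ : ℝ)))) =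
      ∑ τ ∈ D' \ D, ((θ τ : ℝ) * (h τ : ℝ) + (∑' i, if i ∈ D' then (0 : ℝ) else (θ i : ℝ) * (h i : ℝ)) / ((D' \ hfin.toFinset).card : ℝ)) *
        (((h' τ : ℝ) / (h τ : ℝ)) - (1 / ((D \ hfin.toFinset).card : ℝ)) * (∑ σ ∈ D \ hfin.toFinset, ((h' σ : ℝ) / (h σ : ℝ))))) ∧
    ((∑' i, (θ i : ℝ) * (h' i : ℝ)) - ((∑ i ∈ D, (θ i : ℝ) * (h' i : ℝ)) + ((∑' i, if i ∈ D then (0 : ℝ) else (θ i : ℝ) * (h i : ℝ)) / ((D \ hfin.toFinset).card : ℝ)) * (∑ σ ∈ D \ hfin.toFinset, ((h' σ : ℝ) / (h σ : ℝ)))) =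
      ∑' τ, if τ ∈ D then (0 : ℝ) else (θ τ : ℝ) * (h τ : ℝ) *
        (((h' τ : ℝ) / (h τ : ℝ)) - (1 / ((D \ hfin.toFinset).card : ℝ)) * (∑ σ ∈ D \ hfin.toFinset, ((h' σ : ℝ) / (h σ : ℝ))))) := by
  classical
  set r : ι → ℝ := fun i => (h' i : ℝ) / (h i : ℝ) with hr_def
  set g : ι → ℝ := fun i => (θ i : ℝ) * (h i : ℝ)
  set F := hfin.toFinset
  have hgr : ∀ i, (θ i : ℝ) * (h' i : ℝ) = g i * r i := fun i => by
    by_cases hi : h i = 0
    · have : h' i = 0 := Nat.le_zero.mp (hi ▸ hle i)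
      simp [g, r, hi, this]
    · simp only [g, r]; field_simp
  have hgr' : Summable fun i => g i * r i := by
    refine Summable.of_norm_bounded hsum.abs fun i => ?_
    rw [Real.norm_eq_abs, abs_mul]
    refine mul_le_of_le_one_right (abs_nonneg _) ?_
    rw [abs_div, Nat.abs_cast, Nat.abs_cast]
    exact div_le_one_of_le₀ (Nat.cast_le.mpr (hle i)) (Nat.cast_nonneg _)
  have htail : ∀ (E : Finset ι) (f : ι → ℝ), Summable f →
      (∑' i, if i ∈ E then (0 : ℝ) else f i) = (∑' i, f i) - ∑ i ∈ E, f i := by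
    intro E f hf
    have h1 : HasSum (fun i => if i ∈ E then f i else 0) (∑ i ∈ E, f i) := by
      have h2 : HasSum (fun i => if i ∈ E then f i else 0) (∑ b ∈ E, if b ∈ E then f b else 0) :=
        hasSum_sum_of_ne_finset_zero (fun b hb => if_neg hb)
      rwa [Finset.sum_congr rfl fun b hb => if_pos hb] at h2
    have h2 := hf.hasSum.sub h1
    rw [← h2.tsum_eq]
    exact tsum_congr fun i => by split_ifs <;> simp
  set R := ∑ σ ∈ D \ F, r σ
  constructor
  · have hsdiff : D' \ F = (D' \ D) ∪ (D \ F) := by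
      ext i
      simp only [Finset.mem_sdiff, Finset.mem_union]
      constructor
      · rintro ⟨h1, h2⟩
        by_cases hi : i ∈ D
        · exact Or.inr ⟨hi, h2⟩
        · exact Or.inl ⟨h1, hi⟩
      · rintro (⟨h1, h2⟩ | ⟨h1, h2⟩)
        · exact ⟨h1, fun h3 => h2 (hDm h3)⟩
        · exact ⟨hDD' h1, h2⟩
    have hdj : Disjoint (D' \ D) (D \ F) :=
      Finset.disjoint_left.mpr fun i h1 h2 => (Finset.mem_sdiff.mp h1).2 (Finset.mem_sdiff.mp h2).1
    simp only [hgr]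
    rw [htail D g hsum, htail D' g hsum, hsdiff, Finset.sum_union hdj, Finset.card_union_of_disjoint hdj,
      ← Finset.sum_sdiff hDD', ← Finset.sum_sdiff hDD' (f := g), Nat.cast_add]
    set P := ∑' i, g i
    set X := ∑ x ∈ D' \ D, g x * r x with hX
    set G := ∑ x ∈ D' \ D, g x with hG
    set RT := ∑ x ∈ D' \ D, r x with hRT
    set t := ((D' \ D).card : ℝ) with ht
    set d := ((D \ F).card : ℝ) with hd
    set S := P - (G + ∑ x ∈ D, g x)
    have hexp : ∀ q c : ℝ, ∑ τ ∈ D' \ D, (g τ + q) * (r τ - c) = X + q * RT - c * (G + t * q) := by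
      intro q c
      rw [hX, hRT, hG, ht]
      simp only [mul_sub, add_mul, Finset.sum_sub_distrib, Finset.sum_add_distrib, ← Finset.sum_mul,
        ← Finset.mul_sum, Finset.sum_const, nsmul_eq_mul]
      ring
    rw [hexp, show P - ∑ x ∈ D, g x = S + G by simp only [S]; ring]
    by_cases hd0 : (D \ F).card = 0
    · have : R = 0 := by simp [R, Finset.card_eq_zero.mp hd0]
      simp only [hd, hd0, this, Finset.card_eq_zero.mp hd0, Finset.sum_empty, Nat.cast_zero, zero_mul, mul_zero, add_zero]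
      ring
    · have hdpos : (0 : ℝ) < d := by rw [hd]; exact_mod_cast Nat.pos_of_ne_zero hd0
      have htd : t + d ≠ 0 := (add_pos_of_nonneg_of_pos (Nat.cast_nonneg _) hdpos).ne'
      field_simp
      ring
  · simp only [hgr]
    set c := (1 : ℝ) / ((D \ F).card : ℝ) * R
    have hR : (fun τ => if τ ∈ D then (0 : ℝ) else g τ * (r τ - c)) =
        fun τ => if τ ∈ D then (0 : ℝ) else (g τ * r τ - g τ * c) := by
      funext τ; rw [mul_sub]
    rw [hR, htail D _ (hgr'.sub (hsum.mul_right c)), htail D g hsum, hgr'.tsum_sub (hsum.mul_right c),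
      hsum.tsum_mul_right c, Finset.sum_sub_distrib, ← Finset.sum_mul]
    simp only [c]
    ring

end Groth.Agent.S19502
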