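import Groth.Statements.S19503
import Groth.Agent.Curves16.EmbedOver
import Groth.Agent.VarAmp.Curve
import Groth.Agent.AmpleX.RelAffine

set_option autoImplicit false
universe u
open CategoryTheory CategoryTheory.Limits AlgebraicGeometry
open Curves

set_option backward.isDefEq.respectTransparency false
set_option backward.isDefEq.respectTransparency.types false

namespace Groth.Agent.S19503

/-- Let A be a Noetherian ring and f : X → Spec A a proper morphism such that H^1(X, O_X) = 0 and every
fibre of f has dimension at most one. If an O_X-module L is f-ample (f quasi-compact and L an ample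
invertible module on the preimage of every affine open of Spec A), then L is f-very ample: for some
n there is an immersion i : X → Pⁿ over Spec A, compatible with f, such that L is isomorphic to the
pullback of O(1) along i. -/
theorem result (A : Type u) [CommRing A]
    [IsNoetherianRing A] (X : Scheme.{u}) (f : X ⟶ Spec (CommRingCat.of A)) [IsProper f]
    (h1 : Subsingleton (Coh.HH X (Coh.structureModule X) 1))
    (hfib : ∀ y : ↥(Spec (CommRingCat.of A)), topologicalKrullDim ↥(f.fiber y) ≤ 1)
    (L : X.Modules) (hL : RelAmple.IsRelAmple f L) :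
    RelAmple.IsRelVeryAmplePn f L := by
  letI : X.Over (Spec (CommRingCat.of A)) := ⟨f⟩
  haveI : IsProper (X ↘ Spec (CommRingCat.of A)) := ‹IsProper f›
  haveI : CompactSpace X := QuasiCompact.compactSpace_of_compactSpace f
  haveI : IsLocallyNoetherian X := LocallyOfFiniteType.isLocallyNoetherian f
  haveI : AlgebraicGeometry.IsNoetherian X := {}
  haveI : X.IsSeparated := ⟨by
    rw [← terminal.comp_from f]
    infer_instance⟩
  have hA : CohB1.IsAmple L := (Groth.Agent.AmpleX.isRelAmple_iff_isAmple f L).1 hL
  have hgg : Curv2.IsGloballyGenerated L :=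
    (Groth.Agent.Curves16.gg_and_h1_of_relNef h1 hfib hA.1 fun K _ i J t hJ hJd ht => by
      letI : J.subscheme.Over (Spec (CommRingCat.of K)) := ⟨t⟩
      haveI : IsProper (t ≫ Spec.map (CommRingCat.ofHom i)) := by rw [ht]; infer_instance
      haveI : IsProper (J.subscheme ↘ Spec (CommRingCat.of K)) := IsProper.of_comp t (Spec.map (CommRingCat.ofHom i))
      haveI : CompactSpace J.subscheme := J.subschemeι.isClosedEmbedding.compactSpace
      exact (Groth.Agent.VarAmp.deg_pos_of_isAmple K hJd
        (Groth.Agent.AbTors.isAmple_pullback_of_isAffineHom J.subschemeι hA)).le).1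
  obtain ⟨n, i, hi, hif, hiso⟩ := Groth.Agent.Curves16.exists_embedding_over_of_h1 (R := A)
    (fun hM => Groth.Agent.Curves16.subsingleton_HH_of_fibres_le (d := 1) hfib hM (by omega)) h1 hA hgg
  exact ⟨n, i, inferInstance, hif, hiso⟩

end Groth.Agent.S19503
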