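import Groth.Statements.S19504
import Groth.Agent.PicfLib.PicSeq

set_option autoImplicit false
open CategoryTheory CategoryTheory.Limits AlgebraicGeometry
universe u
open PicF

namespace Groth.Agent.S19504

/-- Let X be a scheme and I a quasi-coherent ideal sheaf of square zero defining the closed subscheme i
: X₀ → X, and suppose H²(X, I) = 0 for the ideal regarded as an O_X-module (Zariski cohomology).
Then every invertible O_{X₀}-module is, up to isomorphism, the pullback along i of an invertible
O_X-module: restriction of Picard groups along i is surjective. (The published statement allows a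
nilpotent ideal with the same hypothesis on I alone; its proof treats the square-zero case, which is
what is stated. No separatedness is assumed.) -/
theorem result (X : Scheme.{u}) (I : X.IdealSheafData)
    (hI : I * I = ⊥) (h2 : Subsingleton (Coh.HH X (ClSub.idealMod I) 2))
    (c : PicF.Cl I.subscheme) (hc : PicF.IsInvertibleCl c) :
    ∃ d : PicF.Cl X, PicF.IsInvertibleCl d ∧ PicF.pullCl I.subschemeι d = c := by
  letI := Groth.Agent.H23.PicMul.law X
  letI := Groth.Agent.H23.PicMul.law I.subscheme
  obtain ⟨ε, δ₀, α, δ₁, -, -, -, -, -, h6⟩ :=
    Groth.Agent.PicfLib.PicSeq.exists_exact I hI (Groth.Agent.H23.PicMul.pullMul I.subschemeι)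
  obtain ⟨d, hd⟩ : (⟨c, hc⟩ : PicLoc.PicSet I.subscheme) ∈ (PicGrp.pullHom I.subschemeι _).range :=
    h6 ▸ MonoidHom.mem_ker.2 (Multiplicative.toAdd.injective (h2.elim _ _))
  exact ⟨d.1, d.2, congrArg Subtype.val hd⟩

end Groth.Agent.S19504
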