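import Groth.Statements.S19506
import Groth.Agent.PSLib.Regular
import Groth.Agent.CoeffField.AdicSmooth
-- import your own Groth.Agent.* helpers here

set_option autoImplicit false
universe u
open CAlg

namespace Groth.Agent.S19506

section
open PSLib
variable {k : Type u} [Field k] {n : ℕ}

local notation "P" => MvPowerSeries (Fin n) k
local notation "V" => PSLib.vars n k

lemma isLocalRing_quot (N : ℕ) : IsLocalRing (P ⧸ V ^ (N + 1)) := by
  haveI : Nontrivial (P ⧸ V ^ (N + 1)) := Ideal.Quotient.nontrivial_iff.mpr fun h => by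
    have h1 : (1 : P) ∈ V := Ideal.pow_le_self N.succ_ne_zero (h ▸ Submodule.mem_top)
    rw [PSLib.mem_vars_iff, map_one] at h1
    exact one_ne_zero h1
  exact IsLocalRing.of_surjective' (Ideal.Quotient.mk _) Ideal.Quotient.mk_surjective

lemma isNoetherianRing_P : IsNoetherianRing P := by
  haveI := PSLib.isRegularLocalRing k n
  infer_instance

lemma isArtinianRing_quot (N : ℕ) : IsArtinianRing (P ⧸ V ^ (N + 1)) := by
  haveI := isLocalRing_quot (k := k) (n := n) N
  haveI := isNoetherianRing_P (k := k) (n := n)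
  rw [isArtinianRing_iff_isNilpotent_maximalIdeal]
  refine ⟨N + 1, ?_⟩
  rw [← IsLocalRing.map_maximalIdeal_of_surjective (Ideal.Quotient.mk (V ^ (N + 1)))
    Ideal.Quotient.mk_surjective, ← Ideal.map_pow, PSLib.maximalIdeal_eq_vars, Ideal.map_quotient_self]
  rfl

end

/-- A presentation without linear relations. -/
lemma exists_presentation {k A : Type u} [Field k] [CommRing A] [Algebra k A] [IsLocalRing A]
    [IsNoetherianRing A] [IsAdicComplete (IsLocalRing.maximalIdeal A) A]
    (π : A →ₐ[k] k) (hπ : RingHom.ker π = IsLocalRing.maximalIdeal A) :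
    ∃ ψ : MvPowerSeries (Fin (Module.finrank (IsLocalRing.ResidueField A)
        (IsLocalRing.CotangentSpace A))) k →ₐ[k] A,
      Function.Surjective ψ ∧ (∀ i, ψ (MvPowerSeries.X i) ∈ IsLocalRing.maximalIdeal A) ∧
        RingHom.ker ψ ≤ PSLib.vars _ k ^ 2 := by
  classical
  let m := IsLocalRing.maximalIdeal A
  let κ := IsLocalRing.ResidueField A
  let n := Module.finrank κ (IsLocalRing.CotangentSpace A)
  let B : Module.Basis (Fin n) κ (IsLocalRing.CotangentSpace A) := Module.finBasis _ _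
  choose b' hb' using fun i => m.toCotangent_surjective (B i)
  let b : Fin n → A := fun i => (b' i).1
  have hb : ∀ i, b i ∈ m := fun i => (b' i).2
  obtain ⟨ψ, hψ⟩ := PSLib.exists_algHom (R := k) m b hb
  have hres : Function.Surjective ((IsLocalRing.residue A).comp (algebraMap k A)) := by
    intro x
    obtain ⟨y, rfl⟩ := IsLocalRing.residue_surjective x
    refine ⟨π y, Ideal.Quotient.eq.2 ?_⟩
    rw [← hπ, RingHom.mem_ker, map_sub, AlgHom.commutes]
    exact sub_self _
  have hsurj : Function.Surjective ψ := by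
    refine PSLib.surjective_of_span hres ψ (fun i => by rw [hψ]; exact hb i) ?_
    simp only [hψ]
    refine PSLib.le_span_sup_sq hb ?_
    rw [show (fun i => (IsLocalRing.maximalIdeal A).toCotangent ⟨b i, hb i⟩) = B from funext hb']
    exact B.span_eq
  refine ⟨ψ, hsurj, fun i => by rw [hψ]; exact hb i, fun g hg => ?_⟩
  rw [RingHom.mem_ker] at hg
  have hc : MvPowerSeries.constantCoeff g = 0 := by
    by_contra hne
    have hu : IsUnit g := MvPowerSeries.isUnit_iff_constantCoeff.2 (Ne.isUnit hne)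
    exact not_isUnit_zero (hg ▸ hu.map ψ)
  let lin : Fin n → k := fun j => MvPowerSeries.coeff (Finsupp.single j 1) g
  have h2 : g - ∑ j, lin j • (MvPowerSeries.X j : MvPowerSeries (Fin n) k) ∈ PSLib.vars n k ^ 2 := by
    refine PSLib.mem_pow_of_coeff_eq_zero 2 _ fun d hd => ?_
    rw [map_sub, map_sum]
    rcases Nat.lt_succ_iff_lt_or_eq.1 hd with h | h
    · have : d = 0 := (Finsupp.degree_eq_zero_iff d).1 (Nat.lt_one_iff.1 h)
      subst this
      simp [hc, MvPowerSeries.coeff_zero_eq_constantCoeff_apply]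
    · obtain ⟨l, rfl⟩ : ∃ l, d = Finsupp.single l 1 := by
        obtain ⟨l, hl⟩ : ∃ l, d l ≠ 0 := by
          by_contra hall
          push Not at hall
          rw [show d = 0 from Finsupp.ext hall, map_zero] at h
          exact Nat.one_ne_zero h.symm
        obtain ⟨e, he⟩ : ∃ e, d = e + Finsupp.single l 1 :=
          ⟨d - Finsupp.single l 1,
            (tsub_add_cancel_of_le (Finsupp.single_le_iff.2 (Nat.one_le_iff_ne_zero.2 hl))).symm⟩
        rw [he, map_add, Finsupp.degree_single] at h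
        refine ⟨l, ?_⟩
        rw [he, (Finsupp.degree_eq_zero_iff e).1 (by omega), zero_add]
      rw [Finset.sum_eq_single l]
      · simp [lin, MvPowerSeries.coeff_X]
      · intro j _ hj
        simp [MvPowerSeries.coeff_X, Finsupp.single_left_inj one_ne_zero, hj.symm]
      · simp
  have h3 : ∑ j, algebraMap k A (lin j) * b j ∈ m ^ 2 := by
    have h4 := PSLib.map_pow_le ψ (I := m) (fun j => by rw [hψ]; exact hb j) 2
      (Ideal.mem_map_of_mem ψ.toRingHom h2)
    have h5 : ψ (g - ∑ j, lin j • (MvPowerSeries.X j : MvPowerSeries (Fin n) k)) ∈ m ^ 2 := h4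
    rw [map_sub, hg, zero_sub, neg_mem_iff, map_sum] at h5
    simpa [map_smul, hψ, Algebra.smul_def] using h5
  have h6 : ∑ j, IsLocalRing.residue A (algebraMap k A (lin j)) • B j = 0 := by
    have h7 : m.toCotangent (∑ j, algebraMap k A (lin j) • b' j) = 0 := by
      rw [Ideal.toCotangent_eq_zero]
      simpa [b, smul_eq_mul, Algebra.smul_def] using h3
    rw [map_sum] at h7
    refine Eq.trans (Finset.sum_congr rfl fun j _ => ?_) h7
    rw [map_smul, hb']
    rfl
  have h8 := Fintype.linearIndependent_iff.1 B.linearIndependent _ h6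
  have hlin : ∀ j, lin j = 0 := fun j => by
    by_contra hne
    exact (((Ne.isUnit hne).map (algebraMap k A)).map (IsLocalRing.residue A)).ne_zero (h8 j)
  simpa [hlin] using h2


lemma lifts_of_bijective {k A : Type u} [Field k] [CommRing A] [Algebra k A] [IsLocalRing A] {n : ℕ}
    (ψ : MvPowerSeries (Fin n) k →ₐ[k] A) (hbij : Function.Bijective ψ)
    (hX : ∀ i, ψ (MvPowerSeries.X i) ∈ IsLocalRing.maximalIdeal A)
    (R : Type u) [CommRing R] [Algebra k R] [IsArtinianRing R] [IsLocalRing R] (J : Ideal R)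
    (f : A →ₐ[k] R ⧸ J) (hf : IsLocalHom (f : A →+* R ⧸ J)) :
    ∃ g : A →ₐ[k] R, (Ideal.Quotient.mkₐ k J).comp g = f := by
  let e := AlgEquiv.ofBijective ψ hbij
  obtain ⟨N, hN⟩ : IsNilpotent (IsLocalRing.maximalIdeal R) :=
    (isArtinianRing_iff_isNilpotent_maximalIdeal R).1 inferInstance
  haveI := CoeffField.isAdicComplete_of_pow_eq_bot hN
  choose y hy using fun i => Ideal.Quotient.mk_surjective (f (ψ (MvPowerSeries.X i)))
  have hym : ∀ i, y i ∈ IsLocalRing.maximalIdeal R := by
    intro i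
    rw [IsLocalRing.mem_maximalIdeal, mem_nonunits_iff]
    intro hu
    have h1 : IsUnit ((f : A →+* R ⧸ J) (ψ (MvPowerSeries.X i))) := by
      show IsUnit (f (ψ (MvPowerSeries.X i)))
      rw [← hy i]; exact hu.map _
    exact (IsLocalRing.mem_maximalIdeal _).1 (hX i) (hf.map_nonunit _ h1)
  obtain ⟨χ, hχ⟩ := PSLib.exists_algHom (R := k) (IsLocalRing.maximalIdeal R) y hym
  haveI : IsAdicComplete ((IsLocalRing.maximalIdeal R).map (Ideal.Quotient.mk J)) (R ⧸ J) :=
    CoeffField.isAdicComplete_of_pow_eq_bot (N := N) (by rw [← Ideal.map_pow, hN]; exact Ideal.map_bot)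
  have key : (Ideal.Quotient.mkₐ k J).comp χ = f.comp ψ := by
    refine PSLib.algHom_ext (I := (IsLocalRing.maximalIdeal R).map (Ideal.Quotient.mk J)) _ _
      (fun i => ?_) fun i => ?_
    · show Ideal.Quotient.mk J (χ _) ∈ _
      rw [hχ]; exact Ideal.mem_map_of_mem _ (hym i)
    · show Ideal.Quotient.mk J (χ _) = f (ψ _)
      rw [hχ, hy]
  refine ⟨χ.comp e.symm.toAlgHom, AlgHom.ext fun x => ?_⟩
  have := AlgHom.congr_fun key (e.symm x)
  have h2 : ψ (e.symm x) = x := e.apply_symm_apply x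
  simpa [h2] using this

/-- Maps to a truncation lift to the complete ring. -/
lemma exists_lift {k A : Type u} [Field k] [CommRing A] [Algebra k A] [IsLocalRing A]
    (H : ∀ (R : Type u) [CommRing R] [Algebra k R] [IsArtinianRing R] [IsLocalRing R] (J : Ideal R),
        J ^ 2 = ⊥ → ∀ f : A →ₐ[k] R ⧸ J, IsLocalHom (f : A →+* R ⧸ J) →
          ∃ g : A →ₐ[k] R, (Ideal.Quotient.mkₐ k J).comp g = f)
    {P : Type u} [CommRing P] [Algebra k P] (V : Ideal P) [IsAdicComplete V P]
    (ε : P →ₐ[k] k) (hε : ∀ a ∈ V, ε a = 0)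
    (hart : ∀ N, IsArtinianRing (P ⧸ V ^ (N + 1))) (hlq : ∀ N, IsLocalRing (P ⧸ V ^ (N + 1)))
    (φ₀ : A →ₐ[k] P ⧸ V ^ 2) :
    ∃ L : A →ₐ[k] P, ∀ x, Ideal.Quotient.mk (V ^ 2) (L x) = φ₀ x := by
  have hloc : ∀ (M : ℕ) (_ : M ≠ 0) (φ : A →ₐ[k] P ⧸ V ^ M) (x : A), IsUnit (φ x) → IsUnit x := by
    intro M hM φ x hu
    let r : P ⧸ V ^ M →ₐ[k] k := Ideal.Quotient.liftₐ _ ε fun a ha => hε a (Ideal.pow_le_self hM ha)
    have hrsurj : Function.Surjective (r.comp φ) := fun c => ⟨algebraMap k A c, (r.comp φ).commutes c⟩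
    have hm : RingHom.ker (r.comp φ) = IsLocalRing.maximalIdeal A :=
      IsLocalRing.eq_maximalIdeal (RingHom.ker_isMaximal_of_surjective _ hrsurj)
    by_contra hx
    have : x ∈ RingHom.ker (r.comp φ) := by
      rw [hm]; exact (IsLocalRing.mem_maximalIdeal x).2 hx
    exact (hu.map r).ne_zero this
  have hstep : ∀ (N : ℕ) (φ : A →ₐ[k] P ⧸ V ^ (N + 2)), ∃ g : A →ₐ[k] P ⧸ V ^ (N + 1 + 2),
      (Ideal.Quotient.factorₐ k (Ideal.pow_le_pow_right (show N + 2 ≤ N + 1 + 2 by omega))).comp g = φ := by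
    intro N φ
    haveI : IsLocalRing (P ⧸ V ^ (N + 1 + 2)) := hlq (N + 1 + 1)
    haveI : IsArtinianRing (P ⧸ V ^ (N + 1 + 2)) := hart (N + 1 + 1)
    let F : (P ⧸ V ^ (N + 1 + 2)) →ₐ[k] P ⧸ V ^ (N + 2) :=
      Ideal.Quotient.factorₐ k (Ideal.pow_le_pow_right (show N + 2 ≤ N + 1 + 2 by omega))
    have hF : Function.Surjective F := fun y => by
      obtain ⟨z, rfl⟩ := Ideal.Quotient.mk_surjective y
      exact ⟨Ideal.Quotient.mk _ z, rfl⟩
    let e := Ideal.quotientKerAlgEquivOfSurjective hF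
    have hJ : RingHom.ker F ^ 2 = ⊥ := by
      rw [pow_two, eq_bot_iff, Ideal.mul_le]
      intro a ha b hb
      obtain ⟨a, rfl⟩ := Ideal.Quotient.mk_surjective a
      obtain ⟨b, rfl⟩ := Ideal.Quotient.mk_surjective b
      have ha' : a ∈ V ^ (N + 2) := Ideal.Quotient.eq_zero_iff_mem.1 ha
      have hb' : b ∈ V ^ (N + 2) := Ideal.Quotient.eq_zero_iff_mem.1 hb
      rw [Ideal.mem_bot, ← map_mul, Ideal.Quotient.eq_zero_iff_mem]
      refine Ideal.pow_le_pow_right (show N + 1 + 2 ≤ (N + 2) + (N + 2) by omega) ?_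
      rw [pow_add]
      exact Ideal.mul_mem_mul ha' hb'
    obtain ⟨g, hg⟩ := H (P ⧸ V ^ (N + 1 + 2)) (RingHom.ker F) hJ (e.symm.toAlgHom.comp φ)
      ⟨fun a ha => hloc (N + 2) (by omega) φ a (by
        have h := ha.map e
        simpa using h)⟩
    refine ⟨g, AlgHom.ext fun x => ?_⟩
    have h : Ideal.Quotient.mk (RingHom.ker F) (g x) = e.symm (φ x) := AlgHom.congr_fun hg x
    have h' := congrArg e h
    rw [AlgEquiv.apply_symm_apply] at h'
    exact h'
  choose next hnext using hstep
  let seq : ∀ N, A →ₐ[k] P ⧸ V ^ (N + 2) := fun N => N.rec φ₀ fun M φ => next M φ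
  have hseq : ∀ {i j : ℕ} (h : i ≤ j), (Ideal.Quotient.factorₐ k
      (Ideal.pow_le_pow_right (show i + 2 ≤ j + 2 by omega))).comp (seq j) = seq i := by
    intro i j h
    induction j, h using Nat.le_induction with
    | base =>
      refine AlgHom.ext fun x => ?_
      obtain ⟨z, hz⟩ := Ideal.Quotient.mk_surjective (seq i x)
      rw [AlgHom.comp_apply, ← hz]
      rfl
    | succ j h ih =>
      refine AlgHom.ext fun x => ?_
      have h1 := AlgHom.congr_fun (hnext j (seq j)) x
      have h2 := AlgHom.congr_fun ih x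
      rw [AlgHom.comp_apply] at h1 h2 ⊢
      obtain ⟨z, hz⟩ := Ideal.Quotient.mk_surjective (next j (seq j) x)
      rw [← hz] at h1
      rw [← h2, ← h1, show seq (j + 1) x = next j (seq j) x from rfl, ← hz]
      simp only [Ideal.Quotient.factorₐ_apply_mk]
  let F : ∀ N, A →ₐ[k] P ⧸ V ^ N := fun N =>
    (Ideal.Quotient.factorₐ k (Ideal.pow_le_pow_right (show N ≤ N + 2 by omega))).comp (seq N)
  have hF : ∀ {i j : ℕ} (h : i ≤ j),
      (Ideal.Quotient.factorₐ k (Ideal.pow_le_pow_right (I := V) h)).comp (F j) = F i := by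
    intro i j h
    refine AlgHom.ext fun x => ?_
    have h2 := AlgHom.congr_fun (hseq h) x
    obtain ⟨z, hz⟩ := Ideal.Quotient.mk_surjective (seq j x)
    simp only [F, AlgHom.comp_apply] at h2 ⊢
    rw [← hz] at h2 ⊢
    rw [← h2]
    simp only [Ideal.Quotient.factorₐ_apply_mk]
  refine ⟨IsAdicComplete.liftAlgHom V F hF, fun x => ?_⟩
  rw [IsAdicComplete.mk_liftAlgHom]
  exact AlgHom.congr_fun (hseq (Nat.zero_le 2)) x

lemma injective_of_lifts {k A : Type u} [Field k] [CommRing A] [Algebra k A] [IsLocalRing A] {n : ℕ}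
    (ψ : MvPowerSeries (Fin n) k →ₐ[k] A) (hsurj : Function.Surjective ψ)
    (hker : RingHom.ker ψ ≤ PSLib.vars n k ^ 2)
    (H : ∀ (R : Type u) [CommRing R] [Algebra k R] [IsArtinianRing R] [IsLocalRing R] (J : Ideal R),
        J ^ 2 = ⊥ → ∀ f : A →ₐ[k] R ⧸ J, IsLocalHom (f : A →+* R ⧸ J) →
          ∃ g : A →ₐ[k] R, (Ideal.Quotient.mkₐ k J).comp g = f) :
    Function.Injective ψ := by
  have hker' : ∀ g ∈ RingHom.ker ψ, Ideal.Quotient.mkₐ k (PSLib.vars n k ^ 2) g = 0 := fun g hg =>
    Ideal.Quotient.eq_zero_iff_mem.2 (hker hg)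
  let φ₀ : A →ₐ[k] MvPowerSeries (Fin n) k ⧸ PSLib.vars n k ^ 2 :=
    (Ideal.Quotient.liftₐ (RingHom.ker ψ) (Ideal.Quotient.mkₐ k (PSLib.vars n k ^ 2)) hker').comp
      (Ideal.quotientKerAlgEquivOfSurjective hsurj).symm.toAlgHom
  have hφ₀ : ∀ p, φ₀ (ψ p) = Ideal.Quotient.mk (PSLib.vars n k ^ 2) p := fun p => by
    show Ideal.Quotient.liftₐ _ _ hker' ((Ideal.quotientKerAlgEquivOfSurjective hsurj).symm (ψ p)) = _
    rw [show (Ideal.quotientKerAlgEquivOfSurjective hsurj).symm (ψ p) = Ideal.Quotient.mk _ p from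
      (AlgEquiv.symm_apply_eq _).2 rfl]
    rfl
  let ε : MvPowerSeries (Fin n) k →ₐ[k] k :=
    { MvPowerSeries.constantCoeff with commutes' := fun c => MvPowerSeries.constantCoeff_C c }
  obtain ⟨L, hL'⟩ := exists_lift H (PSLib.vars n k) ε (fun a ha => PSLib.mem_vars_iff.1 ha)
    isArtinianRing_quot isLocalRing_quot φ₀
  have hL : ∀ i, L (ψ (MvPowerSeries.X i)) - MvPowerSeries.X i ∈ PSLib.vars n k ^ 2 := fun i => by
    rw [← Ideal.Quotient.eq, hL', hφ₀]
  have hV2 : PSLib.vars n k ^ 2 ≤ PSLib.vars n k := Ideal.pow_le_self two_ne_zero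
  have hbij : Function.Bijective (L.comp ψ) := by
    refine PSLib.bijective_of_first_order (L.comp ψ) (fun i => ?_) fun j => ?_
    · have := add_mem (hV2 (hL i)) (PSLib.mem_vars_iff.2 (MvPowerSeries.constantCoeff_X i))
      rwa [sub_add_cancel] at this
    · refine Submodule.mem_sup.2 ⟨_, Ideal.subset_span ⟨j, rfl⟩, _, neg_mem (hL j), ?_⟩
      simp
  exact fun a b h => hbij.1 (by simp [h])

/-- (i) ⇔ (iii): let k be a field and A a complete local Noetherian k-algebra with residue field k (a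
k-algebra map π : A → k with kernel the maximal ideal; A complete for the adic topology of its
maximal ideal). Then A is regular if and only if A satisfies the infinitesimal lifting criterion:
for every Artinian local k-algebra R and every ideal J of R of square zero, every local k-algebra
homomorphism A → R/J (one carrying non-units to non-units) lifts to a k-algebra homomorphism A → R.
(The test algebras R range over one universe, that of A. The published criterion is worded for
arbitrary k-algebra homomorphisms A → R/J; it is stated here for local ones, the case the argument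
establishes and the form in which the text itself restates the criterion afterwards. The published
statement lists a third equivalent condition, A ≅ k[[x_1, …, x_d]].) -/
theorem result (k A : Type u) [Field k]
    [CommRing A] [Algebra k A] [IsLocalRing A] [IsNoetherianRing A]
    [IsAdicComplete (IsLocalRing.maximalIdeal A) A]
    (π : A →ₐ[k] k) (hπ : RingHom.ker π = IsLocalRing.maximalIdeal A) :
    IsRegularLocalRing A ↔
      ∀ (R : Type u) [CommRing R] [Algebra k R] [IsArtinianRing R] [IsLocalRing R] (J : Ideal R),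
        J ^ 2 = ⊥ → ∀ f : A →ₐ[k] R ⧸ J, IsLocalHom (f : A →+* R ⧸ J) →
          ∃ g : A →ₐ[k] R, (Ideal.Quotient.mkₐ k J).comp g = f := by
  classical
  obtain ⟨ψ, hsurj, hX, hker⟩ := exists_presentation π hπ
  refine ⟨fun hreg R _ _ _ _ J _ f hf => lifts_of_bijective ψ ?_ hX R J f hf, fun H => ?_⟩
  · exact PSLib.bijective_of_surjective k _ ψ.toRingHom hsurj
      ((IsRegularLocalRing.iff_finrank_cotangentSpace A).mp hreg).symm
  · haveI := PSLib.isRegularLocalRing k (Module.finrank (IsLocalRing.ResidueField A) (IsLocalRing.CotangentSpace A))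
    exact IsRegularLocalRing.of_ringEquiv
      (RingEquiv.ofBijective ψ.toRingHom ⟨injective_of_lifts ψ hsurj hker H, hsurj⟩)

end Groth.Agent.S19506
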