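import Groth.Statements.S1951
import Groth.Agent.IntMultLib.ExtPoint
import Groth.Agent.IntMultLib.RegQuot

set_option autoImplicit false
universe u
open CategoryTheory CategoryTheory.Limits AlgebraicGeometry
attribute [local instance] HasDerivedCategory.standard
open IntMult

namespace Groth.Agent.S1951

open Groth.Agent

theorem maximalIdeal_generic {X : Scheme.{u}} [IsIntegral X] :
    IsLocalRing.maximalIdeal (X.presheaf.stalk (genericPoint X)) = ⊥ := by
  by_contra h
  exact (Ring.not_isField_iff_exists_prime.2 ⟨_, h, (IsLocalRing.maximalIdeal.isMaximal _).isPrime⟩)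
    (Field.toIsField X.functionField)

theorem primeOf_generic {X : Scheme.{u}} [IsIntegral X] (b : X) :
    (CDiv6.primeOf (genericPoint_specializes b)).asIdeal = ⊥ := by
  obtain ⟨w, hw, he⟩ := H23.StalkPrimes.exists_point (⊥ : Ideal (X.presheaf.stalk b))
  exact le_bot_iff.1 (he ▸ (H23.StalkPrimes.primeOf_le_iff hw (genericPoint_specializes b)).2
    (genericPoint_specializes w))

/-- Let X, Y be nonsingular varieties over K of dimensions n, m, α an r-cycle on X and β an s-cycle on
Y. Then pr_X^*α and pr_Y^*β (flat pullbacks to X ×_K Y, of relative dimensions m and n) intersect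
properly on X ×_K Y and pr_X^*α · pr_Y^*β = α × β as (r + s)-cycles, coefficientwise. Here X is a
nonsingular variety over the algebraically closed field K (smooth, separated, quasi-compact,
integral) with dimension function δ (transcendence degree) and n = dim X; cycles are Mathlib
AlgebraicCycles with Cyc.Zk membership, proper intersection is IntMult.IntersectProperly and α · β
is the Tor-formula intersection product on coefficient functions (IntMult.interProd), bundled where
needed as 'any cycle with these coefficients'. -/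
theorem result (K : Type u) [Field K] [IsAlgClosed K] (X Y : Scheme.{u}) (f : X ⟶ Spec (CommRingCat.of K)) (g : Y ⟶ Spec (CommRingCat.of K)) [Smooth f] [IsSeparated f] [QuasiCompact f] [IsIntegral X] [Smooth g] [IsSeparated g] [QuasiCompact g] [IsIntegral Y] (δX : X → ℤ) (δY : Y → ℤ) (δ : ↥(pullback f g) → ℤ) (hX : Cyc.DeltaCompat f δX (fun _ => 0)) (hY : Cyc.DeltaCompat g δY (fun _ => 0)) (hXY : Cyc.DeltaCompat (pullback.fst f g ≫ f) δ (fun _ => 0)) (n m : ℕ) (hn : δX (genericPoint X) = n) (hm : δY (genericPoint Y) = m) (r s : ℤ) (α : AlgebraicCycle X ℤ) (β : AlgebraicCycle Y ℤ) (hα : α ∈ Cyc.Zk X δX r) (hβ : β ∈ Cyc.Zk Y δY s) : IntMult.IntersectProperly δ (n + m) (Cyc.pullFun (pullback.fst f g) δ δX m ⇑α) (Cyc.pullFun (pullback.snd f g) δ δY n ⇑β) ∧ IntMult.interProd δ (n + m) (Cyc.pullFun (pullback.fst f g) δ δX m ⇑α) (Cyc.pullFun (pullback.snd f g) δ δY n ⇑β) = IntMult.extProd f g δX δY δ ⇑α ⇑β := by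
  classical
  haveI : IsIntegral (pullback f g) := Groth.Agent.S1582.result K X Y f g
  haveI : Smooth (pullback.fst f g ≫ f) := inferInstance
  have hleX : ∀ a, δX a ≤ n := fun a => hn ▸ IntMultLib.delta_le_of_specializes f hX (genericPoint_specializes a)
  have hleY : ∀ b, δY b ≤ m := fun b => hm ▸ IntMultLib.delta_le_of_specializes g hY (genericPoint_specializes b)
  have hle : ∀ z, δ z ≤ δX (pullback.fst f g z) + δY (pullback.snd f g z) := fun z =>
    IntMultLib.delta_le_prod f g hX hY hXY z (specializes_refl _) (specializes_refl _)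
  have hne1 : ∀ ξ, Cyc.pullFun (pullback.fst f g) δ δX m (⇑α) ξ ≠ 0 →
      δ ξ = δX (pullback.fst f g ξ) + m ∧ pullback.snd f g ξ = genericPoint Y ∧ α (pullback.fst f g ξ) ≠ 0 := by
    intro ξ h
    simp only [Cyc.pullFun, ne_eq, ite_eq_right_iff, not_forall] at h
    obtain ⟨h1, h2⟩ := h
    refine ⟨h1, ?_, fun h0 => h2 (by rw [h0, zero_mul])⟩
    have := hle ξ
    exact (IntMultLib.eq_of_specializes_of_delta_le g hY (genericPoint_specializes _) (by omega)).symm
  have hne2 : ∀ ξ, Cyc.pullFun (pullback.snd f g) δ δY n (⇑β) ξ ≠ 0 →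
      δ ξ = δY (pullback.snd f g ξ) + n ∧ pullback.fst f g ξ = genericPoint X ∧ β (pullback.snd f g ξ) ≠ 0 := by
    intro ξ h
    simp only [Cyc.pullFun, ne_eq, ite_eq_right_iff, not_forall] at h
    obtain ⟨h1, h2⟩ := h
    refine ⟨h1, ?_, fun h0 => h2 (by rw [h0, zero_mul])⟩
    have := hle ξ
    exact (IntMultLib.eq_of_specializes_of_delta_le f hX (genericPoint_specializes _) (by omega)).symm
  refine ⟨fun ξ η ζ h1 h2 hξ hη => ?_, funext fun z => ?_⟩
  · obtain ⟨e1, -, -⟩ := hne1 ξ h1
    obtain ⟨e2, -, -⟩ := hne2 η h2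
    have := IntMultLib.delta_le_prod f g hX hY hXY ζ (hξ.map (pullback.fst f g).continuous)
      (hη.map (pullback.snd f g).continuous)
    omega
  rw [IntMultLib.extProd_eq f g hX hY hXY]
  -- a nonzero term determines the pair
  have huniq : ∀ p : {p : ↥(pullback f g) × ↥(pullback f g) // p.1 ⤳ z ∧ p.2 ⤳ z ∧ δ p.1 + δ p.2 - (n + m) = δ z},
      Cyc.pullFun (pullback.fst f g) δ δX m (⇑α) p.1.1 * Cyc.pullFun (pullback.snd f g) δ δY n (⇑β) p.1.2 *
        IntMult.mult (IntMult.ptIdeal p.1.1) (IntMult.ptIdeal p.1.2) z ≠ 0 →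
      δ z = δX (pullback.fst f g z) + δY (pullback.snd f g z) ∧
      p.1.1 = IntMultLib.extPt f g hX hY hXY (pullback.fst f g z) (genericPoint Y) ∧
      p.1.2 = IntMultLib.extPt f g hX hY hXY (genericPoint X) (pullback.snd f g z) := by
    rintro ⟨⟨ξ, η⟩, hξ, hη, hd⟩ h
    simp only [ne_eq, mul_eq_zero, not_or] at h
    obtain ⟨e1, s1, -⟩ := hne1 ξ h.1.1
    obtain ⟨e2, s2, -⟩ := hne2 η h.1.2
    have ha := hξ.map (pullback.fst f g).continuous
    have hb := hη.map (pullback.snd f g).continuous
    dsimp only at hd ⊢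
    have hz : δX (pullback.fst f g ξ) + δY (pullback.snd f g η) ≤ δ z := by omega
    have hzeq := IntMultLib.eq_extPt f g hX hY hXY _ _ ha hb hz
    have hfa : pullback.fst f g z = pullback.fst f g ξ :=
      (congrArg (pullback.fst f g) hzeq).trans (IntMultLib.fst_extPt f g hX hY hXY _ _)
    have hfb : pullback.snd f g z = pullback.snd f g η :=
      (congrArg (pullback.snd f g) hzeq).trans (IntMultLib.snd_extPt f g hX hY hXY _ _)
    have := hle z
    have hh : δX (pullback.fst f g z) + δY (pullback.snd f g z) ≤ δ z := by rw [hfa, hfb]; exact hz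
    refine ⟨le_antisymm this hh, ?_, ?_⟩
    · exact IntMultLib.eq_extPt f g hX hY hXY _ _ (specializes_of_eq hfa) (specializes_of_eq s1.symm)
        (by rw [hfa, hm]; omega)
    · exact IntMultLib.eq_extPt f g hX hY hXY _ _ (specializes_of_eq s2.symm) (specializes_of_eq hfb)
        (by rw [hfb, hn]; omega)
  by_cases hz : δ z = δX (pullback.fst f g z) + δY (pullback.snd f g z)
  swap
  · rw [if_neg hz]
    exact finsum_eq_zero_of_forall_eq_zero fun p => by_contra fun h => hz (huniq p h).1
  rw [if_pos hz]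
  let a := pullback.fst f g z
  let b := pullback.snd f g z
  let ξ := IntMultLib.extPt f g hX hY hXY a (genericPoint Y)
  let η := IntMultLib.extPt f g hX hY hXY (genericPoint X) b
  have hξz : ξ ⤳ z := IntMultLib.extPt_specializes f g hX hY hXY _ _ (specializes_refl a) (genericPoint_specializes b)
  have hηz : η ⤳ z := IntMultLib.extPt_specializes f g hX hY hXY _ _ (genericPoint_specializes a) (specializes_refl b)
  have dξ : δ ξ = δX a + m := (IntMultLib.delta_extPt f g hX hY hXY _ _).trans (by rw [hm])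
  have dη : δ η = n + δY b := (IntMultLib.delta_extPt f g hX hY hXY _ _).trans (by rw [hn])
  have hc : δ ξ + δ η - (n + m) = δ z := by rw [dξ, dη, hz]; ring
  rw [IntMult.interProd, finsum_eq_single _ (⟨(ξ, η), hξz, hηz, hc⟩ :
      {p : ↥(pullback f g) × ↥(pullback f g) // p.1 ⤳ z ∧ p.2 ⤳ z ∧ δ p.1 + δ p.2 - (n + m) = δ z})
    (fun p hp => by_contra fun h => hp (Subtype.ext (Prod.ext (huniq p h).2.1 (huniq p h).2.2)))]
  dsimp only
  -- coefficients of the two pullbacks
  have hfξ : pullback.fst f g ξ = a := IntMultLib.fst_extPt f g hX hY hXY _ _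
  have hgη : pullback.snd f g η = b := IntMultLib.snd_extPt f g hX hY hXY _ _
  have hlen1 : ∀ {w : ↥(pullback f g)},
      Module.length ((pullback f g).presheaf.stalk w)
        (((pullback f g).presheaf.stalk w) ⧸ IsLocalRing.maximalIdeal ((pullback f g).presheaf.stalk w)) = 1 :=
    fun {w} => Module.length_eq_one_iff.2 (isSimpleModule_iff_isCoatom.2
      (Ideal.isMaximal_def.1 (IsLocalRing.maximalIdeal.isMaximal _)))
  have hgen : ∀ {W : Scheme.{u}} [IsIntegral W] (q : pullback f g ⟶ W) (w : ↥(pullback f g)),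
      q w = genericPoint W → (IsLocalRing.maximalIdeal (W.presheaf.stalk (q w))).map (q.stalkMap w).hom = ⊥ := by
    intro W _ q w h
    have : IsLocalRing.maximalIdeal (W.presheaf.stalk (q w)) = ⊥ := by rw [h]; exact maximalIdeal_generic
    rw [this, Ideal.map_bot]
  have hmξ : (IsLocalRing.maximalIdeal (X.presheaf.stalk (pullback.fst f g ξ))).map
      ((pullback.fst f g).stalkMap ξ).hom = IsLocalRing.maximalIdeal ((pullback f g).presheaf.stalk ξ) := by
    rw [← IntMultLib.maximalIdeal_sup_eq f g hX hY hXY (z := ξ)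
        (by rw [hfξ, IntMultLib.snd_extPt, dξ, hm]),
      hgen (pullback.snd f g) ξ (IntMultLib.snd_extPt f g hX hY hXY _ _), sup_bot_eq]
  have hmη : (IsLocalRing.maximalIdeal (Y.presheaf.stalk (pullback.snd f g η))).map
      ((pullback.snd f g).stalkMap η).hom = IsLocalRing.maximalIdeal ((pullback f g).presheaf.stalk η) := by
    rw [← IntMultLib.maximalIdeal_sup_eq f g hX hY hXY (z := η)
        (by rw [hgη, IntMultLib.fst_extPt, dη, hn]),
      hgen (pullback.fst f g) η (IntMultLib.fst_extPt f g hX hY hXY _ _), bot_sup_eq]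
  rw [Cyc.pullFun, if_pos (by rw [hfξ, dξ]), hmξ, hlen1, Cyc.pullFun, if_pos (by rw [hgη, dη]; ring), hmη, hlen1,
    hfξ, hgη]
  -- the multiplicity is one
  have hreg := IntMultLib.isRegularLocalRing_stalk (pullback.fst f g ≫ f) z
  have key : IntMult.mult (IntMult.ptIdeal ξ) (IntMult.ptIdeal η) z = 1 := by
    have hs : ∀ {W : Scheme.{u}} (w : W), IntMult.stalkIdeal (IntMult.ptIdeal w) w =
        IsLocalRing.maximalIdeal (W.presheaf.stalk w) := fun w => by
      rw [IntMultLib.stalkIdeal_ptIdeal (specializes_refl w), H23.ZeroSec.primeOf_refl']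
    let L : Type u := (pullback f g).presheaf.stalk z
    let P : Ideal L := (CDiv6.primeOf hξz).asIdeal
    let Q : Ideal L := (CDiv6.primeOf hηz).asIdeal
    have hP : P = (IsLocalRing.maximalIdeal (X.presheaf.stalk a)).map ((pullback.fst f g).stalkMap z).hom := by
      simp only [P]
      rw [IntMultLib.primeOf_extPt f g hX hY hXY a (genericPoint Y) (specializes_refl a)
        (genericPoint_specializes b), hs, IntMultLib.stalkIdeal_ptIdeal (genericPoint_specializes b),
        primeOf_generic, Ideal.map_bot, sup_bot_eq]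
    have hQ : Q = (IsLocalRing.maximalIdeal (Y.presheaf.stalk b)).map ((pullback.snd f g).stalkMap z).hom := by
      simp only [Q]
      rw [IntMultLib.primeOf_extPt f g hX hY hXY (genericPoint X) b (genericPoint_specializes a)
        (specializes_refl b), IntMultLib.stalkIdeal_ptIdeal (genericPoint_specializes a), primeOf_generic,
        Ideal.map_bot, bot_sup_eq, hs]
    have hPQ : P ⊔ Q = IsLocalRing.maximalIdeal L := by
      rw [hP, hQ]
      exact IntMultLib.maximalIdeal_sup_eq f g hX hY hXY hz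
    have hgP : genericPoint ↥(pullback f g) = IntMultLib.extPt f g hX hY hXY (genericPoint X) (genericPoint Y) :=
      ((genericPoint_specializes _).antisymm (IntMultLib.extPt_specializes f g hX hY hXY _ _
        (genericPoint_specializes _) (genericPoint_specializes _))).eq
    have hdgen : δ (genericPoint ↥(pullback f g)) = (n : ℤ) + m := by
      rw [hgP, IntMultLib.delta_extPt f g hX hY hXY, hn, hm]
    obtain ⟨d, hd, hdn⟩ := IntMultLib.exists_dim_stalk_delta (pullback.fst f g ≫ f) hXY hdgen z
    obtain ⟨c₁, hc₁, hd₁⟩ := IntMultLib.exists_dim_quot_primeOf (pullback.fst f g ≫ f) hXY hξz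
    obtain ⟨c₂, hc₂, hd₂⟩ := IntMultLib.exists_dim_quot_primeOf (pullback.fst f g ≫ f) hXY hηz
    have hcd : c₁ + c₂ = d := by omega
    obtain ⟨r1, r2⟩ := IntMultLib.regular_quotients P Q (CDiv6.primeOf hξz).2.ne_top (CDiv6.primeOf hηz).2.ne_top
      hPQ d c₁ c₂ hd hc₁ hc₂ hcd
    have cm : ∀ (S : Type u) [CommRing S] [IsRegularLocalRing S], LocCoh.IsCohenMacaulayLocalRing S :=
      fun S _ _ => { supportDim_eq_depth := CotTLib.isCM_of_isRegularLocalRing S }
    rw [IntMultLib.mult_ptIdeal hξz hηz]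
    refine (IntMultLib.chi_eq_length_of_CM P Q
      (by rw [hPQ]; exact (IsLocalRing.maximalIdeal.isMaximal L).isPrime.radical)
      (cm _) (cm _) d c₁ c₂ hd hc₁ hc₂ hcd).trans ?_
    rw [hPQ, hlen1]
    rfl
  rw [key]
  simp [a, b]

end Groth.Agent.S1951
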