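import Groth.Statements.S19517
import Groth.Agent.AlgGrp25.LinPart

set_option autoImplicit false
universe u
open CategoryTheory CategoryTheory.Limits MonoidalCategory CartesianMonoidalCategory MonObj GrpObj AlgebraicGeometry
open AlgGrp Groth.Agent Groth.Agent.GrpSchLib

namespace Groth.Agent.S19517

/-- Linear part, the assertion on the kernel: over an algebraically closed field k let G be a smooth
k-group scheme of finite type, j : K → G a closed normal subgroup scheme of finite type, i : G_lin →
G the largest smooth connected affine normal closed subgroup scheme of G and i_K : K_lin → K the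
largest smooth connected affine normal closed subgroup scheme of K. Then K_lin is contained in
G_lin, and K_lin has finite index in K ∩ G_lin in the sense that K_lin and the fibre product K ×_G
G_lin have the same dimension (K_lin is the reduced identity component of K ∩ G_lin). (The published
proposition is stated for an exact sequence e → K → G → Q → e of arbitrary algebraic groups and also
for unipotent and solvable parts; G is assumed smooth here, and only the linear part is stated.) -/
theorem result (k : Type u) [Field k] [IsAlgClosed k]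
    (G : Over (Spec (CommRingCat.of k))) [GrpObj G] [Smooth G.hom] [QuasiCompact G.hom]
    (K : Over (Spec (CommRingCat.of k))) [GrpObj K] [QuasiCompact K.hom] [LocallyOfFiniteType K.hom]
    (j : K ⟶ G) [IsMonHom j] [IsClosedImmersion j.left] (hK : AlgGrp.IsNormalHom j)
    (N : Over (Spec (CommRingCat.of k))) [GrpObj N] (i : N ⟶ G) [IsMonHom i] [IsClosedImmersion i.left]
    [Smooth N.hom] [ConnectedSpace ↥N.left] [IsAffine N.left] (hN : AlgGrp.IsNormalHom i)
    (hNmax : (∀ (N' : Over (Spec (CommRingCat.of k))) [GrpObj N'] (i' : N' ⟶ G) [IsMonHom i'] [IsClosedImmersion i'.left]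
      [Smooth N'.hom] [ConnectedSpace ↥N'.left] [IsAffine N'.left], AlgGrp.IsNormalHom i' → ∃ f : N' ⟶ N, f ≫ i = i'))
    (NK : Over (Spec (CommRingCat.of k))) [GrpObj NK] (iK : NK ⟶ K) [IsMonHom iK] [IsClosedImmersion iK.left]
    [Smooth NK.hom] [ConnectedSpace ↥NK.left] [IsAffine NK.left] (hNK : AlgGrp.IsNormalHom iK)
    (hNKmax : (∀ (N' : Over (Spec (CommRingCat.of k))) [GrpObj N'] (i' : N' ⟶ K) [IsMonHom i'] [IsClosedImmersion i'.left]
      [Smooth N'.hom] [ConnectedSpace ↥N'.left] [IsAffine N'.left], AlgGrp.IsNormalHom i' → ∃ f : N' ⟶ NK, f ≫ iK = i')) :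
    (∃ g : NK ⟶ N, g ≫ i = iK ≫ j) ∧
      topologicalKrullDim ↥NK.left = topologicalKrullDim ↥(pullback j.left i.left) := by
  have : Mono j.left := inferInstance
  have : Mono j := (Over.forget _).mono_of_mono_map (inferInstanceAs (Mono j.left))
  have : Mono i := (Over.forget _).mono_of_mono_map (inferInstanceAs (Mono i.left))
  have : Mono iK := (Over.forget _).mono_of_mono_map (inferInstanceAs (Mono iK.left))
  have hNKG : AlgGrp.IsNormalHom (iK ≫ j) := by
    have : IsClosedImmersion (iK ≫ j).left := by rw [Over.comp_left]; infer_instance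
    refine AlgGrp25.LinPart.isNormalHom_of_points (iK ≫ j) fun g => ?_
    obtain ⟨c, hc, hcj⟩ := AlgGrp25.LinPart.exists_restrict j hK g
    have : IsIso c.hom.left := ((Over.forget _).mapIso c).isIso_hom
    have : IsClosedImmersion (iK ≫ c.hom).left := by rw [Over.comp_left]; infer_instance
    obtain ⟨l, hl⟩ := hNKmax NK (iK ≫ c.hom) (by
      intro T x n
      obtain ⟨n', hn'⟩ := hNK T (x ≫ c.inv) n
      refine ⟨n', ?_⟩
      have h := congrArg (· ≫ c.hom) hn'
      simpa only [MonObj.mul_comp, GrpObj.inv_comp, Category.assoc, Iso.inv_hom_id, Category.comp_id] using h)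
    exact ⟨l, by rw [← Category.assoc, hl, Category.assoc, hcj, Category.assoc]⟩
  have : IsClosedImmersion (iK ≫ j).left := by rw [Over.comp_left]; infer_instance
  obtain ⟨g, hg⟩ := hNmax NK (iK ≫ j) hNKG
  refine ⟨⟨g, hg⟩, ?_⟩
  -- the intersection as a group
  have hp := IsPullback.of_hasPullback j i
  let E : Over (Spec (CommRingCat.of k)) := Limits.pullback j i
  let a : E ⟶ K := Limits.pullback.fst j i
  let b : E ⟶ N := Limits.pullback.snd j i
  have hab : a ≫ j = b ≫ i := Limits.pullback.condition
  have hp' := hp.map (Over.forget _)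
  have : IsClosedImmersion a.left :=
    MorphismProperty.of_isPullback (P := @IsClosedImmersion) hp'.flip ‹IsClosedImmersion i.left›
  have : IsClosedImmersion b.left :=
    MorphismProperty.of_isPullback (P := @IsClosedImmersion) hp' ‹IsClosedImmersion j.left›
  have : IsClosedImmersion (a ≫ j).left := by rw [Over.comp_left]; infer_instance
  have : Mono (a ≫ j) := (Over.forget _).mono_of_mono_map (inferInstanceAs (Mono (a ≫ j).left))
  obtain ⟨e, he⟩ : ∃ e, e ≫ a ≫ j = η[G] :=
    ⟨hp.lift η[K] η[N] (by rw [IsMonHom.one_hom j, IsMonHom.one_hom i]),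
      by rw [← Category.assoc, hp.lift_fst, IsMonHom.one_hom j]⟩
  obtain ⟨m, hm⟩ : ∃ m, m ≫ a ≫ j = (fst E E ≫ a ≫ j) * (snd E E ≫ a ≫ j) :=
    ⟨hp.lift ((fst E E ≫ a) * (snd E E ≫ a)) ((fst E E ≫ b) * (snd E E ≫ b)) (by
      simp only [MonObj.mul_comp, Category.assoc, hab]),
      by rw [← Category.assoc, hp.lift_fst, MonObj.mul_comp, Category.assoc, Category.assoc]⟩
  obtain ⟨v, hv⟩ : ∃ v, v ≫ a ≫ j = (a ≫ j)⁻¹ :=
    ⟨hp.lift a⁻¹ b⁻¹ (by simp only [GrpObj.inv_comp, hab]), by rw [← Category.assoc, hp.lift_fst, GrpObj.inv_comp]⟩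
  obtain ⟨strE, hE⟩ := exists_grpObj_of_mono (a ≫ j) e he m hm v hv
  have : LocallyOfFiniteType E.hom := by rw [← Over.w a]; infer_instance
  have : QuasiCompact E.hom := by rw [← Over.w a]; infer_instance
  -- its reduced identity component
  obtain ⟨E₀, _, c₀, hc₀, hcl₀, -, hr₀, -, -⟩ := exists_identityComponent (G := E)
  have : LocallyOfFiniteType E₀.hom := by rw [← Over.w c₀]; infer_instance
  have : QuasiCompact E₀.hom := by rw [← Over.w c₀]; infer_instance
  obtain ⟨R, _, r, hr, hrc, hred, hrs, hRl, hRq⟩ := RedSubgroup.exists_redSubgroup E₀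
  obtain ⟨w, hw⟩ : ∃ w : R ⟶ E, w = r ≫ c₀ := ⟨_, rfl⟩
  have : IsClosedImmersion w.left := by rw [hw, Over.comp_left]; infer_instance
  have : IsMonHom w := by rw [hw]; infer_instance
  have hrange : Set.range w.left = connectedComponent (η[E].left (IsLocalRing.closedPoint k)) := by
    rw [← hr₀]
    rw [hw, Over.comp_left]
    rw [Scheme.Hom.comp_base, TopCat.coe_comp, Set.range_comp, r.left.surjective.range_eq, Set.image_univ]
  have : ConnectedSpace R.left := by
    rw [connectedSpace_iff_univ]
    refine ⟨⟨η[R].left (IsLocalRing.closedPoint k), trivial⟩, ?_⟩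
    refine (w.left.isClosedEmbedding.isInducing.isPreconnected_image).mp ?_
    rw [Set.image_univ, hrange]
    exact isPreconnected_connectedComponent
  have : Smooth R.hom := smooth_of_perfectField_of_isReduced R
  have : IsAffine E.left := isAffine_of_isAffineHom b.left
  have : IsAffine R.left := isAffine_of_isAffineHom w.left
  have : IsClosedImmersion (w ≫ a ≫ j).left := by rw [Over.comp_left]; infer_instance
  have hRG : AlgGrp.IsNormalHom (w ≫ a ≫ j) := by
    refine AlgGrp25.LinPart.isNormalHom_of_points (w ≫ a ≫ j) fun g => ?_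
    obtain ⟨cK, -, hcK⟩ := AlgGrp25.LinPart.exists_restrict j hK g
    obtain ⟨cN, -, hcN⟩ := AlgGrp25.LinPart.exists_restrict i hN g
    let cE : E ⟶ E := hp.lift (a ≫ cK.hom) (b ≫ cN.hom) (by
      rw [Category.assoc, hcK, Category.assoc, hcN, reassoc_of% hab])
    have hcE : cE ≫ a ≫ j = (a ≫ j) ≫ AlgGrp25.LinPart.conj g := by
      rw [← Category.assoc, hp.lift_fst, Category.assoc, hcK, Category.assoc]
    have heE : η[E] ≫ cE = η[E] := by
      rw [← cancel_mono (a ≫ j), Category.assoc, hcE, ← Category.assoc, IsMonHom.one_hom (a ≫ j),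
        IsMonHom.one_hom (AlgGrp25.LinPart.conj g)]
    obtain ⟨l, hl⟩ := H23.RedSub.exists_lift_closed (w ≫ cE).left w.left (by
      rintro _ ⟨y, rfl⟩
      rw [hrange, Over.comp_left, Scheme.Hom.comp_apply]
      have hy : w.left y ∈ connectedComponent (η[E].left (IsLocalRing.closedPoint k)) := by
        rw [← hrange]; exact ⟨y, rfl⟩
      have h1 := cE.left.continuous.image_connectedComponent_subset (η[E].left (IsLocalRing.closedPoint k))
        ⟨_, hy, rfl⟩
      rwa [show cE.left (η[E].left (IsLocalRing.closedPoint k)) = η[E].left (IsLocalRing.closedPoint k) from by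
        rw [← Scheme.Hom.comp_apply, ← Over.comp_left, heE]] at h1)
    refine ⟨Over.homMk l (by rw [← Over.w w, reassoc_of% hl, Over.w (w ≫ cE), Over.w w]), ?_⟩
    have hl' : Over.homMk l (by rw [← Over.w w, reassoc_of% hl, Over.w (w ≫ cE), Over.w w]) ≫ w = w ≫ cE :=
      Over.OverMorphism.ext hl
    rw [← Category.assoc, hl', Category.assoc, hcE, Category.assoc, Category.assoc, Category.assoc]
  have : IsMonHom (w ≫ a) :=
    { one_hom := by
        rw [← cancel_mono j, Category.assoc, Category.assoc, IsMonHom.one_hom (w ≫ a ≫ j), IsMonHom.one_hom j]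
      mul_hom := by
        rw [← cancel_mono j, Category.assoc, Category.assoc, IsMonHom.mul_hom (w ≫ a ≫ j), Category.assoc,
          IsMonHom.mul_hom j, MonoidalCategory.tensorHom_comp_tensorHom_assoc, Category.assoc] }
  have hRK : AlgGrp.IsNormalHom (w ≫ a) := fun T x n => by
    obtain ⟨n', hn'⟩ := hRG T (x ≫ j) n
    refine ⟨n', ?_⟩
    rw [← cancel_mono j, MonObj.mul_comp, MonObj.mul_comp, GrpObj.inv_comp]
    simpa only [Category.assoc] using hn'
  have : IsClosedImmersion (w ≫ a).left := by rw [Over.comp_left]; infer_instance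
  obtain ⟨f₁, hf₁⟩ := hNKmax R (w ≫ a) hRK
  let f₂ : NK ⟶ E := hp.lift iK g hg.symm
  have hf₂ : f₂ ≫ a = iK := hp.lift_fst _ _ _
  have : IsClosedImmersion f₁.left := by
    have : IsClosedImmersion (f₁.left ≫ iK.left) := by rw [← Over.comp_left, hf₁]; infer_instance
    exact IsClosedImmersion.of_comp f₁.left iK.left
  have : IsClosedImmersion f₂.left := by
    have : IsClosedImmersion (f₂.left ≫ a.left) := by rw [← Over.comp_left, hf₂]; infer_instance
    exact IsClosedImmersion.of_comp f₂.left a.left
  have h1 := f₁.left.isClosedEmbedding.isInducing.topologicalKrullDim_le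
  have h2 := f₂.left.isClosedEmbedding.isInducing.topologicalKrullDim_le
  rw [AlgGrp25.LinPart.dim_eq_of_range w hrange] at h1
  exact (le_antisymm h2 h1).trans (IsHomeomorph.topologicalKrullDim_eq _ hp'.isoPullback.hom.homeomorph.isHomeomorph)

end Groth.Agent.S19517
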