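import Groth.Statements.S1952
import Groth.Agent.IntMultLib.P1Push

set_option linter.style.haveILetI false
set_option backward.isDefEq.respectTransparency.types false

set_option autoImplicit false
universe u
open CategoryTheory CategoryTheory.Limits AlgebraicGeometry
attribute [local instance] HasDerivedCategory.standard
open IntMult

namespace Groth.Agent.S1952

/-- Let α be a (k + 1)-cycle on P^1_X (X a nonsingular variety, P^1_X of dimension n + 1 with dimension
function δP) intersecting the divisors X × 0 and X × ∞ (the images of the two sections, as prime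
cycles) properly. Then pr_{X,*}(α · [X × 0] − α · [X × ∞]) ∼_rat 0 as a k-cycle on X (the source's
two distinct closed points a, b of P^1 are taken to be 0 and ∞), for any cycle on P^1_X with the
coefficients of α · [X × 0] − α · [X × ∞]. Here X is a nonsingular variety over the algebraically
closed field K (smooth, separated, quasi-compact, integral) with dimension function δ (transcendence
degree) and n = dim X; cycles are Mathlib AlgebraicCycles with Cyc.Zk membership, proper
intersection is IntMult.IntersectProperly and α · β is the Tor-formula intersection product on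
coefficient functions (IntMult.interProd), bundled where needed as 'any cycle with these
coefficients'. -/
theorem result (K : Type u) [Field K] [IsAlgClosed K] (X : Scheme.{u}) (f : X ⟶ Spec (CommRingCat.of K)) [Smooth f] [IsSeparated f] [QuasiCompact f] [IsIntegral X] (δ : X → ℤ) (hX : Cyc.IsSetup X δ) (hδ : Cyc.DeltaCompat f δ (fun _ => 0)) (n : ℤ) (hn : δ (genericPoint X) = n) (δP : ↥(CohB1.ProjSpaceOver 1 X) → ℤ) (hPX : Cyc.IsSetup (CohB1.ProjSpaceOver 1 X) δP) (hP : Cyc.DeltaCompat (CohB1.ProjSpaceOver.toBase 1 X) δP δ) [QuasiCompact (CohB1.ProjSpaceOver.toBase 1 X)] (k : ℤ) (α : AlgebraicCycle (CohB1.ProjSpaceOver 1 X) ℤ) (hα : α ∈ Cyc.Zk _ δP (k + 1)) (h0 : IntMult.IntersectProperly δP (n + 1) ⇑α (Set.indicator {P1.sect X 0 (genericPoint X)} 1)) (h1 : IntMult.IntersectProperly δP (n + 1) ⇑α (Set.indicator {P1.sect X 1 (genericPoint X)} 1)) (γ : AlgebraicCycle (CohB1.ProjSpaceOver 1 X) ℤ) (hγ : ⇑γ = IntMult.interProd δP (n + 1) ⇑α (Set.indicator {P1.sect X 0 (genericPoint X)} 1) -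 IntMult.interProd δP (n + 1) ⇑α (Set.indicator {P1.sect X 1 (genericPoint X)} 1)) : Cyc.RatEquivZero δ k (AlgebraicCycle.map (CohB1.ProjSpaceOver.toBase 1 X) δP δ γ) := by
  classical
  haveI : CompactSpace X := QuasiCompact.compactSpace_of_compactSpace f
  haveI : CompactSpace ↥(CohB1.ProjSpaceOver 1 X) :=
    QuasiCompact.compactSpace_of_compactSpace (CohB1.ProjSpaceOver.toBase 1 X)
  haveI := hX.1
  have hfin : (Function.support ⇑α).Finite := by
    have := α.locallyFiniteSupport.finite_inter_support_of_isCompact (isCompact_univ (X := ↥(CohB1.ProjSpaceOver 1 X)))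
    rwa [Set.univ_inter] at this
  have hk : ∀ ξ, α ξ ≠ 0 → δP ξ = k + 1 := fun ξ h => by_contra fun h' => h (hα ξ h')
  have hS : ∀ ξ, ξ ∈ hfin.toFinset ↔ α ξ ≠ 0 := fun ξ => hfin.mem_toFinset
  obtain ⟨a0, b0⟩ := Groth.Agent.IntMultLib.interProd_sect_eq_sum f hP hn k hk hfin.toFinset hS 0 h0
  obtain ⟨a1, b1⟩ := Groth.Agent.IntMultLib.interProd_sect_eq_sum f hP hn k hk hfin.toFinset hS 1 h1
  let I := {ξ : ↥(CohB1.ProjSpaceOver 1 X) // ξ ∈ hfin.toFinset}
  refine Groth.Agent.H23.RatOn.ratEquivZero (T := Set.univ) (Groth.Agent.H23.RatOn.congr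
    (Groth.Agent.H23.RatOn.sum hX.2.2 (fun ξ : I => α ξ.1) _ (fun _ => Set.univ) (fun _ => le_rfl)
      (fun ξ => Groth.Agent.IntMultLib.zeroOn_fibre_diff hX hP k (hk ξ.1 ((hS ξ.1).1 ξ.2)) fun j => ?_)
      fun x => ⟨Set.univ, isOpen_univ, trivial, Set.toFinite _⟩) fun x => ?_)
  · revert j
    rw [Fin.forall_fin_two]
    exact ⟨Groth.Agent.IntMultLib.not_mem_range_of_properly hP hn 0 h0 ((hS ξ.1).1 ξ.2),
      Groth.Agent.IntMultLib.not_mem_range_of_properly hP hn 1 h1 ((hS ξ.1).1 ξ.2)⟩
  rw [Groth.Agent.CycLib.map_apply']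
  let J := fun j : Fin (1 + 1) =>
    IntMult.interProd δP (n + 1) (⇑α) (Set.indicator {P1.sect X j (genericPoint X)} 1)
  have hsplit : ∑ᶠ p ∈ CohB1.ProjSpaceOver.toBase 1 X ⁻¹' {x},
      γ p * (AlgebraicCycle.mapCoeff (CohB1.ProjSpaceOver.toBase 1 X) δP δ p : ℤ) =
      J 0 (P1.sect X 0 x) - J 1 (P1.sect X 1 x) := by
    rw [← Groth.Agent.IntMultLib.finsum_fibre_sect hP 0 (J 0) b0 x,
      ← Groth.Agent.IntMultLib.finsum_fibre_sect hP 1 (J 1) b1 x]
    have hf : ∀ j : Fin (1 + 1), (∀ p, p ∉ Set.range (P1.sect X j) → J j p = 0) →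
        (CohB1.ProjSpaceOver.toBase 1 X ⁻¹' {x} ∩ Function.support fun p =>
          J j p * (AlgebraicCycle.mapCoeff (CohB1.ProjSpaceOver.toBase 1 X) δP δ p : ℤ)).Finite := fun j hb => by
      refine (Set.finite_singleton (P1.sect X j x)).subset fun p hp => ?_
      obtain ⟨y, rfl⟩ : p ∈ Set.range (P1.sect X j) := by_contra fun hn' => hp.2 (by simp [hb p hn'])
      have he : CohB1.ProjSpaceOver.toBase 1 X (P1.sect X j y) = y := by
        rw [← Scheme.Hom.comp_apply, Groth.Agent.H23.P1Sect.sect_toBase]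
        rfl
      have h' := hp.1
      rw [Set.mem_preimage, Set.mem_singleton_iff, he] at h'
      rw [Set.mem_singleton_iff, h']
    rw [eq_sub_iff_add_eq, ← finsum_mem_add_distrib' (((hf 0 b0).union (hf 1 b1)).subset fun p hp => ?_) (hf 1 b1)]
    · refine finsum_mem_congr rfl fun p _ => ?_
      rw [congrFun hγ p, ← add_mul]
      simp [J]
    · by_contra hc
      simp only [Set.mem_union, Set.mem_inter_iff, Function.mem_support, hp.1, true_and, not_or, not_not] at hc
      refine hp.2 ?_
      show γ p * _ = (0 : ℤ)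
      rw [congrFun hγ p]
      show (J 0 p - J 1 p) * _ = (0 : ℤ)
      rw [sub_mul, hc.1, hc.2, sub_zero]
  rw [hsplit]
  simp only [J]
  rw [a0, a1, ← Finset.sum_sub_distrib, finsum_eq_sum_of_fintype]
  rw [← Finset.sum_attach hfin.toFinset]
  exact Finset.sum_congr rfl fun ξ _ => by ring

end Groth.Agent.S1952
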