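import Groth.Statements.S1953
import Groth.Agent.IntMultLib.ExtPoint
import Groth.Agent.CycLib.Push

set_option autoImplicit false
universe u
open CategoryTheory CategoryTheory.Limits AlgebraicGeometry
attribute [local instance] HasDerivedCategory.standard
open IntMult

namespace Groth.Agent.S1953

open Groth.Agent

/-- Let X be a proper nonsingular variety over K, α an r-cycle and β an s-cycle intersecting properly, Δ
⊆ X ×_K X the diagonal (as the prime cycle of its generic point) and α × β the exterior product,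
with dimension function δ₂ on X ×_K X. Then [Δ] and α × β intersect properly and pr_{1,*}([Δ] · (α ×
β)) = α · β coefficientwise, for any cycle on X ×_K X with the coefficients of [Δ] · (α × β). Here X
is a nonsingular variety over the algebraically closed field K (smooth, separated, quasi-compact,
integral) with dimension function δ (transcendence degree) and n = dim X; cycles are Mathlib
AlgebraicCycles with Cyc.Zk membership, proper intersection is IntMult.IntersectProperly and α · β
is the Tor-formula intersection product on coefficient functions (IntMult.interProd), bundled where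
needed as 'any cycle with these coefficients'. -/
theorem result (K : Type u) [Field K] [IsAlgClosed K] (X : Scheme.{u}) (f : X ⟶ Spec (CommRingCat.of K)) [Smooth f] [IsProper f] [IsIntegral X] (δ : X → ℤ) (hX : Cyc.IsSetup X δ) (hδ : Cyc.DeltaCompat f δ (fun _ => 0)) (n : ℤ) (hn : δ (genericPoint X) = n) (δ₂ : ↥(pullback f f) → ℤ) (h₂ : Cyc.DeltaCompat (pullback.fst f f ≫ f) δ₂ (fun _ => 0)) (h₂' : Cyc.DeltaCompat (pullback.fst f f) δ₂ δ) (r s : ℤ) (α β : AlgebraicCycle X ℤ) (hα : α ∈ Cyc.Zk X δ r) (hβ : β ∈ Cyc.Zk X δ s) (hprop : IntMult.IntersectProperly δ n ⇑α ⇑β) (γ : AlgebraicCycle (pullback f f) ℤ) (hγ : ⇑γ = IntMult.interProd δ₂ (n + n) (Set.indicator {pullback.diagonal f (genericPoint X)} 1) (IntMult.extProd f f δ δ δ₂ ⇑α ⇑β)) : IntMult.IntersectProperly δ₂ (n + n) (Set.indicator {pullback.diagonal f (genericPoint X)} 1) (IntMult.extProd f f δ δ δ₂ ⇑α ⇑β) ∧ ⇑(AlgebraicCycle.map (pullback.fst f f) δ₂ δ γ) = IntMult.interProd δ n ⇑α ⇑β := by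
  classical
  haveI : IsClosedImmersion (pullback.diagonal f) := inferInstance
  let d := pullback.diagonal f
  let g₀ := d (genericPoint X)
  have hd1 : ∀ w, pullback.fst f f (d w) = w := fun w => by
    rw [← Scheme.Hom.comp_apply, pullback.diagonal_fst]; rfl
  have hd2 : ∀ w, pullback.snd f f (d w) = w := fun w => by
    rw [← Scheme.Hom.comp_apply, pullback.diagonal_snd]; rfl
  have hδd : ∀ w, δ₂ (d w) = δ w := fun w => by
    rw [IntMultLib.delta_eq_deg _ h₂, IntMultLib.delta_eq_deg f hδ,
      ← IntMultLib.deg_immersion (pullback.fst f f ≫ f) d w]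
    exact congrArg (fun t : ℕ => (t : ℤ)) (VarDim.deg_congr (pullback.diagonal_fst_assoc f f) w)
  have hg₀ : δ₂ g₀ = n := (hδd _).trans hn
  have hmemd : ∀ z, g₀ ⤳ z → z ∈ Set.range d := fun z hz =>
    hz.mem_closed d.isClosedEmbedding.isClosed_range ⟨genericPoint X, rfl⟩
  have hext : ∀ z, IntMult.extProd f f δ δ δ₂ (⇑α) (⇑β) z ≠ 0 →
      z = IntMultLib.extPt f f hδ hδ h₂ (pullback.fst f f z) (pullback.snd f f z) ∧
      α (pullback.fst f f z) ≠ 0 ∧ β (pullback.snd f f z) ≠ 0 := by
    intro z hz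
    rw [IntMultLib.extProd_eq f f hδ hδ h₂] at hz
    simp only [ne_eq, ite_eq_right_iff, not_forall, mul_eq_zero, not_or] at hz
    exact ⟨IntMultLib.eq_extPt f f hδ hδ h₂ _ _ (specializes_refl _) (specializes_refl _) hz.1.ge, hz.2.1, hz.2.2⟩
  have hind : ∀ z, Set.indicator {g₀} (1 : ↥(pullback f f) → ℤ) z ≠ 0 → z = g₀ := fun z hz =>
    Set.eq_of_mem_singleton (Set.mem_of_indicator_ne_zero hz)
  have hproper : IntMult.IntersectProperly δ₂ (n + n) (Set.indicator {g₀} 1)
      (IntMult.extProd f f δ δ δ₂ ⇑α ⇑β) := by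
    intro ξ η ζ h1 h2 hξ hη
    obtain rfl := hind ξ h1
    obtain ⟨w, rfl⟩ := hmemd ζ hξ
    obtain ⟨he, ha, hb⟩ := hext η h2
    have h1' := hη.map (pullback.fst f f).continuous
    have h2' := hη.map (pullback.snd f f).continuous
    rw [hd1] at h1'
    rw [hd2] at h2'
    have := hprop _ _ w ha hb h1' h2'
    rw [hg₀, hδd w, he, IntMultLib.delta_extPt f f hδ hδ h₂]
    omega
  refine ⟨hproper, ?_⟩
  -- the product downstairs
  have key : ∀ w, γ (d w) = IntMult.interProd δ n (⇑α) (⇑β) w := by
    intro w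
    rw [hγ]
    simp only [IntMult.interProd]
    let I₂ := {p : ↥(pullback f f) × ↥(pullback f f) //
      p.1 ⤳ d w ∧ p.2 ⤳ d w ∧ δ₂ p.1 + δ₂ p.2 - (n + n) = δ₂ (d w)}
    let φ : {p : X × X // p.1 ⤳ w ∧ p.2 ⤳ w ∧ δ p.1 + δ p.2 - n = δ w} → I₂ := fun q =>
      ⟨(g₀, IntMultLib.extPt f f hδ hδ h₂ q.1.1 q.1.2), (genericPoint_specializes w).map d.continuous,
        IntMultLib.extPt_specializes f f hδ hδ h₂ _ _ (by rw [hd1]; exact q.2.1) (by rw [hd2]; exact q.2.2.1),
        by
          show δ₂ g₀ + δ₂ (IntMultLib.extPt f f hδ hδ h₂ q.1.1 q.1.2) - (n + n) = δ₂ (d w)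
          rw [hg₀, IntMultLib.delta_extPt f f hδ hδ h₂, hδd]
          have := q.2.2.2
          omega⟩
    have hinj : Function.Injective φ := fun q q' h => by
      have h' := congrArg (fun p : I₂ => (pullback.fst f f p.1.2, pullback.snd f f p.1.2)) h
      simp only [φ, IntMultLib.fst_extPt, IntMultLib.snd_extPt] at h'
      exact Subtype.ext h'
    let F : I₂ → ℤ := fun p => Set.indicator {g₀} (1 : ↥(pullback f f) → ℤ) p.1.1 *
      IntMult.extProd f f δ δ δ₂ (⇑α) (⇑β) p.1.2 * IntMult.mult (IntMult.ptIdeal p.1.1) (IntMult.ptIdeal p.1.2) (d w)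
    have hsupp : Function.support F ⊆ Set.range φ := by
      rintro ⟨⟨ξ, η⟩, hξ, hη, hdim⟩ hp
      simp only [F, Function.mem_support, ne_eq, mul_eq_zero, not_or] at hp
      obtain rfl := hind ξ hp.1.1
      obtain ⟨he, ha, hb⟩ := hext η hp.1.2
      have h1' := hη.map (pullback.fst f f).continuous
      have h2' := hη.map (pullback.snd f f).continuous
      rw [hd1] at h1'
      rw [hd2] at h2'
      refine ⟨⟨(pullback.fst f f η, pullback.snd f f η), h1', h2', ?_⟩, Subtype.ext (Prod.ext rfl he.symm)⟩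
      dsimp only at hdim ⊢
      rw [hg₀, hδd, he, IntMultLib.delta_extPt f f hδ hδ h₂] at hdim
      omega
    refine Eq.trans (b := ∑ᶠ q, F (φ q)) ?_ ?_
    · rw [← finsum_mem_range hinj, ← finsum_mem_inter_support, Set.inter_eq_right.2 hsupp,
        finsum_mem_support]
    · refine finsum_congr fun q => ?_
      obtain ⟨⟨a, b⟩, ha, hb, hdim⟩ := q
      simp only [F, φ]
      rw [Set.indicator_of_mem (Set.mem_singleton _), Pi.one_apply, one_mul, IntMultLib.extProd_eq f f hδ hδ h₂,
        IntMultLib.fst_extPt, IntMultLib.snd_extPt, if_pos (IntMultLib.delta_extPt f f hδ hδ h₂ a b)]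
      congr 1
      rw [IntMultLib.mult_eq_mult_diag f, IntMultLib.mult_ptIdeal ((genericPoint_specializes w).map d.continuous)
          (IntMultLib.extPt_specializes f f hδ hδ h₂ a b (by rw [hd1]; exact ha) (by rw [hd2]; exact hb)),
        IntMult.mult, IntMultLib.stalkIdeal_ker_eq_primeOf d w, IntMultLib.ker_pullback_map_subschemeι,
        IntMultLib.stalkIdeal_sup, IntMultLib.stalkIdeal_comap, IntMultLib.stalkIdeal_comap,
        ← IntMultLib.primeOf_extPt f f hδ hδ h₂ a b (by rw [hd1]; exact ha) (by rw [hd2]; exact hb)]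
  funext y
  rw [CycLib.map_apply', finsum_eq_single _ (d y), finsum_eq_if, if_pos (show d y ∈ ⇑(pullback.fst f f) ⁻¹' {y} from hd1 y)]
  · rw [key y]
    have hdeg : (pullback.fst f f).residueDegree (d y) = 1 := by
      have h := CycLib.residueDegree_comp d (pullback.fst f f) y
      rw [pullback.diagonal_fst, Scheme.Hom.residueDegree_id] at h
      exact Nat.eq_one_of_mul_eq_one_right h.symm
    have hc : AlgebraicCycle.mapCoeff (pullback.fst f f) δ₂ δ (d y) = 1 := by
      simp only [AlgebraicCycle.mapCoeff]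
      rw [if_pos, hdeg]
      show δ₂ (d y) = δ (pullback.fst f f (d y))
      rw [hδd, hd1]
    rw [hc]
    simp
  · intro x hx
    rw [finsum_eq_if]
    split_ifs with hxy
    · have h0 : γ x = 0 := by
        by_contra h0
        rw [hγ, IntMult.interProd] at h0
        obtain ⟨p, hp⟩ : ∃ p : {p : ↥(pullback f f) × ↥(pullback f f) //
            p.1 ⤳ x ∧ p.2 ⤳ x ∧ δ₂ p.1 + δ₂ p.2 - (n + n) = δ₂ x},
            Set.indicator {g₀} (1 : ↥(pullback f f) → ℤ) p.1.1 ≠ 0 := by
          by_contra hno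
          push Not at hno
          exact h0 (finsum_eq_zero_of_forall_eq_zero fun p => by rw [hno p, zero_mul, zero_mul])
        obtain ⟨w, rfl⟩ := hmemd x (hind _ hp ▸ p.2.1)
        exact hx (congrArg d (by rw [← hd1 w]; exact hxy))
      rw [h0, zero_mul]
    · rfl

end Groth.Agent.S1953
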