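import Groth.Statements.S19535
import Groth.Agent.Curves16.OmegaRank
import Groth.Agent.PicClLib.Basic
import Groth.Agent.Lib.CurveDeg
import Groth.Agent.FComplLib.KrullSupp
import Groth.Agent.KFlatLib.Scheme.Exact
-- import your own Groth.Agent.* helpers here

set_option autoImplicit false
universe u
open CategoryTheory CategoryTheory.Limits AlgebraicGeometry TopologicalSpace
open Curves

namespace Groth.Agent.S19535

/-- Dichotomy for the differential of a map of smooth curves: let k be a field, X and Y integral schemes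
each smooth, separated and quasi-compact over Spec k and of dimension one, and φ : X → Y a morphism
over k. Let Ω_Y and Ω_X be sheaves of differentials of Y and of X over k, given as universal
derivations, and c : φ^*Ω_Y → Ω_X the compatible map dφ (sending the pullback of d_Y s to d_X(φ^♯
s)). Then exactly one of two things happens, stated here as a disjunction: either c is the zero map,
or c is a monomorphism of O_X-modules and its cokernel (the sheaf of relative differentials Ω_{X/Y})
restricts to zero on some nonempty open subset of X, so that it is supported at finitely many closed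
points. (The published statement is for smooth curves, which are in addition geometrically
connected; integrality of X and Y is what the argument uses.) -/
theorem result (k : Type u) [Field k] {X Y : Scheme.{u}}
    (pX : X ⟶ Spec (CommRingCat.of k)) (pY : Y ⟶ Spec (CommRingCat.of k)) (φ : X ⟶ Y) (w : φ ≫ pY = pX)
    [IsIntegral X] [Smooth pX] [IsSeparated pX] [QuasiCompact pX] (hdX : topologicalKrullDim X = 1)
    [IsIntegral Y] [Smooth pY] [IsSeparated pY] [QuasiCompact pY] (hdY : topologicalKrullDim Y = 1)
    (ΩY : Y.Modules) (dY : OmegaSh.Der pY ΩY) (hY : OmegaSh.IsUniversal dY)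
    (ΩX : X.Modules) (dX : OmegaSh.Der pX ΩX) (hX : OmegaSh.IsUniversal dX)
    (c : (Scheme.Modules.pullback φ).obj ΩY ⟶ ΩX) (hc : OmegaSh.IsDiffCompat φ dY dX c) :
    c = 0 ∨ (Mono c ∧ ∃ U : X.Opens, (U : Set X).Nonempty ∧ IsZero ((Scheme.Modules.pullback U.ι).obj (cokernel c))) := by
  refine or_iff_not_imp_left.2 fun h0 => ?_
  have h₁ := Groth.Agent.PicClLib.isInvertible_pullback φ
    (Groth.Agent.Curves16.isInvertible_universal pY hdY hY)
  have h₂ := Groth.Agent.Curves16.isInvertible_universal pX hdX hX
  refine ⟨Groth.Agent.InvEnd.mono_of_ne_zero h₁ h₂ c h0, ?_⟩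
  obtain ⟨W, ⟨⟨w, hw⟩⟩, hsurj⟩ := Groth.Agent.CurveDeg.exists_open_surjective h₁ h₂ c h0
  refine ⟨W, ⟨w, hw⟩, IsZero.of_iso (Groth.Agent.FComplLib.isZero_restrict_of_subsingleton_stalk (cokernel c) W
    fun x hx => subsingleton_of_forall_eq 0 fun z => ?_) ((Scheme.Modules.restrictFunctorIsoPullback W.ι).app _).symm⟩
  let F := DerSch.stalkFunctor X x
  obtain ⟨y, rfl⟩ := (ModuleCat.epi_iff_surjective (F.map (cokernel.π c))).1 inferInstance z
  obtain ⟨U, hxU, n, rfl⟩ := TopCat.Presheaf.exists_germ_eq ΩX.presheaf y
  obtain ⟨m, hm⟩ := hsurj (U ⊓ W) inf_le_right (ΩX.presheaf.map (homOfLE (inf_le_left : U ⊓ W ≤ U)).op n)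
  rw [← ΩX.presheaf.germ_res_apply (homOfLE (inf_le_left : U ⊓ W ≤ U)) x ⟨hxU, hx⟩ n, ← hm]
  refine (congrArg (F.map (cokernel.π c)) (DerSch.stalkFunctor_map_germ x c (U ⊓ W) ⟨hxU, hx⟩ m).symm).trans ?_
  have hz : F.map c ≫ F.map (cokernel.π c) = 0 := by
    rw [← F.map_comp, cokernel.condition, F.map_zero]
  exact LinearMap.congr_fun (congrArg ModuleCat.Hom.hom hz) _

end Groth.Agent.S19535
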