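import Groth.Statements.S1954
import Groth.Agent.IntMultLib.ClosedSub
import Groth.Agent.IntMultLib.RegQuot

set_option autoImplicit false
universe u
open CategoryTheory CategoryTheory.Limits AlgebraicGeometry
attribute [local instance] HasDerivedCategory.standard
open IntMult

namespace Groth.Agent.S1954

open Groth.Agent

/-- Let Y, Z → X be closed immersions into a nonsingular variety with δ ≤ r on Y and δ ≤ s on Z, such
that [Y]_r and [Z]_s intersect properly, and let τ be a point of δ-dimension r + s − n lying under Y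
and Z (the generic point of a component of the intersection of components of dimension r and s) at
which the scheme-theoretic intersection Y ×_X Z has multiplicity 1 (its local ring there has length
1). Then the coefficient of the closure of τ in [Y]_r · [Z]_s is 1, and the local rings of Y and Z
at the points over τ are regular. (The published statement has further parts, not restated here.)
Here X is a nonsingular variety over the algebraically closed field K (smooth, separated,
quasi-compact, integral) with dimension function δ (transcendence degree) and n = dim X; cycles are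
Mathlib AlgebraicCycles with Cyc.Zk membership, proper intersection is IntMult.IntersectProperly and
α · β is the Tor-formula intersection product on coefficient functions (IntMult.interProd), bundled
where needed as 'any cycle with these coefficients'. -/
theorem result (K : Type u) [Field K] [IsAlgClosed K] (X : Scheme.{u}) (f : X ⟶ Spec (CommRingCat.of K)) [Smooth f] [IsSeparated f] [QuasiCompact f] [IsIntegral X] (δ : X → ℤ) (hX : Cyc.IsSetup X δ) (hδ : Cyc.DeltaCompat f δ (fun _ => 0)) (n : ℤ) (hn : δ (genericPoint X) = n) (Y Z : Scheme.{u}) (ιY : Y ⟶ X) (ιZ : Z ⟶ X) [IsClosedImmersion ιY] [IsClosedImmersion ιZ] (r s : ℤ) (hY : ∀ y : Y, δ (ιY y) ≤ r) (hZ : ∀ z : Z, δ (ιZ z) ≤ s) (hprop : IntMult.IntersectProperly δ n (Cyc.subschemeFun δ r ιY) (Cyc.subschemeFun δ s ιZ)) (τ : X) (hτ : δ τ = r + s - n) (hξ : ∃ ξ η : X, Cyc.subschemeFun δ r ιY ξ ≠ 0 ∧ Cyc.subschemeFun δ s ιZ η ≠ 0 ∧ ξ ⤳ τ ∧ η ⤳ τ) (hmult : Cyc.subschemeFun δ (r + s - n) (pullback.fst ιY ιZ ≫ ιY) τ = 1) : IntMult.interProd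 δ n (Cyc.subschemeFun δ r ιY) (Cyc.subschemeFun δ s ιZ) τ = 1 ∧ (∀ y : Y, ιY y = τ → IsRegularLocalRing (Y.presheaf.stalk y)) ∧ (∀ z : Z, ιZ z = τ → IsRegularLocalRing (Z.presheaf.stalk z)) := by
  haveI := IntMultLib.isRegularLocalRing_stalk f τ
  haveI := hX.1
  let R : Type u := X.presheaf.stalk τ
  let I : Ideal R := IntMult.stalkIdeal ιY.ker τ
  let J : Ideal R := IntMult.stalkIdeal ιZ.ker τ
  -- the local ring of the intersection is a field
  have hlen : Module.length R (R ⧸ (I ⊔ J)) = 1 := by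
    simp only [Cyc.subschemeFun, if_pos hτ] at hmult
    have hne : τ ∈ Set.range (pullback.fst ιY ιZ ≫ ιY) := by
      by_contra hn
      rw [show {w : ↥(pullback ιY ιZ) | (pullback.fst ιY ιZ ≫ ιY) w = τ} = ∅ from
        Set.eq_empty_of_forall_notMem fun w hw => hn ⟨w, hw⟩, finsum_mem_empty] at hmult
      exact zero_ne_one hmult
    obtain ⟨w, rfl⟩ := hne
    rw [show {z : ↥(pullback ιY ιZ) | (pullback.fst ιY ιZ ≫ ιY) z = (pullback.fst ιY ιZ ≫ ιY) w} = {w} from
      Set.ext fun z => ⟨fun h => (pullback.fst ιY ιZ ≫ ιY).isClosedEmbedding.injective h,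
        fun h => congrArg _ h⟩, finsum_mem_singleton, IntMultLib.length_stalk_closed (pullback.fst ιY ιZ ≫ ιY), IntMultLib.ker_fst_comp,
      IntMultLib.stalkIdeal_sup] at hmult
    exact ENat.toNat_eq_iff one_ne_zero |>.1 (by exact_mod_cast hmult)
  have hIJ : I ⊔ J = IsLocalRing.maximalIdeal R := by
    refine IsLocalRing.eq_maximalIdeal ?_
    rw [Ideal.isMaximal_def, ← isSimpleModule_iff_isCoatom, ← Module.length_eq_one_iff]
    exact hlen
  have hI : I ≠ ⊤ := fun h => (IsLocalRing.maximalIdeal.isMaximal R).ne_top (by rw [← hIJ, h, top_sup_eq])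
  have hJ : J ≠ ⊤ := fun h => (IsLocalRing.maximalIdeal.isMaximal R).ne_top (by rw [← hIJ, h, sup_top_eq])
  obtain ⟨ξ, η, hξ, hη, hξτ, hητ⟩ := hξ
  have hsupp : ∀ {W : Scheme.{u}} (i : W ⟶ X) [IsClosedImmersion i] (t : ℤ), (∀ w, δ (i w) ≤ t) → ∀ z (hz : z ⤳ τ),
      CDiv6.primeOf hz ∈ Module.support R (R ⧸ IntMult.stalkIdeal i.ker τ) → δ z ≤ t := by
    intro W i _ t ht z hz h
    obtain ⟨w, rfl⟩ := (IntMultLib.mem_support_closed i hz).1 h
    exact ht w
  obtain ⟨d, hd, hdn⟩ := IntMultLib.exists_dim_stalk_delta f hδ hn τ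
  -- exact dimensions
  have hdim : ∀ {W : Scheme.{u}} (i : W ⟶ X) [IsClosedImmersion i] (t : ℤ) (z : X), (∀ w, δ (i w) ≤ t) →
      z ⤳ τ → Cyc.subschemeFun δ t i z ≠ 0 →
      ∃ a : ℕ, ringKrullDim (R ⧸ IntMult.stalkIdeal i.ker τ) = a ∧ δ τ + a = t := by
    intro W i _ t z ht hz hne
    rw [IntMultLib.subschemeFun_eq_locLen i δ t hz] at hne
    simp only [ne_eq, ite_eq_right_iff, not_forall] at hne
    obtain ⟨hzt, hne⟩ := hne
    obtain ⟨a, ha, hat⟩ := IntMultLib.exists_dim_quot_primeOf f hδ hz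
    refine ⟨a, le_antisymm ?_ ?_, by omega⟩
    · rw [← Module.supportDim_quotient_eq_ringKrullDim]
      exact IntMultLib.supportDim_le_of_delta f hδ τ _ fun z' hz' h => by
        have := hsupp i t ht z' hz' h
        omega
    · rw [← ha]
      refine ringKrullDim_le_of_surjective (Ideal.Quotient.factor ?_) (Ideal.Quotient.factor_surjective _)
      exact IntMultLib.mem_support_quotient.1 (IntMultLib.mem_support_of_locLen_ne_zero hne)
  obtain ⟨a, ha, har⟩ := hdim ιY r ξ hY hξτ hξ
  obtain ⟨b, hb, hbs⟩ := hdim ιZ s η hZ hητ hη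
  have hab : a + b = d := by omega
  obtain ⟨r1, r2⟩ := IntMultLib.regular_quotients I J hI hJ hIJ d a b hd ha hb hab
  refine ⟨?_, ?_, ?_⟩
  · rw [IntMultLib.chi_stalk_eq_interProd f hδ hn (R ⧸ I) (R ⧸ J) hτ (hsupp ιY r hY) (hsupp ιZ s hZ) ?_ _ _
      (fun z hz => IntMultLib.subschemeFun_eq_locLen ιY δ r hz)
      (fun z hz => IntMultLib.subschemeFun_eq_locLen ιZ δ s hz)]
    · have cm : ∀ (S : Type u) [CommRing S] [IsRegularLocalRing S], LocCoh.IsCohenMacaulayLocalRing S :=
        fun S _ _ => { supportDim_eq_depth := CotTLib.isCM_of_isRegularLocalRing S }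
      rw [IntMultLib.chi_eq_length_of_CM I J
        (by rw [hIJ]; exact (IsLocalRing.maximalIdeal.isMaximal R).isPrime.radical)
        (cm _) (cm _) d a b hd ha hb hab, hlen]
      rfl
    · intro p hp hq
      have hle : I ⊔ J ≤ p.asIdeal :=
        sup_le (IntMultLib.mem_support_quotient.1 hp) (IntMultLib.mem_support_quotient.1 hq)
      rw [hIJ] at hle
      exact ((IsLocalRing.maximalIdeal.isMaximal R).eq_of_le p.2.ne_top hle) ▸ IsLocalRing.maximalIdeal.isMaximal R
  · rintro y rfl
    haveI := r1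
    exact IsRegularLocalRing.of_ringEquiv (IntMultLib.quotStalkKerEquiv ιY y)
  · rintro z rfl
    haveI := r2
    exact IsRegularLocalRing.of_ringEquiv (IntMultLib.quotStalkKerEquiv ιZ z)

end Groth.Agent.S1954
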