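import Groth.Statements.S19559
import Groth.Agent.CStk17.NodeOpen.PtCond

set_option autoImplicit false
universe u
open CategoryTheory CategoryTheory.Limits AlgebraicGeometry
open Curves

namespace Groth.Agent.S19559

set_option backward.isDefEq.respectTransparency false
set_option backward.isDefEq.respectTransparency.types false

/-- Let π : C → S be a flat morphism locally of finite presentation all of whose fibres have every
irreducible component of dimension one (every geometric fibre is a curve). Then the set of points p
of C such that either π is smooth on an open neighbourhood of p, or p is a node of its fibre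
C_{π(p)} viewed as a scheme over κ(π(p)) (a closed point of the fibre at which, after base change to
an algebraic closure, the complete local ring is that of an ordinary double point), is open in C. -/
theorem result {C S : Scheme.{u}} (π : C ⟶ S)
    [Flat π] [LocallyOfFinitePresentation π]
    (hfib : ∀ s : S, ∀ Z ∈ irreducibleComponents (↥(π.fiber s) : Type u), topologicalKrullDim Z = 1) :
    IsOpen {p : C | (∃ U : C.Opens, p ∈ U ∧ Smooth (U.ι ≫ π)) ∨
      @Curv2.IsNode (S.residueField (π.base p)) _ (π.fiber (π.base p)) ⟨π.fiberToSpecResidueField (π.base p)⟩ (π.asFiber p)} := by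
  have heq : {p : C | (∃ U : C.Opens, p ∈ U ∧ Smooth (U.ι ≫ π)) ∨
      @Curv2.IsNode (S.residueField (π.base p)) _ (π.fiber (π.base p)) ⟨π.fiberToSpecResidueField (π.base p)⟩ (π.asFiber p)} =
      {p : C | Groth.Agent.CStk17.PtConds.SmoothAt π p ∨ Groth.Agent.CStk17.NodeOpen.NodeAt π p} := by
    ext p
    refine or_congr ⟨fun ⟨U, hp, hU⟩ => ?_, fun h => Groth.Agent.NodeAlg15.Fam.exists_smooth_open π h⟩ Iff.rfl
    exact Groth.Agent.NodeAlg15.Fam.smoothAt_of_open π U hp
  rw [heq]
  exact Groth.Agent.CStk17.NodeOpen.isOpen_smoothOrNode π

end Groth.Agent.S19559
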