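import Groth.Statements.S19569
import Mathlib
import Groth.Agent.DirColim.Descend
-- import your own Groth.Agent.* helpers here

set_option autoImplicit false
universe u
open CAlg

namespace Groth.Agent.S19569

theorem exists_lift_fg {ι : Type u} [Preorder ι] [IsDirected ι (· ≤ ·)] [Nonempty ι]
    {G : ι → Type u} [∀ i, CommRing (G i)] (f : ∀ i j, i ≤ j → (G i →+* G j))
    {A : Type u} [CommRing A] (g : ∀ i, G i →+* A) (hg : ∀ i j (h : i ≤ j), (g j).comp (f i j h) = g i)
    (hsurj : ∀ a : A, ∃ i, ∃ x : G i, g i x = a)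
    (hker : ∀ i (x : G i), g i x = 0 → ∃ j, ∃ h : i ≤ j, f i j h x = 0)
    (A₀ : Subalgebra ℤ A) (hA₀ : A₀.FG) :
    ∃ (i : ι) (s : A₀ →+* G i), (g i).comp s = A₀.val.toRingHom := by
  have hG : DirColim.IsColim (R := ℤ) (fun i => (g i).toIntAlgHom) :=
    DirColim.IsColim.of_system (fun i j h => (f i j h).toIntAlgHom) _
      (fun i j h => AlgHom.ext fun x => RingHom.congr_fun (hg i j h) x) hsurj hker
  haveI : Algebra.FiniteType ℤ A₀ := (Subalgebra.fg_iff_finiteType A₀).1 hA₀
  obtain ⟨n, π, hπ⟩ := Algebra.FiniteType.iff_quotient_mvPolynomial''.1 ‹Algebra.FiniteType ℤ A₀›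
  choose i x hx using fun m : Fin n => hsurj (π (MvPolynomial.X m) : A)
  obtain ⟨i₀, hi₀⟩ := Finite.exists_le i
  let θ : MvPolynomial (Fin n) ℤ →ₐ[ℤ] G i₀ := MvPolynomial.aeval fun m => f _ _ (hi₀ m) (x m)
  have hθ : ((g i₀).toIntAlgHom).comp θ = A₀.val.comp π := by
    apply MvPolynomial.algHom_ext
    intro m
    show g i₀ (θ (MvPolynomial.X m)) = (π (MvPolynomial.X m) : A)
    rw [← hx m, ← hg _ _ (hi₀ m)]
    simp [θ]
  obtain ⟨T, hT⟩ : (RingHom.ker π).FG := IsNoetherian.noetherian _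
  obtain ⟨j, φ, hφ⟩ := hG.ker_finset T i₀ (fun q => θ q) (fun q hq => by
    have h1 : π q = 0 := RingHom.mem_ker.1 (hT ▸ Ideal.subset_span hq)
    have := AlgHom.congr_fun hθ q
    simpa [h1] using this)
  have hle : RingHom.ker π ≤ RingHom.ker (φ.1.comp θ) := by
    rw [← hT, Ideal.span_le]
    exact fun q hq => RingHom.mem_ker.2 (hφ q hq)
  refine ⟨j, RingHom.liftOfSurjective π.toRingHom hπ ⟨(φ.1.comp θ).toRingHom, hle⟩, ?_⟩
  ext a
  obtain ⟨q, rfl⟩ := hπ a
  simp only [RingHom.comp_apply]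
  erw [RingHom.liftOfRightInverse_comp_apply]
  show g j (φ.1 (θ q)) = _
  exact (φ.apply (θ q)).trans (AlgHom.congr_fun hθ q)

open TensorProduct in
/-- Let A be the colimit of a directed system of rings (A_i), given by compatible ring maps A_i → A
which are jointly surjective and such that an element of some A_i mapping to zero in A already maps
to zero in some later A_j, and let B be an étale A-algebra. Then for some index i there is an étale
A_i-algebra B_i such that B is isomorphic, as an A-algebra, to the base change A ⊗_{A_i} B_i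
(existence of an isomorphism). (Stated for a system indexed by a directed preordered set.) -/
theorem result {ι : Type u} [Preorder ι] [IsDirected ι (· ≤ ·)] [Nonempty ι]
    (G : ι → Type u) [∀ i, CommRing (G i)] (f : ∀ i j, i ≤ j → (G i →+* G j))
    (A : Type u) [CommRing A] (g : ∀ i, G i →+* A) (hg : ∀ i j (h : i ≤ j), (g j).comp (f i j h) = g i)
    (hsurj : ∀ a : A, ∃ i, ∃ x : G i, g i x = a)
    (hker : ∀ i (x : G i), g i x = 0 → ∃ j, ∃ h : i ≤ j, f i j h x = 0)
    (B : Type u) [CommRing B] [Algebra A B] [Algebra.Etale A B] :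
    ∃ (i : ι) (Bi : Type u) (_ : CommRing Bi) (_ : Algebra (G i) Bi), Algebra.Etale (G i) Bi ∧
      letI : Algebra (G i) A := (g i).toAlgebra
      Nonempty (B ≃ₐ[A] A ⊗[G i] Bi) := by
  obtain ⟨A₀, B₀, _, _, hA₀, _, ⟨e⟩⟩ :=
    Algebra.Etale.exists_subalgebra_fg (R := ℤ) (A := A) (B := B)
  obtain ⟨i, s, hs⟩ := exists_lift_fg f g hg hsurj hker A₀ hA₀
  letI : Algebra A₀ (G i) := s.toAlgebra
  letI : Algebra (G i) A := (g i).toAlgebra
  haveI : IsScalarTower A₀ (G i) A := IsScalarTower.of_algebraMap_eq' hs.symm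
  exact ⟨i, G i ⊗[A₀] B₀, inferInstance, inferInstance, inferInstance,
    ⟨e.trans (Algebra.TensorProduct.cancelBaseChange A₀ (G i) A A B₀).symm⟩⟩

end Groth.Agent.S19569
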