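import Groth.Statements.S19616
import Mathlib.RingTheory.AdicCompletion.RingHom
import Mathlib.RingTheory.AdicCompletion.Completeness
import Mathlib.RingTheory.AdicCompletion.LocalRing
import Mathlib.RingTheory.Localization.Away.Basic

set_option autoImplicit false
universe u
open CartMod

namespace Groth.Agent.S19616

open AdicCompletion

section
variable (p : ℕ) (D0 : Type u) [CommRing D0]

lemma map_span_p : (Ideal.span {(p : D0)}).map (algebraMap D0 (AdicCompletion (Ideal.span {(p : D0)}) D0)) =
    Ideal.span {(p : AdicCompletion (Ideal.span {(p : D0)}) D0)} := by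
  rw [Ideal.map_span, Set.image_singleton, map_natCast]

lemma fg_span_p : (Ideal.span {(p : D0)}).FG := ⟨{(p : D0)}, by simp⟩

lemma complete_completion : IsAdicComplete (Ideal.span {(p : AdicCompletion (Ideal.span {(p : D0)}) D0)})
    (AdicCompletion (Ideal.span {(p : D0)}) D0) := by
  rw [← map_span_p]
  exact (IsAdicComplete.map_algebraMap_iff _ _).mpr (AdicCompletion.isAdicComplete (fg_span_p p D0))

lemma exists_approx (x : AdicCompletion (Ideal.span {(p : D0)}) D0) (n : ℕ) :
    ∃ d : D0, x - algebraMap D0 _ d ∈ Ideal.span {(p : AdicCompletion (Ideal.span {(p : D0)}) D0)} ^ n := by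
  obtain ⟨d, hd⟩ := Submodule.Quotient.mk_surjective _ (x.val n)
  refine ⟨d, ?_⟩
  have h : x - algebraMap D0 _ d ∈ (AdicCompletion.eval (Ideal.span {(p : D0)}) D0 n).ker := by
    rw [LinearMap.mem_ker, map_sub, AdicCompletion.eval_apply, sub_eq_zero, ← hd]
    rfl
  rw [← pow_smul_top_eq_ker_eval (fg_span_p p D0), Ideal.smul_top_eq_map, Submodule.restrictScalars_mem,
    Ideal.map_pow, map_span_p] at h
  exact h

lemma regular_completion (hD : IsSMulRegular D0 (p : D0)) :
    IsSMulRegular (AdicCompletion (Ideal.span {(p : D0)}) D0) (p : AdicCompletion (Ideal.span {(p : D0)}) D0) := by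
  rw [isSMulRegular_iff_right_eq_zero_of_smul]
  intro x hx
  obtain ⟨c, rfl⟩ := AdicCompletion.mk_surjective _ _ x
  refine ext_evalₐ fun n => ?_
  have h := congrArg (evalₐ (Ideal.span {(p : D0)}) (n + 1)) hx
  rw [smul_eq_mul, map_mul, map_natCast, _root_.map_zero, evalₐ_mk, ← map_natCast (Ideal.Quotient.mk _), ← map_mul,
    Ideal.Quotient.eq_zero_iff_mem, Ideal.span_singleton_pow, Ideal.mem_span_singleton] at h
  rw [_root_.map_zero, evalₐ_mk, Ideal.Quotient.eq_zero_iff_mem]
  obtain ⟨e, he⟩ := h
  have h1 : c.val (n + 1) = (p : D0) ^ n * e := hD (by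
    show (p : D0) • c.val (n + 1) = (p : D0) • ((p : D0) ^ n * e)
    rw [smul_eq_mul, smul_eq_mul, he]; ring)
  have h2 := c.property (Nat.le_succ n)
  rw [SModEq.sub_mem, smul_eq_mul, Ideal.mul_top] at h2
  have h3 : c.val (n + 1) ∈ Ideal.span {(p : D0)} ^ n := by
    rw [h1, Ideal.span_singleton_pow]
    exact Ideal.mul_mem_right _ _ (Ideal.mem_span_singleton_self _)
  simpa using add_mem h2 h3

end

section
variable (p : ℕ) (A : Type u) [CommRing A] {n : ℕ} (a : Fin n → A)

/-- The subalgebra `A[a_i/p]` of `A[1/p]`. -/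
noncomputable def D₀ : Subalgebra A (Localization.Away (p : A)) :=
  Algebra.adjoin A (Set.range fun i => IsLocalization.mk' (Localization.Away (p : A)) (a i)
    (⟨(p : A), Submonoid.mem_powers _⟩ : Submonoid.powers (p : A)))

lemma dvd_D₀ (i : Fin n) : algebraMap A (D₀ p A a) (a i) ∈ Ideal.span {(p : D₀ p A a)} := by
  rw [Ideal.mem_span_singleton]
  refine ⟨⟨_, Algebra.subset_adjoin ⟨i, rfl⟩⟩, Subtype.ext ?_⟩
  show algebraMap A (Localization.Away (p : A)) (a i) = ((p : D₀ p A a) : Localization.Away (p : A)) * _
  rw [show ((p : D₀ p A a) : Localization.Away (p : A)) = (p : Localization.Away (p : A)) from map_natCast (D₀ p A a).val p,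
    ← map_natCast (algebraMap A (Localization.Away (p : A)))]
  exact (IsLocalization.mk'_spec' (Localization.Away (p : A)) (a i)
    (⟨(p : A), Submonoid.mem_powers _⟩ : Submonoid.powers (p : A))).symm

lemma regular_D₀ : IsSMulRegular (D₀ p A a) (p : D₀ p A a) := by
  intro x y h
  refine Subtype.ext ?_
  have hu : IsUnit (algebraMap A (Localization.Away (p : A)) (p : A)) := IsLocalization.Away.algebraMap_isUnit _
  rw [map_natCast] at hu
  have h' := congrArg Subtype.val h
  simp only [smul_eq_mul] at h'
  refine hu.mul_left_cancel ?_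
  simpa using h'

lemma hom_D₀ (B : Type u) [CommRing B] [Algebra A B] (hB : IsSMulRegular B (p : B))
    (ha : ∀ i, algebraMap A B (a i) ∈ Ideal.span {(p : B)}) :
    Nonempty (D₀ p A a →ₐ[A] B) ∧ Subsingleton (D₀ p A a →ₐ[A] B) := by
  have hpow : ∀ k : ℕ, IsSMulRegular B ((p : B) ^ k) := fun k => hB.pow k
  constructor
  · let j : B →ₐ[A] Localization.Away (algebraMap A B (p : A)) := IsScalarTower.toAlgHom A B _
    let F : Localization.Away (p : A) →ₐ[A] Localization.Away (algebraMap A B (p : A)) :=
      IsLocalization.liftAlgHom (M := Submonoid.powers (p : A))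
        (f := Algebra.ofId A (Localization.Away (algebraMap A B (p : A)))) (by
        rintro ⟨_, k, rfl⟩
        rw [map_pow]
        refine IsUnit.pow _ ?_
        rw [Algebra.ofId_apply, IsScalarTower.algebraMap_apply A B (Localization.Away (algebraMap A B (p : A)))]
        exact IsLocalization.Away.algebraMap_isUnit _)
    have hj : Function.Injective j := by
      refine IsLocalization.injective _ (M := Submonoid.powers (algebraMap A B (p : A))) ?_
      rintro _ ⟨k, rfl⟩
      rw [map_natCast, mem_nonZeroDivisors_iff_right]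
      intro x hx
      exact hpow k (show (p : B) ^ k • x = (p : B) ^ k • 0 by
        rw [smul_eq_mul, smul_eq_mul, mul_zero, mul_comm, hx])
    have hle : (D₀ p A a).map F ≤ j.range := by
      rw [D₀, AlgHom.map_adjoin, Algebra.adjoin_le_iff]
      rintro _ ⟨_, ⟨i, rfl⟩, rfl⟩
      obtain ⟨b, hb⟩ := Ideal.mem_span_singleton.1 (ha i)
      refine ⟨b, ?_⟩
      have hu : IsUnit (F (algebraMap A (Localization.Away (p : A)) (p : A))) :=
        (IsLocalization.Away.algebraMap_isUnit _).map F
      refine hu.mul_left_cancel ?_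
      rw [← map_mul, IsLocalization.mk'_spec' (Localization.Away (p : A)) (a i)
        (⟨(p : A), Submonoid.mem_powers _⟩ : Submonoid.powers (p : A)), F.commutes, F.commutes,
        ← j.commutes, ← j.commutes, hb, ← map_natCast (algebraMap A B)]
      exact (map_mul j _ _).symm
    exact ⟨(AlgEquiv.ofInjective j hj).symm.toAlgHom.comp
      ((Subalgebra.inclusion hle).comp ((F.comp (D₀ p A a).val).codRestrict ((D₀ p A a).map F)
        fun x => ⟨x.1, x.2, rfl⟩))⟩
  · refine ⟨fun f g => AlgHom.ext fun x => ?_⟩
    obtain ⟨⟨b, ⟨_, k, rfl⟩⟩, hk⟩ := IsLocalization.surj (Submonoid.powers (p : A)) (x : Localization.Away (p : A))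
    have hx : x * algebraMap A (D₀ p A a) ((p : A) ^ k) = algebraMap A (D₀ p A a) b := Subtype.ext hk
    have h1 := congrArg f hx
    have h2 := congrArg g hx
    rw [map_mul, f.commutes, f.commutes, map_pow, map_natCast, mul_comm] at h1
    rw [map_mul, g.commutes, g.commutes, map_pow, map_natCast, mul_comm] at h2
    exact hpow k (h1.trans h2.symm)

end

/-- Let p be a prime, A a commutative ring which is complete and separated for the p-adic topology and
has no p-torsion, and a_1, …, a_n elements of A (so that (p, a_1, …, a_n) is an open ideal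
containing p). Then there is a commutative A-algebra D, complete and separated for the p-adic
topology and without p-torsion, in which each a_i is divisible by p, with the following universal
property: for every A-algebra B which is p-adically complete and separated, has no p-torsion, and in
which each a_i is divisible by p, there is exactly one A-algebra homomorphism D → B; moreover this
homomorphism is surjective whenever A → B is. (D is the coordinate ring of the dilatation of Spf A
with respect to p along the closed subscheme defined by (p, a_1, …, a_n). The published statement is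
for flat p-adic formal schemes locally of finite type over the Witt vectors of a perfect field; this
row is its affine, ring-level case without a finiteness hypothesis.) -/
theorem result (p : ℕ) [Fact p.Prime]
    (A : Type u) [CommRing A] [IsAdicComplete (Ideal.span {(p : A)}) A]
    (hA : IsSMulRegular A (p : A)) {n : ℕ} (a : Fin n → A) :
    ∃ (D : Type u) (_ : CommRing D) (_ : Algebra A D),
      IsAdicComplete (Ideal.span {(p : D)}) D ∧ IsSMulRegular D (p : D) ∧
      (∀ i, algebraMap A D (a i) ∈ Ideal.span {(p : D)}) ∧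
      ∀ (B : Type u) [CommRing B] [Algebra A B] [IsAdicComplete (Ideal.span {(p : B)}) B],
        IsSMulRegular B (p : B) → (∀ i, algebraMap A B (a i) ∈ Ideal.span {(p : B)}) →
          Nonempty (D →ₐ[A] B) ∧ Subsingleton (D →ₐ[A] B) ∧
            (Function.Surjective (algebraMap A B) → ∀ f : D →ₐ[A] B, Function.Surjective f) := by
  refine ⟨AdicCompletion (Ideal.span {(p : D₀ p A a)}) (D₀ p A a), inferInstance, inferInstance,
    complete_completion p _, regular_completion p _ (regular_D₀ p A a), fun i => ?_, fun B _ _ _ hB ha => ?_⟩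
  · rw [IsScalarTower.algebraMap_apply A (D₀ p A a) (AdicCompletion (Ideal.span {(p : D₀ p A a)}) (D₀ p A a)),
      ← map_span_p]
    exact Ideal.mem_map_of_mem _ (dvd_D₀ p A a i)
  obtain ⟨⟨φ⟩, huniq⟩ := hom_D₀ p A a B hB ha
  have hle : ∀ m : ℕ, Ideal.span {(p : D₀ p A a)} ^ m ≤ (Ideal.span {(p : B)} ^ m).comap φ := fun m => by
    rw [← Ideal.map_le_iff_le_comap, Ideal.map_pow, Ideal.map_span, Set.image_singleton, map_natCast]
  refine ⟨⟨IsAdicComplete.liftAlgHom (Ideal.span {(p : B)}) (fun m =>
      (Ideal.quotientMapₐ (Ideal.span {(p : B)} ^ m) φ (hle m)).comp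
        ((AdicCompletion.evalₐ (Ideal.span {(p : D₀ p A a)}) m).restrictScalars A)) fun {m k} hmk => ?_⟩, ?_, ?_⟩
  · ext x
    obtain ⟨c, rfl⟩ := AdicCompletion.mk_surjective _ _ x
    simp only [AlgHom.comp_apply, AlgHom.restrictScalars_apply, AdicCompletion.evalₐ_mk]
    show Ideal.Quotient.mk _ (φ (c.val k)) = Ideal.Quotient.mk _ (φ (c.val m))
    rw [Ideal.Quotient.mk_eq_mk_iff_sub_mem, ← map_sub]
    have h := c.property hmk
    rw [SModEq.sub_mem, smul_eq_mul, Ideal.mul_top] at h
    rw [← neg_sub (c.val m), map_neg]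
    exact neg_mem (hle m h)
  · refine ⟨fun f g => IsAdicComplete.algHom_ext (I := Ideal.span {(p : B)}) fun m => AlgHom.ext fun x => ?_⟩
    obtain ⟨d, hd⟩ := exists_approx p (D₀ p A a) x m
    have hfg : ∀ f' : AdicCompletion (Ideal.span {(p : D₀ p A a)}) (D₀ p A a) →ₐ[A] B,
        f' x - f' (algebraMap _ _ d) ∈ Ideal.span {(p : B)} ^ m := fun f' => by
      rw [← map_sub]
      have h := Ideal.mem_map_of_mem f'.toRingHom hd
      rwa [Ideal.map_pow, Ideal.map_span, Set.image_singleton, map_natCast] at h
    have heq : f (algebraMap _ _ d) = g (algebraMap _ _ d) :=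
      congr($(huniq.elim (f.comp (IsScalarTower.toAlgHom A (D₀ p A a) _))
        (g.comp (IsScalarTower.toAlgHom A (D₀ p A a) _))) d)
    show Ideal.Quotient.mk _ (f x) = Ideal.Quotient.mk _ (g x)
    rw [Ideal.Quotient.mk_eq_mk_iff_sub_mem]
    simpa [heq] using sub_mem (hfg f) (hfg g)
  · intro hs f b
    obtain ⟨r, rfl⟩ := hs b
    exact ⟨algebraMap A _ r, f.commutes r⟩

end Groth.Agent.S19616
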