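import Groth.Statements.S19618
import Groth.Agent.BlowUp95.ProperIntersect

set_option autoImplicit false
universe u
open CategoryTheory CategoryTheory.Limits AlgebraicGeometry Opposite TopologicalSpace
open BlowUp

namespace Groth.Agent.S19618

/-- Let X be a locally Noetherian scheme, Y an effective Cartier divisor on X (a quasi-coherent ideal
sheaf which, near every point, is generated on some affine open by one nonzerodivisor; Y is its
support) and Z a closed integral subscheme (a closed immersion i from an integral scheme with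
generic point ξ). If Y and Z intersect properly — every point ζ of Y ∩ Z which is maximal under
generization inside Y ∩ Z satisfies dim O_{X,ζ} = codim(Y,X) + codim(Z,X), where codim(Y,X) is the
infimum over y ∈ Y of dim O_{X,y} and codim(Z,X) = dim O_{X,i(ξ)} — then Z is not contained in Y. -/
theorem result {X Z : Scheme.{u}}
    [IsLocallyNoetherian X] (𝓘 : X.IdealSheafData) (hY : BlowUp.IsEffCartierIdeal 𝓘)
    (i : Z ⟶ X) [IsClosedImmersion i] [IsIntegral Z]
    (hprop : ∀ ζ : ↥X, ζ ∈ (𝓘.support : Set ↥X) ∩ Set.range i.base →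
        (∀ ζ' : ↥X, ζ' ∈ (𝓘.support : Set ↥X) ∩ Set.range i.base → ζ' ⤳ ζ → ζ' = ζ) →
        ringKrullDim ↑(X.presheaf.stalk ζ) =
          (⨅ y : (𝓘.support : Set ↥X), ringKrullDim ↑(X.presheaf.stalk y.1)) +
            ringKrullDim ↑(X.presheaf.stalk (i (genericPoint ↥Z)))) :
    ¬ Set.range i.base ⊆ (𝓘.support : Set ↥X) := by
  open Groth.Agent.DimFormula in
  intro hsub
  set ξ := i (genericPoint ↥Z) with hξ
  have hξY : ξ ∈ (𝓘.support : Set ↥X) := hsub ⟨_, rfl⟩
  have h := hprop ξ ⟨hξY, _, rfl⟩ (fun ζ' hζ' hs ↦ by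
    obtain ⟨-, w, rfl⟩ := hζ'
    have h2 : w ⤳ genericPoint ↥Z := i.isClosedEmbedding.isInducing.specializes_iff.mp hs
    exact congrArg _ ((h2.antisymm ((genericPoint_spec ↥Z).specializes (Set.mem_univ w))).eq))
  rw [Groth.Agent.BlowUp95.iInf_dim_eq hY hξY, ringKrullDim_stalk] at h
  have h' : codim ξ = 1 + codim ξ := by exact_mod_cast h
  omega

end Groth.Agent.S19618
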