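import Groth.Statements.S19638
import Groth.Agent.S10120
import Groth.Agent.S10127
import Groth.Agent.IsoNatLib.TriRep
import Groth.Agent.AlgStLib.SepUnivClosed
import Groth.Agent.AlgStLib.SepDiag
import Groth.Agent.AlgStkX.GrpPoints

set_option backward.isDefEq.respectTransparency false
set_option backward.isDefEq.respectTransparency.types false

set_option autoImplicit false
universe u
open CategoryTheory AlgebraicGeometry
open AlgSt
open CategoryTheory.Functor Opposite AlgSp
open Groth.Agent.FibBase Groth.Agent.AlgSpLib Groth.Agent.AlgStLib Groth.Agent.IsoNatLib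
open Groth.Agent.AlgSpBase Groth.Agent.AlgStkX.GrpPoints

namespace Groth.Agent.S19638

/-- Let `S` be a scheme and `𝒳` an algebraic stack over `(Sch/S)` for the big etale topology (a stack in
groupoids with diagonal representable by algebraic spaces and a smooth surjective chart from a
scheme) whose diagonal over `S` is representable by algebraic spaces and quasi-separated. Then each
field-valued point has as stabilizer a group scheme that is locally of finite type: for every field
`K`, every `p : Spec K ⟶ S` and every point `x : (Sch/Spec K) ⟶ 𝒳` over `(Sch/S)`, there is a group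
scheme `G` over `Spec K`, locally of finite type over `K`, together with group isomorphisms `G(T) ≅
Aut_T(x_T)` for all schemes `T` over `Spec K`, natural in `T` (that is, `G` represents the
automorphism presheaf of `x`). (The published statement takes the diagonal quasi-separated in the
absolute sense; it is taken over the base scheme `S` here, which is what the argument uses, the
stabilizer being a base change of that diagonal. A priori the stabilizer is a group algebraic space;
the content is that it is a scheme.) -/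
theorem result
    (S : Scheme.{u}) (𝒳 : AlgSt.Cat S) (h𝒳 : AlgSt.IsAlgStack Scheme.etalePrecoverage 𝒳)
    (hΔ : AlgSt.RepByAlgSpWith AlgSp.IsQuasiSeparatedMor (FibCat.diag (FibCat.toSelf 𝒳)))
    (K : Type u) [Field K] (p : Spec (CommRingCat.of K) ⟶ S)
    (x : FibCat.overCat (Over.mk p) ⥤ᵇ 𝒳) :
    ∃ (G : Over (Spec (CommRingCat.of K))) (_ : GrpObj G),
      LocallyOfFiniteType G.hom ∧ Nonempty (Gerb.AutRep x (Gerb.ptsGrp (Over.mk p) G)) := by
  have hf : FibCat.IsFibGrpd 𝒳.p := h𝒳.isStack.1
  obtain ⟨R, ⟨hqs, hlft⟩, -⟩ := exists_autRep_repOver (v := x)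
    (repByAlgSpWith_inertiaToBase _ (repByAlgSpWith_and stableBC_isQuasiSeparatedMor hΔ
      (repByAlgSpWith_lft_diag_toSelf (repByAlgSp1_of_repByAlgSpWith hΔ) h𝒳.atlas)))
  let U : Over S := Over.mk p
  -- the automorphism space over the field
  let Y : Over ((ofScheme S).obj U) := Over.mk (Y := R.F) (ObjectProperty.homMk R.a)
  let G₀ : Space (Spec (CommRingCat.of K)) := (spaceFunctor p).objPreimage Y
  let eY := (spaceFunctor p).objObjPreimageIso Y
  let ε : (jsh p).obj G₀.obj ≅ R.F.obj :=
    (Over.forget _ ⋙ ObjectProperty.ι (IsAlgSpace (S := S))).mapIso eY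
  have hε : ε.hom ≫ R.a = jproj p G₀.obj := congrArg (fun q => q.hom) (Over.w eY.hom)
  let fu : Over (Spec (CommRingCat.of K)) → Over U := fun W => Over.mk (strMap p W)
  let fuMap : ∀ {V W : Over (Spec (CommRingCat.of K))} (k : V ⟶ W), fu V ⟶ fu W := fun {V W} k =>
    Over.homMk ((Over.map p).map k) (Over.OverMorphism.ext (Over.w k))
  have exψ : ∀ (W : Over (Spec (CommRingCat.of K))) (γ : AutAt x (fu W)),
      ∃ z : (yon (Spec (CommRingCat.of K))).obj W ⟶ G₀.obj, upPt p z ≫ ε.hom = R.pt (Tri.ofAut γ) rfl := fun W γ => by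
    obtain ⟨z, hz⟩ := upPt_surjective p (R.pt (Tri.ofAut γ) rfl ≫ ε.inv) (by
      rw [Category.assoc, ← hε, Iso.inv_hom_id_assoc]
      exact R.pt_a (Tri.ofAut γ) rfl)
    exact ⟨z, by rw [hz, Category.assoc, Iso.inv_hom_id, Category.comp_id]⟩
  choose ψ hψ using exψ
  have hψb : ∀ W, Function.Bijective (ψ W) := fun W => ⟨fun γ γ' h => by
      have h' := R.pt_inj ((hψ W γ).symm.trans ((congrArg (fun z => upPt p z ≫ ε.hom) h).trans (hψ W γ')))
      simp only [Tri.mk.injEq, heq_eq_eq, true_and] at h'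
      exact h',
    fun z => by
      obtain ⟨⟨h, g, δ⟩, e, ht⟩ := R.pt_surj (upPt p z ≫ ε.hom)
      dsimp only at e
      subst e
      have hh := (R.pt_a _ _).symm.trans (congrArg (· ≫ R.a) ht)
      rw [Category.assoc, hε, upPt_jproj] at hh
      obtain rfl := (yon S).map_injective hh
      exact ⟨δ, upPt_injective p ((cancel_mono ε.hom).1 ((hψ W δ).trans ht))⟩⟩
  let E : ∀ W, AutAt x (fu W) ≃ ((yon (Spec (CommRingCat.of K))).obj W ⟶ G₀.obj) := fun W =>
    Equiv.ofBijective _ (hψb W)
  have hE : ∀ {V W : Over (Spec (CommRingCat.of K))} (k : V ⟶ W) (γ : AutAt x (fu W)),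
      E V (Groth.Agent.IsoNatLib.res (fuMap k) γ) = (yon _).map k ≫ E W γ := fun {V W} k γ => by
    refine upPt_injective p ((cancel_mono ε.hom).1 ((hψ V _).trans ?_))
    show _ = upPt p ((yon _).map k ≫ ψ W γ) ≫ ε.hom
    rw [upPt_natural, Category.assoc, hψ]
    have hr : Tri.ofAut (Groth.Agent.IsoNatLib.res (fuMap k) γ) = (Tri.ofAut γ).res ((Over.map p).map k) :=
      IsRes.eq ⟨fuMap k, fuMap k, rfl, rfl, res_spec (fuMap k) γ⟩
    refine Eq.trans ?_ (R.pt_res (Tri.ofAut γ) rfl ((Over.map p).map k))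
    have hcongr : ∀ {t₁ t₂ : Tri x x ((Over.map p).obj V)} (_ : t₁ = t₂) (e₁ : t₁.g = t₁.h) (e₂ : t₂.g = t₂.h),
        R.pt t₁ e₁ = R.pt t₂ e₂ := fun h _ _ => by subst h; rfl
    exact hcongr hr rfl _
  letI grp : ∀ W, Group ((yon (Spec (CommRingCat.of K))).obj W ⟶ G₀.obj) := fun W => (E W).symm.group
  have hn : IsNatMul G₀.obj := fun V W k a b => by
    obtain ⟨α, rfl⟩ := (E W).surjective a
    obtain ⟨β, rfl⟩ := (E W).surjective b
    have hmul : ∀ {W'} (a' b' : AutAt x (fu W')), E W' a' * E W' b' = E W' (a' * b') := fun {W'} a' b' => by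
      show E W' ((E W').symm (E W' a') * (E W').symm (E W' b')) = _
      rw [Equiv.symm_apply_apply, Equiv.symm_apply_apply]
    rw [hmul, ← hE, ← hE, ← hE, hmul, map_mul]
  let Y₀ : Over ((yon (Spec (CommRingCat.of K))).obj (Over.mk (𝟙 _))) :=
    Over.mk ((Groth.Agent.AlgSpPts.isTerminalYon _).from G₀.obj)
  letI : ∀ W, Group ((yon (Spec (CommRingCat.of K))).obj W ⟶ Y₀.left) := grp
  letI : GrpObj Y₀ := grpObjOfPoints (Groth.Agent.AlgSpPts.isTerminalYon _) Y₀ hn
  have hqsj : AlgSp.IsQuasiSeparatedMor (jproj p G₀.obj) :=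
    stableBC_isQuasiSeparatedMor R.F.property (IsAlgSpace.yon_obj U) (isAlgSpace_jsh p G₀.property)
      (IsAlgSpace.yon_obj U) R.a (𝟙 _) (jproj p G₀.obj) ε.hom
      (IsPullback.of_horiz_isIso ⟨by rw [hε, Category.comp_id]⟩) hqs
  have hdec := Groth.Agent.AlgSpDec.isDecent_of_isQuasiSeparatedSp G₀.property (isQuasiSeparatedSp_of_jproj p hqsj)
  have hrep : G₀.obj.obj.IsRepresentable :=
    Groth.Agent.S10120.result K Y₀ G₀.property (Groth.Agent.S10127.result K Y₀ G₀.property hdec)
  -- the group scheme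
  let Gs : Over (Spec (CommRingCat.of K)) := Functor.reprX G₀.obj.obj
  let rb : G₀.obj.obj.RepresentableBy Gs := Functor.representableBy G₀.obj.obj
  let A : (Over (Spec (CommRingCat.of K)))ᵒᵖ ⥤ GrpCat.{u} :=
    { obj := fun W => GrpCat.of (AutAt x (fu W.unop))
      map := fun k => GrpCat.ofHom (Groth.Agent.IsoNatLib.res (fuMap k.unop))
      map_id := fun W => GrpCat.ext fun a => by
        exact (congrArg (fun m => Groth.Agent.IsoNatLib.res m a)
          (Over.OverMorphism.ext ((Over.map p).map_id W.unop) : fuMap (𝟙 W.unop) = 𝟙 (fu W.unop))).trans (Groth.Agent.IsoNatLib.res_id a)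
      map_comp := fun k l => GrpCat.ext fun a => by
        exact ((Groth.Agent.IsoNatLib.res_res (fuMap k.unop) (fuMap l.unop) a).trans (congrArg (fun m => Groth.Agent.IsoNatLib.res m a)
          (show fuMap l.unop ≫ fuMap k.unop = fuMap (l.unop ≫ k.unop) from
            Over.OverMorphism.ext ((Over.map p).map_comp l.unop k.unop).symm))).symm }
  let r : (A ⋙ forget GrpCat).RepresentableBy Gs :=
    { homEquiv := fun {W} => rb.homEquiv.trans ((J (Spec (CommRingCat.of K))).uliftYonedaEquiv.symm.trans (E W).symm)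
      homEquiv_comp := fun {V W} k f => by
        show (E V).symm ((J _).uliftYonedaEquiv.symm (rb.homEquiv (k ≫ f))) =
          Groth.Agent.IsoNatLib.res (fuMap k) ((E W).symm ((J _).uliftYonedaEquiv.symm (rb.homEquiv f)))
        rw [Equiv.symm_apply_eq, hE, Equiv.apply_symm_apply, rb.homEquiv_comp]
        apply (J (Spec (CommRingCat.of K))).uliftYonedaEquiv.injective
        rw [← uliftYonedaEquiv_precomp, Equiv.apply_symm_apply, Equiv.apply_symm_apply] }
  letI : GrpObj Gs := GrpObj.ofRepresentableBy Gs A r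
  let e₂ : yonedaGrpObj Gs ≅ A := yonedaGrpObjIsoOfRepresentableBy Gs A r
  let conv : ∀ T : Over U, AutAt x T ≃* Gerb.AutO (x.obj T) := fun T =>
    { toFun := fun γ => fiberIsoMk (a := Gerb.fib (x.obj T)) (b := Gerb.fib (x.obj T))
        (ofFiberIso (a := fib x T) (b := fib x T) γ) (isHomLift_id_congr (x.w_obj T).symm γ.hom.2)
      invFun := fun α => fiberIsoMk (a := fib x T) (b := fib x T)
        (ofFiberIso (a := Gerb.fib (x.obj T)) (b := Gerb.fib (x.obj T)) α) (isHomLift_id_congr (x.w_obj T) α.hom.2)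
      left_inv := fun γ => Iso.ext (Subtype.ext rfl)
      right_inv := fun α => Iso.ext (Subtype.ext rfl)
      map_mul' := fun _ _ => Iso.ext (Subtype.ext rfl) }
  let fw : Over U ⥤ Over (Spec (CommRingCat.of K)) := Over.iteratedSliceForward U
  let ι : ∀ T : Over U, T ≅ fu (fw.obj T) := fun T =>
    Over.isoMk (Over.isoMk (Iso.refl T.left.left) ((Category.id_comp _).trans (Over.w T.hom)))
      (Over.OverMorphism.ext (Category.id_comp _))
  let resEquiv : ∀ T : Over U, AutAt x (fu (fw.obj T)) ≃* AutAt x T := fun T =>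
    { Groth.Agent.IsoNatLib.res (ι T).hom with
      invFun := Groth.Agent.IsoNatLib.res (ι T).inv
      left_inv := fun a => by
        show Groth.Agent.IsoNatLib.res (ι T).inv (Groth.Agent.IsoNatLib.res (ι T).hom a) = a
        rw [Groth.Agent.IsoNatLib.res_res, Iso.inv_hom_id, Groth.Agent.IsoNatLib.res_id]
      right_inv := fun a => by
        show Groth.Agent.IsoNatLib.res (ι T).hom (Groth.Agent.IsoNatLib.res (ι T).inv a) = a
        rw [Groth.Agent.IsoNatLib.res_res, Iso.hom_inv_id, Groth.Agent.IsoNatLib.res_id] }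
  refine ⟨Gs, inferInstance, ?_, ⟨⟨fun T => ((e₂.app (op (fw.obj T))).groupIsoToMulEquiv).trans
    ((resEquiv T).trans (conv T)), fun {T' T} h a => ?_⟩⟩⟩
  · -- locally of finite type
    let u₀ : (yon (Spec (CommRingCat.of K))).obj Gs ≅ G₀.obj := isoOfRepresentableBy rb
    let θ : (yon S).obj ((Over.map p).obj Gs) ≅ R.F.obj := jshYonIso p Gs ≪≫ (jsh p).mapIso u₀ ≪≫ ε
    have hθ : θ.hom ≫ R.a = (yon S).map (strMap p Gs) := by
      simp only [θ, Iso.trans_hom, Functor.mapIso_hom, Category.assoc, hε, jproj_natural]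
      apply (J S).uliftYonedaEquiv.injective
      rw [GrothendieckTopology.uliftYonedaEquiv_comp, GrothendieckTopology.uliftYonedaEquiv_uliftYoneda_map]
      refine ULift.ext _ _ (Over.OverMorphism.ext ((jproj_app p _ _ _).trans ?_))
      exact Category.id_comp _
    have hl := stableBC_locP R.F.property (IsAlgSpace.yon_obj U) (IsAlgSpace.yon_obj _) (IsAlgSpace.yon_obj U)
      R.a (𝟙 _) ((yon S).map (strMap p Gs)) θ.hom (IsPullback.of_horiz_isIso ⟨by rw [hθ, Category.comp_id]⟩) hlft
    exact locP_yon_map (P := @LocallyOfFiniteType) hl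
  · have hn := ConcreteCategory.congr_hom (e₂.hom.naturality (fw.map h).op) a
    show (conv T' (Groth.Agent.IsoNatLib.res (ι T').hom (e₂.hom.app _ ((yonedaGrpObj Gs).map (fw.map h).op a)))).hom.1
        ≫ x.map h = x.map h ≫ (conv T (Groth.Agent.IsoNatLib.res (ι T).hom (e₂.hom.app _ a))).hom.1
    have hn' : e₂.hom.app (op (fw.obj T')) ((yonedaGrpObj Gs).map (fw.map h).op a) =
        Groth.Agent.IsoNatLib.res (fuMap (fw.map h)) (e₂.hom.app (op (fw.obj T)) a) := hn
    rw [hn', Groth.Agent.IsoNatLib.res_res, show (ι T').hom ≫ fuMap (fw.map h) = h ≫ (ι T).hom from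
      Over.OverMorphism.ext (Over.OverMorphism.ext ((Category.id_comp _).trans (Category.comp_id _).symm)),
      ← Groth.Agent.IsoNatLib.res_res]
    exact res_spec h _
end Groth.Agent.S19638
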