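import Groth.Statements.S19646
import Groth.Agent.MiscTwoH99.FprRange
import Groth.Agent.H28.MagnetPure

set_option autoImplicit false
universe u
open CategoryTheory MonoidalCategory CartesianMonoidalCategory AlgebraicGeometry Opposite
open Magnet

namespace Groth.Agent.S19646

/-- Let S be a quasi-compact scheme, M a finitely generated abelian group and X an S-scheme separated
and locally of finite presentation over S (so of finite presentation, given the atlas below) with an
action of the diagonalizable group scheme D(M)_S, admitting an S-affine strongly-FPR atlas g : U →
X: U is affine over S with a D(M)_S-action, g is equivariant, étale and surjective, and for every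
subgroup Z of M the square of fixed-point subfunctors for the actions restricted along D(M/Z)_S →
D(M)_S, with top U^{D(M/Z)} → X^{D(M/Z)} and bottom U → X, is cartesian. Call a submonoid (magnet) N
of M pure when every submonoid L whose attractor X^L has the same image in X as X^N (on T-points,
for every S-scheme T) contains N. Then the set of pure magnets is finite. (The published statement
carries no quasi-compactness assumption on the base. Over the disjoint union S of countably many
copies of Spec ℚ indexed by n ≥ 1, let the multiplicative group act on the affine line over the n-th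
copy with weight n: this X is affine and of finite presentation over S and is its own S-affine
strongly-FPR atlas, yet the submonoids dℕ of ℤ, d ≥ 1, are pairwise distinct pure magnets; the
finite set of generating degrees used in the published argument exists only over a quasi-compact
base, so S is taken quasi-compact here. The source allows X an algebraic space and any abelian group
M; here X is a scheme and M is finitely generated, as in the results on FPR atlases on which the
argument rests.) -/
theorem result (S : Scheme.{u}) [CompactSpace S] (M : Type)
    [AddCommGroup M] [AddGroup.FG M] {X : Over S} [IsSeparated X.hom] [LocallyOfFinitePresentation X.hom]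
    (a : Magnet.MonAct (Magnet.AMonS S M) X) (U : Over S) [IsAffineHom U.hom]
    (aU : Magnet.MonAct (Magnet.AMonS S M) U) (g : U ⟶ X) (hg : Magnet.MonAct.IsEquivariant aU a g)
    [Etale g.left] [Surjective g.left]
    (hgZ : ∀ Z : AddSubgroup M, Magnet.MonAct.IsEquivariant
      (aU.restrict (Magnet.AMonS.map S (QuotientAddGroup.mk' Z)))
      (a.restrict (Magnet.AMonS.map S (QuotientAddGroup.mk' Z))) g)
    (hfpr : ∀ Z : AddSubgroup M, IsPullback (Magnet.MonAct.fixedPsh.map g (hgZ Z))
      (Magnet.MonAct.fixedPshι (aU.restrict (Magnet.AMonS.map S (QuotientAddGroup.mk' Z))))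
      (Magnet.MonAct.fixedPshι (a.restrict (Magnet.AMonS.map S (QuotientAddGroup.mk' Z)))) (yoneda.map g)) :
    Set.Finite {N : AddSubmonoid M | ∀ L : AddSubmonoid M,
      (∀ T : Over S, Set.range (fun φ => (Magnet.attrToX a N).app (op T) φ) =
        Set.range (fun φ => (Magnet.attrToX a L).app (op T) φ)) → N ≤ L} := by
  classical
  haveI : LocallyOfFiniteType U.hom := by rw [← Over.w g]; infer_instance
  obtain ⟨E, hE⟩ := Groth.Agent.H28.MagnetAff.exists_degrees_global aU
  refine ((E.powerset.finite_toSet).image fun s : Finset M => AddSubmonoid.closure (s : Set M)).subset ?_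
  intro N hN
  refine ⟨E.filter (· ∈ N), Finset.mem_coe.mpr (Finset.mem_powerset.mpr (Finset.filter_subset _ _)), le_antisymm ?_ ?_⟩
  · exact AddSubmonoid.closure_le.mpr fun m hm => (Finset.mem_filter.mp hm).2
  · let L := AddSubmonoid.closure (E.filter (· ∈ N) : Set M)
    have hL : L ≤ N := AddSubmonoid.closure_le.mpr fun m hm => (Finset.mem_filter.mp hm).2
    have hiff : ∀ m ∈ E, m ∈ N ↔ m ∈ L := fun m hm =>
      ⟨fun h => AddSubmonoid.subset_closure (Finset.mem_filter.mpr ⟨hm, h⟩), fun h => hL h⟩
    have hU : ∀ T : Over S, Set.range (fun φ => (Magnet.attrToX aU N).app (op T) φ) =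
        Set.range (fun φ => (Magnet.attrToX aU L).app (op T) φ) := fun T =>
      Set.ext fun x => ⟨hE N L hiff T x, hE L N (fun m hm => (hiff m hm).symm) T x⟩
    exact hN L fun T => Set.Subset.antisymm
      (MiscTwoH99.FprRange.range_subset a U aU g hg N L (hgZ _) (hfpr _) (fun T => (hU T).subset) T)
      (MiscTwoH99.FprRange.range_subset a U aU g hg L N (hgZ _) (hfpr _) (fun T => (hU T).symm.subset) T)

end Groth.Agent.S19646
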