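import Groth.Statements.S19649
import Mathlib.RingTheory.LocalRing.Module
import Mathlib.RingTheory.LocalProperties.Projective
import Mathlib.RingTheory.MvPowerSeries.Inverse
import Mathlib.RingTheory.Localization.Away.Basic
import Mathlib.Tactic.LinearCombination
-- import your own Groth.Agent.* helpers here

set_option autoImplicit false
universe u v
open Instab

namespace Groth.Agent.S19649

open MvPolynomial DirectSum in
/-- The case of a point, in graded-module form over an affine base. Let R be a commutative ring, n a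
natural number, A = R[x_1, …, x_n] the polynomial ring graded by ℤ^n with x_i of degree the i-th
basis vector (the weight grading of the standard action of the n-dimensional split torus on affine
n-space), and P a finitely generated projective A-module carrying a compatible ℤ^n-grading (an
equivariant vector bundle on affine n-space over Spec R). Then P is graded-free Zariski-locally on
Spec R: for every prime p of R there are r ∉ p and finitely many homogeneous elements f_1, …, f_m of
P such that, after inverting r, the f_i form an A-basis of P — every element of P multiplied by a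
power of r is an A-linear combination of the f_i, and the coefficients of every A-linear relation
among the f_i are killed by a power of r. (This is the case of a point of the source's description
of filtered points of quotient stacks by the general linear group, whose argument the source gives
in full: an equivariant vector bundle on affine n-space over a base is, locally on the base, the
standard one attached to a cocharacter; the general case, an identification of mapping stacks, is
not stated here.) -/
theorem result
    {R : Type u} [CommRing R] (n : ℕ)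
    {P : Type v} [AddCommGroup P] [Module (MvPolynomial (Fin n) R) P] [Module R P]
    [IsScalarTower R (MvPolynomial (Fin n) R) P]
    (ℳ : (Fin n → ℤ) → Submodule R P) [DirectSum.Decomposition ℳ]
    [SetLike.GradedSMul (MvPolynomial.weightedHomogeneousSubmodule R (fun i : Fin n => (Pi.single i 1 : Fin n → ℤ))) ℳ]
    [Module.Finite (MvPolynomial (Fin n) R) P] [Module.Projective (MvPolynomial (Fin n) R) P]
    (p : PrimeSpectrum R) :
    ∃ r : R, r ∉ p.asIdeal ∧ ∃ (m : ℕ) (d : Fin m → (Fin n → ℤ)) (f : Fin m → P), (∀ i, f i ∈ ℳ (d i)) ∧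
      (∀ q : P, ∃ (N : ℕ) (c : Fin m → MvPolynomial (Fin n) R), (MvPolynomial.C r : MvPolynomial (Fin n) R) ^ N • q = ∑ i, c i • f i) ∧
      (∀ c : Fin m → MvPolynomial (Fin n) R, ∑ i, c i • f i = 0 →
        ∃ N : ℕ, ∀ i, (MvPolynomial.C r : MvPolynomial (Fin n) R) ^ N * c i = 0) := by
  classical
  let A := MvPolynomial (Fin n) R
  let wt : Fin n → (Fin n → ℤ) := fun i => Pi.single i 1
  have hwt : ∀ (s : Fin n →₀ ℕ), Finsupp.weight wt s = 0 → s = 0 := by
    intro s hs
    ext i
    have h1 := congrFun hs i
    rw [Finsupp.weight_apply, Finsupp.sum_fintype _ _ (by simp)] at h1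
    simp only [Finset.sum_apply, Pi.smul_apply, wt, Pi.single_apply, Pi.zero_apply] at h1
    simpa using h1
  let π : (Fin n → ℤ) → P → P := fun d x => (DirectSum.decompose ℳ x d : P)
  have hπadd : ∀ d x y, π d (x + y) = π d x + π d y := fun d x y => by simp [π]
  have hπ0 : ∀ d, π d 0 = 0 := fun d => by simp [π]
  have hπmem : ∀ {d e x}, x ∈ ℳ e → π d x = if e = d then x else 0 := fun {d e x} hx => by
    split_ifs with h
    · subst h; exact DirectSum.decompose_of_mem_same ℳ hx
    · exact DirectSum.decompose_of_mem_ne ℳ hx h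
  have hmon : ∀ (s : Fin n →₀ ℕ) (c : R) {e x}, x ∈ ℳ e → monomial s c • x ∈ ℳ (Finsupp.weight wt s + e) :=
    fun s c {e x} hx => SetLike.GradedSMul.smul_mem
      ((mem_weightedHomogeneousSubmodule R wt _ _).mpr (isWeightedHomogeneous_monomial wt s c rfl)) hx
  -- the component of `a • x` in the degree of `x` is the constant term times `x`
  have hG : ∀ (a : A) {e x}, x ∈ ℳ e → π e (a • x) = (C (constantCoeff a) : A) • x := by
    intro a e x hx
    induction a using MvPolynomial.induction_on' with
    | monomial s c =>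
      rw [hπmem (hmon s c hx)]
      by_cases hs : s = 0
      · subst hs; simp
      · rw [if_neg (fun h => hs (hwt s (by simpa using h)))]
        simp [constantCoeff_monomial, hs]
    | add p q hp hq => rw [add_smul, hπadd, hp, hq, map_add, map_add, add_smul]
  -- finitely many homogeneous generators
  obtain ⟨S, hS⟩ := (Module.Finite.fg_top : (⊤ : Submodule A P).FG)
  let ι₀ := Σ g : {x // x ∈ S}, {e // e ∈ (DirectSum.decompose ℳ g.1).support}
  let v₀ : ι₀ → P := fun i => (DirectSum.decompose ℳ i.1.1 i.2.1 : P)
  let dv : ι₀ → (Fin n → ℤ) := fun i => i.2.1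
  have hv₀mem : ∀ i, v₀ i ∈ ℳ (dv i) := fun i => (DirectSum.decompose ℳ i.1.1 i.2.1).2
  have hv₀span : Submodule.span A (Set.range v₀) = ⊤ := by
    rw [eq_top_iff, ← hS, Submodule.span_le]
    intro g hg
    rw [SetLike.mem_coe, ← DirectSum.sum_support_decompose ℳ g]
    exact Submodule.sum_mem _ fun e he => Submodule.subset_span ⟨⟨⟨g, hg⟩, e, he⟩, rfl⟩
  -- localise at the prime over `p` containing all the variables
  let 𝔪 : Ideal A := Ideal.comap (constantCoeff : A →+* R) p.asIdeal
  haveI h𝔪 : 𝔪.IsPrime := Ideal.comap_isPrime _ _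
  let Am := Localization.AtPrime 𝔪
  let Pm := LocalizedModule 𝔪.primeCompl P
  let mk : P →ₗ[A] Pm := LocalizedModule.mkLinearMap 𝔪.primeCompl P
  haveI : Module.Projective Am Pm := Module.projective_of_isLocalizedModule 𝔪.primeCompl mk
  haveI : Module.Finite Am Pm := Module.Finite.of_isLocalizedModule 𝔪.primeCompl mk
  haveI : Module.FinitePresentation Am Pm := Module.finitePresentation_of_projective Am Pm
  have hspanm : Submodule.span Am (Set.range (fun i : ULift.{u} (Fin (Fintype.card ι₀)) =>
      mk (v₀ ((Fintype.equivFin ι₀).symm i.down)))) = ⊤ := by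
    have h := span_eq_top_of_isLocalizedModule Am 𝔪.primeCompl mk hv₀span
    rw [← Set.range_comp] at h
    rw [← h]
    congr 1
    exact ((Fintype.equivFin ι₀).symm.surjective.comp ULift.down_surjective).range_comp (mk ∘ v₀)
  obtain ⟨κ, sel, b, hb⟩ := Module.exists_basis_of_span_of_flat _ hspanm
  haveI : Finite κ := Module.Finite.finite_basis b
  haveI : Fintype κ := Fintype.ofFinite κ
  let eκ := Fintype.equivFin κ
  let idx : Fin (Fintype.card κ) → ι₀ := fun i => (Fintype.equivFin ι₀).symm (sel (eκ.symm i)).down
  let f : Fin (Fintype.card κ) → P := fun i => v₀ (idx i)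
  let bm : Module.Basis (Fin (Fintype.card κ)) Am Pm := b.reindex eκ
  have hbm : ∀ i, bm i = mk (f i) := fun i => by rw [Module.Basis.reindex_apply, hb]
  set N := Submodule.span A (Set.range f) with hN
  have hNgr : ∀ x ∈ N, ∀ d, π d x ∈ N := by
    intro x hx
    obtain ⟨c, rfl⟩ := Submodule.mem_span_range_iff_exists_fun A |>.mp hx
    intro d
    refine Finset.sum_induction _ (fun y => π d y ∈ N) (fun y z hy hz => by rw [hπadd]; exact N.add_mem hy hz)
      (by rw [hπ0]; exact N.zero_mem) fun i _ => ?_
    induction c i using MvPolynomial.induction_on' with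
    | monomial s r =>
      rw [hπmem (hmon s r (hv₀mem (idx i)))]
      split_ifs
      · exact N.smul_mem _ (Submodule.subset_span ⟨i, rfl⟩)
      · exact N.zero_mem
    | add p q hp hq => rw [add_smul, hπadd]; exact N.add_mem hp hq
  have hloc : ∀ g : P, ∃ a : A, a ∉ 𝔪 ∧ a • g ∈ N := by
    intro g
    have : mk g ∈ Submodule.span Am (Set.range bm) := by rw [bm.span_eq]; trivial
    have h : ∀ x ∈ Submodule.span Am (Set.range bm), ∃ a : A, a ∉ 𝔪 ∧ ∃ y ∈ N, a • x = mk y := by
      intro x hx
      induction hx using Submodule.span_induction with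
      | mem y hy =>
        obtain ⟨i, rfl⟩ := hy
        exact ⟨1, 𝔪.primeCompl.one_mem, f i, Submodule.subset_span ⟨i, rfl⟩, by rw [one_smul, hbm]⟩
      | zero => exact ⟨1, 𝔪.primeCompl.one_mem, 0, N.zero_mem, by simp⟩
      | add x y _ _ hx hy =>
        obtain ⟨a, ha, x', hx', ex⟩ := hx
        obtain ⟨c, hc, y', hy', ey⟩ := hy
        refine ⟨a * c, 𝔪.primeCompl.mul_mem ha hc, c • x' + a • y', N.add_mem (N.smul_mem _ hx') (N.smul_mem _ hy'), ?_⟩
        rw [map_add, map_smul, map_smul, ← ex, ← ey, smul_add, smul_smul, smul_smul, mul_comm c a]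
      | smul r x _ hx =>
        obtain ⟨a, ha, x', hx', ex⟩ := hx
        obtain ⟨⟨c, t⟩, rfl⟩ := IsLocalization.mk'_surjective 𝔪.primeCompl r
        refine ⟨a * t, 𝔪.primeCompl.mul_mem ha t.2, c • x', N.smul_mem _ hx', ?_⟩
        rw [map_smul, ← ex, smul_smul, ← algebraMap_smul Am (a * (t : A)), ← algebraMap_smul Am (c * a),
          smul_smul]
        congr 1
        rw [map_mul, map_mul, mul_assoc, IsLocalization.mk'_spec', mul_comm]
    obtain ⟨a, ha, y, hy, e⟩ := h _ this
    rw [← map_smul] at e
    obtain ⟨c, hc⟩ := (IsLocalizedModule.eq_iff_exists 𝔪.primeCompl mk).mp e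
    refine ⟨(c : A) * a, 𝔪.primeCompl.mul_mem c.2 ha, ?_⟩
    rw [mul_smul]
    rw [show (c : A) • (a • g) = (c : A) • y from hc]
    exact N.smul_mem _ hy
  choose α hα hαN using fun i => hloc (v₀ i)
  let r₁ : R := ∏ i, constantCoeff (α i)
  have hr₁p : r₁ ∉ p.asIdeal := fun h => by
    obtain ⟨i, -, hi⟩ := (p.isPrime.prod_mem_iff).mp h
    exact hα i hi
  have hr₁ : ∀ q : P, (C r₁ : A) • q ∈ N := by
    intro q
    have hq : q ∈ Submodule.span A (Set.range v₀) := by rw [hv₀span]; trivial
    induction hq using Submodule.span_induction with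
    | mem y hy =>
      obtain ⟨i, rfl⟩ := hy
      have h1 := hNgr _ (hαN i) (dv i)
      rw [hG _ (hv₀mem i)] at h1
      obtain ⟨t, ht⟩ : constantCoeff (α i) ∣ r₁ := Finset.dvd_prod_of_mem _ (Finset.mem_univ i)
      rw [ht, mul_comm, map_mul, mul_smul]
      exact N.smul_mem _ h1
    | zero => simp
    | add x y _ _ hx hy => rw [smul_add]; exact N.add_mem hx hy
    | smul c x _ hx => rw [smul_comm]; exact N.smul_mem _ hx
  let φ : (Fin (Fintype.card κ) → A) →ₗ[A] P := Fintype.linearCombination A f
  have hφN : LinearMap.range φ = N := Fintype.range_linearCombination A f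
  obtain ⟨sec, hsec⟩ := Module.projective_lifting_property φ.rangeRestrict
    ((LinearMap.lsmul A P (C r₁)).codRestrict _ (fun q => by rw [hφN]; exact hr₁ q)) φ.surjective_rangeRestrict
  have hsec' : ∀ q, φ (sec q) = (C r₁ : A) • q := fun q =>
    congrArg Subtype.val (LinearMap.congr_fun hsec q)
  let e : (Fin (Fintype.card κ) → A) →ₗ[A] (Fin (Fintype.card κ) → A) :=
    sec ∘ₗ φ - LinearMap.lsmul A _ (C r₁)
  have heker : ∀ c, φ (e c) = 0 := fun c => by simp [e, hsec']
  have hke : ∀ j i, ∃ a : A, a ∉ 𝔪 ∧ a * e (Pi.single j 1) i = 0 := by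
    intro j i
    have h0 := congrArg mk (heker (Pi.single j 1))
    simp only [φ, Fintype.linearCombination_apply, map_sum, map_smul, map_zero, ← hbm] at h0
    have h1 := Fintype.linearIndependent_iff.mp bm.linearIndependent
      (fun l => algebraMap A Am (e (Pi.single j 1) l)) (by simpa only [algebraMap_smul] using h0) i
    obtain ⟨⟨a, ha⟩, h2⟩ := (IsLocalization.map_eq_zero_iff 𝔪.primeCompl Am _).mp h1
    exact ⟨a, ha, h2⟩
  choose β hβ hβe using hke
  let a : A := ∏ j, ∏ i, β j i
  have ha : a ∉ 𝔪 := fun h => by
    obtain ⟨j, -, hj⟩ := (h𝔪.prod_mem_iff).mp h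
    obtain ⟨i, -, hi⟩ := (h𝔪.prod_mem_iff).mp hj
    exact hβ j i hi
  refine ⟨constantCoeff a * r₁, fun h => (p.isPrime.mem_or_mem h).elim ha hr₁p, Fintype.card κ,
    fun i => dv (idx i), f, fun i => hv₀mem (idx i), fun q => ?_, fun c hc => ?_⟩
  · have : (C (constantCoeff a * r₁) : A) ^ 1 • q ∈ N := by
      rw [pow_one, map_mul, mul_smul]; exact N.smul_mem _ (hr₁ q)
    obtain ⟨c, hc⟩ := Submodule.mem_span_range_iff_exists_fun A |>.mp this
    exact ⟨1, c, hc.symm⟩
  · have hker : φ c = 0 := by simpa [φ, Fintype.linearCombination_apply] using hc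
    have hann : ∀ i, (a * C r₁) * c i = 0 := by
      intro i
      have h1 : e c = -((C r₁ : A) • c) := by simp [e, hker]
      have h2 : a * e c i = 0 := by
        conv_lhs => rw [show c = ∑ j, c j • Pi.single j (1 : A) from (pi_eq_sum_univ' c), map_sum, Finset.sum_apply]
        rw [Finset.mul_sum]
        refine Finset.sum_eq_zero fun j _ => ?_
        rw [map_smul, Pi.smul_apply, smul_eq_mul, mul_left_comm]
        obtain ⟨t, ht⟩ : β j i ∣ a :=
          (Finset.dvd_prod_of_mem (β j) (Finset.mem_univ i)).trans
            (Finset.dvd_prod_of_mem (fun j => ∏ i, β j i) (Finset.mem_univ j))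
        rw [ht, mul_right_comm, hβe, zero_mul, mul_zero]
      rw [h1] at h2
      simp only [Pi.neg_apply, Pi.smul_apply, smul_eq_mul, mul_neg, neg_eq_zero] at h2
      rw [mul_assoc]; linear_combination -h2
    set r := constantCoeff a * r₁ with hr
    let B := Localization.Away r
    have hB : ∀ i, MvPolynomial.map (algebraMap R B) (c i) = 0 := by
      intro i
      have h1 := congrArg (MvPolynomial.coeToMvPowerSeries.ringHom (σ := Fin n) (R := B))
        (congrArg (MvPolynomial.map (algebraMap R B)) (hann i))
      rw [map_mul, map_mul, map_zero, map_zero] at h1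
      have hu : IsUnit (MvPolynomial.coeToMvPowerSeries.ringHom (σ := Fin n) (R := B)
          (MvPolynomial.map (algebraMap R B) (a * C r₁))) := by
        rw [MvPowerSeries.isUnit_iff_constantCoeff]
        have : MvPowerSeries.constantCoeff (MvPolynomial.coeToMvPowerSeries.ringHom (σ := Fin n) (R := B)
            (MvPolynomial.map (algebraMap R B) (a * C r₁))) = algebraMap R B r := by
          rw [← MvPowerSeries.coeff_zero_eq_constantCoeff_apply, MvPolynomial.coeToMvPowerSeries.ringHom_apply,
            MvPolynomial.coeff_coe, MvPolynomial.coeff_map, ← constantCoeff_eq, map_mul, constantCoeff_C]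
        rw [this]; exact IsLocalization.Away.algebraMap_isUnit r
      have h2 := hu.mul_right_eq_zero.mp h1
      exact MvPolynomial.coe_injective _ _ (h2.trans (map_zero (MvPolynomial.coeToMvPowerSeries.ringHom (σ := Fin n) (R := B))).symm)
    have hpow : ∀ i (s : Fin n →₀ ℕ), ∃ M : ℕ, r ^ M * coeff s (c i) = 0 := by
      intro i s
      have h1 := congrArg (coeff s) (hB i)
      rw [MvPolynomial.coeff_map, coeff_zero] at h1
      obtain ⟨⟨_, M, rfl⟩, hM⟩ := (IsLocalization.map_eq_zero_iff (Submonoid.powers r) B _).mp h1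
      exact ⟨M, hM⟩
    choose M hM using hpow
    refine ⟨∑ i, ∑ s ∈ (c i).support, M i s, fun i => ?_⟩
    rw [← map_pow]
    ext s
    rw [coeff_C_mul, coeff_zero]
    by_cases hs : s ∈ (c i).support
    · obtain ⟨t, ht⟩ := pow_dvd_pow r ((Finset.single_le_sum (fun _ _ => Nat.zero_le _) hs).trans
        (Finset.single_le_sum (fun _ _ => Nat.zero_le _) (Finset.mem_univ i) (f := fun i => ∑ s ∈ (c i).support, M i s)) :
          M i s ≤ _)
      rw [ht, mul_right_comm, hM, zero_mul]
    · rw [notMem_support_iff.mp hs, mul_zero]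

end Groth.Agent.S19649
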