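import Groth.Statements.S19655
import Groth.Agent.WeilExt.Dedekind

set_option autoImplicit false
universe u
open CategoryTheory CategoryTheory.Limits MonoidalCategory CartesianMonoidalCategory AlgebraicGeometry
open Neron

namespace Groth.Agent.S19655

/-- Let R be a Dedekind domain with fraction field K, A an abelian variety over K (a proper smooth
geometrically connected K-group scheme) and N a Néron model of A over Spec R. Then for every smooth
R-scheme Y, every K-morphism to A defined on a dense open subscheme of the generic fibre of Y is the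
restriction of exactly one R-morphism Y → N: K-rational maps from smooth R-schemes to A extend
uniquely to the Néron model. (The text works over a connected Dedekind scheme; the affine case is
stated.) -/
theorem result
    (R : Type u) [CommRing R] [IsDedekindDomain R]
    (N : Over (Spec (CommRingCat.of R))) (A : Over (Spec (CommRingCat.of (FractionRing R))))
    (e : (Neron.genericFibre R).obj N ≅ A) (hN : Neron.IsNeronModelOf R N A e)
    [GrpObj A] [IsProper A.hom] [Smooth A.hom] [GeometricallyConnected A.hom]
    (Y : Over (Spec (CommRingCat.of R))) [Smooth Y.hom]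
    (W : ((Neron.genericFibre R).obj Y).left.Opens) (hW : Dense (W : Set ↥((Neron.genericFibre R).obj Y).left))
    (g : (W : Scheme.{u}) ⟶ A.left) (hg : g ≫ A.hom = W.ι ≫ ((Neron.genericFibre R).obj Y).hom) :
    ∃! h : Y ⟶ N, W.ι ≫ ((Neron.genericFibre R).map h ≫ e.hom).left = g := by
  obtain ⟨-, -, -, -, hN⟩ := hN
  have hbij := hN Y ‹Smooth Y.hom›
  let X := (Neron.genericFibre R).obj Y
  haveI : Smooth X.hom := inferInstanceAs (Smooth (pullback.snd Y.hom (Neron.genPt R)))
  haveI : IsLocallyNoetherian (Spec (CommRingCat.of (FractionRing R))) := inferInstance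
  have hS := Groth.Agent.WeilExt.isRegularLocalRing_stalk_spec (R := FractionRing R)
  obtain ⟨V, hWV, g₁, hg₁, hg₁W, hV⟩ :=
    Groth.Agent.WeilExt.exists_extension_codimTwo (X := X) (Y := A) hS W hW g hg
  obtain ⟨g₂, ⟨hg₂, hg₂V⟩, -⟩ := Groth.Agent.WeilExt.existsUnique_extension (X := X) (G := A) hS V hV
    (Groth.Agent.WeilExt.exists_fibre_generization_of_coheight (R := FractionRing R) X.hom V hV) g₁ hg₁
  have hW2 : W.ι ≫ g₂ = g := by
    rw [← Scheme.homOfLE_ι X.left hWV, Category.assoc, hg₂V, hg₁W]
  obtain ⟨h, hh⟩ := hbij.2 (Over.homMk g₂ hg₂)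
  haveI : IsReduced X.left := Groth.Agent.WeilExt.isReduced_smooth hS X.hom
  haveI : IsDominant W.ι := ⟨by rw [DenseRange, Scheme.Opens.range_ι]; exact hW⟩
  refine ⟨h, ?_, fun h' hh' => hbij.1 ?_⟩
  · exact (congrArg (fun m => W.ι ≫ Over.Hom.left m) hh).trans hW2
  · refine Eq.trans ?_ hh.symm
    apply Over.OverMorphism.ext
    exact ext_of_isDominant_of_isSeparated A.hom
      ((Over.w _).trans hg₂.symm) W.ι (hh'.trans hW2.symm)

end Groth.Agent.S19655
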