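import Groth.Statements.S19658
import Groth.Agent.NeronMdl58.PowEtale
import Groth.Agent.EtFound.Henselian

set_option autoImplicit false
universe u
open CategoryTheory CategoryTheory.Limits MonoidalCategory CartesianMonoidalCategory AlgebraicGeometry
open Neron

namespace Groth.Agent.S19658
open MonoidalCategory CartesianMonoidalCategory MonObj

/-- The first display of the lemma, in the generality its argument gives. Let R be a henselian local
ring with residue field k, G a commutative group scheme over Spec R that is smooth, separated and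
quasi-compact, and N a natural number which is a unit in R. Then every k-valued point of G killed by
N lifts to exactly one R-valued point of G killed by N; that is, reduction G(R)[N] → G(k)[N] is a
bijection on N-torsion. (The text applies this to the Néron model of an abelian variety over a
henselian discrete valuation ring, where G(R) = A(K).) -/
theorem result
    (R : Type u) [CommRing R] [HenselianLocalRing R]
    (G : Over (Spec (CommRingCat.of R))) [GrpObj G] [IsCommMonObj G]
    [Smooth G.hom] [IsSeparated G.hom] [QuasiCompact G.hom]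
    (N : ℕ) (hN : IsUnit (N : R))
    (τ : Over.mk (Spec.map (CommRingCat.ofHom (IsLocalRing.residue R))) ⟶ G)
    (hτ : τ ∈ AbDual.torsPts G N (Over.mk (Spec.map (CommRingCat.ofHom (IsLocalRing.residue R))))) :
    ∃! σ : Over.mk (𝟙 (Spec (CommRingCat.of R))) ⟶ G,
      σ ∈ AbDual.torsPts G N (Over.mk (𝟙 (Spec (CommRingCat.of R)))) ∧
        Over.homMk (Spec.map (CommRingCat.ofHom (IsLocalRing.residue R))) (Category.comp_id _) ≫ σ = τ := by
  have hn : IsUnit (N : Γ(Spec (CommRingCat.of R), ⊤)) := by
    have h := hN.map (Scheme.ΓSpecIso (CommRingCat.of R)).inv.hom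
    rwa [map_natCast] at h
  haveI := Groth.Agent.NeronMdl58.etale_pow_of_smooth G N hn
  let f : G ⟶ G := 𝟙 G ^ N
  let e : Over.mk (𝟙 (Spec (CommRingCat.of R))) ⟶ G := 1
  let K := pullback f.left e.left
  haveI : Etale f.left := Groth.Agent.NeronMdl58.etale_pow_of_smooth G N hn
  haveI : Etale (pullback.snd f.left e.left) := inferInstance
  have hpow : ∀ {T : Over (Spec (CommRingCat.of R))} (a : T ⟶ G), a ≫ f = a ^ N := fun a => by
    show a ≫ (𝟙 G ^ N) = _
    rw [MonObj.comp_pow, Category.comp_id]
  let c : Over.mk (Spec.map (CommRingCat.ofHom (IsLocalRing.residue R))) ⟶ Over.mk (𝟙 (Spec (CommRingCat.of R))) :=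
    Over.homMk (Spec.map (CommRingCat.ofHom (IsLocalRing.residue R))) (Category.comp_id _)
  have hτ' : τ ≫ f = c ≫ e := by rw [hpow, MonObj.comp_one]; exact hτ
  let u : Spec (CommRingCat.of (IsLocalRing.ResidueField R)) ⟶ K :=
    pullback.lift τ.left (Spec.map (CommRingCat.ofHom (IsLocalRing.residue R))) (congrArg CommaMorphism.left hτ')
  obtain ⟨σ₀, ⟨h1, h2⟩, huniq⟩ := Groth.Agent.EtFound.existsUnique_section R (pullback.snd f.left e.left) u
    (pullback.lift_snd _ _ _)
  let σ : Over.mk (𝟙 (Spec (CommRingCat.of R))) ⟶ G := Over.homMk (σ₀ ≫ pullback.fst f.left e.left) (by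
    show _ ≫ G.hom = 𝟙 _
    have he : e.left ≫ G.hom = 𝟙 _ := Over.w e
    rw [Category.assoc, ← Over.w f, ← Category.assoc (pullback.fst _ _), pullback.condition, Category.assoc, he,
      Category.comp_id, h1])
  have hσ : σ ≫ f = e := by
    apply Over.OverMorphism.ext
    show (σ₀ ≫ pullback.fst f.left e.left) ≫ f.left = e.left
    rw [Category.assoc, pullback.condition, ← Category.assoc, h1, Category.id_comp]
  refine ⟨σ, ⟨(hpow σ).symm.trans hσ, ?_⟩, fun σ' hσ' => ?_⟩
  · apply Over.OverMorphism.ext
    show Spec.map _ ≫ σ₀ ≫ pullback.fst f.left e.left = τ.left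
    rw [← Category.assoc, h2]
    exact pullback.lift_fst _ _ _
  · have h3 : σ' ≫ f = e := (hpow σ').trans hσ'.1
    have h4 : σ'.left ≫ f.left = 𝟙 (Spec (CommRingCat.of R)) ≫ e.left :=
      (congrArg CommaMorphism.left h3).trans (Category.id_comp _).symm
    have h5 := huniq (pullback.lift σ'.left (𝟙 _) h4) ⟨pullback.lift_snd _ _ _, by
      apply pullback.hom_ext
      · rw [Category.assoc, pullback.lift_fst]
        exact (congrArg CommaMorphism.left hσ'.2).trans (pullback.lift_fst _ _ _).symm
      · rw [Category.assoc, pullback.lift_snd, Category.comp_id]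
        exact (pullback.lift_snd _ _ _).symm⟩
    apply Over.OverMorphism.ext
    show σ'.left = σ₀ ≫ pullback.fst f.left e.left
    rw [← h5, pullback.lift_fst]

end Groth.Agent.S19658
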