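import Groth.Statements.S19663
import Groth.Agent.Grass60.QuotBC
import Groth.Agent.Grass60.RankPull

set_option autoImplicit false
set_option linter.style.haveILetI false
universe u
open CategoryTheory CategoryTheory.Limits AlgebraicGeometry
open Grass

namespace Groth.Agent.S19663

open Groth.Agent.Grass60

/-- A family on the first `m + 1` steps and one more quotient, glued to a family on `m + 2` steps. -/
theorem exists_snoc {T : Scheme.{u}} {A : T.Modules} {m : ℕ} (Li : Fin (m + 1) → T.Modules)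
    (si : ∀ i, A ⟶ Li i) (L : T.Modules) (sL : A ⟶ L) :
    ∃ (L' : Fin (m + 2) → T.Modules) (s' : ∀ i, A ⟶ L' i),
      (∀ i, ∃ c : L' (Fin.castSucc i) ≅ Li i, s' (Fin.castSucc i) ≫ c.hom = si i) ∧
      ∃ c : L' (Fin.last (m + 1)) ≅ L, s' (Fin.last (m + 1)) ≫ c.hom = sL := by
  let L' : Fin (m + 2) → T.Modules := Fin.lastCases L Li
  have h1 : ∀ i, L' (Fin.castSucc i) = Li i := fun i => by simp [L']
  have h2 : L' (Fin.last (m + 1)) = L := by simp [L']
  let s' : ∀ i, A ⟶ L' i :=
    Fin.lastCases (motive := fun i => A ⟶ L' i) (sL ≫ eqToHom h2.symm) fun i => si i ≫ eqToHom (h1 i).symm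
  exact ⟨L', s', fun i => ⟨eqToIso (h1 i), by simp [s']⟩, eqToIso h2, by simp [s']⟩

/-- Let `X` be a scheme, `E` an `O_X`-module, `m ≥ 0` and `n : Fin (m+2) → ℕ`. Let `(F', π', Q', q')` be
the partial flag scheme of `E` of type `n` (universal nested locally free quotients `q' i : π'^* E ⟶
Q' i` of ranks `n i`, index `0` the largest) and `(F, π, Q, q)` the partial flag scheme of the
truncated type `n ∘ Fin.castSucc` (the first `m+1` steps). Then the morphism `F' ⟶ F` over `X`
classifying the first `m+1` universal quotients of `F'`, together with the last universal quotient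
`Q' (m+1)` and the epimorphism onto it from the pulled-back `Q m` (through the classifying
isomorphism and the factoring map `Q' m ⟶ Q' (m+1)`), is the Grassmannian over `F` of rank-`n (m+1)`
locally free quotients of the last universal quotient `Q m` of `F`. (The source takes the base of
finite type over a field, `E` locally free of finite rank and the ranks positive and strictly
decreasing; the statement is made here for any base scheme, any module and any type.) -/
theorem result (X F F' : Scheme.{u}) (π : F ⟶ X) (π' : F' ⟶ X) (E : X.Modules)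
    (m : ℕ) (n : Fin (m + 2) → ℕ)
    (Q : Fin (m + 1) → F.Modules) (q : ∀ i, (Scheme.Modules.pullback π).obj E ⟶ Q i)
    (hF : Grass.IsFlag π E (fun i => n (Fin.castSucc i)) Q q)
    (Q' : Fin (m + 2) → F'.Modules) (q' : ∀ i, (Scheme.Modules.pullback π').obj E ⟶ Q' i)
    (hF' : Grass.IsFlag π' E n Q' q') :
    Grass.IsGrass
      (hF.lift π' (fun i => Q' (Fin.castSucc i)) (fun i => hF'.rank (Fin.castSucc i)) (fun i => q' (Fin.castSucc i))
        (fun i => hF'.epi (Fin.castSucc i))
        (fun i j hij => hF'.nested (Fin.castSucc i) (Fin.castSucc j) (Fin.castSucc_le_castSucc_iff.mpr hij)))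
      (Q (Fin.last m)) (n (Fin.last (m + 1))) (Q' (Fin.last (m + 1)))
      ((hF.liftIso π' (fun i => Q' (Fin.castSucc i)) (fun i => hF'.rank (Fin.castSucc i)) (fun i => q' (Fin.castSucc i))
          (fun i => hF'.epi (Fin.castSucc i))
          (fun i j hij => hF'.nested (Fin.castSucc i) (Fin.castSucc j) (Fin.castSucc_le_castSucc_iff.mpr hij))
          (Fin.last m)).hom ≫
        (hF'.nested (Fin.castSucc (Fin.last m)) (Fin.last (m + 1)) (Fin.le_last _)).choose) := by
  generalize_proofs h1 h2 h3 h4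
  let b := hF.lift π' (fun i => Q' (Fin.castSucc i)) h1 (fun i => q' (Fin.castSucc i)) h2 h3
  have hb : b ≫ π = π' := hF.lift_comp π' _ h1 _ h2 h3
  let φ := fun i => hF.liftIso π' _ h1 _ h2 h3 i
  have hφ : ∀ i, quotBC hb (q i) ≫ (φ i).hom = q' (Fin.castSucc i) := fun i =>
    hF.quotBC_liftIso π' _ h1 _ h2 h3 i
  let ψ := (φ (Fin.last m)).hom ≫ h4.choose
  have hψ : quotBC hb (q (Fin.last m)) ≫ ψ = q' (Fin.last (m + 1)) := by
    rw [← Category.assoc, hφ]; exact h4.choose_spec
  show IsGrass b (Q (Fin.last m)) (n (Fin.last (m + 1))) (Q' (Fin.last (m + 1))) ψ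
  haveI : ∀ i, Epi (q i) := hF.epi
  refine ⟨hF'.rank _, ?_, fun T g L hL s hs => ?_⟩
  · haveI : Epi (quotBC hb (q (Fin.last m)) ≫ ψ) := by rw [hψ]; exact hF'.epi _
    exact epi_of_epi (quotBC hb (q (Fin.last m))) ψ
  haveI := hs
  let qg := fun i => quotBC (show g ≫ π = g ≫ π from rfl) (q i)
  haveI : ∀ i, Epi (qg i) := fun i => QuotBC.epi_quotBC rfl
  obtain ⟨L', s', hc, c₁, hc₁⟩ := exists_snoc (fun i => (Scheme.Modules.pullback g).obj (Q i)) qg L
    (qg (Fin.last m) ≫ s)
  choose c hc using hc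
  have hs' : ∀ i, Epi (s' i) := fun i => by
    refine Fin.lastCases ?_ (fun i => ?_) i
    · rw [(Iso.eq_comp_inv c₁).2 hc₁]; exact inferInstance
    · rw [(Iso.eq_comp_inv (c i)).2 (hc i)]; exact inferInstance
  have hr : ∀ i, FlatMod.IsFinLocFreeOfRank (n i) (L' i) := fun i => by
    refine Fin.lastCases ?_ (fun i => ?_) i
    · exact fun x => let ⟨U, hx, ⟨a⟩⟩ := hL x; ⟨U, hx, ⟨(Scheme.Modules.restrictFunctor U.ι).mapIso c₁ ≪≫ a⟩⟩
    · exact fun x => let ⟨U, hx, ⟨a⟩⟩ := isFinLocFreeOfRank_pullback g (hF.rank i) x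
        ⟨U, hx, ⟨(Scheme.Modules.restrictFunctor U.ι).mapIso (c i) ≪≫ a⟩⟩
  have hmap : ∀ i j, i ≤ j → ∃ u : Q i ⟶ Q j, q i ≫ u = q j := hF.nested
  have hn : ∀ i j, i ≤ j → ∃ u : L' i ⟶ L' j, s' i ≫ u = s' j := by
    intro i j hij
    induction i using Fin.lastCases with
    | last =>
      obtain rfl : j = Fin.last (m + 1) := le_antisymm (Fin.le_last _) hij
      exact ⟨𝟙 _, Category.comp_id _⟩
    | cast i =>
      induction j using Fin.lastCases with
      | last =>
        obtain ⟨u, hu⟩ := hmap i (Fin.last m) (Fin.le_last _)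
        refine ⟨(c i).hom ≫ (Scheme.Modules.pullback g).map u ≫ s ≫ c₁.inv, ?_⟩
        rw [reassoc_of% (hc i), ← Category.assoc (qg i), ← QuotBC.quotBC_map, hu, ← Category.assoc,
          (Iso.eq_comp_inv c₁).2 hc₁]
      | cast j =>
        obtain ⟨u, hu⟩ := hmap i j (Fin.castSucc_le_castSucc_iff.1 hij)
        refine ⟨(c i).hom ≫ (Scheme.Modules.pullback g).map u ≫ (c j).inv, ?_⟩
        rw [reassoc_of% (hc i), ← Category.assoc (qg i), ← QuotBC.quotBC_map, hu, (Iso.eq_comp_inv (c j)).2 (hc j)]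
  obtain ⟨h, ⟨hhπ, e, he⟩, huniq⟩ := hF'.univ T (g ≫ π) L' hr s' hs' hn
  have hab : (h ≫ b) ≫ π = g ≫ π := by rw [Category.assoc, hb, hhπ]
  have hhb : h ≫ b = g :=
    (hF.univ T (g ≫ π) (fun i => (Scheme.Modules.pullback g).obj (Q i))
      (fun i => isFinLocFreeOfRank_pullback g (hF.rank i)) qg (fun i => inferInstance)
      (fun i j hij => by
        obtain ⟨u, hu⟩ := hmap i j hij
        exact ⟨(Scheme.Modules.pullback g).map u, by rw [← QuotBC.quotBC_map, hu]⟩)).unique
      ⟨hab, fun i => ((Scheme.Modules.pullbackComp h b).app (Q i)).symm ≪≫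
        (Scheme.Modules.pullback h).mapIso (φ i) ≪≫ e (Fin.castSucc i) ≪≫ c i, fun i => by
        simp only [Iso.trans_hom, Iso.symm_hom, Iso.app_inv, Functor.mapIso_hom]
        rw [← Category.assoc (quotBC hab (q i)), QuotBC.quotBC_comp (q := q i) hb hhπ hab,
          ← Category.assoc (quotBC hhπ _), ← QuotBC.quotBC_map, hφ, ← Category.assoc (quotBC hhπ _), he, hc]⟩
      ⟨rfl, fun i => Iso.refl _, fun i => Category.comp_id _⟩
  refine ⟨h, ⟨hhb, e (Fin.last (m + 1)) ≪≫ c₁, ?_⟩, fun h' hh' => ?_⟩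
  · rw [← cancel_epi (qg (Fin.last m)), Iso.trans_hom, ← Category.assoc,
      QuotBC.quotBC_quotBC hb hhb hhπ ψ, hψ, ← Category.assoc (quotBC hhπ _), he, hc₁]
  obtain ⟨hg', e', he'⟩ := hh'
  have hπ' : h' ≫ π' = g ≫ π := by rw [← hb, ← Category.assoc, hg']
  refine huniq h' ⟨hπ', fun i => Fin.lastCases (motive := fun i => (Scheme.Modules.pullback h').obj (Q' i) ≅ L' i)
    (e' ≪≫ c₁.symm) (fun i => (Scheme.Modules.pullback h').mapIso (φ i).symm ≪≫
      (Scheme.Modules.pullbackComp h' b).app (Q i) ≪≫ (Scheme.Modules.pullbackCongr hg').app (Q i) ≪≫ (c i).symm) i,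
    fun i => ?_⟩
  refine Fin.lastCases ?_ (fun i => ?_) i
  · simp only [Fin.lastCases_last, Iso.trans_hom, Iso.symm_hom]
    rw [← Category.assoc, Iso.comp_inv_eq, hc₁, ← he', ← Category.assoc (qg _),
      QuotBC.quotBC_quotBC hb hg' hπ' ψ, hψ]
  · simp only [Fin.lastCases_castSucc, Iso.trans_hom, Iso.symm_hom, Functor.mapIso_hom, Iso.app_hom]
    rw [← hφ i, QuotBC.quotBC_map, Category.assoc, ← Functor.map_comp_assoc, Iso.hom_inv_id, CategoryTheory.Functor.map_id,
      Category.id_comp, ← Category.assoc, ← Category.assoc, Iso.comp_inv_eq, hc, Category.assoc]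
    exact QuotBC.quotBC_comp_congr hb hg' hπ'

end Groth.Agent.S19663
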