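import Groth.Statements.S19681
-- import your own Groth.Agent.* helpers here

set_option autoImplicit false
universe u
open CategoryTheory MonoidalCategory CartesianMonoidalCategory MonObj AlgebraicGeometry
open ChGrp

namespace Groth.Agent.S19681

/-- Let k be an algebraically closed field of characteristic zero, G and H affine group schemes of
finite type over k with i : H → G a homomorphism which is a closed immersion, and Z a reduced affine
k-scheme of finite type with an action of H. Let Y, with its G-action and j : G × Z → Y, be the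
balanced product G ×^H Z for the fppf topology (j is G-equivariant for left translation on the first
factor, a torsor for the twisted H-action h·(g, z) = (g i(h)⁻¹, h·z), with sections fppf-locally on
Y). Let c : Y' → Y be a closed immersion from a reduced scheme Y' with a G-action making c
equivariant (a closed G-invariant subvariety of Y). Then Y' is again a balanced product: there are a
closed immersion c' : Z' → Z, an H-action on Z' for which c' is equivariant (a closed H-invariant
subscheme of Z), and a morphism j' : G × Z' → Y' with j' followed by c equal to G × c' followed by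
j, such that j' makes Y' the balanced product G ×^H Z' for the fppf topology. (The source assumes G
and H reductive and defines G ×^H Z as the quotient (G × Z)//H, a principal H-bundle; here the
balanced product is taken in its torsor form and reductivity is not needed.) -/
theorem result
    (k : Type u) [Field k] [IsAlgClosed k] [CharZero k]
    (G H Z Y Y' : Over (Spec (CommRingCat.of k))) [GrpObj G] [GrpObj H]
    [IsAffine G.left] [LocallyOfFiniteType G.hom] [IsAffine H.left] [LocallyOfFiniteType H.hom]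
    (i : H ⟶ G) [IsMonHom i] [IsClosedImmersion i.left]
    [IsAffine Z.left] [LocallyOfFiniteType Z.hom] [IsReduced Z.left]
    (aZ : AlgGrp.Action H Z) (aY : AlgGrp.Action G Y) (j : G ⊗ Z ⟶ Y)
    (hY : ChGrp.IsBalProd Scheme.fppfPrecoverage i aZ aY j)
    (c : Y' ⟶ Y) [IsClosedImmersion c.left] [IsReduced Y'.left]
    (aY' : AlgGrp.Action G Y') (hc : AlgGrp.Action.IsEquivariant aY' aY c) :
    ∃ (Z' : Over (Spec (CommRingCat.of k))) (c' : Z' ⟶ Z) (aZ' : AlgGrp.Action H Z') (j' : G ⊗ Z' ⟶ Y'),
      IsClosedImmersion c'.left ∧ AlgGrp.Action.IsEquivariant aZ' aZ c' ∧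
      j' ≫ c = (G ◁ c') ≫ j ∧ ChGrp.IsBalProd Scheme.fppfPrecoverage i aZ' aY' j' := by
  obtain ⟨heq, hpb, hloc⟩ := hY
  haveI : Mono c := Over.mono_of_mono_left c
  let e : Z ⟶ Y := lift (toUnit Z ≫ η[G]) (𝟙 Z) ≫ j
  let Z' := Limits.pullback e c
  let c' : Z' ⟶ Z := Limits.pullback.fst e c
  haveI hc' : IsClosedImmersion c'.left :=
    MorphismProperty.of_isPullback (P := @IsClosedImmersion)
      ((IsPullback.of_hasPullback e c).map (Over.forget _)).flip ‹IsClosedImmersion c.left›
  haveI : Mono c' := Over.mono_of_mono_left c'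
  have hequiv : ∀ (T : Over (Spec (CommRingCat.of k))) (g g' : T ⟶ G) (z : T ⟶ Z),
      lift (g * g') z ≫ j = lift g (lift g' z ≫ j) ≫ aY.act := by
    intro T g g' z
    have h := congrArg (lift g (lift g' z) ≫ ·) heq
    simp only [← Category.assoc, lift_whiskerLeft] at h
    rw [AlgGrp.Action.lift_prod_act, AlgGrp.Action.lift_trivial_act] at h
    rw [← h]
    congr 2
  have he : ∀ (T : Over (Spec (CommRingCat.of k))) (z : T ⟶ Z), z ≫ e = lift (1 : T ⟶ G) z ≫ j := by
    intro T z
    simp only [e, comp_lift_assoc, Category.comp_id]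
    rw [← Category.assoc, toUnit_unique (z ≫ toUnit Z) (toUnit T), ← Hom.one_def]
  have hje : ∀ (T : Over (Spec (CommRingCat.of k))) (g : T ⟶ G) (z : T ⟶ Z),
      lift g z ≫ j = lift g (z ≫ e) ≫ aY.act := by
    intro T g z
    rw [he, ← hequiv, _root_.mul_one]
  have hcact : ∀ (T : Over (Spec (CommRingCat.of k))) (g : T ⟶ G) (y : T ⟶ Y'),
      (lift g y ≫ aY'.act) ≫ c = lift g (y ≫ c) ≫ aY.act := by
    intro T g y
    rw [Category.assoc, hc, lift_whiskerLeft_assoc]
  have htwist : ∀ (T : Over (Spec (CommRingCat.of k))) (h : T ⟶ H) (g : T ⟶ G) (z : T ⟶ Z),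
      lift (g * (h ≫ i)⁻¹) (lift h z ≫ aZ.act) ≫ j = lift g z ≫ j := by
    intro T h g z
    have h' := congrArg (lift h (lift g z) ≫ ·) hpb.w
    simp only [← Category.assoc, lift_snd] at h'
    rwa [ChGrp.lift_twist_act] at h'
  let j' : G ⊗ Z' ⟶ Y' := lift (fst G Z') (snd G Z' ≫ Limits.pullback.snd e c) ≫ aY'.act
  have hjc : j' ≫ c = (G ◁ c') ≫ j := by
    rw [show j' ≫ c = _ from hcact _ _ _, Category.assoc, ← Limits.pullback.condition, ← Category.assoc (snd G Z'),
      ← hje]
    congr 1
  -- the square over `c`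
  have hsq : ∀ (T : Over (Spec (CommRingCat.of k))) (g : T ⟶ G) (z : T ⟶ Z) (y : T ⟶ Y'),
      lift g z ≫ j = y ≫ c → ∃ z' : T ⟶ Z', z' ≫ c' = z ∧ lift g z' ≫ j' = y := by
    intro T g z y h
    have h1 : z ≫ e = (lift g⁻¹ y ≫ aY'.act) ≫ c := by
      rw [hcact, ← h, ← hequiv, inv_mul_cancel, he]
    refine ⟨Limits.pullback.lift z _ h1, Limits.pullback.lift_fst _ _ h1, ?_⟩
    rw [← cancel_mono c, Category.assoc, hjc, lift_whiskerLeft_assoc, Limits.pullback.lift_fst, h]
  have hw : ((H ◁ c') ≫ aZ.act) ≫ e =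
      (lift (fst H Z' ≫ i) (snd H Z' ≫ Limits.pullback.snd e c) ≫ aY'.act) ≫ c := by
    rw [hcact, Category.assoc (snd H Z'), ← Limits.pullback.condition, ← Category.assoc (snd H Z'), ← hje,
      show (H ◁ c') = lift (fst H Z') (snd H Z' ≫ c') from
        CartesianMonoidalCategory.hom_ext _ _ (by simp) (by simp), he, ← htwist _ (fst H Z') (fst H Z' ≫ i)
        (snd H Z' ≫ c'), mul_inv_cancel]
  let act : H ⊗ Z' ⟶ Z' := Limits.pullback.lift _ _ hw
  have hact : act ≫ c' = (H ◁ c') ≫ aZ.act := Limits.pullback.lift_fst _ _ hw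
  let aZ' : AlgGrp.Action H Z' :=
    { act := act
      one_act := by
        rw [← cancel_mono c', Category.assoc, hact, ← whisker_exchange_assoc, aZ.one_act, leftUnitor_naturality]
      mul_act := by
        rw [← cancel_mono c', Category.assoc, hact, ← whisker_exchange_assoc, aZ.mul_act,
          Category.assoc, Category.assoc, hact, associator_naturality_right_assoc,
          ← MonoidalCategory.whiskerLeft_comp_assoc, ← hact, MonoidalCategory.whiskerLeft_comp_assoc, hact] }
  have hz' : ∀ (T : Over (Spec (CommRingCat.of k))) (h : T ⟶ H) (z : T ⟶ Z'),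
      (lift h z ≫ aZ'.act) ≫ c' = lift h (z ≫ c') ≫ aZ.act := by
    intro T h z
    rw [Category.assoc, show aZ'.act ≫ c' = _ from hact, lift_whiskerLeft_assoc]
  have hjp : ∀ (T : Over (Spec (CommRingCat.of k))) (g : T ⟶ G) (z : T ⟶ Z'),
      (lift g z ≫ j') ≫ c = lift g (z ≫ c') ≫ j := by
    intro T g z
    rw [Category.assoc, hjc, lift_whiskerLeft_assoc]
  refine ⟨Z', c', aZ', j', hc', hact, hjc, ?_, ?_, ?_⟩
  · apply AlgGrp.Action.hom_ext_lift₂
    intro T g p
    obtain ⟨g', z, rfl⟩ : ∃ g' z, p = lift g' z :=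
      ⟨p ≫ fst G Z', p ≫ snd G Z', by rw [← comp_lift, lift_fst_snd, Category.comp_id]⟩
    rw [← Category.assoc, AlgGrp.Action.lift_prod_act, AlgGrp.Action.lift_trivial_act, lift_whiskerLeft_assoc,
      ← cancel_mono c, hjp, hcact, hjp, show lift g g' ≫ (NonAbH1.trivialAction G).act = g * g' from
        (Hom.mul_def g g').symm, hequiv]
  · have hw' : (twist i aZ').act ≫ j' = snd H (G ⊗ Z') ≫ j' := by
      apply AlgGrp.Action.hom_ext_lift₂
      intro T h p
      obtain ⟨g, z, rfl⟩ : ∃ g z, p = lift g z :=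
        ⟨p ≫ fst G Z', p ≫ snd G Z', by rw [← comp_lift, lift_fst_snd, Category.comp_id]⟩
      rw [← Category.assoc, ChGrp.lift_twist_act, lift_snd_assoc, ← cancel_mono c, hjp, hz', htwist, hjp]
    have key : ∀ (T : Over (Spec (CommRingCat.of k))) (p₁ p₂ : T ⟶ G ⊗ Z'), p₁ ≫ j' = p₂ ≫ j' →
        ∃ h : T ⟶ H, lift h p₂ ≫ (twist i aZ').act = p₁ ∧
          ∀ h' : T ⟶ H, lift h' p₂ ≫ (twist i aZ').act = p₁ → h' = h := by
      intro T p₁ p₂ hp
      obtain ⟨g₁, z₁, rfl⟩ : ∃ g z, p₁ = lift g z :=
        ⟨p₁ ≫ fst G Z', p₁ ≫ snd G Z', by rw [← comp_lift, lift_fst_snd, Category.comp_id]⟩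
      obtain ⟨g₂, z₂, rfl⟩ : ∃ g z, p₂ = lift g z :=
        ⟨p₂ ≫ fst G Z', p₂ ≫ snd G Z', by rw [← comp_lift, lift_fst_snd, Category.comp_id]⟩
      have h0 : lift g₁ (z₁ ≫ c') ≫ j = lift g₂ (z₂ ≫ c') ≫ j := by rw [← hjp, hp, hjp]
      let w := hpb.lift _ _ h0
      have h1 : w ≫ (twist i aZ).act = lift g₁ (z₁ ≫ c') := hpb.lift_fst _ _ h0
      have h2 : w ≫ snd H (G ⊗ Z) = lift g₂ (z₂ ≫ c') := hpb.lift_snd _ _ h0
      have hw2 : w = lift (w ≫ fst H (G ⊗ Z)) (lift g₂ (z₂ ≫ c')) := by
        rw [← h2, ← comp_lift, lift_fst_snd, Category.comp_id]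
      rw [hw2, ChGrp.lift_twist_act] at h1
      have hg := congrArg (· ≫ fst G Z) h1
      have hz := congrArg (· ≫ snd G Z) h1
      simp only [lift_fst] at hg
      simp only [lift_snd] at hz
      refine ⟨w ≫ fst H (G ⊗ Z), ?_, fun h' hh => ?_⟩
      · rw [ChGrp.lift_twist_act, hg, show lift (w ≫ fst H (G ⊗ Z)) z₂ ≫ aZ'.act = z₁ from by
          rw [← cancel_mono c', hz', hz]]
      · rw [ChGrp.lift_twist_act] at hh
        have hh1 := congrArg (· ≫ fst G Z') hh
        have hh2 := congrArg (fun m => (m ≫ snd G Z') ≫ c') hh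
        simp only [lift_fst] at hh1
        simp only [lift_snd, hz'] at hh2
        have h5 : lift h' (lift g₂ (z₂ ≫ c')) = w := hpb.hom_ext
          (by rw [ChGrp.lift_twist_act, hh1, hh2]; exact (hpb.lift_fst _ _ h0).symm)
          (by rw [lift_snd, h2])
        rw [← h5, lift_fst]
    choose hc₀ hhc huniq using key
    exact ⟨⟨hw'⟩, ⟨Limits.PullbackCone.IsLimit.mk hw'
      (fun s => lift (hc₀ _ s.fst s.snd s.condition) s.snd)
      (fun s => hhc _ s.fst s.snd s.condition) (fun s => lift_snd _ _)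
      (fun s m hm1 hm2 => by
        have hm : m = lift (m ≫ fst H (G ⊗ Z')) s.snd := by
          rw [← hm2, ← comp_lift, lift_fst_snd, Category.comp_id]
        rw [hm, huniq _ s.fst s.snd s.condition (m ≫ fst H (G ⊗ Z')) (by rw [← hm, hm1])])⟩⟩
  · obtain ⟨R, hR, hsec⟩ := hloc
    refine ⟨R.pullbackArrows c.left, Precoverage.pullbackArrows_mem c.left hR, ?_⟩
    rintro V v ⟨V₀, u, hu⟩
    obtain ⟨s, hs⟩ := hsec u hu
    let T : Over (Spec (CommRingCat.of k)) := Over.mk (Limits.pullback.snd u c.left ≫ Y'.hom)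
    let y : T ⟶ Y' := Over.homMk (Limits.pullback.snd u c.left) rfl
    have hs' : s ≫ j.left = u := hs
    let p : T ⟶ G ⊗ Z := Over.homMk (Limits.pullback.fst u c.left ≫ s) (by
      show (Limits.pullback.fst u c.left ≫ s) ≫ (G ⊗ Z).hom = Limits.pullback.snd u c.left ≫ Y'.hom
      rw [Category.assoc, ← Over.w j, ← Category.assoc s, hs', ← Category.assoc, Limits.pullback.condition,
        Category.assoc, Over.w c])
    have hp : lift (p ≫ fst G Z) (p ≫ snd G Z) ≫ j = y ≫ c := by
      rw [← comp_lift, lift_fst_snd, Category.comp_id]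
      refine Over.OverMorphism.ext ?_
      show (Limits.pullback.fst u c.left ≫ s) ≫ j.left = Limits.pullback.snd u c.left ≫ c.left
      rw [Category.assoc, hs', Limits.pullback.condition]
    obtain ⟨z', -, hz''⟩ := hsq T _ _ y hp
    exact ⟨(lift (p ≫ fst G Z) z').left, congrArg CommaMorphism.left hz''⟩

end Groth.Agent.S19681
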