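import Groth.Statements.S19715
import Groth.Agent.FlatFun4.StalkDesc


set_option autoImplicit false
universe u
open TwSh

namespace Groth.Agent.S19715

set_option backward.isDefEq.respectTransparency false
set_option backward.isDefEq.respectTransparency.types false

section
set_option linter.style.haveILetI false
open CategoryTheory CategoryTheory.Limits AlgebraicGeometry Opposite

variable {S : Scheme.{u}} {𝒳 : AlgSt.Cat S}

/-- The comparison map of a module intertwines inertial actions. -/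
theorem inert_comp_map (F : StMod.Mod 𝒳) {ξ' ξ : 𝒳.obj} (φ : ξ' ⟶ ξ) (α' : Gerb.AutO ξ') (α : Gerb.AutO ξ)
    (h : α'.hom.1 ≫ φ = φ ≫ α.hom.1) :
    TwSh.inert F ξ α ≫ F.map φ rfl =
      F.map φ rfl ≫ (Scheme.Modules.pushforward (StMod.bmap 𝒳 φ)).map (TwSh.inert F ξ' α') := by
  apply Scheme.Modules.hom_ext
  intro U
  ext s
  simp only [Scheme.Modules.Hom.comp_app, Scheme.Modules.pushforward_map_app]
  show (F.map φ rfl).app U ((TwSh.inert F ξ α).app U s) =
    (TwSh.inert F ξ' α').app (StMod.bmap 𝒳 φ ⁻¹ᵁ U) ((F.map φ rfl).app U s)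
  rw [TwSh.inert_app_apply, TwSh.inert_app_apply]
  have e1 := congrArg (fun f => (ConcreteCategory.hom f) s)
    (StMod.Mod.map_comp_app F φ α.hom.1 rfl (TwSh.bmap_autO ξ α) U)
  have e2 := congrArg (fun f => (ConcreteCategory.hom f) s)
    (StMod.Mod.map_comp_app F α'.hom.1 φ (TwSh.bmap_autO ξ' α') rfl U)
  simp only at e1 e2
  refine e1.symm.trans (Eq.trans ?_ e2)
  have key : ∀ {g g' : StMod.sch 𝒳 ξ' ⟶ StMod.sch 𝒳 ξ} {ψ ψ' : ξ' ⟶ ξ}, ψ = ψ' →
      ∀ (hg : StMod.bmap 𝒳 ψ = g) (hg' : StMod.bmap 𝒳 ψ' = g'),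
      HEq ((F.map ψ hg).app U s) ((F.map ψ' hg').app U s) := by
    rintro g g' ψ ψ' rfl hg hg'
    exact TwSh.map_app_heq F ψ hg hg' U s
  exact eq_of_heq (key h.symm _ _)

/-- The comparison map of a module intertwines multiplication by functions. -/
theorem scalar_comp_map (F : StMod.Mod 𝒳) {ξ' ξ : 𝒳.obj} (φ : ξ' ⟶ ξ) (r : Γ(StMod.sch 𝒳 ξ, ⊤))
    (r' : Γ(StMod.sch 𝒳 ξ', ⊤)) (h : (StMod.bmap 𝒳 φ).appTop r = r') :
    TwSh.scalarEnd (F.obj ξ) r ≫ F.map φ rfl =
      F.map φ rfl ≫ (Scheme.Modules.pushforward (StMod.bmap 𝒳 φ)).map (TwSh.scalarEnd (F.obj ξ') r') := by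
  apply Scheme.Modules.hom_ext
  intro U
  ext s
  simp only [Scheme.Modules.Hom.comp_app, Scheme.Modules.pushforward_map_app]
  show (F.map φ rfl).app U (TwSh.resTop _ U r • s) =
    TwSh.resTop _ (StMod.bmap 𝒳 φ ⁻¹ᵁ U) r' • (show Γ(F.obj ξ', StMod.bmap 𝒳 φ ⁻¹ᵁ U) from (F.map φ rfl).app U s)
  refine (Scheme.Modules.Hom.app_smul _ _ _).trans ?_
  have e := congr($((StMod.bmap 𝒳 φ).naturality (homOfLE (le_top : U ≤ ⊤)).op) r)
  rw [← h]
  exact congrArg (fun c => c • (show Γ(F.obj ξ', StMod.bmap 𝒳 φ ⁻¹ᵁ U) from (F.map φ rfl).app U s)) e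

/-- Endomorphisms of a cartesian module which agree after a flat covering are equal. -/
theorem eq_of_family (F : StMod.Mod 𝒳) (hF : F.IsCartesian) (ξ : 𝒳.obj) (e₁ e₂ : F.obj ξ ⟶ F.obj ξ) {I : Type u}
    (z : I → 𝒳.obj) (φ : ∀ i, z i ⟶ ξ) (hfl : ∀ i, Flat (StMod.bmap 𝒳 (φ i)))
    (hcov : ∀ x, ∃ i y, StMod.bmap 𝒳 (φ i) y = x)
    (H : ∀ i, e₁ ≫ F.map (φ i) rfl = e₂ ≫ F.map (φ i) rfl) : e₁ = e₂ := by
  haveI := hfl
  refine sub_eq_zero.mp (Groth.Agent.FlatFun4.eq_zero_of_family (e₁ - e₂) (fun i => StMod.bmap 𝒳 (φ i)) hcov fun i => ?_)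
  haveI := hF (φ i) (g := StMod.bmap 𝒳 (φ i)) rfl
  refine (cancel_mono (((Scheme.Modules.pullbackPushforwardAdjunction (StMod.bmap 𝒳 (φ i))).homEquiv
    (F.obj ξ) (F.obj (z i))).symm (F.map (φ i) rfl))).1 ?_
  rw [← Adjunction.homEquiv_naturality_left_symm, Preadditive.sub_comp, H i, sub_self, zero_comp]
  simp [Adjunction.homEquiv_counit]

/-- Lifts of the pullbacks of a family of the base. -/
theorem exists_lift_family {X : Over S} (h𝒳 : FibCat.IsFibGrpd 𝒳.p) (π : 𝒳 ⥤ᵇ AlgSt.ofSch X) {I : Type u}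
    (η : I → (AlgSt.ofSch X).obj) (hfl : ∀ i, Flat (η i).sec.down.left)
    (hcov : ∀ x : X.left, ∃ i, x ∈ Set.range (η i).sec.down.left.base) (ξ : 𝒳.obj) :
    ∃ (z : I → 𝒳.obj) (φ : ∀ i, z i ⟶ ξ) (_ : ∀ i, π.obj (z i) ⟶ η i),
      (∀ i, Flat (StMod.bmap 𝒳 (φ i))) ∧ ∀ x, ∃ i y, StMod.bmap 𝒳 (φ i) y = x := by
  let t : 𝒳.p.obj ξ ⟶ X := eqToHom (π.w_obj ξ).symm ≫ (π.obj ξ).sec.down
  let W : I → Over S := fun i => Over.mk (pullback.fst t.left (η i).sec.down.left ≫ (𝒳.p.obj ξ).hom)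
  let g : ∀ i, W i ⟶ 𝒳.p.obj ξ := fun i => Over.homMk (pullback.fst t.left (η i).sec.down.left) rfl
  let q : ∀ i, W i ⟶ (η i).base := fun i => Over.homMk (pullback.snd t.left (η i).sec.down.left) (by
    show pullback.snd t.left (η i).sec.down.left ≫ (η i).base.hom = pullback.fst _ _ ≫ _
    rw [← Over.w (η i).sec.down, ← Category.assoc, ← pullback.condition, Category.assoc, Over.w t])
  have hgq : ∀ i, g i ≫ t = q i ≫ (η i).sec.down := fun i => Over.OverMorphism.ext pullback.condition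
  choose z φ hφ using fun i => h𝒳.exists_lift (g i)
  have hb : ∀ i, 𝒳.p.map (φ i) = eqToHom (IsHomLift.domain_eq 𝒳.p (g i) (φ i)) ≫ g i := fun i => by
    haveI := hφ i
    rw [IsHomLift.fac' 𝒳.p (g i) (φ i)]
    simp
  refine ⟨z, φ, fun i => ⟨eqToHom ((π.w_obj (z i)).trans (IsHomLift.domain_eq 𝒳.p (g i) (φ i))) ≫ q i, ?_⟩,
    fun i => ?_, fun x => ?_⟩
  · apply ULift.ext
    show (eqToHom _ ≫ q i) ≫ (η i).sec.down = (π.obj (z i)).sec.down
    have h1 := congrArg ULift.down (π.map (φ i)).map_sec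
    change (π.map (φ i)).hom ≫ (π.obj ξ).sec.down = (π.obj (z i)).sec.down at h1
    haveI := π.preserves_isHomLift (𝒳.p.map (φ i)) (φ i)
    have h2 : (π.map (φ i)).hom =
        eqToHom (π.w_obj (z i)) ≫ 𝒳.p.map (φ i) ≫ eqToHom (π.w_obj ξ).symm :=
      IsHomLift.fac' (AlgSt.ofSch X).p (𝒳.p.map (φ i)) (π.map (φ i))
    rw [← h1, h2, hb i, Category.assoc, ← hgq i]
    simp [t, Category.assoc]
  · haveI := hfl i
    haveI : Flat (g i).left := inferInstanceAs (Flat (pullback.fst t.left (η i).sec.down.left))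
    show Flat (𝒳.p.map (φ i)).left
    rw [hb i, Over.comp_left]
    infer_instance
  · obtain ⟨i, y, hy⟩ := hcov (t.left x)
    obtain ⟨w, hw, -⟩ := Scheme.Pullback.exists_preimage_pullback x y (f := t.left) (g := (η i).sec.down.left) hy.symm
    refine ⟨i, (eqToHom (IsHomLift.domain_eq 𝒳.p (g i) (φ i)).symm).left w, ?_⟩
    show (𝒳.p.map (φ i)).left _ = x
    rw [hb i, Over.comp_left, ← Scheme.Hom.comp_apply, ← Category.assoc, ← Over.comp_left, eqToHom_trans,
      eqToHom_refl, Over.id_left, Category.id_comp]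
    exact hw

end

open CategoryTheory AlgebraicGeometry in
/-- Being twisted is local on the base. Let 𝒳 → X be an fppf A-gerbe over a scheme X, χ a character of
A, d an integer and F a quasi-coherent module on 𝒳. If {T_i → X} is a family of flat morphisms
locally of finite presentation whose images cover X, and for every i the restriction of F to the
gerbe restricted over T_i is d-fold χ-twisted for the restricted action, then F is d-fold χ-twisted.
(The published statement is an equivalence, for arbitrary modules on an A-gerbe over a locally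
ringed site and a covering of it; the converse implication holds by construction and is not
asserted, and this row is the quasi-coherent form over the big fppf site of a scheme.) -/
theorem result (S : Scheme.{u}) (X : Over S) (𝒳 : AlgSt.Cat S) (h𝒳 : AlgSt.IsAlgStack Scheme.fppfPrecoverage 𝒳) (A : (Over S)ᵒᵖ ⥤ GrpCat.{u}) (χ : A ⟶ TwSh.GmPsh S) (d : ℤ) (π : 𝒳 ⥤ᵇ AlgSt.ofSch X) (ι : TwSh.BandHom 𝒳 A) (hπ : TwSh.IsBandedGerbe (QuotSh.J Scheme.fppfPrecoverage S) π ι) (I : Type u) (η : I → (AlgSt.ofSch X).obj) (hfl : ∀ i, Flat (η i).sec.down.left) (hfp : ∀ i, LocallyOfFinitePresentation (η i).sec.down.left) (hcov : ∀ x : X.left, ∃ i, x ∈ Set.range (η i).sec.down.left.base) (F : StMod.QCoh 𝒳) (h : ∀ i, TwSh.IsTwisted (StMod.Mod.comap (StMod.fibFst π (η i)) F.obj) (TwSh.BandHom.fib π (η i) ι (TwSh.IsBandedGerbe.map_hom_eq_id π hπ)) χ d) : TwSh.IsTwisted F.obj ι χ d := by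
  rw [TwSh.isTwisted_iff_inert_eq]
  intro ξ a
  obtain ⟨z, φ, u, hfl', hcov'⟩ := exists_lift_family h𝒳.isStack.1 π η hfl hcov ξ
  refine eq_of_family F.obj F.property.1 ξ _ _ z φ hfl' hcov' fun i => ?_
  have h' := (TwSh.isTwisted_iff_inert_eq _ _ _ _).mp (h i) (CostructuredArrow.mk (u i)) (A.map (𝒳.p.map (φ i)).op a)
  have h'' : TwSh.inert F.obj (z i) (ι.hom (z i) (A.map (𝒳.p.map (φ i)).op a)) =
      TwSh.scalarEnd (F.obj.obj (z i)) ((TwSh.charUnit χ (z i) (A.map (𝒳.p.map (φ i)).op a) ^ d)⁻¹).val := by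
    exact (TwSh.inert_comap_fibFst π (η i) F.obj (CostructuredArrow.mk (u i))
      (ι.hom (z i) (A.map (𝒳.p.map (φ i)).op a)) (TwSh.IsBandedGerbe.map_hom_eq_id π hπ _ _)).symm.trans h'
  rw [inert_comp_map F.obj (φ i) _ _ (ι.natural (φ i) a), h'']
  refine (scalar_comp_map F.obj (φ i) _ _ ?_).symm
  have hn : TwSh.charUnit χ (z i) (A.map (𝒳.p.map (φ i)).op a) =
      Units.map (StMod.bmap 𝒳 (φ i)).appTop.hom.toMonoidHom (TwSh.charUnit χ ξ a) :=
    congrArg (fun m => (ConcreteCategory.hom m) a) (χ.naturality (𝒳.p.map (φ i)).op)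
  rw [hn, ← map_zpow, ← map_inv]
  rfl

end Groth.Agent.S19715
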