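import Groth.Statements.S19717
import Groth.Agent.TwSh10.Descend
import Groth.Agent.LimitsH94.LimLocFree
-- import your own Groth.Agent.* helpers here

set_option autoImplicit false
universe u
open TwSh

namespace Groth.Agent.S19717

open CategoryTheory CategoryTheory.Limits AlgebraicGeometry in
theorem castMod_iff (P : ∀ {Y : Scheme.{u}}, Y.Modules → Prop) {X T : Scheme.{u}} (h : X = T) (M : X.Modules) :
    P (StMod.castMod h M) ↔ P M := by
  subst h; rfl

open CategoryTheory CategoryTheory.Limits AlgebraicGeometry in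
theorem prop_eqToHom_comp (P : MorphismProperty Scheme.{u}) {X Y Z : Scheme.{u}} (e : X = Y) (g : Y ⟶ Z) (hg : P g) :
    P (eqToHom e ≫ g) := by
  subst e; simpa using hg

open CategoryTheory CategoryTheory.Limits AlgebraicGeometry in
theorem descend (S : Scheme.{u}) (𝒳 𝒴 : AlgSt.Cat S) (π : 𝒳 ⥤ᵇ 𝒴)
    (hπ : Gerb.LocSurjObj (QuotSh.J Scheme.fppfPrecoverage S) π) (G : StMod.QCoh 𝒴)
    (P : ∀ {Y : Scheme.{u}}, Y.Modules → Prop)
    (hiso : ∀ {Y : Scheme.{u}} {A B : Y.Modules}, (A ≅ B) → P A → P B)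
    (hloc : ∀ {Y : Scheme.{u}} {M : Y.Modules}, Coh.IsQCoh M → TwSh10.FppfLocally P M → P M)
    (h : ∀ ξ : 𝒳.obj, P (((StMod.comapQ π).obj G).obj.obj ξ)) (η : 𝒴.obj) : P (G.obj.obj η) := by
  refine hloc (G.property.2 η) fun x => ?_
  obtain ⟨R, hR, hlift⟩ := hπ η
  obtain ⟨V, f, hf, hfl, hfp, hx⟩ := TwSh10.exists_member hR x
  obtain ⟨ξ, m, hm⟩ := hlift f hf
  have hV : 𝒴.p.obj (π.obj ξ) = V := IsHomLift.domain_eq 𝒴.p f m
  have hb : StMod.bmap 𝒴 m = eqToHom (congrArg (fun A : Over S => A.left) hV) ≫ f.left := by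
    show (𝒴.p.map m).left = _
    rw [show 𝒴.p.map m = eqToHom hV ≫ f ≫ eqToHom rfl from IsHomLift.fac' 𝒴.p f m]
    simp
  refine ⟨_, StMod.bmap 𝒴 m, ?_, ?_, ?_, ?_⟩
  · rw [hb]; exact prop_eqToHom_comp (@Flat : MorphismProperty Scheme.{u}) _ _ hfl
  · rw [hb]; exact prop_eqToHom_comp (@LocallyOfFinitePresentation : MorphismProperty Scheme.{u}) _ _ hfp
  · obtain ⟨y, hy⟩ := hx
    obtain ⟨z, hz⟩ := (eqToHom (congrArg (fun A : Over S => A.left) hV)).surjective y
    exact ⟨z, by rw [hb]; exact (Scheme.Hom.comp_apply _ _ _).trans ((congrArg f.left hz).trans hy)⟩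
  · have := G.property.1 m (g := StMod.bmap 𝒴 m) rfl
    exact hiso (asIso (((Scheme.Modules.pullbackPushforwardAdjunction (StMod.bmap 𝒴 m)).homEquiv (G.obj.obj η)
      (G.obj.obj (π.obj ξ))).symm (G.obj.map m rfl))).symm ((castMod_iff P _ _).1 (h ξ))

open CategoryTheory AlgebraicGeometry in
/-- Second assertion: let π : 𝒳 → 𝒴 be an fppf A-gerbe of algebraic stacks, for a presheaf of groups A
on schemes over S acting through the inertia of 𝒳, and let G be a quasi-coherent module on 𝒴. Then G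
is of finite type if and only if its inverse image along π is; likewise for finite presentation, and
for being locally free of finite type. (The published statement is for all modules on a gerbe over a
locally ringed site and for any property preserved by pullback along morphisms of sites, naming also
quasi-coherence, flatness and local freeness; this row is its quasi-coherent form for the three
properties named, local freeness being taken together with finite type.) -/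
theorem result (S : Scheme.{u}) (𝒳 𝒴 : AlgSt.Cat S) (h𝒳 : AlgSt.IsAlgStack Scheme.fppfPrecoverage 𝒳) (h𝒴 : AlgSt.IsAlgStack Scheme.fppfPrecoverage 𝒴) (A : (Over S)ᵒᵖ ⥤ GrpCat.{u}) (π : 𝒳 ⥤ᵇ 𝒴) (ι : TwSh.BandHom 𝒳 A) (hπ : TwSh.IsBandedGerbe (QuotSh.J Scheme.fppfPrecoverage S) π ι) (G : StMod.QCoh 𝒴) : (G.obj.IsFinType ↔ ((StMod.comapQ π).obj G).obj.IsFinType) ∧ (G.obj.IsFinPres ↔ ((StMod.comapQ π).obj G).obj.IsFinPres) ∧ ((G.obj.IsLocFree ∧ G.obj.IsFinType) ↔ (((StMod.comapQ π).obj G).obj.IsLocFree ∧ ((StMod.comapQ π).obj G).obj.IsFinType)) := by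
  have hft := Groth.Agent.S19717.descend S 𝒳 𝒴 π hπ.1.1 G @CohB1.IsFT.{u} TwSh10.isFT_of_iso
    TwSh10.isFT_of_fppfLocally
  have hfp := Groth.Agent.S19717.descend S 𝒳 𝒴 π hπ.1.1 G @CohB1.IsFP.{u} TwSh10.isFP_of_iso
    TwSh10.isFP_of_fppfLocally
  have hlf := Groth.Agent.S19717.descend S 𝒳 𝒴 π hπ.1.1 G @FlatMod.IsFinLocFree.{u} LimitsH94.LM.isFinLocFree_of_iso
    TwSh10.isFinLocFree_of_fppfLocally
  have up : ∀ (P : ∀ {Y : Scheme.{u}}, Y.Modules → Prop), (∀ η, P (G.obj.obj η)) →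
      ∀ ξ, P (((StMod.comapQ π).obj G).obj.obj ξ) := fun P h ξ =>
    (castMod_iff P _ _).2 (h (π.obj ξ))
  refine ⟨⟨fun h => up @CohB1.IsFT.{u} h, fun h η => hft h η⟩, ⟨fun h => up @CohB1.IsFP.{u} h, fun h η => hfp h η⟩,
    fun h => ?_, fun h => ?_⟩
  · have h' := up @FlatMod.IsFinLocFree.{u} fun η => TwSh10.isLocallyFree_and_isFT_iff.1 ⟨h.1 η, h.2 η⟩
    exact ⟨fun ξ => (TwSh10.isLocallyFree_and_isFT_iff.2 (h' ξ)).1, fun ξ => (TwSh10.isLocallyFree_and_isFT_iff.2 (h' ξ)).2⟩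
  · have h' := hlf fun ξ => TwSh10.isLocallyFree_and_isFT_iff.1 ⟨h.1 ξ, h.2 ξ⟩
    exact ⟨fun η => (TwSh10.isLocallyFree_and_isFT_iff.2 (h' η)).1, fun η => (TwSh10.isLocallyFree_and_isFT_iff.2 (h' η)).2⟩

end Groth.Agent.S19717
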