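import Groth.Statements.S19779
import Mathlib
import Groth.Agent.CA2H40.AwayProj
import Groth.Agent.CA2H40.AwaySettings
-- import your own Groth.Agent.* helpers here

set_option autoImplicit false
universe u
open Polynomial TensorProduct
open CAlg

namespace Groth.Agent.S19779

/-- For general linear groups, in the case R{t}[1/t] → R((t)), let R be a commutative ring, B = R{t} a
henselization of R[t] along (t), ψ : B → R[[t]] the R[t]-algebra map, L = B[1/t], and L' an
L-algebra identified with R((t)) compatibly with ψ. Then base change along L → L' is a bijection on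
isomorphism classes of finitely generated projective modules: two finitely generated projective
L-modules isomorphic over L' are isomorphic, and every finitely generated projective L'-module is
extended from one over L. (The published statement is the bijection H¹(R{t}[1/t], G) ≅ H¹(R((t)), G)
for every quasi-affine smooth group G; this row is the case of the general linear groups, stated for
finitely generated projective modules of arbitrary rank.) -/
theorem result (R : Type u) [CommRing R]
    (B : Type u) [CommRing B] [Algebra R[X] B] (hB : Hens2.IsPairHenselization R[X] (Ideal.span {(X : R[X])}) B)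
    (ψ : B →ₐ[R[X]] PowerSeries R)
    (L' : Type u) [CommRing L'] [Algebra (Localization.Away (algebraMap R[X] B X)) L'] (e : L' ≃+* LaurentSeries R)
    (he : ∀ b : B, e (algebraMap (Localization.Away (algebraMap R[X] B X)) L' (algebraMap B (Localization.Away (algebraMap R[X] B X)) b)) =
      HahnSeries.ofPowerSeries ℤ R (ψ b)) :
    (∀ (M N : Type u) [AddCommGroup M] [Module (Localization.Away (algebraMap R[X] B X)) M] [Module.Finite (Localization.Away (algebraMap R[X] B X)) M] [Module.Projective (Localization.Away (algebraMap R[X] B X)) M]
        [AddCommGroup N] [Module (Localization.Away (algebraMap R[X] B X)) N] [Module.Finite (Localization.Away (algebraMap R[X] B X)) N] [Module.Projective (Localization.Away (algebraMap R[X] B X)) N],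
        Nonempty (L' ⊗[Localization.Away (algebraMap R[X] B X)] M ≃ₗ[L'] L' ⊗[Localization.Away (algebraMap R[X] B X)] N) → Nonempty (M ≃ₗ[Localization.Away (algebraMap R[X] B X)] N)) ∧
    (∀ (M' : Type u) [AddCommGroup M'] [Module L' M'] [Module.Finite L' M'] [Module.Projective L' M'],
        ∃ (M : Type u) (_ : AddCommGroup M) (_ : Module (Localization.Away (algebraMap R[X] B X)) M),
          Module.Finite (Localization.Away (algebraMap R[X] B X)) M ∧ Module.Projective (Localization.Away (algebraMap R[X] B X)) M ∧
          Nonempty (L' ⊗[Localization.Away (algebraMap R[X] B X)] M ≃ₗ[L'] M')) := by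
  letI : Algebra (PowerSeries R) L' := (e.symm.toRingHom.comp (HahnSeries.ofPowerSeries ℤ R)).toAlgebra
  haveI : IsLocalization.Away (PowerSeries.X : PowerSeries R) L' := by
    have : IsLocalization (Submonoid.powers (PowerSeries.X : PowerSeries R)) (LaurentSeries R) := inferInstance
    exact IsLocalization.isLocalization_of_algEquiv (Submonoid.powers (PowerSeries.X : PowerSeries R))
      (AlgEquiv.ofRingEquiv (f := e.symm) (fun x => by
        rfl))
  haveI hhen : HenselianRing B (Ideal.span {algebraMap R[X] B Polynomial.X}) := by
    have := hB.1
    rwa [Ideal.map_span, Set.image_singleton] at this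
  have hψ : ∀ p : R[X], ψ.toRingHom (algebraMap R[X] B p) = (p : PowerSeries R) := fun p => by
    show ψ (algebraMap R[X] B p) = _
    rw [AlgHom.commutes]; rfl
  have hBX : ∀ (M : ℕ) (x : B), ∃ p : R[X], x - algebraMap R[X] B p ∈ Ideal.span {algebraMap R[X] B X ^ M} := fun M x => by
    obtain ⟨p, hp⟩ := Hensel.exists_sub_mem_pow _ (Hensel.exists_sub_mem_of_isPairHenselization _ hB) M x
    rw [Ideal.span_singleton_pow, Ideal.map_span, Set.image_singleton, map_pow] at hp
    exact ⟨p, hp⟩
  have h := CA2H40.AwayApprox.setting_powerSeries (L := Localization.Away (algebraMap R[X] B X)) (L' := L') ψ.toRingHom hψ hBX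
    (HenselianRing.jac (I := Ideal.span {algebraMap R[X] B Polynomial.X})) (fun b => e.injective (by
      rw [he, RingHom.algebraMap_toAlgebra]
      exact (e.apply_symm_apply _).symm))
  exact ⟨fun M N _ _ _ _ _ _ _ _ ⟨φ⟩ => h.nonempty_equiv φ, fun M' _ _ _ _ => h.exists_projective⟩

end Groth.Agent.S19779
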