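import Groth.Statements.S19794
import Groth.Agent.Sga3xB.CocharNormal
-- import your own Groth.Agent.* helpers here

set_option autoImplicit false
open CategoryTheory MonoidalCategory CartesianMonoidalCategory MonObj GrpObj AlgebraicGeometry
universe u
open SGA3x

set_option linter.style.haveILetI false

namespace Groth.Agent.S19794

/-- Let S be a connected, normal, locally Noetherian scheme, T an S-torus and T₀ ⟶ T its unique maximal
split subtorus, i.e. a split subtorus through which every split subtorus of T factors. Then the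
formation of T₀ commutes with Zariski localisation: for every open U ⊆ S, the restriction T₀|_U ⟶
T|_U is the greatest split subtorus of T|_U, that is, every split subtorus T' ⟶ T|_U with T' ≅
D_U(ℤ^{r'}) factors through T₀|_U. -/
theorem result {S : Scheme.{u}} [ConnectedSpace ↥S]
    [IsLocallyNoetherian S] (hnorm : ∀ x : ↥S, IsDomain (S.presheaf.stalk x) ∧ IsIntegrallyClosed (S.presheaf.stalk x))
    {T T₀ : Over S} [GrpObj T] [GrpObj T₀] (hT : Red.IsTorus T) (j₀ : T₀ ⟶ T) [IsMonHom j₀] [Mono j₀] (r₀ : ℕ)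
    (hT₀ : Red.IsSplitTorusWith (Fin r₀ → ℤ) T₀)
    (hmax : ∀ (T' : Over S) [GrpObj T'] (j' : T' ⟶ T) [IsMonHom j'] [Mono j'] (r' : ℕ),
      Red.IsSplitTorusWith (Fin r' → ℤ) T' → ∃ g : T' ⟶ T₀, g ≫ j₀ = j')
    (U : S.Opens) (T' : Over (U : Scheme.{u})) [GrpObj T'] (j' : T' ⟶ Red.bc U.ι T) [IsMonHom j'] [Mono j']
    (r' : ℕ) (hT' : Red.IsSplitTorusWith (Fin r' → ℤ) T') :
    ∃ g : T' ⟶ Red.bc U.ι T₀, g ≫ (Over.pullback U.ι).map j₀ = j' := by
  haveI := Sga3xB.isIntegral_of_connected_locallyNoetherian (S := S) (fun x => (hnorm x).1)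
  have hM := Sga3xB.isMultTypeFT_of_isTorus hT
  rcases isEmpty_or_nonempty (U : Scheme.{u}) with hU | hU
  · haveI : IsEmpty T'.left := Function.isEmpty T'.hom
    exact ⟨Over.homMk ((asIso (Scheme.emptyTo T'.left)).inv ≫ Scheme.emptyTo _) (isInitialOfIsEmpty.hom_ext _ _), Over.OverMorphism.ext (isInitialOfIsEmpty.hom_ext _ _)⟩
  obtain ⟨e⟩ := hT'
  haveI : IsMonHom e.inv.hom.hom := e.inv.hom.isMonHom_hom
  haveI := Sga3xB.isMonHom_bcHom (S := S) (M := Fin r' → ℤ) U.ι
  obtain ⟨v, hv, hvw⟩ := Sga3xB.exists_extension_of_open hnorm hM U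
    (Sga3xB.bcHom U.ι (Fin r' → ℤ) ≫ e.inv.hom.hom ≫ j')
  haveI := hv
  obtain ⟨v₀, hv₀⟩ := Sga3xB.exists_lift_greatest hM j₀ hmax v
  refine ⟨e.hom.hom.hom ≫ Sga3xB.bcInv U.ι (Fin r' → ℤ) ≫ (Over.pullback U.ι).map v₀, ?_⟩
  have e3 : e.hom.hom.hom ≫ e.inv.hom.hom = 𝟙 T' := ((Grp.forget _).mapIso e).hom_inv_id
  rw [Category.assoc, Category.assoc, ← Functor.map_comp, hv₀, hvw, Sga3xB.bcInv_bcHom_assoc, ← Category.assoc, e3,
    Category.id_comp]

end Groth.Agent.S19794
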