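import Groth.Statements.S19799
import Mathlib
-- import your own Groth.Agent.* helpers here

set_option autoImplicit false
universe u v w
open scoped TensorProduct
open CAlg

namespace Groth.Agent.S19799

open scoped TensorProduct in
theorem isReduced_tensor_of_finite (k : Type u) [Field k] [IsAlgClosed k]
    (A : Type v) [CommRing A] [Algebra k A] [Module.Finite k A] [IsReduced A]
    (B : Type w) [CommRing B] [Algebra k B] [IsReduced B] : IsReduced (A ⊗[k] B) := by
  haveI : IsArtinianRing A := IsArtinianRing.of_finite k A
  let Φ : A →ₐ[k] (MaximalSpectrum A → k) := Pi.algHom k _ fun m =>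
    (AlgEquiv.ofBijective (Algebra.ofId k (A ⧸ m.asIdeal))
      (IsAlgClosed.algebraMap_bijective_of_isIntegral)).symm.toAlgHom.comp (Ideal.Quotient.mkₐ k m.asIdeal)
  have hΦ : Function.Injective Φ := by
    refine (injective_iff_map_eq_zero _).2 fun a ha => ?_
    apply (IsArtinianRing.equivPi A).injective
    rw [map_zero]
    funext m
    rw [IsArtinianRing.equivPi_apply]
    have := congrFun ha m
    simpa [Φ] using this
  let Ψ := (Algebra.TensorProduct.comm k (MaximalSpectrum A → k) B).toAlgHom.comp
    (Algebra.TensorProduct.map Φ (AlgHom.id k B))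
  haveI : Fintype (MaximalSpectrum A) := Fintype.ofFinite _
  classical
  let Θ := (Algebra.TensorProduct.piScalarRight k k B (MaximalSpectrum A)).toAlgHom.comp Ψ
  refine isReduced_of_injective Θ ?_
  show Function.Injective (Θ : _ → _)
  refine (Algebra.TensorProduct.piScalarRight k k B (MaximalSpectrum A)).injective.comp
    ((Algebra.TensorProduct.comm k _ B).injective.comp ?_)
  exact Module.Flat.rTensor_preserves_injective_linearMap (M := B) Φ.toLinearMap hΦ

/-- Let k be an algebraically closed field and A, B commutative k-algebras, each finite-dimensional as a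
k-vector space. Then reduction commutes with tensor products: the kernel of the canonical surjection
A ⊗_k B ⟶ (A/nilradical A) ⊗_k (B/nilradical B) equals the nilradical of A ⊗_k B, so that this
surjection induces an isomorphism (A ⊗_k B)_red ≅ A_red ⊗_k B_red and in particular A_red ⊗_k B_red
is reduced. -/
theorem result (k : Type u) [Field k]
    [IsAlgClosed k] (A : Type v) [CommRing A] [Algebra k A] [Module.Finite k A]
    (B : Type w) [CommRing B] [Algebra k B] [Module.Finite k B] :
    RingHom.ker (Algebra.TensorProduct.map (Ideal.Quotient.mkₐ k (nilradical A))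
      (Ideal.Quotient.mkₐ k (nilradical B))).toRingHom = nilradical (A ⊗[k] B) := by
  haveI : IsReduced (A ⧸ nilradical A) := (Ideal.isRadical_iff_quotient_reduced _).1
    (Ideal.radical_isRadical _)
  haveI : IsReduced (B ⧸ nilradical B) := (Ideal.isRadical_iff_quotient_reduced _).1
    (Ideal.radical_isRadical _)
  haveI := isReduced_tensor_of_finite k (A ⧸ nilradical A) (B ⧸ nilradical B)
  refine le_antisymm ?_ ?_
  · refine (le_of_eq (Algebra.TensorProduct.map_ker _ _ Ideal.Quotient.mk_surjective
      Ideal.Quotient.mk_surjective)).trans (sup_le ?_ ?_) <;>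
    · refine Ideal.map_le_iff_le_comap.2 fun x hx => ?_
      rw [Ideal.mem_comap, mem_nilradical]
      refine IsNilpotent.map ?_ _
      rw [← mem_nilradical]
      simpa [Ideal.Quotient.eq_zero_iff_mem] using hx
  · intro x hx
    exact (IsNilpotent.map hx _).eq_zero

end Groth.Agent.S19799
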