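import Groth.Statements.S19806
import Groth.Agent.VarGrow31.Big
import Groth.Agent.VarGrow31.Vol
-- import your own Groth.Agent.* helpers here

set_option autoImplicit false
universe u
open CategoryTheory CategoryTheory.Limits AlgebraicGeometry
open scoped ENNReal
open Variety

namespace Groth.Agent.S19806

/-- Let X be a projective variety of dimension d over a field k (a geometrically integral scheme, proper
over k, admitting an ample invertible module, with dim X = d) and L an invertible O_X-module; write
vol(L) for the upper limit of dim_k H^0(X, L^m) / m^d as m → ∞, taken in the extended non-negative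
reals (the volume of L up to the factor d!). Call L big when the lower limit of dim_k H^0(X, L^m) /
m^d is positive. Then L is big if and only if vol(L) is positive. -/
theorem result (k : Type u) [Field k] (X : Scheme.{u})
    [X.Over (Spec (CommRingCat.of k))] [IsIntegral X] [GeometricallyIntegral (X ↘ Spec (CommRingCat.of k))]
    [IsProper (X ↘ Spec (CommRingCat.of k))]
    (hproj : ∃ A : X.Modules, CohB1.IsAmple A) (d : ℕ) (hd : topologicalKrullDim X = d)
    (L : X.Modules) (hL : PicF.IsInvertible L) :
    0 < Filter.liminf (fun m : ℕ => (Module.finrank k (Coh.HH X (CohB1.tensorPow L m) 0) : ℝ≥0∞) /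
        (m : ℝ≥0∞) ^ d) Filter.atTop ↔
      0 < Filter.limsup (fun m : ℕ => (Module.finrank k (Coh.HH X (CohB1.tensorPow L m) 0) : ℝ≥0∞) /
        (m : ℝ≥0∞) ^ d) Filter.atTop := by
  open Groth.Agent Groth.Agent.VarGrow31 in
  obtain ⟨A, hA⟩ := hproj
  obtain ⟨C, hC⟩ := exists_bound_hp k hL hd.le 0
  constructor
  · intro h
    exact lt_of_lt_of_le h (Filter.liminf_le_limsup)
  · intro h
    have h' : 0 < Filter.limsup (normSeq d 1 (hp k L 0)) Filter.atTop :=
      ENNReal.ofReal_pos.1 (h.trans_eq (limsup_ennreal hC))
    obtain ⟨δ, hδ, hfr⟩ := frequently_of_pos k hd zero_lt_one h'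
    obtain ⟨c, hc, hev⟩ := big_of_frequently k hL hd hA hδ hfr
    refine lt_of_lt_of_le (ENNReal.ofReal_pos.2 hc) (Filter.le_liminf_of_le (by isBoundedDefault) ?_)
    filter_upwards [hev, Filter.eventually_ge_atTop 1] with m hm hm1
    have hm0 : (0 : ℝ) < (m : ℝ) := by exact_mod_cast hm1
    calc ENNReal.ofReal c ≤ ENNReal.ofReal ((hp k L 0 m : ℝ) / (m : ℝ) ^ d) :=
          ENNReal.ofReal_le_ofReal ((le_div_iff₀ (pow_pos hm0 d)).2 hm.le)
      _ = _ := by
          rw [ENNReal.ofReal_div_of_pos (pow_pos hm0 d), ENNReal.ofReal_natCast, ENNReal.ofReal_pow hm0.le,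
            ENNReal.ofReal_natCast]
          rfl


end Groth.Agent.S19806
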