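import Groth.Statements.S19809
import Groth.Agent.Incid42.BinarySeries

set_option autoImplicit false
universe u
open RatCurv

namespace Groth.Agent.S19809

/-- A smooth rational quintic curve C ⊂ P^3 has a one-parameter family of 3-secant lines. Stated, as for
the nondegenerate case, through binary forms: C is the image of P^1 under a 4-dimensional linear
series V of binary quintic forms which separates every length-2 subscheme of P^1 (for every nonzero
quadratic form e, the forms of V together with the multiples of e span all quintic forms), so that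
P^1 → P(V^*) = P^3 is a closed embedding; the linear forms on P^3 are the elements of V, a line L ⊂
P^3 is the 2-dimensional space of linear forms vanishing on it, and L ∩ C has length at least 3
exactly when that space is contained in g · K[s,t]_2 for a cubic form g. The conclusion: there are
infinitely many pairwise non-proportional nonzero cubic forms g with dim (V ∩ g · K[s,t]_2) ≥ 2,
i.e. for every finite set of cubics there is such a g proportional to none of them. (The ground
field is algebraically closed of characteristic zero in place of the complex numbers; the third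
printed assertion, on curves all of whose 3-secants are 4-secant, is not stated.) -/
theorem result (K : Type u) [Field K] [IsAlgClosed K]
    [CharZero K] (V : Submodule K (MvPolynomial (Fin 2) K))
    (hV : V ≤ MvPolynomial.homogeneousSubmodule (Fin 2) K 5) (hdim : Module.finrank K ↥V = 4)
    (hsep : ∀ e ∈ MvPolynomial.homogeneousSubmodule (Fin 2) K 2, e ≠ 0 →
      ∀ F ∈ MvPolynomial.homogeneousSubmodule (Fin 2) K 5, ∃ v ∈ V,
        ∃ h ∈ MvPolynomial.homogeneousSubmodule (Fin 2) K 3, F = v + e * h)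
    (F : Finset (MvPolynomial (Fin 2) K)) :
    ∃ g ∈ MvPolynomial.homogeneousSubmodule (Fin 2) K 3, g ≠ 0 ∧
      2 ≤ Module.finrank K ↥(V ⊓ (MvPolynomial.homogeneousSubmodule (Fin 2) K 2).map (LinearMap.mulLeft K g)) ∧
      ∀ g' ∈ F, ∀ c : K, g ≠ c • g' := by
  classical
  have hF5 : FiniteDimensional K ↥(MvPolynomial.homogeneousSubmodule (Fin 2) K 5) := Incid42.finiteDimensional_binary 5
  have hF2 : FiniteDimensional K ↥(MvPolynomial.homogeneousSubmodule (Fin 2) K 2) := Incid42.finiteDimensional_binary 2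
  set Q5 := MvPolynomial.homogeneousSubmodule (Fin 2) K 5 with hQ5
  -- two functionals cutting out `V` in the quintics
  obtain ⟨π, hπ⟩ := LinearMap.exists_extend (V.submoduleOf Q5).mkQ
  have hq : Module.finrank K (↥Q5 ⧸ V.submoduleOf Q5) = 2 := by
    have h1 := (V.submoduleOf Q5).finrank_quotient_add_finrank
    rw [(Submodule.submoduleOfEquivOfLe hV).finrank_eq, hdim, hQ5, Incid42.finrank_binary] at h1
    rw [hQ5]
    omega
  let B := Module.finBasisOfFinrankEq K (↥Q5 ⧸ V.submoduleOf Q5) hq
  let φ : Fin 2 → (MvPolynomial (Fin 2) K →ₗ[K] K) := fun i => (B.coord i).comp π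
  have hVφ : ∀ x ∈ Q5, (x ∈ V ↔ ∀ i, φ i x = 0) := fun x hx => by
    have hpx : π x = (V.submoduleOf Q5).mkQ ⟨x, hx⟩ := LinearMap.congr_fun hπ ⟨x, hx⟩
    simp only [φ, LinearMap.comp_apply, hpx, Module.Basis.coord_apply]
    rw [show (∀ i, B.repr ((V.submoduleOf Q5).mkQ ⟨x, hx⟩) i = 0) ↔ (V.submoduleOf Q5).mkQ ⟨x, hx⟩ = 0 from
      ⟨fun h => B.ext_elem fun i => (h i).trans (by simp), fun h i => by rw [h]; simp⟩]
    rw [Submodule.mkQ_apply, Submodule.Quotient.mk_eq_zero]
    rfl
  have hex : ∃ x ∈ Q5, φ 0 x = 1 ∧ φ 1 x = 0 := by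
    obtain ⟨⟨x, hx⟩, hxe⟩ := (V.submoduleOf Q5).mkQ_surjective (B 0)
    have hpx : π x = B 0 := (LinearMap.congr_fun hπ ⟨x, hx⟩).trans hxe
    exact ⟨x, hx, by simp [φ, hpx], by simp [φ, hpx]⟩
  have hex1 : ∃ x ∈ Q5, φ 0 x = 0 ∧ φ 1 x = 1 := by
    obtain ⟨⟨x, hx⟩, hxe⟩ := (V.submoduleOf Q5).mkQ_surjective (B 1)
    have hpx : π x = B 1 := (LinearMap.congr_fun hπ ⟨x, hx⟩).trans hxe
    exact ⟨x, hx, by simp [φ, hpx], by simp [φ, hpx]⟩
  have hmul : ∀ {g h}, g ∈ MvPolynomial.homogeneousSubmodule (Fin 2) K 3 → h ∈ MvPolynomial.homogeneousSubmodule (Fin 2) K 2 →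
      g * h ∈ Q5 := fun hg hh =>
    (MvPolynomial.mem_homogeneousSubmodule _ _).2
      (((MvPolynomial.mem_homogeneousSubmodule _ _).1 hg).mul ((MvPolynomial.mem_homogeneousSubmodule _ _).1 hh))
  -- no cubic multiplies all conics into `V`
  have hnone : ∀ g ∈ MvPolynomial.homogeneousSubmodule (Fin 2) K 3, g ≠ 0 →
      (∀ h ∈ MvPolynomial.homogeneousSubmodule (Fin 2) K 2, ∀ i, φ i (g * h) = 0) → False := by
    intro g hg hg0 hgV
    obtain ⟨l, e, hge, hl, he, he0⟩ := Incid42.exists_linear_factor ((MvPolynomial.mem_homogeneousSubmodule _ _).1 hg) hg0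
    have he' : e ∈ MvPolynomial.homogeneousSubmodule (Fin 2) K 2 := (MvPolynomial.mem_homogeneousSubmodule _ _).2 he
    -- the map `eQ₃ → K²` kills `e l Q₂`
    let T : ↥(MvPolynomial.homogeneousSubmodule (Fin 2) K 3) →ₗ[K] (Fin 2 → K) :=
      (LinearMap.pi fun i => (φ i).comp (LinearMap.mulLeft K e)).comp (Submodule.subtype _)
    have hT : ∀ x i, T x i = φ i (e * x.1) := fun x i => rfl
    have hsurj : Function.Surjective T := by
      intro t
      obtain ⟨x, hx, hx0, hx1⟩ := hex
      obtain ⟨y, hy, hy0, hy1⟩ := hex1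
      obtain ⟨v, hv, h, hh, hsum⟩ := hsep e he' he0 (t 0 • x + t 1 • y) (add_mem (Submodule.smul_mem _ _ hx) (Submodule.smul_mem _ _ hy))
      refine ⟨⟨h, hh⟩, funext fun i => ?_⟩
      have := congrArg (φ i) hsum
      rw [map_add (φ i) v, (hVφ v (hV hv)).1 hv i, zero_add, map_add, map_smul, map_smul] at this
      rw [hT, ← this]
      fin_cases i <;> simp [hx0, hx1, hy0, hy1]
    have : FiniteDimensional K ↥(MvPolynomial.homogeneousSubmodule (Fin 2) K 3) := Incid42.finiteDimensional_binary 3
    let ι : ↥(MvPolynomial.homogeneousSubmodule (Fin 2) K 2) →ₗ[K] ↥(LinearMap.ker T) :=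
      { toFun := fun h => ⟨⟨l * h.1, (MvPolynomial.mem_homogeneousSubmodule _ _).2
            (by simpa using hl.mul ((MvPolynomial.mem_homogeneousSubmodule _ _).1 h.2))⟩,
          funext fun i => by rw [hT, Pi.zero_apply, ← hgV h.1 h.2 i, hge]; congr 1; ring⟩
        map_add' := fun a b => by ext1; ext1; simp [mul_add]
        map_smul' := fun c a => by ext1; ext1; simp [mul_smul_comm] }
    have hι : Function.Injective ι := fun a b hab => by
      have h1 := congrArg (fun y => y.1.1) hab
      exact Subtype.ext (mul_left_cancel₀ (fun h0 => hg0 (by rw [hge, h0, zero_mul])) h1)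
    have h1 := LinearMap.finrank_le_finrank_of_injective hι
    have h2 := LinearMap.finrank_range_add_finrank_ker T
    rw [LinearMap.range_eq_top.2 hsurj, finrank_top, Module.finrank_fin_fun, Incid42.finrank_binary] at h2
    rw [Incid42.finrank_binary] at h1
    omega
  -- a pencil member avoiding the finite set
  let bad : MvPolynomial (Fin 2) K → Set K := fun g => {t | g ∈ MvPolynomial.homogeneousSubmodule (Fin 2) K 3 ∧ g ≠ 0 ∧
    ∀ h ∈ MvPolynomial.homogeneousSubmodule (Fin 2) K 2, (φ 0 + t • φ 1) (g * h) = 0}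
  have hbad : ∀ g, (bad g).Subsingleton := fun g t ht s hs => by
    by_contra hne
    refine hnone g ht.1 ht.2.1 fun h hh i => ?_
    have e1 := ht.2.2 h hh
    have e2 := hs.2.2 h hh
    simp only [LinearMap.add_apply, LinearMap.smul_apply, smul_eq_mul] at e1 e2
    have h1 : φ 1 (g * h) = 0 := by
      have : (t - s) * φ 1 (g * h) = 0 := by linear_combination e1 - e2
      exact (mul_eq_zero.1 this).resolve_left (sub_ne_zero.2 hne)
    rw [h1, mul_zero, add_zero] at e1
    fin_cases i
    exacts [e1, h1]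
  obtain ⟨t, ht⟩ := ((Set.Finite.biUnion F.finite_toSet fun g _ => (hbad g).finite).infinite_compl).nonempty
  obtain ⟨g, hg, hg0, hgker⟩ := Incid42.exists_ker_contractBy (φ 0 + t • φ 1)
  refine ⟨g, hg, hg0, ?_, fun g' hg' c hc => ht ?_⟩
  · let μ : ↥(MvPolynomial.homogeneousSubmodule (Fin 2) K 2) →ₗ[K] K :=
      ((φ 1).comp (LinearMap.mulLeft K g)).comp (Submodule.subtype _)
    have hle : (LinearMap.ker μ).map ((LinearMap.mulLeft K g).comp (Submodule.subtype _)) ≤
        V ⊓ (MvPolynomial.homogeneousSubmodule (Fin 2) K 2).map (LinearMap.mulLeft K g) := by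
      rintro _ ⟨h, hh, rfl⟩
      refine ⟨(hVφ _ (hmul hg h.2)).2 fun i => ?_, ⟨h.1, h.2, rfl⟩⟩
      have h1 : φ 1 (g * h.1) = 0 := hh
      have h0 := hgker h.1 h.2
      rw [LinearMap.add_apply, LinearMap.smul_apply, h1, smul_zero, add_zero] at h0
      fin_cases i
      exacts [h0, h1]
    have hfin : FiniteDimensional K ↥(V ⊓ (MvPolynomial.homogeneousSubmodule (Fin 2) K 2).map (LinearMap.mulLeft K g)) :=
      Submodule.finiteDimensional_of_le inf_le_right
    refine le_trans ?_ (Submodule.finrank_mono hle)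
    have hinj : Function.Injective ((LinearMap.mulLeft K g).comp (MvPolynomial.homogeneousSubmodule (Fin 2) K 2).subtype) :=
      fun a b hab => Subtype.ext (mul_left_cancel₀ hg0 hab)
    rw [← (Submodule.equivMapOfInjective _ hinj (LinearMap.ker μ)).finrank_eq]
    have h1 := LinearMap.finrank_range_add_finrank_ker μ
    have h2 := (Submodule.finrank_le (LinearMap.range μ)).trans (Module.finrank_self K).le
    rw [Incid42.finrank_binary] at h1
    omega
  · refine Set.mem_iUnion₂.2 ⟨g', hg', ?_⟩
    have hc0 : c ≠ 0 := fun h0 => hg0 (by rw [hc, h0, zero_smul])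
    have hgg : g' = c⁻¹ • g := by rw [hc, smul_smul, inv_mul_cancel₀ hc0, one_smul]
    refine ⟨hgg ▸ Submodule.smul_mem _ _ hg, fun h0 => hg0 (by rw [hc, h0, smul_zero]), fun h hh => ?_⟩
    rw [hgg, smul_mul_assoc, map_smul, hgker h hh, smul_zero]

end Groth.Agent.S19809
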