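import Groth.Statements.S1983
import Groth.Agent.EtRam46.LocalExt

set_option autoImplicit false
universe u
open EtAlg

namespace Groth.Agent.S1983

/-- Suppose A -> B makes the discrete valuation ring B an extension of the discrete valuation ring A,
with fraction fields K ⊂ L, and that this extension is weakly unramified with separable, i.e.
geometrically reduced and possibly transcendental, residue field extension (formally smooth for the
adic topology). Then every finite extension K₁/K is a solution for A -> B. -/
theorem result (A B K L : Type u) [CommRing A] [IsDomain A] [IsDiscreteValuationRing A]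
    [CommRing B] [IsDomain B] [IsDiscreteValuationRing B] [Algebra A B] [IsLocalHom (algebraMap A B)]
    (hinj : Function.Injective (algebraMap A B))
    [Field K] [Field L] [Algebra A K] [IsFractionRing A K] [Algebra B L] [IsFractionRing B L]
    [Algebra K L] [Algebra A L] [IsScalarTower A K L] [IsScalarTower A B L]
    (hw : EtRam.IsWeaklyUnramified A B) [Algebra.IsGeometricallyReduced (IsLocalRing.ResidueField A) (IsLocalRing.ResidueField B)]
    (K₁ : Type u) [Field K₁] [Algebra K K₁] [FiniteDimensional K K₁] : EtRam.IsSolution B K L K₁ := by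
  intro M _ _ _ _ _ _ hgen W hd
  obtain ⟨hW, hW1, hd1, -, -, -⟩ := Groth.Agent.EtRam46.localExt_setup A B K L K₁ hinj hgen W hd
  letI : Algebra A (W.comap (algebraMap K₁ M)) :=
    (RingHom.codRestrict ((algebraMap K K₁).comp (algebraMap A K)) (W.comap (algebraMap K₁ M)) hd1.1).toAlgebra
  haveI : IsLocalHom (algebraMap A (W.comap (algebraMap K₁ M))) := ⟨fun a ha => by
    by_contra hn
    exact (hd1.2 a ((IsLocalRing.mem_maximalIdeal _).2 hn)).ne
      (((W.comap (algebraMap K₁ M)).valuation_eq_one_iff _).1 ha)⟩
  haveI := Groth.Agent.EtRam46.finite_residue (A := A) (V := W.comap (algebraMap K₁ M)) K (fun a => rfl)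
  have h1 : Ideal.ramificationIdx' (IsLocalRing.maximalIdeal A) (IsLocalRing.maximalIdeal B) = 1 :=
    Ideal.ramificationIdx'_spec (by rw [pow_one]; exact le_of_eq hw) fun h => by
      obtain ⟨ϖ, hϖ⟩ := IsDiscreteValuationRing.exists_irreducible B
      rw [hw, hϖ.maximalIdeal_eq, Ideal.span_singleton_pow, Ideal.span_singleton_le_span_singleton] at h
      obtain ⟨c, hc⟩ := h
      exact hϖ.1 (IsUnit.of_mul_eq_one c (mul_left_cancel₀ hϖ.ne_zero (by rw [mul_one]; linear_combination -hc)))
  obtain ⟨h2, h3⟩ := Groth.Agent.EtRam46.abhyankar_localExt A B K L K₁ hinj hgen W hd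
    (by rw [h1, Nat.cast_one]; exact one_ne_zero) (fun a => rfl) (h1 ▸ one_dvd _)
  exact ⟨h2, h3 inferInstance⟩

end Groth.Agent.S1983
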