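import Groth.Statements.S1984
import Groth.Agent.EtRam46.Totally

set_option autoImplicit false
universe u
open EtAlg

namespace Groth.Agent.S1984

open TensorProduct in
/-- Let A -> B be a weakly unramified extension of discrete valuation rings with fraction fields K ⊂ L,
and K₁/K a finite separable extension which is totally ramified with respect to A. Then L ⊗_K K₁ is
a field and K₁ is a weak solution for A -> B (the valuation ring of L ⊗_K K₁ over B is weakly
unramified over that of K₁ over A). -/
theorem result (A B K L : Type u) [CommRing A] [IsDomain A] [IsDiscreteValuationRing A]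
    [CommRing B] [IsDomain B] [IsDiscreteValuationRing B] [Algebra A B] [IsLocalHom (algebraMap A B)]
    (hinj : Function.Injective (algebraMap A B))
    [Field K] [Field L] [Algebra A K] [IsFractionRing A K] [Algebra B L] [IsFractionRing B L]
    [Algebra K L] [Algebra A L] [IsScalarTower A K L] [IsScalarTower A B L]
    (hw : EtRam.IsWeaklyUnramified A B) (K₁ : Type u) [Field K₁] [Algebra K K₁] [FiniteDimensional K K₁]
    [Algebra.IsSeparable K K₁] (ht : EtRam.IsTotallyRamified A ((algebraMap K K₁).comp (algebraMap A K))) :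
    IsField (L ⊗[K] K₁) ∧ EtRam.IsWeakSolution B K L K₁ := by
  classical
  have he : Ideal.ramificationIdx' (IsLocalRing.maximalIdeal A) (IsLocalRing.maximalIdeal B) = 1 :=
    Ideal.ramificationIdx'_spec (by rw [pow_one]; exact le_of_eq hw) fun h => by
      obtain ⟨ϖ, hϖ⟩ := IsDiscreteValuationRing.exists_irreducible B
      rw [hw, hϖ.maximalIdeal_eq, Ideal.span_singleton_pow, Ideal.span_singleton_le_span_singleton] at h
      obtain ⟨c, hc⟩ := h
      exact hϖ.1 (IsUnit.of_mul_eq_one c (mul_left_cancel₀ hϖ.ne_zero (by rw [mul_one]; linear_combination -hc)))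
  have main : ∀ (M : Type u) [Field M] [Algebra K M] [Algebra L M] [Algebra K₁ M] [IsScalarTower K L M]
      [IsScalarTower K K₁ M], Algebra.adjoin L (Set.range (algebraMap K₁ M)) = ⊤ →
      ∀ W : ValuationSubring M, EtRam.Dominates B ((algebraMap L M).comp (algebraMap B L)) W →
      (letI : Algebra (W.comap (algebraMap K₁ M)) W := (EtRam.inclOfComap W (algebraMap K₁ M)).toAlgebra
       EtRam.IsWeaklyUnramified (W.comap (algebraMap K₁ M)) W) ∧
      Module.finrank K K₁ ≤ Module.finrank L M := by
    intro M _ _ _ _ _ _ hgen W hd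
    obtain ⟨hW, hW1, hd1, hi, hcompat, -⟩ := Groth.Agent.EtRam46.localExt_setup A B K L K₁ hinj hgen W hd
    letI : Algebra A (W.comap (algebraMap K₁ M)) :=
      (RingHom.codRestrict ((algebraMap K K₁).comp (algebraMap A K)) (W.comap (algebraMap K₁ M)) hd1.1).toAlgebra
    haveI hloc : IsLocalHom (algebraMap A (W.comap (algebraMap K₁ M))) := ⟨fun a ha => by
      by_contra hn
      exact (hd1.2 a ((IsLocalRing.mem_maximalIdeal _).2 hn)).ne
        (((W.comap (algebraMap K₁ M)).valuation_eq_one_iff _).1 ha)⟩
    haveI := Groth.Agent.EtRam46.finite_residue (A := A) (V := W.comap (algebraMap K₁ M)) K (fun a => rfl)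
    have hbij : Function.Bijective (algebraMap (IsLocalRing.ResidueField A)
        (IsLocalRing.ResidueField (W.comap (algebraMap K₁ M)))) := ⟨RingHom.injective _, fun y => by
      obtain ⟨a, ha⟩ := ht.2.2 _ hd1 y
      exact ⟨IsLocalRing.residue A a, ha⟩⟩
    haveI : IsReduced (IsLocalRing.ResidueField (W.comap (algebraMap K₁ M)) ⊗[IsLocalRing.ResidueField A]
        IsLocalRing.ResidueField B) :=
      isReduced_of_injective ((Algebra.TensorProduct.congr (AlgEquiv.ofBijective (Algebra.ofId _ _) hbij).symm
        AlgEquiv.refl).trans (Algebra.TensorProduct.lid _ _)) (AlgEquiv.injective _)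
    obtain ⟨h1, -⟩ := Groth.Agent.EtRam46.abhyankar_localExt A B K L K₁ hinj hgen W hd
      (by rw [he, Nat.cast_one]; exact one_ne_zero) (fun a => rfl) (he ▸ one_dvd _)
    refine ⟨h1, ?_⟩
    obtain ⟨π, hπ⟩ := IsDiscreteValuationRing.exists_irreducible A
    obtain ⟨τ, hτ⟩ := IsDiscreteValuationRing.exists_irreducible (W.comap (algebraMap K₁ M))
    have hg1 : Function.Injective ((algebraMap K K₁).comp (algebraMap A K)) :=
      (algebraMap K K₁).injective.comp (IsFractionRing.injective A K)
    obtain ⟨n, hn0, hn⟩ := Groth.Agent.EtRam46.exists_idx hd1 hg1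
    refine (Groth.Agent.EtRam46.finrank_le_idx K ht _ hd1 hn).trans ?_
    haveI : FiniteDimensional L M := Groth.Agent.EtRam46.finite_compositum (K := K) hgen
    have h1' : Groth.Agent.EtRam46.Idx W
        ((algebraMap K₁ M).comp (W.comap (algebraMap K₁ M)).subtype) 1 := by
      letI : Algebra (W.comap (algebraMap K₁ M)) W := (EtRam.inclOfComap W (algebraMap K₁ M)).toAlgebra
      have hmax : IsLocalRing.maximalIdeal W = Ideal.span {algebraMap (W.comap (algebraMap K₁ M)) W τ} := by
        rw [← h1, hτ.maximalIdeal_eq, Ideal.map_span, Set.image_singleton]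
      exact ⟨τ, _, hτ, Groth.Agent.EtRam46.uni_of_irreducible
        ((IsDiscreteValuationRing.irreducible_iff_uniformizer _).2 hmax), (pow_one _).symm⟩
    obtain ⟨ρ, t, hρ, ht', hρt⟩ := hn.trans h1'
    refine Groth.Agent.EtRam46.idx_le_finrank (K := L) W hd
      ⟨algebraMap A B ρ, t, (IsDiscreteValuationRing.irreducible_iff_uniformizer _).2
        (by rw [← hw, hρ.maximalIdeal_eq, Ideal.map_span, Set.image_singleton]), ht', ?_⟩
    rw [hcompat]
    simpa using hρt
  refine ⟨?_, fun M _ _ _ _ _ _ hgen W hd => (main M hgen W hd).1⟩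
  -- the tensor product is a field
  haveI : Algebra.FormallyUnramified K K₁ := Algebra.FormallyUnramified.of_isSeparable K K₁
  haveI : IsReduced (L ⊗[K] K₁) := Algebra.FormallyUnramified.isReduced_of_field L _
  haveI : Nontrivial (L ⊗[K] K₁) :=
    (Algebra.TensorProduct.includeLeft_injective (S := K) (A := L) (B := K₁) (algebraMap K K₁).injective).nontrivial
  obtain ⟨P, hP⟩ := Ideal.exists_maximal (L ⊗[K] K₁)
  have hPbot : P = ⊥ := by
    letI : Field ((L ⊗[K] K₁) ⧸ P) := Ideal.Quotient.field P
    letI : Algebra K₁ ((L ⊗[K] K₁) ⧸ P) := ((Ideal.Quotient.mk P).comp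
      (Algebra.TensorProduct.includeRight (R := K) (A := L) (B := K₁)).toRingHom).toAlgebra
    haveI : IsScalarTower K L ((L ⊗[K] K₁) ⧸ P) := inferInstance
    haveI : IsScalarTower K K₁ ((L ⊗[K] K₁) ⧸ P) := IsScalarTower.of_algebraMap_eq fun a =>
      congrArg (Ideal.Quotient.mk P)
        ((Algebra.TensorProduct.includeRight (R := K) (A := L) (B := K₁)).commutes a).symm
    have hgen : Algebra.adjoin L (Set.range (algebraMap K₁ ((L ⊗[K] K₁) ⧸ P))) = ⊤ := by
      rw [eq_top_iff]
      rintro y -
      obtain ⟨z, rfl⟩ := Ideal.Quotient.mk_surjective y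
      show _ ∈ Algebra.adjoin L _
      induction z with
      | zero => rw [map_zero]; exact zero_mem _
      | tmul a b =>
        rw [show a ⊗ₜ[K] b = algebraMap L (L ⊗[K] K₁) a * ((1 : L) ⊗ₜ[K] b) by
          rw [Algebra.TensorProduct.algebraMap_apply, Algebra.TensorProduct.tmul_mul_tmul,
            Algebra.algebraMap_self_apply, mul_one, one_mul], map_mul]
        exact mul_mem (Subalgebra.algebraMap_mem _ a) (Algebra.subset_adjoin ⟨b, rfl⟩)
      | add a b ha hb => rw [map_add]; exact add_mem ha hb
    let VB : ValuationSubring L :=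
      ⟨(algebraMap B L).range, ValuationRing.isInteger_or_isInteger B⟩
    obtain ⟨W, hW⟩ := Groth.Agent.EtRam46.exists_comap_eq (algebraMap L ((L ⊗[K] K₁) ⧸ P)) VB
    have hd : EtRam.Dominates B ((algebraMap L ((L ⊗[K] K₁) ⧸ P)).comp (algebraMap B L)) W := by
      refine (Groth.Agent.EtRam46.dominates_comap _).1 ?_
      rw [hW]
      refine ⟨fun b => ⟨b, rfl⟩, fun b hb => lt_of_le_of_ne
        ((VB.valuation_le_one_iff _).2 ⟨b, rfl⟩) fun h => (IsLocalRing.mem_maximalIdeal _).1 hb ?_⟩
      obtain ⟨u, hu⟩ := (VB.valuation_eq_one_iff ⟨algebraMap B L b, b, rfl⟩).2 h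
      obtain ⟨c, hc⟩ : ((u⁻¹ : VBˣ) : VB).1 ∈ (algebraMap B L).range := ((u⁻¹ : VBˣ) : VB).2
      refine IsUnit.of_mul_eq_one c (IsFractionRing.injective B L ?_)
      rw [map_mul, map_one, hc]
      have := congrArg Subtype.val u.mul_inv
      rw [hu] at this
      exact this
    have h2 := (main _ hgen W hd).2
    haveI : FiniteDimensional L ((L ⊗[K] K₁) ⧸ P) := Groth.Agent.EtRam46.finite_compositum (K := K) hgen
    have h3 := Submodule.finrank_quotient_add_finrank (Submodule.restrictScalars L P)
    rw [Module.finrank_baseChange] at h3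
    have h4 : Module.finrank L ((L ⊗[K] K₁) ⧸ Submodule.restrictScalars L P) =
        Module.finrank L ((L ⊗[K] K₁) ⧸ P) :=
      (Submodule.Quotient.restrictScalarsEquiv L P).finrank_eq
    have h5 : Submodule.restrictScalars L P = ⊥ := Submodule.finrank_eq_zero.1 (by omega)
    exact (Submodule.restrictScalars_eq_bot_iff _ _ _).1 h5
  subst hPbot
  exact MulEquiv.isField ((Ideal.Quotient.maximal_ideal_iff_isField_quotient _).1 hP)
    (RingEquiv.quotientBot _).symm.toMulEquiv

end Groth.Agent.S1984
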