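import Groth.Statements.S19856
import Mathlib
import Groth.Agent.CA2H40.TameAut
-- import your own Groth.Agent.* helpers here

set_option autoImplicit false
universe u v
open CAlg

namespace Groth.Agent.S19856

/-- Ring-level form: let O be a discrete valuation ring and G a finite group acting faithfully on O by
ring automorphisms, such that every element of G acts trivially on the residue field of O (that is,
g • a - a lies in the maximal ideal for all a) and such that the order of G is nonzero in the
residue field of O. Then G is cyclic. (The source states this for a finite group of order invertible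
in an algebraically closed field k acting faithfully on a smooth connected k-variety and the
subgroup of elements fixing pointwise a codimension-one irreducible component of the ramification
locus, applied to the local ring at the generic point of that component; it is stated here for an
arbitrary discrete valuation ring with a faithful action. The source also shows that this subgroup
is nontrivial; that geometric part is not stated.) -/
theorem result
    (O : Type u) [CommRing O] [IsDomain O] [IsDiscreteValuationRing O]
    (G : Type v) [Group G] [Finite G] [MulSemiringAction G O] [FaithfulSMul G O]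
    (htriv : ∀ (g : G) (a : O), g • a - a ∈ IsLocalRing.maximalIdeal O)
    (hcard : ((Nat.card G : ℕ) : IsLocalRing.ResidueField O) ≠ 0) :
    IsCyclic G := by
  obtain ⟨π, hπ⟩ := IsDiscreteValuationRing.exists_irreducible O
  have hm : IsLocalRing.maximalIdeal O = Ideal.span {π} :=
    (IsDiscreteValuationRing.irreducible_iff_uniformizer π).1 hπ
  have hu : ∀ g : G, ∃ u : O, g • π = u * π := by
    intro g
    have h := htriv g π
    rw [hm, Ideal.mem_span_singleton'] at h
    obtain ⟨c, hc⟩ := h
    exact ⟨c + 1, by linear_combination -hc⟩
  choose u hu using hu
  have hπ0 : π ≠ 0 := hπ.ne_zero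
  have hres : ∀ (g : G) (a : O), IsLocalRing.residue O (g • a) = IsLocalRing.residue O a := by
    intro g a
    rw [← sub_eq_zero, ← map_sub, IsLocalRing.residue_eq_zero_iff]; exact htriv g a
  let χ : G →* IsLocalRing.ResidueField O :=
    { toFun := fun g => IsLocalRing.residue O (u g)
      map_one' := by
        have h := hu 1
        rw [one_smul] at h
        rw [show u 1 = 1 from (mul_eq_right₀ hπ0).1 h.symm, map_one]
      map_mul' := fun g h => by
        have e := hu (g * h)
        rw [mul_smul, hu h, smul_mul', hu g, ← mul_assoc] at e
        rw [← mul_right_cancel₀ hπ0 e, map_mul, hres, mul_comm] }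
  have hn : IsUnit ((Nat.card G : ℕ) : O) := by
    rw [← IsLocalRing.residue_ne_zero_iff_isUnit, map_natCast]; exact hcard
  have key : ∀ g : G, χ g = 1 → g = 1 := by
    intro g hg
    have h1 : u g - 1 ∈ IsLocalRing.maximalIdeal O := by
      rw [← IsLocalRing.residue_eq_zero_iff, map_sub, map_one, sub_eq_zero]; exact hg
    apply FaithfulSMul.eq_of_smul_eq_smul (α := O)
    intro a
    rw [one_smul]
    have hiter : ∀ (i : ℕ) (b : O), (fun b => g • b)^[i] b = g ^ i • b := by
      intro i b; induction i with
      | zero => simp
      | succ i ih => rw [Function.iterate_succ_apply', ih, smul_smul, pow_succ']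
    refine CA2H40.eq_self_of_tame (MulSemiringAction.toRingHom G O g) (Nat.card G) hn
      (fun b => ?_) (htriv g) (fun b hb => ?_) a
    · show (fun b => g • b)^[Nat.card G] b = b
      rw [hiter, pow_card_eq_one', one_smul]
    · obtain ⟨c, rfl⟩ := Ideal.mem_span_singleton'.1 (hm ▸ hb)
      show g • (c * π) - c * π ∈ _
      have hπm : π ∈ IsLocalRing.maximalIdeal O := hm ▸ Ideal.mem_span_singleton_self π
      have e : g • (c * π) - c * π = (g • c - c) * (u g * π) + c * ((u g - 1) * π) := by
        rw [smul_mul', hu g]; ring
      rw [e, pow_two]
      exact add_mem (Ideal.mul_mem_mul (htriv g c) (Ideal.mul_mem_left _ _ hπm))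
        (Ideal.mul_mem_left _ _ (Ideal.mul_mem_mul h1 hπm))
  have hinj : Function.Injective χ := by
    intro g h e
    have : χ (g * h⁻¹) = 1 := by
      rw [map_mul, e, ← map_mul, mul_inv_cancel, map_one]
    exact mul_inv_eq_one.1 (key _ this)
  exact isCyclic_of_subgroup_isDomain χ hinj

end Groth.Agent.S19856
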