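import Groth.Statements.S19878
import Groth.Agent.FComplLib.IdealComap
import Mathlib.AlgebraicGeometry.Noetherian
import Mathlib.AlgebraicGeometry.Morphisms.Immersion
import Mathlib.RingTheory.Ideal.IdempotentFG

set_option autoImplicit false
set_option linter.style.haveILetI false
universe u
open LVCorr

namespace Groth.Agent.S19878

open AlgebraicGeometry in
/-- An ideal sheaf with stationary powers on a locally Noetherian scheme has open support. -/
theorem isOpen_support {Y : Scheme.{u}} [IsLocallyNoetherian Y] (J : Y.IdealSheafData) (m : ℕ)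
    (h : J ^ m ≤ J ^ (m + 1)) : IsOpen (J.support : Set Y) := by
  rw [isOpen_iff_forall_mem_open]
  intro x hx
  obtain ⟨_, ⟨U, hU, rfl⟩, hxU, -⟩ := Y.isBasis_affineOpens.exists_subset_of_mem_open
    (Set.mem_univ x) isOpen_univ
  let U' : Y.affineOpens := ⟨U, hU⟩
  haveI : IsNoetherianRing Γ(Y, U) := IsLocallyNoetherian.component_noetherian U'
  let a := J.ideal U'
  have hle : a ^ m ≤ a ^ (m + 1) := h U'
  have heq : a ^ m = a ^ (m + 1) := le_antisymm hle (Ideal.pow_le_pow_right m.le_succ)
  have hstab : ∀ j, a ^ (m + j) = a ^ m := by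
    intro j
    induction j with
    | zero => rfl
    | succ j ih => rw [← add_assoc, pow_succ, ih, ← pow_succ, ← heq]
  have hidem : IsIdempotentElem (a ^ (m + 1)) := by
    show a ^ (m + 1) * a ^ (m + 1) = a ^ (m + 1)
    rw [← pow_add, ← heq, show m + 1 + (m + 1) = m + (m + 2) by omega]
    exact hstab _
  obtain ⟨e, he, hspan⟩ :=
    (Ideal.isIdempotentElem_iff_of_fg _ (IsNoetherian.noetherian _)).1 hidem
  have hsupp : ∀ y : Y, y ∈ U → (y ∈ J.support ↔ y ∉ Y.basicOpen e) := by
    intro y hy
    rw [← J.support_pow_succ m, Scheme.IdealSheafData.mem_support_iff_of_mem (U := U') hy,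
      Scheme.IdealSheafData.ideal_pow, Pi.pow_apply, hspan, Ideal.submodule_span_eq,
      Scheme.zeroLocus_span, Scheme.mem_zeroLocus_iff]
    simp
  have hcompl : ∀ y : Y, y ∈ U → (y ∈ Y.basicOpen (1 - e) ↔ y ∉ Y.basicOpen e) := by
    intro y hy
    rw [Scheme.mem_basicOpen _ _ _ hy, Scheme.mem_basicOpen _ _ _ hy, map_sub, map_one]
    set g := (Y.presheaf.germ U y hy).hom e with hg
    have hgi : IsIdempotentElem g := he.map _
    have h01 := (IsLocalRing.isUnit_or_isUnit_one_sub_self g)
    constructor
    · intro h1 h2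
      exact not_isUnit_zero (show IsUnit (0 : Y.presheaf.stalk y) from hgi.mul_one_sub_self ▸ h2.mul h1)
    · intro h2
      exact h01.resolve_left h2
  refine ⟨Y.basicOpen (1 - e), fun y hy => ?_, (Y.basicOpen (1 - e)).2,
    (hcompl x hxU).2 ((hsupp x hxU).1 hx)⟩
  have hyU : y ∈ U := Y.basicOpen_le _ hy
  exact (hsupp y hyU).2 ((hcompl y hyU).1 hy)


open AlgebraicGeometry CategoryTheory CategoryTheory.Limits in
/-- Let k be a field, C a k-scheme of finite type, X a k-scheme and c = (c₁, c₂) : C → X ×_k X a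
correspondence; let Fix(c) = C ×_{X ×_k X} X be its scheme of fixed points (pullback along the
diagonal), with projections i : Fix(c) → C and δ : Fix(c) → X. Let Z ⊂ X be the closed subscheme of
a quasi-coherent ideal I and suppose c is contracting near Z in a neighbourhood of the fixed points:
there is an open W ⊆ C containing the image of Fix(c) such that on W the inverse image ideal of I
under c₁ is contained in the inverse image ideal of I under c₂ (c stabilizes Z on W) and some power
(I·O_W via c₁)^k₀ is contained in (I·O_W via c₂)^(k₀+1). Then every connected open subset β of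
Fix(c) whose image under δ meets Z is contained, as a set, in δ⁻¹(Z). (The source works with
separated schemes of finite type over an algebraically closed field; this row assumes only that C is
of finite type over a field k.) -/
theorem result {C X Fx : Scheme.{u}} (k : Type u) [Field k]
    (pC : C ⟶ Spec (CommRingCat.of k)) [LocallyOfFiniteType pC] [QuasiCompact pC]
    (pX : X ⟶ Spec (CommRingCat.of k)) (c₁ c₂ : C ⟶ X) (hc : c₁ ≫ pX = c₂ ≫ pX)
    (i : Fx ⟶ C) (δ : Fx ⟶ X) (hF : IsPullback i δ (pullback.lift c₁ c₂ hc) (pullback.diagonal pX))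
    (I : X.IdealSheafData) (W : C.Opens) (hW : Set.range i.base ⊆ (W : Set C))
    (hle : I.comap (W.ι ≫ c₁) ≤ I.comap (W.ι ≫ c₂))
    (k₀ : ℕ) (hpow : I.comap (W.ι ≫ c₁) ^ k₀ ≤ I.comap (W.ι ≫ c₂) ^ (k₀ + 1))
    (β : Fx.Opens) (hβ : _root_.IsConnected (β : Set Fx))
    (hβZ : (δ.base '' (β : Set Fx) ∩ (I.support : Set X)).Nonempty) :
    (β : Set Fx) ⊆ δ.base ⁻¹' (I.support : Set X) := by
  haveI : IsLocallyNoetherian C := LocallyOfFiniteType.isLocallyNoetherian pC
  haveI : IsImmersion i := MorphismProperty.of_isPullback hF.flip inferInstance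
  haveI : IsLocallyNoetherian Fx := LocallyOfFiniteType.isLocallyNoetherian i
  have hw : i ≫ c₁ = δ ∧ i ≫ c₂ = δ := by
    have h1 := congrArg (· ≫ pullback.fst pX pX) hF.w
    have h2 := congrArg (· ≫ pullback.snd pX pX) hF.w
    simp only [Category.assoc, pullback.lift_fst, pullback.lift_snd, pullback.diagonal_fst,
      pullback.diagonal_snd, Category.comp_id] at h1 h2
    exact ⟨h1, h2⟩
  let i' : Fx ⟶ (W : Scheme.{u}) := IsOpenImmersion.lift W.ι i (by
    rw [W.range_ι]; exact hW)
  have hi' : i' ≫ W.ι = i := IsOpenImmersion.lift_fac _ _ _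
  set J := I.comap δ with hJ
  have hJ1 : (I.comap (W.ι ≫ c₁)).comap i' = J := by
    rw [← Scheme.IdealSheafData.comap_comp, ← Category.assoc, hi', hw.1]
  have hJ2 : (I.comap (W.ι ≫ c₂)).comap i' = J := by
    rw [← Scheme.IdealSheafData.comap_comp, ← Category.assoc, hi', hw.2]
  have hst : J ^ k₀ ≤ J ^ (k₀ + 1) := by
    have h := Scheme.IdealSheafData.comap_mono (f := i') hpow
    dsimp only at h
    rwa [FComplLib.comap_pow, FComplLib.comap_pow, hJ1, hJ2] at h
  have hsupp : (J.support : Set Fx) = δ.base ⁻¹' (I.support : Set X) := by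
    rw [hJ, Scheme.IdealSheafData.support_comap]
    rfl
  have hclopen : IsClopen (J.support : Set Fx) := ⟨J.support.isClosed, isOpen_support J k₀ hst⟩
  rw [← hsupp]
  refine hβ.isPreconnected.subset_isClopen hclopen ?_
  obtain ⟨_, ⟨z, hz, rfl⟩, hzI⟩ := hβZ
  exact ⟨z, hz, hsupp.ge hzI⟩

end Groth.Agent.S19878
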