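import Groth.Statements.S19880
import Groth.Agent.Jac4.Vanish
import Groth.Agent.GrpSchLib.SepPoints
import Groth.Agent.CurveFin75.Degree

set_option autoImplicit false
universe u
open CategoryTheory CategoryTheory.Limits AlgebraicGeometry
open JacVar
open Groth.Agent Groth.Agent.Jac4 Groth.Agent.CurveBundle Groth.Agent.CurveSlope Groth.Agent.CurveStable Groth.Agent.CurvePoint

set_option linter.style.haveILetI false
set_option backward.isDefEq.respectTransparency false
set_option backward.isDefEq.respectTransparency.types false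
set_option synthInstance.maxHeartbeats 100000
set_option maxHeartbeats 1000000

namespace Groth.Agent.S19880

/-- Sections can be killed one rational point at a time. -/
theorem exists_points (k : Type u) [Field k] [IsSepClosed k] (C : Scheme.{u})
    [C.Over (Spec (CommRingCat.of k))] [IsIntegral C] [IsProper (C ↘ Spec (CommRingCat.of k))]
    [Smooth (C ↘ Spec (CommRingCat.of k))] (hdim : topologicalKrullDim ↥C = 1) :
    ∀ (n : ℕ) (L : C.Modules), PicF.IsInvertible L → Module.finrank k (Coh.HH C L 0) = n + 1 →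
      ∃ σ : Fin n → (Spec (CommRingCat.of k) ⟶ C), (∀ t, σ t ≫ (C ↘ Spec (CommRingCat.of k)) = 𝟙 _) ∧
        Module.finrank k (Coh.HH C (CohB1.tensorMod L (FGA.tensorList (List.ofFn fun t : Fin n =>
          ClSub.idealMod (σ t).ker))) 0) = 1 := by
  haveI := CurveCohLib.isNoetherian_of_proper (k := k) (X := C)
  intro n
  induction n with
  | zero =>
    intro L _ h
    refine ⟨Fin.elim0, fun t => t.elim0, ?_⟩
    rw [List.ofFn_zero]
    exact (CurveCohLib.hhEquiv (k := k) (KFlatLib.tensorUnitIso L) 0).finrank_eq.trans h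
  | succ n ih =>
    intro L hL h
    obtain ⟨t, ht⟩ : ∃ t : Coh.HH C L 0, t ≠ 0 := by
      haveI : Nontrivial (Coh.HH C L 0) := Module.nontrivial_of_finrank_pos (R := k) (by omega)
      exact exists_ne 0
    obtain ⟨Z, hZ, hZcl, hsur⟩ := Jac4.exists_finite_surjective k hdim CurveDeg.isInvertible_structureModule
      hL _ (CurveSpecial.homOfClass_ne_zero ht)
    obtain ⟨q, -, hq⟩ := CurveTwist.exists_closed_notMem k hdim hZ
    have hZc : IsClosed Z := by
      rw [← Set.biUnion_of_singleton Z]
      exact hZ.isClosed_biUnion hZcl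
    obtain ⟨P, hP, hPZ⟩ := GrpSchLib.exists_point_of_smooth (C ↘ Spec (CommRingCat.of k))
      ⟨Zᶜ, hZc.isOpen_compl⟩ (x := q) hq
    have hres := VBCurvesLib.surjective_resMap_of_section k P hP
    obtain ⟨-, -, -, -, hgen⟩ := twist_bounds k (isClosed_pt hP) hdim hres hL
    have h0 := hgen fun v => by
      obtain ⟨y, hy⟩ := hsur (pt P) hPZ v
      obtain ⟨a, ha⟩ := CurveSection.homOfTop_stalk_eq_smul
        (Sheaf.H.equiv₀ (Coh.toAb L) isTerminalTop t : Γ(L, ⊤)) (pt P) y
      obtain ⟨c, hc⟩ := hres (C.residue (pt P) a)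
      refine ⟨c • t, ?_⟩
      rw [show v = a • L.presheaf.germ ⊤ (pt P) trivial
        (Sheaf.H.equiv₀ (Coh.toAb L) isTerminalTop t : Γ(L, ⊤)) from hy.symm.trans ha,
        CurveCohLib.germ_h0Equiv_smul, ← sub_smul]
      exact Submodule.smul_mem_smul (Ideal.Quotient.eq.1 hc.symm) Submodule.mem_top
    have hI := isInvertible_idealMod k hdim hP
    have hL' : PicF.IsInvertible (CohB1.tensorMod L (ClSub.idealMod P.ker)) :=
      InvX.isInvertible_tensorMod hL hI
    obtain ⟨σ, hσ, hrec⟩ := ih _ hL' (by
      have h1 : Module.finrank k (Coh.HH C (CohB1.tensorMod L (ClSub.idealMod P.ker)) 0) + 1 =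
          Module.finrank k (Coh.HH C L 0) := by
        rw [ker_eq_ptIdeal hP]
        exact h0
      omega)
    refine ⟨Fin.cons P σ, fun i => Fin.cases hP hσ i, ?_⟩
    rw [List.ofFn_succ]
    obtain ⟨eA⟩ := H23.PicMul.assoc L (ClSub.idealMod P.ker)
      (FGA.tensorList (List.ofFn fun t : Fin n => ClSub.idealMod (σ t).ker))
    exact (CurveCohLib.hhEquiv (k := k) eA 0).finrank_eq.symm.trans hrec

/-- Let k be a separably closed field, C a smooth proper geometrically connected curve of genus g > 0
over k with a k-rational point, and r > 2g an integer. Then for every effective divisor D of degree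
r on C there is an (r − g)-tuple γ = (P_1, …, P_{r−g}) of k-rational points of C with h⁰(D − P_1 − ⋯
− P_{r−g}) = 1; since every invertible module L of degree r > 2g − 2 is of the form O(D) with D
effective, this is stated as: for every invertible module L of degree r on C there are k-rational
points P_1, …, P_{r−g} with h⁰(C, L ⊗ I_{P_1} ⊗ ⋯ ⊗ I_{P_{r−g}}) = 1. (In the source this is the
statement that the symmetric power C^(r) is the union of the open pieces C^γ.) -/
theorem result (k : Type u) [Field k] [IsSepClosed k]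
    (C : Scheme.{u}) [C.Over (Spec (CommRingCat.of k))]
    [IsProper (C ↘ Spec (CommRingCat.of k))] [Smooth (C ↘ Spec (CommRingCat.of k))] [GeometricallyConnected (C ↘ Spec (CommRingCat.of k))]
    (hdim : topologicalKrullDim ↥C = 1)
    (g : ℕ) (hg : Curv2.genus k C = g) (hg0 : 0 < g)
    (σ₀ : Spec (CommRingCat.of k) ⟶ C) (hσ₀ : σ₀ ≫ (C ↘ Spec (CommRingCat.of k)) = 𝟙 _)
    (r : ℕ) (hr : 2 * g < r)
    (L : C.Modules) (hL : PicF.IsInvertible L) (hLdeg : Curv2.deg k C L 1 = (r : ℤ)) :
    ∃ σ : Fin (r - g) → (Spec (CommRingCat.of k) ⟶ C), (∀ t, σ t ≫ (C ↘ Spec (CommRingCat.of k)) = 𝟙 _) ∧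
      Module.finrank k (Coh.HH C (CohB1.tensorMod L (FGA.tensorList (List.ofFn fun t : Fin (r - g) =>
        ClSub.idealMod (σ t).ker))) 0) = 1 := by
  haveI : ConnectedSpace C := by
    haveI : Subsingleton ↥(Spec (CommRingCat.of k)) := inferInstanceAs (Subsingleton (PrimeSpectrum k))
    exact GeometricallyConnected.connectedSpace_of_subsingleton (f := C ↘ Spec (CommRingCat.of k))
  haveI := QuasiCompact.compactSpace_of_compactSpace (C ↘ Spec (CommRingCat.of k))
  haveI := CurveCohLib.isIntegral_of_smooth_connected (C ↘ Spec (CommRingCat.of k))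
  subst hg
  have h1 := CurveFin75.subsingleton_h1 k hdim (CurveBC.finrank_h0_of_geometricallyConnected k C) hL
    (by omega)
  have h2 := h0_sub_h1 k hdim hL
  exact exists_points k C hdim _ L hL (by omega)

end Groth.Agent.S19880
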