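import Groth.Statements.S1990
import Groth.Agent.EtRam46.Compositum

set_option autoImplicit false
universe u
open EtAlg

namespace Groth.Agent.S1990

/-- Let K be the fraction field of a discrete valuation ring A, and K ⊂ L ⊂ M finite separable
extensions. If L/K is tamely ramified (resp. unramified) with respect to A and M/L is tamely
ramified (resp. unramified) with respect to every valuation subring of L dominating A, then M/K is
tamely ramified (resp. unramified) with respect to A. -/
theorem result (A K : Type u) [CommRing A] [IsDomain A] [IsDiscreteValuationRing A] [Field K] [Algebra A K] [IsFractionRing A K] (L M : Type u) [Field L] [Field M]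
    [Algebra K L] [Algebra K M] [Algebra L M] [IsScalarTower K L M] [FiniteDimensional K M] [Algebra.IsSeparable K M] :
    (EtRam.IsTamelyRamified A ((algebraMap K L).comp (algebraMap A K)) →
      (∀ (V : ValuationSubring L), EtRam.Dominates A ((algebraMap K L).comp (algebraMap A K)) V →
        EtRam.IsTamelyRamified V ((algebraMap L M).comp V.subtype)) →
      EtRam.IsTamelyRamified A ((algebraMap K M).comp (algebraMap A K))) ∧
    (EtRam.IsUnramifiedExt A ((algebraMap K L).comp (algebraMap A K)) →
      (∀ (V : ValuationSubring L), EtRam.Dominates A ((algebraMap K L).comp (algebraMap A K)) V →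
        EtRam.IsUnramifiedExt V ((algebraMap L M).comp V.subtype)) →
      EtRam.IsUnramifiedExt A ((algebraMap K M).comp (algebraMap A K))) := by
  haveI : FiniteDimensional K L := FiniteDimensional.left K L M
  haveI : FiniteDimensional L M := FiniteDimensional.right K L M
  have hg : (algebraMap L M).comp ((algebraMap K L).comp (algebraMap A K)) = (algebraMap K M).comp (algebraMap A K) := by
    rw [← RingHom.comp_assoc, ← IsScalarTower.algebraMap_eq]
  have hgL : Function.Injective ((algebraMap K L).comp (algebraMap A K)) :=
    (algebraMap K L).injective.comp (IsFractionRing.injective A K)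
  refine ⟨fun h₁ h₂ => (Groth.Agent.EtRam46.isTamelyRamified_iff_tameExt A K M).2 fun W hW => ?_,
    fun h₁ h₂ => (Groth.Agent.EtRam46.isUnramifiedExt_iff_unramExt A K M).2 fun W hW => ?_⟩
  · haveI := Groth.Agent.EtRam46.isDVR_of_finite K hW
    rw [← hg] at hW ⊢
    have hd := (Groth.Agent.EtRam46.dominates_comap (algebraMap L M)).2 hW
    haveI := Groth.Agent.EtRam46.isDVR_of_finite K hd
    have h := (Groth.Agent.EtRam46.isTamelyRamified_iff (g := (algebraMap L M).comp (W.comap (algebraMap L M)).subtype) ((algebraMap L M).injective.comp Subtype.val_injective)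
      (fun V hV => Groth.Agent.EtRam46.isDVR_of_finite (A := W.comap (algebraMap L M)) L hV)).1 (h₂ _ hd) W (Groth.Agent.EtRam46.dominates_mid _)
    exact Groth.Agent.EtRam46.Tame.trans hW ((Groth.Agent.EtRam46.isTamelyRamified_iff_tameExt A K L).1 h₁ _ hd) h
  · haveI := Groth.Agent.EtRam46.isDVR_of_finite K hW
    rw [← hg] at hW ⊢
    have hd := (Groth.Agent.EtRam46.dominates_comap (algebraMap L M)).2 hW
    haveI := Groth.Agent.EtRam46.isDVR_of_finite K hd
    have h := (Groth.Agent.EtRam46.isUnramifiedExt_iff (g := (algebraMap L M).comp (W.comap (algebraMap L M)).subtype) ((algebraMap L M).injective.comp Subtype.val_injective)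
      (fun V hV => Groth.Agent.EtRam46.isDVR_of_finite (A := W.comap (algebraMap L M)) L hV)).1 (h₂ _ hd) W (Groth.Agent.EtRam46.dominates_mid _)
    exact Groth.Agent.EtRam46.Unram.trans hW ((Groth.Agent.EtRam46.isUnramifiedExt_iff_unramExt A K L).1 h₁ _ hd) h

end Groth.Agent.S1990
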