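import Groth.Statements.S19901
import Groth.Statements.S19901
import Groth.Agent.AlgStLib.LocQCalc
import Groth.Agent.AlgStLib.RedSubstack
import Groth.Agent.AlgStLib.RatPoint
import Groth.Agent.CurvLocusLib.LocP

set_option backward.isDefEq.respectTransparency false
set_option backward.isDefEq.respectTransparency.types false

set_option autoImplicit false
universe u
open CategoryTheory AlgebraicGeometry
open AlgSt

open CategoryTheory CategoryTheory.Limits AlgebraicGeometry AlgSp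
open Groth.Agent.FibBase Groth.Agent.AlgStLib Groth.Agent.AlgSpLib

namespace Groth.Agent.S19901

variable {S : Scheme.{u}}

theorem exists_overMap_iso {U V : Over S} (G : FibCat.overCat U ⥤ᵇ FibCat.overCat V) :
    ∃ h : U ⟶ V, Nonempty (G ≅ AlgSt.overMap h) := by
  obtain ⟨h, ⟨i⟩⟩ := exists_mapB G
  exact ⟨h, ⟨i.symm⟩⟩

theorem eq_of_overMap_iso {U V : Over S} {a b : U ⟶ V} (i : AlgSt.overMap a ≅ AlgSt.overMap b) : a = b :=
  (yon S).map_injective ((spHom_toOverCat_comp (Iso.refl _)).symm.trans (spHom_toOverCat_comp i))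

/-- A smooth surjective functor from a scheme, pulled back along a functor from a scheme. -/
theorem exists_smooth_cover {𝒲 : AlgSt.Cat S} {U V : Over S} (g : FibCat.overCat U ⥤ᵇ 𝒲)
    (d : FibCat.overCat V ⥤ᵇ 𝒲) (hd : AlgSt.RepByAlgSpWith (LocP @Smooth) d)
    (hd' : AlgSt.RepByAlgSpWith IsSurjectiveMor d) :
    ∃ (T : Over S) (c : T ⟶ U) (a : T ⟶ V), LocP @Smooth ((yon S).map c) ∧
      IsSurjectiveMor ((yon S).map c) ∧
      Nonempty (BasedFunctor.comp (AlgSt.overMap c) g ≅ BasedFunctor.comp (AlgSt.overMap a) d) := by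
  obtain ⟨F, e, he, hP⟩ := hd U g
  obtain ⟨-, hs⟩ := (show RepOver IsSurjectiveMor (FibCat.fpFst g d) from hd' U g).property_of_stableBC
    stableBC_isSurjectiveMor e he
  let q := AlgSt.spMapOfOver (BasedFunctor.comp e (FibCat.fpFst g d))
  obtain ⟨T, p, hp, hp'⟩ := F.property.atlas
  obtain ⟨c, hc⟩ := (yon S).map_surjective (p ≫ q)
  obtain ⟨a, ha⟩ := (yon S).map_surjective (p ≫ AlgSt.spMapOfOver (BasedFunctor.comp e (FibCat.fpSnd g d)))
  let i₁ := overMapPullIso p (BasedFunctor.comp e (FibCat.fpFst g d)) c hc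
  let i₂ := overMapPullIso p (BasedFunctor.comp e (FibCat.fpSnd g d)) a ha
  refine ⟨T, c, a, ?_, ?_, ⟨whiskerRightIso i₁.symm g ≪≫
    whiskerLeftIso (BasedFunctor.comp (overOfMap p) e) (FibCat.fpIso g d) ≪≫ whiskerRightIso i₂ d⟩⟩
  · rw [hc]
    exact locP_comp (IsAlgSpace.yon_obj T) F.property (IsAlgSpace.yon_obj U)
      (locP_mono etale_le_smooth (locP_of_repWith hp)) hP
  · rw [hc]
    exact stableComp_isSurjectiveMor (IsAlgSpace.yon_obj T) F.property (IsAlgSpace.yon_obj U) p q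
      (surjective_map_of_repWith hp') hs

/-- Let f : 𝒳 → 𝒴, q : 𝒴 → 𝒵 and p : 𝒳 → 𝒵 be morphisms of algebraic stacks forming a 2-commutative
triangle (a 2-isomorphism between q ∘ f and p is given). If q is smooth and p is a local complete
intersection morphism (Koszul), then f is a local complete intersection morphism. Smooth and local
complete intersection morphisms of algebraic stacks are read on one square of smooth scheme charts. -/
theorem result
    (S : Scheme.{u}) (𝒳 : AlgSt.Cat S) (𝒴 : AlgSt.Cat S) (𝒵 : AlgSt.Cat S)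
    (h𝒳 : AlgSt.IsAlgStack Scheme.fppfPrecoverage 𝒳)
    (h𝒴 : AlgSt.IsAlgStack Scheme.fppfPrecoverage 𝒴)
    (h𝒵 : AlgSt.IsAlgStack Scheme.fppfPrecoverage 𝒵)
    (f : 𝒳 ⥤ᵇ 𝒴) (q : 𝒴 ⥤ᵇ 𝒵) (p : 𝒳 ⥤ᵇ 𝒵) (e : BasedFunctor.comp f q ≅ p)
    (hq : AlgSt.LocQ (AlgSp.LocP @Smooth) q) (hp : AlgSt.LocQ AlgSp.IsLCIMor p) :
    AlgSt.LocQ AlgSp.IsLCIMor f := by
  obtain ⟨U, W, x, z, h, ⟨α⟩, hx, hx', hz, hh⟩ : ∃ (U W : Over S) (x : FibCat.overCat U ⥤ᵇ 𝒳)
      (z : FibCat.overCat W ⥤ᵇ 𝒵) (h : U ⟶ W),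
      Nonempty (BasedFunctor.comp x p ≅ BasedFunctor.comp (AlgSt.overMap h) z) ∧
      AlgSt.RepByAlgSpWith (LocP @Smooth) x ∧ AlgSt.RepByAlgSpWith IsSurjectiveMor x ∧
      AlgSt.RepByAlgSpWith (LocP @Smooth) z ∧ IsLCIMor ((yon S).map h) := by
    obtain ⟨U, W, x, z, h, α, r⟩ := hp
    exact ⟨U, W, x, z, h, ⟨α⟩, r⟩
  have hstk : AlgSt.IsAlgStack Scheme.fppfPrecoverage (FibCat.fp q z) :=
    isAlgStack_fp h𝒴 (isAlgStack_overCat W) h𝒵.isStack h𝒵.diag q z
  obtain ⟨V, d, hd, hd'⟩ := hstk.atlas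
  let g : FibCat.overCat U ⥤ᵇ FibCat.fp q z :=
    FibCat.fpLift (BasedFunctor.comp x f) (AlgSt.overMap h)
      ((show BasedFunctor.comp (BasedFunctor.comp x f) q ≅ BasedFunctor.comp x p from whiskerLeftIso x e) ≪≫ α)
  obtain ⟨T, c, a, hc, hc', ⟨β⟩⟩ := exists_smooth_cover g d hd hd'
  obtain ⟨v, ⟨iv⟩⟩ := exists_overMap_iso (BasedFunctor.comp d (FibCat.fpSnd q z))
  have hv : LocP @Smooth ((yon S).map v) :=
    LocQS.scheme ((locQ_iff_locQS isSmoothLocalST_smooth h𝒴 h𝒵 q).1 hq) d hz hd iv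
  have hav : a ≫ v = c ≫ h := eq_of_overMap_iso ((overMapCompIso a v).symm ≪≫
    whiskerLeftIso (AlgSt.overMap a) iv.symm ≪≫ whiskerRightIso β.symm (FibCat.fpSnd q z) ≪≫ overMapCompIso c h)
  have hfib := fp_isFibGrpd (F := q) (G := z) h𝒴.isStack.1 (isFibGrpd_overCat W) h𝒵.isStack.1
  have : Smooth c.left := locP_yon_map hc
  have : Smooth v.left := locP_yon_map hv
  refine ⟨T, V, BasedFunctor.comp (AlgSt.overMap c) x, BasedFunctor.comp d (FibCat.fpFst q z), a,
    (show BasedFunctor.comp (BasedFunctor.comp (AlgSt.overMap c) x) f ≅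
        BasedFunctor.comp (BasedFunctor.comp (AlgSt.overMap c) g) (FibCat.fpFst q z) from Iso.refl _) ≪≫
      whiskerRightIso β (FibCat.fpFst q z),
    repByAlgSpWith_locP_comp (isFibGrpd_overCat T) (isFibGrpd_overCat U)
      (repByAlgSpWith_overMap stableBC_locP hc) hx,
    repByAlgSpWith_isSurjectiveMor_comp (isFibGrpd_overCat T) (isFibGrpd_overCat U)
      (repByAlgSpWith_overMap stableBC_isSurjectiveMor hc') hx',
    repByAlgSpWith_locP_comp (isFibGrpd_overCat V) hfib hd (repByAlgSpWith_fpFst q hz), ?_⟩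
  refine (CurvLocusLib.isLCIMor_yon_iff a).2 (KRegLib.isKoszulAt_of_comp_smooth a.left v.left ?_)
  rw [← Over.comp_left, hav, Over.comp_left]
  exact S8661.result _ _ (CurvLocusLib.isKoszulAt_of_smooth c.left) ((CurvLocusLib.isLCIMor_yon_iff h).1 hh)

end Groth.Agent.S19901
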