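import Groth.Statements.S19902
import Groth.Statements.S19902
import Groth.Agent.AlgStkX.SmoothOpen

set_option backward.isDefEq.respectTransparency false
set_option backward.isDefEq.respectTransparency.types false

set_option autoImplicit false
universe u
open CategoryTheory AlgebraicGeometry
open AlgSt

open CategoryTheory CategoryTheory.Functor CategoryTheory.Limits AlgebraicGeometry AlgSp
open Groth.Agent.FibBase Groth.Agent.AlgSpLib Groth.Agent.AlgStLib Groth.Agent.AlgStkX.SmoothOpen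

namespace Groth.Agent.S19902

/-- Let f : 𝒳 → 𝒴 be a morphism of algebraic stacks and 𝒰 ⊂ 𝒳 the largest open substack on which f is
smooth. Formation of 𝒰 commutes with precomposing by smooth morphisms: for a smooth g : 𝒳' → 𝒳, the
inverse image of 𝒰 in 𝒳' is the largest open substack of 𝒳' on which f ∘ g is smooth. Open substacks
are given by their object predicates, the inverse image by composing the predicate with g on
objects, and smoothness is read on one square of smooth scheme charts. -/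
theorem result
    (S : Scheme.{u}) (𝒳' : AlgSt.Cat S) (𝒳 : AlgSt.Cat S) (𝒴 : AlgSt.Cat S)
    (h𝒳' : AlgSt.IsAlgStack Scheme.fppfPrecoverage 𝒳')
    (h𝒳 : AlgSt.IsAlgStack Scheme.fppfPrecoverage 𝒳)
    (h𝒴 : AlgSt.IsAlgStack Scheme.fppfPrecoverage 𝒴)
    (g : 𝒳' ⥤ᵇ 𝒳) (hg : AlgSt.LocQ (AlgSp.LocP @Smooth) g) (f : 𝒳 ⥤ᵇ 𝒴)
    (Q : 𝒳.obj → Prop) (hQ₁ : AlgSt.IsOpenSubstack 𝒳 Q Scheme.fppfPrecoverage)
    (hQ₂ : AlgSt.LocQ (AlgSp.LocP @Smooth) (BasedFunctor.comp (AlgSt.subIncl 𝒳 Q) f))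
    (hQ₃ : ∀ Q' : 𝒳.obj → Prop, AlgSt.IsOpenSubstack 𝒳 Q' Scheme.fppfPrecoverage →
      AlgSt.LocQ (AlgSp.LocP @Smooth) (BasedFunctor.comp (AlgSt.subIncl 𝒳 Q') f) → ∀ a, Q' a → Q a) :
    AlgSt.IsOpenSubstack 𝒳' (fun a ↦ Q (g.obj a)) Scheme.fppfPrecoverage ∧
      AlgSt.LocQ (AlgSp.LocP @Smooth)
        (BasedFunctor.comp (AlgSt.subIncl 𝒳' (fun a ↦ Q (g.obj a))) (BasedFunctor.comp g f)) ∧
      ∀ Q' : 𝒳'.obj → Prop, AlgSt.IsOpenSubstack 𝒳' Q' Scheme.fppfPrecoverage →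
        AlgSt.LocQ (AlgSp.LocP @Smooth) (BasedFunctor.comp (AlgSt.subIncl 𝒳' Q') (BasedFunctor.comp g f)) →
        ∀ a, Q' a → Q (g.obj a) := by
  have hX := h𝒳.isStack.1
  have hX' := h𝒳'.isStack.1
  have hY := h𝒴.isStack.1
  obtain ⟨U, W, y, c, h, hy, hc, hx, hxs, ⟨ih⟩⟩ := exists_smooth_chart h𝒳 h𝒴 f
  let x := BasedFunctor.comp c (FibCat.fpFst f y)
  let α : BasedFunctor.comp x f ≅ BasedFunctor.comp (AlgSt.overMap h) y :=
    whiskerLeftIso c (FibCat.fpIso f y) ≪≫ whiskerRightIso ih y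
  obtain ⟨T, hT, rfl⟩ : ∃ T, IsOpen T ∧ Q = PtsIn T :=
    ⟨_, isOpen_range_of_isOpenImm hQ₁.2.1 h𝒳 hQ₁.2.2, eq_ptsIn_range h𝒳 hQ₁⟩
  have hle : ∀ u, AlgSt.Points.ofChart x u ∈ T → u ∈ smOpen h.left := fun u hu =>
    le_smOpen (smooth_of_locQ h𝒳 h𝒴 c hc hy ih hT hQ₂) hu
  have hge : ∀ u ∈ smOpen h.left, AlgSt.Points.ofChart x u ∈ T := fun u hu => by
    have hT₀ := isOpen_image h𝒳 hx (smOpen h.left)
    have hQ₀ := isOpenSubstack_ptsIn h𝒳 hT₀
    have hmem := ((bijOn_openSubstack h𝒳).2 _ _ hQ₀ hQ₁).1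
      (hQ₃ _ hQ₀ (locQ_of_open h𝒳 hx hy α (smooth_smOpen h.left) hT₀ rfl))
    rw [range_subIncl_ptsIn, range_subIncl_ptsIn] at hmem
    exact hmem ⟨u, hu, rfl⟩
  let T' := AlgSt.Points.map g ⁻¹' T
  have hT' : IsOpen T' := hT.preimage (continuous_pts_map hX h𝒳.atlas g)
  have hQeq : (fun a => PtsIn T (g.obj a)) = PtsIn T' := funext fun a => propext (ptsIn_map_iff hX hX' g T a)
  rw [hQeq]
  let Φ := FibCat.fpFst f y
  have hst := isAlgStack_fp h𝒳 (isAlgStack_overCat W) h𝒴.isStack h𝒴.diag f y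
  have hst' := isAlgStack_fp h𝒳' hst h𝒳.isStack h𝒳.diag g Φ
  obtain ⟨U', d, hd, hd'⟩ :=
    (isAlgStack_fp hst' (isAlgStack_overCat U) hst.isStack hst.diag (FibCat.fpSnd g Φ) c).atlas
  have hfib₁ := fp_isFibGrpd (F := g) (G := Φ) hX' hst.isStack.1 hX
  have hfib := fp_isFibGrpd (F := FibCat.fpSnd g Φ) (G := c) hfib₁ (isFibGrpd_overCat U) hst.isStack.1
  have hd₁ : AlgSt.RepByAlgSpWith (LocP @Smooth) (BasedFunctor.comp d (FibCat.fpFst (FibCat.fpSnd g Φ) c)) :=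
    repByAlgSpWith_locP_comp (isFibGrpd_overCat U') hfib hd (repByAlgSpWith_fpFst _ hc)
  let c' := BasedFunctor.comp (BasedFunctor.comp d (FibCat.fpFst (FibCat.fpSnd g Φ) c)) (pasteVert g f y)
  have hc' : AlgSt.RepByAlgSpWith (LocP @Smooth) c' :=
    repByAlgSpWith_postcomp (pasteVert_isEquivOver g f y) hd₁
  let c₂ := BasedFunctor.comp d (pasteHor g c Φ)
  have hc₂ : AlgSt.RepByAlgSpWith (LocP @Smooth) c₂ :=
    repByAlgSpWith_postcomp (pasteHor_isEquivOver g c Φ) hd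
  obtain ⟨a, ⟨ia⟩⟩ := exists_mapB (BasedFunctor.comp d (FibCat.fpSnd (FibCat.fpSnd g Φ) c))
  let ia' : BasedFunctor.comp c₂ (FibCat.fpSnd g x) ≅ AlgSt.overMap a := ia.symm
  have ha : Smooth a.left :=
    locP_yon_map (LocQS.scheme ((locQ_iff_locQS isSmoothLocalST_smooth h𝒳' h𝒳 g).1 hg) c₂ hx hc₂ ia')
  let ih' : BasedFunctor.comp c' (FibCat.fpSnd (BasedFunctor.comp g f) y) ≅ AlgSt.overMap (a ≫ h) :=
    (show BasedFunctor.comp c' (FibCat.fpSnd (BasedFunctor.comp g f) y) ≅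
      BasedFunctor.comp (BasedFunctor.comp d (FibCat.fpFst (FibCat.fpSnd g Φ) c))
        (BasedFunctor.comp (FibCat.fpSnd g Φ) (FibCat.fpSnd f y)) from Iso.refl _) ≪≫
    whiskerRightIso (whiskerLeftIso d (FibCat.fpIso (FibCat.fpSnd g Φ) c)) (FibCat.fpSnd f y) ≪≫
    whiskerRightIso ia' (BasedFunctor.comp c (FibCat.fpSnd f y)) ≪≫
    whiskerLeftIso (AlgSt.overMap a) ih ≪≫ overMapCompIso a h
  let x' := BasedFunctor.comp c₂ (FibCat.fpFst g x)
  have hfib₂ := fp_isFibGrpd (F := g) (G := x) hX' (isFibGrpd_overCat U) hX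
  have hx' : AlgSt.RepByAlgSpWith (LocP @Smooth) x' :=
    repByAlgSpWith_locP_comp (isFibGrpd_overCat U') hfib₂ hc₂ (repByAlgSpWith_fpFst g hx)
  have hxs' : AlgSt.RepByAlgSpWith IsSurjectiveMor x' :=
    repByAlgSpWith_isSurjectiveMor_comp (isFibGrpd_overCat U') hfib₂
      (repByAlgSpWith_postcomp (pasteHor_isEquivOver g c Φ) hd') (repByAlgSpWith_fpFst g hxs)
  let β : BasedFunctor.comp x' g ≅ BasedFunctor.comp (AlgSt.overMap a) x :=
    whiskerLeftIso c₂ (FibCat.fpIso g x) ≪≫ whiskerRightIso ia' x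
  have hpt : ∀ u : ↥U'.left,
      AlgSt.Points.map g (AlgSt.Points.ofChart x' u) = AlgSt.Points.ofChart x (a.left u) := fun u => by
    rw [ofChart_eq_map, ← pts_map_comp, pts_map_congr β, ← ofChart_eq_map, ofChart_overMap]
  let α' : BasedFunctor.comp x' (BasedFunctor.comp g f) ≅ BasedFunctor.comp (AlgSt.overMap (a ≫ h)) y :=
    (show BasedFunctor.comp x' (BasedFunctor.comp g f) ≅ BasedFunctor.comp (AlgSt.overMap a) (BasedFunctor.comp x f)
      from whiskerRightIso β f) ≪≫ whiskerLeftIso (AlgSt.overMap a) α ≪≫ whiskerRightIso (overMapCompIso a h) y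
  refine ⟨isOpenSubstack_ptsIn h𝒳' hT', ?_, fun Q' hQ' hloc => ?_⟩
  · let V : U'.left.Opens := a.left ⁻¹ᵁ smOpen h.left
    refine locQ_of_open h𝒳' hx' hy α' (V := V) ?_ hT' ?_
    · have := smooth_smOpen h.left
      rw [Over.comp_left, ← Category.assoc, ← Scheme.Hom.resLE_comp_ι a.left (le_refl V), Category.assoc]
      infer_instance
    · ext p
      constructor
      · intro hp
        obtain ⟨u, rfl⟩ := ofChart_surjective hX' hxs' p
        exact ⟨u, hle _ (by rw [← hpt]; exact hp), rfl⟩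
      · rintro ⟨u, hu, rfl⟩
        show AlgSt.Points.map g _ ∈ T
        rw [hpt]
        exact hge _ hu
  · obtain ⟨T'', hT'', rfl⟩ : ∃ T'', IsOpen T'' ∧ Q' = PtsIn T'' :=
      ⟨_, isOpen_range_of_isOpenImm hQ'.2.1 h𝒳' hQ'.2.2, eq_ptsIn_range h𝒳' hQ'⟩
    let V := chartOpen h𝒳' x' hT''
    have hsm : Smooth (V.ι ≫ (a ≫ h).left) := smooth_of_locQ h𝒳' h𝒴 c' hc' hy ih' hT'' hloc
    let O : U.left.Opens := ⟨a.left '' (V : Set U'.left), a.left.isOpenMap _ V.2⟩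
    have e : V ≤ a.left ⁻¹ᵁ O := fun u hu => ⟨u, hu, rfl⟩
    have : Surjective (a.left.resLE O V e) := ⟨fun o => by
      obtain ⟨u, hu, hu'⟩ := o.2
      refine ⟨⟨u, hu⟩, Subtype.ext ?_⟩
      have := congr($(Scheme.Hom.resLE_comp_ι a.left e) (⟨u, hu⟩ : V))
      exact this.trans hu'⟩
    have hO : Smooth (O.ι ≫ h.left) := by
      refine SrcDescent.smooth_of_smooth_comp (a.left.resLE O V e) _ ?_
      rw [← Category.assoc, Scheme.Hom.resLE_comp_ι, Category.assoc, ← Over.comp_left]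
      exact hsm
    intro b hb
    refine (ptsIn_map_iff hX hX' g T b).2 fun p φ => ?_
    obtain ⟨u, hu⟩ := ofChart_surjective hX' hxs' (AlgSt.Points.mk p)
    have huV : u ∈ V := show AlgSt.Points.ofChart x' u ∈ T'' from hu ▸ hb p φ
    show AlgSt.Points.map g (AlgSt.Points.mk p) ∈ T
    rw [← hu, hpt]
    exact hge _ (le_smOpen hO ⟨u, huV, rfl⟩)

end Groth.Agent.S19902
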