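import Groth.Statements.S1991
import Groth.Agent.EtRam46.Compositum
import Groth.Agent.EtRam46.Compositum

set_option autoImplicit false
universe u
open EtAlg

namespace Groth.Agent.S1991

/-- Let A be a discrete valuation ring with fraction field K. A finite separable extension L/K that is
unramified (resp. tamely ramified) with respect to A embeds over K into a finite Galois extension of
K that is unramified (resp. tamely ramified) with respect to A; and two finite separable extensions
of K that are unramified (resp. tamely ramified) with respect to A embed over K into a common finite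
separable extension with the same property. -/
theorem result (A K : Type u) [CommRing A] [IsDomain A] [IsDiscreteValuationRing A] [Field K] [Algebra A K] [IsFractionRing A K] :
    (∀ (L : Type u) [Field L] [Algebra K L] [FiniteDimensional K L] [Algebra.IsSeparable K L],
      (EtRam.IsUnramifiedExt A ((algebraMap K L).comp (algebraMap A K)) →
        ∃ (M : Type u) (_ : Field M) (_ : Algebra K M) (_ : FiniteDimensional K M) (_ : IsGalois K M) (_ : L →ₐ[K] M),
          EtRam.IsUnramifiedExt A ((algebraMap K M).comp (algebraMap A K))) ∧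
      (EtRam.IsTamelyRamified A ((algebraMap K L).comp (algebraMap A K)) →
        ∃ (M : Type u) (_ : Field M) (_ : Algebra K M) (_ : FiniteDimensional K M) (_ : IsGalois K M) (_ : L →ₐ[K] M),
          EtRam.IsTamelyRamified A ((algebraMap K M).comp (algebraMap A K)))) ∧
    (∀ (L₁ L₂ : Type u) [Field L₁] [Field L₂] [Algebra K L₁] [Algebra K L₂] [FiniteDimensional K L₁] [FiniteDimensional K L₂]
      [Algebra.IsSeparable K L₁] [Algebra.IsSeparable K L₂],
      (EtRam.IsUnramifiedExt A ((algebraMap K L₁).comp (algebraMap A K)) →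
        EtRam.IsUnramifiedExt A ((algebraMap K L₂).comp (algebraMap A K)) →
        ∃ (M : Type u) (_ : Field M) (_ : Algebra K M) (_ : FiniteDimensional K M) (_ : Algebra.IsSeparable K M)
          (_ : L₁ →ₐ[K] M) (_ : L₂ →ₐ[K] M), EtRam.IsUnramifiedExt A ((algebraMap K M).comp (algebraMap A K))) ∧
      (EtRam.IsTamelyRamified A ((algebraMap K L₁).comp (algebraMap A K)) →
        EtRam.IsTamelyRamified A ((algebraMap K L₂).comp (algebraMap A K)) →
        ∃ (M : Type u) (_ : Field M) (_ : Algebra K M) (_ : FiniteDimensional K M) (_ : Algebra.IsSeparable K M)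
          (_ : L₁ →ₐ[K] M) (_ : L₂ →ₐ[K] M), EtRam.IsTamelyRamified A ((algebraMap K M).comp (algebraMap A K)))) := by
  let Ω := AlgebraicClosure K
  refine ⟨fun L _ _ _ _ => ?_, fun L₁ L₂ _ _ _ _ _ _ _ _ => ?_⟩
  · let M := IntermediateField.normalClosure K L Ω
    haveI : Normal K M := normalClosure.normal K L Ω
    haveI : Algebra.IsSeparable K M := by
      show Algebra.IsSeparable K (IntermediateField.normalClosure K L Ω)
      rw [← le_separableClosure_iff]
      refine iSup_le fun φ => ?_
      rw [le_separableClosure_iff]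
      exact Algebra.IsSeparable.of_algHom K L (AlgEquiv.ofInjectiveField φ).symm.toAlgHom
    haveI : FiniteDimensional K M := normalClosure.is_finiteDimensional K L Ω
    haveI : IsGalois K M := ⟨⟩
    let σ : L →ₐ[K] Ω := IsAlgClosed.lift
    let τ : L →ₐ[K] M := σ.codRestrict M.toSubalgebra fun x => σ.fieldRange_le_normalClosure ⟨x, rfl⟩
    refine ⟨fun h => ⟨M, inferInstance, inferInstance, inferInstance, inferInstance, τ, ?_⟩,
      fun h => ⟨M, inferInstance, inferInstance, inferInstance, inferInstance, τ, ?_⟩⟩
    · rw [Groth.Agent.EtRam46.isUnramifiedExt_iff_unramExt] at h ⊢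
      exact Groth.Agent.EtRam46.UnramExt.normalClosure h
    · rw [Groth.Agent.EtRam46.isTamelyRamified_iff_tameExt] at h ⊢
      exact Groth.Agent.EtRam46.TameExt.normalClosure h
  · let σ₁ : L₁ →ₐ[K] Ω := IsAlgClosed.lift
    let σ₂ : L₂ →ₐ[K] Ω := IsAlgClosed.lift
    haveI : FiniteDimensional K σ₁.fieldRange := σ₁.toLinearMap.finiteDimensional_range
    haveI : FiniteDimensional K σ₂.fieldRange := σ₂.toLinearMap.finiteDimensional_range
    haveI : Algebra.IsSeparable K σ₁.fieldRange :=
      Algebra.IsSeparable.of_algHom K L₁ (AlgEquiv.ofInjectiveField σ₁).symm.toAlgHom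
    haveI : Algebra.IsSeparable K σ₂.fieldRange :=
      Algebra.IsSeparable.of_algHom K L₂ (AlgEquiv.ofInjectiveField σ₂).symm.toAlgHom
    let M := σ₁.fieldRange ⊔ σ₂.fieldRange
    let τ₁ : L₁ →ₐ[K] M := (IntermediateField.inclusion le_sup_left).comp σ₁.rangeRestrict
    let τ₂ : L₂ →ₐ[K] M := (IntermediateField.inclusion le_sup_right).comp σ₂.rangeRestrict
    refine ⟨fun h₁ h₂ => ⟨M, inferInstance, inferInstance, inferInstance, inferInstance, τ₁, τ₂, ?_⟩,
      fun h₁ h₂ => ⟨M, inferInstance, inferInstance, inferInstance, inferInstance, τ₁, τ₂, ?_⟩⟩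
    · rw [Groth.Agent.EtRam46.isUnramifiedExt_iff_unramExt] at h₁ h₂ ⊢
      exact Groth.Agent.EtRam46.UnramExt.sup _ _ (Groth.Agent.EtRam46.UnramExt.range σ₁ h₁) (Groth.Agent.EtRam46.UnramExt.range σ₂ h₂)
    · rw [Groth.Agent.EtRam46.isTamelyRamified_iff_tameExt] at h₁ h₂ ⊢
      exact Groth.Agent.EtRam46.TameExt.sup _ _ (Groth.Agent.EtRam46.TameExt.range σ₁ h₁) (Groth.Agent.EtRam46.TameExt.range σ₂ h₂)

end Groth.Agent.S1991
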