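import Groth.Statements.S19944
import Groth.Agent.ThetaH3.KLExist
import Groth.Agent.ThetaH3.Glue
import Groth.Agent.MiscTwoH99.RepGlue
import Groth.Prelude.Def_GmPts

set_option autoImplicit false
set_option linter.style.haveILetI false
set_option backward.isDefEq.respectTransparency false
universe u
open CategoryTheory MonoidalCategory CartesianMonoidalCategory MonObj GrpObj AlgebraicGeometry
open ThetaGrp

namespace Groth.Agent.S19944

open Groth.Agent.ThetaH3 Opposite TopologicalSpace CategoryTheory.Limits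

section

variable {S : Scheme.{u}} (A : Over S) [GrpObj A] (L : A.left.Modules)

/-- The theta group as a presheaf of groups. -/
noncomputable def grpPsh : (Over S)ᵒᵖ ⥤ GrpCat.{u} where
  obj T := GrpCat.of (thetaPts A L T.unop)
  map g := GrpCat.ofHom (bcHom g.unop)
  map_id T := GrpCat.hom_ext (MonoidHom.ext fun α => bc_id α)
  map_comp g g' := GrpCat.hom_ext (MonoidHom.ext fun α => (bc_bc g'.unop g.unop α).symm)

/-- The theta group as a presheaf of sets. -/
noncomputable abbrev typPsh : (Over S)ᵒᵖ ⥤ Type u := grpPsh A L ⋙ CategoryTheory.forget GrpCat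

end

/-- The theta group of an invertible module is representable by a scheme. -/
theorem exists_representableBy (k : Type u) [Field k]
    (A : Over (Spec (CommRingCat.of k))) [GrpObj A] [IsProper A.hom] [GeometricallyIntegral A.hom]
    (L : A.left.Modules) (hL : PicF.IsInvertible L) :
    ∃ G : Over (Spec (CommRingCat.of k)), Nonempty ((typPsh A L).RepresentableBy G) := by
  haveI : Subsingleton (Spec (CommRingCat.of k)) := inferInstanceAs (Subsingleton (PrimeSpectrum k))
  haveI : Nonempty (Spec (CommRingCat.of k)) := inferInstanceAs (Nonempty (PrimeSpectrum k))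
  have h0 : ∀ T, H0 A T := fun T => h0_of_geometricallyIntegral A T
  obtain ⟨K, i, hK⟩ := exists_isKL A L hL
  haveI := hK.closed
  have hi : Mono i := (Over.forget _).mono_of_mono_map (inferInstanceAs (Mono i.left))
  choose U hpU α hα using fun p : K.left => exists_local_lift hL ((hK.univ K i).2 ⟨𝟙 K, Category.id_comp i⟩) p
  let Z : K.left → Over (Spec (CommRingCat.of k)) := fun p => restr K (U p) ⊗ Red.Gm (Spec (CommRingCat.of k))
  let prU : ∀ p, Z p ⟶ restr K (U p) := fun p => fst _ _
  let prG : ∀ p, Z p ⟶ Red.Gm (Spec (CommRingCat.of k)) := fun p => snd _ _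
  let e : ∀ p, (typPsh A L).obj (op (Z p)) := fun p =>
    unitPt (Z p) (GmPts.unitOfPt (prG p)) * bc (prU p) (α p)
  have hmove : ∀ (p : K.left) (T : Over (Spec (CommRingCat.of k))) (z : T ⟶ Z p),
      bc z (e p) = unitPt T (GmPts.unitOfPt (z ≫ prG p)) * bc (z ≫ prU p) (α p) := by
    intro p T z
    show bc z (unitPt (Z p) _ * bc (prU p) (α p)) = _
    rw [bc_mul, bc_unitPt, bc_bc, GmPts.unitOfPt_comp]
  have hover : ∀ (p : K.left) (T : Over (Spec (CommRingCat.of k))) (z : T ⟶ Z p),
      IsOverPt (bc z (e p)) (((z ≫ prU p) ≫ restrι K (U p)) ≫ i) := by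
    intro p T z
    rw [hmove, Category.assoc (z ≫ prU p)]
    simpa using isOverPt_mul (isOverPt_unitPt T _) (isOverPt_bc (z ≫ prU p) (hα p))
  have hfac : ∀ (T : Over (Spec (CommRingCat.of k))) (φ : thetaPts A L T),
      ∃ y : T ⟶ K, IsOverPt φ (y ≫ i) := by
    intro T φ
    obtain ⟨x, hx⟩ := exists_isOverPt φ
    obtain ⟨y, hy⟩ := (hK.univ T x).1 (mumford_of_local_lift hL (h0_app_of_geometricallyIntegral A T)
      fun t => ⟨⊤, trivial, bc (restrι T ⊤) φ, isOverPt_bc _ hx⟩)
    exact ⟨y, hy.symm ▸ hx⟩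
  choose y hy using hfac
  refine MiscTwoH99.RepGlue.exists_representableBy (F := typPsh A L) (fun T 𝒱 => ?_) Z e
    (fun p T φ => (y T φ).left ⁻¹ᵁ U p) (fun p T z z' h => ?_) (fun p T φ T' t => ?_) (fun T φ => ?_)
  · rw [Presieve.isSheafFor_arrows_iff]
    intro β hβ
    let j : ∀ a, Over.mk (𝒱.f a ≫ T.hom) ⟶ T := fun a => Over.homMk (𝒱.f a) rfl
    haveI : ∀ a, IsOpenImmersion (j a).left := fun a => inferInstanceAs (IsOpenImmersion (𝒱.f a))
    have hcov : ∀ t : T.left, ∃ a, t ∈ (j a).left.opensRange := fun t => ⟨𝒱.idx t, 𝒱.covers t⟩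
    choose x hx using fun a => exists_isOverPt (A := A) (L := L) (T := Over.mk (𝒱.f a ≫ T.hom)) (β a)
    have hcompat : ∀ a b, pullback.fst (𝒱.f a) (𝒱.f b) ≫ (x a).left =
        pullback.snd (𝒱.f a) (𝒱.f b) ≫ (x b).left := by
      intro a b
      let W : Over (Spec (CommRingCat.of k)) := Over.mk (pullback.fst (𝒱.f a) (𝒱.f b) ≫ 𝒱.f a ≫ T.hom)
      let g : W ⟶ Over.mk (𝒱.f a ≫ T.hom) := Over.homMk (pullback.fst _ _) rfl
      let g' : W ⟶ Over.mk (𝒱.f b ≫ T.hom) := Over.homMk (pullback.snd _ _) (by
        show _ ≫ 𝒱.f b ≫ T.hom = _ ≫ 𝒱.f a ≫ T.hom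
        rw [pullback.condition_assoc])
      have hb : bc g (β a) = bc g' (β b) := hβ a b W g g' (Over.OverMorphism.ext pullback.condition)
      exact congrArg (fun f : W ⟶ A => f.left)
        (isOverPt_unique (isOverPt_bc g (hx a)) (hb ▸ isOverPt_bc g' (hx b)))
    let x₀ : T.left ⟶ A.left := 𝒱.glueMorphisms (fun a => (x a).left) hcompat
    let xT : T ⟶ A := Over.homMk x₀ (𝒱.hom_ext _ _ fun a => by
      rw [← Category.assoc, Scheme.Cover.ι_glueMorphisms]
      exact Over.w (x a))
    have hxT : ∀ a, j a ≫ xT = x a := fun a =>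
      Over.OverMorphism.ext (Scheme.Cover.ι_glueMorphisms _ _ _ a)
    obtain ⟨gl, hgl, hglb⟩ := exists_glue j hcov hL xT β (fun a => (hxT a).symm ▸ hx a)
      fun a b W g g' hg => hβ a b W g g' hg
    refine ⟨gl, hglb, fun gl' hgl' => ?_⟩
    obtain ⟨x', hx'⟩ := exists_isOverPt (A := A) (L := L) (T := T) gl'
    have hxx : x' = xT := Over.OverMorphism.ext (𝒱.hom_ext _ _ fun a => by
      have h1 := isOverPt_unique (isOverPt_bc (j a) hx') ((show bc (j a) gl' = β a from hgl' a).symm ▸ hx a)
      exact (congrArg (fun f : Over.mk (𝒱.f a ≫ T.hom) ⟶ A => f.left) (h1.trans (hxT a).symm) :))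
    exact eq_of_cover j hcov hL (hxx ▸ hx') hgl fun a => (hgl' a).trans (hglb a).symm
  · change bc z (e p) = bc z' (e p) at h
    have h1 : z ≫ prU p = z' ≫ prU p := by
      have h2 := isOverPt_unique (hover p T z) (h.symm ▸ hover p T z')
      rw [cancel_mono] at h2
      haveI : Mono (restrι K (U p)) := (Over.forget _).mono_of_mono_map (inferInstanceAs (Mono (U p).ι))
      exact (cancel_mono (restrι K (U p))).1 h2
    rw [hmove, hmove, h1] at h
    have h3 := unitPt_injective hL (h0 T) (mul_right_cancel h)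
    refine CartesianMonoidalCategory.hom_ext z z' h1 ?_
    have h4 := congrArg (GmPts.ptOfUnit (S := Spec (CommRingCat.of k)) (T := T)) h3
    rwa [GmPts.ptOfUnit_unitOfPt, GmPts.ptOfUnit_unitOfPt] at h4
  · have hty : IsOverPt (bc t φ) ((t ≫ y T φ) ≫ i) := by
      rw [Category.assoc]
      exact isOverPt_bc t (hy T φ)
    constructor
    · rintro ⟨z, hz⟩
      change bc z (e p) = bc t φ at hz
      have h2 : (z ≫ prU p) ≫ restrι K (U p) = t ≫ y T φ :=
        (cancel_mono i).1 (isOverPt_unique (hover p T' z) (hz.symm ▸ hty))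
      rintro _ ⟨w, rfl⟩
      show (y T φ).left (t.left w) ∈ U p
      rw [← Scheme.Hom.comp_apply, ← Over.comp_left, ← h2]
      exact ((z ≫ prU p).left w).2
    · intro hr
      have hr' : Set.range (t ≫ y T φ).left ⊆ Set.range (U p).ι := by
        rintro _ ⟨w, rfl⟩
        rw [Scheme.Opens.range_ι]
        exact hr ⟨w, rfl⟩
      let l : T' ⟶ restr K (U p) := Over.homMk (IsOpenImmersion.lift (U p).ι _ hr') (by
        show IsOpenImmersion.lift (U p).ι _ hr' ≫ (U p).ι ≫ K.hom = _
        rw [IsOpenImmersion.lift_fac_assoc]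
        exact Over.w (t ≫ y T φ))
      have hl : l ≫ restrι K (U p) = t ≫ y T φ := Over.OverMorphism.ext (IsOpenImmersion.lift_fac _ _ _)
      have hlover : IsOverPt (bc l (α p)) ((t ≫ y T φ) ≫ i) := by
        rw [← hl, Category.assoc]
        exact isOverPt_bc l (hα p)
      obtain ⟨c, hc⟩ := exists_unit_of_isOverPt hL (h0 T') hlover hty
      refine ⟨lift l (GmPts.ptOfUnit c), ?_⟩
      show bc _ (e p) = bc t φ
      rw [hmove]
      show unitPt T' (GmPts.unitOfPt (lift l (GmPts.ptOfUnit c) ≫ snd _ _)) *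
        bc (lift l (GmPts.ptOfUnit c) ≫ fst _ _) (α p) = bc t φ
      rw [lift_fst, lift_snd, GmPts.unitOfPt_ptOfUnit, hc]
  · exact top_le_iff.1 fun w _ => Opens.mem_iSup.2 ⟨(y T φ).left w, hpU _⟩

/-- Let X be an abelian variety over a field k (a proper, geometrically integral, commutative k-group
scheme) and L an invertible O_X-module. For a k-scheme T the group G(L)(T) consists of the pairs (x,
φ) with x a T-valued point of X and φ : L_T ≅ t_x^*L_T an isomorphism (L_T the inverse image of L on
X ×_k T, t_x the translation by x), with the product (x₁, φ₁)(x₂, φ₂) = (x₁ + x₂, t_{x₂}^*φ₁ ∘ φ₂).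
Then the group functor T ↦ G(L)(T) is representable by a k-group scheme: there are a k-group scheme
G and a point u ∈ G(L)(G) such that every point of G(L)(T), for every k-scheme T, is the base change
of u along exactly one k-morphism T → G, u has a unique base change along every such morphism, and
base change takes products of points of G to products in G(L)(T). (The identification of the kernel
of G(L) → X with the multiplicative group is not part of this statement.) -/
theorem result (k : Type u) [Field k]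
    (A : Over (Spec (CommRingCat.of k))) [GrpObj A] [IsCommMonObj A] [IsProper A.hom] [GeometricallyIntegral A.hom]
    (L : A.left.Modules) (hL : PicF.IsInvertible L) :
    ∃ (G : Over (Spec (CommRingCat.of k))) (_ : GrpObj G) (u : ThetaGrp.thetaPts A L G),
      ThetaGrp.IsThetaGrpSch A L G u := by
  obtain ⟨G, ⟨r⟩⟩ := exists_representableBy k A L hL
  letI : GrpObj G := GrpObj.ofRepresentableBy G (grpPsh A L) r
  let u : thetaPts A L G := r.homEquiv (𝟙 G)
  have hr : ∀ (T : Over (Spec (CommRingCat.of k))) (g : T ⟶ G), r.homEquiv g = bc g u :=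
    fun T g => r.homEquiv_eq g
  refine ⟨G, inferInstance, u, ⟨fun T β => ?_, fun T g => existsUnique_bc g u, fun T g h β₁ β₂ h₁ h₂ => ?_⟩⟩
  · refine ⟨r.homEquiv.symm β, ?_, fun g hg => ?_⟩
    · show IsBaseChange β (r.homEquiv.symm β) u
      have e1 : bc (r.homEquiv.symm β) u = β := (hr T _).symm.trans (r.homEquiv.apply_symm_apply β)
      have e2 := isBaseChange_bc (r.homEquiv.symm β) u
      rwa [e1] at e2
    · refine r.homEquiv.injective ?_
      rw [r.homEquiv.apply_symm_apply, hr]
      exact bc_eq hg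
  · have hm : r.homEquiv (g * h) = bc g u * bc h u := by
      rw [← hr, ← hr]
      exact ((yonedaGrpObjIsoOfRepresentableBy G (grpPsh A L) r).hom.app (op T)).hom.map_mul g h
    rw [hr] at hm
    rw [← bc_eq h₁, ← bc_eq h₂, ← hm]
    exact isBaseChange_bc _ u

end Groth.Agent.S19944
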