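import Groth.Statements.S19952
import Groth.Agent.ThetaH3.GrpSch
import Groth.Agent.AVTors2.Quot
import Groth.Agent.S19947
import Groth.Agent.S3036

set_option autoImplicit false
set_option linter.style.haveILetI false
set_option backward.isDefEq.respectTransparency false
universe u
open CategoryTheory MonoidalCategory CartesianMonoidalCategory MonObj GrpObj AlgebraicGeometry
open ThetaGrp

namespace Groth.Agent.S19952

/-- Let X be an abelian variety over a field k (a proper, geometrically integral, commutative k-group
scheme), L an invertible O_X-module, and G a k-group scheme with a point u ∈ G(L)(G) representing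
the theta group of L (every point of G(L)(T) is the base change of u along a unique T → G,
multiplicatively). Let j : H → G be a level subgroup — H a k-group scheme, j a homomorphism of group
schemes and an immersion, such that a point of H whose image lies over the identity translation is
trivial — and let i_H : H → X be the morphism it lies over: for every k-scheme T and T-valued point
h of H the base change of u along j(h) lies over the translation by i_H(h). Then there are an
abelian variety Y over k (proper, geometrically integral k-group scheme), a surjective homomorphism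
f : X → Y whose kernel is i_H (i_H and f form a cartesian square with the unit section of Y), and an
invertible O_Y-module M with f^*M ≅ L. (The source states a bijection between level subgroups and
isomorphism classes of such pairs (f, M); this row is the existence of a pair for a given level
subgroup.) -/
theorem result (k : Type u) [Field k]
    (A : Over (Spec (CommRingCat.of k))) [GrpObj A] [IsCommMonObj A] [IsProper A.hom] [GeometricallyIntegral A.hom]
    (L : A.left.Modules) (hL : PicF.IsInvertible L)
    (G : Over (Spec (CommRingCat.of k))) [GrpObj G] (u : ThetaGrp.thetaPts A L G)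
    (hG : ThetaGrp.IsThetaGrpSch A L G u)
    (H : Over (Spec (CommRingCat.of k))) [GrpObj H] (j : H ⟶ G) (hj : ThetaGrp.IsLevelSubgrp u j)
    (iH : H ⟶ A)
    (hover : ∀ (T : Over (Spec (CommRingCat.of k))) (h : T ⟶ H) (β : ThetaGrp.thetaPts A L T),
      ThetaGrp.IsBaseChange β (h ≫ j) u → ThetaGrp.IsOverPt β (h ≫ iH)) :
    ∃ (B : Over (Spec (CommRingCat.of k))) (_ : GrpObj B) (f : A ⟶ B),
      IsProper B.hom ∧ GeometricallyIntegral B.hom ∧ IsMonHom f ∧ Surjective f.left ∧
      AlgGrp.IsKernel iH f ∧
      ∃ M : B.left.Modules, PicF.IsInvertible M ∧ Nonempty ((Scheme.Modules.pullback f.left).obj M ≅ L) := by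
  obtain ⟨himm, hjm, hlev⟩ := hj
  haveI := himm
  haveI := hjm
  obtain ⟨hGft, hGqc⟩ := ThetaH3.finiteType_of_isThetaGrpSch hL hG
  have hov : ∀ {T : Over (Spec (CommRingCat.of k))} (h : T ⟶ H),
      ThetaGrp.IsOverPt (ThetaH3.bc (h ≫ j) u) (h ≫ iH) :=
    fun h => hover _ h _ (ThetaH3.isBaseChange_bc (h ≫ j) u)
  have hmul : ∀ {T : Over (Spec (CommRingCat.of k))} (a b : T ⟶ H), (a * b) ≫ iH = (a ≫ iH) * (b ≫ iH) := by
    intro T a b
    have e : ThetaH3.bc ((a * b) ≫ j) u = ThetaH3.bc (a ≫ j) u * ThetaH3.bc (b ≫ j) u := by
      rw [MonObj.mul_comp]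
      exact ThetaH3.bc_eq (hG.mul T (a ≫ j) (b ≫ j) _ _ (ThetaH3.isBaseChange_bc _ u) (ThetaH3.isBaseChange_bc _ u))
    refine ThetaH3.isOverPt_unique (hov (a * b)) ?_
    rw [e, mul_comm]
    exact ThetaH3.isOverPt_mul (hov a) (hov b)
  have hone : ∀ T : Over (Spec (CommRingCat.of k)), (1 : T ⟶ H) ≫ iH = 1 := fun T => by
    have h := hmul (1 : T ⟶ H) 1
    rw [_root_.one_mul] at h
    exact right_eq_mul.1 h
  haveI hiH : IsMonHom iH := {
    one_hom := by simpa [Hom.one_def] using hone (𝟙_ _)
    mul_hom := by
      have h := hmul (fst H H) (snd H H)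
      rw [Hom.mul_def, lift_fst_snd, Category.id_comp, Hom.mul_def] at h
      exact h.trans (congrArg (· ≫ μ[A]) (by apply CartesianMonoidalCategory.hom_ext <;> simp)) }
  have hinj : ∀ {T : Over (Spec (CommRingCat.of k))} (a b : T ⟶ H), a ≫ iH = b ≫ iH → a = b := by
    intro T a b hab
    refine eq_of_div_eq_one (hlev T (a / b) _ (ThetaH3.isBaseChange_bc _ u) ?_)
    have h := hov (a / b)
    rwa [div_eq_mul_inv, hmul, GrpObj.inv_comp, hab, mul_inv_cancel, ← div_eq_mul_inv] at h
  haveI : Mono iH := ⟨fun a b h => hinj a b h⟩
  haveI : LocallyOfFiniteType j.left := inferInstance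
  haveI : LocallyOfFiniteType H.hom := by rw [← Over.w j]; infer_instance
  haveI : IsLocallyNoetherian G.left := LocallyOfFiniteType.isLocallyNoetherian G.hom
  haveI : QuasiCompact j.left := by
    rw [← j.left.liftCoborder_ι]
    infer_instance
  haveI : QuasiCompact H.hom := by rw [← Over.w j]; infer_instance
  haveI : QuasiCompact (iH.left ≫ A.hom) := by rw [Over.w iH]; infer_instance
  haveI : QuasiCompact iH.left := QuasiCompact.of_comp iH.left A.hom
  haveI : IsClosedImmersion iH.left := Groth.Agent.S3036.result k H A iH
  obtain ⟨B, _, _, _, _, q, _, hs, -, -, -, hker⟩ := AVTors2.exists_quotient iH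
  have hw : iH ≫ q = toUnit H ≫ η[B] := ((hker H iH).2 ⟨𝟙 H, Category.id_comp iH⟩).trans Hom.one_def
  have hfac : ∀ s : Limits.PullbackCone q η[B], ∃ y : s.pt ⟶ H, y ≫ iH = s.fst := fun s =>
    (hker _ s.fst).1 (by rw [Hom.one_def, s.condition, toUnit_unique s.snd (toUnit _)])
  have hN : AlgGrp.IsKernel iH q := IsPullback.of_isLimit' ⟨hw⟩ (Limits.PullbackCone.IsLimit.mk _
    (fun s => (hfac s).choose) (fun s => (hfac s).choose_spec)
    (fun s => toUnit_unique _ _)
    (fun s m h₁ _ => hinj _ _ (h₁.trans (hfac s).choose_spec.symm)))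
  exact ⟨B, inferInstance, q, inferInstance, inferInstance, inferInstance, hs, hN,
    (Groth.Agent.S19947.result k A B q hs H iH hN L hL G u hG).2 ⟨j, hjm, hover⟩⟩

end Groth.Agent.S19952
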