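import Groth.Statements.S19956
import Groth.Agent.ThetaH3.Perp

set_option autoImplicit false
universe u
open CategoryTheory MonoidalCategory CartesianMonoidalCategory MonObj GrpObj AlgebraicGeometry
open ThetaGrp

namespace Groth.Agent.S19956

/-- Let f : X → Y be a surjective homomorphism of abelian varieties over a field k (proper,
geometrically integral, commutative k-group schemes), i : N → X its kernel (a homomorphism forming a
cartesian square with the unit section of Y), M an invertible O_Y-module and L = f^*M. Let G be a
k-group scheme with a point u ∈ G(L)(G) representing the theta group of L (every point of G(L)(T) is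
the base change of u along a unique T → G, multiplicatively), and j : N → G a level subgroup lying
over i: a homomorphism of group schemes and an immersion such that a point of N whose image lies
over the identity translation is trivial, and such that for every T-valued point n of N the base
change of u along j(n) lies over the translation by i(n). Let i_M : K_M → Y be a closed immersion
exhibiting K_M as K(M) (the maximal closed subscheme of Y over which the Mumford bundle of M,
restricted to Y ×_k K_M, is the inverse image of an invertible module on K_M, with its universal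
property). For a k-scheme T, a T-valued point g of G and the T-valued point x of X under it (the
base change of u along g lies over the translation by x): g lies in the centralizer of j(N) — for
every T' → T and every T'-valued point n of N, the restriction of g commutes with j(n) in the group
G(T') — if and only if f(x) factors through i_M. (The source states this for the level subgroup
attached to the descent M; by the source's description of f⁻¹(K(M)) as Ker(f)^⊥ both sides depend
only on Ker(f), so it is stated for any level structure over i. The identification of G(M) with the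
centralizer modulo j(N) is not part of this statement.) -/
theorem result (k : Type u) [Field k]
    (A : Over (Spec (CommRingCat.of k))) [GrpObj A] [IsCommMonObj A] [IsProper A.hom] [GeometricallyIntegral A.hom]
    (B : Over (Spec (CommRingCat.of k))) [GrpObj B] [IsCommMonObj B] [IsProper B.hom] [GeometricallyIntegral B.hom]
    (f : A ⟶ B) [IsMonHom f] (hf : Surjective f.left)
    (N : Over (Spec (CommRingCat.of k))) [GrpObj N] (i : N ⟶ A) [IsMonHom i] (hN : AlgGrp.IsKernel i f)
    (M : B.left.Modules) (hM : PicF.IsInvertible M)
    (G : Over (Spec (CommRingCat.of k))) [GrpObj G]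
    (u : ThetaGrp.thetaPts A ((Scheme.Modules.pullback f.left).obj M) G)
    (hG : ThetaGrp.IsThetaGrpSch A ((Scheme.Modules.pullback f.left).obj M) G u)
    (j : N ⟶ G) [IsMonHom j] (hj : ThetaGrp.IsLevelSubgrp u j)
    (hover : ∀ (T : Over (Spec (CommRingCat.of k))) (n : T ⟶ N)
      (β : ThetaGrp.thetaPts A ((Scheme.Modules.pullback f.left).obj M) T),
      ThetaGrp.IsBaseChange β (n ≫ j) u → ThetaGrp.IsOverPt β (n ≫ i))
    (KM : Over (Spec (CommRingCat.of k))) (iM : KM ⟶ B) (hKM : ThetaGrp.IsKL B M iM)
    (T : Over (Spec (CommRingCat.of k))) (g : T ⟶ G) (x : T ⟶ A)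
    (β : ThetaGrp.thetaPts A ((Scheme.Modules.pullback f.left).obj M) T)
    (hβ : ThetaGrp.IsBaseChange β g u) (hx : ThetaGrp.IsOverPt β x) :
    (∀ (T' : Over (Spec (CommRingCat.of k))) (t : T' ⟶ T) (n : T' ⟶ N),
        (t ≫ g) * (n ≫ j) = (n ≫ j) * (t ≫ g)) ↔
      ∃ y : T ⟶ KM, y ≫ iM = x ≫ f := by
  have hL := PicClLib.isInvertible_pullback f.left hM
  have hA := fun T => ThetaH3.h0_of_geometricallyIntegral A T
  have hbc : ∀ {T' : Over (Spec (CommRingCat.of k))} (h h' : T' ⟶ G),
      ThetaH3.bc (h * h') u = ThetaH3.bc h u * ThetaH3.bc h' u := fun h h' =>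
    ThetaH3.bc_eq (hG.mul _ h h' _ _ (ThetaH3.isBaseChange_bc h u) (ThetaH3.isBaseChange_bc h' u))
  have hinj : ∀ {T' : Over (Spec (CommRingCat.of k))} (h h' : T' ⟶ G),
      ThetaH3.bc h u = ThetaH3.bc h' u → h = h' := fun {T'} h h' e =>
    (hG.univ T' (ThetaH3.bc h u)).unique (ThetaH3.isBaseChange_bc h u) (e ▸ ThetaH3.isBaseChange_bc h' u)
  have hg : ∀ {T' : Over (Spec (CommRingCat.of k))} (t : T' ⟶ T),
      ThetaH3.bc (t ≫ g) u = ThetaH3.bc t β := fun t => by rw [← ThetaH3.bc_bc, ThetaH3.bc_eq hβ]
  rw [← hKM.univ T, ThetaH3.mumford_iff_perp (ThetaH3.Datum.ofIso f (Iso.refl _)) hf hN hL hM x]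
  constructor
  · refine fun hc => ⟨ThetaH3.mumford_of_local_lift hL (ThetaH3.h0_app_of_geometricallyIntegral A T) fun p =>
      ⟨⊤, trivial, _, ThetaH3.isOverPt_bc _ hx⟩, ?_⟩
    intro T' t y β₁ β₂ h₁ h₂
    refine ThetaH3.commute_of_isOverPt hL (hA T') h₁ h₂ (ThetaH3.isOverPt_bc t hx)
      (hover T' y _ (ThetaH3.isBaseChange_bc (y ≫ j) u)) ?_
    rw [← hg t, ← hbc, ← hbc, hc T' t y]
  · rintro ⟨-, hp⟩ T' t n
    refine hinj _ _ ?_
    rw [hbc, hbc, hg t]
    exact hp T' t n _ _ (ThetaH3.isOverPt_bc t hx) (hover T' n _ (ThetaH3.isBaseChange_bc (n ≫ j) u))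

end Groth.Agent.S19956
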