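import Groth.Statements.S19985
import Groth.Agent.Eg2Cone.Fibre
import Groth.Agent.EgaQ.Retr
import Groth.Agent.EgaQ.ConeRing
import Groth.Agent.RelTildeX.Props

set_option autoImplicit false
universe u
open CategoryTheory CategoryTheory.Limits AlgebraicGeometry Opposite TopologicalSpace
open scoped HomogeneousIdeal
set_option backward.isDefEq.respectTransparency false
noncomputable section
open EGA2

namespace Groth.Agent.S19985

open Groth.Agent.EgaQ

section
variable {Y : Scheme.{u}} {𝒮 𝒮h : RelProj.QCGrAlg Y} {ι : 𝒮.toQCAlg ⟶ 𝒮h.toQCAlg}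
  {z : 𝒮h.presheaf.obj (op ⊤)} (hz : RelCone.IsPolyOver 𝒮 𝒮h ι z)
  {PC : Scheme.{u}} {pC : PC ⟶ Y}
  {chartC : ∀ (U : Y.Opens) (hU : IsAffineOpen U),
    (((pC ⁻¹ᵁ U : PC.Opens) : Scheme.{u}) ≅ Proj (𝒮h.deg U hU))}
  {P : Scheme.{u}} {p : P ⟶ Y}
  {chart : ∀ (U : Y.Opens) (hU : IsAffineOpen U),
    (((p ⁻¹ᵁ U : P.Opens) : Scheme.{u}) ≅ Proj (𝒮.deg U hU))}

lemma hat_isPullback (hPC : RelProj.IsRelProj 𝒮h pC chartC) (hP : RelProj.IsRelProj 𝒮 p chart)
    {r : (RelCone.pointedProjCone 𝒮 hz pC chartC : PC.Opens).toScheme ⟶ P}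
    (hr : IsRetr hz (chart := chart) r) (U : Y.Opens) (hU : IsAffineOpen U) {d : ℕ} (hd : 0 < d)
    {f : 𝒮.presheaf.obj (op U)} (hf : f ∈ 𝒮.deg U hU d) :
    IsPullback (Spec.map (CommRingCat.ofHom (HomogeneousLocalization.Away.map (RelProj.gradedHomAt ι hz.graded U hU) f)))
      (awayDom (RelProj.gradedHomAt ι hz.graded U hU) hf hd ≫ pointedι hz U hU)
      (Proj.awayι (𝒮.deg U hU) f hf hd ≫ RelProj.emb p chart U hU) r := by
  have hio : IsOpenImmersion (pointedι hz U hU (pC := pC) (chartC := chartC)) := by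
    have : IsOpenImmersion (pointedι hz U hU (pC := pC) (chartC := chartC) ≫
        (RelCone.pointedProjCone 𝒮 hz pC chartC).ι) := by rw [pointedι_ι]; infer_instance
    exact IsOpenImmersion.of_comp _ (RelCone.pointedProjCone 𝒮 hz pC chartC).ι
  have hcomm := (isRetr_iff hz r).mp hr U hU
  have hrp : r ≫ p = (RelCone.pointedProjCone 𝒮 hz pC chartC).ι ≫ pC := by
    obtain ⟨r₀, hr₀, -, hcomp⟩ := exists_isRetr hz hPC hP
    rw [isRetr_unique hz hPC hP hr hr₀, hcomp]
  refine IsOpenImmersion.isPullback _ _ _ _ (by rw [Category.assoc, hcomm, awayDom_domMap_assoc]) ?_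
  apply TopologicalSpace.Opens.ext
  ext c
  show r c ∈ Set.range _ ↔ c ∈ Set.range _
  refine Iff.symm ?_
  constructor
  · rintro ⟨v, rfl⟩
    refine ⟨Spec.map (CommRingCat.ofHom (HomogeneousLocalization.Away.map (RelProj.gradedHomAt ι hz.graded U hU) f)) v, ?_⟩
    rw [← Scheme.Hom.comp_apply, ← Scheme.Hom.comp_apply, Category.assoc, hcomm, awayDom_domMap_assoc]
  · rintro ⟨v, hv⟩
    have hcU : pC c.1 ∈ U := by
      have := congr($hrp c)
      simp only [Scheme.Hom.comp_apply] at this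
      rw [show c.1 = (RelCone.pointedProjCone 𝒮 hz pC chartC).ι c from rfl, ← this, ← hv, Scheme.Hom.comp_apply]
      exact π_emb_mem U hU _
    obtain ⟨w, rfl⟩ := exists_mem_range_pointedι hz hPC c U hU hcU
    rw [← Scheme.Hom.comp_apply, hcomm, Scheme.Hom.comp_apply, Scheme.Hom.comp_apply] at hv
    have hv' := (RelProj.emb p chart U hU).isOpenEmbedding.injective hv
    have hw : domMap (RelProj.gradedHomAt ι hz.graded U hU) w ∈ Proj.basicOpen (𝒮.deg U hU) f := by
      rw [← hv', ← Proj.opensRange_awayι _ f hf hd]; exact ⟨v, rfl⟩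
    obtain ⟨t, rfl⟩ := (mem_range_awayDom _ hf hd w).mpr
      ((SetLike.ext_iff.mp (domMap_preimage_basicOpen _ hf hd) w).mp hw)
    exact ⟨t, rfl⟩

lemma cone_square (hPC : RelProj.IsRelProj 𝒮h pC chartC) (hP : RelProj.IsRelProj 𝒮 p chart)
    {i : 𝒮.toQCAlg.spec ⟶ PC} (hi : RelCone.IsConeImm 𝒮 hz pC chartC i)
    {r : (RelCone.pointedProjCone 𝒮 hz pC chartC : PC.Opens).toScheme ⟶ P}
    (hr : IsRetr hz (chart := chart) r)
    (i' : (RelCone.pointedCone 𝒮 : 𝒮.toQCAlg.spec.Opens).toScheme ⟶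
      (RelCone.pointedProjCone 𝒮 hz pC chartC : PC.Opens).toScheme)
    (hi' : i' ≫ (RelCone.pointedProjCone 𝒮 hz pC chartC).ι = (RelCone.pointedCone 𝒮).ι ≫ i)
    (U : Y.Opens) (hU : IsAffineOpen U) {d : ℕ} (hd : 0 < d)
    {f : 𝒮.presheaf.obj (op U)} (hf : f ∈ 𝒮.deg U hU d) :
    ∃ ch : Spec (CommRingCat.of (Localization.Away f)) ⟶ (RelCone.pointedCone 𝒮 : 𝒮.toQCAlg.spec.Opens).toScheme,
      IsPullback (Spec.map (CommRingCat.ofHom (algebraMap (HomogeneousLocalization.Away (𝒮.deg U hU) f) (Localization.Away f))))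
        ch (Proj.awayι (𝒮.deg U hU) f hf hd ≫ RelProj.emb p chart U hU) (i' ≫ r) := by
  let ψ := RelProj.gradedHomAt ι hz.graded U hU
  let zU := RelCone.restrictTop 𝒮h z U
  let alg := algebraMap (𝒮.presheaf.obj (op U)) (Localization.Away f)
  let e := alg.comp (hz.evalOne U hU)
  have hzU : zU ∈ 𝒮h.deg U hU 1 := hz.deg_z U hU
  have hez : e zU = 1 := by show alg (hz.evalOne U hU zU) = 1; rw [hz.evalOne_z, map_one]
  have heι : ∀ a, e (ψ a) = alg a := fun a ↦ congrArg alg (hz.evalOne_ι U hU a)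
  have hux : IsUnit (e (zU * ψ f)) := by
    rw [map_mul, hez, one_mul, heι]; exact IsLocalization.Away.algebraMap_isUnit f
  have huf : IsUnit (e (ψ f)) := by rw [heι]; exact IsLocalization.Away.algebraMap_isUnit f
  let u : HomogeneousLocalization.Away (𝒮h.deg U hU) (ψ f) →+* Localization.Away f :=
    awayExtend (𝒮h.deg U hU) e huf
  let w : HomogeneousLocalization.Away (𝒮h.deg U hU) (zU * ψ f) →+* Localization.Away f :=
    awayExtend (𝒮h.deg U hU) e hux
  have hzf : zU * ψ f ∈ 𝒮h.deg U hU (1 + d) := SetLike.mul_mem_graded hzU (ψ.map_mem hf)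
  have hfz : zU * ψ f ∈ 𝒮h.deg U hU (d + 1) := by rwa [add_comm]
  -- the two ways of mapping to the common localisation
  have hw1 : w.comp (HomogeneousLocalization.awayMap (𝒮h.deg U hU) (f := zU) (ψ.map_mem hf) (x := zU * ψ f) rfl) =
      alg.comp (hz.awayZToBase U hU) := by
    refine RingHom.ext fun a ↦ ?_
    obtain ⟨n, b, hb, rfl⟩ := a.mk_surjective _ hzU
    rw [RingHom.comp_apply, RingHom.comp_apply, HomogeneousLocalization.awayMap_mk, awayZToBase_mk hz U hU n b hb]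
    apply (hux.pow n).mul_left_inj.mp
    rw [awayExtend_mul]
    show e (b * ψ f ^ n) = e b * e (zU * ψ f) ^ n
    rw [map_mul, map_mul, hez, one_mul, map_pow]
  have hw2 : w.comp (HomogeneousLocalization.awayMap (𝒮h.deg U hU) (f := ψ f) hzU (x := zU * ψ f) (mul_comm _ _)) = u := by
    refine RingHom.ext fun a ↦ ?_
    obtain ⟨n, b, hb, rfl⟩ := a.mk_surjective _ (ψ.map_mem hf)
    rw [RingHom.comp_apply, HomogeneousLocalization.awayMap_mk]
    apply (huf.pow n).mul_left_inj.mp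
    rw [awayExtend_mul (𝒮h.deg U hU) e huf]
    have h2 := awayExtend_mul (𝒮h.deg U hU) e hux hfz n (b * zU ^ n)
      (by rw [smul_add]; exact SetLike.mul_mem_graded hb (SetLike.pow_mem_graded n hzU))
    rw [map_mul, hez, one_mul, map_mul, map_pow, hez, one_pow, mul_one] at h2
    exact h2
  have hu : u.comp (HomogeneousLocalization.Away.map ψ f) =
      algebraMap (HomogeneousLocalization.Away (𝒮.deg U hU) f) (Localization.Away f) := by
    refine RingHom.ext fun a ↦ ?_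
    obtain ⟨n, b, hb, rfl⟩ := a.mk_surjective _ hf
    rw [RingHom.comp_apply, HomogeneousLocalization.Away.map_mk ψ f hf]
    apply (huf.pow n).mul_left_inj.mp
    rw [awayExtend_mul (𝒮h.deg U hU) e huf, heι, heι, HomogeneousLocalization.algebraMap_apply,
      HomogeneousLocalization.Away.val_mk, Localization.mk_eq_mk', ← map_pow]
    exact (IsLocalization.mk'_spec (Localization.Away f) b (⟨f ^ n, n, rfl⟩ : Submonoid.powers f)).symm
  have key : Spec.map (CommRingCat.ofHom alg) ≫ Spec.map (CommRingCat.ofHom (hz.awayZToBase U hU)) ≫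
      Proj.awayι (𝒮h.deg U hU) zU hzU one_pos =
      Spec.map (CommRingCat.ofHom u) ≫ Proj.awayι (𝒮h.deg U hU) (ψ f) (ψ.map_mem hf) hd := by
    rw [← Spec.map_comp_assoc, ← CommRingCat.ofHom_comp, ← hw1, CommRingCat.ofHom_comp, Spec.map_comp_assoc,
      Proj.SpecMap_awayMap_awayι, ← hw2, CommRingCat.ofHom_comp, Spec.map_comp_assoc,
      Proj.SpecMap_awayMap_awayι]
    rfl
  have hmemE : ∀ v : Spec (CommRingCat.of (Localization.Away f)),
      𝒮.toQCAlg.ι U hU (Spec.map (CommRingCat.ofHom alg) v) ∈ RelCone.pointedCone 𝒮 := fun v ↦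
    (ConeX.mem_pointedCone 𝒮 U hU _).mpr ((ConeX.mem_vertexCompl _).mpr
      ⟨f, HomogeneousIdeal.mem_irrelevant_of_mem _ hd hf, fun hm ↦
        v.isPrime.ne_top (Ideal.eq_top_of_isUnit_mem _ hm (IsLocalization.Away.algebraMap_isUnit f))⟩)
  let ch : Spec (CommRingCat.of (Localization.Away f)) ⟶ (RelCone.pointedCone 𝒮 : 𝒮.toQCAlg.spec.Opens).toScheme :=
    IsOpenImmersion.lift (RelCone.pointedCone 𝒮).ι (Spec.map (CommRingCat.ofHom alg) ≫ 𝒮.toQCAlg.ι U hU) (by
      rw [Scheme.Opens.range_ι]; rintro _ ⟨v, rfl⟩; exact hmemE v)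
  have hch : ch ≫ (RelCone.pointedCone 𝒮).ι = Spec.map (CommRingCat.ofHom alg) ≫ 𝒮.toQCAlg.ι U hU :=
    IsOpenImmersion.lift_fac _ _ _
  have hoa : IsOpenImmersion (Spec.map (CommRingCat.ofHom alg)) := IsOpenImmersion.of_isLocalization f
  have : IsOpenImmersion ch := by
    have : IsOpenImmersion (ch ≫ (RelCone.pointedCone 𝒮).ι) := by rw [hch]; infer_instance
    exact IsOpenImmersion.of_comp _ (RelCone.pointedCone 𝒮).ι
  have hfac : ch ≫ i' = Spec.map (CommRingCat.ofHom u) ≫ awayDom ψ hf hd ≫ pointedι hz U hU := by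
    rw [← cancel_mono (RelCone.pointedProjCone 𝒮 hz pC chartC).ι, Category.assoc, hi', reassoc_of% hch, hi U hU,
      Category.assoc, Category.assoc, pointedι_ι, awayDom_ι_assoc, ← reassoc_of% key]
  have sq := hat_isPullback hz hPC hP hr U hU hd hf
  have hw := sq.w
  simp only [Category.assoc] at hw
  refine ⟨ch, IsOpenImmersion.isPullback _ _ _ _ ?_ ?_⟩
  · rw [reassoc_of% hfac, ← hw, ← Spec.map_comp_assoc, ← CommRingCat.ofHom_comp, hu]
  · apply TopologicalSpace.Opens.ext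
    ext c
    show (i' ≫ r) c ∈ Set.range _ ↔ c ∈ Set.range _
    refine Iff.symm ?_
    constructor
    · rintro ⟨v, rfl⟩
      refine ⟨Spec.map (CommRingCat.ofHom (algebraMap (HomogeneousLocalization.Away (𝒮.deg U hU) f) (Localization.Away f))) v, ?_⟩
      rw [← Scheme.Hom.comp_apply, ← Scheme.Hom.comp_apply, reassoc_of% hfac, ← hw, ← Spec.map_comp_assoc,
        ← CommRingCat.ofHom_comp, hu]
    · rintro ⟨v, hv⟩
      have hcU : 𝒮.toQCAlg.π c.1 ∈ U := by
        have hrp : r ≫ p = (RelCone.pointedProjCone 𝒮 hz pC chartC).ι ≫ pC := by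
          obtain ⟨r₀, hr₀, -, hcomp⟩ := exists_isRetr hz hPC hP
          rw [isRetr_unique hz hPC hP hr hr₀, hcomp]
        have hcomp : (i' ≫ r) ≫ p = (RelCone.pointedCone 𝒮).ι ≫ 𝒮.toQCAlg.π := by
          rw [Category.assoc, hrp, reassoc_of% hi', coneImm_comp hz hi hPC]
        have := congr($hcomp c)
        simp only [Scheme.Hom.comp_apply] at this
        rw [show c.1 = (RelCone.pointedCone 𝒮).ι c from rfl, ← this, ← Scheme.Hom.comp_apply i', ← hv,
          Scheme.Hom.comp_apply]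
        exact π_emb_mem U hU _
      obtain ⟨w₀, hw₀⟩ := (𝒮.toQCAlg.π_preimage U hU).le hcU
      obtain ⟨t, ht⟩ : i' c ∈ Set.range (awayDom ψ hf hd ≫ pointedι hz U hU (pC := pC) (chartC := chartC)) := by
        obtain ⟨q, -, hq⟩ := Scheme.Pullback.exists_preimage_pullback (f := Proj.awayι (𝒮.deg U hU) f hf hd ≫ RelProj.emb p chart U hU)
          (g := r) v (i' c) (hv.trans (Scheme.Hom.comp_apply _ _ _))
        exact ⟨sq.isoPullback.inv q, by rw [← Scheme.Hom.comp_apply, sq.isoPullback_inv_snd, hq]⟩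
      have h1 : RelProj.emb pC chartC U hU (Proj.awayι (𝒮h.deg U hU) (ψ f) (ψ.map_mem hf) hd t) =
          RelProj.emb pC chartC U hU (Proj.awayι (𝒮h.deg U hU) zU hzU one_pos
            (Spec.map (CommRingCat.ofHom (hz.awayZToBase U hU)) w₀)) := by
        have e1 := congrArg (RelCone.pointedProjCone 𝒮 hz pC chartC).ι ht
        rw [← Scheme.Hom.comp_apply, ← Scheme.Hom.comp_apply, Category.assoc, pointedι_ι, awayDom_ι_assoc, hi'] at e1
        rw [← Scheme.Hom.comp_apply, e1, Scheme.Hom.comp_apply]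
        rw [show (RelCone.pointedCone 𝒮).ι c = c.1 from rfl, ← hw₀, ← Scheme.Hom.comp_apply, hi U hU]
        rfl
      have hmem : Proj.awayι (𝒮h.deg U hU) zU hzU one_pos (Spec.map (CommRingCat.ofHom (hz.awayZToBase U hU)) w₀) ∈
          Proj.basicOpen (𝒮h.deg U hU) (ψ f) := by
        rw [← (RelProj.emb pC chartC U hU).isOpenEmbedding.injective h1, ← Proj.opensRange_awayι _ (ψ f) (ψ.map_mem hf) hd]
        exact ⟨t, rfl⟩
      have hfw : f ∉ w₀.asIdeal := fun hm ↦ hmem (((isPolyExt hz U hU).mem_awayι (e := hz.evalOne U hU)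
        (awayZToBase_mk hz U hU) w₀ (ψ.map_mem hf) hd).mpr (by
          show hz.evalOne U hU ((ι.hom.app (op U)).hom f) ∈ _
          rw [hz.evalOne_ι]; exact hm))
      obtain ⟨v', hv'⟩ : w₀ ∈ Set.range (Spec.map (CommRingCat.ofHom alg)) :=
        (PrimeSpectrum.localization_away_comap_range (Localization.Away f) f).ge hfw
      refine ⟨v', ?_⟩
      apply (RelCone.pointedCone 𝒮).ι.isOpenEmbedding.injective
      rw [← Scheme.Hom.comp_apply, hch, Scheme.Hom.comp_apply, hv']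
      exact hw₀

end

lemma exists_deg_one {Y : Scheme.{u}} {𝒮 : RelProj.QCGrAlg Y} (hgen : 𝒮.IsGenDegOne) {P : Scheme.{u}} {p : P ⟶ Y}
    {chart : ∀ (U : Y.Opens) (hU : IsAffineOpen U), (((p ⁻¹ᵁ U : P.Opens) : Scheme.{u}) ≅ Proj (𝒮.deg U hU))}
    (x : P) :
    ∃ (U : Y.affineOpens) (f : 𝒮.presheaf.obj (op U.1)) (hf : f ∈ 𝒮.deg U.1 U.2 1),
      x ∈ Set.range (Proj.awayι (𝒮.deg U.1 U.2) f hf one_pos ≫ RelProj.emb p chart U.1 U.2) := by
  obtain ⟨_, ⟨U, hU, rfl⟩, hy, -⟩ := Y.isBasis_affineOpens.exists_subset_of_mem_open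
    (Set.mem_univ (p x)) isOpen_univ
  obtain ⟨y, rfl⟩ := mem_range_emb (p := p) (chart := chart) U hU x hy
  obtain ⟨f, hf, hyf⟩ : ∃ f ∈ 𝒮.deg U hU 1, f ∉ (show ProjectiveSpectrum _ from y).asHomogeneousIdeal := by
    by_contra! H
    exact (show ProjectiveSpectrum _ from y).not_irrelevant_le
      ((RelTildeX.irrelevant_eq_span_deg_one hgen U hU).trans_le (Ideal.span_le.mpr H))
  obtain ⟨t, ht⟩ : y ∈ Set.range (Proj.awayι (𝒮.deg U hU) f hf one_pos) := by
    rw [← Scheme.Hom.coe_opensRange, Proj.opensRange_awayι]; exact hyf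
  exact ⟨⟨U, hU⟩, f, hf, t, by rw [Scheme.Hom.comp_apply, ht]⟩

set_option maxHeartbeats 1600000 in
/-- Finite type and fibres from the local descriptions. -/
lemma conclusion {Y : Scheme.{u}} {𝒮 : RelProj.QCGrAlg Y} (hgen : 𝒮.IsGenDegOne) {P : Scheme.{u}} {p : P ⟶ Y}
    {chart : ∀ (U : Y.Opens) (hU : IsAffineOpen U), (((p ⁻¹ᵁ U : P.Opens) : Scheme.{u}) ≅ Proj (𝒮.deg U hU))}
    {E : Scheme.{u}} (π : E ⟶ P) [IsAffineHom π] (F : ∀ (R : Type u) [CommRing R], Type u)
    [∀ (R : Type u) [CommRing R], CommRing (F R)] [∀ (R : Type u) [CommRing R], Algebra R (F R)]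
    [∀ (R : Type u) [CommRing R], Algebra.FiniteType R (F R)]
    (hF : ∀ {R S : Type u} [CommRing R] [CommRing S] (g : R →+* S), ∃ β : CommRingCat.of (F R) ⟶ CommRingCat.of (F S),
      IsPushout (CommRingCat.ofHom (algebraMap R (F R))) (CommRingCat.ofHom g) β (CommRingCat.ofHom (algebraMap S (F S))))
    (hloc : ∀ (U : Y.affineOpens) (f : 𝒮.presheaf.obj (op U.1)) (hf : f ∈ 𝒮.deg U.1 U.2 1),
      ∃ (C : CommRingCat.{u}) (α : CommRingCat.of (HomogeneousLocalization.Away (𝒮.deg U.1 U.2) f) ⟶ C) (ch : Spec C ⟶ E)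
        (θ : CommRingCat.of (F (HomogeneousLocalization.Away (𝒮.deg U.1 U.2) f)) ≅ C),
        CommRingCat.ofHom (algebraMap _ (F (HomogeneousLocalization.Away (𝒮.deg U.1 U.2) f))) ≫ θ.hom = α ∧
        IsPullback (Spec.map α) ch (Proj.awayι (𝒮.deg U.1 U.2) f hf one_pos ≫ RelProj.emb p chart U.1 U.2) π) :
    LocallyOfFiniteType π ∧ QuasiCompact π ∧
      ∀ x : ↥P, ∃ e : pullback π (P.fromSpecResidueField x) ≅ Spec (CommRingCat.of (F (P.residueField x))),
        e.hom ≫ Spec.map (CommRingCat.ofHom (algebraMap (P.residueField x) (F (P.residueField x)))) =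
          pullback.snd π (P.fromSpecResidueField x) := by
  refine ⟨?_, inferInstance, fun x ↦ ?_⟩
  · haveI : IsZariskiLocalAtTarget @LocallyOfFiniteType.{u} :=
      HasRingHomProperty.instIsZariskiLocalAtTarget @LocallyOfFiniteType
    refine IsZariskiLocalAtTarget.of_openCover (Scheme.Cover.mkOfCovers
      (Σ U : Y.affineOpens, {f : 𝒮.presheaf.obj (op U.1) // f ∈ 𝒮.deg U.1 U.2 1}) _
      (fun j ↦ Proj.awayι (𝒮.deg j.1.1 j.1.2) j.2.1 j.2.2 one_pos ≫ RelProj.emb p chart j.1.1 j.1.2)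
      (fun x ↦ by
        obtain ⟨U, f, hf, hx⟩ := exists_deg_one hgen (chart := chart) x
        exact ⟨⟨U, f, hf⟩, hx⟩) (fun j ↦ inferInstance)) fun j ↦ ?_
    obtain ⟨C, α, ch, θ, hθ, sq⟩ := hloc j.1 j.2.1 j.2.2
    change LocallyOfFiniteType (pullback.snd π (Proj.awayι (𝒮.deg j.1.1 j.1.2) j.2.1 j.2.2 one_pos ≫ RelProj.emb p chart j.1.1 j.1.2))
    rw [← sq.flip.isoPullback_inv_snd]
    suffices h : LocallyOfFiniteType (Spec.map α) from @locallyOfFiniteType_comp _ _ _ _ _ inferInstance h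
    rw [HasRingHomProperty.Spec_iff (P := @LocallyOfFiniteType), ← hθ, CommRingCat.hom_comp]
    exact (RingHom.FiniteType.of_surjective _ θ.commRingCatIsoToRingEquiv.surjective).comp
      (RingHom.finiteType_algebraMap.mpr inferInstance)
  · obtain ⟨U, f, hf, hx⟩ := exists_deg_one hgen (chart := chart) x
    obtain ⟨C, α, ch, θ, hθ, sq⟩ := hloc U f hf
    refine Eg2Cone.exists_fibre_iso π x _ _ hx α ch sq _ fun ev ↦ ?_
    obtain ⟨β, hβ⟩ := hF ev.hom
    exact ⟨θ.inv ≫ β, hβ.of_iso (Iso.refl _) θ (Iso.refl _) (Iso.refl _) (by simpa using hθ) (by simp)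
      (by simp) (by simp)⟩

/-- Let 𝒮 be a quasi-coherent positively graded O_Y-algebra with 𝒮_0 = O_Y which is generated by 𝒮_1
(over every affine open U the ring 𝒮(U) is generated by its degree-0 and degree-1 parts), Ŝ = 𝒮[z]
(graded homomorphism ι : 𝒮 → Ŝ and a degree-one global section z, polynomial over affine opens), C =
Spec(𝒮), X = Proj(𝒮) and Ĉ = Proj(Ŝ) with their charts, E ⊆ C and Ê ⊆ Ĉ the pointed cones, i : C → Ĉ
the canonical open immersion and p : Ê → X the canonical retraction (the morphism which on each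
affine piece Spec Ŝ(U)_(ι f), f ∈ 𝒮(U) homogeneous of positive degree, is Spec of 𝒮(U)_(f) → Ŝ(U)_(ι
f) followed by the chart of X). Then p is of finite type (locally of finite type and quasi-compact)
and for every point x of X the fibre p⁻¹(x) = Ê ×_X Spec k(x) is isomorphic over k(x) to the affine
line Spec k(x)[T]; and for every factorisation i' : E → Ê of i restricted to E, the composite π = p
∘ i' : E → X is of finite type and its fibre at every x is isomorphic over k(x) to Spec k(x)[T,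
T⁻¹]. -/
theorem result {Y PC P : Scheme.{u}} (𝒮 𝒮h : RelProj.QCGrAlg Y) (h0 : RelCone.StrZeroBij 𝒮)
    (hgen : 𝒮.IsGenDegOne)
    (ι : 𝒮.toQCAlg ⟶ 𝒮h.toQCAlg) (z : 𝒮h.presheaf.obj (op ⊤)) (hz : RelCone.IsPolyOver 𝒮 𝒮h ι z)
    (pC : PC ⟶ Y)
    (chartC : ∀ (U : Y.Opens) (hU : IsAffineOpen U), (((pC ⁻¹ᵁ U : PC.Opens) : Scheme.{u}) ≅ Proj (𝒮h.deg U hU)))
    (hPC : RelProj.IsRelProj 𝒮h pC chartC)
    (p : P ⟶ Y)
    (chart : ∀ (U : Y.Opens) (hU : IsAffineOpen U), (((p ⁻¹ᵁ U : P.Opens) : Scheme.{u}) ≅ Proj (𝒮.deg U hU)))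
    (hP : RelProj.IsRelProj 𝒮 p chart)
    (i : 𝒮.toQCAlg.spec ⟶ PC) (hi : RelCone.IsConeImm 𝒮 hz pC chartC i)
    (r : ((RelCone.pointedProjCone 𝒮 hz pC chartC : PC.Opens) : Scheme.{u}) ⟶ P)
    (hr : (∀ (U : Y.Opens) (hU : IsAffineOpen U) (d : ℕ) (hd : 0 < d) (f : 𝒮.presheaf.obj (op U)) (hf : f ∈ 𝒮.deg U hU d)
        (g : Spec (CommRingCat.of (HomogeneousLocalization.Away (𝒮h.deg U hU) ((RelProj.gradedHomAt ι hz.graded U hU) f))) ⟶
          ((RelCone.pointedProjCone 𝒮 hz pC chartC : PC.Opens) : Scheme.{u})),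
        g ≫ (RelCone.pointedProjCone 𝒮 hz pC chartC).ι =
            Proj.awayι (𝒮h.deg U hU) ((RelProj.gradedHomAt ι hz.graded U hU) f) ((RelProj.gradedHomAt ι hz.graded U hU).2 hf) hd ≫
              RelProj.emb pC chartC U hU →
          g ≫ r =
            Spec.map (CommRingCat.ofHom (HomogeneousLocalization.Away.map (RelProj.gradedHomAt ι hz.graded U hU) f)) ≫
              Proj.awayι (𝒮.deg U hU) f hf hd ≫ RelProj.emb p chart U hU)) :
    (LocallyOfFiniteType r ∧ QuasiCompact r ∧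
        ∀ x : ↥P, ∃ e : pullback r (P.fromSpecResidueField x) ≅ Spec (CommRingCat.of (Polynomial (P.residueField x))),
          e.hom ≫ Spec.map (CommRingCat.ofHom (algebraMap (P.residueField x) (Polynomial (P.residueField x)))) =
            pullback.snd r (P.fromSpecResidueField x)) ∧
      ∀ i' : ((RelCone.pointedCone 𝒮 : 𝒮.toQCAlg.spec.Opens) : Scheme.{u}) ⟶
          ((RelCone.pointedProjCone 𝒮 hz pC chartC : PC.Opens) : Scheme.{u}),
        i' ≫ (RelCone.pointedProjCone 𝒮 hz pC chartC).ι = (RelCone.pointedCone 𝒮).ι ≫ i →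
          LocallyOfFiniteType (i' ≫ r) ∧ QuasiCompact (i' ≫ r) ∧
        ∀ x : ↥P, ∃ e : pullback (i' ≫ r) (P.fromSpecResidueField x) ≅ Spec (CommRingCat.of (LaurentPolynomial (P.residueField x))),
          e.hom ≫ Spec.map (CommRingCat.ofHom (algebraMap (P.residueField x) (LaurentPolynomial (P.residueField x)))) =
            pullback.snd (i' ≫ r) (P.fromSpecResidueField x) := by
  have hr' : IsRetr hz (chart := chart) r := hr
  have haff : IsAffineHom r := by
    obtain ⟨r₀, hr₀, h, -⟩ := exists_isRetr hz hPC hP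
    exact isRetr_unique hz hPC hP hr' hr₀ ▸ h
  refine ⟨conclusion (p := p) (chart := chart) hgen r (fun R _ ↦ Polynomial R) (fun g ↦ Eg2Cone.polynomial_isPushout g) fun U f hf ↦ ?_,
    fun i' hi' ↦ ?_⟩
  · exact ⟨_, _, _, (RingEquiv.ofBijective _ (polyToAway_bijective hf (isPolyExt hz U.1 U.2))).toCommRingCatIso,
      CommRingCat.hom_ext (RingHom.ext fun c => Polynomial.eval₂_C _ _), hat_isPullback hz hPC hP hr' U.1 U.2 one_pos hf⟩
  · have := (coneImm_pointed hz hPC hP hi hr' i' hi').1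
    refine conclusion (p := p) (chart := chart) hgen (i' ≫ r) (fun R _ ↦ LaurentPolynomial R) (fun g ↦ Eg2Cone.laurent_isPushout g) fun U f hf ↦ ?_
    obtain ⟨ch, hch⟩ := cone_square hz hPC hP hi hr' i' hi' U.1 U.2 one_pos hf
    exact ⟨_, _, ch, (RingEquiv.ofBijective _ (laurentToLoc_bijective _ hf)).toCommRingCatIso,
      CommRingCat.hom_ext (RingHom.ext fun c => LaurentPolynomial.eval₂_C _ _ c), hch⟩

end Groth.Agent.S19985
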