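import Groth.Statements.S20012
import Groth.Agent.ModPairLib95.LimitCartier
import Groth.Agent.LimitsH94.Approx.Eventually

set_option autoImplicit false
universe u
open CategoryTheory CategoryTheory.Limits AlgebraicGeometry TopologicalSpace
open ModPair

namespace Groth.Agent.S20012

set_option backward.isDefEq.respectTransparency false
set_option backward.isDefEq.respectTransparency.types false
set_option linter.style.haveILetI false

/-- Replacing the members of a limit presentation with affine projections by the scheme-theoretic images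
of the projections. -/
theorem exists_dominant_system {S X : Scheme.{u}} {f : X ⟶ S} {J : Type u} [SmallCategory J]
    (D : J ⥤ Over S) (π : (Functor.const J).obj (Over.mk f) ⟶ D)
    (hlim : IsLimit (Cone.mk (Over.mk f) π)) [∀ (i j : J) (t : i ⟶ j), IsAffineHom (D.map t).left]
    [∀ i, IsAffineHom (π.app i).left] [∀ i, LocallyOfFiniteType (D.obj i).hom]
    [∀ i, QuasiCompact (D.obj i).hom] [∀ i, QuasiSeparated (D.obj i).hom] :
    ∃ (D' : J ⥤ Over S) (π' : (Functor.const J).obj (Over.mk f) ⟶ D')
      (_ : IsLimit (Cone.mk (Over.mk f) π')),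
      (∀ i, LocallyOfFiniteType (D'.obj i).hom ∧ QuasiCompact (D'.obj i).hom ∧
        QuasiSeparated (D'.obj i).hom) ∧
      (∀ (i j : J) (t : i ⟶ j), IsAffineHom (D'.map t).left ∧
        IsSchemeTheoreticallyDominant (D'.map t).left) ∧
      ∀ i, IsSchemeTheoreticallyDominant (π'.app i).left := by
  let p : ∀ i, X ⟶ (D.obj i).left := fun i => (π.app i).left
  haveI hp : ∀ i, IsAffineHom (p i) := fun i => ‹∀ i, IsAffineHom (π.app i).left› i
  have hw : ∀ {i j : J} (t : i ⟶ j), p i ≫ (D.map t).left = p j := fun {i j} t => by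
    have := congrArg CommaMorphism.left (π.naturality t)
    simpa [p] using this.symm
  have hle : ∀ {i j : J} (t : i ⟶ j), (p j).imageι.ker ≤ ((p i).imageι ≫ (D.map t).left).ker :=
    fun {i j} t => by
      rw [Scheme.Hom.ker_comp, Scheme.IdealSheafData.ker_subschemeι,
        Scheme.IdealSheafData.ker_subschemeι, ← hw t, Scheme.Hom.ker_comp]
  let m : ∀ {i j : J} (t : i ⟶ j), (p i).image ⟶ (p j).image := fun {i j} t =>
    IsClosedImmersion.lift (p j).imageι _ (hle t)
  have hm : ∀ {i j : J} (t : i ⟶ j), m t ≫ (p j).imageι = (p i).imageι ≫ (D.map t).left :=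
    fun t => IsClosedImmersion.lift_fac _ _ _
  let D' : J ⥤ Over S :=
    { obj := fun i => Over.mk ((p i).imageι ≫ (D.obj i).hom)
      map := fun {i j} t => Over.homMk (m t) (by
        show m t ≫ (p j).imageι ≫ (D.obj j).hom = (p i).imageι ≫ (D.obj i).hom
        rw [reassoc_of% hm t, Over.w])
      map_id := fun i => by
        refine Over.OverMorphism.ext ?_
        show m (𝟙 i) = 𝟙 _
        rw [← cancel_mono (p i).imageι, hm]
        simp
      map_comp := fun {i j k} t t' => by
        refine Over.OverMorphism.ext ?_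
        show m (t ≫ t') = m t ≫ m t'
        rw [← cancel_mono (p k).imageι, Category.assoc, hm, hm, reassoc_of% hm t, D.map_comp]
        simp }
  let π' : (Functor.const J).obj (Over.mk f) ⟶ D' :=
    { app := fun i => Over.homMk (p i).toImage (by
        show (p i).toImage ≫ (p i).imageι ≫ (D.obj i).hom = f
        rw [(p i).toImage_imageι_assoc]
        exact Over.w (π.app i))
      naturality := fun i j t => by
        refine Over.OverMorphism.ext ?_
        show 𝟙 _ ≫ (p j).toImage = (p i).toImage ≫ m t
        rw [Category.id_comp, ← cancel_mono (p j).imageι, Category.assoc, hm,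
          (p i).toImage_imageι_assoc, hw, (p j).toImage_imageι] }
  let α : D' ⟶ D :=
    { app := fun i => Over.homMk (p i).imageι rfl
      naturality := fun i j t => Over.OverMorphism.ext (hm t) }
  have hπ' : π' ≫ α = π := by
    ext i
    exact (p i).toImage_imageι
  have hlim' : IsLimit (Cone.mk (Over.mk f) π') :=
    { lift := fun s => hlim.lift ⟨s.pt, s.π ≫ α⟩
      fac := fun s i => by
        have h := hlim.fac ⟨s.pt, s.π ≫ α⟩ i
        haveI : Mono (α.app i) := by
          haveI : Mono (α.app i).left := inferInstanceAs (Mono (p i).imageι)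
          exact Over.mono_of_mono_left _
        rw [← cancel_mono (α.app i), Category.assoc]
        refine Eq.trans ?_ h
        congr 1
        exact congrArg (fun γ => NatTrans.app γ i) hπ'
      uniq := fun s g hg => hlim.uniq ⟨s.pt, s.π ≫ α⟩ g fun i => by
        show g ≫ π.app i = s.π.app i ≫ α.app i
        rw [← hg i, Category.assoc, ← hπ']
        rfl }
  refine ⟨D', π', hlim', fun i => ⟨inferInstanceAs (LocallyOfFiniteType (_ ≫ _)),
    inferInstanceAs (QuasiCompact (_ ≫ _)), inferInstanceAs (QuasiSeparated (_ ≫ _))⟩,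
    fun i j t => ⟨?_, ?_⟩, fun i => ModPairLib.isSchemeTheoreticallyDominant_toImage (p i)⟩
  · show IsAffineHom (m t)
    have : IsAffineHom (m t ≫ (p j).imageι) := by rw [hm]; infer_instance
    exact IsAffineHom.of_comp (m t) (p j).imageι
  · show IsSchemeTheoreticallyDominant (m t)
    have h : (p i).toImage ≫ m t = (p j).toImage := by
      rw [← cancel_mono (p j).imageι, Category.assoc, hm, (p i).toImage_imageι_assoc, hw,
        (p j).toImage_imageι]
    haveI := ModPairLib.isSchemeTheoreticallyDominant_toImage (p j)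
    exact ⟨le_bot_iff.mp ((Scheme.Hom.le_ker_comp (p i).toImage (m t)).trans
      (by rw [h, Scheme.Hom.ker_eq_bot]))⟩

/-- Let (S, I_S) be a modulus pair — a scheme with the quasi-coherent ideal sheaf of an effective
Cartier divisor — with S quasi-compact and quasi-separated, and let (X, I_X) be a modulus pair with
an ambient morphism f : X ⟶ S (modulus condition I_X ≤ I_S.comap f) which is quasi-compact and
separated. Then (X, I_X) is a limit of finite-type S-pairs along affine, minimal,
scheme-theoretically dominant transitions: there are a cofiltered system D of S-schemes with limit X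
(as an S-scheme) and quasi-coherent ideal sheaves J_i of effective Cartier divisors on its members
such that every X_i ⟶ S is separated and of finite type and satisfies the modulus condition J_i ≥
I_S pulled back, every transition morphism is affine, minimal (J_i is the pull-back of J_j) and
scheme-theoretically dominant, and I_X is the pull-back of J_i along the projection for every i.
(The full faithfulness half of the published statement is the hom formula for such systems and is
not part of this row.) -/
theorem result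
    {X S : Scheme.{u}} [CompactSpace S] [QuasiSeparatedSpace S]
    (IS : S.IdealSheafData) (hS : BlowUp.IsEffCartierIdeal IS)
    (IX : X.IdealSheafData) (hX : BlowUp.IsEffCartierIdeal IX)
    (f : X ⟶ S) [QuasiCompact f] [IsSeparated f] (hf : ModPair.IsAmbient IX IS f) :
    ∃ (I : Type u) (_ : SmallCategory I) (_ : IsCofiltered I) (D : I ⥤ Over S) (c : Cone D)
      (_ : IsLimit c) (e : c.pt ≅ Over.mk f) (J : ∀ i, (D.obj i).left.IdealSheafData),
      (∀ i, BlowUp.IsEffCartierIdeal (J i)) ∧
      (∀ i, LocallyOfFiniteType (D.obj i).hom ∧ QuasiCompact (D.obj i).hom ∧ IsSeparated (D.obj i).hom) ∧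
      (∀ i, ModPair.IsAmbient (J i) IS (D.obj i).hom) ∧
      (∀ (i j : I) (t : i ⟶ j), IsAffineHom (D.map t).left ∧ ModPair.IsMinimal (J i) (J j) (D.map t).left ∧
          IsSchemeTheoreticallyDominant (D.map t).left) ∧
      (∀ i, IX = (J i).comap (e.inv.left ≫ (c.π.app i).left)) := by
  haveI : CompactSpace X := QuasiCompact.compactSpace_of_compactSpace f
  haveI : QuasiSeparatedSpace X := quasiSeparatedSpace_of_quasiSeparated f
  obtain ⟨J, _, _, _, D₁, π₁, hlim₁, hD₁, haff₁, hπ₁⟩ :=
    Groth.Agent.LimitsH94.Approx.exists_relative_limit f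
  haveI := haff₁
  haveI := hπ₁
  haveI : ∀ i, LocallyOfFiniteType (D₁.obj i).hom := fun i => by
    haveI := (hD₁ i).1; infer_instance
  haveI : ∀ i, QuasiCompact (D₁.obj i).hom := fun i => (hD₁ i).2.1
  haveI : ∀ i, QuasiSeparated (D₁.obj i).hom := fun i => (hD₁ i).2.2
  obtain ⟨D, π, hlim, hD, htr, hdom⟩ := exists_dominant_system D₁ π₁ hlim₁
  let D₀ : Jᵒᵖ ⥤ Scheme.{u} := D ⋙ Over.forget _
  let c₀ : Cone D₀ := (Over.forget _).mapCone (Cone.mk _ π)
  haveI : IsConnected Jᵒᵖ := IsCofiltered.isConnected _
  have hc₀ : IsLimit c₀ := isLimitOfPreserves (Over.forget _) hlim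
  haveI : ∀ (i j : Jᵒᵖ) (a : i ⟶ j), IsAffineHom (D₀.map a) := fun i j a => (htr i j a).1
  haveI : ∀ i, CompactSpace (D₀.obj i) := fun i => by
    haveI := (hD i).2.1
    exact QuasiCompact.compactSpace_of_compactSpace (D.obj i).hom
  haveI : ∀ i, QuasiSeparatedSpace (D₀.obj i) := fun i => by
    haveI := (hD i).2.2
    exact quasiSeparatedSpace_of_quasiSeparated (D.obj i).hom
  have hw : ∀ {i j : Jᵒᵖ} (a : i ⟶ j), D₀.map a ≫ (D.obj j).hom = (D.obj i).hom :=
    fun a => Over.w (D.map a)
  haveI : IsSeparated (Over.mk f).hom := ‹IsSeparated f›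
  obtain ⟨i₁, hsep⟩ := Groth.Agent.LimitsH94.Approx.exists_stage_isSeparated hc₀
    (fun i => (D.obj i).hom) hw (Over.mk f).hom (fun i => Over.w (π.app i))
  obtain ⟨i₂, K, hK, hKX, m, φ, hcart⟩ :=
    Groth.Agent.ModPairLib95.exists_stage_isEffCartier hc₀ hdom IX hX
  -- the ambient condition
  let Km := K.comap (D₀.map φ)
  have hKm : Km.comap (c₀.π.app m) = IX := by
    rw [← Scheme.IdealSheafData.comap_comp, c₀.w, hKX]
  obtain ⟨n, ψ, hamb⟩ := Groth.Agent.ModPairLib95.exists_stage_comap_le hc₀ Km
    (IS.comap (D.obj m).hom) (Groth.Agent.MorLib.IdealFG.isFG_comap hK _) (by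
      rw [hKm, ← Scheme.IdealSheafData.comap_comp]
      exact hf.trans (le_of_eq (congrArg IS.comap (Over.w (π.app m)).symm)))
  obtain ⟨b, q₁, q₂, -⟩ := IsCofilteredOrEmpty.cone_objs n i₁
  refine ⟨Over b, inferInstance, inferInstance, Over.forget b ⋙ D,
    (Cone.mk (Over.mk f) π).whisker (Over.forget b),
    (Functor.Initial.isLimitWhiskerEquiv (Over.forget b) _).symm hlim, Iso.refl _,
    fun k => K.comap (D₀.map ((k.hom ≫ q₁ ≫ ψ) ≫ φ)), fun k => hcart _ _,
    fun k => ⟨(hD k.left).1, (hD k.left).2.1, hsep _ (k.hom ≫ q₂)⟩, fun k => ?_,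
    fun k k' t => ⟨(htr _ _ t.left).1, ?_, (htr _ _ t.left).2⟩, fun k => ?_⟩
  · show K.comap (D₀.map ((k.hom ≫ q₁ ≫ ψ) ≫ φ)) ≤ IS.comap (D.obj k.left).hom
    rw [D₀.map_comp, Scheme.IdealSheafData.comap_comp, ← Category.assoc, D₀.map_comp,
      Scheme.IdealSheafData.comap_comp]
    refine (Scheme.IdealSheafData.comap_mono _ hamb).trans (le_of_eq ?_)
    show ((IS.comap (D.obj m).hom).comap (D₀.map ψ)).comap (D₀.map (k.hom ≫ q₁)) = _
    simp only [← Scheme.IdealSheafData.comap_comp]
    rw [hw, hw]
  · show _ = (K.comap (D₀.map ((k'.hom ≫ q₁ ≫ ψ) ≫ φ))).comap (D₀.map t.left)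
    rw [← Scheme.IdealSheafData.comap_comp, ← D₀.map_comp]
    show K.comap (D₀.map ((k.hom ≫ q₁ ≫ ψ) ≫ φ)) = _
    rw [← Over.w t]
    simp only [Category.assoc]
  · show IX = (K.comap (D₀.map ((k.hom ≫ q₁ ≫ ψ) ≫ φ))).comap (𝟙 X ≫ c₀.π.app k.left)
    rw [Category.id_comp, ← Scheme.IdealSheafData.comap_comp, c₀.w]
    exact hKX.symm

end Groth.Agent.S20012
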