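import Groth.Statements.S20014
import Groth.Agent.GrpSchLib.AntiAffine
import Groth.Agent.SchTop.Closed
import Groth.Agent.S2102

set_option autoImplicit false
universe u
open CategoryTheory CategoryTheory.Limits AlgebraicGeometry
open RatSing

namespace Groth.Agent.S20014

/-- A connected noetherian normal scheme is integral. -/
theorem isIntegral_of_normal_connected {X : Scheme.{u}} [IsNoetherian X] [ConnectedSpace X]
    (hN : Pi1.IsNormalScheme X) : IsIntegral X := by
  haveI : ∀ x : X, _root_.IsReduced (X.presheaf.stalk x) := fun x => by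
    haveI := (hN x).1
    infer_instance
  haveI : IsReduced X := isReduced_of_isReduced_stalk X
  obtain ⟨y⟩ := (inferInstance : Nonempty X)
  obtain ⟨Z, hZ, -⟩ := exists_mem_irreducibleComponents_subset_of_isIrreducible _
    (isIrreducible_singleton (x := y))
  have hop := SchTop.isOpen_component_of_finite (X := X)
    TopologicalSpace.NoetherianSpace.finite_irreducibleComponents (fun x => (hN x).1) hZ
  have hu : Z = Set.univ :=
    IsClopen.eq_univ ⟨isClosed_of_mem_irreducibleComponents Z hZ, hop⟩ hZ.1.nonempty
  haveI : IrreducibleSpace X := by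
    rw [irreducibleSpace_def, Set.top_eq_univ, ← hu]
    exact hZ.1
  exact isIntegral_of_irreducibleSpace_of_isReduced X


/-- Let k be a field, X an integral k-scheme which is separated and of finite type over k, and f : X̃ →
X a proper morphism of k-schemes which is birational — an isomorphism over some nonempty open subset
of X — and for which O_X → f_*O_X̃ is an isomorphism (Γ(V, O_X) → Γ(f⁻¹V, O_X̃) bijective for every
open V of X). If X̃ is normal (every local ring an integrally closed domain), then X is normal. (In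
the text this is the last clause of a lemma whose other hypotheses — X̃ Cohen–Macaulay, vanishing of
the higher direct images of O_X̃ and of the dualizing sheaf — and whose standing assumption that k
is perfect of positive characteristic play no role in this clause; they are omitted here.) -/
theorem result (k : Type u) [Field k]
    (X Xt : Scheme.{u}) [X.Over (Spec (CommRingCat.of k))] [Xt.Over (Spec (CommRingCat.of k))]
    [IsIntegral X] [IsSeparated (X ↘ Spec (CommRingCat.of k))]
    [LocallyOfFiniteType (X ↘ Spec (CommRingCat.of k))] [QuasiCompact (X ↘ Spec (CommRingCat.of k))]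
    (f : Xt ⟶ X) (hf : f ≫ (X ↘ Spec (CommRingCat.of k)) = Xt ↘ Spec (CommRingCat.of k)) [IsProper f]
    (U : X.Opens) (hU : (U : Set X).Nonempty) (hbir : IsIso (f ∣_ U))
    (hfib : ∀ V : X.Opens, IsIso (f.app V))
    (hXt : Pi1.IsNormalScheme Xt) : Pi1.IsNormalScheme X := by
  haveI : IsLocallyNoetherian X :=
    LocallyOfFiniteType.isLocallyNoetherian (X ↘ Spec (CommRingCat.of k))
  haveI : IsLocallyNoetherian Xt := LocallyOfFiniteType.isLocallyNoetherian f
  intro x
  obtain ⟨V, hV, hxV, -⟩ := exists_isAffineOpen_mem_and_subset (x := x) (U := ⊤) trivial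
  haveI : Nonempty V := ⟨⟨x, hxV⟩⟩
  let W : Scheme.{u} := (f ⁻¹ᵁ V).toScheme
  let e : Γ(X, V) ≃+* Γ(W, ⊤) :=
    (asIso (f.app V) ≪≫ ((f ⁻¹ᵁ V).topIso).symm).commRingCatIsoToRingEquiv
  haveI : IsDomain Γ(W, ⊤) := e.symm.toMulEquiv.isDomain
  haveI : Nonempty W := by
    by_contra hne
    rw [not_nonempty_iff] at hne
    haveI := hne
    haveI : Subsingleton Γ(W, ⊤) := by
      rw [show (⊤ : W.Opens) = ⊥ from TopologicalSpace.Opens.ext (Subsingleton.elim _ _)]
      infer_instance
    exact false_of_nontrivial_of_subsingleton Γ(W, ⊤)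
  haveI : PreconnectedSpace W := GrpSchLib.AntiAffine.preconnectedSpace_of_forall_idem
    fun e' he => IsIdempotentElem.iff_eq_zero_or_one.1 he
  haveI : ConnectedSpace W := { toNonempty := inferInstance }
  haveI : CompactSpace W := isCompact_iff_compactSpace.1
    (QuasiCompact.isCompact_preimage (f := f) (V : Set X) V.2 hV.isCompact)
  haveI : IsNoetherian W := { }
  have hN : Pi1.IsNormalScheme W := fun w => by
    let r : Xt.presheaf.stalk ((f ⁻¹ᵁ V).ι w) ≃+* W.presheaf.stalk w :=
      (asIso ((f ⁻¹ᵁ V).ι.stalkMap w)).commRingCatIsoToRingEquiv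
    haveI := (hXt ((f ⁻¹ᵁ V).ι w)).1
    haveI := (hXt ((f ⁻¹ᵁ V).ι w)).2
    haveI : IsDomain (W.presheaf.stalk w) := r.symm.toMulEquiv.isDomain
    exact ⟨inferInstance, IsIntegrallyClosed.of_equiv r⟩
  haveI := isIntegral_of_normal_connected hN
  haveI : IsIntegrallyClosed Γ(W, ⊤) := S2102.result W hN
  haveI : IsIntegrallyClosed Γ(X, V) := IsIntegrallyClosed.of_equiv e.symm
  letI := X.presheaf.algebra_section_stalk (⟨x, hxV⟩ : V)
  haveI := hV.isLocalization_stalk ⟨x, hxV⟩
  exact ⟨inferInstance, isIntegrallyClosed_of_isLocalization (R := Γ(X, V))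
    (X.presheaf.stalk x) (hV.primeIdealOf ⟨x, hxV⟩).asIdeal.primeCompl
    (Ideal.primeCompl_le_nonZeroDivisors _)⟩

end Groth.Agent.S20014
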