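import Groth.Statements.S20017
import Groth.Agent.TorsNorm28.NormalIso

set_option autoImplicit false
universe u
open CategoryTheory AlgebraicGeometry
open NonAbH1

namespace Groth.Agent.S20017

/-- Let X be a normal integral scheme (integral, with every local ring integrally closed), G a group
scheme over X whose structure morphism is finite and flat, and U ⊆ X a dense open subscheme. Then
the restriction map H¹(X, G) → H¹(U, G|_U) on classes of fppf G-torsors — X-schemes with a G-action
which are pseudo-torsors and acquire sections on the members of some fppf covering family, up to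
equivariant isomorphism — given by base change along the open immersion U → X, is injective. (G is
not assumed commutative; injectivity is that of a map of pointed sets.) -/
theorem result
    (X : Scheme.{u}) [AlgebraicGeometry.IsIntegral X] (hX : Pi1.IsNormalScheme X)
    (G : Over X) [GrpObj G] [IsFinite G.hom] [Flat G.hom]
    (U : X.Opens) (hU : Dense (U : Set X)) :
    Function.Injective (NonAbH1.H1Sch.bcMap U.ι G Scheme.fppfPrecoverage) := by
  intro c d h
  obtain ⟨P, rfl⟩ := Quot.exists_rep c
  obtain ⟨Q, rfl⟩ := Quot.exists_rep d
  obtain ⟨e⟩ := (Groth.Agent.TorsNorm28.cl_eq_iff (P := P.bc U.ι) (Q := Q.bc U.ι)).1 h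
  have hη : genericPoint X ∈ U := by
    obtain ⟨x, hx⟩ := hU.nonempty
    exact ((genericPoint_spec X).mem_open_set_iff U.isOpen).mpr ⟨x, trivial, hx⟩
  let ε : Groth.Agent.TorsNorm28.genObj X ⟶ Over.mk U.ι :=
    Over.homMk (IsOpenImmersion.lift U.ι (X.fromSpecStalk (genericPoint X)) (by
      rw [Scheme.Opens.range_ι]
      exact Groth.Agent.TorsNorm28.range_fromSpecStalk_generic_subset hη)) (IsOpenImmersion.lift_fac _ _ _)
  let φ := Groth.Agent.TorsNorm28.famOfBC U.ι e.iso.hom
  refine Quot.sound (Groth.Agent.TorsNorm28.nonempty_equivIso_of_normal hX P.isTorsor Q.isTorsor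
    ((MonoidalCategoryStruct.whiskerLeft P.X ε) ≫ φ) fun Z g x t => ?_)
  rw [CartesianMonoidalCategory.lift_whiskerLeft_assoc, CartesianMonoidalCategory.lift_whiskerLeft_assoc]
  exact Groth.Agent.TorsNorm28.famOfBC_equivariant U.ι e Z g x (t ≫ ε)

end Groth.Agent.S20017
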