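import Groth.Statements.S20025
import Mathlib.LinearAlgebra.Matrix.NonsingularInverse
import Mathlib.Tactic.FinCases
import Mathlib.Tactic.LinearCombination
import Mathlib.GroupTheory.Perm.Basic
import Mathlib.Data.Fintype.Perm
import Mathlib.Tactic.FieldSimp
-- import your own Groth.Agent.* helpers here

set_option autoImplicit false
universe u
open InvQ

namespace Groth.Agent.S20025

section

open MvPolynomial W4c6intromoduli

variable (k : Type u) [Field k]

theorem exists_perm : ∀ i j : Fin 4, i ≠ j → ∃ σ : Equiv.Perm (Fin 4), σ 0 = i ∧ σ 1 = j := by decide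

variable {k}

theorem binForm_perm (la mu : Fin 4 → k) (σ : Equiv.Perm (Fin 4)) :
    binForm (la ∘ σ) (mu ∘ σ) = binForm la mu :=
  Equiv.prod_comp σ fun i => C (mu i) * X 0 - C (la i) * X 1

/-- The linear form with root `(l, m)`. -/
noncomputable def lin (l m : k) : MvPolynomial (Fin 2) k := C m * X 0 - C l * X 1

theorem exists_smul_lin {l m l' m' : k} (h : l ≠ 0 ∨ m ≠ 0) (h' : l' ≠ 0 ∨ m' ≠ 0) (e : l * m' = l' * m) :
    ∃ c : k, c ≠ 0 ∧ lin l' m' = C c * lin l m := by
  obtain ⟨c, hl, hm⟩ : ∃ c : k, l' = c * l ∧ m' = c * m := by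
    by_cases hl0 : l = 0
    · have hm0 : m ≠ 0 := h.resolve_left (not_not.mpr hl0)
      subst hl0
      rw [zero_mul, zero_eq_mul] at e
      exact ⟨m' / m, by simp [e.resolve_right hm0], (div_mul_cancel₀ m' hm0).symm⟩
    · refine ⟨l' / l, (div_mul_cancel₀ l' hl0).symm, ?_⟩
      rw [div_mul_eq_mul_div, eq_div_iff hl0]; linear_combination e
  refine ⟨c, ?_, ?_⟩
  · rintro rfl; simp [hl, hm] at h'
  · simp only [lin, hl, hm, map_mul]; ring

theorem eval_subst (M : Matrix (Fin 2) (Fin 2) k) (x : Fin 2 → k) (f : MvPolynomial (Fin 2) k) :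
    eval x (subst M f) = eval (M.mulVec x) f := by
  induction f using MvPolynomial.induction_on with
  | C a => simp [subst]
  | add p q hp hq => simp only [map_add, hp, hq]
  | mul_X p i hp =>
    rw [map_mul, map_mul, map_mul, hp, eval_X]
    simp [subst, Matrix.mulVec, dotProduct]

theorem not_both {F : MvPolynomial (Fin 2) k} {M N : Matrix (Fin 2) (Fin 2) k} {c d : k} (hM : IsUnit M.det)
    (hN : IsUnit N.det) (hd0 : d ≠ 0)
    (h1 : F = C c * subst M (X 0 ^ 2 * X 1 * (X 0 - X 1))) (h2 : F = C d * subst N (X 0 ^ 2 * X 1 ^ 2)) : False := by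
  set P := N * M⁻¹ with hP
  have hdet : P.det ≠ 0 := by
    rw [hP, Matrix.det_mul]
    exact mul_ne_zero hN.ne_zero ((Matrix.isUnit_nonsing_inv_det M hM).ne_zero)
  have key : ∀ y : Fin 2 → k, y 0 ^ 2 * y 1 * (y 0 - y 1) = 0 → (P.mulVec y) 0 = 0 ∨ (P.mulVec y) 1 = 0 := by
    intro y hy
    have := congrArg (eval ((M⁻¹).mulVec y)) (h1.symm.trans h2)
    simp only [map_mul, eval_C, eval_subst, Matrix.mulVec_mulVec, Matrix.mul_nonsing_inv M hM, Matrix.one_mulVec,
      map_sub, map_pow, eval_X, hy, mul_zero] at this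
    simpa [hd0, ← hP] using this.symm
  have k0 := key ![1, 0] (by simp)
  have k1 := key ![0, 1] (by simp)
  have k2 := key ![1, 1] (by simp)
  simp [Matrix.mulVec, dotProduct, Fin.sum_univ_two] at k0 k1 k2
  rw [Matrix.det_fin_two] at hdet
  rcases k0 with e0 | e0 <;> rcases k1 with e1 | e1 <;> rcases k2 with e2 | e2 <;>
    simp only [e0, e1, mul_zero, zero_mul, sub_zero, zero_sub, ne_eq, neg_eq_zero, mul_eq_zero, not_or, add_zero,
      zero_add, not_true_eq_false] at hdet e2 <;>
    tauto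

theorem subst_X (M : Matrix (Fin 2) (Fin 2) k) (i : Fin 2) :
    subst M (X i) = C (M i 0) * X 0 + C (M i 1) * X 1 := by
  simp [subst, Fin.sum_univ_two]

variable (k) in
theorem main (la mu : Fin 4 → k) (hne : ∀ i, la i ≠ 0 ∨ mu i ≠ 0) (h01 : la 0 * mu 1 = la 1 * mu 0)
    (h3z : ∀ i j l : Fin 4, i ≠ j → j ≠ l → i ≠ l →
      ¬ (la i * mu j = la j * mu i ∧ la j * mu l = la l * mu j)) :
    Xor
      (∃ (M : Matrix (Fin 2) (Fin 2) k) (c : k), IsUnit M.det ∧ c ≠ 0 ∧
        binForm la mu = C c * subst M (X 0 ^ 2 * X 1 * (X 0 - X 1)))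
      (∃ (M : Matrix (Fin 2) (Fin 2) k) (c : k), IsUnit M.det ∧ c ≠ 0 ∧
        binForm la mu = C c * subst M (X 0 ^ 2 * X 1 ^ 2)) := by
  obtain ⟨c, hc, hl1⟩ := exists_smul_lin (hne 0) (hne 1) h01
  have hD : ∀ l : Fin 4, l ≠ 0 → l ≠ 1 → la 0 * mu l - la l * mu 0 ≠ 0 := fun l h0 h1 e =>
    h3z 1 0 l (by decide) h0.symm h1.symm ⟨h01.symm, sub_eq_zero.mp e⟩
  have hD2 := hD 2 (by decide) (by decide)
  have hD3 := hD 3 (by decide) (by decide)
  have hbin : binForm la mu = lin (la 0) (mu 0) * lin (la 1) (mu 1) * lin (la 2) (mu 2) * lin (la 3) (mu 3) := by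
    simp [binForm, lin, Fin.prod_univ_four]
  by_cases h23 : la 2 * mu 3 = la 3 * mu 2
  · obtain ⟨e, he, hl3⟩ := exists_smul_lin (hne 2) (hne 3) h23
    have hB : ∃ (M : Matrix (Fin 2) (Fin 2) k) (x : k), IsUnit M.det ∧ x ≠ 0 ∧
        binForm la mu = C x * subst M (X 0 ^ 2 * X 1 ^ 2) := by
      refine ⟨!![mu 0, -la 0; mu 2, -la 2], c * e, isUnit_iff_ne_zero.mpr ?_, mul_ne_zero hc he, ?_⟩
      · rw [Matrix.det_fin_two]
        intro h; apply hD2; simp at h; linear_combination h
      · rw [hbin, hl1, hl3]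
        simp [subst_X, lin]
        ring
    exact Or.inr ⟨hB, fun ⟨M, x, hM, _, h⟩ => by
      obtain ⟨N, y, hN, hy, h'⟩ := hB
      exact not_both hM hN hy h h'⟩
  · set D := la 0 * mu 2 - la 2 * mu 0
    set b := (la 0 * mu 3 - la 3 * mu 0) / D with hb
    set a' := (la 3 * mu 2 - mu 3 * la 2) / D with ha'
    have hm : a' * mu 0 + b * mu 2 = mu 3 := by
      simp only [ha', hb]; field_simp; simp only [D]; ring
    have hl : a' * la 0 + b * la 2 = la 3 := by
      simp only [ha', hb]; field_simp; simp only [D]; ring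
    have ha0 : a' ≠ 0 := div_ne_zero (fun e => h23 (by linear_combination -e)) hD2
    have hb0 : b ≠ 0 := div_ne_zero hD3 hD2
    have hA : ∃ (M : Matrix (Fin 2) (Fin 2) k) (x : k), IsUnit M.det ∧ x ≠ 0 ∧
        binForm la mu = C x * subst M (X 0 ^ 2 * X 1 * (X 0 - X 1)) := by
      refine ⟨!![a' * mu 0, -(a' * la 0); -(b * mu 2), b * la 2], c / (a' ^ 2 * (-b)),
        isUnit_iff_ne_zero.mpr ?_, div_ne_zero hc (mul_ne_zero (pow_ne_zero _ ha0) (neg_ne_zero.mpr hb0)), ?_⟩
      · rw [Matrix.det_fin_two]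
        intro h
        have h' : a' * b * D = 0 := by simp at h; simp only [D]; linear_combination -h
        exact mul_ne_zero (mul_ne_zero ha0 hb0) hD2 h'
      · rw [hbin, hl1]
        have hcc : (C (c / (a' ^ 2 * -b)) : MvPolynomial (Fin 2) k) * (C a' ^ 2 * (-C b)) = C c := by
          rw [← map_pow, ← map_neg, ← map_mul, ← map_mul, div_mul_cancel₀]
          exact mul_ne_zero (pow_ne_zero _ ha0) (neg_ne_zero.mpr hb0)
        simp only [lin, ← hm, ← hl, ← hcc]
        simp [subst_X]
        ring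
    exact Or.inl ⟨hA, fun ⟨N, y, hN, hy, h'⟩ => by
      obtain ⟨M, x, hM, _, h⟩ := hA
      exact not_both hM hN hy h h'⟩

end

/-- For the special fibre of the invariant map, over a field in which 2 and 3 are nonzero, consider a
split binary quartic f = ∏_i (μ_i X₀ − λ_i X₁) given by four root points (λ_i, μ_i) ≠ (0, 0), with a
double zero (vanishing discriminant ∏_{i<j} (λ_j μ_i − λ_i μ_j)²) and no triple zero (no three root
points pairwise proportional); these are the forms of the fibre over the special point P³/Q² = 6 of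
the invariant map. Then exactly one of the two alternatives holds: f is a nonzero constant times the
form X₀² X₁ (X₀ − X₁) after an invertible linear substitution of the variables, or f is a nonzero
constant times X₀² X₁² after such a substitution. So this fibre consists of exactly two classes
under substitutions and scalars (one double zero and two simple zeros; two double zeros). (The
dimensions of the two orbits and which of them is open or closed in the fibre are not part of this
row; stated for split forms over any such field.) -/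
theorem result (k : Type u) [Field k]
    (h2 : (2 : k) ≠ 0) (h3 : (3 : k) ≠ 0) (la mu : Fin 4 → k)
    (hne : ∀ i, la i ≠ 0 ∨ mu i ≠ 0) (hd : W4c6intromoduli.disc la mu = 0)
    (h3z : ∀ i j l : Fin 4, i ≠ j → j ≠ l → i ≠ l →
      ¬ (la i * mu j = la j * mu i ∧ la j * mu l = la l * mu j)) :
    Xor
      (∃ (M : Matrix (Fin 2) (Fin 2) k) (c : k), IsUnit M.det ∧ c ≠ 0 ∧
        W4c6intromoduli.binForm la mu =
          MvPolynomial.C c * W4c6intromoduli.subst M
            (MvPolynomial.X 0 ^ 2 * MvPolynomial.X 1 * (MvPolynomial.X 0 - MvPolynomial.X 1)))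
      (∃ (M : Matrix (Fin 2) (Fin 2) k) (c : k), IsUnit M.det ∧ c ≠ 0 ∧
        W4c6intromoduli.binForm la mu =
          MvPolynomial.C c * W4c6intromoduli.subst M
            (MvPolynomial.X 0 ^ 2 * MvPolynomial.X 1 ^ 2)) := by
  obtain ⟨i, j, hij, h01⟩ : ∃ i j : Fin 4, i ≠ j ∧ la i * mu j = la j * mu i := by
    obtain ⟨p, hp, h0⟩ := Finset.prod_eq_zero_iff.mp hd
    simp only [Finset.mem_filter, Finset.mem_univ, true_and] at hp
    exact ⟨p.2, p.1, hp.ne', sub_eq_zero.mp ((pow_eq_zero_iff two_ne_zero).mp h0)⟩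
  obtain ⟨σ, rfl, rfl⟩ := exists_perm i j hij
  rw [← binForm_perm la mu σ]
  exact main k (la ∘ σ) (mu ∘ σ) (fun i => hne (σ i)) h01
    (fun a b c h1 h2 h3 => h3z (σ a) (σ b) (σ c) (σ.injective.ne h1) (σ.injective.ne h2) (σ.injective.ne h3))

end Groth.Agent.S20025
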