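import Groth.Statements.S2050
import Groth.Agent.CAlgH39.LocalFP
-- import your own Groth.Agent.* helpers here

set_option autoImplicit false
universe u
open CAlg
open Groth.Agent.CAlgH39.LocalFP

namespace Groth.Agent.S2050

/-- Let `S = R[x_1, …, x_n]` and `M` a finite `S`-module, flat over `R`, such that for every prime `𝔭`
of `R` the localization `M_𝔭` is finitely presented over `S_𝔭`. If `R` embeds into the product of
finitely many of its local rings, then `M` is finitely presented over `S`. -/
theorem result {R : Type u} [CommRing R] (n : ℕ)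
    {M : Type u} [AddCommGroup M] [Module (MvPolynomial (Fin n) R) M] [Module R M]
    [IsScalarTower R (MvPolynomial (Fin n) R) M] [Module.Finite (MvPolynomial (Fin n) R) M] [Module.Flat R M]
    (s : Finset (PrimeSpectrum R))
    (hs : Function.Injective fun r : R => fun p : s => algebraMap R (Localization.AtPrime p.1.asIdeal) r)
    (hloc : ∀ (p : Ideal R) [p.IsPrime],
      Module.FinitePresentation
        (Localization (Algebra.algebraMapSubmonoid (MvPolynomial (Fin n) R) p.primeCompl))
        (LocalizedModule (Algebra.algebraMapSubmonoid (MvPolynomial (Fin n) R) p.primeCompl) M)) :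
    Module.FinitePresentation (MvPolynomial (Fin n) R) M := by
  classical
  obtain ⟨a, π, hπ⟩ := Module.Finite.exists_fin' (MvPolynomial (Fin n) R) M
  let K := LinearMap.ker π
  let eK : ((Fin a → MvPolynomial (Fin n) R) ⧸ K) ≃ₗ[R] M := (π.quotKerEquivOfSurjective hπ).restrictScalars R
  have : Module.Flat R ((Fin a → MvPolynomial (Fin n) R) ⧸ K) := Module.Flat.of_linearEquiv eK
  suffices hK : K.FG from Module.finitePresentation_of_surjective π hπ hK
  refine fg_of_locally_fg K s hs fun p => ?_
  let T := Algebra.algebraMapSubmonoid (MvPolynomial (Fin n) R) p.asIdeal.primeCompl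
  let fV := LocalizedModule.mkLinearMap T (Fin a → MvPolynomial (Fin n) R)
  let fM := LocalizedModule.mkLinearMap T M
  let πT := IsLocalizedModule.mapExtendScalars T fV fM (Localization T) π
  have hπT : Function.Surjective πT := IsLocalizedModule.map_surjective T fV fM π hπ
  have : Module.Finite (Localization T) (LocalizedModule T (Fin a → MvPolynomial (Fin n) R)) :=
    Module.Finite.of_isLocalizedModule T fV
  have := hloc p.asIdeal
  obtain ⟨G, hG⟩ := Module.FinitePresentation.fg_ker πT hπT
  have hval : ∀ y, πT (fV y) = fM (π y) := IsLocalizedModule.map_apply T fV fM π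
  have hG' : ∀ g ∈ G, ∃ y ∈ K, ∃ t : T, (t : MvPolynomial (Fin n) R) • g = fV y := by
    intro g hg
    obtain ⟨⟨y, t⟩, hy⟩ := IsLocalizedModule.surj T fV g
    have h0 : fM (π y) = 0 := by
      rw [← hval, ← hy, Submonoid.smul_def, LinearMap.map_smul_of_tower,
        show πT g = 0 from hG.le (Submodule.subset_span hg), smul_zero]
    obtain ⟨u, hu⟩ := (IsLocalizedModule.eq_zero_iff T fM).1 h0
    refine ⟨(u : MvPolynomial (Fin n) R) • y, (LinearMap.mem_ker).2 (by rw [map_smul]; exact hu), u * t, ?_⟩
    rw [Submonoid.coe_mul, mul_smul, ← Submonoid.smul_def t, hy, map_smul]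
  choose! y hyK t hy using hG'
  refine ⟨G.image y, fun z hz => ?_, fun x hx => ?_⟩
  · obtain ⟨g, hg, rfl⟩ := Finset.mem_image.1 hz
    exact hyK g hg
  set L := Submodule.span (MvPolynomial (Fin n) R) ((G.image y : Finset _) : Set (Fin a → MvPolynomial (Fin n) R))
  have hmem : fV x ∈ Submodule.span (Localization T) (G : Set (LocalizedModule T (Fin a → MvPolynomial (Fin n) R))) := by
    refine hG.ge (LinearMap.mem_ker.2 ?_)
    rw [hval, LinearMap.mem_ker.1 hx, map_zero]
  have key : ∀ z ∈ Submodule.span (Localization T) (G : Set (LocalizedModule T (Fin a → MvPolynomial (Fin n) R))),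
      ∃ (u : T) (l : _), l ∈ L ∧ (u : MvPolynomial (Fin n) R) • z = fV l := by
    intro z hz
    induction hz using Submodule.span_induction with
    | mem g hg => exact ⟨t g, y g, Submodule.subset_span (Finset.mem_image_of_mem y hg), hy g hg⟩
    | zero => exact ⟨1, 0, zero_mem _, by simp⟩
    | add z w _ _ hz hw =>
      obtain ⟨u, l, hl, hul⟩ := hz; obtain ⟨v, m, hm, hvm⟩ := hw
      refine ⟨u * v, (v : MvPolynomial (Fin n) R) • l + (u : MvPolynomial (Fin n) R) • m,
        add_mem (L.smul_mem _ hl) (L.smul_mem _ hm), ?_⟩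
      rw [map_add, map_smul, map_smul, ← hul, ← hvm, smul_add, Submonoid.coe_mul, ← mul_smul, ← mul_smul, mul_comm]
    | smul c z _ hz =>
      obtain ⟨u, l, hl, hul⟩ := hz
      obtain ⟨⟨b, v⟩, hbv⟩ := IsLocalization.surj T c
      refine ⟨u * v, b • l, L.smul_mem _ hl, ?_⟩
      rw [map_smul, ← hul, Submonoid.coe_mul, mul_comm, mul_smul, smul_comm (u : MvPolynomial (Fin n) R) c z,
        ← smul_assoc, Algebra.smul_def, mul_comm, hbv, IsScalarTower.algebraMap_smul]
  obtain ⟨u, l, hl, hul⟩ := key _ hmem
  rw [← map_smul] at hul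
  obtain ⟨v, hv⟩ := (IsLocalizedModule.eq_iff_exists T fV).1 hul
  obtain ⟨r, hr, hru⟩ := (v * u).2
  refine ⟨r, hr, ?_⟩
  rw [← IsScalarTower.algebraMap_smul (MvPolynomial (Fin n) R) r x, hru, Submonoid.coe_mul, mul_smul,
    ← Submonoid.smul_def v, hv]
  exact L.smul_mem _ hl


end Groth.Agent.S2050
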