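import Groth.Statements.S2101
import Mathlib
-- import your own Groth.Agent.* helpers here

set_option autoImplicit false
universe u
open CAlg

namespace Groth.Agent.S2101

section
variable {R : Type u} [CommRing R] {r : ℕ} (f : Fin r → R)

/-- `f i` is regular modulo the `f j`, `j ∈ T`. -/
def Reg (i : Fin r) (T : Set (Fin r)) : Prop :=
  ∀ x : R, f i * x ∈ Ideal.span (f '' T) → x ∈ Ideal.span (f '' T)

theorem weaklyRegular_ofFn_iff {A : Type u} [CommRing A] {r : ℕ} (g : Fin r → A) :
    RingTheory.Sequence.IsWeaklyRegular A (List.ofFn g) ↔ ∀ i, Reg g i {j | j < i} := by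
  have hspan : ∀ i : Fin r, Ideal.ofList ((List.ofFn g).take i) • (⊤ : Ideal A) = Ideal.span (g '' {j | j < i}) := by
    intro i
    rw [Ideal.smul_eq_mul, Ideal.mul_top, Ideal.ofList]
    congr 1
    ext x
    simp only [Set.mem_ofPred_eq, List.mem_iff_getElem, Set.mem_image]
    constructor
    · rintro ⟨j, hj, rfl⟩
      simp only [List.length_take, List.length_ofFn] at hj
      exact ⟨⟨j, by omega⟩, Fin.lt_def.2 (by simp; omega), by simp⟩
    · rintro ⟨j, hj, rfl⟩
      exact ⟨j, by simp [List.length_take, List.length_ofFn]; exact hj, by simp⟩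
  rw [RingTheory.Sequence.isWeaklyRegular_iff_Fin]
  constructor
  · intro h i x hx
    have h' := h (Fin.cast (List.length_ofFn).symm i)
    simp only [Fin.getElem_fin, List.getElem_ofFn, Fin.val_cast] at h'
    rw [isSMulRegular_quotient_iff_mem_of_smul_mem] at h'
    have := h' x (by rw [hspan i]; exact hx)
    rwa [hspan i] at this
  · intro h i
    simp only [Fin.getElem_fin, List.getElem_ofFn]
    rw [isSMulRegular_quotient_iff_mem_of_smul_mem]
    intro x hx
    have e := hspan (Fin.cast List.length_ofFn i)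
    simp only [Fin.val_cast] at e
    rw [e] at hx ⊢
    exact h _ x hx

/-- Regularity modulo smaller indices gives regularity modulo all. -/
theorem reg_all (h : ∀ (i : Fin r) (T : Set (Fin r)), (∀ j ∈ T, j < i) → Reg f i T) :
    ∀ (N : ℕ) (i : Fin r) (T : Finset (Fin r)), i ∉ T → (T.filter (i < ·)).card = N → Reg f i T := by
  classical
  intro N
  induction N using Nat.strong_induction_on with
  | _ N ih =>
    intro i T hi hN
    rcases Finset.eq_empty_or_nonempty (T.filter (i < ·)) with he | hne
    · refine h i T fun j hj => ?_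
      rcases lt_trichotomy j i with hji | hji | hji
      · exact hji
      · exact absurd (hji ▸ Finset.mem_coe.1 hj) hi
      · exact absurd (Finset.mem_filter.2 ⟨hj, hji⟩) (by rw [he]; exact Finset.notMem_empty j)
    set j := (T.filter (i < ·)).max' hne with hjdef
    obtain ⟨hjT, hij⟩ := Finset.mem_filter.1 ((T.filter (i < ·)).max'_mem hne)
    let T' := T.erase j
    have hlt : ∀ l ∈ insert i T', l < j := by
      intro l hl
      rcases Finset.mem_insert.1 hl with rfl | hl
      · exact hij
      · obtain ⟨hlj, hlT⟩ := Finset.mem_erase.1 hl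
        rcases lt_or_ge i l with hil | hil
        · exact lt_of_le_of_ne (Finset.le_max' _ l (Finset.mem_filter.2 ⟨hlT, hil⟩)) hlj
        · exact hil.trans_lt hij
    have hAi : Reg f i T' := ih _ (by
      rw [← hN, Finset.filter_erase]
      exact Finset.card_erase_lt_of_mem (Finset.mem_filter.2 ⟨hjT, hij⟩)) i T'
      (fun h' => hi (Finset.mem_of_mem_erase h')) rfl
    have hBj : Reg f j (insert i T' : Finset _) := h j _ (fun l hl => hlt l (Finset.mem_coe.1 hl))
    intro x hx
    have hT : f '' (T : Set (Fin r)) = insert (f j) (f '' (T' : Set (Fin r))) := by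
      rw [← Set.image_insert_eq, ← Finset.coe_insert, Finset.insert_erase hjT]
    rw [hT, Ideal.mem_span_insert] at hx ⊢
    obtain ⟨y, z, hz, hxy⟩ := hx
    have hy : y ∈ Ideal.span (f '' ((insert i T' : Finset _) : Set (Fin r))) := hBj y (by
      rw [Finset.coe_insert, Set.image_insert_eq, Ideal.mem_span_insert]
      exact ⟨x, -z, neg_mem hz, by linear_combination -hxy⟩)
    rw [Finset.coe_insert, Set.image_insert_eq, Ideal.mem_span_insert] at hy
    obtain ⟨w, z', hz', rfl⟩ := hy
    refine ⟨w, x - w * f j, hAi _ ?_, by ring⟩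
    have : f i * (x - w * f j) = z + f j * z' := by linear_combination hxy
    rw [this]
    exact add_mem hz (Ideal.mul_mem_left _ _ hz')

open MvPolynomial

theorem mem_span_CX_iff (S : Set (Fin r)) (p : MvPolynomial (Fin r) R) :
    p ∈ Ideal.span ((fun i => C (f i) * X i) '' S) ↔
      ∀ m : Fin r →₀ ℕ, p.coeff m ∈ Ideal.span (f '' {j | j ∈ S ∧ m j ≠ 0}) := by
  classical
  constructor
  · intro hp
    induction hp using Submodule.span_induction with
    | mem q hq =>
      obtain ⟨i, hi, rfl⟩ := hq
      intro m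
      show coeff m (C (f i) * X i) ∈ _
      rw [coeff_C_mul, coeff_X]
      split_ifs with h
      · subst h
        rw [mul_one]
        exact Ideal.subset_span ⟨i, ⟨hi, by simp⟩, rfl⟩
      · rw [mul_zero]; exact zero_mem _
    | zero => simp
    | add a b _ _ ha hb => intro m; rw [coeff_add]; exact add_mem (ha m) (hb m)
    | smul g a _ ha =>
      intro m
      rw [smul_eq_mul, coeff_mul]
      refine Ideal.sum_mem _ fun de hde => Ideal.mul_mem_left _ _
        (Ideal.span_mono (Set.image_mono ?_) (ha de.2))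
      rintro l ⟨hl1, hl2⟩
      refine ⟨hl1, ?_⟩
      have := Finset.HasAntidiagonal.mem_antidiagonal.1 hde
      rw [← this, Finsupp.add_apply]
      omega
  · intro h
    rw [p.as_sum]
    refine Ideal.sum_mem _ fun m _ => ?_
    refine (Submodule.span_le.2 ?_ : Ideal.span (f '' {j | j ∈ S ∧ m j ≠ 0}) ≤
      ((Ideal.span ((fun i => C (f i) * X i) '' S)).restrictScalars R).comap (monomial m : R →ₗ[R] MvPolynomial (Fin r) R)) (h m)
    rintro _ ⟨j, ⟨hjS, hj⟩, rfl⟩
    show monomial m (f j) ∈ Ideal.span _
    have e : monomial m (f j) = monomial (m - Finsupp.single j 1) (1 : R) * (C (f j) * X j) := by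
      rw [C_mul_X_eq_monomial, monomial_mul, one_mul, tsub_add_cancel_of_le]
      exact Finsupp.single_le_iff.2 (Nat.one_le_iff_ne_zero.2 hj)
    rw [e]
    exact Ideal.mul_mem_left _ _ (Ideal.subset_span ⟨j, hjS, rfl⟩)

theorem reg_CX_iff (i : Fin r) :
    Reg (fun i => C (f i) * (X i : MvPolynomial (Fin r) R)) i {j | j < i} ↔
      ∀ T : Set (Fin r), (∀ j ∈ T, j < i) → Reg f i T := by
  classical
  constructor
  · intro h T hT x hx
    let m : Fin r →₀ ℕ := Finsupp.equivFunOnFinite.symm fun j => if j ∈ T then 1 else 0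
    have hm : ∀ j, m j ≠ 0 ↔ j ∈ T := fun j => by simp [m]
    have hTi : i ∉ T := fun hi => lt_irrefl _ (hT i hi)
    have hmem : monomial m x ∈ Ideal.span ((fun i => C (f i) * (X i : MvPolynomial (Fin r) R)) '' {j | j < i}) := by
      refine h _ ((mem_span_CX_iff f _ _).2 fun d => ?_)
      simp only [C_mul_X_eq_monomial, monomial_mul, coeff_monomial]
      split_ifs with hd
      · refine Ideal.span_mono (Set.image_mono ?_) hx
        intro j hj
        refine ⟨hT j hj, ?_⟩
        rw [← hd, Finsupp.add_apply]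
        have := (hm j).2 hj
        omega
      · exact zero_mem _
    have h2 := (mem_span_CX_iff f _ _).1 hmem m
    rw [coeff_monomial, if_pos rfl] at h2
    exact Ideal.span_mono (Set.image_mono fun j hj => (hm j).1 hj.2) h2
  · intro h p hp
    rw [mem_span_CX_iff] at hp ⊢
    intro m
    refine h {j | j ∈ {j | j < i} ∧ m j ≠ 0} (fun j hj => hj.1) _ ?_
    have hsub : {j | j ∈ {j | j < i} ∧ (Finsupp.single i 1 + m : Fin r →₀ ℕ) j ≠ 0} ⊆ {j | j ∈ {j | j < i} ∧ m j ≠ 0} := by
      rintro j ⟨hj1, hj2⟩
      refine ⟨hj1, ?_⟩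
      have h1 : (Finsupp.single i 1 : Fin r →₀ ℕ) j = 0 := Finsupp.single_eq_of_ne (ne_of_lt hj1)
      simpa [h1] using hj2
    refine Ideal.span_mono (Set.image_mono hsub) ?_
    have := hp (Finsupp.single i 1 + m)
    rwa [mul_assoc, coeff_C_mul, coeff_X_mul] at this

end

/-- For elements `f_1, …, f_r` generating a proper ideal, all reorderings are regular sequences in `R`
if and only if the products `f_i x_i` form a regular sequence in `R[x_1, …, x_r]`. -/
theorem result {R : Type u} [CommRing R] {r : ℕ} (f : Fin r → R)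
    (hf : Ideal.span (Set.range f) ≠ ⊤) :
    (∀ σ : Equiv.Perm (Fin r), RingTheory.Sequence.IsRegular R (List.ofFn (f ∘ σ))) ↔
      RingTheory.Sequence.IsRegular (MvPolynomial (Fin r) R)
        (List.ofFn fun i => MvPolynomial.C (f i) * MvPolynomial.X i) := by
  classical
  have htop : ∀ σ : Equiv.Perm (Fin r), Ideal.ofList (List.ofFn (f ∘ σ)) = Ideal.span (Set.range f) := fun σ => by
    rw [Ideal.ofList]; congr 1; ext x; simp only [Set.mem_ofPred_eq, List.mem_ofFn, Set.mem_range, Function.comp_apply]
    exact ⟨fun ⟨j, hj⟩ => ⟨σ j, hj⟩, fun ⟨j, hj⟩ => ⟨σ.symm j, by rw [σ.apply_symm_apply, hj]⟩⟩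
  constructor
  · intro h
    refine ⟨(weaklyRegular_ofFn_iff _).2 fun i => (reg_CX_iff f i).2 fun T hT => ?_, fun he => ?_⟩
    · obtain ⟨σ, hσ⟩ : ∃ σ : Equiv.Perm (Fin r), ∃ i' : Fin r, σ i' = i ∧ σ '' {j | j < i'} = T := by
        let T₀ : Finset (Fin r) := T.toFinset
        have hi : i ∉ T₀ := fun hi => lt_irrefl _ (hT i (Set.mem_toFinset.1 hi))
        let i' : Fin r := ⟨T₀.card, lt_of_lt_of_le (Finset.card_lt_card (Finset.ssubset_insert hi))
          (by simpa using Finset.card_le_univ (insert i T₀))⟩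
        let e₀ : {j : Fin r // j < i'} ≃ {j // j ∈ T₀} := Fintype.equivOfCardEq (by
          rw [Fintype.card_coe, Fintype.card_subtype,
            show (Finset.univ.filter fun j => j < i') = Finset.Iio i' by ext; simp, Fin.card_Iio])
        let e : {j : Fin r // j ≤ i'} → Fin r := fun j => if h : j.1 < i' then (e₀ ⟨j.1, h⟩).1 else i
        have he : Function.Injective e := by
          intro a b hab
          simp only [e] at hab
          split_ifs at hab with ha hb hb
          · exact Subtype.ext (congrArg Subtype.val (e₀.injective (Subtype.ext hab)) :)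
          · exact absurd (hab ▸ (e₀ ⟨a.1, ha⟩).2) hi
          · exact absurd (hab ▸ (e₀ ⟨b.1, hb⟩).2) hi
          · exact Subtype.ext ((le_antisymm a.2 (not_lt.1 ha)).trans (le_antisymm b.2 (not_lt.1 hb)).symm)
        obtain ⟨σ, hσ⟩ := Equiv.Perm.exists_extending_pair (α := {j : Fin r // j ≤ i'}) Subtype.val e
          Subtype.val_injective he
        refine ⟨σ, i', ?_, ?_⟩
        · rw [show σ i' = e ⟨i', le_rfl⟩ from hσ ⟨i', le_rfl⟩]; simp [e]
        · ext x
          constructor
          · rintro ⟨j, hj, rfl⟩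
            rw [show σ j = e ⟨j, le_of_lt hj⟩ from hσ ⟨j, le_of_lt hj⟩]
            simp only [e, dif_pos (show j < i' from hj)]
            exact Set.mem_toFinset.1 (e₀ ⟨j, hj⟩).2
          · intro hx
            obtain ⟨⟨j, hj⟩, hje⟩ := e₀.surjective ⟨x, Set.mem_toFinset.2 hx⟩
            refine ⟨j, hj, ?_⟩
            rw [show σ j = e ⟨j, le_of_lt hj⟩ from hσ ⟨j, le_of_lt hj⟩]
            simp only [e, dif_pos hj, hje]
      obtain ⟨i', rfl, rfl⟩ := hσ
      have h' := (weaklyRegular_ofFn_iff _).1 (h σ).toIsWeaklyRegular i'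
      unfold Reg at h' ⊢
      rw [← Set.image_comp]
      exact h'
    · have h1 : (1 : MvPolynomial (Fin r) R) ∈ Ideal.ofList (List.ofFn fun i => MvPolynomial.C (f i) * MvPolynomial.X i) •
          (⊤ : Ideal (MvPolynomial (Fin r) R)) := he ▸ Submodule.mem_top
      rw [Ideal.smul_eq_mul, Ideal.mul_top] at h1
      have h2 := Ideal.mem_map_of_mem (MvPolynomial.constantCoeff (σ := Fin r) (R := R)) h1
      rw [Ideal.map_ofList] at h2
      simp only [List.map_ofFn, map_one] at h2
      have : Ideal.ofList (List.ofFn (MvPolynomial.constantCoeff ∘ fun i => MvPolynomial.C (f i) * MvPolynomial.X i)) ≤ (⊥ : Ideal R) := by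
        refine Ideal.span_le.2 fun x hx => ?_
        obtain ⟨i, rfl⟩ := List.mem_ofFn.1 hx
        simp
      exact hf ((Ideal.eq_top_iff_one _).2 (by rw [(Submodule.mem_bot R).1 (this h2)]; exact zero_mem _))
  · intro h σ
    have hall := reg_all f fun i T hT => (reg_CX_iff f i).1 ((weaklyRegular_ofFn_iff _).1 h.toIsWeaklyRegular i) T hT
    refine ⟨(weaklyRegular_ofFn_iff _).2 fun i => ?_, ?_⟩
    · have := hall _ (σ i) ((σ '' {j | j < i}).toFinset) (fun hm => by
        obtain ⟨j, hj, hji⟩ := Set.mem_toFinset.1 hm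
        exact lt_irrefl i (σ.injective hji ▸ hj)) rfl
      rw [Set.coe_toFinset] at this
      unfold Reg at this ⊢
      rw [← Set.image_comp] at this
      exact this
    · rw [Ideal.smul_eq_mul, Ideal.mul_top, htop σ]
      exact hf.symm


end Groth.Agent.S2101
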