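import Groth.Statements.S8997
import Groth.Agent.RGCore.FiniteAt
-- import your own Groth.Agent.* helpers here

set_option autoImplicit false
universe u
open FlatMor

namespace Groth.Agent.S8997

set_option maxHeartbeats 1000000 in
open IsLocalRing TensorProduct in
/-- For a local homomorphism A → B of local rings essentially of finite type, a B-linear map from a
finite B-module N to an A-flat B-module M which is injective modulo the maximal ideal of A is
A-universally injective, and N is then finitely presented over B and flat over A. -/
theorem result {A B : Type u} [CommRing A] [IsLocalRing A] [CommRing B] [IsLocalRing B] [Algebra A B] [IsLocalHom (algebraMap A B)] [Algebra.EssFiniteType A B] {N M : Type u} [AddCommGroup N] [Module B N] [Module A N] [IsScalarTower A B N] [Module.Finite B N] [AddCommGroup M] [Module B M] [Module A M] [IsScalarTower A B M] [Module.Flat A M] (u : N →ₗ[B] M) (hu : Function.Injective ((u.restrictScalars A).lTensor (ResidueField A))) : FlatCA.UnivInj A (u.restrictScalars A) ∧ Module.FinitePresentation B N ∧ Module.Flat A N := by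
  classical
  obtain ⟨σ, hσ⟩ := ‹Algebra.EssFiniteType A B›.cond
  let S := Algebra.adjoin A (σ : Set B)
  have : Algebra.FiniteType A S := (Subalgebra.fg_iff_finiteType S).1 (Subalgebra.fg_adjoin_finset σ)
  let q : Ideal S := (maximalIdeal B).comap (algebraMap S B)
  have hT : q.primeCompl = (IsUnit.submonoid B).comap (algebraMap S B) := by
    ext x
    show ¬ algebraMap S B x ∈ maximalIdeal B ↔ IsUnit (algebraMap S B x)
    rw [mem_maximalIdeal, mem_nonunits_iff, not_not]
  have : IsLocalization q.primeCompl B := by rw [hT]; exact hσ
  let p := maximalIdeal A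
  have : q.LiesOver p := ⟨by
    rw [Ideal.under_def, Ideal.comap_comap, ← IsScalarTower.algebraMap_eq]
    exact (IsLocalRing.maximalIdeal_comap (algebraMap A B)).symm⟩
  have : IsScalarTower A S N := .of_algebraMap_smul fun a x => by
    show algebraMap S B (algebraMap A S a) • x = a • x
    rw [← IsScalarTower.algebraMap_apply, algebraMap_smul]
  have : IsScalarTower A S M := .of_algebraMap_smul fun a x => by
    show algebraMap S B (algebraMap A S a) • x = a • x
    rw [← IsScalarTower.algebraMap_apply, algebraMap_smul]
  obtain ⟨G, hG⟩ := (Module.Finite.fg_top : (⊤ : Submodule B N).FG)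
  let N' : Submodule S N := Submodule.span S (G : Set N)
  have : Module.Finite S N' := Module.Finite.span_of_finite S G.finite_toSet
  have hunit : ∀ s : q.primeCompl, IsUnit (algebraMap S B s) := fun s => IsLocalization.map_units B s
  have hbij : ∀ (s : q.primeCompl), (Function.Bijective fun x : N => (s : S) • x) ∧
      Function.Bijective fun x : M => (s : S) • x := fun s =>
    ⟨(hunit s).smul_bijective (β := N), (hunit s).smul_bijective (β := M)⟩
  have hN : IsLocalizedModule q.primeCompl N'.subtype :=
    { map_units := fun s => (Module.End.isUnit_iff _).2 (hbij s).1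
      surj := fun z => by
        have hz : z ∈ Submodule.span B (G : Set N) := hG ▸ trivial
        induction hz using Submodule.span_induction with
        | mem x hx => exact ⟨⟨⟨x, Submodule.subset_span hx⟩, 1⟩, one_smul _ x⟩
        | zero => exact ⟨⟨0, 1⟩, by simp⟩
        | add x y _ _ hx hy =>
          obtain ⟨⟨a, s⟩, ha⟩ := hx
          obtain ⟨⟨b, t⟩, hb⟩ := hy
          refine ⟨⟨(t : S) • a + (s : S) • b, s * t⟩, ?_⟩
          show ((s : S) * t) • (x + y) = ((t : S) • (a : N) + (s : S) • (b : N))
          rw [smul_add, show (a : N) = (s : S) • x from ha.symm, show (b : N) = (t : S) • y from hb.symm, smul_smul,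
            smul_smul, mul_comm]
        | smul c x _ hx =>
          obtain ⟨⟨a, s⟩, ha⟩ := hx
          obtain ⟨⟨c', t⟩, hc⟩ := IsLocalization.surj q.primeCompl c
          refine ⟨⟨c' • a, s * t⟩, ?_⟩
          show ((s : S) * t) • (c • x) = c' • (a : N)
          rw [show (a : N) = (s : S) • x from ha.symm, ← algebraMap_smul B, ← algebraMap_smul B c',
            ← algebraMap_smul B (s : S) x, smul_smul, smul_smul, map_mul, ← hc]
          congr 1
          ring
      exists_of_eq := fun {a b} h => ⟨1, by rw [Subtype.ext h]⟩ }
  have hM : IsLocalizedModule q.primeCompl (LinearMap.id : M →ₗ[S] M) :=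
    { map_units := fun s => (Module.End.isUnit_iff _).2 (hbij s).2
      surj := fun z => ⟨⟨z, 1⟩, one_smul _ z⟩
      exists_of_eq := fun {a b} h => ⟨1, by rw [show a = b from h]⟩ }
  let u₀ : N' →ₗ[S] M := (u.restrictScalars S) ∘ₗ N'.subtype
  -- the residue field
  let e : ResidueField A ≃ₗ[A] p.ResidueField := LinearEquiv.ofBijective
    (IsScalarTower.toAlgHom A (A ⧸ p) p.ResidueField).toLinearMap (Ideal.bijective_algebraMap_quotient_residueField p)
  have hκ : Function.Injective ((u.restrictScalars A).lTensor p.ResidueField) := by
    intro a b hab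
    obtain ⟨a, rfl⟩ := (LinearEquiv.rTensor N e).surjective a
    obtain ⟨b, rfl⟩ := (LinearEquiv.rTensor N e).surjective b
    congr 1
    apply hu
    apply (LinearEquiv.rTensor M e).injective
    have key : ∀ w, LinearEquiv.rTensor M e ((u.restrictScalars A).lTensor (ResidueField A) w) =
        (u.restrictScalars A).lTensor p.ResidueField (LinearEquiv.rTensor N e w) := by
      intro w
      induction w using TensorProduct.induction_on with
      | zero => simp
      | add x y hx hy => simp only [map_add, hx, hy]
      | tmul c x => rfl
    rw [key, key, hab]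
  obtain ⟨hflat, huniv, ⟨N₀, _, _, π, _, hπ, hker⟩, -⟩ := RGCore.finite_at p q u₀ fun w hw => by
    refine RGCore.exists_smul_eq_zero_of_lTensor q.primeCompl N'.subtype w (hκ ?_)
    rw [map_zero, ← LinearMap.lTensor_comp_apply]
    exact hw
  refine ⟨?_, ?_, ?_⟩
  · intro Q _ _
    refine RGCore.injective_lTensor_localized q.primeCompl N'.subtype (LinearMap.id : M →ₗ[S] M) u₀
      (u.restrictScalars S) rfl fun w hw => ?_
    refine RGCore.exists_smul_eq_zero_of_lTensor q.primeCompl (LocalizedModule.mkLinearMap q.primeCompl N') w (huniv Q ?_)
    rw [map_zero, ← LinearMap.lTensor_comp_apply]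
    rw [show ((IsLocalizedModule.map q.primeCompl (LocalizedModule.mkLinearMap q.primeCompl N')
        (LocalizedModule.mkLinearMap q.primeCompl M) u₀).restrictScalars A) ∘ₗ
        ((LocalizedModule.mkLinearMap q.primeCompl N').restrictScalars A) =
        ((LocalizedModule.mkLinearMap q.primeCompl M).restrictScalars A) ∘ₗ (u₀.restrictScalars A) from
      LinearMap.ext fun x => IsLocalizedModule.map_apply q.primeCompl _ _ u₀ x, LinearMap.lTensor_comp_apply, hw,
      map_zero]
  · have := RGCore.isLocalizedModule_comp_surjective q.primeCompl N'.subtype π hπ hker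
    exact FinitePresentation.of_isBaseChange (N'.subtype ∘ₗ π)
      ((isLocalizedModule_iff_isBaseChange q.primeCompl B _).mp this)
  · exact (Groth.Agent.FlatModel.flat_localized_iff q.primeCompl N'.subtype).2
      ((Groth.Agent.FlatModel.flat_localized_iff q.primeCompl (LocalizedModule.mkLinearMap q.primeCompl N')).1 hflat)
end Groth.Agent.S8997
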