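import Groth.Statements.S2107
import Groth.Agent.S8997
import Groth.Agent.CAlgH39.InjModMax
-- import your own Groth.Agent.* helpers here

set_option autoImplicit false
universe u
open CAlg
open TensorProduct Groth.Agent.CAlgH39.InjModMax

namespace Groth.Agent.S2107

/-- Let `R → S` be a local homomorphism of local rings with `S` essentially of finite presentation over
`R`, `M`, `N` finitely presented `S`-modules with `N` flat over `R`, and `u : M → N` an `S`-linear
map which is injective modulo `𝔪_R`. Then `u` is injective and its cokernel is flat over `R`. -/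
theorem result {R S M N : Type u} [CommRing R] [CommRing S] [IsLocalRing R]
    [IsLocalRing S] [Algebra R S] [IsLocalHom (algebraMap R S)] (hS : CAlgX.IsEssFinitePresentation R S)
    [AddCommGroup M] [Module S M] [Module R M] [IsScalarTower R S M] [Module.FinitePresentation S M]
    [AddCommGroup N] [Module S N] [Module R N] [IsScalarTower R S N] [Module.FinitePresentation S N] [Module.Flat R N]
    (u : M →ₗ[S] N)
    (hu : ∀ x : M, u x ∈ (IsLocalRing.maximalIdeal R).map (algebraMap R S) • (⊤ : Submodule S N) →
      x ∈ (IsLocalRing.maximalIdeal R).map (algebraMap R S) • (⊤ : Submodule S M)) :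
    Function.Injective u ∧ Module.Flat R (N ⧸ LinearMap.range u) := by
  have : Algebra.EssFiniteType R S := by
    obtain ⟨S₀, _, _, _, _, W, _, _⟩ := hS
    have : Algebra.EssFiniteType S₀ S := Algebra.EssFiniteType.of_isLocalization S W
    exact Algebra.EssFiniteType.comp R S₀ S
  set m := IsLocalRing.maximalIdeal R
  have hM : ∀ (I : Ideal R) (x : M),
      x ∈ I • (⊤ : Submodule R M) ↔ x ∈ I.map (algebraMap R S) • (⊤ : Submodule S M) := fun I x => by
    rw [← Submodule.restrictScalars_mem R (I.map (algebraMap R S) • ⊤),
      Submodule.restrictScalars_map_smul_eq, Submodule.restrictScalars_top]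
  have hN : ∀ (I : Ideal R) (x : N),
      x ∈ I • (⊤ : Submodule R N) ↔ x ∈ I.map (algebraMap R S) • (⊤ : Submodule S N) := fun I x => by
    rw [← Submodule.restrictScalars_mem R (I.map (algebraMap R S) • ⊤),
      Submodule.restrictScalars_map_smul_eq, Submodule.restrictScalars_top]
  let u' : M →ₗ[R] N := u.restrictScalars R
  have hu0 : Function.Injective (u'.lTensor (R ⧸ m)) := by
    rw [← LinearMap.ker_eq_bot, LinearMap.ker_eq_bot']
    intro z hz
    obtain ⟨x, rfl⟩ := TensorProduct.mk_surjective R M (R ⧸ m) Ideal.Quotient.mk_surjective z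
    have h1 := congrArg (quotTensorEquivQuotSMul N m) hz
    rw [map_zero] at h1
    have hx : u x ∈ m • (⊤ : Submodule R N) := by
      rw [← Submodule.Quotient.mk_eq_zero, ← h1]
      rw [← quotTensor_one m (u x)]; rfl
    apply (quotTensorEquivQuotSMul M m).injective
    rw [map_zero]
    have h2 := (hM m x).2 (hu x ((hN m _).1 hx))
    rw [← Submodule.Quotient.mk_eq_zero] at h2
    exact (quotTensor_one m x).trans h2
  obtain ⟨huniv, -, -⟩ := Groth.Agent.S8997.result (A := R) (B := S) u hu0
  refine ⟨?_, ?_⟩
  · intro x y hxy
    refine (TensorProduct.lid R M).symm.injective (huniv R ?_)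
    simp [hxy]
  · let q : N →ₗ[R] N ⧸ LinearMap.range u := (LinearMap.range u).mkQ.restrictScalars R
    have hq : Function.Surjective q := (LinearMap.range u).mkQ_surjective
    have hex : Function.Exact u' q := fun y => by
      simp [q, u', Submodule.Quotient.mk_eq_zero]
    refine Module.Flat.iff_rTensor_injective.2 fun I _ => ?_
    rw [injective_iff_map_eq_zero]
    intro z hz
    obtain ⟨w, rfl⟩ := LinearMap.lTensor_surjective I hq z
    rw [← LinearMap.comp_apply, LinearMap.rTensor_comp_lTensor, ← LinearMap.lTensor_comp_rTensor,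
      LinearMap.comp_apply] at hz
    obtain ⟨x, hx⟩ := (lTensor_exact R hex hq _).1 hz
    -- push to `R ⧸ I`
    have hx0 : (Submodule.mkQ I).rTensor M x = 0 := huniv (R ⧸ I) (by
      rw [map_zero, ← LinearMap.comp_apply, LinearMap.lTensor_comp_rTensor, ← LinearMap.rTensor_comp_lTensor,
        LinearMap.comp_apply, hx, ← LinearMap.rTensor_comp_apply,
        show (Submodule.mkQ I) ∘ₗ I.subtype = 0 by ext r; simp [Ideal.Quotient.eq_zero_iff_mem], LinearMap.rTensor_zero,
        LinearMap.zero_apply])
    obtain ⟨x', rfl⟩ := (rTensor_exact M (LinearMap.exact_subtype_mkQ I) (Submodule.mkQ_surjective I) _).1 hx0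
    have hinjN : Function.Injective (I.subtype.rTensor N) :=
      Module.Flat.rTensor_preserves_injective_linearMap _ Subtype.val_injective
    have : w = u'.lTensor I x' := hinjN (by
      rw [← hx, ← LinearMap.comp_apply, ← LinearMap.comp_apply, LinearMap.lTensor_comp_rTensor,
        LinearMap.rTensor_comp_lTensor])
    rw [this, ← LinearMap.lTensor_comp_apply, show q ∘ₗ u' = 0 from hex.linearMap_comp_eq_zero, LinearMap.lTensor_zero,
      LinearMap.zero_apply]


end Groth.Agent.S2107
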