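import Groth.Statements.S2154
import Groth.Agent.LimitsH94.Approx.Closed
-- import your own Groth.Agent.* helpers here

set_option autoImplicit false
universe u
open CategoryTheory AlgebraicGeometry
open Lim

namespace Groth.Agent.S2154

set_option backward.isDefEq.respectTransparency false in
set_option backward.isDefEq.respectTransparency.types false in
set_option linter.style.haveILetI false in

/-- Let `S` be quasi-compact and quasi-separated and `X = lim X_i` a cofiltered limit of quasi-compact
quasi-separated `S`-schemes locally of finite type over `S`, with finite transition morphisms. If `X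
→ S` is integral then `X_i → S` is finite for all `i` beyond some index. -/
theorem result {I : Type u} [SmallCategory I] [IsCofiltered I] (S : Scheme.{u}) [CompactSpace S]
    [QuasiSeparatedSpace S] (D : I ⥤ Over S) (c : Limits.Cone D) (hc : Limits.IsLimit c)
    [∀ (i j : I) (f : i ⟶ j), IsFinite (D.map f).left] [∀ i, CompactSpace (D.obj i).left]
    [∀ i, QuasiSeparatedSpace (D.obj i).left] [∀ i, LocallyOfFiniteType (D.obj i).hom] [IsIntegralHom c.pt.hom] :
    ∃ i₀ : I, ∀ (i : I) (_ : i ⟶ i₀), IsFinite (D.obj i).hom := by

  let D₀ : I ⥤ Scheme.{u} := D ⋙ Over.forget S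
  let c₀ : Limits.Cone D₀ := (Over.forget S).mapCone c
  haveI : IsConnected I := IsCofiltered.isConnected _
  have hc₀ : Limits.IsLimit c₀ := Limits.isLimitOfPreserves (Over.forget S) hc
  haveI : ∀ (i j : I) (a : i ⟶ j), IsFinite (D₀.map a) := fun i j a => inferInstanceAs (IsFinite (D.map a).left)
  haveI : ∀ i, CompactSpace (D₀.obj i) := fun i => inferInstanceAs (CompactSpace (D.obj i).left)
  haveI : ∀ i, QuasiSeparatedSpace (D₀.obj i) := fun i => inferInstanceAs (QuasiSeparatedSpace (D.obj i).left)
  exact LimitsH94.Approx.exists_stage_isFinite hc₀ (fun i => (D.obj i).hom) (fun a => Over.w (D.map a))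
    c.pt.hom (fun i => Over.w (c.π.app i))


end Groth.Agent.S2154
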