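import Groth.Statements.S2205
import Groth.Agent.Disc93.Different
import Groth.Agent.S2196
-- import your own Groth.Agent.* helpers here

set_option autoImplicit false
universe u v
open Disc

namespace Groth.Agent.S2205

/-- Special case: affine, with B finite free over the Noetherian ring A (the source allows flat
quasi-finite morphisms of Noetherian schemes); then the relative dualizing module is Hom_A(B, A) and
the trace element is the usual trace. A prime q of B contains the different (the set of b with b
Hom_A(B, A) inside B Trace) if and only if A -> B is not unramified at q; for such maps unramified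
and etale at q agree. -/
theorem result {A : Type u} {B : Type v} [CommRing A]
    [CommRing B] [Algebra A B] [IsNoetherianRing A] [Module.Finite A B] [Module.Free A B]
    (q : Ideal B) [q.IsPrime] :
    Disc.differentSet A B ⊆ q ↔ ¬Algebra.IsUnramifiedAt A q := by
  have hz : Disc.noetherDifferent A B ≤ q ↔ ¬ Algebra.IsUnramifiedAt A q :=
    Set.ext_iff.mp (Groth.Agent.S2196.result (A := A) (B := B)) ⟨q, inferInstance⟩
  rw [← hz]
  exact ⟨fun h => (Groth.Agent.Disc93.noetherDifferent_subset_differentSet (A := A) (B := B)).trans h,
    fun h x hx => (‹q.IsPrime›.mem_or_mem (h (Groth.Agent.Disc93.mul_self_mem_noetherDifferent hx))).elim id id⟩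

end Groth.Agent.S2205
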