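import Groth.Statements.S2218
import Mathlib
-- import your own Groth.Agent.* helpers here

set_option autoImplicit false
universe u v
open Disc

namespace Groth.Agent.S2218

/-- Special case: A -> B finite (the source allows quasi-finite maps). For a finite map of Noetherian
rings and omega = Hom_A(B, A) with its B-module structure through the argument, the associated
primes of the B-module omega are exactly the primes of B whose contraction to A is an associated
prime of A. -/
theorem result {A : Type u} {B : Type v} [CommRing A] [CommRing B]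
    [Algebra A B] [IsNoetherianRing A] [IsNoetherianRing B] [Module.Finite A B] :
    associatedPrimes B (Disc.Omega A B) =
      {q : Ideal B | q.IsPrime ∧ q.comap (algebraMap A B) ∈ associatedPrimes A A} := by
  classical
  ext q
  simp only [associatedPrimes, Set.mem_setOf_eq, isAssociatedPrime_iff]
  constructor
  · rintro ⟨hq, l, hl⟩
    refine ⟨hq, hq.comap _, ?_⟩
    have hmem : ∀ b : B, b ∈ q ↔ ∀ x : B, l.toLinearMap (b * x) = 0 := fun b => by
      rw [hl, Submodule.mem_colon_singleton, Submodule.mem_bot]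
      refine ⟨fun h x => ?_, fun h => Disc.Omega.ext (LinearMap.ext h)⟩
      have := LinearMap.congr_fun (congrArg Disc.Omega.toLinearMap h) x
      simpa using this
    obtain ⟨n, s, hs⟩ := Module.Finite.exists_fin (R := A) (M := B)
    have hinf : q.comap (algebraMap A B) = Finset.univ.inf fun i => (⊥ : Submodule A A).colon {l.toLinearMap (s i)} := by
      ext a
      simp only [Ideal.mem_comap, hmem, Submodule.mem_finsetInf, Finset.mem_univ, true_implies,
        Submodule.mem_colon_singleton, Submodule.mem_bot, ← Algebra.smul_def, map_smul]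
      refine ⟨fun h i => h (s i), fun h x => ?_⟩
      obtain ⟨c, rfl⟩ := (Submodule.mem_span_range_iff_exists_fun A).mp (hs ▸ Submodule.mem_top : x ∈ _)
      simp only [smul_eq_mul] at h
      simp [Finset.mul_sum]
      exact Finset.sum_eq_zero fun i _ => by rw [mul_left_comm, h i, mul_zero]
    obtain ⟨i, -, hi⟩ := (Ideal.IsPrime.inf_le' (hq.comap (algebraMap A B))).mp hinf.ge
    exact ⟨l.toLinearMap (s i), le_antisymm (hinf.le.trans (Finset.inf_le (Finset.mem_univ i))) hi⟩
  · rintro ⟨hq, hp, y, hy⟩
    haveI := hq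
    haveI := hp
    set p := q.comap (algebraMap A B) with hpdef
    haveI : q.LiesOver p := ⟨rfl⟩
    haveI : Module.Finite (A ⧸ p) (B ⧸ q) := Module.Finite.of_restrictScalars_finite A _ _
    have hinj : Function.Injective (algebraMap (A ⧸ p) (B ⧸ q)) := Ideal.algebraMap_quotient_injective
    have he : ∀ c : A ⧸ p, c • (1 : B ⧸ q) = 0 → c = 0 := fun c hc => by
      rw [Algebra.smul_def, mul_one] at hc
      exact (map_eq_zero_iff _ hinj).mp hc
    obtain ⟨g, hg⟩ : ∃ f : (B ⧸ q) →ₗ[A ⧸ p] (A ⧸ p), f 1 ≠ 0 := by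
      let K := FractionRing (A ⧸ p)
      let ι := LocalizedModule.mkLinearMap (nonZeroDivisors (A ⧸ p)) (B ⧸ q)
      have hι : ι 1 ≠ 0 := fun h => by
        obtain ⟨c, hc⟩ := (IsLocalizedModule.eq_zero_iff (nonZeroDivisors (A ⧸ p)) ι).mp h
        exact nonZeroDivisors.coe_ne_zero c (he c hc)
      obtain ⟨ψ, hψ⟩ := Module.Projective.exists_dual_ne_zero K hι
      let g : (B ⧸ q) →ₗ[A ⧸ p] K := (ψ.restrictScalars (A ⧸ p)).comp ι
      obtain ⟨T, hT⟩ := Module.Finite.fg_top (R := A ⧸ p) (M := B ⧸ q)
      obtain ⟨c, hc⟩ := IsLocalization.exist_integer_multiples_of_finset (nonZeroDivisors (A ⧸ p)) (T.image g)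
      have hr : ∀ x, ((c : A ⧸ p) • g) x ∈ LinearMap.range (Algebra.linearMap (A ⧸ p) K) := by
        intro x
        have hx : x ∈ Submodule.span (A ⧸ p) (T : Set (B ⧸ q)) := hT ▸ Submodule.mem_top
        refine Submodule.span_induction (p := fun x _ => ((c : A ⧸ p) • g) x ∈ LinearMap.range (Algebra.linearMap (A ⧸ p) K))
          ?_ (by simp) (fun a b _ _ ha hb => by rw [map_add]; exact add_mem ha hb)
          (fun r a _ ha => by rw [map_smul]; exact Submodule.smul_mem _ _ ha) hx
        intro x hx
        obtain ⟨z, hz⟩ := hc (g x) (Finset.mem_image_of_mem g hx)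
        exact ⟨z, hz⟩
      let eQ := LinearEquiv.ofInjective (Algebra.linearMap (A ⧸ p) K) (IsFractionRing.injective (A ⧸ p) K)
      refine ⟨eQ.symm.toLinearMap.comp (((c : A ⧸ p) • g).codRestrict _ hr), fun h => hψ ?_⟩
      have h2 : ((c : A ⧸ p) • g) 1 = 0 := congrArg Subtype.val (eQ.symm.map_eq_zero_iff.mp h)
      exact (smul_eq_zero.mp h2).resolve_left (nonZeroDivisors.coe_ne_zero c)
    let emb : (A ⧸ p) →ₗ[A] A := Submodule.liftQ p (LinearMap.toSpanSingleton A A y) fun a ha => by
      rw [hy, Submodule.mem_colon_singleton, Submodule.mem_bot] at ha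
      simpa using ha
    have hemb : ∀ z : A ⧸ p, emb z = 0 → z = 0 := fun z hz => by
      obtain ⟨a, rfl⟩ := Ideal.Quotient.mk_surjective z
      rw [Ideal.Quotient.eq_zero_iff_mem, hy, Submodule.mem_colon_singleton, Submodule.mem_bot]
      change a • y = 0
      exact hz
    refine ⟨hq, ⟨emb.comp ((g.restrictScalars A).comp (Ideal.Quotient.mkₐ A q).toLinearMap)⟩, ?_⟩
    ext b
    rw [Submodule.mem_colon_singleton, Submodule.mem_bot]
    constructor
    · intro hb
      refine Disc.Omega.ext (LinearMap.ext fun x => ?_)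
      simp [Ideal.Quotient.eq_zero_iff_mem.mpr hb]
    · intro hb
      by_contra hbq
      obtain ⟨a, ha, hane⟩ := Submodule.exists_mem_ne_zero_of_ne_bot
        (Ideal.comap_ne_bot_of_integral_mem (R := A ⧸ p) (I := Ideal.span {Ideal.Quotient.mk q b})
          (fun h => hbq (Ideal.Quotient.eq_zero_iff_mem.mp h)) (Ideal.mem_span_singleton_self _)
          (Algebra.IsIntegral.isIntegral _))
      obtain ⟨x, hx⟩ := Ideal.mem_span_singleton'.mp ha
      obtain ⟨x, rfl⟩ := Ideal.Quotient.mk_surjective x
      have h := LinearMap.congr_fun (congrArg Disc.Omega.toLinearMap hb) x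
      simp only [Disc.Omega.smul_toLinearMap_apply, Disc.Omega.zero_toLinearMap, LinearMap.zero_apply,
        LinearMap.comp_apply, LinearMap.coe_restrictScalars, AlgHom.toLinearMap_apply, Ideal.Quotient.mkₐ_eq_mk,
        map_mul] at h
      rw [mul_comm (Ideal.Quotient.mk q b), hx, ← mul_one (algebraMap (A ⧸ p) (B ⧸ q) a), ← Algebra.smul_def,
        map_smul] at h
      exact hane ((mul_eq_zero.mp (hemb _ h)).resolve_right hg)

end Groth.Agent.S2218
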