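import Groth.Statements.S2219
import Groth.Agent.S11566
-- import your own Groth.Agent.* helpers here

set_option autoImplicit false
universe u
open Disc

namespace Groth.Agent.S2219

/-- Equivalence of (1) and (3): let k be a field and A a finite-dimensional local k-algebra with residue
field k'. Then the trace map Tr_{A/k} is not identically zero if and only if k' is separable over k
and the length of A as a module over itself is not divisible by the characteristic of k (no
condition in characteristic zero). -/
theorem result (k A : Type u) [Field k] [CommRing A]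
    [Algebra k A] [FiniteDimensional k A] [IsLocalRing A] :
    Algebra.trace k A ≠ 0 ↔
      (Algebra.IsSeparable k (IsLocalRing.ResidueField A) ∧
        ∀ p : ℕ, p.Prime → CharP k p → ¬ p ∣ (Module.length A A).toNat) := by
  have hsurj : Algebra.trace k A ≠ 0 ↔ Function.Surjective (Algebra.trace k A) := by
    refine ⟨fun h x => ?_, fun h h0 => ?_⟩
    · obtain ⟨a, ha⟩ : ∃ a, Algebra.trace k A a ≠ 0 := by
        by_contra hc
        push_neg at hc
        exact h (LinearMap.ext hc)
      exact ⟨(x * (Algebra.trace k A a)⁻¹) • a, by rw [map_smul, smul_eq_mul, mul_assoc, inv_mul_cancel₀ ha, mul_one]⟩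
    · obtain ⟨a, ha⟩ := h 1
      rw [h0] at ha
      exact zero_ne_one ha
  rw [hsurj, Groth.Agent.S11566.result k A]
  refine and_congr_right fun _ => ⟨fun h p hp hc hd => ?_, fun h h0 => ?_⟩
  · haveI := hc
    exact h ((CharP.cast_eq_zero_iff k p _).mpr hd)
  · have hpos : (Module.length A A).toNat ≠ 0 := by
      haveI : IsArtinianRing A := isArtinian_of_tower k inferInstance
      have h1 : Module.length A A ≠ 0 := fun hl => not_subsingleton A (Module.length_eq_zero_iff.mp hl)
      have h2 : Module.length A A ≠ ⊤ := Module.length_ne_top
      simp [ENat.toNat_eq_zero, h1, h2]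
    rcases CharP.exists k with ⟨p, hc⟩
    haveI := hc
    have hd := (CharP.cast_eq_zero_iff k p _).mp h0
    rcases CharP.char_is_prime_or_zero k p with hp | rfl
    · exact h p hp hc hd
    · exact hpos (zero_dvd_iff.mp hd)

end Groth.Agent.S2219
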