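import Groth.Statements.S2595
import Groth.Agent.Ega43Prop.CMConst

set_option autoImplicit false
set_option linter.style.haveILetI false
set_option backward.isDefEq.respectTransparency false
set_option backward.isDefEq.respectTransparency.types false
open CategoryTheory AlgebraicGeometry
universe u
open EGA43

namespace Groth.Agent.S2595

/-- Let Y be locally Noetherian, f : X ⟶ Y locally of finite type and x a point of X. If O_{Y,f x} ⟶
O_{X,x} is flat and the local ring at x of the fibre through x is Cohen–Macaulay, then f is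
equidimensional at x. -/
theorem result {X Y : Scheme.{u}} [IsLocallyNoetherian Y] (f : X ⟶ Y)
    [LocallyOfFiniteType f] (x : X) (hflat : (f.stalkMap x).hom.Flat)
    (hCM : LocCoh.IsCohenMacaulayLocalRing ((f.fiber (f.base x)).presheaf.stalk (f.asFiber x))) :
    EGA43.IsEquidimAt f x := by
  obtain ⟨n, W, hxW, hW⟩ := Groth.Agent.Ega43Prop.exists_nhd_fibreDimAt f x ⟨hflat, hCM⟩
  haveI : IsLocallyNoetherian X := LocallyOfFiniteType.isLocallyNoetherian f
  obtain ⟨G, hxG, hG⟩ := Groth.Agent.FibDim.exists_nhd_generizing (X := X) isClosed_univ x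
  rw [Groth.Agent.FibDim.isEquidimAt_iff]
  refine ⟨n, W ⊓ G, ⟨hxW, hxG⟩, fun η hη hmax => ⟨fun t ht => ?_, ?_⟩, fun z hz hzmax => ?_⟩
  · obtain ⟨ζ, hζ, rfl⟩ := Groth.Agent.FibDim.lifts_of_flat_stalk f (x := η) (z := η)
      (hW η hη.1).1 (specializes_refl η) ht
    rw [hmax ζ hζ]
  · obtain ⟨η', -, hηx, hη'⟩ := hG η hη.2 (Set.mem_univ _)
    obtain rfl := hmax η' hη'
    exact hηx.map f.continuous
  · have h := (Groth.Agent.FibDim.fibreDimAt_eq_rd f hzmax).symm.trans (hW z hz.1).2
    exact_mod_cast h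

end Groth.Agent.S2595
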