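import Groth.Statements.S2924
import Groth.Agent.EtEff48.RootGenTame
import Groth.Agent.EtEff48.Kummer

set_option backward.isDefEq.respectTransparency false
set_option backward.isDefEq.respectTransparency.types false

set_option autoImplicit false
universe u
open IsLocalRing
open SGA1

namespace Groth.Agent.S2924

/-- Let A be a regular local ring, f_1, …, f_r part of a regular system of parameters and n_i ≥ 1
invertible in the residue field. Then the Kummer algebra A[T_1, …, T_r]/(T_i^{n_i} − f_i) is tamely
ramified along each f_i (at every point of its generic fibre, with respect to the discrete valuation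
rings A_{(f_i)}). -/
theorem result (A : Type u) [CommRing A] [IsRegularLocalRing A] [IsDomain A] (r : ℕ) (f : Fin r → A)
    (hm : ∀ i, f i ∈ maximalIdeal A)
    (hf : LinearIndependent (ResidueField A) (fun i => (maximalIdeal A).toCotangent ⟨f i, hm i⟩))
    [∀ i, (Ideal.span {f i}).IsPrime] (n : Fin r → ℕ) (hn : ∀ i, 1 ≤ n i) (hu : ∀ i, IsUnit ((n i : ℕ) : ResidueField A)) :
    SGA1.IsTameAlong f (algebraMap A (SGA1.kummerAlg A f n)) := by
  classical
  intro i q _ hq
  set P : Ideal A := Ideal.span {f i} with hP
  set g := SGA1.genericResidueMap (algebraMap A (SGA1.kummerAlg A f n)) P q hq with hg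
  -- the exponents
  have hnA : ∀ j, IsUnit ((n j : ℕ) : A) := fun j => by
    rw [← isUnit_map_iff (residue A), map_natCast]; exact hu j
  -- `f_j ∉ (f_i)` for `j ≠ i`
  have hnot : ∀ j, j ≠ i → f j ∉ P := fun j hj h => by
    obtain ⟨a, ha⟩ := Ideal.mem_span_singleton'.1 h
    have h1 : (maximalIdeal A).toCotangent ⟨f j, hm j⟩ =
        residue A a • (maximalIdeal A).toCotangent ⟨f i, hm i⟩ := by
      rw [show (⟨f j, hm j⟩ : maximalIdeal A) = a • ⟨f i, hm i⟩ from Subtype.ext ha.symm, map_smul]
      rfl
    exact hf.notMem_span_image (s := {i}) (fun h => hj h)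
      (by rw [Set.image_singleton]; exact Submodule.mem_span_singleton.2 ⟨_, h1.symm⟩)
  have hfi : f i ≠ 0 := fun h0 => hf.ne_zero i (by
    rw [show (⟨f i, hm i⟩ : maximalIdeal A) = 0 from Subtype.ext h0, map_zero])
  set R := Localization.AtPrime P with hR
  haveI : IsDomain R := IsLocalization.isDomain_localization P.primeCompl_le_nonZeroDivisors
  have hmax : maximalIdeal R = Ideal.span {algebraMap A R (f i)} := by
    rw [← Localization.AtPrime.map_eq_maximalIdeal, show Ideal.map (algebraMap A R) P = _ from Ideal.map_span _ _, Set.image_singleton]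
  have hne : algebraMap A R (f i) ≠ 0 := fun h0 => hfi
    (IsLocalization.injective R P.primeCompl_le_nonZeroDivisors (h0.trans (map_zero _).symm))
  haveI : IsNoetherianRing R := IsLocalization.isNoetherianRing P.primeCompl R inferInstance
  have hnf : ¬ IsField R := fun h => hne (by
    have := (IsLocalRing.isField_iff_maximalIdeal_eq.1 h)
    rw [hmax, Ideal.span_singleton_eq_bot] at this
    exact this)
  haveI : IsDiscreteValuationRing R :=
    ((IsDiscreteValuationRing.TFAE R hnf).out 4 0 :).1 (⟨⟨_, hmax⟩⟩ : (maximalIdeal R).IsPrincipal)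
  have hirr : Irreducible (algebraMap A R (f i)) :=
    (IsDiscreteValuationRing.irreducible_iff_uniformizer _).2 hmax
  have hgA : ∀ a, g (algebraMap A R a) =
      algebraMap (SGA1.kummerAlg A f n) q.ResidueField (algebraMap A _ a) := fun a =>
    IsLocalization.lift_eq _ a
  have hginj : Function.Injective g := by
    rw [injective_iff_map_eq_zero]
    intro x hx
    obtain ⟨a, s, rfl⟩ := IsLocalization.exists_mk'_eq P.primeCompl x
    rw [hg, SGA1.genericResidueMap, IsLocalization.lift_mk'_spec, mul_zero, RingHom.comp_apply,
      ← RingHom.mem_ker, Ideal.ker_algebraMap_residueField, ← Ideal.mem_comap, hq, Ideal.mem_bot] at hx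
    rw [hx, IsLocalization.mk'_zero]
  let T := Groth.Agent.EtEff48.Kummer.T A f n
  refine Groth.Agent.EtEff48.RootGenTame.isTamelyRamified_of_roots g hginj
    (fun j => algebraMap (SGA1.kummerAlg A f n) q.ResidueField (T j)) ?_ n (fun j => ?_) hirr
    (fun j => if h : j = i then 1 else (IsLocalization.map_units R (⟨f j, hnot j h⟩ : P.primeCompl)).unit)
    (fun j => if j = i then 1 else 0) (fun j => ?_)
  · rw [eq_top_iff]
    intro x _
    have hB : ∀ b : SGA1.kummerAlg A f n, algebraMap (SGA1.kummerAlg A f n) q.ResidueField b ∈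
        Subfield.closure (Set.range g ∪ Set.range fun j => algebraMap (SGA1.kummerAlg A f n) q.ResidueField (T j)) := by
      intro b
      have hb : b ∈ Algebra.adjoin A (Set.range T) := by
        rw [Groth.Agent.EtEff48.Kummer.adjoin_T]; trivial
      induction hb using Algebra.adjoin_induction with
      | mem b hb =>
        obtain ⟨j, rfl⟩ := hb
        exact Subfield.subset_closure (Or.inr ⟨j, rfl⟩)
      | algebraMap a => exact Subfield.subset_closure (Or.inl ⟨_, hgA a⟩)
      | add a b _ _ ha hb => rw [map_add]; exact add_mem ha hb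
      | mul a b _ _ ha hb => rw [map_mul]; exact mul_mem ha hb
    obtain ⟨a, b, -, rfl⟩ := IsFractionRing.div_surjective (A := SGA1.kummerAlg A f n ⧸ q) x
    obtain ⟨a, rfl⟩ := Ideal.Quotient.mk_surjective a
    obtain ⟨b, rfl⟩ := Ideal.Quotient.mk_surjective b
    exact div_mem (hB a) (hB b)
  · rw [← map_natCast (algebraMap R (ResidueField R)), ← map_natCast (algebraMap A R)]
    exact (((hnA j).map (algebraMap A R)).map (residue R)).ne_zero
  · rw [← map_pow, Groth.Agent.EtEff48.Kummer.T_pow]
    by_cases h : j = i
    · subst h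
      simp [hgA]
    · simp [h, hgA]

end Groth.Agent.S2924
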