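import Groth.Statements.S2946
import Groth.Agent.Lef73.LefTower

set_option autoImplicit false
universe u
open CategoryTheory CategoryTheory.Limits AlgebraicGeometry
open Lef

namespace Groth.Agent.S2946

/-- Let X be a locally Noetherian scheme and 𝓘 a quasi-coherent ideal sheaf with Y = V(𝓘), and suppose
Lef(X, Y) holds (this prelude's Lef.LefCond). Then for every open U of X containing Y, Y is
connected if and only if U is connected. -/
theorem result (X : Scheme.{u}) [IsLocallyNoetherian X] (𝓘 : X.IdealSheafData) (h : Lef.LefCond X 𝓘) (U : X.Opens) (hU : (𝓘.support : Set X) ⊆ (U : Set X)) : ConnectedSpace (𝓘.support : Set X) ↔ ConnectedSpace U := by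
  rw [← Groth.Agent.Lef73.connected_iff (X := (U : Scheme.{u})) (𝓘.comap U.ι)
    (Groth.Agent.Lef73.sectionBij_of_towerBij _ fun D hD =>
      Groth.Agent.Lef73.towerBij_of_homToFormal _ (h U hU D hD))]
  have hrange : Set.range (U.ι.base ∘ (𝓘.comap U.ι).subschemeι.base) = (𝓘.support : Set X) := by
    rw [Set.range_comp, Scheme.IdealSheafData.range_subschemeι, Scheme.IdealSheafData.support_comap,
      TopologicalSpace.Closeds.coe_preimage, Set.image_preimage_eq_inter_range, Scheme.Opens.range_ι,
      Set.inter_eq_left.2 hU]
  let e : ((𝓘.comap U.ι).subscheme : Type u) ≃ₜ (𝓘.support : Set X) :=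
    (U.ι.isOpenEmbedding.isEmbedding.comp (𝓘.comap U.ι).subschemeι.isClosedEmbedding.isEmbedding).toHomeomorph.trans
      (Homeomorph.setCongr hrange)
  exact ⟨fun _ => e.symm.surjective.connectedSpace e.symm.continuous, fun _ => e.surjective.connectedSpace e.continuous⟩

end Groth.Agent.S2946
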