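import Groth.Statements.S2986
import Groth.Agent.WeilSm18.Main
import Groth.Agent.RGCore.SmoothSeparated
import Groth.Agent.RGCore.SmoothAug
-- import your own Groth.Agent.* helpers here

set_option autoImplicit false
universe u
open TensorProduct
open SGA3b

namespace Groth.Agent.S2986

/-- Let R be a ring, B a smooth R-algebra whose geometric fibres are connected (for every algebraically
closed field K under R, Spec (K ⊗_R B) is connected), e : B → R an R-algebra section with kernel 𝔪,
and J a finitely generated ideal of B (a finitely presented closed subscheme Y of X = Spec B). Then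
there is n ≥ 0 such that for every R-algebra R': the base change of X to R' lies in Y (every element
of J becomes zero in R' ⊗_R B) if and only if the base change of the n-th infinitesimal
neighbourhood Spec (B/𝔪^(n+1)) of the section lies in Y. (The published statement is for a general
base and X; this is the affine case.) -/
theorem result (R B : Type u) [CommRing R] [CommRing B] [Algebra R B]
    [Algebra.Smooth R B]
    (hconn : ∀ (K : Type u) [Field K] [IsAlgClosed K] [Algebra R K], ConnectedSpace (PrimeSpectrum (K ⊗[R] B)))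
    (e : B →ₐ[R] R) (J : Ideal B) (hJ : J.FG) :
    ∃ n : ℕ, ∀ (R' : Type u) [CommRing R'] [Algebra R R'],
      (∀ x ∈ J, (1 : R') ⊗ₜ[R] x = (0 : R' ⊗[R] B)) ↔
        (∀ x ∈ J, (1 : R') ⊗ₜ[R] (Ideal.Quotient.mk (RingHom.ker e ^ (n + 1)) x) = (0 : R' ⊗[R] (B ⧸ RingHom.ker e ^ (n + 1)))) := by
  classical
  have H : ∀ (K : Type u) [Field K] [Algebra R K], IsDomain (K ⊗[R] B) := fun K _ _ =>
    WeilSm18.isDomain_of_connected (R := R) (B := B) hconn K
  haveI : Module.Projective R B := Groth.Agent.RGCore.projective_of_isDomain_fibres H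
  haveI : ∀ n, Module.Projective R (B ⧸ RingHom.ker e ^ n) := Groth.Agent.RGCore.projective_quotient_aug e
  obtain ⟨I, hIfg, hI⟩ := WeilSm18.exists_contentIdeal (A := R) J
  choose K hK using fun n : ℕ => GrpSchLib.exists_contentIdeal_of_projective (A := R)
    (Ideal.Quotient.mk (RingHom.ker e ^ (n + 1)) '' (J : Set B))
  -- the content ideals of the thickenings increase
  have hKI : ∀ n, K n ≤ I := fun n => by
    refine ((hK n (R ⧸ I)).mp ?_).trans_eq (Ideal.mk_ker (I := I))
    rintro _ ⟨x, hx, rfl⟩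
    have h := congrArg ((Ideal.Quotient.mkₐ R (RingHom.ker e ^ (n + 1))).toLinearMap.lTensor (R ⧸ I))
      ((hI (R ⧸ I)).mpr (Ideal.mk_ker (I := I)).ge x hx)
    simpa using h
  have hmono : Monotone K := monotone_nat_of_le_succ fun n => by
    refine ((hK n (R ⧸ K (n + 1))).mp ?_).trans_eq (Ideal.mk_ker (I := K (n + 1)))
    rintro _ ⟨x, hx, rfl⟩
    have h := congrArg ((Ideal.Quotient.factorₐ R (Ideal.pow_le_pow_right (Nat.le_succ (n + 1)))).toLinearMap.lTensor
        (R ⧸ K (n + 1)))
      ((hK (n + 1) (R ⧸ K (n + 1))).mpr (Ideal.mk_ker (I := K (n + 1))).ge _ ⟨x, hx, rfl⟩)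
    simpa using h
  have hIK : I ≤ ⨆ n, K n := by
    refine ((hI (R ⧸ ⨆ n, K n)).mp fun x hx => ?_).trans_eq (Ideal.mk_ker (I := ⨆ n, K n))
    refine Groth.Agent.RGCore.eq_zero_of_forall_aug e H _ fun m => ?_
    cases m with
    | zero =>
      haveI : Subsingleton (B ⧸ RingHom.ker e ^ 0) :=
        Ideal.Quotient.subsingleton_iff.2 (by rw [pow_zero, Ideal.one_eq_top])
      exact Subsingleton.elim _ _
    | succ m =>
      rw [LinearMap.lTensor_tmul]
      exact (hK m (R ⧸ ⨆ n, K n)).mpr ((le_iSup K m).trans (Ideal.mk_ker (I := ⨆ n, K n)).ge) _ ⟨x, hx, rfl⟩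
  obtain ⟨n, hn⟩ : ∃ n, I ≤ K n := by
    obtain ⟨G, hG⟩ := hIfg hJ
    have h : ∀ g ∈ G, ∃ n, g ∈ K n := fun g hg =>
      (Submodule.mem_iSup_of_directed K hmono.directed_le).mp (hIK (hG ▸ Ideal.subset_span hg))
    choose N hN using h
    refine ⟨G.attach.sup fun g => N g.1 g.2, ?_⟩
    rw [← hG]
    exact Ideal.span_le.mpr fun g hg =>
      hmono (Finset.le_sup (f := fun g : G => N g.1 g.2) (Finset.mem_attach G ⟨g, hg⟩)) (hN g hg)
  refine ⟨n, fun R' _ _ => ?_⟩
  rw [hI R', le_antisymm hn (hKI n), ← hK n R', Set.forall_mem_image]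
  exact Iff.rfl

end Groth.Agent.S2986
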