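import Groth.Statements.S2990
import Groth.Agent.Red23Lib.Pinned.Inner
import Groth.Agent.Red23Lib.BCComp

set_option autoImplicit false
open CategoryTheory MonoidalCategory CartesianMonoidalCategory MonObj GrpObj AlgebraicGeometry
universe u
open Red

namespace Groth.Agent.S2990

/-- Let G be a reductive S-group scheme with a pinning (a split maximal torus T, a root datum with a
chosen base, and root homomorphisms u_a), and let g be an S-point of G such that the inner
automorphism int(g) normalises T and commutes with the root homomorphism u_a of every simple root a.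
Then int(g) is the identity: g centralises every point of G with values in any S-scheme. (This is
the case of an inner automorphism respecting the pinning without permuting the simple roots.) -/
theorem result {S : Scheme.{u}} {G : Over S} [GrpObj G] (D : Red.Pinning G)
    (g : 𝟙_ (Over S) ⟶ G)
    (hT : ∀ (X : Over S) (t : X ⟶ D.T), ∃ t' : X ⟶ D.T, (toUnit X ≫ g) * (t ≫ D.i) * (toUnit X ≫ g)⁻¹ = t' ≫ D.i)
    (hu : ∀ a ∈ D.base.support, ∀ (X : Over S) (x : X ⟶ Red.Ga S),
      (toUnit X ≫ g) * (x ≫ D.u a) * (toUnit X ≫ g)⁻¹ = x ≫ D.u a) :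
    ∀ (X : Over S) (y : X ⟶ G), (toUnit X ≫ g) * y * (toUnit X ≫ g)⁻¹ = y := by
  haveI : IsAffineHom G.hom := Groth.Agent.RedCell22.isAffineHom_of_split D.toSplitRed
  let Φ : G ⟶ G := (toUnit G ≫ g) * 𝟙 G * (toUnit G ≫ g)⁻¹
  have hΦ : ∀ (X : Over S) (y : X ⟶ G), y ≫ Φ = (toUnit X ≫ g) * y * (toUnit X ≫ g)⁻¹ := fun X y => by
    simp only [Φ, MonObj.comp_mul, GrpObj.comp_inv, Category.comp_id, ← Category.assoc]
    rw [toUnit_unique (y ≫ toUnit G) (toUnit X)]
  haveI : IsMonHom Φ := Groth.Agent.Red23Lib.isMonHom_of_mul Φ fun X a b => by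
    simp only [hΦ]
    group
  have key : Φ = 𝟙 G := by
    refine Groth.Agent.RedCell22.hom_eq_of_simple D.base Φ (𝟙 G) ?_ fun a _ => ⟨?_, ?_⟩
    all_goals refine Groth.Agent.RedCell22.hom_ext_of_tests fun A _ b φ => ?_
    all_goals obtain ⟨t, ht, hr⟩ := Groth.Agent.Red23Lib.Pinned.Inner.exists_torus D g hT hu A b
    all_goals rw [← Category.assoc, ← Category.assoc, Category.comp_id, hΦ, ht]
    · show _ * Groth.Agent.RedCell22.tG D.toSplitRed φ * _ = Groth.Agent.RedCell22.tG D.toSplitRed φ
      rw [← Groth.Agent.RedCell22.tG_mul, Groth.Agent.RedCell22.torus_comm, Groth.Agent.RedCell22.tG_mul,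
        mul_inv_cancel_right]
    all_goals
      rw [← Groth.Agent.RedCell22.gaPt_gaFn φ]
      refine (Groth.Agent.RedCell22.conj_ua D.toSplitRed t _ _).trans ?_
      rw [hr, Units.val_one, _root_.one_mul]
      rfl
  intro X y
  rw [← hΦ, key, Category.comp_id]

end Groth.Agent.S2990
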