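import Groth.Statements.S2994
import Groth.Agent.DynX.SS.Affine
import Groth.Agent.DynX.SS.Centre

set_option autoImplicit false
universe u
open Par

namespace Groth.Agent.S2994

open AlgebraicGeometry CategoryTheory in
/-- Let S be a locally Noetherian scheme of dimension ≤ 1 and G a smooth S-group scheme of finite type
whose geometric fibres are affine, connected and semisimple. Then G is affine over S, hence a
semisimple S-group. -/
theorem result {S : Scheme.{u}} [IsLocallyNoetherian S] (hS : topologicalKrullDim S ≤ 1)
    (G : Over S) [GrpObj G] [Smooth G.hom] [QuasiCompact G.hom]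
    (hfib : ∀ s : S, Red.IsSemisimpleOver (AlgebraicClosure (S.residueField s)) (Red.geomFibre s G)) :
    IsAffineHom G.hom ∧ Red.IsSemisimple G := by
  have haff : IsAffineHom G.hom :=
    Groth.Agent.DynX.SS.isAffineHom_of_finite_centre hS G (fun s => (hfib s).1.2.2.1)
      (fun s => Groth.Agent.DynX.SS.finite_center _ (hfib s))
  exact ⟨haff, haff, inferInstance, hfib⟩

end Groth.Agent.S2994
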