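import Groth.Statements.S3014
import Groth.Agent.Red23Lib.FieldIso

set_option autoImplicit false
universe u
open CategoryTheory MonoidalCategory CartesianMonoidalCategory MonObj GrpObj AlgebraicGeometry
open Red

namespace Groth.Agent.S3014

/-- (i)⇒(ii): Let G and G' be reductive S-groups and f : S' → S a surjective morphism such that the base
changes of G and G' to S' are isomorphic as group schemes. Then for every s ∈ S the geometric fibres
G_{s̄} and G'_{s̄} are isomorphic. -/
theorem result (S : Scheme.{u}) (G G' : Over S) [GrpObj G] [GrpObj G'] (hG : Red.IsReductive G) (hG' : Red.IsReductive G') (S' : Scheme.{u}) (f : S' ⟶ S) [Surjective f] (hiso : Nonempty (Grp.mk (Red.bc f G) ≅ Grp.mk (Red.bc f G'))) (s : S) : Nonempty (Grp.mk (Red.geomFibre s G) ≅ Grp.mk (Red.geomFibre s G')) := by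
  obtain ⟨s', hs'⟩ := Surjective.surj (f := f) s
  subst hs'
  obtain ⟨e⟩ := hiso
  let K := AlgebraicClosure (S.residueField (f.base s'))
  let L := AlgebraicClosure (S'.residueField s')
  let r : S.residueField (f.base s') →+* L :=
    (algebraMap (S'.residueField s') L).comp (f.residueFieldMap s').hom
  algebraize [r]
  let i : K →ₐ[S.residueField (f.base s')] L := IsAlgClosed.lift
  let : Algebra K L := i.toRingHom.toAlgebra
  have hcomm : Spec.map (CommRingCat.ofHom (algebraMap K L)) ≫ Red.geomPt (f.base s') = Red.geomPt s' ≫ f := by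
    rw [Red.geomPt, Red.geomPt, ← Category.assoc, ← Spec.map_comp, ← CommRingCat.ofHom_comp]
    rw [show (algebraMap K L).comp (algebraMap (S.residueField (f.base s')) K) = r from i.comp_algebraMap,
      CommRingCat.ofHom_comp, Spec.map_comp, CommRingCat.ofHom_hom, Category.assoc, Category.assoc,
      Scheme.Hom.SpecMap_residueFieldMap_fromSpecResidueField]
  have := hG.1; have := hG'.1
  have := hG.2.1; have := hG'.2.1
  have : IsAffineHom (Red.geomFibre (f.base s') G).hom := inferInstanceAs (IsAffineHom (Limits.pullback.snd _ _))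
  have : IsAffine (Red.geomFibre (f.base s') G).left := isAffine_of_isAffineHom (Red.geomFibre (f.base s') G).hom
  have : IsAffineHom (Red.geomFibre (f.base s') G').hom := inferInstanceAs (IsAffineHom (Limits.pullback.snd _ _))
  have : IsAffine (Red.geomFibre (f.base s') G').left := isAffine_of_isAffineHom (Red.geomFibre (f.base s') G').hom
  have : Smooth (Red.geomFibre (f.base s') G).hom := inferInstanceAs (Smooth (Limits.pullback.snd _ _))
  have : Smooth (Red.geomFibre (f.base s') G').hom := inferInstanceAs (Smooth (Limits.pullback.snd _ _))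
  exact Red23Lib.FieldDescent.nonempty_iso_of_field_extension L (Red.geomFibre (f.base s') G)
    (Red.geomFibre (f.base s') G')
    ⟨(Red23Lib.bcCompIso _ _ G).symm ≪≫ Red23Lib.bcCongrIso hcomm G ≪≫ Red23Lib.bcCompIso _ _ G ≪≫
      Red23Lib.bcMapIso (Red.geomPt s') e ≪≫ (Red23Lib.bcCompIso _ _ G').symm ≪≫
      (Red23Lib.bcCongrIso hcomm G').symm ≪≫ Red23Lib.bcCompIso _ _ G'⟩

end Groth.Agent.S3014
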