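import Groth.Statements.S3041
import Groth.Agent.WeilSm18.Main
-- import your own Groth.Agent.* helpers here

set_option autoImplicit false
universe u
open CategoryTheory MonoidalCategory CartesianMonoidalCategory MonObj GrpObj AlgebraicGeometry TensorProduct
open SGA3

namespace Groth.Agent.S3041

/-- Let f : X → S be a smooth morphism whose fibres are geometrically irreducible and j : Y → X a closed
immersion. Then there is a closed immersion t : T → S such that a morphism g : S' → S factors
through T exactly when the closed immersion Y ×_X X_{S'} → X_{S'} obtained by base change is an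
isomorphism; if j is of finite presentation then so is t. -/
theorem result (S X Y : Scheme.{u}) (f : X ⟶ S) [Smooth f]
    [GeometricallyIrreducible f] (j : Y ⟶ X) [IsClosedImmersion j] :
    ∃ (T : Scheme.{u}) (t : T ⟶ S), IsClosedImmersion t ∧
      (∀ (S' : Scheme.{u}) (g : S' ⟶ S),
        (∃ g' : S' ⟶ T, g' ≫ t = g) ↔ IsIso (Limits.pullback.snd j (Limits.pullback.fst f g))) ∧
      (LocallyOfFinitePresentation j → LocallyOfFinitePresentation t) := by
  obtain ⟨T, t, ht, hT, hlfp⟩ := WeilSm18.exists_closed_weilRestriction f j
  refine ⟨T, t, ht, fun S' g => (hT S' g).trans ⟨fun ⟨l, hl⟩ => ?_, fun h => ?_⟩, hlfp⟩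
  · let σ : Limits.pullback f g ⟶ Limits.pullback j (Limits.pullback.fst f g) :=
      Limits.pullback.lift ((Limits.pullbackSymmetry f g).hom ≫ l) (𝟙 _) (by
        rw [Category.assoc, hl, Limits.pullbackSymmetry_hom_comp_snd, Category.id_comp])
    have hσ : σ ≫ Limits.pullback.snd j (Limits.pullback.fst f g) = 𝟙 _ := Limits.pullback.lift_snd _ _ _
    refine ⟨σ, ?_, hσ⟩
    rw [← cancel_mono (Limits.pullback.snd j (Limits.pullback.fst f g)), Category.assoc, hσ,
      Category.comp_id, Category.id_comp]
  · refine ⟨(Limits.pullbackSymmetry g f).hom ≫ inv (Limits.pullback.snd j (Limits.pullback.fst f g)) ≫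
      Limits.pullback.fst j _, ?_⟩
    rw [Category.assoc, Category.assoc, Limits.pullback.condition, IsIso.inv_hom_id_assoc,
      Limits.pullbackSymmetry_hom_comp_fst]

end Groth.Agent.S3041
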