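import Groth.Statements.S3207
import Mathlib.AlgebraicGeometry.Morphisms.FlatRank
import Mathlib.AlgebraicGeometry.Morphisms.FlatMono
import Mathlib.AlgebraicGeometry.ZariskisMainTheorem
import Mathlib.AlgebraicGeometry.Morphisms.UniversallyOpen

set_option autoImplicit false
universe u
open CategoryTheory CategoryTheory.Limits AlgebraicGeometry
open SGA7

namespace Groth.Agent.S3207

/-- Let g : T -> S be locally quasi-finite, of finite presentation, separated and flat. If for every
maximal point s of S (a point with no proper generization) the fibre of g over s is either empty or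
mapped isomorphically onto Spec κ(s) (rank at most 1), then g is an open immersion. -/
theorem result {T S : Scheme.{u}} (g : T ⟶ S) [LocallyQuasiFinite g]
    [LocallyOfFinitePresentation g] [QuasiCompact g] [IsSeparated g] [Flat g]
    (h : ∀ s : S, (∀ t : S, t ⤳ s → t = s) →
      IsEmpty ↑(pullback g (S.fromSpecResidueField s)) ∨ IsIso (pullback.snd g (S.fromSpecResidueField s))) :
    IsOpenImmersion g := by
  have key : ∀ s : S, (∀ t : S, t ⤳ s → t = s) → ∀ {P : Scheme.{u}} (q : P ⟶ pullback g g)
      (r : P ⟶ Spec (S.residueField s)), q ≫ pullback.fst g g ≫ g = r ≫ S.fromSpecResidueField s →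
      IsEmpty ↥P ∨ ∃ σ : Spec (S.residueField s) ⟶ T, q = (r ≫ σ) ≫ pullback.diagonal g := by
    intro s hs P q r hq
    rcases h s hs with he | hi
    · refine Or.inl ⟨fun x => ?_⟩
      exact he.false ((pullback.lift (q ≫ pullback.fst g g) r (by simpa using hq)) x)
    · refine Or.inr ⟨inv (pullback.snd g (S.fromSpecResidueField s)) ≫ pullback.fst _ _, ?_⟩
      have hc : (q ≫ pullback.snd g g) ≫ g = r ≫ S.fromSpecResidueField s := by
        rw [Category.assoc, ← pullback.condition, hq]
      have e1 : pullback.lift (q ≫ pullback.fst g g) r (by simpa using hq) =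
          r ≫ inv (pullback.snd g (S.fromSpecResidueField s)) := by
        rw [IsIso.eq_comp_inv, pullback.lift_snd]
      have e2 : pullback.lift (q ≫ pullback.snd g g) r hc =
          r ≫ inv (pullback.snd g (S.fromSpecResidueField s)) := by
        rw [IsIso.eq_comp_inv, pullback.lift_snd]
      apply pullback.hom_ext
      · have := congrArg (· ≫ pullback.fst g (S.fromSpecResidueField s)) e1
        simp only [pullback.lift_fst] at this
        rw [this]; simp
      · have := congrArg (· ≫ pullback.fst g (S.fromSpecResidueField s)) e2
        simp only [pullback.lift_fst] at this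
        rw [this]; simp
  have hgen : ∀ {X : Scheme.{u}} (z : X), ∃ z' : X, z' ⤳ z ∧ ∀ w : X, w ⤳ z' → w = z' := by
    intro X z
    have hirr : IsIrreducible (irreducibleComponent z) := isIrreducible_irreducibleComponent
    obtain ⟨z', hz'⟩ := QuasiSober.sober hirr isClosed_irreducibleComponent
    refine ⟨z', hz'.specializes mem_irreducibleComponent, fun w hw => ?_⟩
    have h1 : irreducibleComponent z ⊆ closure {w} :=
      hz'.def ▸ closure_minimal (Set.singleton_subset_iff.2 hw.mem_closure) isClosed_closure
    have h2 : closure {w} = irreducibleComponent z :=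
      eq_irreducibleComponent isIrreducible_singleton.closure.2 h1
    have hwg : IsGenericPoint w (irreducibleComponent z) := h2
    exact hwg.eq hz'
  have hmax : ∀ {X : Scheme.{u}} (f : X ⟶ S) [Flat f] (z : X), (∀ w : X, w ⤳ z → w = z) →
      ∀ t : S, t ⤳ f z → t = f z := by
    intro X f _ z hz t ht
    obtain ⟨w, hw, rfl⟩ := Flat.generalizingMap (f := f) ht
    rw [hz w hw]
  have hsurj : Surjective (pullback.diagonal g) := by
    constructor
    intro z
    obtain ⟨z', hz', hm⟩ := hgen z
    have hcl : IsClosed (Set.range (pullback.diagonal g)) :=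
      (pullback.diagonal g).isClosedEmbedding.isClosed_range
    suffices hh : z' ∈ Set.range (pullback.diagonal g) from hz'.mem_closed hcl hh
    have hs := hmax (pullback.fst g g ≫ g) z' hm
    obtain ⟨x, hx1, -⟩ := Scheme.Pullback.exists_preimage_pullback
      (f := pullback.fst g g ≫ g) (g := S.fromSpecResidueField ((pullback.fst g g ≫ g) z')) z'
      (default : Spec (S.residueField _)) (Scheme.fromSpecResidueField_apply _ _).symm
    rcases key _ hs _ _ pullback.condition with he | ⟨σ, hσ⟩
    · exact (he.false x).elim
    · rw [← hx1, hσ, Scheme.Hom.comp_apply]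
      exact ⟨_, rfl⟩
  have huc : UniversallyClosed (pullback.fst g g) := by
    have : UniversallyClosed (pullback.diagonal g ≫ pullback.fst g g) := by
      rw [pullback.diagonal_fst]; infer_instance
    exact UniversallyClosed.of_comp_surjective (pullback.diagonal g) _
  have : IsProper (pullback.fst g g) := ⟨⟩
  have : IsFinite (pullback.fst g g) := IsFinite.of_isProper_of_locallyQuasiFinite _
  have hiso : IsIso (pullback.fst g g) := by
    rw [Scheme.Hom.isIso_iff_finrank_eq]
    ext x
    obtain ⟨t, htx, hm⟩ := hgen x
    have hlc := Scheme.Hom.isLocallyConstant_finrank (pullback.fst g g)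
    have hxt : (pullback.fst g g).finrank x = (pullback.fst g g).finrank t := by
      obtain ⟨U, hU, hxU, hc⟩ := hlc.exists_open x
      exact (hc t (htx.mem_open hU hxU)).symm
    rw [hxt, Pi.one_apply]
    have hne : Nonempty ↥(pullback g (S.fromSpecResidueField (g t))) := by
      obtain ⟨y, -⟩ := Scheme.Pullback.exists_preimage_pullback (f := g)
        (g := S.fromSpecResidueField (g t)) t (default : Spec (S.residueField _))
        (Scheme.fromSpecResidueField_apply _ _).symm
      exact ⟨y⟩
    have hi : IsIso (pullback.snd g (S.fromSpecResidueField (g t))) :=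
      (h (g t) (hmax g t hm)).resolve_left fun he => he.false hne.some
    let a : Spec (T.residueField t) ⟶ Spec (S.residueField (g t)) := Spec.map (g.residueFieldMap t)
    have hp : IsPullback (pullback.fst (pullback.fst g g) (T.fromSpecResidueField t) ≫ pullback.snd g g)
        (pullback.snd _ _) g (a ≫ S.fromSpecResidueField (g t)) := by
      rw [Scheme.Hom.SpecMap_residueFieldMap_fromSpecResidueField]
      exact IsPullback.paste_horiz (IsPullback.of_hasPullback (pullback.fst g g) (T.fromSpecResidueField t)).flip.flip
        (IsPullback.of_hasPullback g g).flip |>.flip.flip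
    let v : pullback (pullback.fst g g) (T.fromSpecResidueField t) ⟶ pullback g (S.fromSpecResidueField (g t)) :=
      pullback.lift _ _ (hp.w.trans (Category.assoc _ _ _).symm)
    have hq : IsPullback (pullback.snd (pullback.fst g g) (T.fromSpecResidueField t)) v a
        (pullback.snd g (S.fromSpecResidueField (g t))) :=
      IsPullback.of_bot (v₂₁ := pullback.fst g (S.fromSpecResidueField (g t)))
          (v₂₂ := S.fromSpecResidueField (g t)) (h₃₁ := g)
        (by rw [show v ≫ pullback.fst _ _ = _ from pullback.lift_fst _ _ _]; exact hp.flip)
          (pullback.lift_snd _ _ _).symm (IsPullback.of_hasPullback _ _).flip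
    have : IsIso (pullback.snd (pullback.fst g g) (T.fromSpecResidueField t)) :=
      MorphismProperty.of_isPullback (P := MorphismProperty.isomorphisms Scheme) hq.flip hi
    have e : (pullback.fst g g).finrank t =
        (pullback.snd (pullback.fst g g) (T.fromSpecResidueField t)).finrank default := by
      rw [Scheme.Hom.finrank_pullback_snd, Scheme.fromSpecResidueField_apply]
    rw [e, Scheme.Hom.finrank_eq_one_of_isIso]
    rfl
  have hd : IsIso (pullback.diagonal g) := by
    rw [show pullback.diagonal g = inv (pullback.fst g g) from
      (IsIso.eq_inv_of_inv_hom_id (pullback.diagonal_fst g))]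
    infer_instance
  have : Mono g := (pullback.isIso_diagonal_iff g).1 hd
  exact IsOpenImmersion.of_flat_of_mono g

end Groth.Agent.S3207
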