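import Groth.Statements.S3210
import Groth.Agent.SGA7X.InertPts
import Groth.Agent.S7785
import Groth.Agent.GrpSchLib.IsogenyFibre

set_option autoImplicit false
universe u
open CategoryTheory CategoryTheory.Limits AlgebraicGeometry MonObj
open SGA7

namespace Groth.Agent.S3210

open MonoidalCategory CartesianMonoidalCategory GrpObj
set_option backward.isDefEq.respectTransparency.types false

theorem geometricallyConnected_of_integral {X Y : Scheme.{u}} (f : X ⟶ Y) [GeometricallyIntegral f] :
    GeometricallyConnected f := by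
  refine ⟨fun K _ y Z fst snd h => ?_⟩
  have := GeometricallyIntegral.geometrically_isIntegral (f := f) y fst snd h
  infer_instance

/-- Direction (i) ⇒ (v bis) of the Néron–Ogg–Chafarévitch criterion (only this direction of the
criterion is stated): let R be a discrete valuation ring with fraction field K and residue
characteristic different from the prime ℓ, Ω a separable closure of K, W a valuation subring of Ω
lying over R, and A an abelian variety over K (a proper, geometrically integral group scheme). If A
extends to an abelian scheme over R (a proper smooth group scheme over Spec R with connected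
geometric fibres whose generic fibre is K-isomorphic to A), then for every ν every element of the
inertia group at W fixes all the ℓ^ν-torsion Ω-points of A. -/
theorem result (R K Ω : Type u) [CommRing R] [IsDomain R] [IsDiscreteValuationRing R] [Field K]
    [Algebra R K] [IsFractionRing R K] [Field Ω] [Algebra K Ω] [IsSepClosure K Ω]
    (W : ValuationSubring Ω) (hW : SGA7.LiesOver K R W) (ℓ : ℕ) (hℓ : ℓ.Prime) (hℓp : (ℓ : IsLocalRing.ResidueField R) ≠ 0)
    (A : Over (Spec (CommRingCat.of K))) [GrpObj A] [IsProper A.hom] [GeometricallyIntegral A.hom]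
    (hgood : (∃ (B : Over (Spec (CommRingCat.of R))) (_ : GrpObj B), IsProper B.hom ∧ Smooth B.hom ∧
        (∀ (k' : Type u) [Field k'] (t : Spec (CommRingCat.of k') ⟶ Spec (CommRingCat.of R)), ConnectedSpace ↑(pullback B.hom t)) ∧
        Nonempty ((Over.pullback (Spec.map (CommRingCat.ofHom (algebraMap R K)))).obj B ≅ A))) :
    ∀ (ν : ℕ) (σ : Ω ≃ₐ[K] Ω), SGA7.IsInertia W σ → ∀ x : SGA7.Pts Ω A, x ^ (ℓ ^ ν) = 1 → SGA7.galAct σ x = x := by
  obtain ⟨B, gB, hBp, hBs, hBc, ⟨e⟩⟩ := hgood
  have := hBp
  have := hBs
  let g := Spec.map (CommRingCat.ofHom (algebraMap R K))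
  have hgc : GeometricallyConnected B.hom := by
    refine ⟨(geometrically_iff_of_isClosedUnderIsomorphisms (P := (ConnectedSpace ↥·))).2 ?_⟩
    intro k' _ t
    exact hBc k' t
  have hgr : GeometricallyReduced B.hom := GrpSchLib.IsogenyFibre.geometricallyReduced_of_smooth' B.hom
  have hBcomm : IsCommMonObj B := S7785.result B
  have hAc : GeometricallyConnected A.hom := geometricallyConnected_of_integral A.hom
  let P : Over (Spec (CommRingCat.of K)) := (Over.pullback g).obj B
  have hPs : IsSeparated P.hom := inferInstanceAs (IsSeparated (pullback.snd B.hom g))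
  have hPf : IsCommMonObj P := Functor.isCommMonObj_obj
  let c : 𝟙_ (Over (Spec (CommRingCat.of K))) ⟶ P := η[A] ≫ e.inv
  let φ : A ⟶ P := e.inv * (toUnit A ≫ c)⁻¹
  have hφ : η[A] ≫ φ = η[P] := by
    rw [MonObj.comp_mul, GrpObj.comp_inv, ← Category.assoc, toUnit_unique (η[A] ≫ toUnit A) (𝟙 _),
      Category.id_comp, _root_.mul_inv_cancel, Hom.one_def, toUnit_unit, Category.id_comp]
  have : IsMonHom φ := H23.RigidAb.isMonHom_of_one φ hφ
  intro ν σ hσ x hx
  have hn : ((ℓ ^ ν : ℕ) : IsLocalRing.ResidueField R) ≠ 0 := by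
    rw [Nat.cast_pow]
    exact pow_ne_zero _ hℓp
  have hx' : (x ≫ φ) ^ (ℓ ^ ν) = 1 := by
    rw [← MonObj.pow_comp, hx, MonObj.one_comp]
  obtain ⟨y, hy, hxy⟩ := SGA7X.InertPts.exists_extension hW B (x ≫ φ)
  have h := SGA7X.InertPts.galAct_eq hW B hn (x ≫ φ) hx' y hy hxy hσ
  have h' : SGA7.specAut σ ≫ (x ≫ e.inv) = x ≫ e.inv := by
    have h2 : SGA7.specAut σ ≫ x ≫ φ = x ≫ φ := h
    simp only [φ, MonObj.comp_mul, GrpObj.comp_inv, ← Category.assoc, comp_toUnit] at h2
    exact mul_right_cancel h2
  show SGA7.specAut σ ≫ x = x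
  rw [← Category.assoc] at h'
  exact (cancel_mono e.inv).1 h'

end Groth.Agent.S3210
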