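import Groth.Statements.S3215
import Groth.Agent.SGA7X.QuadSplit

set_option autoImplicit false
universe u
open SGA7II

namespace Groth.Agent.S3215

/-- Let A be a commutative ring and Q(x) = sum over pairs i <= j of a_{ij} x_i x_j a quadratic form in
2m variables on the free module A^{2m} (the source allows a locally free module, which is free
Zariski-locally; the variables indexed by two copies of Fin m, ordered first copy then second),
whose polar bilinear form (matrix entries 2a_{ii} on the diagonal, a_{ij} for i < j) has invertible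
determinant (Q is ordinary). Then there are finitely many etale A-algebras B_t whose spectra jointly
cover Spec A and, over each B_t, an invertible matrix g with Q(g x) = sum_j x_j x_{m+j}, the split
form. -/
theorem result (A : Type u) [CommRing A] (m : ℕ)
    (a : (Fin m ⊕ Fin m) → (Fin m ⊕ Fin m) → A) :
    let rk : Fin m ⊕ Fin m → ℕ := Sum.elim Fin.val (fun k => m + k.val)
    let QB : ∀ (B : Type u) [CommRing B] [Algebra A B], ((Fin m ⊕ Fin m) → B) → B :=
      fun B _ _ x => ∑ i, ∑ j, if rk i ≤ rk j then algebraMap A B (a i j) * x i * x j else 0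
    IsUnit (Matrix.det (Matrix.of fun i j : Fin m ⊕ Fin m =>
      if i = j then a i i + a i i else if rk i ≤ rk j then a i j else a j i)) →
    ∃ (n : ℕ) (B : Fin n → Type u) (_ : ∀ t, CommRing (B t)) (_ : ∀ t, Algebra A (B t)),
      (∀ t, Algebra.Etale A (B t)) ∧
      (∀ p : PrimeSpectrum A, ∃ (t : Fin n) (q : PrimeSpectrum (B t)),
        q.asIdeal.comap (algebraMap A (B t)) = p.asIdeal) ∧
      ∀ t, ∃ g : Matrix (Fin m ⊕ Fin m) (Fin m ⊕ Fin m) (B t), IsUnit g.det ∧
        ∀ x : Fin m ⊕ Fin m → B t, QB (B t) (g.mulVec x) = ∑ j : Fin m, x (Sum.inl j) * x (Sum.inr j) := by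
  classical
  intro rk QB hdet
  let M : Matrix (Fin m ⊕ Fin m) (Fin m ⊕ Fin m) A :=
    Matrix.of fun i j => if rk i ≤ rk j then a i j else 0
  have hrk : ∀ i j, rk i ≤ rk j → rk j ≤ rk i → i = j := by
    rintro (i | i) (j | j) h1 h2 <;> simp only [rk, Sum.elim_inl, Sum.elim_inr] at h1 h2
    · exact congrArg Sum.inl (Fin.ext (le_antisymm h1 h2))
    · omega
    · omega
    · exact congrArg Sum.inr (Fin.ext (by omega))
  have hMdet : IsUnit (M + M.transpose).det := by
    convert hdet using 2
    ext i j
    simp only [M, Matrix.add_apply, Matrix.transpose_apply, Matrix.of_apply]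
    by_cases hij : i = j
    · subst hij; simp
    · rw [if_neg hij]
      rcases le_total (rk i) (rk j) with h | h
      · rw [if_pos h, if_pos h, if_neg fun h' => hij (hrk i j h h'), add_zero]
      · rw [if_neg fun h' => hij (hrk i j h' h), if_neg fun h' => hij (hrk i j h' h), if_pos h, zero_add]
  choose B instR instA hEt hq g hg hgx using SGA7X.QuadSplit.split_near m A M hMdet
  have hopen : ∀ p : PrimeSpectrum A, IsOpen (Set.range (PrimeSpectrum.comap
      (@algebraMap A (B p) _ _ (instA p)))) := fun p => by
    letI := instR p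
    letI := instA p
    haveI := hEt p
    exact (PrimeSpectrum.isOpenMap_comap_of_hasGoingDown_of_finitePresentation).isOpen_range
  obtain ⟨s, hs⟩ := isCompact_univ.elim_finite_subcover _ hopen fun p _ => by
    obtain ⟨q, hq⟩ := hq p
    exact Set.mem_iUnion.2 ⟨p, q, PrimeSpectrum.ext hq⟩
  let e := s.equivFin
  refine ⟨s.card, fun t => B (e.symm t), fun t => instR _, fun t => instA _, fun t => hEt _,
    fun p => ?_, fun t => ?_⟩
  · obtain ⟨i, hi, q, hqp⟩ := Set.mem_iUnion₂.1 (hs (Set.mem_univ p))
    refine ⟨e ⟨i, hi⟩, ?_⟩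
    have key : ∀ u : s, u = ⟨i, hi⟩ →
        ∃ q : PrimeSpectrum (B u), q.asIdeal.comap (algebraMap A (B u)) = p.asIdeal := by
      rintro u rfl
      exact ⟨q, congrArg PrimeSpectrum.asIdeal hqp⟩
    exact key _ (e.symm_apply_apply _)
  · refine ⟨g _, hg _, fun x => ?_⟩
    rw [show (∑ j : Fin m, x (Sum.inl j) * x (Sum.inr j)) = SGA7X.QuadSplit.hyp x from rfl, ← hgx]
    generalize (g _).mulVec x = y
    simp only [QB, SGA7X.QuadSplit.qf, dotProduct, Matrix.mulVec, Finset.mul_sum]
    refine Finset.sum_congr rfl fun i _ => Finset.sum_congr rfl fun j _ => ?_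
    simp only [M, Matrix.map_apply, Matrix.of_apply]
    split_ifs
    · ring
    · simp

end Groth.Agent.S3215
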