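import Groth.Statements.S3242
import Groth.Agent.BrauerXCurve.Dim1

set_option autoImplicit false
universe u
open CategoryTheory AlgebraicGeometry
open Dix

namespace Groth.Agent.S3242

/-- Let X be a reduced noetherian scheme of dimension ≤ 1. Then H^q(X_ét, G_m) is a torsion group for
every q ≥ 2 (the reducedness hypothesis is the standing assumption of the published statement, made
explicit here). -/
theorem result (X : Scheme.{u}) [IsNoetherian X] [IsReduced X] (hdim : topologicalKrullDim X ≤ 1) (q : ℕ) (hq : 2 ≤ q) : IsAddTorsion (EtCoh.H X (EtCoh.Gm X) q) := by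
  obtain ⟨r, rfl⟩ : ∃ r, q = r + 2 := ⟨q - 2, by omega⟩
  intro ξ
  obtain ⟨N, hN, hξ⟩ := BrauerXCurve.exists_kill (nonZeroDivisors ℕ)
    (fun x : BrauerXCurve.MaxPts X => EtLim.GmPush (X.fromSpecStalk x.1)) (r + 1)
    (BrauerXCurve.killedBy_pos_iff.2 (BrauerXCurve.isAddTorsion_H_supp_closedPoints _
      (BrauerXCurve.isClosed_of_mem_supp_kernel hdim) (r + 1)))
    (BrauerXCurve.killedBy_pos_iff.2 (BrauerXCurve.isAddTorsion_H_supp_closedPoints _
      (BrauerXCurve.isClosed_of_mem_supp_cokernel hdim) r)) ξ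
    (fun x => BrauerXCurve.killedBy_pos_iff.2 (by
      let := (BrauerXCurve.isField_stalk x.1 x.2).toField
      have : QuasiCompact (X.fromSpecStalk x.1) := inferInstance
      exact BrauerXPoint.isAddTorsion_H_push (k := X.presheaf.stalk x.1) (X.fromSpecStalk x.1) _ (r + 1)) _)
  exact isOfFinAddOrder_iff_nsmul_eq_zero.2 ⟨N, Nat.pos_of_ne_zero (nonZeroDivisors.ne_zero hN), hξ⟩

end Groth.Agent.S3242
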