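import Groth.Statements.S3253
import Groth.Agent.ArSurfX.Form
import Groth.Agent.ArSurfX.Arith

set_option autoImplicit false
universe u

set_option linter.style.haveILetI false
set_option backward.isDefEq.respectTransparency false
set_option backward.isDefEq.respectTransparency.types false
open AlgebraicGeometry CategoryTheory CategoryTheory.Limits
open ArSurf

namespace Groth.Agent.S3253

/-- Let R be a discrete valuation ring, X an arithmetic surface over Spec R (regular, integral,
2-dimensional, flat and projective), Γ_1, …, Γ_r vertical prime divisors of X over the closed point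
(integral curves over the residue field, closed in X) and L_1, …, L_r invertible O_X-modules with
L_j ⊗ I(Γ_j) ≅ O_X (L_j = O_X(Γ_j)). Then for all integers a_1, …, a_r, Σ_{i,j} a_i a_j (Γ_i · Γ_j)
≤ 0, where Γ_i · Γ_j = deg over the residue field of L_j restricted to Γ_i. -/
theorem result (R : Type u) [CommRing R] [IsDomain R] [IsDiscreteValuationRing R]
    (X : Over (Spec (CommRingCat.of R))) (hX : ArSurf.IsArithSurface R X)
    {r : ℕ} (Γ : Fin r → ArSurf.VertComp R X) (L : Fin r → X.left.Modules)
    (hL : ∀ j, ClSub.IsInverseOf (L j) (ClSub.idealMod ((Γ j).ι.ker))) (a : Fin r → ℤ) :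
    (Finset.univ : Finset (Fin r × Fin r)).sum
      (fun p => a p.1 * a p.2 * ArSurf.inter R X (L p.2) (Γ p.1)) ≤ 0 := by
  classical
  have h := Groth.Agent.ArSurfX.IsSurf.of_isArithSurface hX
  obtain ⟨n, Δ, hΔ⟩ := h.exists_componentList
  choose M hM hMi using fun j => Groth.Agent.ArSurfX.exists_isInverseOf
    (Groth.Agent.ArSurfX.isInvertible_idealMod (h.isEffCartier_ker (Δ j)))
  have hf : ∀ p, ∃ i, Set.range (Δ i).ι.base = Set.range (Γ p).ι.base := fun p => by
    have hp := h.range_mem_fibreComponents (Γ p)
    rw [← hΔ.2] at hp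
    exact hp
  choose f hf using hf
  have hq : ∀ p q, ArSurf.inter R X (L q) (Γ p) = ArSurf.inter R X (M (f q)) (Δ (f p)) := fun p q => by
    rw [h.inter_inverse_congr (Γ p) (Γ q) (Δ (f q)) (hf q).symm (hL q) (hMi _)]
    exact h.inter_component_congr hΔ hMi (Γ p) (f p) (hf p) (f q)
  refine le_of_eq_of_le ?_
    (h.form_nonpos hΔ hMi fun i => ∑ p ∈ Finset.univ.filter (fun p => f p = i), a p).1
  rw [← Finset.univ_product_univ, Finset.sum_product]
  simp only [hq]
  rw [← Finset.sum_fiberwise Finset.univ f]
  refine Finset.sum_congr rfl fun i _ => ?_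
  calc _ = ∑ p ∈ Finset.univ.filter (fun p => f p = i),
        ∑ q, a p * a q * ArSurf.inter R X (M (f q)) (Δ i) :=
        Finset.sum_congr rfl fun p hp => by rw [(Finset.mem_filter.1 hp).2]
    _ = ∑ p ∈ Finset.univ.filter (fun p => f p = i), ∑ j, ∑ q ∈ Finset.univ.filter (fun q => f q = j),
        a p * a q * ArSurf.inter R X (M j) (Δ i) := Finset.sum_congr rfl fun p _ => by
        rw [← Finset.sum_fiberwise Finset.univ f]
        exact Finset.sum_congr rfl fun j _ => Finset.sum_congr rfl fun q hq' => by
          rw [(Finset.mem_filter.1 hq').2]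
    _ = _ := by
        rw [Finset.sum_comm]
        refine Finset.sum_congr rfl fun j _ => ?_
        rw [Finset.sum_mul_sum, Finset.mul_sum]
        refine Finset.sum_congr rfl fun p _ => ?_
        rw [Finset.mul_sum]
        exact Finset.sum_congr rfl fun q _ => mul_comm _ _

end Groth.Agent.S3253
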