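import Groth.Statements.S3257
import Groth.Agent.ArSurfX.BirStalk
import Groth.Agent.ArSurfX.SmoothFibre
import Groth.Agent.ArSurfX.Arith
import Groth.Agent.Triage.ZMTBir

set_option autoImplicit false
set_option linter.style.haveILetI false
set_option backward.isDefEq.respectTransparency false
set_option backward.isDefEq.respectTransparency.types false
universe u
open AlgebraicGeometry CategoryTheory CategoryTheory.Limits
open ArSurf

namespace Groth.Agent.S3257

/-- Let R be a Dedekind domain, X and Y arithmetic surfaces over Spec R, f : X -> Y an R-morphism and y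
a closed point of Y such that f restricts to an isomorphism over Y minus y while the fibre of f over
y is irreducible and has more than one point (so the exceptional locus of the birational morphism f
is irreducible). Then f is the blowing-up of Y at y: it has the universal property of the blow-up
along the ideal of the reduced closed point y (BlowUp.IsBlowUp). (The factorization result of the
source says more generally that every birational morphism of regular fibered surfaces is a finite
sequence of blow-ups of closed points.) -/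
theorem result {R : Type u} [CommRing R] [IsDedekindDomain R]
    (X Y : Over (Spec (CommRingCat.of R))) (hX : ArSurf.IsArithSurface R X) (hY : ArSurf.IsArithSurface R Y)
    (f : X ⟶ Y) (y : Y.left) (hy : IsClosed ({y} : Set Y.left))
    (hiso : IsIso (f.left ∣_ (⟨{y}ᶜ, hy.isOpen_compl⟩ : Y.left.Opens)))
    (hirr : IsPreirreducible (f.left.base ⁻¹' {y}))
    (hbig : ∃ x x' : X.left, x ≠ x' ∧ f.left.base x = y ∧ f.left.base x' = y) :
    BlowUp.IsBlowUp f.left (Scheme.IdealSheafData.vanishingIdeal ⟨{y}, hy⟩) := by
  open Groth.Agent Groth.Agent.ArSurfX IsLocalRing Order TopologicalSpace in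
  classical
  haveI := hX.2.1
  haveI := hY.2.1
  haveI := isProper_of_projective hX.2.2.2.2
  haveI := isProper_of_projective hY.2.2.2.2
  haveI : IsNoetherianRing R := inferInstance
  haveI : IsLocallyNoetherian X.left := LocallyOfFiniteType.isLocallyNoetherian X.hom
  haveI : IsLocallyNoetherian Y.left := LocallyOfFiniteType.isLocallyNoetherian Y.hom
  haveI : CompactSpace X.left := QuasiCompact.compactSpace_of_compactSpace X.hom
  haveI : IsNoetherian X.left := {}
  haveI : IsProper (f.left ≫ Y.hom) := by rw [Over.w]; infer_instance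
  haveI : IsProper f.left := IsProper.of_comp f.left Y.hom
  have hdimX := height_add_coheight_le_of_dim hX.2.2.1
  have hdimY := height_add_coheight_le_of_dim hY.2.2.1
  have hreg := hY.1
  have hN : ∀ q : Y.left, IsIntegrallyClosed (Y.left.presheaf.stalk q) := fun q => by
    haveI := hreg q
    haveI := (RegUFD.ufd (A := Y.left.presheaf.stalk q)).1
    haveI := (RegUFD.ufd (A := Y.left.presheaf.stalk q)).2
    infer_instance
  set U : Y.left.Opens := ⟨{y}ᶜ, hy.isOpen_compl⟩
  haveI := hiso
  -- the generic point lies off the centre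
  have hyη : y ≠ genericPoint Y.left := fun e => by
    have hall : ∀ q : Y.left, q = y := fun q => by
      have h : q ∈ closure ({y} : Set Y.left) :=
        specializes_iff_mem_closure.1 (e ▸ genericPoint_specializes q)
      rwa [hy.closure_eq] at h
    have h := hY.2.2.1
    rw [topologicalKrullDim, Order.krullDim_eq_of_orderIso (irreducibleSetEquivPoints (α := Y.left))] at h
    haveI : Subsingleton Y.left := ⟨fun p q => (hall p).trans (hall q).symm⟩
    haveI : Nonempty Y.left := ⟨y⟩
    rw [Order.krullDim_eq_zero] at h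
    norm_num at h
  have hηU : genericPoint Y.left ∈ U := fun h => hyη h.symm
  have hgen := apply_genericPoint_of_isIso_restrict f.left hηU
  have hbirf : IsIso (f.left.stalkMap (genericPoint X.left)) :=
    isIso_stalkMap_of_isIso_restrict f.left (U := U) (by rw [hgen]; exact hηU)
  -- the fibre is a curve
  set F := f.left.base ⁻¹' {y} with hF
  have hFc : IsClosed F := hy.preimage f.left.continuous
  obtain ⟨x₁, x₂, hne, hx₁, hx₂⟩ := hbig
  have hFi : IsIrreducible F := ⟨⟨x₁, hx₁⟩, hirr⟩
  have hgξ := hFi.isGenericPoint_genericPoint hFc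
  set ξ := hFi.genericPoint
  have hξy : f.left.base ξ = y := hgξ.mem
  have hξη : ξ ≠ genericPoint X.left := fun e => hyη (hξy.symm.trans (e ▸ hgen))
  have hF2 : ∀ w ∈ F, w ≠ ξ → coheight w = 2 ∧ IsClosed ({w} : Set X.left) := by
    intro w hw hwne
    have hlt : w < ξ := lt_iff_le_not_ge.2
      ⟨hgξ.specializes hw, fun h => hwne ((hgξ.specializes hw).antisymm h).eq.symm⟩
    have h1 : 2 ≤ coheight w := by
      refine le_trans ?_ (coheight_add_one_le hlt)
      rw [show (2 : ℕ∞) = 1 + 1 from one_add_one_eq_two.symm]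
      exact add_le_add (le_add_self.trans (coheight_add_one_le (lt_genericPoint hξη))) le_rfl
    have h2 := hdimX w
    have h3 : coheight w = 2 := le_antisymm (le_add_self.trans h2) h1
    refine ⟨h3, ArSurfX.isClosed_singleton_of_forall fun q hq => ?_⟩
    by_contra hne'
    have hlt' : q < w := lt_iff_le_not_ge.2 ⟨hq, fun h => hne' (hq.antisymm h).eq.symm⟩
    have h4 := (le_add_self.trans (height_add_one_le hlt')).trans_eq (by
      rw [h3] at h2
      by_contra h0
      have h5 : (1 : ℕ∞) + 2 ≤ 2 := (add_le_add (Order.one_le_iff_pos.2 (pos_iff_ne_zero.2 h0)) le_rfl).trans h2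
      norm_num at h5 : height w = 0)
    simp at h4
  -- the centre has codimension two
  have hcy : coheight y = 2 := by
    refine le_antisymm (le_add_self.trans (hdimY y)) ?_
    by_contra hlt
    push Not at hlt
    obtain ⟨w, hw, hwne⟩ : ∃ w ∈ F, w ≠ ξ := by
      by_cases h : x₁ = ξ
      · exact ⟨x₂, hx₂, fun e => hne (h.trans e.symm)⟩
      · exact ⟨x₁, hx₁, h⟩
    have hw' : f.left w = y := hw
    have hd : ringKrullDim (Y.left.presheaf.stalk (f.left w)) ≤ 1 := by
      rw [ringKrullDim_stalk_eq_coheight, hw']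
      exact_mod_cast Order.le_of_lt_add_one (lt_of_lt_of_eq hlt one_add_one_eq_two.symm)
    haveI := hreg (f.left w)
    haveI := (RegUFD.ufd (A := Y.left.presheaf.stalk (f.left w))).1
    haveI := DimFormula.isPrincipalIdealRing_of_regular_dim_le_one (R := Y.left.presheaf.stalk (f.left w)) hd
    haveI := hX.1 w
    have h := (ringKrullDim_stalk_le f.left hgen hbirf w (RegUFD.ufd _).1).trans hd
    rw [ringKrullDim_stalk_eq_coheight, (hF2 w hw hwne).1] at h
    norm_cast at h
  -- the blow-up
  set I := Scheme.IdealSheafData.vanishingIdeal ⟨{y}, hy⟩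
  obtain ⟨Y', b, hb⟩ := BlowUpLib.exists_blowUp I
  have hI : BlowUp.IsFiniteTypeIdeal I := fun V => by
    haveI : IsNoetherianRing Γ(Y.left, V.1) := IsLocallyNoetherian.component_noetherian V
    exact IsNoetherian.noetherian _
  haveI := BlowUpLib.isProper_of_isBlowUp _ hb hI
  have hdy : ringKrullDim (Y.left.presheaf.stalk y) = 2 := by
    rw [ringKrullDim_stalk_eq_coheight, hcy]
    rfl
  haveI := BlowPoint.isIntegral hy hb hdy
  have hN' := BlowPoint.isIntegrallyClosed_stalk hy hb (hreg y) hdy hN
  obtain ⟨z₁, z₂, hz, hz₁, hz₂⟩ := BlowPoint.exists_two_points hy hb (hreg y) hdy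
  haveI hbiso : IsIso (b ∣_ U) := BlowPoint.isIso_restrict_compl hy hb
  obtain ⟨g, hg, -⟩ := hb.2 X.left f.left (isEffCartier_comap_point hX.1 hY.1
    (fun x => le_add_self.trans (hdimX x)) (fun q => le_add_self.trans (hdimY q)) f.left
    ⟨U, ⟨_, hηU⟩, hiso⟩ hy ⟨x₁, x₂, hne, hx₁, hx₂⟩)
  haveI : IsProper (g ≫ b) := by rw [hg]; infer_instance
  haveI : IsProper g := IsProper.of_comp g b
  haveI : IsIso (g ∣_ (b ⁻¹ᵁ U)) := by
    have h1 : IsIso ((g ≫ b) ∣_ U) := by rw [hg]; infer_instance
    haveI : IsIso (g ∣_ (b ⁻¹ᵁ U) ≫ b ∣_ U) := morphismRestrict_comp g b U ▸ h1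
    exact IsIso.of_isIso_comp_right _ (b ∣_ U)
  have hηU' : genericPoint Y' ∈ b ⁻¹ᵁ U := by
    show b.base _ ∈ U
    rw [show b.base (genericPoint Y') = genericPoint Y.left from apply_genericPoint_of_isIso_restrict b hηU]
    exact hηU
  have hgeng := apply_genericPoint_of_isIso_restrict g hηU'
  have hbirg : IsIso (g.stalkMap (genericPoint X.left)) :=
    isIso_stalkMap_of_isIso_restrict g (U := b ⁻¹ᵁ U) (by rw [hgeng]; exact hηU')
  haveI : Surjective g :=
    ⟨fun z => (genericPoint_specializes z).mem_closed g.isClosedMap.isClosed_range ⟨_, hgeng⟩⟩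
  have hover : ∀ x, b.base (g x) = f.left.base x := fun x => by
    rw [← Scheme.Hom.comp_apply, hg]
  have hFz : ∀ z, b.base z = y → ∃ w ∈ F, g w = z := fun z hz => by
    obtain ⟨w, rfl⟩ := g.surjective z
    exact ⟨w, (hover w).symm.trans hz, rfl⟩
  -- finite fibres
  have himg : ∀ w ∈ F, w ≠ ξ → IsClosed ({g w} : Set Y') := fun w hw hwne => by
    have h1 := g.isClosedMap _ (hF2 w hw hwne).2
    rwa [Set.image_singleton] at h1
  have hξnc : ¬ IsClosed ({g ξ} : Set Y') := fun hc => by
    have hall : ∀ w ∈ F, g w = g ξ := fun w hw => by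
      simpa using ((hgξ.specializes hw).map g.continuous).mem_closed hc rfl
    obtain ⟨w₁, hw₁, rfl⟩ := hFz z₁ hz₁
    obtain ⟨w₂, hw₂, rfl⟩ := hFz z₂ hz₂
    exact hz ((hall w₁ hw₁).trans (hall w₂ hw₂).symm)
  have hfin : ∀ z, (g.base ⁻¹' {z}).Finite := by
    intro z
    by_cases hzy : b.base z = y
    swap
    · exact (subsingleton_preimage_of_isIso_restrict g (U := b ⁻¹ᵁ U) hzy).finite
    have hsub : g.base ⁻¹' {z} ⊆ F := fun w hw => (hover w).symm.trans ((congrArg b.base hw).trans hzy)
    by_cases hξz : g ξ = z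
    · refine (Set.finite_singleton ξ).subset fun w hw => ?_
      by_contra hwne
      have h1 := himg w (hsub hw) hwne
      rw [show g w = z from hw, ← hξz] at h1
      exact hξnc h1
    have hzc : IsClosed ({z} : Set Y') := by
      obtain ⟨w, hw, rfl⟩ := hFz z hzy
      exact himg w hw fun e => hξz (e ▸ rfl)
    obtain ⟨S, hSf, hSc, hSi, hSU⟩ := NoetherianSpace.exists_finite_set_isClosed_irreducible
      (hzc.preimage g.continuous)
    have hS : ∀ t ∈ S, (t : Set X.left).Finite := fun t ht => by
      have hgt := (hSi t ht).isGenericPoint_genericPoint (hSc t ht)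
      have hmem : (hSi t ht).genericPoint ∈ g.base ⁻¹' {z} := by
        rw [hSU]
        exact ⟨t, ht, hgt.mem⟩
      have hclosed := (hF2 _ (hsub hmem) fun e => hξz (e ▸ hmem)).2
      rw [← hgt.def, hclosed.closure_eq]
      exact Set.finite_singleton _
    rw [hSU]
    exact hSf.sUnion hS
  haveI : LocallyQuasiFinite g := LocallyQuasiFinite.of_finite_preimage_singleton g hfin
  haveI := Triage.ZMTBir.isOpenImmersion_of_birational hN' g hgeng hbirg
  haveI : IsIso g := by
    rw [isIso_iff_isOpenImmersion_and_epi_base]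
    exact ⟨inferInstance, (TopCat.epi_iff_surjective _).2 g.surjective⟩
  rw [← hg]
  exact BlowUpLib.isBlowUp_iso_comp g hb

end Groth.Agent.S3257
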