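import Groth.Statements.S3258
import Groth.Agent.ArSurfX.SmoothFibre
import Groth.Agent.H23.StalkPrimes
import Groth.Agent.ArSurfX.Arith
import Groth.Agent.S4808
import Groth.Agent.H23.FFDescent
import Groth.Agent.NeronMdl58.Isogeny
import Mathlib.AlgebraicGeometry.ZariskisMainTheorem

set_option linter.style.haveILetI false
set_option backward.isDefEq.respectTransparency false
set_option backward.isDefEq.respectTransparency.types false

set_option autoImplicit false
universe u
open AlgebraicGeometry CategoryTheory CategoryTheory.Limits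
open ArSurf

namespace Groth.Agent.S3258

open Groth.Agent Groth.Agent.ArSurfX IsLocalRing Order TopologicalSpace

/-- Points whose image is not the generic point lie in the zero locus of a nonzero function. -/
theorem exists_ne_zero_mem {Y : Scheme.{u}} [IsIntegral Y] {V : Y.Opens} (hV : IsAffineOpen V) (q : Y)
    (hq : q ∈ V) (hne : q ≠ genericPoint Y) :
    ∃ h : Γ(Y, V), h ≠ 0 ∧ q ∉ Y.basicOpen h := by
  haveI : Nonempty V := ⟨⟨q, hq⟩⟩
  have hp : (hV.primeIdealOf ⟨q, hq⟩).asIdeal ≠ ⊥ := fun e => by
    refine hne ?_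
    have hg : genericPoint Y ∈ V := (genericPoint_specializes q).mem_open V.isOpen hq
    haveI := hV.isOpenImmersion_fromSpec
    have hsp : hV.primeIdealOf ⟨genericPoint Y, hg⟩ ⤳ hV.primeIdealOf ⟨q, hq⟩ := by
      rw [← hV.fromSpec.isOpenEmbedding.isInducing.specializes_iff, hV.fromSpec_primeIdealOf,
        hV.fromSpec_primeIdealOf]
      exact genericPoint_specializes _
    have h1 : hV.primeIdealOf ⟨genericPoint Y, hg⟩ = hV.primeIdealOf ⟨q, hq⟩ :=
      PrimeSpectrum.ext (le_antisymm ((PrimeSpectrum.le_iff_specializes _ _).2 hsp) (e.le.trans bot_le))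
    calc q = hV.fromSpec (hV.primeIdealOf ⟨q, hq⟩) := (hV.fromSpec_primeIdealOf ⟨q, hq⟩).symm
      _ = _ := by rw [← h1, hV.fromSpec_primeIdealOf]
  obtain ⟨h, hh, hh0⟩ := Submodule.exists_mem_ne_zero_of_ne_bot hp
  exact ⟨h, hh0, fun hb => (QCoh.mem_basicOpen_iff_notMem hV hq h).1 hb hh⟩

theorem range_fst_genPt {R : Type u} [CommRing R] [IsDomain R] (X : Over (Spec (CommRingCat.of R)))
    (x : X.left) :
    x ∈ Set.range (pullback.fst X.hom (Neron.genPt R)).base ↔ (X.hom.base x).asIdeal = ⊥ := by
  rw [Scheme.Pullback.range_fst]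
  constructor
  · rintro ⟨q, hq⟩
    rw [← hq]
    show Ideal.comap (algebraMap R (FractionRing R)) q.asIdeal = ⊥
    rw [show q.asIdeal = ⊥ from (Ideal.eq_bot_or_top q.asIdeal).resolve_right q.2.ne_top,
      ← RingHom.ker_eq_comap_bot, RingHom.ker_eq_bot_iff_eq_zero]
    exact fun r hr => IsFractionRing.to_map_eq_zero_iff.1 hr
  · intro hx
    obtain ⟨q⟩ : Nonempty (Spec (CommRingCat.of (FractionRing R))) := inferInstance
    refine ⟨q, PrimeSpectrum.ext ?_⟩
    rw [hx]
    show Ideal.comap (algebraMap R (FractionRing R)) q.asIdeal = ⊥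
    rw [show q.asIdeal = ⊥ from (Ideal.eq_bot_or_top q.asIdeal).resolve_right q.2.ne_top,
      ← RingHom.ker_eq_comap_bot, RingHom.ker_eq_bot_iff_eq_zero]
    exact fun r hr => IsFractionRing.to_map_eq_zero_iff.1 hr

theorem flat_genPt (R : Type u) [CommRing R] [IsDomain R] : Flat (Neron.genPt R) := by
  rw [HasRingHomProperty.Spec_iff (P := @Flat), CommRingCat.hom_ofHom, RingHom.flat_algebraMap_iff]
  exact IsLocalization.flat _ (nonZeroDivisors R)

/-- The nonclosed points over a closed point of the base are finite in number. -/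
theorem finite_nonclosed {R : Type u} [CommRing R] {X : Scheme.{u}} [IsIntegral X] [IsNoetherian X]
    (f : X ⟶ Spec (CommRingCat.of R)) (hdim : topologicalKrullDim X = 2) {s : Spec (CommRingCat.of R)}
    (hs : IsClosed ({s} : Set (Spec (CommRingCat.of R)))) (hgen : f.base (genericPoint X) ≠ s) :
    {x : X | f.base x = s ∧ ¬ IsClosed ({x} : Set X)}.Finite := by
  classical
  obtain ⟨S, hSf, hSc, hSi, hSU⟩ := NoetherianSpace.exists_finite_set_isClosed_irreducible
    (s := f.base ⁻¹' {s}) (hs.preimage f.continuous)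
  refine Set.Finite.subset (s := (fun Z : Set X =>
    if h : IsIrreducible Z then h.genericPoint else genericPoint X) '' S) (hSf.image _) ?_
  rintro p ⟨hps, hpc⟩
  have hp' : p ∈ ⋃₀ S := hSU ▸ (show p ∈ f.base ⁻¹' {s} from hps)
  obtain ⟨Z, hZ, hpZ⟩ := hp'
  refine ⟨Z, hZ, ?_⟩
  simp only [dif_pos (hSi Z hZ)]
  have hgz := (hSi Z hZ).isGenericPoint_genericPoint (hSc Z hZ)
  set w := (hSi Z hZ).genericPoint
  have hws : f.base w = s := by
    have : w ∈ f.base ⁻¹' {s} := hSU ▸ Set.mem_sUnion.2 ⟨Z, hZ, hgz.mem⟩
    exact this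
  have hwp : w ⤳ p := hgz.specializes hpZ
  by_contra hne
  have hpg : p ≠ genericPoint X := fun e => hgen (e ▸ hps)
  have hwg : w ≠ genericPoint X := fun e => hgen (e ▸ hws)
  have hlt : p < w := lt_iff_le_not_ge.2 ⟨hwp, fun h => hne ((hwp.antisymm h).eq)⟩
  have h1 := coheight_add_one_le hlt
  rw [coheight_eq_one_of_not_isClosed hdim hpg hpc] at h1
  have h2 : 1 ≤ coheight w := le_add_self.trans (coheight_add_one_le (lt_genericPoint hwg))
  have := (add_le_add h2 le_rfl).trans h1
  norm_num at this

/-- Let R be a Dedekind domain and X an arithmetic surface over Spec R (a regular, integral scheme of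
dimension 2, flat and projective over Spec R) which is smooth over Spec R. Then X is relatively
minimal: every R-morphism from X to a regular, projective, flat R-scheme that is an isomorphism on
generic fibres is an isomorphism. -/
theorem result {R : Type u} [CommRing R] [IsDedekindDomain R]
    (X : Over (Spec (CommRingCat.of R))) (hX : ArSurf.IsArithSurface R X) [Smooth X.hom] :
    Neron.IsRelMinimalRegularModel R X := by
  classical
  obtain ⟨hreg, hint, hdim, hflat, hproj⟩ := hX
  haveI := hint
  haveI := hflat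
  haveI : IsProper X.hom := isProper_of_projective hproj
  haveI : IsLocallyNoetherian X.left := LocallyOfFiniteType.isLocallyNoetherian X.hom
  haveI : CompactSpace X.left := QuasiCompact.compactSpace_of_compactSpace X.hom
  haveI : IsNoetherian X.left := {}
  refine ⟨hreg, hproj, hflat, fun Y hYreg hYproj hYflat g hg => ?_⟩
  haveI := hYflat
  haveI : IsProper Y.hom := isProper_of_projective hYproj
  haveI : IsProper (g.left ≫ Y.hom) := by rw [Over.w g]; infer_instance
  haveI : IsProper g.left := IsProper.of_comp g.left Y.hom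
  haveI hdomY : ∀ y : Y.left, IsDomain (Y.left.presheaf.stalk y) := fun y => by
    haveI := hYreg y
    exact (RegUFD.ufd _).1
  have hnor : ∀ y : Y.left, IsIntegrallyClosed (Y.left.presheaf.stalk y) := fun y => by
    haveI := hYreg y
    haveI := (RegUFD.ufd (A := Y.left.presheaf.stalk y)).2
    infer_instance
  -- the generic fibres
  haveI := flat_genPt R
  haveI := NeronMdl58.isPreimmersion_genPt R
  let iX := pullback.fst X.hom (Neron.genPt R)
  let iY := pullback.fst Y.hom (Neron.genPt R)
  let m := ((Neron.genericFibre R).map g).left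
  haveI : IsIso m := by
    haveI := hg
    show IsIso ((Over.forget _).map ((Neron.genericFibre R).map g))
    infer_instance
  have hsq : m ≫ iY = iX ≫ g.left := pullback.lift_fst _ _ _
  haveI : Flat iX := MorphismProperty.pullback_fst _ _ inferInstance
  haveI : Flat iY := MorphismProperty.pullback_fst _ _ inferInstance
  haveI : IsPreimmersion iX := MorphismProperty.pullback_fst _ _ inferInstance
  haveI : IsPreimmersion iY := MorphismProperty.pullback_fst _ _ inferInstance
  have hbaseX : ∀ x : X.left, Y.hom.base (g.left.base x) = X.hom.base x := fun x => by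
    rw [← Scheme.Hom.comp_apply, Over.w g]
  have hsqv : ∀ v, g.left.base (iX.base v) = iY.base (m.base v) := fun v => by
    rw [← Scheme.Hom.comp_apply iX g.left v, ← hsq]
    rfl
  have hbij : Function.Bijective m.base := (Scheme.homeoOfIso (asIso m)).bijective
  have hsur : ∀ y : Y.left, (Y.hom.base y).asIdeal = ⊥ → ∃ x, g.left.base x = y := fun y hy => by
    obtain ⟨w, hw⟩ := (range_fst_genPt Y y).2 hy
    obtain ⟨v, hv⟩ := hbij.2 w
    exact ⟨iX.base v, (hsqv v).trans ((congrArg iY.base hv).trans hw)⟩
  have hinj : ∀ a b : X.left, (X.hom.base a).asIdeal = ⊥ → g.left.base a = g.left.base b → a = b := by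
    intro a b ha hab
    obtain ⟨va, hva⟩ := (range_fst_genPt X a).2 ha
    obtain ⟨vb, hvb⟩ := (range_fst_genPt X b).2 (by rw [← hbaseX, ← hab, hbaseX]; exact ha)
    have : m.base va = m.base vb := iY.isEmbedding.injective ((hsqv va).symm.trans (Eq.trans (by
      rw [show iX.base va = a from hva, show iX.base vb = b from hvb, hab]) (hsqv vb)))
    rw [← hva, ← hvb, hbij.1 this]
  have hηX : (X.hom.base (genericPoint X.left)).asIdeal = ⊥ := by
    have hgen : GeneralizingMap X.hom.base := Flat.generalizingMap X.hom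
    obtain ⟨z, hz, hz'⟩ := hgen (b := (⟨⊥, Ideal.isPrime_bot⟩ : PrimeSpectrum R)) (a := genericPoint X.left)
      ((PrimeSpectrum.le_iff_specializes (⟨⊥, Ideal.isPrime_bot⟩ : PrimeSpectrum R) _).1 bot_le)
    rw [show genericPoint X.left = z from ((genericPoint_specializes z).antisymm hz).eq, hz']
  set η := g.left.base (genericPoint X.left)
  have hη : ∀ y : Y.left, η ⤳ y := fun y => by
    have hgen : GeneralizingMap Y.hom.base := Flat.generalizingMap Y.hom
    obtain ⟨z, hz, hz'⟩ := hgen (b := (⟨⊥, Ideal.isPrime_bot⟩ : PrimeSpectrum R)) (a := y)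
      ((PrimeSpectrum.le_iff_specializes (⟨⊥, Ideal.isPrime_bot⟩ : PrimeSpectrum R) _).1 bot_le)
    obtain ⟨x, rfl⟩ := hsur z (by rw [hz'])
    exact ((genericPoint_specializes x).map g.left.continuous).trans hz
  haveI : IrreducibleSpace Y.left := (irreducibleSpace_def _).2 (by
    have : IsGenericPoint η (Set.univ : Set Y.left) :=
      Set.eq_univ_of_forall fun y => specializes_iff_mem_closure.1 (hη y)
    exact this.isIrreducible)
  haveI : ∀ y : Y.left, _root_.IsReduced (Y.left.presheaf.stalk y) := fun y => inferInstance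
  haveI : IsReduced Y.left := isReduced_of_isReduced_stalk _
  haveI : IsIntegral Y.left := isIntegral_of_irreducibleSpace_of_isReduced _
  have hgen : g.left (genericPoint X.left) = genericPoint Y.left :=
    ((hη (genericPoint Y.left)).antisymm (genericPoint_specializes η)).eq
  obtain ⟨v, hv⟩ := (range_fst_genPt X (genericPoint X.left)).2 hηX
  have hbir : IsIso (g.left.stalkMap (genericPoint X.left)) := by
    have key : ∀ p, iX v = p → IsIso (g.left.stalkMap p) := by
      rintro p rfl
      have h1 : IsIso ((iX ≫ g.left).stalkMap v) := by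
        rw [Scheme.Hom.stalkMap_congr_hom _ (m ≫ iY) hsq.symm, Scheme.Hom.stalkMap_comp]
        haveI := H23.FFDescent.isIso_stalkMap_of_flat_of_isPreimmersion iY (m v)
        infer_instance
      rw [Scheme.Hom.stalkMap_comp] at h1
      haveI := H23.FFDescent.isIso_stalkMap_of_flat_of_isPreimmersion iX v
      exact IsIso.of_isIso_comp_right (g.left.stalkMap (iX v)) (iX.stalkMap v)
    exact key _ hv
  -- no curve is contracted
  have hfin : ∀ y : Y.left, (g.left.base ⁻¹' {y}).Finite := by
    intro y
    by_cases hy0 : (Y.hom.base y).asIdeal = ⊥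
    · refine Set.Subsingleton.finite fun a ha b hb => hinj a b ?_ (ha.trans hb.symm)
      rw [← hbaseX, show g.left.base a = y from ha]; exact hy0
    set s := Y.hom.base y
    have hsmax : s.asIdeal.IsMaximal := s.2.isMaximal hy0
    have hsc : IsClosed ({s} : Set (Spec (CommRingCat.of R))) :=
      (PrimeSpectrum.isClosed_singleton_iff_isMaximal s).2 hsmax
    have hsub : g.left.base ⁻¹' {y} ⊆ X.hom.base ⁻¹' {s} := fun x hx => by
      show X.hom.base x = s
      rw [← hbaseX, show g.left.base x = y from hx]
    have hgX : X.hom.base (genericPoint X.left) ≠ s := fun e => hy0 (e ▸ hηX)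
    have hnc := finite_nonclosed X.hom hdim hsc hgX
    by_cases hcl : ∃ x ∈ g.left.base ⁻¹' {y}, IsClosed ({x} : Set X.left)
    swap
    · push Not at hcl
      exact hnc.subset fun x hx => ⟨hsub hx, hcl x hx⟩
    obtain ⟨x₀, hx₀, hx₀c⟩ := hcl
    have hyc : IsClosed ({y} : Set Y.left) := by
      have := g.left.isClosedMap _ hx₀c
      rwa [Set.image_singleton, show g.left.base x₀ = y from hx₀] at this
    have hF : IsClosed (g.left.base ⁻¹' {y}) := hyc.preimage g.left.continuous
    by_cases hall : ∀ ξ ∈ g.left.base ⁻¹' {y}, IsClosed ({ξ} : Set X.left)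
    · obtain ⟨S, hSf, hSc, hSi, hSU⟩ :=
        NoetherianSpace.exists_finite_set_isClosed_irreducible hF
      rw [hSU]
      refine Set.Finite.sUnion hSf fun Z hZ => ?_
      have hgz := (hSi Z hZ).isGenericPoint_genericPoint (hSc Z hZ)
      rw [← hgz.def, (hall _ (hSU ▸ Set.mem_sUnion.2 ⟨Z, hZ, hgz.mem⟩)).closure_eq]
      exact Set.finite_singleton _
    exfalso
    push Not at hall
    obtain ⟨ξ, hξy, hξc⟩ := hall
    change g.left.base ξ = y at hξy
    have hξs : X.hom.base ξ = s := by rw [← hbaseX, hξy]
    have hξg : ξ ≠ genericPoint X.left := fun e => hgX (e ▸ hξs)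
    have hξ1 := coheight_eq_one_of_not_isClosed hdim hξg hξc
    obtain ⟨x, hx, hxc⟩ := (isClosed_closure (s := ({ξ} : Set X.left))).exists_closed_singleton
      ⟨ξ, subset_closure rfl⟩
    have hξx : ξ ⤳ x := specializes_iff_mem_closure.2 hx
    haveI := hreg x
    haveI := (RegUFD.ufd (A := X.left.presheaf.stalk x)).1
    have hbX : X.hom.base x = s := Set.mem_singleton_iff.1 <| hsc.closure_subset <| closure_mono (Set.singleton_subset_iff.2
      (show X.hom.base ξ ∈ ({s} : Set (Spec (CommRingCat.of R))) from hξs))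
      ((hξx.map X.hom.continuous).mem_closure)
    obtain ⟨t, hts, ht0, htmax⟩ := exists_generator s hy0
    have hQ : (Ideal.span {X.left.presheaf.germ ⊤ x trivial (const X.hom t)}).IsPrime :=
      isPrime_span_const X.hom x (by
        have : ∀ q, q = s → maximalIdeal ((Spec (CommRingCat.of R)).presheaf.stalk q) =
            Ideal.span {(Spec (CommRingCat.of R)).presheaf.germ ⊤ q trivial
              ((Scheme.ΓSpecIso (CommRingCat.of R)).inv t)} := by
          rintro q rfl; exact htmax
        exact this _ hbX)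
    haveI := hQ
    set τ := X.left.presheaf.germ ⊤ x trivial (const X.hom t)
    have hτu : ¬ IsUnit τ := fun hu => (isUnit_germ_const_iff X.hom x t).1 hu (by rw [hbX]; exact hts)
    have hτQ : τ ∈ (CDiv6.primeOf hξx).asIdeal := (CDiv6.mem_primeOf hξx _).2 (by
      show ¬ IsUnit (X.left.presheaf.stalkSpecializes hξx (X.left.presheaf.germ ⊤ x trivial (const X.hom t)))
      erw [TopCat.Presheaf.germ_stalkSpecializes_apply]
      exact fun hu => (isUnit_germ_const_iff X.hom ξ t).1 hu (by rw [hξs]; exact hts))
    have hlt : Ideal.span {τ} < maximalIdeal (X.left.presheaf.stalk x) := by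
      refine lt_of_le_of_ne ((Ideal.span_singleton_le_iff_mem _).2 hτu) fun e => ?_
      have h1 : (CDiv6.primeOf hξx).asIdeal = maximalIdeal _ :=
        le_antisymm (IsLocalRing.le_maximalIdeal (CDiv6.primeOf hξx).2.ne_top)
          (e ▸ (Ideal.span_singleton_le_iff_mem _).2 hτQ)
      have h2 : CDiv6.primeOf hξx = CDiv6.primeOf (specializes_rfl : x ⤳ x) := PrimeSpectrum.ext (by
        rw [h1]
        refine le_antisymm (fun a ha => (CDiv6.mem_primeOf _ a).2 fun hu => ha ?_)
          (IsLocalRing.le_maximalIdeal (CDiv6.primeOf _).2.ne_top)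
        rwa [TopCat.Presheaf.stalkSpecializes_refl] at hu)
      have h3 := congrArg (X.left.fromSpecStalk x) h2
      rw [CDiv6.fromSpecStalk_primeOf, CDiv6.fromSpecStalk_primeOf] at h3
      exact hξc (h3 ▸ hxc)
    obtain ⟨a, ha, ha'⟩ := SetLike.exists_of_lt hlt
    obtain ⟨q, hqmin, hqle⟩ := Ideal.exists_minimalPrimes_le
      (show Ideal.span {a} ≤ maximalIdeal (X.left.presheaf.stalk x) from (Ideal.span_singleton_le_iff_mem _).2 ha)
    haveI := hqmin.1.1
    haveI : IsLocallyNoetherian X.left := inferInstance
    have hqh : q.height ≤ 1 := Ideal.height_le_one_of_isPrincipal_of_mem_minimalPrimes (Ideal.span {a}) q hqmin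
    have hτq : τ ∉ q := fun hmem => by
      rcases eq_or_lt_of_le ((Ideal.span_singleton_le_iff_mem q).2 hmem) with he | hlt'
      · exact ha' (he ▸ hqmin.1.2 (Ideal.mem_span_singleton_self a))
      · have hτ0 : τ ≠ 0 := fun e => by
          have h0 : const X.hom t = 0 := germ_injective_of_isIntegral X.left x (U := ⊤) trivial
            (by rw [map_zero]; exact e)
          have := (isUnit_germ_const_iff X.hom (genericPoint X.left) t).2 (by
            rw [hηX]; exact fun h => ht0 (Ideal.mem_bot.1 h))
          rw [h0, map_zero] at this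
          exact not_isUnit_zero this
        haveI : (⊥ : Ideal (X.left.presheaf.stalk x)).IsPrime := Ideal.isPrime_bot
        have h0 : (⊥ : Ideal (X.left.presheaf.stalk x)) < Ideal.span {τ} :=
          bot_lt_iff_ne_bot.2 fun e => hτ0 (Ideal.span_singleton_eq_bot.1 e)
        have h1 := Ideal.height_strict_mono_of_isPrime hlt'
        have h2 := Ideal.height_strict_mono_of_isPrime h0
        have h3 : (Ideal.span {τ}).height = 0 := Order.lt_one_iff.1 (lt_of_lt_of_le h1 hqh)
        rw [h3] at h2
        exact not_lt_bot h2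
    obtain ⟨z, hzx, hzq⟩ := H23.StalkPrimes.exists_point q
    have hzs : X.hom.base z ≠ s := fun e => hτq (hzq ▸ (CDiv6.mem_primeOf hzx _).2 (by
      show ¬ IsUnit (X.left.presheaf.stalkSpecializes hzx (X.left.presheaf.germ ⊤ x trivial (const X.hom t)))
      erw [TopCat.Presheaf.germ_stalkSpecializes_apply]
      exact fun hu => (isUnit_germ_const_iff X.hom z t).1 hu (by rw [e]; exact hts)))
    have hzg : z ≠ genericPoint X.left := by
      rintro rfl
      have haQ : a ∈ (CDiv6.primeOf hzx).asIdeal := by
        rw [hzq]; exact hqmin.1.2 (Ideal.mem_span_singleton_self a)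
      have e : CDiv6.primeOf hzx = ⟨⊥, Ideal.isPrime_bot⟩ :=
        (X.left.fromSpecStalk x).isEmbedding.injective (by
          rw [CDiv6.fromSpecStalk_primeOf, DimFormula.fromSpecStalk_bot])
      rw [e] at haQ
      have : a = 0 := Ideal.mem_bot.1 haQ
      exact ha' (this ▸ zero_mem _)
    obtain ⟨_, ⟨V, hV, rfl⟩, hyV, -⟩ :=
      Y.left.isBasis_affineOpens.exists_subset_of_mem_open (Set.mem_univ y) isOpen_univ
    have hgx : g.left.base x = y :=
      Set.mem_singleton_iff.1 <| hyc.closure_subset <| closure_mono (Set.singleton_subset_iff.2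
        (show g.left.base ξ ∈ ({y} : Set Y.left) from hξy)) ((hξx.map g.left.continuous).mem_closure)
    have hzV : g.left.base z ∈ V := (hzx.map g.left.continuous).mem_open V.isOpen (hgx ▸ hyV)
    obtain ⟨h, hh0, hhz⟩ := exists_ne_zero_mem hV _ hzV fun e => hzg (hinj _ _ hηX (hgen.trans e.symm)).symm
    let W : X.left.Opens := g.left ⁻¹ᵁ V
    let G : Γ(X.left, W) := g.left.app V h
    have hW : closure {ξ} ⊆ (W : Set X.left) := fun p hp => by
      have : g.left.base p = y := Set.mem_singleton_iff.1 <| hyc.closure_subset <| closure_mono (Set.singleton_subset_iff.2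
        (show g.left.base ξ ∈ ({y} : Set Y.left) from hξy))
        (((specializes_iff_mem_closure.2 hp).map g.left.continuous).mem_closure)
      show g.left.base p ∈ V
      rw [this]; exact hyV
    haveI : Nonempty V := ⟨⟨y, hyV⟩⟩
    have hG : G ≠ 0 := fun e => by
      have hgW : genericPoint X.left ∈ W := (genericPoint_specializes ξ).mem_open W.isOpen (hW (subset_closure rfl))
      refine hh0 (germ_injective_of_isIntegral Y.left (g.left (genericPoint X.left)) hgW ?_)
      haveI := hbir
      apply (ConcreteCategory.bijective_of_isIso (g.left.stalkMap (genericPoint X.left))).1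
      rw [Scheme.Hom.germ_stalkMap_apply, map_zero, map_zero]
      show X.left.presheaf.germ W _ hgW G = 0
      rw [e, map_zero]
    have hu := isUnit_germ_of_smooth_fibre X.hom hreg hξ1 (hξs ▸ hsmax) hξx hzx (hξs ▸ hzs) hW G hG
    rw [← Scheme.mem_basicOpen, ← Scheme.preimage_basicOpen] at hu
    exact hhz hu
  haveI : LocallyQuasiFinite g.left := LocallyQuasiFinite.of_finite_preimage_singleton _ hfin
  haveI : IsFinite g.left := IsFinite.of_isProper_of_locallyQuasiFinite _
  haveI : IsIso g.left := S4808.result hnor g.left hgen hbir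
  haveI : IsIso ((Over.forget _).map g) := ‹IsIso g.left›
  exact isIso_of_reflects_iso g (Over.forget _)

end Groth.Agent.S3258
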