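import Groth.Statements.S3320
import Groth.Agent.ArSurfX.Form
import Groth.Agent.ModX56.SurfBridge
-- import your own Groth.Agent.* helpers here

set_option autoImplicit false
universe u
open CategoryTheory CategoryTheory.Limits AlgebraicGeometry
open Models

namespace Groth.Agent.S3320

/-- In the following situation (R a discrete valuation ring, C a smooth proper curve over its fraction
field with H^0(C, O_C) = K, X a regular proper model, Γ_1, …, Γ_n the irreducible components of the
closed fibre with multiplicities m_i, L_j ⊗ I(Γ_j) ≅ O_X), for every integer vector a one has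
Σ_{i,j} a_i a_j (Γ_i · Γ_j) ≤ 0, with equality if and only if a is a rational multiple of (m_1, …,
m_n). -/
theorem result (R : Type u) [CommRing R] [IsDomain R] [IsDiscreteValuationRing R]
    (C X : Scheme.{u}) (f : C ⟶ Spec (CommRingCat.of (FractionRing R))) (p : X ⟶ Spec (CommRingCat.of R))
    (hC : Curve.IsSmoothProperCurve (FractionRing R) C f) (hH0 : IsIso f.appTop)
    (hX : Models.IsRegularProperModel R X p C f)
    {n : ℕ} (Γ : Fin n → ArSurf.VertComp R (Over.mk p)) (hΓ : Models.IsComponentList R (Over.mk p) Γ)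
    (L : Fin n → X.Modules) (hL : ∀ i, ClSub.IsInverseOf (L i) (ClSub.idealMod (Γ i).ι.ker)) (a : Fin n → ℤ) :
    (∑ q : Fin n × Fin n, a q.1 * a q.2 * ArSurf.inter R (Over.mk p) (L q.2) (Γ q.1)) ≤ 0 ∧
      ((∑ q : Fin n × Fin n, a q.1 * a q.2 * ArSurf.inter R (Over.mk p) (L q.2) (Γ q.1)) = 0 ↔
        ∃ c : ℚ, ∀ i, (a i : ℚ) = c * (Models.mult R (Over.mk p) (Γ i) : ℚ)) := by
  have h := Groth.Agent.ModX56.isSurf_of_model p hC hX
  have e : (∑ q : Fin n × Fin n, a q.1 * a q.2 * ArSurf.inter R (Over.mk p) (L q.2) (Γ q.1)) =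
      ∑ i, ∑ j, ArSurf.inter R (Over.mk p) (L j) (Γ i) * (a i * a j) := by
    rw [Fintype.sum_prod_type]
    exact Finset.sum_congr rfl fun i _ => Finset.sum_congr rfl fun j _ => mul_comm _ _
  rw [e]
  obtain ⟨h1, h2⟩ := h.form_nonpos hΓ hL a
  refine ⟨h1, fun h0 => ?_, ?_⟩
  · classical
    rcases Nat.eq_zero_or_pos n with rfl | hn
    · exact ⟨0, fun i => i.elim0⟩
    let c : ℚ := (a ⟨0, hn⟩ : ℚ) / Models.mult R (Over.mk p) (Γ ⟨0, hn⟩)
    refine ⟨c, fun i => ?_⟩
    let I := Finset.univ.filter fun i : Fin n => (a i : ℚ) / Models.mult R (Over.mk p) (Γ i) = c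
    have hI : I = Finset.univ := by
      by_contra hne
      obtain ⟨i, hi, j, hj, hij⟩ := h.connected_components hΓ hL
        (Groth.Agent.ModX56.isConnected_specialFibreSet hH0 hX) I
        ⟨⟨0, hn⟩, Finset.mem_filter.2 ⟨Finset.mem_univ _, rfl⟩⟩ hne
      exact hj (Finset.mem_filter.2 ⟨Finset.mem_univ _, (h2 h0 i j hij).symm.trans (Finset.mem_filter.1 hi).2⟩)
    have hi : i ∈ I := hI ▸ Finset.mem_univ i
    exact (div_eq_iff (Nat.cast_ne_zero.2 (h.mult_pos (Γ i)).ne')).1 (Finset.mem_filter.1 hi).2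
  · rintro ⟨c, hc⟩
    have key : ((∑ i, ∑ j, ArSurf.inter R (Over.mk p) (L j) (Γ i) * (a i * a j) : ℤ) : ℚ) = 0 := by
      push_cast
      refine Finset.sum_eq_zero fun i _ => ?_
      have hz := congrArg (fun z : ℤ => (z : ℚ)) (h.sum_mult_inter hΓ hL (Γ i))
      push_cast at hz
      calc ∑ j, (ArSurf.inter R (Over.mk p) (L j) (Γ i) : ℚ) * ((a i : ℚ) * a j)
          = (a i : ℚ) * c * ∑ j, (Models.mult R (Over.mk p) (Γ j) : ℚ) * ArSurf.inter R (Over.mk p) (L j) (Γ i) := by
            rw [Finset.mul_sum]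
            exact Finset.sum_congr rfl fun j _ => by rw [hc j]; ring
        _ = 0 := by rw [hz, mul_zero]
    exact_mod_cast key

end Groth.Agent.S3320
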