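import Groth.Statements.S3322
import Groth.Agent.ModX56.Genus
import Groth.Agent.ModX56.Wdeg
-- import your own Groth.Agent.* helpers here

set_option autoImplicit false
universe u
open CategoryTheory CategoryTheory.Limits AlgebraicGeometry
open Models

namespace Groth.Agent.S3322

/-- In the following situation (R a discrete valuation ring with residue field k, C a smooth proper
curve over its fraction field K with H^0(C, O_C) = K, X a regular proper model, Γ_1, …, Γ_n the
irreducible components of the closed fibre with multiplicities m_i, L_i ⊗ I(Γ_i) ≅ O_X) the data n,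
m_i, a_ij = (Γ_i · Γ_j) = deg_k(L_j|Γ_i), w_i = dim_k H^0(Γ_i, O) and g_i with w_i g_i = dim_k
H^1(Γ_i, O) is a numerical type (n > 0, m_i > 0, (a_ij) symmetric with non-negative off-diagonal
entries, connected, killing m, w_i | a_ij, g_i ≥ 0), and its genus is the genus dim_K H^1(C, O_C) of
C. -/
theorem result (R : Type u) [CommRing R] [IsDomain R] [IsDiscreteValuationRing R]
    (C X : Scheme.{u}) (f : C ⟶ Spec (CommRingCat.of (FractionRing R))) (p : X ⟶ Spec (CommRingCat.of R))
    (hC : Curve.IsSmoothProperCurve (FractionRing R) C f) (hH0 : IsIso f.appTop)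
    (hX : Models.IsRegularProperModel R X p C f)
    {n : ℕ} (Γ : Fin n → ArSurf.VertComp R (Over.mk p)) (hΓ : Models.IsComponentList R (Over.mk p) Γ)
    (L : Fin n → X.Modules) (hL : ∀ i, ClSub.IsInverseOf (L i) (ClSub.idealMod (Γ i).ι.ker)) :
    ∃ T : Models.NumericalType n,
      (∀ i, T.m i = (Models.mult R (Over.mk p) (Γ i) : ℤ)) ∧ (∀ i j, T.a i j = ArSurf.inter R (Over.mk p) (L j) (Γ i)) ∧
      (∀ i, T.w i = (Models.wdeg R (Over.mk p) (Γ i) : ℤ)) ∧
      (∀ i, T.w i * T.g i = (Models.h1 R (Over.mk p) (Γ i) : ℤ)) ∧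
      T.genus = (Models.curveGenus (FractionRing R) C f : ℤ) := by
  classical
  have h := Groth.Agent.ModX56.isSurf_of_model p hC hX
  have hconn := Groth.Agent.ModX56.isConnected_specialFibreSet hH0 hX
  obtain ⟨⟨hflat, hlft, hqc, g, hg⟩, hproper, -⟩ := hX
  haveI : IsProper (Over.mk p).hom := hproper
  have hgen := Groth.Agent.ModX56.genus_formula hg h hH0 hΓ hL
  choose gi hgi using fun i => Groth.Agent.ModX56.wdeg_dvd_h1 (Γ i)
  obtain ⟨x, hx⟩ := hconn.nonempty
  obtain ⟨i₀, -⟩ := h.exists_mem_range hΓ hx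
  let T : Models.NumericalType n :=
    { m := fun i => (Models.mult R (Over.mk p) (Γ i) : ℤ)
      a := fun i j => ArSurf.inter R (Over.mk p) (L j) (Γ i)
      w := fun i => (Models.wdeg R (Over.mk p) (Γ i) : ℤ)
      g := fun i => (gi i : ℤ)
      pos := i₀.pos
      m_pos := fun i => by exact_mod_cast h.mult_pos (Γ i)
      w_pos := fun i => by exact_mod_cast Groth.Agent.ModX56.wdeg_pos (Γ i)
      g_nonneg := fun i => Int.natCast_nonneg _
      symm := Matrix.IsSymm.ext fun i j => h.inter_components_symm hΓ hL j i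
      offDiag_nonneg := fun i j hij => h.inter_components_nonneg hΓ hL hij
      connected := fun I hI hI' => h.connected_components hΓ hL hconn I hI hI'
      mulVec_m := funext fun i => by
        show ∑ j, ArSurf.inter R (Over.mk p) (L j) (Γ i) * (Models.mult R (Over.mk p) (Γ j) : ℤ) = 0
        refine Eq.trans ?_ (h.sum_mult_inter hΓ hL (Γ i))
        exact Finset.sum_congr rfl fun j _ => mul_comm (_ : ℤ) _
      w_dvd := fun i j => Groth.Agent.ModX56.wdeg_dvd_inter (Γ i) (L j) }
  have hh1 : ∀ i, T.w i * T.g i = (Models.h1 R (Over.mk p) (Γ i) : ℤ) := fun i => by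
    show (Models.wdeg R (Over.mk p) (Γ i) : ℤ) * (gi i : ℤ) = _
    rw [hgi i]; push_cast; rfl
  refine ⟨T, fun i => rfl, fun i j => rfl, fun i => rfl, hh1, ?_⟩
  have h2 : ∑ i, T.m i * T.a i i = 2 * ((∑ i, T.m i * T.w i * (T.g i - 1)) + 1 - (Models.curveGenus (FractionRing R) C f : ℤ)) := by
    have e : ∑ i, (Models.mult R (Over.mk p) (Γ i) : ℤ) *
        (2 * ((Models.h1 R (Over.mk p) (Γ i) : ℤ) - (Models.wdeg R (Over.mk p) (Γ i) : ℤ)) -
          ArSurf.inter R (Over.mk p) (L i) (Γ i)) =
        2 * (∑ i, T.m i * T.w i * (T.g i - 1)) - ∑ i, T.m i * T.a i i := by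
      rw [Finset.mul_sum, ← Finset.sum_sub_distrib]
      refine Finset.sum_congr rfl fun i _ => ?_
      rw [← hh1 i]
      show T.m i * (2 * (T.w i * T.g i - T.w i) - T.a i i) = _
      ring
    rw [e] at hgen
    linarith
  unfold Models.NumericalType.genus
  rw [h2, Int.mul_ediv_cancel_left _ (two_ne_zero : (2 : ℤ) ≠ 0)]
  ring

end Groth.Agent.S3322
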