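import Groth.Statements.S3323
import Groth.Agent.ModX56.Chain
import Groth.Agent.ModX56.SurfBridge
-- import your own Groth.Agent.* helpers here

set_option autoImplicit false
universe u
open CategoryTheory CategoryTheory.Limits AlgebraicGeometry
open Models

namespace Groth.Agent.S3323

/-- In the following situation (R a discrete valuation ring with residue field k, C a smooth proper
curve over its fraction field K with H^0(C, O_C) = K, X a regular proper model, Γ_1, …, Γ_n the
irreducible components of the closed fibre with multiplicities m_i) let d = gcd(m_1, …, m_n) and let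
D be the effective Cartier divisor Σ (m_i/d) Γ_i. Then there is a chain of effective Cartier
divisors Σ Γ_i = Z_0 ⊂ Z_1 ⊂ ⋯ ⊂ Z_s = D, each obtained from the previous one by adding a single
Γ_i, such that for every j the ring H^0(Z_j, O_{Z_j}) is a field, finite over R (equivalently over
k). Divisors are written through their ideal sheaves Π I(Γ_i)^{a_i}. -/
theorem result (R : Type u) [CommRing R] [IsDomain R] [IsDiscreteValuationRing R]
    (C X : Scheme.{u}) (f : C ⟶ Spec (CommRingCat.of (FractionRing R))) (p : X ⟶ Spec (CommRingCat.of R))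
    (hC : Curve.IsSmoothProperCurve (FractionRing R) C f) (hH0 : IsIso f.appTop)
    (hX : Models.IsRegularProperModel R X p C f)
    {n : ℕ} (Γ : Fin n → ArSurf.VertComp R (Over.mk p)) (hΓ : Models.IsComponentList R (Over.mk p) Γ) :
    ∃ (s : ℕ) (a : Fin (s + 1) → Fin n → ℕ), (a 0 = fun _ => 1) ∧
      (a (Fin.last s) = fun i => Models.mult R (Over.mk p) (Γ i) / Models.multGcd R (Over.mk p) Γ) ∧
      (∀ j : Fin s, ∃ i, a j.succ = a j.castSucc + Pi.single i 1) ∧
      ∀ j, IsField ↑(Γ((∏ i, (Γ i).ι.ker ^ a j i).subscheme, ⊤)) ∧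
        (((∏ i, (Γ i).ι.ker ^ a j i).subschemeι ≫ p).appTop.hom.comp
          (Scheme.ΓSpecIso (CommRingCat.of R)).inv.hom).Finite := by
  have hS := ModX56.isSurf_of_model p hC hX
  haveI : IsProper (Over.mk p).hom := hS.isProper
  choose L _ hL using fun i => ArSurfX.exists_isInverseOf
    (ArSurfX.isInvertible_idealMod (hS.isEffCartier_ker (Γ i)))
  have hconn := ModX56.isConnected_specialFibreSet hH0 hX
  obtain ⟨c, h0, hl, hstep, hc⟩ := ModX56.Surf.exists_chain hS hΓ hL hconn ModX56.Surf.FieldH0
    (fun D Δ => ModX56.Surf.fieldH0_mul hS D Δ) _ (fun _ => 1) (fun _ => le_rfl)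
    (fun j => Nat.one_le_div_iff (Nat.pos_of_dvd_of_pos (Finset.gcd_dvd (Finset.mem_univ j)) (hS.mult_pos (Γ j))) |>.2
      (Nat.le_of_dvd (hS.mult_pos (Γ j)) (Finset.gcd_dvd (Finset.mem_univ j))))
    rfl (ModX56.Surf.fieldH0_redFibre hS hΓ hconn)
  exact ⟨_, c, h0, hl, fun j => (hstep j).imp fun i hi => hi.1, hc⟩

end Groth.Agent.S3323
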