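import Groth.Statements.S3324
import Groth.Agent.ModX56.Chain
import Groth.Agent.ModX56.Genus
import Groth.Agent.ModX56.SurfBridge
-- import your own Groth.Agent.* helpers here

set_option autoImplicit false
universe u
open CategoryTheory CategoryTheory.Limits AlgebraicGeometry
open Models

namespace Groth.Agent.S3324

/-- In the following situation (R a discrete valuation ring with residue field k, C a smooth proper
curve over its fraction field K with H^0(C, O_C) = K, X a regular proper model, Γ_1, …, Γ_n the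
irreducible components of the closed fibre with multiplicities m_i) let d = gcd(m_1, …, m_n) and let
D be the closed subscheme Σ (m_i/d) Γ_i, with ideal sheaf Π I(Γ_i)^{m_i/d}. Then κ = H^0(D, O_D) is
a field and 1 - g_C = d [κ : k] (1 - g_D), where g_C = dim_K H^1(C, O_C) and g_D = dim_κ H^1(D,
O_D). Here the right hand side is written as d (dim_k H^0(D, O_D) - dim_k H^1(D, O_D)), the
k-dimensions being computed as R-lengths of the cohomology groups of O_D on X. -/
theorem result (R : Type u) [CommRing R] [IsDomain R] [IsDiscreteValuationRing R]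
    (C X : Scheme.{u}) (f : C ⟶ Spec (CommRingCat.of (FractionRing R))) (p : X ⟶ Spec (CommRingCat.of R))
    (hC : Curve.IsSmoothProperCurve (FractionRing R) C f) (hH0 : IsIso f.appTop)
    (hX : Models.IsRegularProperModel R X p C f)
    {n : ℕ} (Γ : Fin n → ArSurf.VertComp R (Over.mk p)) (hΓ : Models.IsComponentList R (Over.mk p) Γ) :
    IsField ↑(Γ((∏ i, (Γ i).ι.ker ^ (Models.mult R (Over.mk p) (Γ i) / Models.multGcd R (Over.mk p) Γ)).subscheme, ⊤)) ∧
      (1 : ℤ) - (Models.curveGenus (FractionRing R) C f : ℤ) =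
        (Models.multGcd R (Over.mk p) Γ : ℤ) * ((Models.lengthH R (Over.mk p) (ClSub.quotMod (∏ i, (Γ i).ι.ker ^ (Models.mult R (Over.mk p) (Γ i) / Models.multGcd R (Over.mk p) Γ))) 0 : ℤ) -
          (Models.lengthH R (Over.mk p) (ClSub.quotMod (∏ i, (Γ i).ι.ker ^ (Models.mult R (Over.mk p) (Γ i) / Models.multGcd R (Over.mk p) Γ))) 1 : ℤ)) := by
  classical
  have hS := ModX56.isSurf_of_model p hC hX
  haveI : IsProper (Over.mk p).hom := hS.isProper
  choose L _ hL using fun i => ArSurfX.exists_isInverseOf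
    (ArSurfX.isInvertible_idealMod (hS.isEffCartier_ker (Γ i)))
  have hconn := ModX56.isConnected_specialFibreSet hH0 hX
  let m : Fin n → ℕ := fun j => Models.mult R (Over.mk p) (Γ j)
  set d := Models.multGcd R (Over.mk p) Γ
  have hdm : ∀ j, d ∣ m j := fun j => Finset.gcd_dvd (Finset.mem_univ j)
  have h1d : ∀ j, 1 ≤ m j / d := fun j => (Nat.one_le_div_iff (Nat.pos_of_dvd_of_pos (hdm j) (hS.mult_pos (Γ j)))).2
      (Nat.le_of_dvd (hS.mult_pos (Γ j)) (hdm j))
  obtain ⟨⟨hflat, hlft, hqc, g, hg⟩, -, -⟩ := hX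
  refine ⟨?_, ?_⟩
  · obtain ⟨c, -, hl, -, hc⟩ := ModX56.Surf.exists_chain hS hΓ hL hconn ModX56.Surf.FieldH0
      (fun D Δ => ModX56.Surf.fieldH0_mul hS D Δ) _ (fun _ => 1) (fun _ => le_rfl) h1d
      rfl (ModX56.Surf.fieldH0_redFibre hS hΓ hconn)
    have h := (hc (Fin.last _)).1
    rw [hl] at h
    exact h
  · have hA : ∀ a : Fin n → ℕ, (∀ j, a j = m j ∨ a j = m j / d) →
        (∀ i, ∑ j, ArSurf.inter R (Over.mk p) (L j) (Γ i) * (a j : ℤ) = 0) →
        2 * ModX56.chiR (X := Over.mk p) (ClSub.quotMod (∏ j, (Γ j).ι.ker ^ a j)) =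
          ∑ j, (a j : ℤ) * (2 * ((Models.wdeg R (Over.mk p) (Γ j) : ℤ) - Models.h1 R (Over.mk p) (Γ j)) +
            ArSurf.inter R (Over.mk p) (L j) (Γ j)) := by
      intro a ha hz
      rw [ModX56.Surf.two_chiR_prod hS hΓ hL a fun j => (ha j).elim Eq.le fun h => h.trans_le (Nat.div_le_self _ _),
        sub_eq_self]
      refine Finset.sum_eq_zero fun i _ => ?_
      calc _ = (a i : ℤ) * ∑ j, ArSurf.inter R (Over.mk p) (L j) (Γ i) * (a j : ℤ) := by
            rw [Finset.mul_sum]; exact Finset.sum_congr rfl fun j _ => by ring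
        _ = 0 := by rw [hz i, mul_zero]
    have hz : ∀ i, ∑ j, ArSurf.inter R (Over.mk p) (L j) (Γ i) * (m j : ℤ) = 0 := fun i =>
      (Finset.sum_congr rfl fun j _ => mul_comm _ _).trans (hS.sum_mult_inter hΓ hL (Γ i))
    have hcast : ∀ j, (m j : ℤ) = (d : ℤ) * ((m j / d : ℕ) : ℤ) := fun j => by
      rw [← Nat.cast_mul, Nat.mul_div_cancel' (hdm j)]
    have hz' : ∀ i, ∑ j, ArSurf.inter R (Over.mk p) (L j) (Γ i) * ((m j / d : ℕ) : ℤ) = 0 := fun i => by
      have hd0 : (d : ℤ) ≠ 0 := fun h0 => by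
        have := hcast i
        rw [h0, zero_mul] at this
        exact (hS.mult_pos (Γ i)).ne' (by exact_mod_cast this)
      refine mul_left_cancel₀ hd0 ?_
      rw [mul_zero, ← hz i, Finset.mul_sum]
      exact Finset.sum_congr rfl fun j _ => by rw [hcast j]; ring
    have e1 := hA (fun j => m j) (fun j => Or.inl rfl) hz
    have e2 := hA (fun j => m j / d) (fun j => Or.inr rfl) hz'
    rw [← hS.specialFibreIdeal_eq_prod hΓ, ModX56.chiR_specialFibre hg hS hH0,
      Finset.sum_congr rfl fun j _ => by rw [hcast j, mul_assoc], ← Finset.mul_sum, ← e2] at e1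
    show _ = (d : ℤ) * ModX56.chiR (X := Over.mk p) (ClSub.quotMod _)
    linarith

end Groth.Agent.S3324
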