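import Groth.Statements.S3345
import Groth.Agent.ModX56.Chain
import Groth.Agent.ModX56.Wdeg
import Groth.Agent.ModX56.SurfBridge
import Groth.Agent.S3326
-- import your own Groth.Agent.* helpers here

set_option autoImplicit false
universe u
open CategoryTheory CategoryTheory.Limits AlgebraicGeometry
open Models

namespace Groth.Agent.S3345

/-- In the following situation (R a discrete valuation ring with residue field k, C a smooth proper
curve over its fraction field K with H^0(C, O_C) = K, X a regular proper model, Γ_1, …, Γ_n the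
irreducible components of the closed fibre with multiplicities m_i) assume X is a minimal model,
gcd(m_1, …, m_n) = 1 and H^0((X_k)_red, O) = k. Then dim_k H^1((X_k)_red, O) ≤ dim_k H^1(X_k, O),
and the inequality is strict when X_k is not reduced (k-dimensions computed as R-lengths of the
cohomology on X of the structure sheaves of the two closed subschemes). The published statement is
the stronger one that H^1(X_k, O_{X_k}) → H^1((X_k)_red, O) is surjective, with non-zero kernel when
X_k is not reduced; this is its form in terms of dimensions. -/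
theorem result (R : Type u) [CommRing R] [IsDomain R] [IsDiscreteValuationRing R]
    (C X : Scheme.{u}) (f : C ⟶ Spec (CommRingCat.of (FractionRing R))) (p : X ⟶ Spec (CommRingCat.of R))
    (hC : Curve.IsSmoothProperCurve (FractionRing R) C f) (hH0 : IsIso f.appTop)
    (hX : Models.IsRegularProperModel R X p C f)
    {n : ℕ} (Γ : Fin n → ArSurf.VertComp R (Over.mk p)) (hΓ : Models.IsComponentList R (Over.mk p) Γ)
    (hmin : Models.IsMinimalModel R X p C f) (hgcd : Models.multGcd R (Over.mk p) Γ = 1)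
    (hH0k : Models.lengthH R (Over.mk p) (ClSub.quotMod (Models.redFibreIdeal R (Over.mk p))) 0 = 1) :
    Models.lengthH R (Over.mk p) (ClSub.quotMod (Models.redFibreIdeal R (Over.mk p))) 1 ≤
        Models.lengthH R (Over.mk p) (ClSub.quotMod (Models.specialFibreIdeal R (Over.mk p))) 1 ∧
      (Models.specialFibreIdeal R (Over.mk p) ≠ Models.redFibreIdeal R (Over.mk p) →
        Models.lengthH R (Over.mk p) (ClSub.quotMod (Models.redFibreIdeal R (Over.mk p))) 1 <
          Models.lengthH R (Over.mk p) (ClSub.quotMod (Models.specialFibreIdeal R (Over.mk p))) 1) := by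
  classical
  have hS := ModX56.isSurf_of_model p hC hX
  haveI : IsProper (Over.mk p).hom := hS.isProper
  choose L _ hL using fun i => ArSurfX.exists_isInverseOf
    (ArSurfX.isInvertible_idealMod (hS.isEffCartier_ker (Γ i)))
  have hconn := ModX56.isConnected_specialFibreSet hH0 hX
  let m : Fin n → ℕ := fun j => Models.mult R (Over.mk p) (Γ j)
  set d := Models.multGcd R (Over.mk p) Γ
  have hdm : ∀ j, d ∣ m j := fun j => Finset.gcd_dvd (Finset.mem_univ j)
  have h1d : ∀ j, 1 ≤ m j / d := fun j => (Nat.one_le_div_iff (Nat.pos_of_dvd_of_pos (hdm j) (hS.mult_pos (Γ j)))).2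
      (Nat.le_of_dvd (hS.mult_pos (Γ j)) (hdm j))
  obtain ⟨⟨hflat, hlft, hqc, g, hg⟩, -, -⟩ := hX
  set D0 := Models.redFibreIdeal R (Over.mk p) with hD0
  have hred : ∏ i, (Γ i).ι.ker ^ (1 : ℕ) = D0 := by
    rw [hD0]
    rw [ModX56.Surf.redFibreIdeal_eq_prod hS hΓ]; simp
  let len0 : (Over.mk p).left.IdealSheafData → ℕ := fun D => Models.lengthH R (Over.mk p) (ClSub.quotMod D) 0
  let P : (Over.mk p).left.IdealSheafData → Prop := fun D => Models.specialFibreIdeal R (Over.mk p) ≤ D ∧
    ModX56.Surf.FieldH0 (X := Over.mk p) D ∧ len0 D ≤ 1 ∧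
    ModX56.chiR (X := Over.mk p) (ClSub.quotMod D) ≤ ModX56.chiR (X := Over.mk p) (ClSub.quotMod D0)
  have hP : ∀ (D : (Over.mk p).left.IdealSheafData) (Δ : ArSurf.VertComp R (Over.mk p)), BlowUp.IsEffCartierIdeal D →
      Models.specialFibreIdeal R (Over.mk p) ≤ D * Δ.ι.ker →
      ArSurf.inter R (Over.mk p) (ClSub.idealMod D) Δ < 0 → P D → P (D * Δ.ι.ker) := by
    rintro D Δ hD hle hneg ⟨hleD, hF, hl, hchi⟩
    refine ⟨hle, ModX56.Surf.fieldH0_mul hS D Δ hD hle hneg hF, ?_, ?_⟩
    · letI : X.Over (Spec (CommRingCat.of R)) := ⟨p⟩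
      obtain ⟨q, -, hq, -⟩ := ModX56.Surf.exists_injective_step hS D Δ hD hneg
      have h1 := Module.length_le_of_injective _ hq
      exact le_trans (ENat.toNat_le_toNat h1 ((ModX56.Surf.smallCoh_quotMod hS hleD).fin 0)) hl
    · obtain ⟨z, hz⟩ := ModX56.wdeg_dvd_inter Δ (ClSub.idealMod D)
      have hw := ModX56.wdeg_pos Δ
      have : z ≤ -1 := by
        by_contra hz0
        push Not at hz0
        have : 0 ≤ (Models.wdeg R (Over.mk p) Δ : ℤ) * z := mul_nonneg (Int.natCast_nonneg _) (by omega)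
        omega
      have hstep := ModX56.Surf.chiR_mul_ker hS D Δ hD hle
      have h2 : (Models.wdeg R (Over.mk p) Δ : ℤ) * z ≤ -(Models.wdeg R (Over.mk p) Δ : ℤ) := by nlinarith
      linarith [Int.natCast_nonneg (Models.h1 R (Over.mk p) Δ)]
  have hle0 : Models.specialFibreIdeal R (Over.mk p) ≤ D0 := hred ▸
    ModX56.Surf.prod_le_specialFibre hS hΓ _ fun j => hS.mult_pos (Γ j)
  have hP0 : P (∏ i, (Γ i).ι.ker ^ (1 : ℕ)) :=
    ⟨hred ▸ hle0, ModX56.Surf.fieldH0_redFibre hS hΓ hconn, hred ▸ hH0k.le, hred ▸ le_rfl⟩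
  obtain ⟨c, hc0, hcl, hstep, hc⟩ :=
    ModX56.Surf.exists_chain hS hΓ hL hconn P hP _ (fun _ => 1) (fun _ => le_rfl) h1d rfl hP0
  have hm : (fun i => m i / d) = m := funext fun i => by rw [show d = 1 from hgcd, Nat.div_one]
  have hfib : ∀ j, c j = m → ∏ i, (Γ i).ι.ker ^ c j i = Models.specialFibreIdeal R (Over.mk p) := fun j hj => by
    rw [hj, hS.specialFibreIdeal_eq_prod hΓ]
  obtain ⟨hleF, hFF, hlF, hchiF⟩ := hc (Fin.last _)
  rw [hfib _ (hcl.trans hm)] at hleF hFF hlF hchiF
  have hsmall := ModX56.Surf.smallCoh_quotMod hS hleF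
  have hlF1 : len0 (Models.specialFibreIdeal R (Over.mk p)) = 1 := by
    refine le_antisymm hlF (Nat.one_le_iff_ne_zero.2 fun h0 => ?_)
    rcases ENat.toNat_eq_zero.1 h0 with h | h
    · haveI := Module.length_eq_zero_iff.1 h
      haveI : Subsingleton Γ((Models.specialFibreIdeal R (Over.mk p)).subscheme, ⊤) :=
        (Sheaf.H.equiv₀ (Coh.toAb (ClSub.quotMod (Models.specialFibreIdeal R (Over.mk p)))) isTerminalTop).symm.toEquiv.subsingleton
      obtain ⟨a, b, hab⟩ := hFF.1.exists_pair_ne
      exact hab (Subsingleton.elim a b)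
    · exact hsmall.fin 0 h
  refine ⟨?_, fun hne => ?_⟩
  · simp only [ModX56.chiR] at hchiF
    simp only [len0] at hlF1
    omega
  · obtain ⟨N, hN⟩ : ∃ N, ∑ j, (m j / d - 1) = N + 1 := Nat.exists_eq_succ_of_ne_zero fun h0 => hne (by
      rw [hS.specialFibreIdeal_eq_prod hΓ, ← hred]
      refine Finset.prod_congr rfl fun i _ => congrArg _ ?_
      have := Finset.sum_eq_zero_iff.1 h0 i (Finset.mem_univ i)
      have := h1d i
      have : m i / d = m i := congrFun hm i
      simp only [m] at *
      omega)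
    obtain ⟨c, hc0, hcl, hstep, hc⟩ :=
      ModX56.Surf.exists_chain hS hΓ hL hconn P hP (N + 1) (fun _ => 1) (fun _ => le_rfl) h1d hN hP0
    obtain ⟨i, hi, hneg⟩ := hstep (Fin.last N)
    obtain ⟨-, -, -, hchiZ⟩ := hc (Fin.last N).castSucc
    set a := c (Fin.last N).castSucc
    rw [Fin.succ_last, hcl, hm] at hi
    have hai : ∀ j, (a j : ℤ) = (m j : ℤ) - if j = i then 1 else 0 := fun j => by
      rw [hi, Pi.add_apply, Pi.single_apply]
      split_ifs <;> simp
    have hD := ArSurfX.isEffCartier_prod Finset.univ (fun j => (Γ j).ι.ker ^ a j)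
      fun j _ => ArSurfX.isEffCartier_pow (hS.isEffCartier_ker (Γ j)) _
    have hprod : (∏ j, (Γ j).ι.ker ^ a j) * (Γ i).ι.ker = Models.specialFibreIdeal R (Over.mk p) := by
      rw [hS.specialFibreIdeal_eq_prod hΓ]
      simp only [show ∀ j, Models.mult R (Over.mk p) (Γ j) = a j + if j = i then 1 else 0 from fun j => by
        have h1 := congrFun hi j
        simpa [Pi.single_apply] using h1, pow_add, Finset.prod_mul_distrib]
      congr 1
      rw [Finset.prod_eq_single_of_mem i (Finset.mem_univ i) fun j _ hj => by rw [if_neg hj, pow_zero]]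
      simp
    have hval : ArSurf.inter R (Over.mk p) (ClSub.idealMod (∏ j, (Γ j).ι.ker ^ a j)) (Γ i) =
        ArSurf.inter R (Over.mk p) (L i) (Γ i) := by
      obtain ⟨M, hM, hMi, hMv⟩ := ArSurfX.exists_inverse_prod (Γ i) Finset.univ (fun j => (Γ j).ι.ker)
        (fun j => hS.isEffCartier_ker (Γ j)) L hL a
      rw [ArSurfX.inter_inverse (Γ i) (ArSurfX.isInvertible_idealMod hD) hMi] at hMv
      have h1 := hS.sum_mult_inter hΓ hL (Γ i)
      have h2 : ∑ j, (a j : ℤ) * ArSurf.inter R (Over.mk p) (L j) (Γ i) =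
          ∑ j, (m j : ℤ) * ArSurf.inter R (Over.mk p) (L j) (Γ i) - ArSurf.inter R (Over.mk p) (L i) (Γ i) := by
        simp only [hai, sub_mul, ite_mul, one_mul, zero_mul, Finset.sum_sub_distrib, Finset.sum_ite_eq',
          Finset.mem_univ, if_true]
      linarith
    have hX' : Models.IsRegularProperModel R X p C f := ⟨⟨hflat, hlft, hqc, g, hg⟩, hS.isProper, hS.regular⟩
    have hnotexc := hmin.2 (Γ i)
    rw [S3326.result R C X f p hC hH0 hX' Γ hΓ L hL i] at hnotexc
    obtain ⟨z, hz⟩ := ModX56.wdeg_dvd_inter (Γ i) (L i)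
    have hw := ModX56.wdeg_pos (Γ i)
    have hs := ModX56.Surf.chiR_mul_ker hS _ (Γ i) hD (hprod.symm ▸ le_rfl)
    rw [hprod, hval] at hs
    rw [hval, hz] at hneg
    rw [hz] at hs hnotexc
    have hz1 : z ≤ -1 := by
      by_contra hz0
      push Not at hz0
      have : 0 ≤ (Models.wdeg R (Over.mk p) (Γ i) : ℤ) * z := mul_nonneg (Int.natCast_nonneg _) (by omega)
      omega
    have hlt : (Models.wdeg R (Over.mk p) (Γ i) : ℤ) * z +
        ((Models.wdeg R (Over.mk p) (Γ i) : ℤ) - Models.h1 R (Over.mk p) (Γ i)) < 0 := by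
      rcases eq_or_lt_of_le hz1 with rfl | hz2
      · rcases Nat.eq_zero_or_pos (Models.h1 R (Over.mk p) (Γ i)) with h | h
        · exact absurd ⟨h, by ring⟩ hnotexc
        · omega
      · have : (Models.wdeg R (Over.mk p) (Γ i) : ℤ) * z ≤ (Models.wdeg R (Over.mk p) (Γ i) : ℤ) * (-2) :=
          mul_le_mul_of_nonneg_left (by omega) (Int.natCast_nonneg _)
        omega
    simp only [ModX56.chiR] at hs hchiZ
    simp only [len0] at hlF1
    omega

end Groth.Agent.S3345
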