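import Groth.Statements.S3348
import Groth.Agent.ModX56.Torsion
import Groth.Agent.ModX56.Model
-- import your own Groth.Agent.* helpers here

set_option autoImplicit false
universe u
open CategoryTheory CategoryTheory.Limits AlgebraicGeometry
open Models

namespace Groth.Agent.S3348

/-- In the following situation (R a discrete valuation ring with residue field k, C a smooth proper
curve over its fraction field K with H^0(C, O_C) = K, X a regular proper model with generic-fibre
inclusion g, Γ_1, …, Γ_n the irreducible components of the closed fibre, L_j ⊗ I(Γ_j) ≅ O_X, a_ij =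
deg_k(L_j|Γ_i), w_i = dim_k H^0(Γ_i, O)) let N be an invertible O_C-module and M an invertible
O_X-module restricting to N. Then the degree vector (deg_k(M|Γ_i))_i is of the form (Σ_j a_ij v_j)_i
for an integer vector v (the class (deg_k(M|Γ_i)/w_i)_i vanishes in the Picard group of the
numerical type, which does not depend on the choice of M) if and only if N is the restriction of an
invertible O_X-module M' with deg_k(M'|Γ_i) = 0 for all i. -/
theorem result (R : Type u) [CommRing R] [IsDomain R] [IsDiscreteValuationRing R]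
    (C X : Scheme.{u}) (f : C ⟶ Spec (CommRingCat.of (FractionRing R))) (p : X ⟶ Spec (CommRingCat.of R))
    (hC : Curve.IsSmoothProperCurve (FractionRing R) C f) (hH0 : IsIso f.appTop)
    (hX : Models.IsRegularProperModel R X p C f)
    {n : ℕ} (Γ : Fin n → ArSurf.VertComp R (Over.mk p)) (hΓ : Models.IsComponentList R (Over.mk p) Γ)
    (g : C ⟶ X) (hg : IsPullback g f p (Spec.map (CommRingCat.ofHom (algebraMap R (FractionRing R))))) (L : Fin n → X.Modules) (hL : ∀ i, ClSub.IsInverseOf (L i) (ClSub.idealMod (Γ i).ι.ker))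
    (N : C.Modules) (hN : PicF.IsInvertible N)
    (M : X.Modules) (hM : PicF.IsInvertible M) (hMN : Nonempty ((Scheme.Modules.pullback g).obj M ≅ N)) :
    (∃ v : Fin n → ℤ, ∀ i, ArSurf.inter R (Over.mk p) M (Γ i) = ∑ j, ArSurf.inter R (Over.mk p) (L j) (Γ i) * v j) ↔
      ∃ M' : X.Modules, PicF.IsInvertible M' ∧ Nonempty ((Scheme.Modules.pullback g).obj M' ≅ N) ∧
        ∀ i, ArSurf.inter R (Over.mk p) M' (Γ i) = 0 := by
  have hS := ModX56.isSurf_of_model p hC hX
  haveI : IsProper p := hS.isProper
  haveI : Flat p := hS.flat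
  haveI : IsProper (Over.mk p).hom := hS.isProper
  haveI := hC.2.2.1
  have hbij : Function.Bijective p.appTop := ModX56.bijective_appTop p hg hH0
  constructor
  · rintro ⟨v, hv⟩
    exact ModX56.exists_deg_zero hg hS hL hM hMN v hv
  · rintro ⟨M', hM', hM'N, hdeg⟩
    obtain ⟨Mi, hMi, hMie⟩ := ArSurfX.exists_isInverseOf hM'
    have hT := H23.PicMul.isInvertible_tensor hMi hM
    obtain ⟨b, ⟨eb⟩⟩ := ModX56.exists_twist_of_trivial hg hS hΓ hL hT (H23.PicMul.cl_eq_iff.1 (by
      show PicF.pullCl g (PicF.cl _) = _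
      have h' := congrArg (PicF.pullCl g) (H23.PicMul.cl_eq_iff.2 hMie)
      rw [H23.PicMul.cl_tensor, H23.PicMul.pullCl_mul,
        show PicF.pullCl g (PicF.cl M') = PicF.cl N from H23.PicMul.cl_eq_iff.2 hM'N,
        ← H23.PicMul.one_def, H23.PicMul.pullCl_one] at h'
      rw [H23.PicMul.cl_tensor, H23.PicMul.pullCl_mul,
        show PicF.pullCl g (PicF.cl M) = PicF.cl N from H23.PicMul.cl_eq_iff.2 hMN, h', H23.PicMul.one_def]))
    refine ⟨fun j => (b j : ℤ), fun i => ?_⟩
    have h1 := ArSurfX.inter_congr (Γ i) hT eb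
    rw [ArSurfX.inter_tensor (Γ i) hMi hM, ArSurfX.inter_inverse (Γ i) hM' hMie, hdeg i, neg_zero, zero_add,
      (ModX56.isInvertible_multiTwist hS hL b).2] at h1
    rw [h1]
    exact Finset.sum_congr rfl fun j _ => mul_comm _ _

end Groth.Agent.S3348
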