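import Groth.Statements.S3418
import Groth.Agent.Ega43Prop.QFCount

set_option autoImplicit false
set_option linter.style.haveILetI false
set_option backward.isDefEq.respectTransparency false
set_option backward.isDefEq.respectTransparency.types false
open CategoryTheory AlgebraicGeometry
universe u
open EGA43

namespace Groth.Agent.S3418

/-- Let f : X ⟶ Y be flat, locally of finite presentation, separated and quasi-finite, and let n(y) be
the geometric number of points of the fibre over y. Then n is lower semicontinuous on Y, and if n is
constant on a neighbourhood of a point y₀ then f is proper over some open neighbourhood of y₀. -/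
theorem result {X Y : Scheme.{u}} (f : X ⟶ Y) [Flat f]
    [LocallyOfFinitePresentation f] [IsSeparated f] [LocallyQuasiFinite f] [QuasiCompact f] :
    LowerSemicontinuous (fun z : Y => MoreMor.nGeomConnComp f z) ∧
      ∀ y₀ : Y, (∃ V ∈ nhds y₀, ∀ z ∈ V, MoreMor.nGeomConnComp f z = MoreMor.nGeomConnComp f y₀) →
        ∃ U : Y.Opens, y₀ ∈ U ∧ IsProper (f ∣_ U) := by
  have h : ∀ (y : Y) (x : X), f.base x = y → EGA43.IsUnivOpenAt f x := fun y x _ =>
    (UnivOpen.universallyOpen_iff_forall f).1 inferInstance x
  refine ⟨fun y c hc => ?_, fun y₀ ⟨V, hV, hVc⟩ => Ega43Prop.exists_isProper_of_const f y₀ (h y₀) (Filter.mem_of_superset hV hVc)⟩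
  exact (Ega43Prop.eventually_le_nGeom f y (h y)).mono fun z hz => hc.trans_le hz
end Groth.Agent.S3418
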