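import Groth.Statements.S3429
import Groth.Agent.Ega43Prop.SuppOpen
import Groth.Agent.Ega43Prop.OpenMapFT
import Groth.Agent.MorLib.FlatBC
import Groth.Agent.FittX.Sheaf
import Groth.Agent.QCoh.AnnIdeal

set_option autoImplicit false
set_option linter.style.haveILetI false
set_option backward.isDefEq.respectTransparency false
set_option backward.isDefEq.respectTransparency.types false
open CategoryTheory AlgebraicGeometry
universe u
open EGA42

namespace Groth.Agent.S3429

/-- A morphism of schemes which is quasi-flat (some quasi-coherent module of finite type on the source,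
flat over the base, has support the whole source) and locally of finite presentation is universally
open. -/
theorem result {X Y : Scheme.{u}} (f : X ⟶ Y)
    (hf : FDesc.IsQuasiFlat f) [LocallyOfFinitePresentation f] : UniversallyOpen f := by
  refine ⟨fun X' Y' p g q h => ?_⟩
  obtain ⟨M, hM, hflat, hne⟩ := hf
  haveI : LocallyOfFinitePresentation q := MorphismProperty.of_isPullback h.flip inferInstance
  have hft : CohB1.IsFT M := hM.2
  refine Groth.Agent.Ega43Prop.isOpenMap_of_flat_support q ((Scheme.Modules.pullback p).obj M)
    (QCoh.isQCoh_pullback _ hM.1) (FittX.isFT_pullback p hM.1 hft) (fun x' => ?_) (fun x' => ?_)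
  · exact MorLib.FlatBC.isFlatOverAt_baseChange f q p g h.flip M x' (hflat (p x'))
  · show x' ∈ CohB1.support ((Scheme.Modules.pullback p).obj M)
    rw [QCoh.support_pullback p hM.1 hft]
    exact not_subsingleton_iff_nontrivial.2 (hne (p x'))
end Groth.Agent.S3429
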