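import Groth.Statements.S3434
import Groth.Agent.Ega43Prop.Generic

set_option autoImplicit false
open CategoryTheory AlgebraicGeometry
universe u
set_option linter.style.haveILetI false
set_option backward.isDefEq.respectTransparency false
set_option backward.isDefEq.respectTransparency.types false
open EGA43

namespace Groth.Agent.S3434

/-- Let Y be an integral locally Noetherian scheme, X an integral scheme, f : X ⟶ Y separated, dominant
and of finite type, and y a point of Y; write K for the function field of X (the local ring at its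
generic point ξ), into which O_{Y,y} maps through O_{Y,f ξ}. Then f is proper over some open
neighbourhood of y if and only if every discrete valuation ring of K which dominates (the image of)
O_{Y,y} dominates (the image of) O_{X,x} for some point x of X; such an x lies over y. -/
theorem result {X Y : Scheme.{u}} [IsIntegral X] [IsIntegral Y] [IsLocallyNoetherian Y]
    (f : X ⟶ Y) [IsSeparated f] [IsDominant f] [LocallyOfFiniteType f] [QuasiCompact f] (y : Y)
    (hξ : f.base (genericPoint X) ⤳ y) :
    (∃ U : Y.Opens, y ∈ U ∧ IsProper (f ∣_ U)) ↔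
      ∀ A : ValuationSubring X.functionField, IsDiscreteValuationRing A →
        (∀ r : Y.presheaf.stalk y, A.valuation ((Y.presheaf.stalkSpecializes hξ ≫ f.stalkMap (genericPoint X)) r) ≤ 1) →
        (∀ r ∈ IsLocalRing.maximalIdeal (Y.presheaf.stalk y),
            A.valuation ((Y.presheaf.stalkSpecializes hξ ≫ f.stalkMap (genericPoint X)) r) < 1) →
        ∃ x : X, f.base x = y ∧
          (∀ r : X.presheaf.stalk x, A.valuation (X.presheaf.stalkSpecializes (genericPoint_specializes x) r) ≤ 1) ∧
          (∀ r ∈ IsLocalRing.maximalIdeal (X.presheaf.stalk x),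
            A.valuation (X.presheaf.stalkSpecializes (genericPoint_specializes x) r) < 1) := by
  let ξ := genericPoint X
  let τ := Groth.Agent.Proj16.specMapResidue (p := f) (x := ξ) hξ
  have hres : Function.Bijective (X.residue ξ).hom :=
    ⟨RingHom.injective (R := X.functionField) _, X.residue_surjective ξ⟩
  let θ : X.functionField ≃+* X.residueField ξ := RingEquiv.ofBijective (X.residue ξ).hom hres
  have hτ : ∀ r, τ.hom r =
      θ ((Y.presheaf.stalkSpecializes hξ ≫ f.stalkMap (genericPoint X)) r) := fun r => rfl
  have hsp : ∀ (x : X) (r : X.presheaf.stalk x),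
      (Groth.Agent.Proj16.specMapResidue (p := 𝟙 X) (x := ξ) (genericPoint_specializes x)).hom r =
        θ (X.presheaf.stalkSpecializes (genericPoint_specializes x) r) := by
    intro x r
    show (X.presheaf.stalkSpecializes _ ≫ (𝟙 X : X ⟶ X).stalkMap ξ ≫ X.residue ξ).hom r = _
    rw [Scheme.Hom.stalkMap_id]
    rfl
  -- transfer of valuation subrings
  have htr : ∀ (V : ValuationSubring (X.residueField ξ)) (a : X.functionField),
      ((V.comap (θ : X.functionField →+* X.residueField ξ)).valuation a ≤ 1 ↔ θ a ∈ V) ∧
      ((V.comap (θ : X.functionField →+* X.residueField ξ)).valuation a < 1 ↔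
        θ a ∈ V.nonunits) := by
    intro V a
    refine ⟨ValuationSubring.valuation_le_one_iff _ _, ?_⟩
    rw [← ValuationSubring.mem_nonunits_iff, ValuationSubring.mem_nonunits_iff_or,
      ValuationSubring.mem_nonunits_iff_or, ValuationSubring.mem_comap]
    simp only [RingHom.coe_coe, map_inv₀, EmbeddingLike.map_eq_zero_iff]
  have hdvr : ∀ V : ValuationSubring (X.residueField ξ),
      IsDiscreteValuationRing (V.comap (θ : X.functionField →+* X.residueField ξ)) ↔
        IsDiscreteValuationRing V := by
    intro V
    let A := V.comap (θ : X.functionField →+* X.residueField ξ)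
    let q : A →+* V := ((θ : X.functionField →+* X.residueField ξ).comp A.subtype).codRestrict
      V.toSubring fun a => a.2
    have hq : Function.Bijective q := ⟨fun a b e => Subtype.ext (θ.injective
      (congrArg Subtype.val e)), fun v => ⟨⟨θ.symm v.1, by
        show θ (θ.symm v.1) ∈ V
        rw [θ.apply_symm_apply]; exact v.2⟩, Subtype.ext (θ.apply_symm_apply _)⟩⟩
    exact ⟨fun _ => IsDiscreteValuationRing.RingEquivClass.isDiscreteValuationRing (RingEquiv.ofBijective q hq),
      fun _ => IsDiscreteValuationRing.RingEquivClass.isDiscreteValuationRing (RingEquiv.ofBijective q hq).symm⟩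
  constructor
  · intro hU A hA h1 h2
    obtain ⟨V, rfl⟩ : ∃ V : ValuationSubring (X.residueField ξ),
        V.comap (θ : X.functionField →+* X.residueField ξ) = A :=
      ⟨A.comap (θ.symm : X.residueField ξ →+* X.functionField), SetLike.ext fun a => by
        rw [ValuationSubring.mem_comap, ValuationSubring.mem_comap]
        simp only [RingHom.coe_coe, θ.symm_apply_apply]⟩
    haveI := (hdvr V).mp hA
    have hV : ∀ r, τ.hom r ∈ V := fun r => (hτ r) ▸ ((htr V _).1.mp (h1 r))
    have hloc : IsLocalHom (τ.hom.codRestrict V.toSubring hV) := ⟨fun r hr => by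
      by_contra hn
      have h3 := (htr V _).2.mp (h2 r ((IsLocalRing.mem_maximalIdeal r).mpr hn))
      rw [← hτ] at h3
      rw [show τ.hom r = ((⟨_, hV r⟩ : V) : X.residueField ξ) from rfl,
        ValuationSubring.coe_mem_nonunits_iff] at h3
      exact h3 hr⟩
    obtain ⟨g, hg, hg'⟩ := Groth.Agent.Proj16.exists_path hξ V hV hloc
    obtain ⟨l, hlf, hl⟩ :=
      ((Groth.Agent.Ega43Prop.exists_nhd_isProper_iff (f := f) (y := y)).mp hU).dvrLiftsAtPt
        ξ V g inferInstance hg hg'
    obtain ⟨a, hal, ha⟩ := Groth.Agent.MorLib.DenseValuative.exists_stalkMap_eq l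
      (s := l (IsLocalRing.closedPoint V)) rfl
    let x := l (IsLocalRing.closedPoint V)
    haveI := hal
    have hkey : ∀ r, ((a.hom r : V) : X.residueField ξ) =
        θ (X.presheaf.stalkSpecializes (genericPoint_specializes x) r) := by
      intro r
      rw [← hsp]
      have h3 : Spec.map (CommRingCat.ofHom V.subtype) ≫ Spec.map a ≫ X.fromSpecStalk x =
          Spec.map (Groth.Agent.Proj16.specMapResidue (p := 𝟙 X) (x := ξ)
            (genericPoint_specializes x)) ≫ X.fromSpecStalk x := by
        rw [Groth.Agent.Proj16.specMapResidue_fromSpecStalk, ha, hl]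
        exact (Category.comp_id _).symm
      rw [← Spec.map_comp_assoc, cancel_mono] at h3
      exact congrArg (fun k => k.hom r) (Spec.map_injective h3)
    refine ⟨x, by show f (l _) = y; rw [← Scheme.Hom.comp_apply, hlf, hg], fun r => ?_, fun r hr => ?_⟩
    · rw [(htr V _).1, ← hkey]
      exact (a.hom r).2
    · rw [(htr V _).2, ← hkey, ValuationSubring.coe_mem_nonunits_iff]
      exact fun hu => (IsLocalRing.mem_maximalIdeal r).mp hr (hal.map_nonunit r hu)
  · intro H
    refine Groth.Agent.Ega43Prop.exists_nhd_isProper_of_dvrLiftsAtPt fun x =>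
      ⟨ξ, genericPoint_specializes x, ?_⟩
    intro V y₀ hV hy₀ hcomm
    obtain ⟨φ, hφl, hφ⟩ := Groth.Agent.MorLib.DenseValuative.exists_stalkMap_eq y₀ (s := y) hy₀
    haveI := hφl
    have hφτ : ∀ r, ((φ.hom r : V) : X.residueField ξ) = τ.hom r := by
      intro r
      have h3 : Spec.map (CommRingCat.ofHom V.subtype) ≫ Spec.map φ ≫ Y.fromSpecStalk y =
          Spec.map τ ≫ Y.fromSpecStalk y := by
        rw [Groth.Agent.Proj16.specMapResidue_fromSpecStalk, hφ, hcomm]
      rw [← Spec.map_comp_assoc, cancel_mono] at h3
      exact congrArg (fun k => k.hom r) (Spec.map_injective h3)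
    obtain ⟨z, hzy, hz1, hz2⟩ := H _ ((hdvr V).mpr hV)
      (fun r => by rw [(htr V _).1, ← hτ, ← hφτ]; exact (φ.hom r).2)
      (fun r hr => by
        rw [(htr V _).2, ← hτ, ← hφτ, ValuationSubring.coe_mem_nonunits_iff]
        exact fun hu => (IsLocalRing.mem_maximalIdeal r).mp hr (hφl.map_nonunit r hu))
    let σ := Groth.Agent.Proj16.specMapResidue (p := 𝟙 X) (x := ξ) (genericPoint_specializes z)
    have hσV : ∀ r, σ.hom r ∈ V := fun r => by
      rw [hsp]; exact (htr V _).1.mp (hz1 r)
    let g : X.presheaf.stalk z ⟶ CommRingCat.of V :=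
      CommRingCat.ofHom (σ.hom.codRestrict V.toSubring hσV)
    haveI : IsLocalHom g.hom := ⟨fun r hr => by
      by_contra hn
      have h3 := (htr V _).2.mp (hz2 r ((IsLocalRing.mem_maximalIdeal r).mpr hn))
      rw [← hsp, show σ.hom r = ((g.hom r : V) : X.residueField ξ) from rfl,
        ValuationSubring.coe_mem_nonunits_iff] at h3
      exact h3 hr⟩
    have hl : Spec.map (CommRingCat.ofHom V.subtype) ≫ Spec.map g ≫ X.fromSpecStalk z =
        X.fromSpecResidueField ξ := by
      rw [← Spec.map_comp_assoc]
      exact (Groth.Agent.Proj16.specMapResidue_fromSpecStalk (p := 𝟙 X) (x := ξ)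
        (genericPoint_specializes z)).trans (Category.comp_id _)
    refine ⟨Spec.map g ≫ X.fromSpecStalk z, ?_, hl⟩
    obtain ⟨_, ⟨W, hW, rfl⟩, hyW, -⟩ :=
      Y.isBasis_affineOpens.exists_subset_of_mem_open (Set.mem_univ y) isOpen_univ
    refine Groth.Agent.MorLib.DenseValuative.hom_ext_into_affine (j := V.subtype)
      Subtype.coe_injective _ y₀ hW ?_ (hy₀ ▸ hyW) (by rw [← Category.assoc, hl, hcomm])
    rw [Scheme.Hom.comp_apply, Groth.Agent.MorLib.DenseValuative.apply_closedPoint g]
    show f.base z ∈ W
    rw [hzy]; exact hyW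

end Groth.Agent.S3434
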