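import Groth.Statements.S3454
import Groth.Agent.Ega43Prop.GeomRkConstr

set_option autoImplicit false
set_option linter.style.haveILetI false
set_option backward.isDefEq.respectTransparency false
set_option backward.isDefEq.respectTransparency.types false
open CategoryTheory AlgebraicGeometry
universe u
open EGA43

namespace Groth.Agent.S3454

/-- Let f : X ⟶ S be locally of finite presentation and k a natural number. The set of points x of X
such that the fibre of f through x satisfies the geometric condition (R_k) at x — for every field
extension K of the residue field of f x and every point x' above x in the base-changed fibre, the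
local ring at x' satisfies Serre's condition (R_k) — is locally constructible in X. -/
theorem result {X S : Scheme.{u}} (f : X ⟶ S)
    [LocallyOfFinitePresentation f] (k : ℕ) :
    Topology.IsLocallyConstructible {x : X |
      ∀ (K : Type u) [Field K] [Algebra (IsLocalRing.ResidueField (S.presheaf.stalk (f.base x))) K]
        (x' : ↥(FBase.bc (f.fiberToSpecResidueField (f.base x)) K)),
        (FBase.bcπ (f.fiberToSpecResidueField (f.base x)) K).base x' = f.asFiber x →
          LocCoh.HasRk k ((FBase.bc (f.fiberToSpecResidueField (f.base x)) K).presheaf.stalk x')} := by
  convert Ega43Prop.isLocallyConstructible_rkN f k using 1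
  ext x
  haveI := Ega43Prop.lfp_fibre f (f x)
  refine Iff.trans ?_ (Ega43Prop.rkSm_iff_rkN f k x)
  exact ⟨fun h => Ega43Prop.rkSm_of_forall_finite _ fun K _ _ _ x' hx' => h K x' hx',
    fun h K _ _ x' hx' => Ega43Prop.hasRk_bc_of_rkSm _ h K x' hx'⟩
end Groth.Agent.S3454
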