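import Groth.Statements.S3460
import Groth.Agent.Ega43Prop.NhdProper

set_option autoImplicit false
set_option linter.style.haveILetI false
open CategoryTheory AlgebraicGeometry
universe u
set_option backward.isDefEq.respectTransparency false
set_option backward.isDefEq.respectTransparency.types false
open EGA43

namespace Groth.Agent.S3460

/-- Let Y be locally Noetherian and f : X ⟶ Y of finite type. Then there exist a scheme Z, a proper
morphism g : X ⟶ Z and an immersion h : Z ⟶ Y with f = g ≫ h if and only if f is proper at every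
point of f(X), i.e. every point of f(X) has an open neighbourhood U in Y over which the restriction
of f is proper. -/
theorem result {X Y : Scheme.{u}} [IsLocallyNoetherian Y]
    (f : X ⟶ Y) [LocallyOfFiniteType f] [QuasiCompact f] :
    (∃ (Z : Scheme.{u}) (g : X ⟶ Z) (h : Z ⟶ Y), IsProper g ∧ IsImmersion h ∧ g ≫ h = f) ↔
      ∀ x : X, ∃ U : Y.Opens, f.base x ∈ U ∧ IsProper (f ∣_ U) := by
  constructor
  · rintro ⟨Z, g, h, hg, hh, rfl⟩ x
    let V := h.coborderRange
    have hhV : IsClosedImmersion h.liftCoborder := inferInstance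
    have hx : (g ≫ h).base x ∈ V := by
      show h.base (g.base x) ∈ coborder (Set.range h.base)
      exact subset_coborder ⟨_, rfl⟩
    refine ⟨V, hx, ?_⟩
    have hall : (g ≫ h) ⁻¹ᵁ V = ⊤ := by
      refine TopologicalSpace.Opens.ext (Set.eq_univ_of_forall fun x' => ?_)
      show h.base (g.base x') ∈ coborder (Set.range h.base)
      exact subset_coborder ⟨_, rfl⟩
    haveI : IsIso ((g ≫ h) ⁻¹ᵁ V).ι := by rw [hall]; exact X.topIso.isIso_hom
    have e : (g ≫ h) ∣_ V = ((g ≫ h) ⁻¹ᵁ V).ι ≫ g ≫ h.liftCoborder := by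
      rw [← cancel_mono V.ι, morphismRestrict_ι]
      simp only [Category.assoc, V]
      rw [Scheme.Hom.liftCoborder_ι]
    rw [e]
    infer_instance
  · intro hp
    let U : Y.Opens := ⨆ V : {V : Y.Opens // IsProper (f ∣_ V)}, V.1
    have hU : ∀ x : X, f.base x ∈ U := fun x => by
      obtain ⟨V, hxV, hV⟩ := hp x
      exact TopologicalSpace.Opens.mem_iSup.mpr ⟨⟨V, hV⟩, hxV⟩
    have hall : f ⁻¹ᵁ U = ⊤ := TopologicalSpace.Opens.ext (Set.eq_univ_of_forall hU)
    haveI : IsIso (f ⁻¹ᵁ U).ι := by rw [hall]; exact X.topIso.isIso_hom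
    haveI hpr : IsProper (f ∣_ U) := by
      rw [IsZariskiLocalAtTarget.iff_of_iSup_eq_top (P := @IsProper)
        (fun V : {V : Y.Opens // IsProper (f ∣_ V)} => U.ι ⁻¹ᵁ V.1) (by
          refine TopologicalSpace.Opens.ext (Set.eq_univ_of_forall fun z => ?_)
          obtain ⟨V, hV⟩ := TopologicalSpace.Opens.mem_iSup.mp z.2
          exact TopologicalSpace.Opens.mem_iSup.mpr ⟨V, hV⟩)]
      intro V
      rw [MorphismProperty.arrow_mk_iso_iff @IsProper (morphismRestrictRestrict f U _)]
      have hV : U.ι ''ᵁ (U.ι ⁻¹ᵁ V.1) = V.1 := by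
        rw [Scheme.Hom.image_preimage_eq_opensRange_inf, Scheme.Opens.opensRange_ι]
        exact inf_eq_right.mpr (le_iSup (fun V : {V : Y.Opens // IsProper (f ∣_ V)} => V.1) V)
      rw [hV]
      exact V.2
    refine ⟨U, inv (f ⁻¹ᵁ U).ι ≫ f ∣_ U, U.ι, inferInstance, inferInstance, ?_⟩
    rw [Category.assoc, morphismRestrict_ι, IsIso.inv_hom_id_assoc]

end Groth.Agent.S3460
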