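import Groth.Statements.S3475
import Groth.Agent.EtDerLib.ZeroAcyc.NilBase
import Groth.Agent.EtDerLib.ZeroAcyc.StalkPull

set_option autoImplicit false
set_option linter.style.haveILetI false
universe u
open CategoryTheory CategoryTheory.Limits AlgebraicGeometry Opposite
open EtAcyc

namespace Groth.Agent.S3475

open scoped TensorProduct
open Groth.Agent.EtDerLib.ZeroAcyc in
set_option backward.isDefEq.respectTransparency.types false in
set_option linter.style.haveILetI false in
theorem clopen_strictLocalization {X Y X₁ Y₁ : Scheme.{u}} {g : X ⟶ Y} {b : Y₁ ⟶ Y} {b' : X₁ ⟶ X}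
    {g₁ : X₁ ⟶ Y₁} (sq : IsPullback b' g₁ g b) (O A C B RY RX : Type u)
    [CommRing O] [IsLocalRing O] (hnil : ∀ a ∈ IsLocalRing.maximalIdeal O, IsNilpotent a)
    [CommRing A] [IsLocalRing A] [CommRing C] [CommRing B] [IsLocalRing B] [CommRing RY] [IsLocalRing RY]
    [CommRing RX] [IsLocalRing RX]
    [Algebra O A] [IsLocalHom (algebraMap O A)] [Algebra O C] [Algebra A RY] [IsLocalHom (algebraMap A RY)]
    [Hensel.IsStrictHenselization A RY] [Algebra B RX] [IsLocalHom (algebraMap B RX)]
    [Hensel.IsStrictHenselization B RX] [Algebra RY RX] [IsLocalHom (algebraMap RY RX)]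
    (f₁ : A →+* B) (f₂ : C →+* B) (hcomp : (algebraMap RY RX).comp (algebraMap A RY) = (algebraMap B RX).comp f₁)
    (jO : Spec (CommRingCat.of O) ⟶ Y) [Mono jO] (jA : Spec (CommRingCat.of A) ⟶ Y₁) [WeaklyEtale jA]
    (jC : Spec (CommRingCat.of C) ⟶ X) [WeaklyEtale jC] (jB : Spec (CommRingCat.of B) ⟶ X₁) [WeaklyEtale jB]
    (hA : Spec.map (CommRingCat.ofHom (algebraMap O A)) ≫ jO = jA ≫ b)
    (hC : Spec.map (CommRingCat.ofHom (algebraMap O C)) ≫ jO = jC ≫ g)
    (hl : Spec.map (CommRingCat.ofHom f₁) ≫ jA = jB ≫ g₁)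
    (hr : Spec.map (CommRingCat.ofHom f₂) ≫ jC = jB ≫ b') :
    ClopenDesc (Spec.map (CommRingCat.ofHom (algebraMap RY RX))) ∧
      Function.Surjective (Spec.map (CommRingCat.ofHom (algebraMap RY RX))).base := by
  have hO : f₂.comp (algebraMap O C) = f₁.comp (algebraMap O A) := by
    have h : Spec.map (CommRingCat.ofHom f₂) ≫ Spec.map (CommRingCat.ofHom (algebraMap O C)) =
        Spec.map (CommRingCat.ofHom f₁) ≫ Spec.map (CommRingCat.ofHom (algebraMap O A)) := by
      rw [← cancel_mono jO, Category.assoc, Category.assoc, hA, hC, ← Category.assoc, ← Category.assoc, hl, hr,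
        Category.assoc, Category.assoc, sq.w]
    rw [← Spec.map_comp, ← Spec.map_comp, Spec.map_inj] at h
    exact congrArg CommRingCat.Hom.hom h
  letI : Algebra O B := (f₁.comp (algebraMap O A)).toAlgebra
  let a₁ : A →ₐ[O] B := { f₁ with commutes' := fun _ => rfl }
  let a₂ : C →ₐ[O] B := { f₂ with commutes' := RingHom.congr_fun hO }
  let τ : A ⊗[O] C →ₐ[O] B := Algebra.TensorProduct.lift a₁ a₂ (fun _ _ => Commute.all _ _)
  letI : Algebra (A ⊗[O] C) B := τ.toRingHom.toAlgebra
  haveI := weaklyEtale_stalk_pullback sq O A C B jO jA jC jB hA hC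
    (by rw [show ((algebraMap (A ⊗[O] C) B).comp Algebra.TensorProduct.includeLeftRingHom) = f₁ from
      RingHom.ext fun a => show τ (a ⊗ₜ 1) = f₁ a by simp [τ, a₁]]; exact hl)
    (by rw [show ((algebraMap (A ⊗[O] C) B).comp (Algebra.TensorProduct.includeRight : C →ₐ[O] A ⊗[O] C).toRingHom) = f₂ from
      RingHom.ext fun c => show τ ((1 : A) ⊗ₜ c) = f₂ c by simp [τ, a₂]]; exact hr)
  haveI := Groth.Agent.S0736.result A RY (Groth.Agent.S12237.result A RY)
  haveI := Groth.Agent.S0736.result B RX (Groth.Agent.S12237.result B RX)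
  haveI : HenselianLocalRing RY := Hensel.IsStrictHenselization.henselian (R := A)
  haveI : IsSepClosed (IsLocalRing.ResidueField RY) :=
    (Hensel.IsStrictHenselization.isSepClosure (R := A) (S := RY)).sep_closed
  letI : Algebra O RY := ((algebraMap A RY).comp (algebraMap O A)).toAlgebra
  haveI : IsScalarTower O A RY := .of_algebraMap_eq fun _ => rfl
  haveI : IsLocalHom (algebraMap O RY) :=
    RingHom.isLocalHom_comp (algebraMap A RY) (algebraMap O A)
  letI : Algebra O RX := ((algebraMap RY RX).comp (algebraMap O RY)).toAlgebra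
  let l : RY →ₐ[O] RX := { algebraMap RY RX with commutes' := fun _ => rfl }
  let r : C →ₐ[O] RX := { (algebraMap B RX).comp f₂ with
    commutes' := fun o => (congrArg (algebraMap B RX) (RingHom.congr_fun hO o)).trans
      (RingHom.congr_fun hcomp (algebraMap O A o)).symm }
  let φ : RY ⊗[O] C →ₐ[O] RX := Algebra.TensorProduct.lift l r (fun _ _ => Commute.all _ _)
  have hw := weaklyEtale_tensor_cancel O A C RY B RX φ.toRingHom fun t => by
    show φ (Algebra.TensorProduct.map (IsScalarTower.toAlgHom O A RY) (AlgHom.id O C) t) = algebraMap B RX (τ t)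
    induction t using TensorProduct.induction_on with
    | zero => simp
    | tmul a c =>
      simp only [φ, τ, Algebra.TensorProduct.map_tmul, Algebra.TensorProduct.lift_tmul, IsScalarTower.toAlgHom_apply,
        AlgHom.id_apply, map_mul]
      exact congrArg (· * _) (RingHom.congr_fun hcomp a)
    | add u v hu hv => simp only [map_add, hu, hv]
  letI : Algebra (RY ⊗[O] C) RX := φ.toRingHom.toAlgebra
  haveI : Algebra.WeaklyEtale (RY ⊗[O] C) RX := hw
  haveI : IsScalarTower RY (RY ⊗[O] C) RX := .of_algebraMap_eq fun a => by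
    show algebraMap RY RX a = φ (a ⊗ₜ 1)
    simp [φ, l]
  exact clopenDesc_of_nilBase O C RY RX hnil

/-- Let g : X → Y be a morphism of schemes with Y discrete (for instance the spectrum of a field). Then
g is universally locally 0-acyclic. -/
theorem result {X Y : Scheme.{u}} (g : X ⟶ Y) [DiscreteTopology Y] :
    EtAcyc.IsULocZeroAcyclic g := by
  intro X₁ Y₁ g₁ b' b sq x RY RX _ _ _ _ _ _ _ _ _ _ _ _ hcomp
  let y₀ := b.base (g₁.base x)
  have hy : g.base (b'.base x) = y₀ :=
    (Scheme.Hom.comp_apply b' g x).symm.trans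
      ((congrArg (fun m : X₁ ⟶ Y => m.base x) sq.w).trans (Scheme.Hom.comp_apply g₁ b x))
  let φC : Y.presheaf.stalk y₀ ⟶ X.presheaf.stalk (b'.base x) :=
    Y.presheaf.stalkSpecializes (specializes_of_eq hy) ≫ g.stalkMap (b'.base x)
  have hC : Spec.map φC ≫ Y.fromSpecStalk y₀ = X.fromSpecStalk (b'.base x) ≫ g := by
    rw [Spec.map_comp, Category.assoc, Scheme.SpecMap_stalkSpecializes_fromSpecStalk,
      Scheme.SpecMap_stalkMap_fromSpecStalk]
  letI := φC.hom.toAlgebra
  letI := (b.stalkMap (g₁.base x)).hom.toAlgebra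
  have hnil : ∀ a ∈ IsLocalRing.maximalIdeal (Y.presheaf.stalk y₀), IsNilpotent a := fun a ha => by
    refine nilpotent_iff_mem_prime.2 fun P hP => ?_
    have h : (⟨P, hP⟩ : PrimeSpectrum (Y.presheaf.stalk y₀)) = IsLocalRing.closedPoint _ := by
      refine (Y.fromSpecStalk y₀).isEmbedding.injective ?_
      exact (Specializes.map ((PrimeSpectrum.le_iff_specializes _ _).1
          (IsLocalRing.le_maximalIdeal hP.ne_top)) (Y.fromSpecStalk y₀).continuous).eq
    have h' : P = IsLocalRing.maximalIdeal _ := congrArg PrimeSpectrum.asIdeal h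
    rw [h']
    exact ha
  haveI : WeaklyEtale (X.fromSpecStalk (b'.base x)) := Groth.Agent.ProEtLib.weaklyEtale_fromSpecStalk _ _
  haveI : WeaklyEtale (Y₁.fromSpecStalk (g₁.base x)) := Groth.Agent.ProEtLib.weaklyEtale_fromSpecStalk _ _
  haveI : WeaklyEtale (X₁.fromSpecStalk x) := Groth.Agent.ProEtLib.weaklyEtale_fromSpecStalk _ _
  haveI : IsLocalHom (algebraMap (Y.presheaf.stalk y₀) (Y₁.presheaf.stalk (g₁.base x))) :=
    inferInstanceAs (IsLocalHom (b.stalkMap (g₁.base x)).hom)
  obtain ⟨h1, h2⟩ := clopen_strictLocalization sq (Y.presheaf.stalk y₀) (Y₁.presheaf.stalk (g₁.base x))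
    (X.presheaf.stalk (b'.base x)) (X₁.presheaf.stalk x) RY RX hnil (g₁.stalkMap x).hom (b'.stalkMap x).hom hcomp
    (Y.fromSpecStalk y₀) (Y₁.fromSpecStalk (g₁.base x)) (X.fromSpecStalk (b'.base x)) (X₁.fromSpecStalk x)
    (Scheme.SpecMap_stalkMap_fromSpecStalk b) hC (Scheme.SpecMap_stalkMap_fromSpecStalk g₁)
    (Scheme.SpecMap_stalkMap_fromSpecStalk b')
  exact Groth.Agent.EtDerLib.ZeroAcyc.zeroAcyclic_of_clopenDesc h1 h2

end Groth.Agent.S3475
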