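import Groth.Statements.S3510
import Groth.Agent.EtDerLib.Acyc
-- import your own Groth.Agent.* helpers here

set_option autoImplicit false
universe u
open CategoryTheory CategoryTheory.Limits AlgebraicGeometry Opposite
open EtAcyc

namespace Groth.Agent.S3510

/-- (i) ⇔ (ii): let g : X → Y be a morphism of schemes, L a set of primes and n a natural number. Then g
is n-acyclic for L (form (ii): for every etale V → Y with projection g' : X ×_Y V → V and every
abelian L-torsion sheaf F on V, H^q(V, F) → H^q(X ×_Y V, g'⁻¹F) is bijective for q ≤ n and injective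
for q = n + 1) if and only if (form (i)) for every such V and F the unit F → g'_* g'⁻¹ F is an
isomorphism and R^q g'_* (g'⁻¹ F) = 0 for 1 ≤ q ≤ n. -/
theorem result {X Y : Scheme.{u}} (g : X ⟶ Y) (L : Set ℕ) (n : ℕ) :
    EtAcyc.IsAcyclicN g L n ↔
      ∀ (V : Y.Etale) (F : EtCoh.Ab V.left), EtAcyc.IsLTorsion L F →
        IsIso ((EtCoh.pullPushAdj (EtAcyc.prj g V)).unit.app F) ∧
          ∀ q : ℕ, 1 ≤ q → q ≤ n →
            IsZero ((EtCoh.Rpush (EtAcyc.prj g V) q).obj ((EtCoh.pull (EtAcyc.prj g V)).obj F)) := by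
  constructor
  · intro hg V F hF
    let f : pullback V.hom g ⟶ V.left := EtAcyc.prj g V
    haveI := EtFound.pull_preservesFiniteLimits f
    haveI : AlgebraicGeometry.Etale V.hom := V.prop
    have key : ∀ (W : V.left.Etale) [PreservesFiniteLimits (EtCoh.pull (pullback.fst W.hom f))],
        EtDerLib.CompAt (pullback.fst W.hom f) ((EtCoh.pull W.hom).obj F) n := by
      intro W _
      let W' : Y.Etale := (EtShriek.compEtale V.hom).obj W
      let φ := (pullbackRightPullbackFstIso V.hom g W.hom).hom
      let p : pullback (W.hom ≫ V.hom) g ⟶ W.left := pullback.fst (W.hom ≫ V.hom) g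
      have e : pullback.fst W.hom f = φ ≫ p :=
        (pullbackRightPullbackFstIso_hom_fst V.hom g W.hom).symm
      haveI := EtFound.pull_preservesFiniteLimits φ
      haveI hp : PreservesFiniteLimits (EtCoh.pull p) := EtFound.pull_preservesFiniteLimits p
      haveI := EtFound.pull_preservesFiniteLimits (φ ≫ p)
      have h : EtDerLib.CompAt p ((EtCoh.pull W.hom).obj F) n :=
        @hg W' ((EtCoh.pull W.hom).obj F) (EtDerLib.isLTorsion_pull _ hF) hp
      have h' := (EtDerLib.compAt_comp_iso p φ _ n).2 h
      revert h'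
      generalize φ ≫ p = k at *
      subst e
      exact id
    refine ⟨EtDerLib.unit_isIso_of_compAt f (fun W _ => (key W).1 0 (Nat.zero_le n)), fun q hq1 hqn => ?_⟩
    obtain ⟨k, rfl⟩ : ∃ k, q = k + 1 := ⟨q - 1, by omega⟩
    exact EtDerLib.Rpush_isZero_of_compAt f (fun W _ => (key W).1 (k + 1) hqn)
  · intro h V F hF _
    obtain ⟨hu, hR⟩ := h V F hF
    exact EtDerLib.compAt_of_vanish (EtAcyc.prj g V) hR

end Groth.Agent.S3510
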