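import Groth.Statements.S3513
import Groth.Agent.EtDerLib.AcycComp
-- import your own Groth.Agent.* helpers here

set_option autoImplicit false
universe u
open CategoryTheory CategoryTheory.Limits AlgebraicGeometry Opposite
open EtAcyc

namespace Groth.Agent.S3513

/-- Last assertion, abelian and sets cases: let g : X → Y and h : Y → Z be morphisms of schemes, L a set
of primes and n a natural number. If g is n-acyclic for L, then h is n-acyclic for L if and only if
g ≫ h is; if g is 0-acyclic, then h is 0-acyclic if and only if g ≫ h is. -/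
theorem result {X Y Z : Scheme.{u}} (g : X ⟶ Y) (h : Y ⟶ Z) (L : Set ℕ) (n : ℕ) :
    (EtAcyc.IsAcyclicN g L n → (EtAcyc.IsAcyclicN h L n ↔ EtAcyc.IsAcyclicN (g ≫ h) L n)) ∧
      (EtAcyc.IsZeroAcyclic g → (EtAcyc.IsZeroAcyclic h ↔ EtAcyc.IsZeroAcyclic (g ≫ h))) := by
  have hfac : ∀ V : Z.Etale, ∃ φ : pullback (pullback.snd V.hom h) g ⟶ pullback V.hom (g ≫ h), IsIso φ ∧
      φ ≫ EtAcyc.prj (g ≫ h) V = EtAcyc.prj g ((EtCoh.bc h).obj V) ≫ EtAcyc.prj h V :=
    fun V => ⟨(pullbackLeftPullbackSndIso V.hom h g).hom, inferInstance, pullbackLeftPullbackSndIso_hom_fst _ _ _⟩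
  constructor
  · intro hg
    have key : ∀ (V : Z.Etale) (F : EtCoh.Ab V.left), EtAcyc.IsLTorsion L F →
        ∀ [PreservesFiniteLimits (EtCoh.pull (EtAcyc.prj h V))]
          [PreservesFiniteLimits (EtCoh.pull (EtAcyc.prj (g ≫ h) V))],
        (EtDerLib.CompAt (EtAcyc.prj (g ≫ h) V) F n ↔ EtDerLib.CompAt (EtAcyc.prj h V) F n) := by
      intro V F hF _ _
      obtain ⟨φ, hφ, e⟩ := hfac V
      let a : pullback (pullback.snd V.hom h) g ⟶ pullback V.hom h := EtAcyc.prj g ((EtCoh.bc h).obj V)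
      let b : pullback V.hom h ⟶ V.left := EtAcyc.prj h V
      let c : pullback V.hom (g ≫ h) ⟶ V.left := EtAcyc.prj (g ≫ h) V
      haveI ha : PreservesFiniteLimits (EtCoh.pull a) := EtFound.pull_preservesFiniteLimits a
      haveI := EtFound.pull_preservesFiniteLimits φ
      haveI := EtFound.pull_preservesFiniteLimits (φ ≫ c)
      haveI := EtFound.pull_preservesFiniteLimits (a ≫ b)
      have hA : EtDerLib.CompAt a ((EtCoh.pull b).obj F) n :=
        @hg ((EtCoh.bc h).obj V) ((EtCoh.pull b).obj F) (EtDerLib.isLTorsion_pull _ hF) ha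
      refine (EtDerLib.compAt_comp_iso c φ F n).symm.trans (Iff.trans ?_ (EtDerLib.compAt_comp_iff a b F n hA))
      have e' : φ ≫ c = a ≫ b := e
      generalize φ ≫ c = k at *
      subst e'
      exact Iff.rfl
    constructor
    · intro hh V F hF _
      haveI := EtFound.pull_preservesFiniteLimits (EtAcyc.prj h V)
      exact (key V F hF).2 (hh V F hF)
    · intro hh V F hF _
      haveI := EtFound.pull_preservesFiniteLimits (EtAcyc.prj (g ≫ h) V)
      exact (key V F hF).1 (hh V F hF)
  · intro hg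
    have key : ∀ (V : Z.Etale) (F : EtDesc.Sh V.left),
        (IsIso ((EtDesc.adjSh (EtAcyc.prj (g ≫ h) V)).unit.app F) ↔
          IsIso ((EtDesc.adjSh (EtAcyc.prj h V)).unit.app F)) := by
      intro V F
      obtain ⟨φ, hφ, e⟩ := hfac V
      let a : pullback (pullback.snd V.hom h) g ⟶ pullback V.hom h := EtAcyc.prj g ((EtCoh.bc h).obj V)
      let b : pullback V.hom h ⟶ V.left := EtAcyc.prj h V
      let c : pullback V.hom (g ≫ h) ⟶ V.left := EtAcyc.prj (g ≫ h) V
      haveI : IsIso ((EtDesc.adjSh a).unit.app ((EtDesc.pullSh b).obj F)) := hg ((EtCoh.bc h).obj V) _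
      haveI := EtDerLib.unitSh_isIso_of_isIso φ ((EtDesc.pullSh c).obj F)
      refine (EtDerLib.unitSh_comp_iff φ c F).symm.trans (Iff.trans ?_ (EtDerLib.unitSh_comp_iff a b F))
      have e' : φ ≫ c = a ≫ b := e
      generalize φ ≫ c = k at *
      subst e'
      exact Iff.rfl
    exact ⟨fun hh V F => (key V F).2 (hh V F), fun hh V F => (key V F).1 (hh V F)⟩

end Groth.Agent.S3513
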