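import Groth.Statements.S3514
import Groth.Agent.S3513
import Groth.Agent.S0537
import Groth.Agent.EtDerLib.StrictFunc
-- import your own Groth.Agent.* helpers here

set_option autoImplicit false
universe u
open CategoryTheory CategoryTheory.Limits AlgebraicGeometry Opposite
open EtAcyc

namespace Groth.Agent.S3514

theorem loc_comp_iff {X Y Z : Scheme.{u}} (g : X ⟶ Y) (h : Y ⟶ Z) (hg : Function.Surjective g.base)
    (P : ∀ ⦃X' Y' : Scheme.{u}⦄, (X' ⟶ Y') → Prop)
    (hP : ∀ ⦃A B C : Scheme.{u}⦄ (a : A ⟶ B) (b : B ⟶ C), P a → (P b ↔ P (a ≫ b)))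
    (hloc : EtAcyc.OnStrictLocalizations g P) :
    EtAcyc.OnStrictLocalizations h P ↔ EtAcyc.OnStrictLocalizations (g ≫ h) P := by
  constructor
  · intro hh x RZ RX _ _ _ _ iA iL iS _ _ _ _ _ hc
    letI iA' : Algebra (Z.presheaf.stalk (h.base (g.base x))) RZ := iA
    haveI : IsLocalHom (algebraMap (Z.presheaf.stalk (h.base (g.base x))) RZ) := iL
    haveI : Hensel.IsStrictHenselization (Z.presheaf.stalk (h.base (g.base x))) RZ := iS
    obtain ⟨RY, _, _, _, _, _⟩ := Groth.Agent.S0537.result (Y.presheaf.stalk (g.base x))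
    obtain ⟨φ, hφl, hφ⟩ := EtDerLib.StrictFunc.exists_map (A := Y.presheaf.stalk (g.base x)) (A' := RY)
      (B := X.presheaf.stalk x) (B' := RX) (g.stalkMap x).hom
    haveI : HenselianLocalRing RX := Hensel.IsStrictHenselization.henselian (X.presheaf.stalk x)
    have hc' : (algebraMap RZ RX).comp (algebraMap (Z.presheaf.stalk (h.base (g.base x))) RZ) =
        φ.comp ((algebraMap (Y.presheaf.stalk (g.base x)) RY).comp (h.stalkMap (g.base x)).hom) := by
      rw [← RingHom.comp_assoc, hφ, RingHom.comp_assoc, ← CommRingCat.hom_comp, ← Scheme.Hom.stalkMap_comp]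
      exact hc
    haveI : IsLocalHom (algebraMap RZ RX) := inferInstance
    haveI := hφl
    obtain ⟨ψ, hψl, hψ, hcomp⟩ := EtDerLib.StrictFunc.exists_factor (A := Y.presheaf.stalk (g.base x)) (A' := RY)
      (D' := RX) (C := Z.presheaf.stalk (h.base (g.base x))) (C' := RZ) (h.stalkMap (g.base x)).hom φ
      (algebraMap RZ RX) hc'
    letI : Algebra RY RX := φ.toAlgebra
    haveI : IsLocalHom (algebraMap RY RX) := hφl
    letI : Algebra RZ RY := ψ.toAlgebra
    haveI : IsLocalHom (algebraMap RZ RY) := hψl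
    have key := (hP _ _ (hloc x RY RX hφ)).1 (hh (g.base x) RZ RY hψ)
    rw [← Spec.map_comp, ← CommRingCat.ofHom_comp] at key
    show P (Spec.map (CommRingCat.ofHom (algebraMap RZ RX)))
    rw [← hcomp]
    exact key
  · intro hgh y RZ RY _ _ _ _ _ _ _ _ _ _ _ _ hc
    obtain ⟨x, rfl⟩ := hg y
    letI iA' : Algebra (Z.presheaf.stalk ((g ≫ h).base x)) RZ :=
      ‹Algebra (Z.presheaf.stalk (h.base (g.base x))) RZ›
    haveI : IsLocalHom (algebraMap (Z.presheaf.stalk ((g ≫ h).base x)) RZ) :=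
      ‹IsLocalHom (algebraMap (Z.presheaf.stalk (h.base (g.base x))) RZ)›
    haveI : Hensel.IsStrictHenselization (Z.presheaf.stalk ((g ≫ h).base x)) RZ :=
      ‹Hensel.IsStrictHenselization (Z.presheaf.stalk (h.base (g.base x))) RZ›
    obtain ⟨RX, _, _, _, _, _⟩ := Groth.Agent.S0537.result (X.presheaf.stalk x)
    obtain ⟨φ, hφl, hφ⟩ := EtDerLib.StrictFunc.exists_map (A := Y.presheaf.stalk (g.base x)) (A' := RY)
      (B := X.presheaf.stalk x) (B' := RX) (g.stalkMap x).hom
    letI : Algebra RY RX := φ.toAlgebra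
    haveI : IsLocalHom (algebraMap RY RX) := hφl
    letI : Algebra RZ RX := (φ.comp (algebraMap RZ RY)).toAlgebra
    haveI : IsLocalHom (algebraMap RZ RX) :=
      inferInstanceAs (IsLocalHom ((algebraMap RY RX).comp (algebraMap RZ RY)))
    have hc' : (algebraMap RZ RX).comp (algebraMap (Z.presheaf.stalk ((g ≫ h).base x)) RZ) =
        (algebraMap (X.presheaf.stalk x) RX).comp ((g ≫ h).stalkMap x).hom := by
      rw [Scheme.Hom.stalkMap_comp]
      show (φ.comp (algebraMap RZ RY)).comp (algebraMap (Z.presheaf.stalk (h.base (g.base x))) RZ) =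
        ((algebraMap (X.presheaf.stalk x) RX).comp (g.stalkMap x).hom).comp (h.stalkMap (g.base x)).hom
      rw [← hφ, RingHom.comp_assoc, RingHom.comp_assoc]
      exact congrArg φ.comp hc
    have key := hgh x RZ RX hc'
    refine (hP _ _ (hloc x RY RX hφ)).2 ?_
    rw [← Spec.map_comp, ← CommRingCat.ofHom_comp]
    exact key

/-- Let g : X → Y and h : Y → Z be morphisms of schemes with g surjective, L a set of primes and n a
natural number. If g is locally n-acyclic for L, then h is locally n-acyclic for L if and only if g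
≫ h is; if g is locally 0-acyclic, then h is locally 0-acyclic if and only if g ≫ h is. -/
theorem result {X Y Z : Scheme.{u}} (g : X ⟶ Y) (h : Y ⟶ Z)
    (hg : Function.Surjective g.base) (L : Set ℕ) (n : ℕ) :
    (EtAcyc.IsLocAcyclicN g L n → (EtAcyc.IsLocAcyclicN h L n ↔ EtAcyc.IsLocAcyclicN (g ≫ h) L n)) ∧
      (EtAcyc.IsLocZeroAcyclic g → (EtAcyc.IsLocZeroAcyclic h ↔ EtAcyc.IsLocZeroAcyclic (g ≫ h))) := by
  exact ⟨fun hl => loc_comp_iff g h hg (fun _ _ m => EtAcyc.IsAcyclicN m L n)
      (fun _ _ _ a b => (Groth.Agent.S3513.result a b L n).1) hl,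
    fun hl => loc_comp_iff g h hg (fun _ _ m => EtAcyc.IsZeroAcyclic m)
      (fun _ _ _ a b => (Groth.Agent.S3513.result a b L n).2) hl⟩

end Groth.Agent.S3514
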