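import Groth.Statements.S3554
import Groth.Agent.EgaQ.AwayBC

set_option autoImplicit false
universe u
open CategoryTheory CategoryTheory.Limits AlgebraicGeometry
open EGA2 Groth.Agent.EgaQ HomogeneousLocalization

namespace Groth.Agent.S3554

/-- Let A' → A be a ring homomorphism, S' a graded A'-algebra and S = S' ⊗_{A'} A with the induced
grading (here: any graded A-algebra S with a graded homomorphism S' → S exhibiting S as the base
change of S'). Then the square formed by Proj S → Proj S', the structure morphisms to Spec A and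
Spec A', and Spec A → Spec A' is cartesian. -/
theorem result {R R' A B : Type u} [CommRing R'] [CommRing R] [Algebra R' R]
    [CommRing B] [Algebra R' B] (ℬ : ℕ → Submodule R' B) [GradedAlgebra ℬ]
    [CommRing A] [Algebra R A] [Algebra R' A] [IsScalarTower R' R A] (𝒜 : ℕ → Submodule R A) [GradedAlgebra 𝒜]
    [Algebra B A] [IsScalarTower R' B A] [Algebra.IsPushout R' R B A]
    (φ : ℬ →+*ᵍ 𝒜) (hφA : ∀ b : B, φ b = algebraMap B A b)
    (hφ : HomogeneousIdeal.irrelevant 𝒜 ≤ (HomogeneousIdeal.irrelevant ℬ).map φ) :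
    IsPullback (Proj.map φ hφ)
      (Proj.toSpecZero 𝒜 ≫ Spec.map (CommRingCat.ofHom (algebraMap R (𝒜 0))))
      (Proj.toSpecZero ℬ ≫ Spec.map (CommRingCat.ofHom (algebraMap R' (ℬ 0))))
      (Spec.map (CommRingCat.ofHom (algebraMap R' R))) := by
  have hbc : IsGradedBC (algebraMap R' R) (algebraMap R' (ℬ 0)) (algebraMap R (𝒜 0)) φ := by
    have h := CommRingCat.isPushout_of_isPushout R' R B A
    unfold IsGradedBC
    convert h using 1
    · exact CommRingCat.hom_ext (RingHom.ext fun r => rfl)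
    · exact CommRingCat.hom_ext (RingHom.ext fun r => rfl)
    · exact CommRingCat.hom_ext (RingHom.ext fun b => hφA b)
  have hpo : ∀ (d : ℕ) (f : B) (hf : f ∈ ℬ d), _ := fun d f hf => hbc.away hf
  let g := Proj.toSpecZero ℬ ≫ Spec.map (CommRingCat.ofHom (algebraMap R' (ℬ 0)))
  let q := Proj.toSpecZero 𝒜 ≫ Spec.map (CommRingCat.ofHom (algebraMap R (𝒜 0)))
  let s := Spec.map (CommRingCat.ofHom (algebraMap R' R))
  have hι : ∀ (d : ℕ) (f : B) (hf : f ∈ ℬ d) (hd : 0 < d),
      Proj.awayι 𝒜 (φ f) (φ.map_mem hf) hd ≫ q =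
        Spec.map (CommRingCat.ofHom ((fromZeroRingHom 𝒜 (Submonoid.powers (φ f))).comp (algebraMap R (𝒜 0)))) := by
    intro d f hf hd
    show _ ≫ _ ≫ _ = _
    rw [Proj.awayι_toSpecZero_assoc, ← Spec.map_comp]
    rfl
  have hιB : ∀ (d : ℕ) (f : B) (hf : f ∈ ℬ d) (hd : 0 < d),
      Proj.awayι ℬ f hf hd ≫ g =
        Spec.map (CommRingCat.ofHom ((fromZeroRingHom ℬ (Submonoid.powers f)).comp (algebraMap R' (ℬ 0)))) := by
    intro d f hf hd
    show _ ≫ _ ≫ _ = _
    rw [Proj.awayι_toSpecZero_assoc, ← Spec.map_comp]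
    rfl
  have hcomm : Proj.map φ hφ ≫ g = q ≫ s := by
    refine (Proj.mapAffineOpenCover φ hφ).openCover.hom_ext _ _ fun i => ?_
    obtain ⟨⟨d, hd⟩, f, hf⟩ := i
    change f ∈ ℬ d at hf
    show Proj.awayι 𝒜 (φ f) (φ.map_mem hf) hd ≫ _ = Proj.awayι 𝒜 (φ f) (φ.map_mem hf) hd ≫ _
    rw [Proj.awayι_comp_map_assoc _ _ hd _ hf, hιB d f hf hd, reassoc_of% (hι d f hf hd),
      ← Spec.map_comp, ← Spec.map_comp]
    exact congrArg Spec.map (hpo d f hf).w.symm
  let c := pullback.lift (f := g) (g := s) (Proj.map φ hφ) q hcomm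
  suffices IsIso c from IsPullback.of_iso_pullback ⟨hcomm⟩ (asIso c) (pullback.lift_fst _ _ _) (pullback.lift_snd _ _ _)
  refine IsZariskiLocalAtTarget.of_openCover (P := MorphismProperty.isomorphisms Scheme.{u})
    (Scheme.Pullback.openCoverOfLeft (Proj.affineOpenCover ℬ).openCover g s) fun i => ?_
  obtain ⟨⟨d, hd⟩, f, hf⟩ := i
  change f ∈ ℬ d at hf
  have sq1 : IsPullback (Proj.awayι 𝒜 (φ f) (φ.map_mem hf) hd) (Spec.map (CommRingCat.ofHom (Away.map φ f)))
      (Proj.map φ hφ) (Proj.awayι ℬ f hf hd) := by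
    refine (IsOpenImmersion.isPullback (Spec.map (CommRingCat.ofHom (Away.map φ f)))
      (Proj.awayι 𝒜 (φ f) (φ.map_mem hf) hd) (Proj.awayι ℬ f hf hd) (Proj.map φ hφ)
      (Proj.awayι_comp_map φ hφ hd f hf) ?_).flip
    rw [Proj.opensRange_awayι, Proj.opensRange_awayι, Proj.map_preimage_basicOpen]
  let j := pullback.map (Proj.awayι ℬ f hf hd ≫ g) s g s (Proj.awayι ℬ f hf hd) (𝟙 _) (𝟙 _) (by simp) (by simp)
  have sq2 : IsPullback j (pullback.fst (Proj.awayι ℬ f hf hd ≫ g) s) (pullback.fst g s) (Proj.awayι ℬ f hf hd) := by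
    refine (IsPullback.of_bot ?_ (pullback.lift_fst _ _ _).symm (IsPullback.of_hasPullback g s)).flip
    rw [pullback.lift_snd, Category.comp_id]
    exact IsPullback.of_hasPullback (Proj.awayι ℬ f hf hd ≫ g) s
  have sq3 := (AlgebraicGeometry.isPullback_SpecMap_of_isPushout _ _ _ _ (hpo d f hf)).flip
  rw [← hιB d f hf hd] at sq3
  let k := sq3.isoPullback
  have hk1 : k.hom ≫ pullback.fst _ _ = Spec.map (CommRingCat.ofHom (Away.map φ f)) := sq3.isoPullback_hom_fst
  have sq4 : IsPullback (Proj.awayι 𝒜 (φ f) (φ.map_mem hf) hd) k.hom c j := by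
    refine IsPullback.of_bot ?_ ?_ sq2
    · rw [hk1]
      rw [show c ≫ pullback.fst g s = Proj.map φ hφ from pullback.lift_fst _ _ _]
      exact sq1
    · apply pullback.hom_ext
      · simp only [Category.assoc, c, j, pullback.lift_fst]
        rw [reassoc_of% hk1, Proj.awayι_comp_map]
      · simp only [Category.assoc, c, j, pullback.lift_snd, Category.comp_id]
        rw [sq3.isoPullback_hom_snd, hι d f hf hd]
  change IsIso (pullback.snd c j)
  rw [← sq4.isoPullback_inv_snd]
  infer_instance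

end Groth.Agent.S3554
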