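import Groth.Statements.S3623
import Groth.Agent.Dual349.DualizingStalk
import Groth.Agent.LC.GorLCI
-- import your own Groth.Agent.* helpers here

set_option autoImplicit false
universe u
open CategoryTheory CategoryTheory.Limits AlgebraicGeometry
attribute [local instance] HasDerivedCategory.standard
open Dual3

namespace Groth.Agent.S3623

/-- Let f : Y → X be a local complete intersection morphism (affine-locally given by local complete
intersection ring maps) with X a Gorenstein scheme. Then Y is a Gorenstein scheme. -/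
theorem result (Y X : Scheme.{u}) (f : Y ⟶ X) (hf : Dual3.IsLCIMor f) (hX : Dual3.IsGorenstein X) : Dual3.IsGorenstein Y := by
  have key : ∀ y : Y, ∃ (U : Y.affineOpens), y ∈ U.1 ∧ LocCoh.IsGorensteinRing Γ(Y, U.1) := by
    intro y
    obtain ⟨U, V, e, hy, h⟩ := hf y
    letI := (f.appLE V.1 U.1 e).hom.toAlgebra
    haveI := hX.1
    haveI : IsNoetherianRing Γ(X, V.1) := IsLocallyNoetherian.component_noetherian V
    exact ⟨U, hy, LC.gorensteinRing_of_isLCI Γ(X, V.1) Γ(Y, U.1)
      (Dual349.gorensteinRing_of_chart V.2.fromSpec hX.2) h⟩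
  choose U hyU hU using key
  have hcov : ⨆ y, ((U y).1) = ⊤ := eq_top_iff.2 fun y _ => TopologicalSpace.Opens.mem_iSup.2 ⟨y, hyU y⟩
  refine ⟨(isLocallyNoetherian_iff_of_iSup_eq_top hcov).2 fun y => by haveI := hU y; infer_instance, fun y => ?_⟩
  haveI := hU y
  have hp := LocCoh.IsGorensteinRing.isGorensteinLocalRing_localization
    (A := Γ(Y, (U y).1)) ((U y).2.primeIdealOf ⟨y, hyU y⟩).asIdeal
  have := (Dual349.gorLocalRing_stalk_iff (U y).2.fromSpec ((U y).2.primeIdealOf ⟨y, hyU y⟩)).2 hp
  rwa [(U y).2.fromSpec_primeIdealOf] at this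

end Groth.Agent.S3623
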