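import Groth.Statements.S3629
import Groth.Agent.Dual349.DualizingPull
-- import your own Groth.Agent.* helpers here

set_option autoImplicit false
universe u
open CategoryTheory CategoryTheory.Limits AlgebraicGeometry
attribute [local instance] HasDerivedCategory.standard
open Dual3

namespace Groth.Agent.S3629

/-- Let f : X → Y be a surjective flat local complete intersection morphism between locally Noetherian
schemes, with derived pullback Lf^* (assumed to exist; exactness instances as in the definition of
dualizing complexes). Then, for K in D_QCoh(O_Y), K is dualizing on Y precisely when the pulled-back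
complex Lf^*K is dualizing on X. -/
theorem result (X Y : Scheme.{u}) [IsLocallyNoetherian X] [IsLocallyNoetherian Y] [∀ (U V : Scheme.{u}) (j : U ⟶ V) [IsOpenImmersion j], PreservesFiniteLimits (Scheme.Modules.restrictFunctor j)] [∀ (R : CommRingCat.{u}), PreservesFiniteLimits (tilde.functor R)] (f : X ⟶ Y) [Surjective f] [Flat f] (hf : Dual3.IsLCIMor f) [DCoh.HasLpull f] (K : DCoh.DQCoh Y) : Dual2.IsDualizingSch Y K.obj ↔ Dual2.IsDualizingSch X ((DCoh.Lpull f).obj K.obj) := by
  refine ⟨fun hK => Dual349.isDualizingSch_Lpull_lci f hf hK, fun h => ?_⟩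
  haveI : LocallyOfFiniteType f := by
    choose U V e hxU hl using hf
    refine (IsZariskiLocalAtSource.iff_of_iSup_eq_top (P := @LocallyOfFiniteType) (fun x => (U x).1) ?_).2 fun x => ?_
    · exact eq_top_iff.2 fun x _ => TopologicalSpace.Opens.mem_iSup.2 ⟨x, hxU x⟩
    · letI := (f.appLE (V x).1 (U x).1 (e x)).hom.toAlgebra
      have hft : (f.appLE (V x).1 (U x).1 (e x)).hom.FiniteType := (hl x).1
      haveI : LocallyOfFiniteType (Spec.map (f.appLE (V x).1 (U x).1 (e x))) :=
        (HasRingHomProperty.Spec_iff (P := @LocallyOfFiniteType)).2 hft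
      haveI : LocallyOfFiniteType ((U x).2.fromSpec ≫ f) := by
        rw [← (V x).2.SpecMap_appLE_fromSpec f (U x).2 (e x)]
        infer_instance
      rw [← (U x).2.isoSpec_hom_fromSpec, Category.assoc]
      infer_instance
  haveI : LocallyOfFinitePresentation f :=
    ⟨fun {_} hU {_} hV e => by
      haveI := Dual349.isNoetherianRing_sections hU
      exact RingHom.FinitePresentation.of_finiteType.1 (f.finiteType_appLE hU hV e)⟩
  exact Dual349.isDualizingSch_of_Lpull f (Dual349.exists_affines_open f) K.property h

end Groth.Agent.S3629
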