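import Groth.Statements.S3633
import Groth.Agent.Dual349.ClosedDuality
import Groth.Agent.S1116
-- import your own Groth.Agent.* helpers here

set_option autoImplicit false
universe u
open CategoryTheory CategoryTheory.Limits AlgebraicGeometry
attribute [local instance] HasDerivedCategory.standard
open Dual3

namespace Groth.Agent.S3633

/-- Let i : Z → X be a closed immersion with X locally Noetherian and R Hom(O_Z, -) : D^+(O_X) →
D^+(O_Z) the right derived functor of the right adjoint of i_* (injective resolutions assumed). If K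
in D^+(O_X) has coherent cohomology sheaves then so does R Hom(O_Z, K). -/
theorem result (Z X : Scheme.{u}) [IsLocallyNoetherian X] (i : Z ⟶ X) [IsClosedImmersion i] [Dual3.HasHomO i] [EnoughInjectives X.Modules] (K : DerivedCategory.Plus X.Modules) (hK : DCoh.IsCohD K.obj) : DCoh.IsCohD ((Dual3.RHomOPlus i).obj K).obj := by
  haveI := Dual349.preservesFiniteColimits_push i
  haveI := Dual349.preservesFiniteLimits_push i
  haveI : EnoughInjectives Z.Modules := inferInstance
  haveI := LocallyOfFiniteType.isLocallyNoetherian i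
  obtain ⟨n, hn⟩ := K.property
  haveI : K.obj.IsGE n := hn
  haveI : (DerivedCategory.Plus.ι.obj K).IsGE n := hn
  obtain ⟨e⟩ := Dual349.nonempty_RHomOPlus_iso i
  refine KFlatLib.isCohD_of_iso (e.app K).symm ?_
  obtain ⟨E, _, _, ⟨eE⟩, ⟨ψ⟩⟩ := Dual349.nonempty_RHomO_obj i K.obj
  have hpc := Dual349.isPseudoCoherent_pushUnit i
  haveI : (DCoh.toD X E).IsLE 0 := (DerivedCategory.isLE_iff _ _).2 fun j hj =>
    (DerivedCategory.isZero_of_isLE _ 0 j hj).of_iso ((DerivedCategory.homologyFunctor X.Modules j).mapIso eE)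
  have hE : DCoh.IsCohD (DCoh.toD X E) := fun j => KFlatLib.isCoh_of_locPC
    (KFlatLib.isQCohD_of_iso eE.symm fun k => KFlatLib.isQCoh_HD_of_pseudoCoherent (hpc (k - 1)) k (by omega))
    (((KFlatLib.isPseudoCoherentD_iff _ _).1 (hpc j)).of_iso eE.symm) j le_rfl
  exact Dual349.isCohD_of_pushD i (KFlatLib.isCohD_of_iso ψ.symm (S1116.result X E 0 hE K.obj n hK).1)

end Groth.Agent.S3633
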