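import Groth.Statements.S3639
import Groth.Agent.Dual349.DivisorRHom
-- import your own Groth.Agent.* helpers here

set_option autoImplicit false
set_option linter.style.haveILetI false
set_option backward.isDefEq.respectTransparency false
universe u
open CategoryTheory CategoryTheory.Limits AlgebraicGeometry
attribute [local instance] HasDerivedCategory.standard
open Dual3

namespace Groth.Agent.S3639

/-- Let X be a scheme and D ⊆ X an effective Cartier divisor, given by its ideal sheaf I (locally
generated by one nonzerodivisor) with closed immersion i : D → X; let L be an O_X-module inverse to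
I for the tensor product (the module O_X(D)) and N = i^*L the normal sheaf. Let R Hom(O_D, -) :
D^+(O_X) → D^+(O_D) be the right derived functor of the right adjoint of i_* (assumed to exist,
injective resolutions assumed) and O an object of D^+(O_X) isomorphic to the structure sheaf in
degree 0. Then H^j(R Hom(O_D, O)) = 0 for j ≠ 1 and H^1(R Hom(O_D, O)) is isomorphic to N; that is,
R Hom(O_D, O_X) = N[-1]. -/
theorem result (X : Scheme.{u}) (I : X.IdealSheafData) (hI : BlowUp.IsEffCartierIdeal I) [Dual3.HasHomO I.subschemeι] [EnoughInjectives X.Modules] (L : X.Modules) (hL : ClSub.IsInverseOf L (ClSub.idealMod I)) (O : DerivedCategory.Plus X.Modules) (hO : Nonempty (O.obj ≅ DCoh.inD X (Coh.structureModule X))) : (∀ j : ℤ, j ≠ 1 → IsZero (DCoh.HD ((Dual3.RHomOPlus I.subschemeι).obj O).obj j)) ∧ Nonempty (DCoh.HD ((Dual3.RHomOPlus I.subschemeι).obj O).obj 1 ≅ (Scheme.Modules.pullback I.subschemeι).obj L) := by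
  let i := I.subschemeι
  let N := (Scheme.Modules.pullback i).obj L
  let OZ := Coh.structureModule I.subscheme
  haveI := Groth.Agent.KFlatLib.hasLpull i
  haveI := Groth.Agent.KFlatLib.hasLTensorMod N
  have hL' := Groth.Agent.Dual349.Divisor.isInvertible_inverse hI hL
  have hN := Groth.Agent.FMAux.isFlat_of_isInvertible (Groth.Agent.PicClLib.isInvertible_pullback i hL')
  obtain ⟨e⟩ := Groth.Agent.Dual349.Divisor.nonempty_RHomOPlus_divisor I hL hL'
  obtain ⟨eO⟩ := hO
  let S := (HomologicalComplex.single X.Modules (ComplexShape.up ℤ) 0).obj (Coh.structureModule X)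
  haveI : CochainComplex.IsStrictlyLE S 0 := (CochainComplex.isStrictlyLE_iff _ 0).2
    fun j hj => HomologicalComplex.isZero_single_obj_X (ComplexShape.up ℤ) 0 _ j (by omega)
  have hS : DCoh.IsKFlat S := Groth.Agent.KFlatLib.isKFlat_of_isStrictlyLE S 0
    (Groth.Agent.KFlatLib.isFlat_single 0 Groth.Agent.KFlatLib.isFlat_structureModule)
  haveI : IsIso (SheafOfModules.pullbackObjUnitToUnit i.toRingCatSheafHom) := inferInstance
  let uO : (Scheme.Modules.pullback i).obj (Coh.structureModule X) ≅ OZ :=
    asIso (SheafOfModules.pullbackObjUnitToUnit i.toRingCatSheafHom)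
  let uN : (DCoh.tensorRightMod N).obj OZ ≅ N :=
    (((Groth.Agent.KFlatLib.tensorBiFlipIso I.subscheme).app OZ).app N).symm ≪≫
      (Groth.Agent.KFlatLib.tensorStructureIso I.subscheme).app N
  let SZ := HomologicalComplex.single I.subscheme.Modules (ComplexShape.up ℤ) 0
  let c : (DCoh.LTensorMod N).obj ((DCoh.Lpull i).obj (DCoh.inD X (Coh.structureModule X))) ≅
      DCoh.inD I.subscheme N :=
    (DCoh.LTensorMod N).mapIso ((DCoh.Lpull i).mapIso
        ((DerivedCategory.singleFunctorIsoCompQ X.Modules 0).app _) ≪≫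
      Groth.Agent.KFlatLib.lpullIso i hS ≪≫ DerivedCategory.Q.mapIso
        ((HomologicalComplex.singleMapHomologicalComplex (Scheme.Modules.pullback i) _ 0).app _ ≪≫
          SZ.mapIso uO)) ≪≫
      (Groth.Agent.FMAux.ltensorFlatIso N hN).app (SZ.obj OZ) ≪≫
      DerivedCategory.Q.mapIso
        ((HomologicalComplex.singleMapHomologicalComplex (DCoh.tensorRightMod N) _ 0).app OZ ≪≫ SZ.mapIso uN) ≪≫
      ((DerivedCategory.singleFunctorIsoCompQ I.subscheme.Modules 0).app N).symm
  let r : ((Dual3.RHomOPlus i).obj O).obj ≅ (DCoh.inD I.subscheme N)⟦(-1 : ℤ)⟧ :=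
    e.app O ≪≫ (shiftFunctor _ (-1 : ℤ)).mapIso
      ((DCoh.LTensorMod N).mapIso ((DCoh.Lpull i).mapIso eO) ≪≫ c)
  let r' : ((Dual3.RHomOPlus i).obj O).obj ≅ (DerivedCategory.singleFunctor I.subscheme.Modules 1).obj N :=
    r ≪≫ ((DerivedCategory.singleFunctors I.subscheme.Modules).shiftIso (-1 : ℤ) 1 0 (by omega)).app N
  refine ⟨fun j hj => ?_, ⟨(DerivedCategory.homologyFunctor _ 1).mapIso r' ≪≫
    (DerivedCategory.singleFunctorCompHomologyFunctorIso I.subscheme.Modules 1).app N⟩⟩
  refine IsZero.of_iso ?_ ((DerivedCategory.homologyFunctor _ j).mapIso r')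
  rcases lt_or_gt_of_ne hj with h | h
  · exact DerivedCategory.isZero_of_isGE ((DerivedCategory.singleFunctor I.subscheme.Modules 1).obj N) 1 j h
  · exact DerivedCategory.isZero_of_isLE ((DerivedCategory.singleFunctor I.subscheme.Modules 1).obj N) 1 j h

end Groth.Agent.S3639
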