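import Groth.Statements.S3670
import Groth.Agent.Dual349.GorSlice
-- import your own Groth.Agent.* helpers here

set_option autoImplicit false
universe u
open CategoryTheory CategoryTheory.Limits AlgebraicGeometry
attribute [local instance] HasDerivedCategory.standard
open Dual3

namespace Groth.Agent.S3670

/-- (1) ⇔ (2) ⇔ (3) ⇔ (4): Let f : X → S be flat and locally of finite presentation, x a point of X and
d = dim_x(X_{f(x)}) the local dimension of its fibre. Then the following are equivalent: (1) f is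
Gorenstein at x; (2) there are an open neighbourhood U of x and a locally quasi-finite morphism g :
U → A^d_S over S which is Gorenstein at x; (3) there are an open neighbourhood U of x and a locally
quasi-finite Gorenstein morphism g : U → A^d_S over S; (4) for every open neighbourhood U of x and
every morphism g : U → A^d_S over S, if x is isolated in its fibre under g (g is quasi-finite at x)
then g is Gorenstein at x. -/
theorem result (X S : Scheme.{u}) (f : X ⟶ S) [Flat f] [LocallyOfFinitePresentation f] (x : X) (d : ℕ) (hd : Dual3.localFibreDim f x = (d : WithBot ℕ∞)) : (Dual3.IsGorensteinAt f x ↔ ∃ (U : X.Opens) (hx : x ∈ U) (g : (U : Scheme.{u}) ⟶ AffineSpace (ULift.{u} (Fin d)) S), g ≫ (AffineSpace (ULift.{u} (Fin d)) S ↘ S) = U.ι ≫ f ∧ LocallyQuasiFinite g ∧ Dual3.IsGorensteinAt g ⟨x, hx⟩) ∧ (Dual3.IsGorensteinAt f x ↔ ∃ (U : X.Opens) (_ : x ∈ U) (g : (U : Scheme.{u}) ⟶ AffineSpace (ULift.{u} (Fin d)) S), g ≫ (AffineSpace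 (ULift.{u} (Fin d)) S ↘ S) = U.ι ≫ f ∧ LocallyQuasiFinite g ∧ Dual3.IsGorensteinMor g) ∧ (Dual3.IsGorensteinAt f x ↔ ∀ (U : X.Opens) (hx : x ∈ U) (g : (U : Scheme.{u}) ⟶ AffineSpace (ULift.{u} (Fin d)) S), g ≫ (AffineSpace (ULift.{u} (Fin d)) S ↘ S) = U.ι ≫ f → Dual3.QuasiFiniteAt g ⟨x, hx⟩ → Dual3.IsGorensteinAt g ⟨x, hx⟩) := by
  have h23 : ∀ (U : X.Opens) (hx : x ∈ U) (g : (U : Scheme.{u}) ⟶ AffineSpace (ULift.{u} (Fin d)) S),
      g ≫ (AffineSpace (ULift.{u} (Fin d)) S ↘ S) = U.ι ≫ f → Dual3.IsGorensteinAt g ⟨x, hx⟩ →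
        Dual3.IsGorensteinAt f x := fun U hx g hg hG =>
    (Groth.Agent.Dual349.GorSlice.iff_of_flat f U g hg ⟨x, hx⟩ hG.1).2 hG
  refine ⟨⟨fun h => ?_, fun ⟨U, hx, g, hg, _, hG⟩ => h23 U hx g hg hG⟩,
    ⟨fun h => Groth.Agent.Dual349.GorSlice.exists_gorenstein_chart f x hd h,
      fun ⟨U, hx, g, hg, _, hG⟩ => h23 U hx g hg (hG ⟨x, hx⟩)⟩,
    ⟨fun h U hx g hg hqf => Groth.Agent.Dual349.GorSlice.gor_of_quasiFiniteAt f x hd h U hx g hg hqf, fun h => ?_⟩⟩
  · obtain ⟨U, hx, g, hg, hqf, hG⟩ := Groth.Agent.Dual349.GorSlice.exists_gorenstein_chart f x hd h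
    exact ⟨U, hx, g, hg, hqf, hG ⟨x, hx⟩⟩
  · obtain ⟨U, hx, g, hg, hqf⟩ := Groth.Agent.Dual349.GorSlice.exists_quasiFinite_chart f x hd
    exact h23 U hx g hg (h U hx g hg hqf)

end Groth.Agent.S3670
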