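import Groth.Statements.S3731
import Groth.Agent.H9Misc.TFactor

set_option autoImplicit false
universe u v
open CategoryTheory CategoryTheory.Limits
attribute [local instance] HasDerivedCategory.standard
open EtDl

namespace Groth.Agent.S3731

open Pretriangulated DerivedCategory

set_option linter.style.haveILetI false

local notation "tS" => (DerivedCategory.TStructure.t)

/-- after `m` ghost maps a morphism out of an object in degrees `< k` lands in degrees `< k - m` -/
theorem lands {A : Type u} [Category.{v} A] [Abelian A] (k N : ℕ)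
    (K : ComposableArrows (DerivedCategory A) N)
    (hf : ∀ (i : ℕ) (hi : i < N) (p : ℤ), p < (k : ℤ) →
      (DerivedCategory.homologyFunctor A p).map (K.map' i (i + 1)) = 0)
    (W : DerivedCategory A) [W.IsLE ((k : ℤ) - 1)] (w : W ⟶ K.obj' 0) :
    ∀ (m : ℕ) (hm : m ≤ N), ∃ (Z : DerivedCategory A) (_ : Z.IsLE ((k : ℤ) - 1 - m)) (a : W ⟶ Z)
      (b : Z ⟶ K.obj' m), a ≫ b = w ≫ K.map' 0 m := by
  intro m
  induction m with
  | zero =>
    intro _
    have : W.IsLE ((k : ℤ) - 1 - (0 : ℕ)) := by simpa using ‹W.IsLE ((k : ℤ) - 1)›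
    refine ⟨W, this, 𝟙 W, w, ?_⟩
    have e : K.map' 0 0 = 𝟙 (K.obj' 0) := K.map_id _
    rw [e, Category.id_comp]
    exact (Category.comp_id w).symm
  | succ m ih =>
    intro hm
    obtain ⟨Z, hZ, a, b, hab⟩ := ih (by omega)
    obtain ⟨g, hg⟩ := H9Misc.exists_lift_truncLT ((k : ℤ) - 1 - m) (b ≫ K.map' m (m + 1))
      (by rw [Functor.map_comp, hf m (by omega) _ (by omega), comp_zero])
    have : (((tS).truncLT ((k : ℤ) - 1 - m)).obj (K.obj' (m + 1))).IsLE ((k : ℤ) - 1 - (m + 1 : ℕ)) := by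
      rw [show (k : ℤ) - 1 - (m + 1 : ℕ) = (k : ℤ) - 1 - m - 1 by omega]
      exact (tS).isLE_truncLT_obj ..
    refine ⟨_, this, a ≫ g, ((tS).truncLTι ((k : ℤ) - 1 - m)).app _, ?_⟩
    have e : K.map' 0 (m + 1) = K.map' 0 m ≫ K.map' m (m + 1) := K.map_comp _ _
    rw [Category.assoc, hg, e, ← Category.assoc, hab, Category.assoc]

/-- Let A be an abelian category, k ≥ 0, and K_0 -> K_1 -> ... -> K_{2k} a chain of 2k morphisms in the
derived category of A such that every K_i has H^p(K_i) = 0 for p outside [0, k] and every morphism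
K_i -> K_{i+1} induces the zero map on H^p for all p < k. Let π : K_0 -> H^k(K_0)[-k] be the
morphism to the top cohomology object placed in degree k that induces the identity on H^k. Then the
composite K_0 -> K_{2k} factors through π. -/
theorem result {A : Type u} [Category.{v} A] [Abelian A] (k : ℕ)
    (K : ComposableArrows (DerivedCategory A) (2 * k))
    (hK : ∀ (i : ℕ) (hi : i ≤ 2 * k) (p : ℤ), p < 0 ∨ (k : ℤ) < p →
      IsZero ((DerivedCategory.homologyFunctor A p).obj (K.obj' i)))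
    (hf : ∀ (i : ℕ) (hi : i < 2 * k) (p : ℤ), p < (k : ℤ) →
      (DerivedCategory.homologyFunctor A p).map (K.map' i (i + 1)) = 0)
    (π : K.obj' 0 ⟶ (DerivedCategory.singleFunctor A (k : ℤ)).obj
      ((DerivedCategory.homologyFunctor A (k : ℤ)).obj (K.obj' 0)))
    (hπ : (DerivedCategory.homologyFunctor A (k : ℤ)).map π ≫
      (DerivedCategory.singleFunctorCompHomologyFunctorIso A (k : ℤ)).hom.app
        ((DerivedCategory.homologyFunctor A (k : ℤ)).obj (K.obj' 0)) = 𝟙 _) :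
    ∃ φ : (DerivedCategory.singleFunctor A (k : ℤ)).obj
        ((DerivedCategory.homologyFunctor A (k : ℤ)).obj (K.obj' 0)) ⟶ K.obj' (2 * k),
      K.map' 0 (2 * k) = π ≫ φ := by
  have hle : ∀ (i : ℕ) (hi : i ≤ 2 * k), (K.obj' i).IsLE (k : ℤ) := fun i hi =>
    (isLE_iff _ _).2 fun p hp => hK i hi p (Or.inr hp)
  have hge : ∀ (i : ℕ) (hi : i ≤ 2 * k), (K.obj' i).IsGE 0 := fun i hi =>
    (isGE_iff _ _).2 fun p hp => hK i hi p (Or.inl hp)
  have := hle 0 (Nat.zero_le _)
  have := hge (2 * k) le_rfl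
  have hW : ((TStructure.t.truncLT (k : ℤ)).obj (K.obj' 0 (Nat.zero_le _))).IsLE ((k : ℤ) - 1) :=
    TStructure.t.isLE_truncLT_obj ..
  obtain ⟨Z, hZ, a, b, hab⟩ := lands k (2 * k) K hf _ ((TStructure.t.truncLTι (k : ℤ)).app (K.obj' 0 (Nat.zero_le _)))
    (2 * k) le_rfl
  have hb : b = 0 := TStructure.t.zero_of_isLE_of_isGE b _ 0 (by omega) hZ this
  have h0 : (TStructure.t.truncLTι (k : ℤ)).app (K.obj' 0 (Nat.zero_le _)) ≫ K.map' 0 (2 * k) = 0 := by
    rw [← hab, hb, comp_zero]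
  obtain ⟨g, hg⟩ := Triangle.yoneda_exact₂ _ (TStructure.t.triangleLTGE_distinguished (k : ℤ) (K.obj' 0 (Nat.zero_le _))) _ h0
  have hT : ((TStructure.t.truncGE (k : ℤ)).obj (K.obj' 0 (Nat.zero_le _))).IsGE k := TStructure.t.isGE_truncGE_obj ..
  have hT' : ((TStructure.t.truncGE (k : ℤ)).obj (K.obj' 0 (Nat.zero_le _))).IsLE k := inferInstance
  have h1 : (TStructure.t.truncLTι (k : ℤ)).app (K.obj' 0 (Nat.zero_le _)) ≫ π = 0 :=
    TStructure.t.zero_of_isLE_of_isGE _ ((k : ℤ) - 1) k (by omega) hW inferInstance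
  obtain ⟨e, he⟩ := Triangle.yoneda_exact₂ _ (TStructure.t.triangleLTGE_distinguished (k : ℤ) (K.obj' 0 (Nat.zero_le _))) _ h1
  suffices key : ∀ e : (TStructure.t.truncGE (k : ℤ)).obj (K.obj' 0 (Nat.zero_le _)) ⟶ (DerivedCategory.singleFunctor A (k : ℤ)).obj
      ((DerivedCategory.homologyFunctor A (k : ℤ)).obj (K.obj' 0 (Nat.zero_le _))),
      π = (TStructure.t.truncGEπ (k : ℤ)).app (K.obj' 0 (Nat.zero_le _)) ≫ e → IsIso e from by
    haveI hei : IsIso e := key e he
    refine ⟨inv e ≫ g, ?_⟩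
    rw [hg, he]
    exact ((Category.assoc _ _ _).trans (congrArg (_ ≫ ·) (IsIso.hom_inv_id_assoc e g))).symm
  intro e he
  have hk : IsIso ((homologyFunctor A (k : ℤ)).map e) := by
    have := H9Misc.isIso_map_truncGEπ (k : ℤ) k le_rfl (K.obj' 0 (Nat.zero_le _))
    have hi : IsIso ((homologyFunctor A (k : ℤ)).map π) := IsIso.of_isIso_fac_right hπ
    rw [he, Functor.map_comp] at hi
    exact IsIso.of_isIso_comp_left ((homologyFunctor A (k : ℤ)).map ((TStructure.t.truncGEπ (k : ℤ)).app (K.obj' 0 (Nat.zero_le _)))) _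
  rw [DerivedCategory.isIso_iff]
  intro i
  rcases lt_trichotomy i (k : ℤ) with hi | rfl | hi
  · exact isIso_of_source_target_iso_zero _ (isZero_of_isGE ((TStructure.t.truncGE (k : ℤ)).obj (K.obj' 0 (Nat.zero_le _))) k i hi).isoZero
      (isZero_of_isGE _ (k : ℤ) i hi).isoZero
  · exact hk
  · exact isIso_of_source_target_iso_zero _ (isZero_of_isLE ((TStructure.t.truncGE (k : ℤ)).obj (K.obj' 0 (Nat.zero_le _))) k i hi).isoZero
      (isZero_of_isLE _ (k : ℤ) i hi).isoZero

end Groth.Agent.S3731
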