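import Groth.Statements.S3743
import Groth.Agent.KRRLib.Ample
-- import your own Groth.Agent.* helpers here

set_option autoImplicit false
universe v u
open CategoryTheory CategoryTheory.Limits AlgebraicGeometry
attribute [local instance] HasDerivedCategory.standard
open KRR
open Groth.Agent

namespace Groth.Agent.S3743

/-- Let X be a connected Noetherian scheme and (K, P, φ) a model of the λ-ring K(X) of finite locally
free modules with its positive structure (classes of bundles, augmentation = rank). If L is an ample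
invertible O_X-module, then u = [L] is an ample line element of K(X): u is a line element and for
every x ∈ K(X) and all sufficiently large n, u^n x is a positive element minus a natural number. -/
theorem result (X : Scheme.{u}) [IsNoetherian X] [ConnectedSpace ↥X]
    (K : Type v) [CommRing K] [LambdaRing.LambdaOps K] (P : LambdaRing.PosStructure K) (φ : SGA6.Kvb X →+ K) (hK : KRR.IsModel X K P φ)
    (L : X.Modules) (hL : CohB1.IsAmple L) :
    KRR.IsAmpleElt P (φ (KRR.cl X L)) := by
  refine ⟨KRRLib.isLine_of_rank_one hK (InvEnd.isFinLocFreeOfRank_one hL.1), fun x => ?_⟩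
  obtain ⟨E, F, hE, hF, rfl⟩ := KRRLib.exists_repr hK x
  obtain ⟨n₀, hn₀⟩ := KRRLib.exists_quotient_free hL hF
  refine ⟨n₀, fun n hn => ?_⟩
  obtain ⟨N, Q, hQ, hNQ⟩ := hn₀ n hn
  have hLn := KRRLib.flf_tensorPow (KRRLib.flf_of_invertible hL.1) n
  have h1 : FlatMod.IsFinLocFree (FlatMod.freeMod X 1) := KFlatLib.isFinLocFree_freeMod 1
  have hEQ := KRRLib.flf_biprod (KRRLib.flf_tensor hE hLn) hQ
  obtain ⟨r, hr⟩ := KRRLib.exists_rank (KRRLib.flf_biprod hEQ h1)
  have hsum : φ (KRR.cl X ((DCoh.tensorBi.obj F).obj (CohB1.tensorPow L n))) + φ (KRR.cl X Q) = (N : K) := by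
    rw [← KRRLib.phi_freeMod hK N, hNQ, map_add, add_comm]
  have heq := KRRLib.phi_biprod (φ := φ) hEQ h1
  rw [KRRLib.phi_biprod (φ := φ) (KRRLib.flf_tensor hE hLn) hQ, KRRLib.phi_freeMod hK 1, Nat.cast_one] at heq
  refine ⟨_, N + 1, KRRLib.mem_pos_of_rank hK ?_ hr, ?_⟩
  · obtain ⟨a, ha⟩ := KRRLib.exists_rank hEQ
    have := congrArg P.aug heq
    obtain ⟨b, hb⟩ := KRRLib.exists_rank (KRRLib.flf_tensor hE hLn)
    obtain ⟨c, hc⟩ := KRRLib.exists_rank hQ
    rw [map_add, map_add, map_one, hK.aug_cl r _ hr, hK.aug_cl b _ hb, hK.aug_cl c _ hc] at this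
    omega
  · rw [heq, ← hK.map_mul E _ hE hLn, KRRLib.phi_tensorPow hK (KRRLib.flf_of_invertible hL.1) n]
    rw [← hK.map_mul F _ hF hLn, KRRLib.phi_tensorPow hK (KRRLib.flf_of_invertible hL.1) n] at hsum
    push_cast
    rw [← hsum]
    ring

end Groth.Agent.S3743
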