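import Groth.Statements.S3825
import Groth.Agent.Synt29.QRDescent
import Groth.Agent.LinType.QReg
import Mathlib
-- import your own Groth.Agent.* helpers here

set_option autoImplicit false
universe u
open QReg16

namespace Groth.Agent.S3825

/-- a) iff c) (affine local form): let A be a local ring and I a proper ideal generated by some
quasi-regular sequence. For a finite family (f_i) of elements of I, the following are equivalent:
(a) (f_i) is a quasi-regular sequence generating I; (c) the classes of the f_i form a basis of the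
A/I-module I/I² (equivalently, b): (f_i) is a minimal system of generators of I). -/
theorem result {A : Type u} [CommRing A] [IsLocalRing A]
    (I : Ideal A) (hI : I ≤ IsLocalRing.maximalIdeal A)
    (hq : ∃ (r : ℕ) (g : Fin r → A), CAlgX.IsQuasiRegular g ∧ Ideal.span (Set.range g) = I)
    {m : ℕ} (f : Fin m → I) :
    (CAlgX.IsQuasiRegular (fun i => (f i : A)) ∧ Ideal.span (Set.range fun i => (f i : A)) = I) ↔
      (LinearIndependent (A ⧸ I) (fun i => I.toCotangent (f i)) ∧
        Submodule.span (A ⧸ I) (Set.range fun i => I.toCotangent (f i)) = ⊤) := by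
  classical
  have hcot : ∀ a : Fin m → A, ∑ i, (Ideal.Quotient.mk I (a i)) • I.toCotangent (f i) =
      I.toCotangent (∑ i, a i • f i) := fun a => by
    rw [map_sum]
    exact Finset.sum_congr rfl fun i _ => (map_smul I.toCotangent (a i) (f i)).symm
  constructor
  · rintro ⟨hf, hspan⟩
    constructor
    · rw [Fintype.linearIndependent_iff]
      intro a ha i
      choose b hb using fun i => Ideal.Quotient.mk_surjective (a i)
      simp only [← hb] at ha ⊢
      rw [hcot, Ideal.toCotangent_eq_zero] at ha
      have h1 := hf 1 (∑ j, MvPolynomial.C (b j) * MvPolynomial.X j)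
        (MvPolynomial.IsHomogeneous.sum _ _ _ fun j _ => (MvPolynomial.isHomogeneous_X A j).C_mul _)
        (by rw [hspan]; simpa using ha) (Finsupp.single i 1)
      rw [hspan] at h1
      refine Ideal.Quotient.eq_zero_iff_mem.2 ?_
      simpa [MvPolynomial.coeff_sum, MvPolynomial.coeff_C_mul, MvPolynomial.coeff_X',
        Finsupp.single_left_inj] using h1
    · rw [eq_top_iff]
      intro y _
      obtain ⟨⟨x, hx⟩, rfl⟩ := I.toCotangent_surjective y
      obtain ⟨c, hc⟩ := Ideal.mem_span_range_iff_exists_fun.1 (hspan.ge hx)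
      rw [show (⟨x, hx⟩ : I) = ∑ i, c i • f i from Subtype.ext (by simp [hc]), ← hcot]
      exact Submodule.sum_mem _ fun i _ => Submodule.smul_mem _ _ (Submodule.subset_span ⟨i, rfl⟩)
  · rintro ⟨hli, hsp⟩
    obtain ⟨r, g, hg, hgI⟩ := hq
    set J := Ideal.span (Set.range fun i => (f i : A)) with hJ
    have hJI : J ≤ I := Ideal.span_le.2 (Set.range_subset_iff.2 fun i => (f i).2)
    have hle : I ≤ J ⊔ I • I := by
      intro x hx
      obtain ⟨c, hc⟩ := Submodule.mem_span_range_iff_exists_fun (A ⧸ I) |>.1 (hsp.ge (trivial : I.toCotangent ⟨x, hx⟩ ∈ ⊤))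
      choose b hb using fun i => Ideal.Quotient.mk_surjective (c i)
      simp only [← hb] at hc
      rw [hcot, Ideal.toCotangent_eq, sq] at hc
      rw [show x = (x - ∑ i, b i * (f i : A)) + ∑ i, b i * (f i : A) by ring, sup_comm]
      refine Submodule.add_mem_sup ?_ (Ideal.sum_mem _ fun i _ => J.mul_mem_left _ (Ideal.subset_span ⟨i, rfl⟩))
      have := neg_mem hc
      simpa using this
    have hfg : I.FG := hgI ▸ Submodule.fg_span (Set.finite_range g)
    have hJeq : J = I := le_antisymm hJI
      (Submodule.le_of_le_smul_of_le_jacobson_bot hfg (hI.trans (IsLocalRing.maximalIdeal_le_jacobson _)) hle)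
    have hrel : ∀ u : Fin m → A, ∑ i, u i * (f i : A) = 0 → ∀ i, u i ∈ IsLocalRing.maximalIdeal A := by
      intro u hu i
      refine hI (Ideal.Quotient.eq_zero_iff_mem.1 (Fintype.linearIndependent_iff.1 hli (fun i => Ideal.Quotient.mk I (u i)) ?_ i))
      rw [hcot, show ∑ i, u i • f i = 0 from Subtype.ext (by simpa using hu), map_zero]
    obtain rfl : m = r := Synt29.QRDescent.card_eq_of_minimal (IsLocalRing.maximalIdeal A) _ g (hJeq.trans hgI.symm) hrel
      fun u hu i => hI (hgI ▸ Synt29.QRDescent.mem_of_rel hg u hu i)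
    exact ⟨LinType.isQuasiRegular_of_span_eq g _ hg (hJeq.trans hgI.symm), hJeq⟩

end Groth.Agent.S3825
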