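import Groth.Statements.S3839
import Groth.Agent.Div86.Descend.Normal

set_option autoImplicit false
universe u
open CategoryTheory CategoryTheory.Limits AlgebraicGeometry TopologicalSpace
open Div21

namespace Groth.Agent.S3839

/-- Case of effective divisors: let f : X → Y be a faithfully flat morphism between locally Noetherian
schemes, with f quasi-compact or open; assume Y is normal and that the fibre X_y is integral
whenever y is a point of Y whose local ring has dimension 1. An effective Cartier divisor D' on X
with ideal sheaf 𝓙 is then the pullback of some effective Cartier divisor on Y if and only if, at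
each maximal point η of Y, the pullback of D' to the fibre X_η is zero (its ideal is the unit
ideal). -/
theorem result {X Y : Scheme.{u}} [IsLocallyNoetherian X]
    [IsLocallyNoetherian Y] (f : X ⟶ Y) [Flat f] [Surjective f] (hf : QuasiCompact f ∨ IsOpenMap f)
    (hY : Pi1.IsNormalScheme Y)
    (hfib : ∀ y : ↥Y, ringKrullDim ↑(Y.presheaf.stalk y) = 1 → IsIntegral (f.fiber y))
    (𝓙 : X.IdealSheafData) (hJ : BlowUp.IsEffCartierIdeal 𝓙) :
    (∃ 𝓘 : Y.IdealSheafData, BlowUp.IsEffCartierIdeal 𝓘 ∧ 𝓘.comap f = 𝓙) ↔
      ∀ η : ↥Y, (∀ z : ↥Y, z ⤳ η → z = η) → 𝓙.comap (f.fiberι η) = ⊤ := by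
  refine ⟨fun ⟨_, hI, h⟩ η hη => ?_, fun h => Div86.Descend.exists_descend_divisor f hJ (fun y hy => ?_) hf⟩
  · haveI := (hY η).1
    exact Div86.Descend.fibre_eq_top_of_comap f hI h hη
  · haveI := (hY y).1
    haveI := (hY y).2
    exact Div86.Descend.loc_of_trivial f hJ (fun x hx => Div86.Descend.stI_eq_top_of_fibre f (h _ hx) rfl) y hy
      (fun hd => by haveI := hfib y hd; exact Div86.Descend.isPrime_map_of_isIntegral_fiber f)
      (fun hd => by haveI := hfib y hd; exact Div86.Descend.exists_generic_of_isIntegral_fiber f)

end Groth.Agent.S3839
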