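import Groth.Statements.S3897
import Groth.Agent.EtFound.OpenSubterminal
import Groth.Agent.EtFound.Detect
import Groth.Agent.EtFound.PushImm
import Mathlib.CategoryTheory.Comma.Over.Pullback

set_option backward.isDefEq.respectTransparency false
set_option backward.isDefEq.respectTransparency.types false

set_option autoImplicit false
open CategoryTheory CategoryTheory.Limits AlgebraicGeometry Opposite
universe u
open EtDesc

namespace Groth.Agent.S3897

variable {X : Scheme.{u}}

private theorem isEquivalence_of_counit {C D : Type*} [Category* C] [Category* D] {L : C ⥤ D} {R : D ⥤ C}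
    (adj : L ⊣ R) [∀ Y, IsIso (adj.counit.app Y)] [L.ReflectsIsomorphisms] : L.IsEquivalence := by
  haveI : ∀ Z, IsIso (adj.unit.app Z) := fun Z => by
    haveI : IsIso (L.map (adj.unit.app Z)) :=
      isIso_of_comp_hom_eq_id (adj.counit.app (L.obj Z)) (adj.left_triangle_components Z)
    exact isIso_of_reflects_iso _ L
  exact adj.toEquivalence.isEquivalence_functor

private theorem subsingleton_repSh (U : X.Opens) (V : X.Etaleᵒᵖ) :
    Subsingleton ((EtDesc.repSh (EtDesc.ofOpen U)).obj.obj V) := by
  have := EtFound.subsingleton_openPre U V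
  refine Function.Injective.subsingleton (f := ((EtFound.repShOpenIso U).hom.hom.app V)) ?_
  exact ((isIso_iff_bijective _).1 (inferInstanceAs
    (IsIso (((sheafToPresheaf _ _ ⋙ (evaluation _ (Type (u + 1))).obj V).mapIso (EtFound.repShOpenIso U)).hom)))).1

variable {Ω : Type u} [Field Ω] [IsSepClosed Ω]

private theorem snd_bijective (U : X.Opens) (ζ : Spec (CommRingCat.of Ω) ⟶ (U : Scheme.{u})) (Y : EtDesc.Sh X) :
    Function.Bijective ((Scheme.pointSmallEtale (ζ ≫ U.ι)).sheafFiber.map
      (prod.snd : (EtDesc.repSh (EtDesc.ofOpen U)) ⨯ Y ⟶ Y)) := by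
  let P := Scheme.pointSmallEtale (ζ ≫ U.ι)
  let S := EtDesc.repSh (EtDesc.ofOpen U)
  let π : S ⨯ Y ⟶ Y := prod.snd
  let G : ∀ W : X.Etale, EtDesc.Sh X ⥤ Type (u + 1) := fun W =>
    sheafToPresheaf X.smallEtaleTopology (Type (u + 1)) ⋙ (evaluation _ (Type (u + 1))).obj (op W)
  refine ⟨?_, fun q => ?_⟩
  · haveI : Presheaf.IsLocallyInjective X.smallEtaleTopology π.hom :=
      Presheaf.isLocallyInjective_of_injective _ _ fun W a b hab => by
        let hl := mapIsLimitOfPreservesOfIsLimit (G W.unop) _ _ (prodIsProd S Y)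
        refine ConcreteCategory.congr_hom (hl.hom_ext (f := (↾fun _ => a : PUnit.{u + 2} ⟶ _))
          (f' := ↾fun _ => b) ?_) PUnit.unit
        rintro ⟨_ | _⟩
        · ext
          exact (subsingleton_repSh U W).elim _ _
        · ext
          exact hab
    exact P.toPresheafFiber_map_injective π.hom
  · obtain ⟨V, v, z, rfl⟩ := P.toPresheafFiber_jointly_surjective (A := Type (u + 1)) (P := Y.obj) q
    let u₀ : P.fiber.obj (EtDesc.ofOpen U) := CategoryTheory.Over.homMk ζ rfl
    obtain ⟨⟨W, w⟩, ⟨a, ha⟩, ⟨b, -⟩, -⟩ := IsCofilteredOrEmpty.cone_objs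
      (P.fiber.elementsMk V v) (P.fiber.elementsMk _ u₀)
    let t : S.obj.obj (op W) :=
      (EtFound.repShOpenIso U).inv.hom.app (op W) (ULift.up b)
    let hl := mapIsLimitOfPreservesOfIsLimit (G W) _ _ (prodIsProd S Y)
    let c : BinaryFan ((G W).obj S) ((G W).obj Y) :=
      BinaryFan.mk (P := PUnit.{u + 2}) (↾fun _ => t) (↾fun _ => Y.obj.map a.op z)
    refine ⟨P.toPresheafFiber W w (S ⨯ Y).obj (hl.lift c PUnit.unit), ?_⟩
    refine (P.toPresheafFiber_naturality_apply π.hom W w _).trans ?_
    refine Eq.trans ?_ ((P.toPresheafFiber_w_apply a w Y.obj z).trans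
      (congrArg (fun v' : P.fiber.obj V => P.toPresheafFiber V v' Y.obj z) ha))
    exact congrArg _ (ConcreteCategory.congr_hom (hl.fac c ⟨WalkingPair.right⟩) PUnit.unit)

/-- Let U be a Zariski open of the scheme X, with open immersion j : U -> X and attached subterminal
etale sheaf of sets U~ on X. Then the functor from sheaves of sets on X over U~ to sheaves of sets
on U, (F -> U~) ↦ j^* F, is an equivalence of categories. -/
theorem result (X : Scheme.{u}) (U : X.Opens) :
    (Over.forget (EtDesc.repSh (EtDesc.ofOpen U)) ⋙ EtDesc.pullSh U.ι).IsEquivalence := by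
  let S := EtDesc.repSh (EtDesc.ofOpen U)
  let adj := (CategoryTheory.Over.forgetAdjStar S).comp (EtDesc.adjSh U.ι)
  haveI : ∀ H, IsIso (adj.counit.app H) := fun H => by
    rw [Adjunction.comp_counit_app]
    haveI : IsIso ((EtDesc.adjSh U.ι).counit.app H) :=
      EtFound.counit_isIso U.ι (EtFound.liftable_of_isOpenImmersion U.ι) (A := Type (u + 1)) H
    haveI : IsIso ((EtDesc.pullSh U.ι).map
        ((CategoryTheory.Over.forgetAdjStar S).counit.app ((EtDesc.pushSh U.ι).obj H))) := by
      rw [CategoryTheory.Over.forgetAdjStar_counit_app]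
      refine EtFound.isIso_of_stalks (A := Type (u + 1)) _ fun Ω _ _ ζ => ?_
      rw [← isIso_iff_bijective]
      haveI := (isIso_iff_bijective _).2 (snd_bijective U ζ ((EtDesc.pushSh U.ι).obj H))
      exact (NatIso.isIso_map_iff (EtFound.sheafFiberPullIso (A := Type (u + 1)) U.ι ζ) _).2 this
    exact IsIso.comp_isIso
  haveI : (CategoryTheory.Over.forget S ⋙ EtDesc.pullSh U.ι).ReflectsIsomorphisms := by
    constructor
    intro F F' φ hφ
    suffices h : IsIso φ.left from
      haveI : IsIso ((CategoryTheory.Over.forget S).map φ) := h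
      isIso_of_reflects_iso φ (CategoryTheory.Over.forget S)
    refine EtFound.isIso_of_stalks (A := Type (u + 1)) _ fun Ω _ _ ξ => ?_
    by_cases hξ : ξ.base default ∈ U
    · obtain ⟨ζ, rfl⟩ := EtFound.exists_lift_open_subterminal U ξ fun y => by rwa [Subsingleton.elim y default]
      rw [← isIso_iff_bijective]
      exact (NatIso.isIso_map_iff (EtFound.sheafFiberPullIso (A := Type (u + 1)) U.ι ζ) φ.left).1
        (inferInstanceAs (IsIso ((Scheme.pointSmallEtale ζ).sheafFiber.map
          ((CategoryTheory.Over.forget S ⋙ EtDesc.pullSh U.ι).map φ))))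
    · haveI he : ∀ G : CategoryTheory.Over S,
          IsEmpty (ToType ((Scheme.pointSmallEtale ξ).presheafFiber.obj G.left.obj)) := fun G => ⟨fun q => by
        obtain ⟨V, v, z, -⟩ := (Scheme.pointSmallEtale ξ).toPresheafFiber_jointly_surjective q
        have hV := (EtFound.nonempty_hom_ofOpen_iff U V).1
          ⟨((EtFound.repShOpenIso U).hom.hom.app (op V) (G.hom.hom.app (op V) z)).down⟩
          ((v.left : Spec (CommRingCat.of Ω) ⟶ V.left).base (default : Spec (CommRingCat.of Ω)))
        refine hξ ?_
        have hw : (v.left : Spec (CommRingCat.of Ω) ⟶ V.left) ≫ V.hom = ξ := CategoryTheory.Over.w v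
        rw [← hw]
        exact hV⟩
      exact ⟨fun a => (he F).elim a, fun b => (he F').elim b⟩
  exact isEquivalence_of_counit adj

end Groth.Agent.S3897
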