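import Groth.Statements.S3951
import Groth.Agent.RedCell22.Orders

set_option autoImplicit false
open CategoryTheory MonoidalCategory CartesianMonoidalCategory MonObj GrpObj AlgebraicGeometry
universe u
open RedSub

namespace Groth.Agent.S3951

/-- Let G be a split reductive S-group (splitting D) and b a system of simple roots of its root datum,
with positive roots R_+ and negative roots R_-. For enumerations e⁻ of R_- and e⁺ of R_+ in any
order, the morphism G_a^{R_-} x_S T x_S G_a^{R_+} ⟶ G given by the ordered product of the root
homomorphisms and the torus is an open immersion, and its image (the big cell) does not depend on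
the chosen orderings. -/
theorem result {S : Scheme.{u}} {G : Over S} [GrpObj G] (D : Red.SplitRed G) (b : D.P.Base)
    {n m : ℕ} (eneg : Fin n → D.idx) (epos : Fin m → D.idx)
    (hneg : RedSub.Enumerates (RedSub.negRoots D.P b) eneg) (hpos : RedSub.Enumerates (RedSub.posRoots D.P b) epos) :
    IsOpenImmersion (RedSub.cellMap D eneg epos).left ∧
      ∀ (eneg' : Fin n → D.idx) (epos' : Fin m → D.idx), RedSub.Enumerates (RedSub.negRoots D.P b) eneg' →
        RedSub.Enumerates (RedSub.posRoots D.P b) epos' →
        Set.range (RedSub.cellMap D eneg' epos').left.base = Set.range (RedSub.cellMap D eneg epos).left.base := by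
  obtain ⟨f, hf⟩ := Groth.Agent.RedCell22.exists_form_base D.P b
  have hl := Groth.Agent.RedCell22.negList_of_enumerates b hf hneg
  have hl' := Groth.Agent.RedCell22.posList_of_enumerates b hf hpos
  refine ⟨Groth.Agent.RedCell22.isOpenImmersion_cell hl hl'
    (fun a => (Groth.Agent.RedCell22.mem_posRoots_iff D.P b hf a).2.2), fun eneg' epos' hneg' hpos' => ?_⟩
  exact Groth.Agent.RedCell22.range_cell_eq hl hl' (Groth.Agent.RedCell22.negList_of_enumerates b hf hneg')
    (Groth.Agent.RedCell22.posList_of_enumerates b hf hpos')

end Groth.Agent.S3951
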