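import Groth.Statements.S3952
import Groth.Agent.RedCell22.BorelFibre
-- import your own Groth.Agent.* helpers here

set_option autoImplicit false
open CategoryTheory MonoidalCategory CartesianMonoidalCategory MonObj GrpObj AlgebraicGeometry
universe u
open RedSub

namespace Groth.Agent.S3952

/-- Let G be a split reductive S-group (splitting D), b a system of simple roots and e an enumeration of
the positive roots in any order. Then the morphism T x_S G_a^{R_+} ⟶ G, (t, x) ↦ i(t) u_{e 0}(x_0) ⋯
u_{e (m-1)}(x_{m-1}), is a closed immersion, and its image is a Borel subgroup of G: there are a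
Borel subgroup B ⟶ G (closed, smooth, with Borel geometric fibres) and an isomorphism of T x_S
G_a^{R_+} with B over G. -/
theorem result {S : Scheme.{u}} {G : Over S} [GrpObj G] (D : Red.SplitRed G)
    (b : D.P.Base) {m : ℕ} (epos : Fin m → D.idx) (hpos : RedSub.Enumerates (RedSub.posRoots D.P b) epos) :
    IsClosedImmersion (RedSub.borelMap D epos).left ∧
      ∃ (B : Over S) (_ : GrpObj B) (i : B ⟶ G) (e : D.T ⊗ RedSub.pow (Red.Ga S) m ≅ B),
        Red.IsBorel i ∧ e.hom ≫ i = RedSub.borelMap D epos := by
  haveI : IsAffineHom G.hom := RedCell22.isAffineHom_of_split D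
  obtain ⟨φ, hφ⟩ := RedCell22.exists_form_base D.P b
  have hl := RedCell22.posList_of_enumerates b hφ hpos
  have hreg : ∀ r, φ (D.P.root r) ≠ 0 := fun r => (RedCell22.mem_posRoots_iff D.P b hφ r).2.2
  refine ⟨RedCell22.isClosedImmersion_borelMap hl hreg, ?_⟩
  obtain ⟨str, hW⟩ := RedCell22.exists_grpObj_borel hl hreg
  letI := str
  haveI := hW
  exact ⟨RedCell22.BorelSrc D m, str, RedSub.borelMap D epos, Iso.refl _,
    ⟨hW, RedCell22.isClosedImmersion_borelMap hl hreg, RedCell22.smooth_borelSrc,
      fun s => RedCell22.isBorelOver_fibre b hφ hl (Red.geomPt s)⟩, Category.id_comp _⟩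

end Groth.Agent.S3952
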