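import Groth.Statements.S3954
import Groth.Agent.RedCell22.Generation
-- import your own Groth.Agent.* helpers here

set_option autoImplicit false
open CategoryTheory MonoidalCategory CartesianMonoidalCategory MonObj GrpObj AlgebraicGeometry
universe u
open RedSub

namespace Groth.Agent.S3954

/-- Let G be a split reductive S-group (splitting D), b a system of simple roots with enumerations e⁻,
e⁺ of the negative and positive roots, and n a family of S-points of G normalising the torus and
realising the reflections s_a of all roots a. Then G is covered by the translates n_w Ω of the big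
cell Ω (image of the big cell map) by the products n_w = n_{a_1} ⋯ n_{a_k} of these points: every
point of the underlying space of G lies in the image of the left translate by some such product of
the big cell map. -/
theorem result {S : Scheme.{u}} {G : Over S} [GrpObj G] (D : Red.SplitRed G)
    (b : D.P.Base) {n m : ℕ} (eneg : Fin n → D.idx) (epos : Fin m → D.idx)
    (hneg : RedSub.Enumerates (RedSub.negRoots D.P b) eneg) (hpos : RedSub.Enumerates (RedSub.posRoots D.P b) epos)
    (nr : D.idx → (𝟙_ (Over S) ⟶ G)) (hnr : RedSub.RealisesReflections D nr) (x : ↥G.left) :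
    ∃ w : List D.idx,
      x ∈ Set.range ((toUnit _ ≫ (w.map nr).prod) * RedSub.cellMap D eneg epos).left.base := by
  haveI : IsAffineHom G.hom := RedCell22.isAffineHom_of_split D
  obtain ⟨K, _, _, β, g, hg⟩ := RedCell22.exists_geom_point x
  obtain ⟨φ, hφ⟩ := RedCell22.exists_form_base D.P b
  let W := Submonoid.closure (Set.range nr)
  obtain ⟨v, hv, hO⟩ := RedCell22.exists_translate (b := β) b hφ W (fun a ha h y hh => by
    rcases RedCell22.inOmega_mul_root_refl b ha hφ (hnr a) hh y with h1 | h1
    · exact ⟨1, one_mem W, by rw [MonObj.comp_one, inv_one, _root_.one_mul]; exact h1⟩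
    · exact ⟨nr a, Submonoid.subset_closure ⟨a, rfl⟩, h1⟩) g
  obtain ⟨q, hq⟩ := hO.exists_cellPt (RedCell22.negList_of_enumerates b hφ hneg)
    (RedCell22.posList_of_enumerates b hφ hpos)
  obtain ⟨w, rfl⟩ : ∃ w : List D.idx, (w.map nr).prod = v := by
    clear hq hO
    induction hv using Submonoid.closure_induction with
    | mem z hz => obtain ⟨a, rfl⟩ := hz; exact ⟨[a], by simp⟩
    | one => exact ⟨[], rfl⟩
    | mul y z _ _ hy hz =>
      obtain ⟨l, rfl⟩ := hy
      obtain ⟨l', rfl⟩ := hz
      exact ⟨l ++ l', by simp⟩
  refine ⟨w, ?_⟩
  rw [← hg]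
  exact RedCell22.mem_range_of_lift _ q (by rw [RedCell22.comp_const_mul, hq, mul_inv_cancel_left])

end Groth.Agent.S3954
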