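import Groth.Statements.S3957
import Groth.Agent.RedCell22.CorootMem
-- import your own Groth.Agent.* helpers here

set_option autoImplicit false
open CategoryTheory MonoidalCategory CartesianMonoidalCategory MonObj GrpObj AlgebraicGeometry
universe u
open RedSub

namespace Groth.Agent.S3957

/-- Let A be a local ring, S = Spec A, and G a split reductive S-group with a pinning D which is simply
connected (the coroots span the coweight lattice). Then G(S) is generated by the sections of the
root groups u_a(G_a(S)) for a a simple root or the negative of a simple root. -/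
theorem result {A : Type u} [CommRing A] [IsLocalRing A]
    {G : Over (Spec (CommRingCat.of A))} [GrpObj G] (D : Red.Pinning G)
    (hsc : Submodule.span ℤ (Set.range D.P.coroot) = ⊤) :
    Subgroup.closure
        {g : 𝟙_ (Over (Spec (CommRingCat.of A))) ⟶ G | ∃ a : D.idx, (a ∈ D.base.support ∨ D.P.reflectionPerm a a ∈ D.base.support) ∧
            ∃ x : 𝟙_ _ ⟶ Red.Ga (Spec (CommRingCat.of A)), g = x ≫ D.u a} = ⊤ := by
  haveI : IsAffineHom G.hom := RedCell22.isAffineHom_of_split D.toSplitRed
  refine RedCell22.sections_eq_top' (D := D.toSplitRed) D.base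
    (fun a ha x => ⟨Subgroup.subset_closure ⟨a, Or.inl ha, x, rfl⟩,
      Subgroup.subset_closure ⟨_, Or.inr ?_, x, rfl⟩⟩)
    (Or.inr fun H' hu t => RedCell22.torus_mem D.base hsc hu t)
  rwa [show D.P.reflectionPerm (D.P.reflectionPerm a a) (D.P.reflectionPerm a a) = a from
    D.P.root.injective (by rw [Groth.Agent.RootData.root_neg, Groth.Agent.RootData.root_neg, neg_neg])]

end Groth.Agent.S3957
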