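import Groth.Statements.S4007
import Groth.Agent.Morse46.Main
import Groth.Agent.Morse46.Degenerate
import Groth.Agent.Morse46.OfCompletion

set_option autoImplicit false
universe u
open VanCyc

namespace Groth.Agent.S4007

/-- Case of an algebraically closed ground field k: let O be a local k-algebra essentially of finite
type whose residue field is k (the local ring of a scheme of finite type over k at a closed point)
having an ordinary quadratic singularity of dimension n (that is, the completion of O is
k-isomorphic to k[[x_0, …, x_n]]/(f) with f congruent modulo terms of order at least 3 to an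
ordinary quadratic form). Then there is an ordinary quadratic form Q in n + 1 variables over k such
that the henselisation of O is k-isomorphic to the henselisation of k[x_0, …, x_n]/(Q) at the
origin. (The binder asserting that the origin ideal is prime is always satisfiable.) -/
theorem result (k : Type u) [Field k] [IsAlgClosed k]
    (O : Type u) [CommRing O] [IsLocalRing O] [Algebra k O] [Algebra.EssFiniteType k O]
    (hk : ∀ y : O, ∃ c : k, y - algebraMap k O c ∈ IsLocalRing.maximalIdeal O)
    (n : ℕ) (hq : VanCyc.IsOrdQuadSing k O n)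
    (Oh : Type u) [CommRing Oh] [IsLocalRing Oh] [Algebra O Oh] [IsLocalHom (algebraMap O Oh)]
    [Hensel.IsHenselization O Oh] [Algebra k Oh] [IsScalarTower k O Oh] :
    ∃ a : Fin (n + 1) → Fin (n + 1) → k, VanCyc.QuadOrd a ∧
      ∀ [(VanCyc.originQuot k a 0).IsPrime] (C : Type u) [CommRing C] [IsLocalRing C]
        [Algebra (Localization.AtPrime (VanCyc.originQuot k a 0)) C]
        [IsLocalHom (algebraMap (Localization.AtPrime (VanCyc.originQuot k a 0)) C)]
        [Hensel.IsHenselization (Localization.AtPrime (VanCyc.originQuot k a 0)) C]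
        [Algebra k C] [IsScalarTower k (Localization.AtPrime (VanCyc.originQuot k a 0)) C],
        Nonempty (Oh ≃ₐ[k] C) := by
  classical
  haveI : IsNoetherianRing O := Algebra.EssFiniteType.isNoetherianRing k O
  -- `O` is a local ring of an algebra of finite type
  let B₀ : Subalgebra k O := Algebra.EssFiniteType.subalgebra k O
  haveI : Algebra.FiniteType k B₀ := inferInstanceAs (Algebra.FiniteType k (Algebra.EssFiniteType.subalgebra k O))
  haveI : Algebra.FinitePresentation k B₀ := Algebra.FinitePresentation.of_finiteType.1 inferInstance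
  let P : Ideal B₀ := (IsLocalRing.maximalIdeal O).comap (algebraMap B₀ O)
  haveI : P.IsPrime := Ideal.IsPrime.comap _
  haveI : IsLocalization.AtPrime O P := by
    have hM := Algebra.EssFiniteType.isLocalization k O
    have hu : ∀ s ∈ P.primeCompl, IsUnit (algebraMap B₀ O s) := fun s hs => by
      rw [← IsLocalRing.notMem_maximalIdeal]; exact hs
    have hle : ∀ s ∈ Algebra.EssFiniteType.submonoid k O, s ∈ P.primeCompl := fun s hs hsP => by
      exact (IsLocalRing.mem_maximalIdeal _).1 hsP (IsLocalization.map_units O (M := Algebra.EssFiniteType.submonoid k O) ⟨s, hs⟩)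
    refine (isLocalization_iff _ _).2 ⟨fun s => hu s s.2, fun z => ?_, fun {x y} h => ?_⟩
    · obtain ⟨⟨b, s⟩, hbs⟩ := IsLocalization.surj (Algebra.EssFiniteType.submonoid k O) z
      exact ⟨⟨b, ⟨s, hle s s.2⟩⟩, hbs⟩
    · obtain ⟨s, hs⟩ := IsLocalization.exists_of_eq (M := Algebra.EssFiniteType.submonoid k O) h
      exact ⟨⟨s, hle s s.2⟩, hs⟩
  let eL : Localization.AtPrime P ≃ₐ[B₀] O := IsLocalization.algEquiv P.primeCompl _ _
  have hres : ∀ b : B₀, ∃ c : k, b - algebraMap k B₀ c ∈ P := fun b => by
    obtain ⟨c, hc⟩ := hk (algebraMap B₀ O b)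
    refine ⟨c, ?_⟩
    show algebraMap B₀ O (b - algebraMap k B₀ c) ∈ IsLocalRing.maximalIdeal O
    rwa [map_sub, ← IsScalarTower.algebraMap_apply]
  have hP : (IsLocalRing.maximalIdeal k).map (algebraMap k B₀) ≤ P := by
    rw [IsLocalRing.maximalIdeal_eq_bot, Ideal.map_bot]; exact bot_le
  letI : Algebra (Localization.AtPrime P) Oh := ((algebraMap O Oh).comp eL.toAlgHom.toRingHom).toAlgebra
  haveI : IsScalarTower k (Localization.AtPrime P) Oh := .of_algebraMap_eq fun c => by
    show algebraMap k Oh c = algebraMap O Oh (eL (algebraMap k (Localization.AtPrime P) c))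
    rw [IsScalarTower.algebraMap_apply k B₀ (Localization.AtPrime P), eL.commutes,
      ← IsScalarTower.algebraMap_apply, ← IsScalarTower.algebraMap_apply]
  haveI : IsLocalHom (algebraMap (Localization.AtPrime P) Oh) := by
    haveI : IsLocalHom eL.toAlgHom.toRingHom := ⟨fun a ha => by simpa using ha.map eL.symm⟩
    exact RingHom.isLocalHom_comp (algebraMap O Oh) eL.toAlgHom.toRingHom
  haveI hH : Hensel.IsHenselization O Oh := inferInstance
  haveI : Hensel.IsHenselization (Localization.AtPrime P) Oh := by
    refine ⟨hH.henselian, fun T _ _ g hg => ?_⟩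
    haveI := hg
    haveI : IsLocalHom eL.symm.toAlgHom.toRingHom := ⟨fun a ha => by simpa using ha.map eL⟩
    obtain ⟨u, hu, huu⟩ := hH.universal T (g.comp eL.symm.toAlgHom.toRingHom) (RingHom.isLocalHom_comp _ _)
    refine ⟨u, RingHom.ext fun z => ?_, fun v hv => huu v (RingHom.ext fun z => ?_)⟩
    · show u (algebraMap O Oh (eL z)) = g z
      exact (RingHom.congr_fun hu (eL z)).trans (congrArg g (eL.symm_apply_apply z))
    · show v (algebraMap O Oh z) = g (eL.symm z)
      rw [← RingHom.congr_fun hv (eL.symm z)]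
      show _ = v (algebraMap O Oh (eL (eL.symm z)))
      rw [eL.apply_symm_apply]
  -- the data of the completion
  obtain ⟨f, hf, ⟨θ⟩⟩ := hq
  obtain ⟨η, hη, huniv⟩ := Morse46.exists_data_of_completion O f θ
  have hf0 : f ≠ 0 := by
    rintro rfl
    have h1 := hf.2
    rw [show VanCyc.quadPart (0 : MvPowerSeries (Fin (n + 1)) k) = fun _ _ => (0 : k) by
      funext i j; simp [VanCyc.quadPart]] at h1
    have h2 := congrFun (h1 (Pi.single 0 1) (by simp [VanCyc.quadEval]) (by
      funext i; simp [VanCyc.polarMatrix, Matrix.mulVec, dotProduct])) 0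
    simp at h2
  have hPmap : P.map (algebraMap B₀ O) = IsLocalRing.maximalIdeal O :=
    IsLocalization.map_comap P.primeCompl O _
  obtain ⟨g, d, L, hlow, hL, hquad, ⟨e⟩⟩ := Morse46.exists_equation (K := k) P hP hres f
    (Morse46.noLowTerms_iff.1 hf.1) hf0 (η.comp (IsScalarTower.toAlgHom k B₀ O))
    (by
      show P.map (η.toRingHom.comp (algebraMap B₀ O)) = _
      rw [← Ideal.map_map, hPmap, hη])
    (fun Z _ _ iA iK hT _ χ hχ => by
      obtain rfl : iA = iK := Algebra.algebra_ext _ _ fun r => by
        rw [@IsScalarTower.algebraMap_apply k k Z _ _ _ _ iK iA hT r]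
        rfl
      have hu : ∀ s : P.primeCompl, IsUnit (χ.toRingHom s) := fun s => Morse46.isUnit_of_residue P hP hres χ hχ s.2
      let χO : O →ₐ[k] Z := IsLocalization.liftAlgHom (A := k) (S := O) (M := P.primeCompl) (f := χ) hu
      have hχO : ∀ b, χO (algebraMap B₀ O b) = χ b := fun b => IsLocalization.lift_eq _ b
      obtain ⟨ξ, hξm, hξf, hξ⟩ := huniv Z χO fun o ho => by
        have h1 : (P.map (algebraMap B₀ O)).map χO.toRingHom ≤ IsLocalRing.maximalIdeal Z := by
          rw [Ideal.map_map, Ideal.map_le_iff_le_comap]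
          intro b hb
          show χO (algebraMap B₀ O b) ∈ IsLocalRing.maximalIdeal Z
          rw [hχO]
          exact hχ b hb
        exact h1 (Ideal.mem_map_of_mem _ (hPmap.ge ho))
      exact ⟨ξ, hξm, hξf, fun b p hbp => (hχO b).symm.trans (hξ _ p hbp)⟩)
    Oh
  have hord := Morse46.quadOrd_of_comp d L hL hquad hf.2
  have hm : ∀ b ∈ IsLocalRing.maximalIdeal k, b = 0 := fun b hb => by
    rwa [IsLocalRing.maximalIdeal_eq_bot, Ideal.mem_bot] at hb
  suffices hmain : ∃ a : Fin (n + 1) → Fin (n + 1) → k, VanCyc.QuadOrd a ∧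
      Nonempty ((Morse46.Pn k (n + 1) ⧸ Ideal.span {g}) ≃ₐ[k]
        Morse46.PQ (Ideal.span {VanCyc.quadPoly a - MvPolynomial.C 0})) by
    obtain ⟨a, ha, ⟨e'⟩⟩ := hmain
    refine ⟨a, ha, ?_⟩
    intro _ C _ _ _ _ _ _ _
    have hJ : Ideal.span {VanCyc.quadPoly a - MvPolynomial.C 0} ≤ VanCyc.originIdeal k :=
      (Ideal.span_singleton_le_iff_mem _).2 (sub_mem (Morse46.quadPoly_mem_originIdeal a) (by simp))
    obtain ⟨eC⟩ := Morse46.exists_algEquiv_quot hJ (VanCyc.originQuot k a 0) rfl C
    exact ⟨(e.symm.trans e').trans eC⟩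
  by_cases hdet : (VanCyc.polarMatrix (VanCyc.quadPart (Morse46.E k k (n + 1) g))).det = 0
  · obtain ⟨a', b, c, ha', hb, hc, e'⟩ := Morse46.exists_normalForm_deg g hlow hord hdet
    obtain rfl := hm b hb
    obtain rfl := hm c hc
    let a : Fin (n + 1) → Fin (n + 1) → k := fun i j =>
      (Fin.cases (Fin.cases 1 (fun _ => 0) j) (fun i' => Fin.cases 0 (fun j' => a' i' j') j) i : k)
    have hpoly : VanCyc.quadPoly a - MvPolynomial.C 0 = Morse46.degPoly a' 0 0 := by
      simp [VanCyc.quadPoly, Morse46.degPoly, a, Fin.sum_univ_succ, sq, apply_ite]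
    refine ⟨a, fun v hv hv' => ?_, by rw [hpoly]; exact e'⟩
    have h1 : (VanCyc.polarMatrix a').mulVec (fun l => v l.succ) = 0 := by
      funext l
      have := congrFun hv' l.succ
      simp only [Matrix.mulVec, dotProduct, Fin.sum_univ_succ] at this
      rw [show VanCyc.polarMatrix a l.succ 0 = 0 by simp [VanCyc.polarMatrix, a], zero_mul, zero_add] at this
      simpa [Matrix.mulVec, dotProduct, VanCyc.polarMatrix, a] using this
    have h2 := Matrix.eq_zero_of_mulVec_eq_zero ha'.ne_zero h1
    have h3 : v 0 = 0 := by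
      have h4 : ∀ l : Fin n, v l.succ = 0 := congrFun h2
      simpa [VanCyc.quadEval, a, Fin.sum_univ_succ, h4] using hv
    funext i
    induction i using Fin.cases with
    | zero => exact h3
    | succ l => exact congrFun h2 l
  · obtain ⟨a, b, ha, hb, e'⟩ := Morse46.exists_normalForm_nondeg (K := k) g hlow (isUnit_iff_ne_zero.2 hdet)
    obtain rfl := hm b hb
    exact ⟨a, fun v _ hv' => Matrix.eq_zero_of_mulVec_eq_zero ha.ne_zero hv', e'⟩

end Groth.Agent.S4007
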