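import Groth.Statements.S4008
import Groth.Agent.Morse46.Main

set_option autoImplicit false
universe u
open VanCyc

namespace Groth.Agent.S4008

/-- Let A be a henselian local ring with residue field k, B₀ a finitely presented A-algebra and P a
maximal ideal of B₀ above the maximal ideal of A, with B = (B₀)_P flat over A and residue field B₀/P
purely inseparable over k (a closed point x of the closed fibre of X = Spec B₀ -> S = Spec A with
k(x) radicial over k). Suppose the closed fibre B/𝔪_A B has at its closed point a non-degenerate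
quadratic singularity of dimension n. Then there are a non-degenerate quadratic form Q in n + 1
variables with coefficients in A (coefficient matrix a) and an element b of the maximal ideal of A
such that the henselisation of B is A-isomorphic to the henselisation of A[x_0, …, x_n]/(Q - b) at
the origin of its closed fibre. -/
theorem result (A : Type u) [CommRing A] [HenselianLocalRing A]
    (B₀ : Type u) [CommRing B₀] [Algebra A B₀] [Algebra.FinitePresentation A B₀]
    (P : Ideal B₀) [P.IsMaximal] (hP : (IsLocalRing.maximalIdeal A).map (algebraMap A B₀) ≤ P)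
    (hPi : ∀ y : B₀, ∃ (e : ℕ) (c : A),
      y ^ ringExpChar (IsLocalRing.ResidueField A) ^ e - algebraMap A B₀ c ∈ P)
    [Module.Flat A (Localization.AtPrime P)] (n : ℕ)
    (hq : VanCyc.IsNondegQuadPt (VanCyc.fibHom A (Localization.AtPrime P)) n)
    (Bh : Type u) [CommRing Bh] [IsLocalRing Bh] [Algebra (Localization.AtPrime P) Bh]
    [IsLocalHom (algebraMap (Localization.AtPrime P) Bh)] [Hensel.IsHenselization (Localization.AtPrime P) Bh]
    [Algebra A Bh] [IsScalarTower A (Localization.AtPrime P) Bh] :
    ∃ (a : Fin (n + 1) → Fin (n + 1) → A) (b : A), VanCyc.QuadNondeg a ∧ b ∈ IsLocalRing.maximalIdeal A ∧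
      ∀ [(VanCyc.originQuot A a b).IsPrime] (C : Type u) [CommRing C] [IsLocalRing C]
        [Algebra (Localization.AtPrime (VanCyc.originQuot A a b)) C]
        [IsLocalHom (algebraMap (Localization.AtPrime (VanCyc.originQuot A a b)) C)]
        [Hensel.IsHenselization (Localization.AtPrime (VanCyc.originQuot A a b)) C]
        [Algebra A C] [IsScalarTower A (Localization.AtPrime (VanCyc.originQuot A a b)) C],
        Nonempty (Bh ≃ₐ[A] C) := by
  classical
  haveI : Algebra.FiniteType A B₀ := inferInstance
  haveI := Morse46.isLocalRing_fib P hP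
  let k := IsLocalRing.ResidueField A
  let K := AlgebraicClosure k
  haveI : IsScalarTower A k K := inferInstance
  haveI : IsLocalHom (algebraMap A K) := Morse46.isLocalHom_algebraMap_residue_ext (A := A) (K := K)
  have hgeo : Morse46.GeomCond k (fibQuot A (Localization.AtPrime P))
      (fun f : MvPowerSeries (Fin (n + 1)) K => NondegQuadSeries f) := fun M _ => hq M
  -- the residue field is `k`
  haveI : ExpChar k (ringExpChar k) := inferInstance
  have hres : ∀ b : B₀, ∃ c : A, b - algebraMap A B₀ c ∈ P := by
    intro b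
    obtain ⟨c, hc⟩ := Morse46.residue_trivial_of_nondeg (k := k) (K := K) (fibQuot A (Localization.AtPrime P))
      (ringExpChar k) (Morse46.exists_pow_sub_mem P _ hPi) hgeo
      (Ideal.Quotient.mk _ (algebraMap B₀ (Localization.AtPrime P) b))
    obtain ⟨a, rfl⟩ := IsLocalRing.residue_surjective c
    refine ⟨a, (Morse46.mk_mem_maximalIdeal_iff (A := A) P _).1 ?_⟩
    rw [map_sub, map_sub, ← IsScalarTower.algebraMap_apply]
    exact hc
  obtain ⟨f, hf, η, hη, huniv⟩ := Morse46.exists_input (K := K) P hP hres
    (fun f : MvPowerSeries (Fin (n + 1)) K => NondegQuadSeries f)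
    (fun f hf => Ideal.pow_le_self two_ne_zero (Morse46.noLowTerms_iff.1 hf.1)) hgeo
  have hf0 : f ≠ 0 := by
    rintro rfl
    have h1 := hf.2
    unfold VanCyc.QuadNondeg at h1
    rw [show VanCyc.quadPart (0 : MvPowerSeries (Fin (n + 1)) K) = fun _ _ => (0 : K) by
      funext i j; simp [VanCyc.quadPart], show VanCyc.polarMatrix (fun _ _ : Fin (n + 1) => (0 : K)) = 0 by
      ext i j; simp [VanCyc.polarMatrix], Matrix.det_zero] at h1
    exact not_isUnit_zero h1
  obtain ⟨g, c, L, hlow, -, hquad, ⟨e⟩⟩ := Morse46.exists_equation P hP hres f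
    (Morse46.noLowTerms_iff.1 hf.1) hf0 η hη huniv Bh
  obtain ⟨a, b, ha, hb, ⟨e'⟩⟩ := Morse46.exists_normalForm_nondeg g hlow
    (Morse46.quadNondeg_of_comp c L hquad hf.2)
  refine ⟨a, b, ha, hb, ?_⟩
  intro _ C _ _ _ _ _ _ _
  have hJ : Ideal.span {VanCyc.quadPoly a - MvPolynomial.C b} ≤ VanCyc.originIdeal A :=
    (Ideal.span_singleton_le_iff_mem _).2 (sub_mem (Morse46.quadPoly_mem_originIdeal a)
      (Ideal.mem_sup_left (Ideal.mem_map_of_mem _ hb)))
  obtain ⟨eC⟩ := Morse46.exists_algEquiv_quot hJ (VanCyc.originQuot A a b) rfl C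
  exact ⟨(e.symm.trans e').trans eC⟩

end Groth.Agent.S4008
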