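import Groth.Statements.S4014
import Groth.Agent.Morse46.Main
import Groth.Agent.Morse46.Degenerate
import Groth.Agent.Morse46.OddDet

set_option autoImplicit false
universe u
open VanCyc

namespace Groth.Agent.S4014

/-- Let A be a henselian local ring whose residue field k has characteristic 2, B₀ a finitely presented
A-algebra and P a maximal ideal of B₀ above the maximal ideal of A, with B = (B₀)_P flat over A and
B₀/P = k (a k-rational point). Suppose the closed fibre B/𝔪_A B has at its closed point an ordinary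
quadratic singularity of even dimension 2m which is degenerate, i.e. not non-degenerate (in
characteristic 2 and even dimension every ordinary quadratic point is degenerate). Then there are a
non-degenerate quadratic form Q' in 2m variables over A (coefficient matrix a'), b in the maximal
ideal of A and c in A such that the henselisation of B is A-isomorphic to the henselisation of
A[x_0, …, x_{2m}]/(x_0² + b x_0 + c + Q'(x_1, …, x_{2m})) at the point of its closed fibre where
x_1, …, x_{2m} vanish (the unique maximal ideal containing 𝔪_A and x_1, …, x_{2m}). (The published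
statement allows a residue field purely inseparable over k; there it fails, because the quadratic
form of the model has its coefficients in A, so the rational case is taken here.) -/
theorem result (A : Type u) [CommRing A] [HenselianLocalRing A]
    (hA : CharP (IsLocalRing.ResidueField A) 2)
    (B₀ : Type u) [CommRing B₀] [Algebra A B₀] [Algebra.FinitePresentation A B₀]
    (P : Ideal B₀) [P.IsMaximal] (hP : (IsLocalRing.maximalIdeal A).map (algebraMap A B₀) ≤ P)
    (hPi : ∀ y : B₀, ∃ c : A, y - algebraMap A B₀ c ∈ P)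
    [Module.Flat A (Localization.AtPrime P)] (m : ℕ)
    (hq : VanCyc.IsOrdQuadPt (VanCyc.fibHom A (Localization.AtPrime P)) (2 * m))
    (hq' : ¬ VanCyc.IsNondegQuadPt (VanCyc.fibHom A (Localization.AtPrime P)) (2 * m))
    (Bh : Type u) [CommRing Bh] [IsLocalRing Bh] [Algebra (Localization.AtPrime P) Bh]
    [IsLocalHom (algebraMap (Localization.AtPrime P) Bh)] [Hensel.IsHenselization (Localization.AtPrime P) Bh]
    [Algebra A Bh] [IsScalarTower A (Localization.AtPrime P) Bh] :
    ∃ (a' : Fin (2 * m) → Fin (2 * m) → A) (b c : A), VanCyc.QuadNondeg a' ∧ b ∈ IsLocalRing.maximalIdeal A ∧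
      ∀ (Q : Ideal (VanCyc.degQuadRing A a' b c)) [Q.IsMaximal], VanCyc.sideIdeal A a' b c ≤ Q →
        ∀ (C : Type u) [CommRing C] [IsLocalRing C] [Algebra (Localization.AtPrime Q) C]
          [IsLocalHom (algebraMap (Localization.AtPrime Q) C)] [Hensel.IsHenselization (Localization.AtPrime Q) C]
          [Algebra A C] [IsScalarTower A (Localization.AtPrime Q) C],
          Nonempty (Bh ≃ₐ[A] C) := by
  classical
  haveI : Algebra.FiniteType A B₀ := inferInstance
  haveI := Morse46.isLocalRing_fib P hP
  let k := IsLocalRing.ResidueField A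
  let K := AlgebraicClosure k
  haveI : IsScalarTower A k K := inferInstance
  haveI : IsLocalHom (algebraMap A K) := Morse46.isLocalHom_algebraMap_residue_ext (A := A) (K := K)
  have hgeo : Morse46.GeomCond k (fibQuot A (Localization.AtPrime P))
      (fun f : MvPowerSeries (Fin (2 * m + 1)) K => OrdQuadSeries f) := fun M _ => hq M
  obtain ⟨f, hf, η, hη, huniv⟩ := Morse46.exists_input (K := K) P hP hPi
    (fun f : MvPowerSeries (Fin (2 * m + 1)) K => OrdQuadSeries f)
    (fun f hf => Ideal.pow_le_self two_ne_zero (Morse46.noLowTerms_iff.1 hf.1)) hgeo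
  have hf0 : f ≠ 0 := by
    rintro rfl
    have h1 := hf.2
    rw [show VanCyc.quadPart (0 : MvPowerSeries (Fin (2 * m + 1)) K) = fun _ _ => (0 : K) by
      funext i j; simp [VanCyc.quadPart]] at h1
    have h2 := congrFun (h1 (Pi.single 0 1) (by simp [VanCyc.quadEval]) (by
      funext i; simp [VanCyc.polarMatrix, Matrix.mulVec, dotProduct])) 0
    simp at h2
  obtain ⟨g, d, L, hlow, hL, hquad, ⟨e⟩⟩ := Morse46.exists_equation P hP hPi f
    (Morse46.noLowTerms_iff.1 hf.1) hf0 η hη huniv Bh
  haveI : CharP K 2 := charP_of_injective_algebraMap (algebraMap k K).injective 2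
  obtain ⟨a', b, c, ha', hb, hc, ⟨e'⟩⟩ := Morse46.exists_normalForm_deg (M := 2 * m) g hlow
    (Morse46.quadOrd_of_comp d L hL hquad hf.2)
    (Morse46.det_polarMatrix_eq_zero (CharTwo.two_eq_zero) ⟨m, rfl⟩ _)
  refine ⟨a', b, c, ha', hb, ?_⟩
  intro Q hQ hside C _ _ _ _ _ _ _
  set J : Ideal (MvPolynomial (Fin (2 * m + 1)) A) := Ideal.span {VanCyc.degQuadPoly A a' b c}
  -- the point is the origin
  have hsucc : ∀ p ∈ (IsLocalRing.maximalIdeal A).map (MvPolynomial.C (σ := Fin (2 * m + 1))) ⊔
      Ideal.span (Set.range fun i : Fin (2 * m) => MvPolynomial.X (Fin.succ i)),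
      Ideal.Quotient.mk J p ∈ Q := fun p hp => hside (Ideal.mem_map_of_mem _ hp)
  have hQ' : MvPolynomial.rename Fin.succ (VanCyc.quadPoly a') ∈
      Ideal.span (Set.range fun i : Fin (2 * m) => (MvPolynomial.X (Fin.succ i) :
        MvPolynomial (Fin (2 * m + 1)) A)) := by
    simp only [VanCyc.quadPoly, map_sum]
    refine Submodule.sum_mem _ fun i _ => Submodule.sum_mem _ fun j _ => ?_
    split
    · rw [map_mul, MvPolynomial.rename_X]
      exact Ideal.mul_mem_left _ _ (Ideal.subset_span ⟨j, rfl⟩)
    · rw [map_zero]; exact zero_mem _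
  have hX0 : Ideal.Quotient.mk J (MvPolynomial.X 0) ∈ Q := by
    refine hQ.isPrime.mem_of_pow_mem 2 ?_
    rw [← map_pow, show (MvPolynomial.X 0 : MvPolynomial (Fin (2 * m + 1)) A) ^ 2 =
      VanCyc.degQuadPoly A a' b c - (MvPolynomial.C b * MvPolynomial.X 0 + MvPolynomial.C c +
        MvPolynomial.rename Fin.succ (VanCyc.quadPoly a')) by rw [VanCyc.degQuadPoly]; ring,
      map_sub, Ideal.Quotient.eq_zero_iff_mem.2 (Ideal.mem_span_singleton_self _), zero_sub]
    refine neg_mem (hsucc _ (add_mem (add_mem ?_ ?_) (Ideal.mem_sup_right hQ')))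
    · exact Ideal.mem_sup_left (Ideal.mul_mem_right _ _ (Ideal.mem_map_of_mem _ hb))
    · exact Ideal.mem_sup_left (Ideal.mem_map_of_mem _ hc)
  have hJ : J ≤ VanCyc.originIdeal A := by
    refine (Ideal.span_singleton_le_iff_mem _).2 (add_mem (add_mem (add_mem ?_ ?_) ?_) ?_)
    · exact Ideal.pow_mem_of_mem _ (Ideal.mem_sup_right (Ideal.subset_span (Set.mem_range_self (0 : Fin (2 * m + 1))))) 2 two_pos
    · exact Ideal.mem_sup_left (Ideal.mul_mem_right _ _ (Ideal.mem_map_of_mem _ hb))
    · exact Ideal.mem_sup_left (Ideal.mem_map_of_mem _ hc)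
    · exact Ideal.mem_sup_right (Ideal.span_mono (by rintro _ ⟨i, rfl⟩; exact ⟨_, rfl⟩) hQ')
  have hQeq : Q = (VanCyc.originIdeal A).map (Ideal.Quotient.mk J) := by
    have hle : (VanCyc.originIdeal A : Ideal (MvPolynomial (Fin (2 * m + 1)) A)) ≤
        Q.comap (Ideal.Quotient.mk J) := by
      refine sup_le (fun p hp => hsucc p (Ideal.mem_sup_left hp)) (Ideal.span_le.2 ?_)
      rintro _ ⟨i, rfl⟩
      induction i using Fin.cases with
      | zero => exact hX0
      | succ l => exact hsucc _ (Ideal.mem_sup_right (Ideal.subset_span ⟨l, rfl⟩))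
    rw [(Morse46.originIdeal_isMaximal A (2 * m + 1)).eq_of_le (Ideal.comap_ne_top _ hQ.ne_top) hle,
      Ideal.map_comap_of_surjective _ Ideal.Quotient.mk_surjective]
  obtain ⟨eC⟩ := Morse46.exists_algEquiv_quot hJ Q hQeq C
  exact ⟨(e.symm.trans e').trans eC⟩

end Groth.Agent.S4014
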