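import Groth.Statements.S4071
import Groth.Agent.S4112
import Groth.Agent.FlatMisc.Fibrewise
import Groth.Agent.GrpSchLib.IsogenyFibre
import Groth.Agent.GrpSchLib.Neutral
import Groth.Agent.GrpSchLib.RankOneBase
import Groth.Agent.GrpSchLib.IdentityComp
import Groth.Agent.Hensel.StrictSchemes
import Mathlib.AlgebraicGeometry.Group.Abelian

set_option autoImplicit false
universe u
open CategoryTheory CategoryTheory.Limits AlgebraicGeometry MonObj
open MonoidalCategory
open SGA7

namespace Groth.Agent.S4071

set_option backward.isDefEq.respectTransparency.types false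
set_option maxHeartbeats 800000
open MonoidalCategory CartesianMonoidalCategory GrpObj

theorem map_pow_id {S T : Scheme.{u}} (g : T ⟶ S) (N : Over S) [GrpObj N] (n : ℕ) :
    (Over.pullback g).map ((𝟙 N) ^ n) = (𝟙 ((Over.pullback g).obj N)) ^ n := by
  induction n with
  | zero => rw [pow_zero, pow_zero, Functor.map_one]
  | succ m ih => rw [pow_succ, pow_succ, Functor.map_mul, ih, (Over.pullback g).map_id]

theorem map_mul_comm {S T : Scheme.{u}} (g : T ⟶ S) {N : Over S} [GrpObj N]
    (h : IsCommMonObj ((Over.pullback g).obj N)) {X : Over S} (a b : X ⟶ N) :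
    (Over.pullback g).map (a * b) = (Over.pullback g).map (b * a) := by
  rw [Functor.map_mul, Functor.map_mul, mul_comm]

theorem etale_fibre_pow (S : Scheme.{u}) (s : S) (N : Over S) [GrpObj N] [IsCommMonObj N]
    [LocallyOfFiniteType N.hom] [QuasiCompact N.hom] (n : ℕ) (hn : (n : S.residueField s) ≠ 0) :
    Etale ((𝟙 ((Over.pullback (S.fromSpecResidueField s)).obj N)) ^ n).left := by
  have h1 : LocallyOfFiniteType ((Over.pullback (S.fromSpecResidueField s)).obj N).hom :=
    inferInstanceAs (LocallyOfFiniteType (pullback.snd N.hom _))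
  have h2 : QuasiCompact ((Over.pullback (S.fromSpecResidueField s)).obj N).hom :=
    inferInstanceAs (QuasiCompact (pullback.snd N.hom _))
  have h3 := Groth.Agent.GrpSchLib.RankOne.isCommMonObj_bc (S.fromSpecResidueField s) N
  exact @Groth.Agent.S4112.result (S.residueField s) _ ((Over.pullback (S.fromSpecResidueField s)).obj N)
    _ h3 h1 h2 n hn

/-- The identity component of a fibre is divisible by an integer invertible on it. -/
theorem exists_root_in_component (S : Scheme.{u}) (s : S) (N : Over S) [GrpObj N] [IsCommMonObj N]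
    [LocallyOfFiniteType N.hom] (n : ℕ) (hn : (n : S.residueField s) ≠ 0) (y : N.left)
    (hy : y ∈ connectedComponentIn (N.hom ⁻¹' {s}) (Groth.Agent.GrpSchLib.Neutral.unit N s)) :
    ∃ w ∈ connectedComponentIn (N.hom ⁻¹' {s}) (Groth.Agent.GrpSchLib.Neutral.unit N s),
      ((𝟙 N) ^ n : N ⟶ N).left w = y := by
  let F := Over.pullback (S.fromSpecResidueField s)
  have hl : LocallyOfFiniteType (F.obj N).hom := inferInstanceAs (LocallyOfFiniteType (pullback.snd N.hom _))
  have hFc : IsCommMonObj (F.obj N) := Groth.Agent.GrpSchLib.RankOne.isCommMonObj_bc _ N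
  obtain ⟨G₀, _, i, _, hci, hfl, hr, hgi, hcpt⟩ :=
    Groth.Agent.GrpSchLib.exists_identityComponent (K := S.residueField s) (G := F.obj N)
  have : Mono i := (Over.forget _).mono_of_mono_map (inferInstanceAs (Mono i.left))
  have : IsCommMonObj G₀ := ⟨by
    rw [show μ[G₀] = fst G₀ G₀ * snd G₀ G₀ by rw [Hom.mul_def, lift_fst_snd, Category.id_comp],
      MonObj.comp_mul]
    simp only [SymmetricCategory.braiding_swap_eq_inv_braiding, braiding_inv_fst, braiding_inv_snd,
      braiding_hom_fst, braiding_hom_snd]
    exact Groth.Agent.GrpSchLib.RankOne.isCommMonObj_of_iso i _ _ _⟩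
  have : LocallyOfFiniteType G₀.hom := by rw [← Over.w i]; infer_instance
  have : QuasiCompact G₀.hom := quasiCompact_of_compactSpace (Y := Spec (S.residueField s)) _
  have : ConnectedSpace G₀.left := by
    have := GeometricallyIrreducible.irreducibleSpace_of_subsingleton G₀.hom
    infer_instance
  let g₀ : G₀ ⟶ G₀ := (𝟙 G₀) ^ n
  have : Etale g₀.left := Groth.Agent.S4112.result (S.residueField s) G₀ n hn
  have : IsMonHom g₀ :=
    { one_hom := by
        show η[G₀] ≫ (𝟙 G₀) ^ n = η[G₀]
        rw [MonObj.comp_pow, Category.comp_id, MonObj.one_eq_one, _root_.one_pow]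
      mul_hom := by
        have h : μ[G₀] = fst G₀ G₀ * snd G₀ G₀ := by rw [Hom.mul_def, lift_fst_snd, Category.id_comp]
        show μ[G₀] ≫ (𝟙 G₀) ^ n = ((𝟙 G₀) ^ n ⊗ₘ (𝟙 G₀) ^ n) ≫ μ[G₀]
        rw [h, MonObj.comp_pow, Category.comp_id, _root_.mul_pow, MonObj.comp_mul,
          tensorHom_fst, tensorHom_snd, MonObj.comp_pow, MonObj.comp_pow, Category.comp_id, Category.comp_id] }
  have hsurj := (Groth.Agent.GrpSchLib.IsogenyFibre.finite_surjective_field (k := S.residueField s) g₀).2
  rw [Groth.Agent.GrpSchLib.Neutral.connectedComponentIn_eq] at hy ⊢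
  obtain ⟨q, hq, rfl⟩ := hy
  rw [← hr] at hq ⊢
  obtain ⟨v', rfl⟩ := hq
  obtain ⟨v, rfl⟩ := hsurj.surj v'
  refine ⟨_, ⟨i.left v, ⟨v, rfl⟩, rfl⟩, ?_⟩
  have hgi' : g₀ ≫ i = i ≫ F.map ((𝟙 N) ^ n) := by
    show ((𝟙 G₀) ^ n) ≫ i = _
    rw [map_pow_id (S.fromSpecResidueField s) N n, MonObj.comp_pow, Category.comp_id,
      MonObj.pow_comp, Category.id_comp]
  have := congrArg (fun m : G₀ ⟶ F.obj N => pullback.fst N.hom (S.fromSpecResidueField s) (m.left v)) hgi'
  simp only [Over.comp_left, Scheme.Hom.comp_apply] at this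
  rw [this, Groth.Agent.GrpSchLib.Neutral.map_fst]

/-- Let R be a strictly henselian discrete valuation ring with fraction field K, N a group scheme over
Spec R which is a Néron model of its generic fibre, an abelian variety A over K, and n an integer
invertible in the residue field of R. If x is a section of N (a K-point of A) whose n-th power meets
the connected component of the unit section in the special fibre, then there is a section y with y^n
= 1 such that x · y⁻¹ meets the connected component of the unit section: the n-torsion of the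
component group is the image of the n-torsion of A(K). -/
theorem result (R K : Type u) [CommRing R] [IsDomain R] [IsDiscreteValuationRing R] [HenselianLocalRing R]
    [IsSepClosed (IsLocalRing.ResidueField R)] [Field K] [Algebra R K] [IsFractionRing R K]
    (N : Over (Spec (CommRingCat.of R))) [GrpObj N] (hN : SGA7.IsNeron R K N)
    [IsProper ((SGA7.genFib R K).obj N).hom] [GeometricallyIntegral ((SGA7.genFib R K).obj N).hom]
    (n : ℕ) (hn : (n : IsLocalRing.ResidueField R) ≠ 0)
    (x : 𝟙_ (Over (Spec (CommRingCat.of R))) ⟶ N) (hx : x ^ n ∈ SGA7.secUnitComp R N) :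
    ∃ y : 𝟙_ (Over (Spec (CommRingCat.of R))) ⟶ N, y ^ n = 1 ∧ x * y⁻¹ ∈ SGA7.secUnitComp R N := by
  have hsm : Smooth N.hom := hN.1
  have hsep : IsSeparated N.hom := hN.2.1
  have hqc : QuasiCompact N.hom := hN.2.2.1
  let S := Spec (CommRingCat.of R)
  let s₀ : S := IsLocalRing.closedPoint R
  -- commutativity
  have hA : IsCommMonObj ((SGA7.genFib R K).obj N) :=
    isCommMonObj_of_isProper_of_geometricallyIntegral (K := K) ((SGA7.genFib R K).obj N)
  have hcomm : IsCommMonObj N := by
    have h2 : Smooth (N ⊗ N).hom := by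
      show Smooth (pullback.fst N.hom N.hom ≫ N.hom)
      infer_instance
    have h : fst N N * snd N N = snd N N * fst N N :=
      (hN.2.2.2 _ h2).injective (map_mul_comm (Spec.map (CommRingCat.ofHom (algebraMap R K))) hA _ _)
    refine ⟨?_⟩
    rw [show μ[N] = fst N N * snd N N by rw [Hom.mul_def, lift_fst_snd, Category.id_comp],
      MonObj.comp_mul]
    simp only [SymmetricCategory.braiding_swap_eq_inv_braiding, braiding_inv_fst, braiding_inv_snd]
    exact h.symm
  let f : N ⟶ N := (𝟙 N) ^ n
  have hlfp : LocallyOfFinitePresentation (f.left ≫ N.hom) := by rw [Over.w f]; infer_instance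
  have hflat : Flat (f.left ≫ N.hom) := by rw [Over.w f]; infer_instance
  -- the power map is etale on each fibre
  have hne : ∀ s : S, (n : S.residueField s) ≠ 0 := by
    intro s h0
    apply hn
    let φ : R →+* S.residueField s := ((Scheme.ΓSpecIso (CommRingCat.of R)).inv ≫ S.Γevaluation s).hom
    have hu : ¬ IsUnit (n : R) := fun hu => by
      have := hu.map φ
      rw [map_natCast, h0] at this
      exact not_isUnit_zero this
    rw [← map_natCast (IsLocalRing.residue R)]
    exact (IsLocalRing.residue_eq_zero_iff _).2 hu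
  have hfib : ∀ s : S, Etale ((Over.pullback (S.fromSpecResidueField s)).map f).left := fun s => by
    rw [show f = (𝟙 N) ^ n from rfl, map_pow_id]
    exact etale_fibre_pow S s N n (hne s)
  have hfet : Etale f.left := by
    refine FlatMisc.etale_of_etale_fibres N.hom f.left fun s => ?_
    have sq := (Groth.Agent.GrpSchLib.IsogenyFibre.fibre_isPullback f (S.fromSpecResidueField s)).flip
    have := hfib s
    rw [← sq.isoPullback_hom_snd, MorphismProperty.cancel_left_of_respectsIso (P := @Etale)] at this
    exact this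
  let xn : 𝟙_ (Over S) ⟶ N := x ^ n
  obtain ⟨w, hwc, hw⟩ := exists_root_in_component S s₀ N n (hne s₀) (xn.left s₀) hx
  -- lifting
  obtain ⟨p, hp1, hp2⟩ := Scheme.Pullback.exists_preimage_pullback (f := f.left) (g := xn.left) w s₀ hw
  have hpe : Etale (pullback.snd f.left xn.left) := MorphismProperty.pullback_snd (P := @Etale) _ _ hfet
  obtain ⟨sec, hsec, hsecp⟩ := (Groth.Agent.Hensel.strictlyHenselian_iff_exists_section R).1
    ⟨inferInstance, inferInstance⟩ _ (pullback.snd f.left xn.left) hpe p hp2
  have hsf : (sec ≫ pullback.fst f.left xn.left) ≫ f.left = xn.left := by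
    rw [Category.assoc, pullback.condition, reassoc_of% hsec]
  let z : 𝟙_ (Over S) ⟶ N := Over.homMk (sec ≫ pullback.fst f.left xn.left) (by
    show (sec ≫ pullback.fst f.left xn.left) ≫ N.hom = (𝟙_ (Over S)).hom
    have e : f.left ≫ N.hom = N.hom := Over.w f
    rw [← e, ← Category.assoc, hsf]
    exact Over.w xn)
  have hz : z ^ n = x ^ n := by
    have e : z ≫ f = z ^ n := by rw [MonObj.comp_pow, Category.comp_id]
    rw [← e]
    exact Over.OverMorphism.ext hsf
  refine ⟨x * z⁻¹, by rw [_root_.mul_pow, inv_pow, hz, _root_.mul_inv_cancel], ?_⟩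
  rw [_root_.mul_inv_rev, _root_.inv_inv, mul_comm z x⁻¹, _root_.mul_inv_cancel_left]
  show (sec ≫ pullback.fst f.left xn.left) s₀ ∈
    connectedComponentIn (N.hom ⁻¹' {s₀}) (Groth.Agent.GrpSchLib.Neutral.unit N s₀)
  rw [Scheme.Hom.comp_apply, hsecp, hp1]
  exact hwc

end Groth.Agent.S4071
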