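import Groth.Statements.S4075
import Groth.Agent.SGA7X.InertPts
import Groth.Agent.SGA7X.HenselVal
import Groth.Agent.SGA7X.InertField
import Mathlib.AlgebraicGeometry.Group.Abelian

set_option autoImplicit false
universe u
open CategoryTheory CategoryTheory.Limits AlgebraicGeometry MonObj
open SGA7

namespace Groth.Agent.S4075

open MonoidalCategory CartesianMonoidalCategory GrpObj TensorProduct
open Groth.Agent.SGA7X

set_option backward.isDefEq.respectTransparency.types false
set_option maxHeartbeats 1000000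

theorem map_mul_comm {S T : Scheme.{u}} (g : T ⟶ S) {N : Over S} [GrpObj N]
    (h : IsCommMonObj ((Over.pullback g).obj N)) {X : Over S} (a b : X ⟶ N) :
    (Over.pullback g).map (a * b) = (Over.pullback g).map (b * a) := by
  rw [Functor.map_mul, Functor.map_mul, mul_comm]

theorem isCommMonObj_neron (R K : Type u) [CommRing R] [Field K] [Algebra R K]
    (N : Over (Spec (CommRingCat.of R))) [GrpObj N] (hN : SGA7.IsNeron R K N)
    [IsProper ((SGA7.genFib R K).obj N).hom] [GeometricallyIntegral ((SGA7.genFib R K).obj N).hom] :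
    IsCommMonObj N := by
  have : Smooth N.hom := hN.1
  have hA : IsCommMonObj ((SGA7.genFib R K).obj N) :=
    isCommMonObj_of_isProper_of_geometricallyIntegral (K := K) ((SGA7.genFib R K).obj N)
  have h2 : Smooth (N ⊗ N).hom := by
    show Smooth (pullback.fst N.hom N.hom ≫ N.hom)
    infer_instance
  have h : fst N N * snd N N = snd N N * fst N N :=
    (hN.2.2.2 _ h2).injective (map_mul_comm (Spec.map (CommRingCat.ofHom (algebraMap R K))) hA _ _)
  refine ⟨?_⟩
  rw [show μ[N] = fst N N * snd N N by rw [Hom.mul_def, lift_fst_snd, Category.id_comp],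
    MonObj.comp_mul]
  simp only [SymmetricCategory.braiding_swap_eq_inv_braiding, braiding_inv_fst, braiding_inv_snd]
  exact h.symm

variable {R K Ω : Type u} [CommRing R] [IsDomain R] [IsDiscreteValuationRing R] [HenselianLocalRing R]
  [Field K] [Algebra R K] [IsFractionRing R K] [Field Ω] [Algebra K Ω] [IsSepClosure K Ω]
  {W : ValuationSubring Ω}

omit [IsDomain R] [IsDiscreteValuationRing R] [IsFractionRing R K] [IsSepClosure K Ω] in
theorem toW_closedPoint (hW : SGA7.LiesOver K R W) :
    PrimeSpectrum.comap (InertPts.toW hW) (IsLocalRing.closedPoint W) = IsLocalRing.closedPoint R := by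
  refine PrimeSpectrum.ext ?_
  refine ((IsLocalRing.maximalIdeal.isMaximal R).eq_of_le (Ideal.IsPrime.comap _).ne_top ?_).symm
  intro r hr
  exact (W.valuation_lt_one_iff _).2 (hW.2 r hr)

/-- A specialisation into the special fibre gives a `W`-valued point. -/
theorem exists_extension_of_specializes (hW : SGA7.LiesOver K R W) (N : Over (Spec (CommRingCat.of R)))
    (x : SGA7.Pts Ω ((SGA7.genFib R K).obj N)) {z : N.left} (hz : z ∈ SGA7.specialFibreSet R N)
    (h : (x.left ≫ pullback.fst N.hom (Spec.map (CommRingCat.ofHom (algebraMap R K)))).base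
          (IsLocalRing.closedPoint Ω) ⤳ z) :
    ∃ y : Spec (CommRingCat.of W) ⟶ N.left, y ≫ N.hom = Spec.map (CommRingCat.ofHom (InertPts.toW hW)) ∧
      x.left ≫ pullback.fst N.hom (Spec.map (CommRingCat.ofHom (algebraMap R K))) =
        Spec.map (CommRingCat.ofHom W.subtype) ≫ y := by
  let : Algebra R Ω := ((algebraMap K Ω).comp (algebraMap R K)).toAlgebra
  have : IsScalarTower R K Ω := IsScalarTower.of_algebraMap_eq fun _ => rfl
  let g := Spec.map (CommRingCat.ofHom (algebraMap R K))
  let x' : Spec (CommRingCat.of Ω) ⟶ N.left := x.left ≫ pullback.fst N.hom g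
  let θ : N.left.presheaf.stalk z ⟶ CommRingCat.of Ω :=
    N.left.presheaf.stalkSpecializes h ≫ Scheme.stalkClosedPointTo x'
  obtain ⟨V, hV, hVloc⟩ := IsLocalRing.exists_factor_valuationRing θ.hom
  let θV : N.left.presheaf.stalk z ⟶ CommRingCat.of V := CommRingCat.ofHom (θ.hom.codRestrict V.toSubring hV)
  let y : Spec (CommRingCat.of V) ⟶ N.left := Spec.map θV ≫ N.left.fromSpecStalk z
  have hxy : x' = Spec.map (CommRingCat.ofHom V.subtype) ≫ y := by
    rw [← Category.assoc, ← Spec.map_comp, show θV ≫ CommRingCat.ofHom V.subtype = θ from rfl,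
      Spec.map_comp, Category.assoc, Scheme.SpecMap_stalkSpecializes_fromSpecStalk,
      Scheme.Spec_stalkClosedPointTo_fromSpecStalk]
  let ρ : CommRingCat.of R ⟶ CommRingCat.of V := Spec.preimage (y ≫ N.hom)
  have hρ : Spec.map ρ = y ≫ N.hom := Spec.map_preimage _
  have hρv : ∀ r, ((ρ r : V) : Ω) = algebraMap K Ω (algebraMap R K r) := by
    have e : Spec.map (ρ ≫ CommRingCat.ofHom V.subtype) =
        Spec.map (CommRingCat.ofHom ((algebraMap K Ω).comp (algebraMap R K))) := by
      rw [Spec.map_comp, hρ, ← Category.assoc, ← hxy, Category.assoc, pullback.condition,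
        ← Category.assoc, show x.left ≫ pullback.snd N.hom g = (SGA7.pt (K := K) Ω).hom from Over.w x,
        CommRingCat.ofHom_comp, Spec.map_comp]
      rfl
    intro r
    exact congrArg (fun f : CommRingCat.of R ⟶ CommRingCat.of Ω => f r) (Spec.map_injective e)
  have hyz : y (IsLocalRing.closedPoint V) = z := by
    show N.left.fromSpecStalk z (Spec.map θV (IsLocalRing.closedPoint V)) = z
    rw [show Spec.map θV (IsLocalRing.closedPoint V) = IsLocalRing.closedPoint (N.left.presheaf.stalk z) from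
      @IsLocalRing.comap_closedPoint _ _ _ _ _ _ θV.hom hVloc]
    exact Scheme.fromSpecStalk_closedPoint
  have hρc : PrimeSpectrum.comap ρ.hom (IsLocalRing.closedPoint V) = IsLocalRing.closedPoint R := by
    show Spec.map ρ (IsLocalRing.closedPoint V) = _
    rw [hρ, Scheme.Hom.comp_apply, hyz]
    exact hz
  have hVo : SGA7.LiesOver K R V := by
    refine ⟨fun r => hρv r ▸ (ρ r).2, fun r hr => ?_⟩
    rw [← hρv]
    refine (V.valuation_lt_one_iff (ρ r)).1 ?_
    exact (congrArg PrimeSpectrum.asIdeal hρc).ge hr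
  obtain rfl : V = W := HenselVal.eq_of_liesOver hVo hW
  refine ⟨y, ?_, hxy⟩
  rw [← hρ]
  exact congrArg Spec.map (CommRingCat.hom_ext (RingHom.ext fun r => Subtype.ext (hρv r)))

/-- The subgroup of inertia elements at `W`. -/
def inertia (hW : SGA7.LiesOver K R W) : Subgroup (Ω ≃ₐ[K] Ω) where
  carrier := {σ | SGA7.IsInertia W σ}
  one_mem' := fun x hx => ⟨hx, by simp⟩
  mul_mem' {σ τ} hσ hτ x hx := by
    obtain ⟨h1, h2⟩ := hτ x hx
    obtain ⟨h3, h4⟩ := hσ _ h1
    refine ⟨h3, ?_⟩
    rw [show (σ * τ) x - x = (σ (τ x) - τ x) + (τ x - x) by simp]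
    exact (W.valuation.map_add _ _).trans_lt (max_lt h4 h2)
  inv_mem' {σ} hσ x hx := by
    let : Algebra R Ω := ((algebraMap K Ω).comp (algebraMap R K)).toAlgebra
    have : IsScalarTower R K Ω := IsScalarTower.of_algebraMap_eq fun _ => rfl
    have hx' : σ⁻¹ x ∈ W := HenselVal.mem_of_isIntegral hW
      ((HenselVal.isIntegral_of_mem hW hx).map ((σ⁻¹ : Ω ≃ₐ[K] Ω).toAlgHom.restrictScalars R))
    refine ⟨hx', ?_⟩
    have h := (hσ _ hx').2
    rw [show σ (σ⁻¹ x) = x from σ.apply_symm_apply x] at h
    rw [W.valuation.map_sub_swap]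
    exact h

/-- A point fixed by inertia extends to `W`, by the Néron property. -/
theorem exists_extension_of_fixed (hW : SGA7.LiesOver K R W) (N : Over (Spec (CommRingCat.of R)))
    (hN : SGA7.IsNeron R K N) (x : SGA7.Pts Ω ((SGA7.genFib R K).obj N))
    (hx : ∀ σ : Ω ≃ₐ[K] Ω, SGA7.IsInertia W σ → SGA7.galAct σ x = x) :
    ∃ y : Spec (CommRingCat.of W) ⟶ N.left, y ≫ N.hom = Spec.map (CommRingCat.ofHom (InertPts.toW hW)) ∧
      x.left ≫ pullback.fst N.hom (Spec.map (CommRingCat.ofHom (algebraMap R K))) =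
        Spec.map (CommRingCat.ofHom W.subtype) ≫ y := by
  classical
  let : Algebra R Ω := ((algebraMap K Ω).comp (algebraMap R K)).toAlgebra
  have : IsScalarTower R K Ω := IsScalarTower.of_algebraMap_eq fun _ => rfl
  have : Smooth N.hom := hN.1
  have : IsGalois K Ω := IsSepClosure.isGalois
  let g := Spec.map (CommRingCat.ofHom (algebraMap R K))
  let π := pullback.snd N.hom g
  -- an affine chart containing the point
  obtain ⟨A₀, j, hj, hmem, -⟩ := Scheme.exists_affine_mem_range_and_range_subset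
    (x := x.left (IsLocalRing.closedPoint Ω)) (U := (⊤ : ((SGA7.genFib R K).obj N).left.Opens)) trivial
  let u' := IsOpenImmersion.lift j x.left (by
    rintro _ ⟨t, rfl⟩
    rwa [show t = IsLocalRing.closedPoint Ω from Subsingleton.elim (α := PrimeSpectrum Ω) _ _])
  have hu' : u' ≫ j = x.left := IsOpenImmersion.lift_fac _ _ _
  let u : A₀ ⟶ CommRingCat.of Ω := Spec.preimage u'
  have hu : Spec.map u ≫ j = x.left := by rw [Spec.map_preimage, hu']
  let α : CommRingCat.of K ⟶ A₀ := Spec.preimage (j ≫ π)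
  have hα : Spec.map α = j ≫ π := Spec.map_preimage _
  have hαu : ∀ k, u (α k) = algebraMap K Ω k := by
    have e : Spec.map (α ≫ u) = Spec.map (CommRingCat.ofHom (algebraMap K Ω)) := by
      rw [Spec.map_comp, hα, reassoc_of% hu]
      exact Over.w x
    intro k
    exact congrArg (fun f : CommRingCat.of K ⟶ CommRingCat.of Ω => f k) (Spec.map_injective e)
  have hft : LocallyOfFiniteType (Spec.map α) := by
    have : LocallyOfFiniteType π := MorphismProperty.pullback_snd (P := @LocallyOfFiniteType) _ _ inferInstance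
    rw [hα]
    infer_instance
  have hft' : α.hom.FiniteType := (HasRingHomProperty.Spec_iff (P := @LocallyOfFiniteType)).1 hft
  let : Algebra K A₀ := α.hom.toAlgebra
  obtain ⟨gens, hgens⟩ := (hft' : Algebra.FiniteType K A₀).out
  let S : Finset Ω := gens.image fun p => u p
  have hσu : ∀ σ : Ω ≃ₐ[K] Ω, SGA7.IsInertia W σ → ∀ a, σ (u a) = u a := by
    intro σ hσ
    have e : Spec.map (u ≫ CommRingCat.ofHom (σ : Ω →+* Ω)) = Spec.map u := by
      rw [← cancel_mono j, Spec.map_comp, Category.assoc, hu]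
      exact congrArg (fun m : SGA7.pt (K := K) Ω ⟶ (SGA7.genFib R K).obj N => m.left) (hx σ hσ)
    intro a
    exact congrArg (fun f : A₀ ⟶ CommRingCat.of Ω => f a) (Spec.map_injective e)
  let j₀ : integralClosure R Ω →+* W :=
    (integralClosure R Ω).val.toRingHom.codRestrict W fun b => HenselVal.mem_of_isIntegral hW b.2
  let q : Ideal (integralClosure R Ω) := (IsLocalRing.maximalIdeal W).comap j₀
  have hI : ∀ σ : Ω ≃ₐ[K] Ω, σ ∈ inertia hW ↔ ∀ b : integralClosure R Ω, ∃ c ∈ q, (c : Ω) = σ b - b := by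
    refine fun σ => ⟨fun hσ b => ?_, fun hσ w hw => ?_⟩
    · obtain ⟨h1, h2⟩ := hσ _ (HenselVal.mem_of_isIntegral hW b.2)
      refine ⟨⟨σ b - b, ((b.2 : IsIntegral R (b : Ω)).map (σ.toAlgHom.restrictScalars R)).sub b.2⟩, ?_, rfl⟩
      exact (W.valuation_lt_one_iff _).2 h2
    · have hwi := HenselVal.isIntegral_of_mem hW hw
      obtain ⟨c, hc, hce⟩ := hσ ⟨w, hwi⟩
      refine ⟨HenselVal.mem_of_isIntegral hW (hwi.map (σ.toAlgHom.restrictScalars R)), ?_⟩
      rw [← show (c : Ω) = σ w - w from hce]
      exact (W.valuation_lt_one_iff (j₀ c)).1 hc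
  obtain ⟨M, _, _, ψ, hMet, hψinj, hψr, hψS⟩ := InertField.exists_etale_sub q (inertia hW) hI S (by
    intro s hs σ hσ
    obtain ⟨p, -, rfl⟩ := Finset.mem_image.1 hs
    exact hσu σ hσ p)
  have hψW : ∀ m, ψ m ∈ W := by
    intro m
    obtain ⟨c, d, hd, hm⟩ := hψr m
    have hdu : IsUnit (j₀ d) := by
      by_contra h
      exact hd h
    obtain ⟨e, he⟩ := hdu.exists_right_inv
    have he' : (d : Ω) * (e : Ω) = 1 := congrArg Subtype.val he
    have : ψ m = ((j₀ c * e : W) : Ω) := by
      show ψ m = (c : Ω) * (e : Ω)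
      rw [← hm, _root_.mul_assoc, he', _root_.mul_one]
    rw [this]
    exact SetLike.coe_mem _
  -- the generic fibre of `Spec M`
  let B := M ⊗[R] K
  let ψK : B →ₐ[R] Ω := Algebra.TensorProduct.productMap ψ (IsScalarTower.toAlgHom R K Ω)
  have hψK : ∀ m k, ψK (m ⊗ₜ k) = ψ m * algebraMap K Ω k := fun m k =>
    Algebra.TensorProduct.productMap_apply_tmul _ _ m k
  have hden : ∀ b : B, ∃ (r : R) (m : M), r ≠ 0 ∧ r • b = m ⊗ₜ (1 : K) := by
    intro b
    induction b using TensorProduct.induction_on with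
    | zero => exact ⟨1, 0, one_ne_zero, by rw [smul_zero, TensorProduct.zero_tmul]⟩
    | tmul m k =>
      obtain ⟨a, r, hr, rfl⟩ := IsFractionRing.div_surjective (A := R) k
      refine ⟨r, a • m, nonZeroDivisors.ne_zero hr, ?_⟩
      rw [TensorProduct.smul_tmul, ← TensorProduct.tmul_smul]
      congr 1
      rw [Algebra.smul_def, Algebra.smul_def, _root_.mul_one,
        mul_div_cancel₀ _ (IsFractionRing.to_map_ne_zero_of_mem_nonZeroDivisors hr)]
    | add b₁ b₂ h₁ h₂ =>
      obtain ⟨r₁, m₁, hr₁, e₁⟩ := h₁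
      obtain ⟨r₂, m₂, hr₂, e₂⟩ := h₂
      refine ⟨r₁ * r₂, r₂ • m₁ + r₁ • m₂, mul_ne_zero hr₁ hr₂, ?_⟩
      rw [smul_add, TensorProduct.add_tmul, ← TensorProduct.smul_tmul', ← TensorProduct.smul_tmul', ← e₁,
        ← e₂, smul_smul, smul_smul, mul_comm r₂ r₁]
  have hψKinj : Function.Injective ψK := by
    rw [injective_iff_map_eq_zero]
    intro b hb
    obtain ⟨r, m, hr, e⟩ := hden b
    have h0 := congrArg ψK e
    rw [map_smul, hb, smul_zero, hψK, map_one, _root_.mul_one] at h0
    rw [(injective_iff_map_eq_zero ψ).1 hψinj m h0.symm, TensorProduct.zero_tmul] at e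
    have hrK : algebraMap R K r ≠ 0 := fun h => hr (IsFractionRing.injective R K (by rw [h, map_zero]))
    have e' := congrArg (fun t => (1 : M) ⊗ₜ[R] (algebraMap R K r)⁻¹ * t) e
    simp only [mul_zero] at e'
    rw [mul_smul_comm, ← smul_mul_assoc, ← TensorProduct.tmul_smul, Algebra.smul_def,
      mul_inv_cancel₀ hrK] at e'
    rwa [← Algebra.TensorProduct.one_def, _root_.one_mul] at e'
  have hrange : ∀ a : A₀, u a ∈ ψK.range := by
    intro a
    have ha : a ∈ Algebra.adjoin K (gens : Set A₀) := hgens ▸ Algebra.mem_top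
    induction ha using Algebra.adjoin_induction with
    | mem p hp =>
      obtain ⟨r, hr, m, hm⟩ := hψS _ (Finset.mem_image_of_mem (fun p => u p) hp)
      refine ⟨m ⊗ₜ (algebraMap R K r)⁻¹, ?_⟩
      show ψK (m ⊗ₜ (algebraMap R K r)⁻¹) = _
      rw [hψK, hm, IsScalarTower.algebraMap_apply R K Ω, map_inv₀, mul_comm _ (u p), _root_.mul_assoc,
        mul_inv_cancel₀, _root_.mul_one]
      exact (map_ne_zero _).2 fun h => hr (IsFractionRing.injective R K (by rw [h, map_zero]))
    | algebraMap k =>
      refine ⟨1 ⊗ₜ k, ?_⟩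
      show ψK (1 ⊗ₜ k) = _
      rw [hψK, map_one, _root_.one_mul]
      exact (hαu k).symm
    | add p p' _ _ h h' => rw [map_add]; exact add_mem h h'
    | mul p p' _ _ h h' => rw [map_mul]; exact mul_mem h h'
  let θ : A₀ ⟶ CommRingCat.of B := CommRingCat.ofHom
    (((AlgEquiv.ofInjective ψK hψKinj).symm : ψK.range →+* B).comp (u.hom.codRestrict ψK.range hrange))
  have hθ : ∀ a, ψK (θ a) = u a := fun a =>
    congrArg Subtype.val ((AlgEquiv.ofInjective ψK hψKinj).apply_symm_apply ⟨u a, hrange a⟩)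
  let Y : Over (Spec (CommRingCat.of R)) := Over.mk (Spec.map (CommRingCat.ofHom (algebraMap R M)))
  have hY : Smooth Y.hom := by
    show Smooth (Spec.map (CommRingCat.ofHom (algebraMap R M)))
    rw [HasRingHomProperty.Spec_iff (P := @Smooth)]
    exact RingHom.smooth_algebraMap.2 inferInstance
  let e := pullbackSpecIso R M K
  have he2 : e.hom ≫ Spec.map (CommRingCat.ofHom
      (Algebra.TensorProduct.includeRight : K →ₐ[R] B).toRingHom) = pullback.snd Y.hom g := by
    rw [← Iso.eq_inv_comp]
    exact (pullbackSpecIso_inv_snd R M K).symm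
  have hθα : α ≫ θ = CommRingCat.ofHom (Algebra.TensorProduct.includeRight : K →ₐ[R] B).toRingHom := by
    ext k
    apply hψKinj
    show ψK (θ (α k)) = ψK (1 ⊗ₜ k)
    rw [hθ, hαu, hψK, map_one, _root_.one_mul]
  let h : (SGA7.genFib R K).obj Y ⟶ (SGA7.genFib R K).obj N := Over.homMk (e.hom ≫ Spec.map θ ≫ j) (by
    show (e.hom ≫ Spec.map θ ≫ j) ≫ π = pullback.snd Y.hom g
    rw [Category.assoc, Category.assoc, ← hα, ← Spec.map_comp, hθα, he2])
  obtain ⟨y₀, hy₀⟩ := (hN.2.2.2 Y hY).2 h
  let ψW : M →+* W := ψ.toRingHom.codRestrict W hψW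
  refine ⟨Spec.map (CommRingCat.ofHom ψW) ≫ y₀.left, ?_, ?_⟩
  · rw [Category.assoc, Over.w y₀]
    show Spec.map (CommRingCat.ofHom ψW) ≫ Spec.map (CommRingCat.ofHom (algebraMap R M)) = _
    rw [← Spec.map_comp, ← CommRingCat.ofHom_comp]
    refine congrArg Spec.map (congrArg CommRingCat.ofHom (RingHom.ext fun r => Subtype.ext ?_))
    exact ψ.commutes r
  · let ω : Spec (CommRingCat.of Ω) ⟶ pullback Y.hom g := Spec.map (CommRingCat.ofHom ψK.toRingHom) ≫ e.inv
    have hω : ω ≫ h.left = x.left := by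
      show (_ ≫ e.inv) ≫ e.hom ≫ Spec.map θ ≫ j = _
      rw [Category.assoc, e.inv_hom_id_assoc, ← Spec.map_comp_assoc, ← hu]
      congr 2
      ext a
      exact hθ a
    have hω1 : ω ≫ pullback.fst Y.hom g = Spec.map (CommRingCat.ofHom ψ.toRingHom) := by
      show (_ ≫ e.inv) ≫ _ = _
      rw [Category.assoc, show e.inv ≫ pullback.fst Y.hom g =
        Spec.map (CommRingCat.ofHom Algebra.TensorProduct.includeLeftRingHom) from pullbackSpecIso_inv_fst R M K,
        ← Spec.map_comp]
      congr 1
      ext m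
      exact (hψK m 1).trans (by rw [map_one, _root_.mul_one]; rfl)
    rw [← hω, ← hy₀, Category.assoc]
    show ω ≫ pullback.lift (pullback.fst Y.hom g ≫ y₀.left) (pullback.snd Y.hom g) _ ≫
      pullback.fst N.hom g = _
    rw [pullback.lift_fst, reassoc_of% hω1, ← Category.assoc, ← Spec.map_comp]
    rfl

/-- Let R be a henselian discrete valuation ring with fraction field K, Ω a separable closure of K, W a
valuation subring of Ω lying over R, N a group scheme over Spec R which is a Néron model of its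
generic fibre A = N_K, an abelian variety, and m an integer invertible in the residue field. For an
m-torsion Ω-point x of A, the inertia group at W fixes x if and only if the point of N underlying x
specialises to a point of the special fibre of N (x factors through the finite part of the m-torsion
of N): the fixed part of the m-torsion is the inertia invariants. -/
theorem result (R K Ω : Type u) [CommRing R] [IsDomain R]
    [IsDiscreteValuationRing R] [HenselianLocalRing R] [Field K] [Algebra R K] [IsFractionRing R K]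
    [Field Ω] [Algebra K Ω] [IsSepClosure K Ω] (W : ValuationSubring Ω) (hW : SGA7.LiesOver K R W)
    (N : Over (Spec (CommRingCat.of R))) [GrpObj N] (hN : SGA7.IsNeron R K N)
    [IsProper ((SGA7.genFib R K).obj N).hom] [GeometricallyIntegral ((SGA7.genFib R K).obj N).hom]
    (m : ℕ) (hm : (m : IsLocalRing.ResidueField R) ≠ 0)
    (x : SGA7.Pts Ω ((SGA7.genFib R K).obj N)) (hx : x ^ m = 1) :
    (∀ σ : Ω ≃ₐ[K] Ω, SGA7.IsInertia W σ → SGA7.galAct σ x = x) ↔
      ∃ z ∈ SGA7.specialFibreSet R N,
        (x.left ≫ pullback.fst N.hom (Spec.map (CommRingCat.ofHom (algebraMap R K)))).base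
          (IsLocalRing.closedPoint Ω) ⤳ z := by
  constructor
  · intro hfix
    obtain ⟨y, hy, hxy⟩ := exists_extension_of_fixed hW N hN x hfix
    refine ⟨y (IsLocalRing.closedPoint W), ?_, ?_⟩
    · show N.hom (y (IsLocalRing.closedPoint W)) = IsLocalRing.closedPoint R
      rw [← Scheme.Hom.comp_apply, hy]
      exact toW_closedPoint hW
    · rw [hxy]
      exact (IsLocalRing.specializes_closedPoint _).map y.continuous
  · rintro ⟨z, hz, hspec⟩ σ hσ
    have : Smooth N.hom := hN.1
    have : IsSeparated N.hom := hN.2.1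
    have : QuasiCompact N.hom := hN.2.2.1
    have := isCommMonObj_neron R K N hN
    obtain ⟨y, hy, hxy⟩ := exists_extension_of_specializes hW N x hz hspec
    exact InertPts.galAct_eq hW N hm x hx y hy hxy hσ

end Groth.Agent.S4075
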