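import Groth.Statements.S4141
import Groth.Agent.Chev24.DescentPerfect
-- import your own Groth.Agent.* helpers here

set_option autoImplicit false
universe u
open CategoryTheory MonoidalCategory CartesianMonoidalCategory MonObj GrpObj AlgebraicGeometry CategoryTheory.Limits
open SGA3

namespace Groth.Agent.S4141

/-- Let k be a perfect field and G a smooth connected algebraic group over k. Then there is an affine,
smooth, connected closed subgroup scheme L of G, normal in G, such that the quotient G/L is an
abelian variety: there is a surjective flat homomorphism q : G → Q with kernel L onto a proper,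
smooth, connected k-group scheme Q. Moreover L is unique: any affine smooth connected normal closed
subgroup with proper smooth connected quotient coincides with L. -/
theorem result (k : Type u) [Field k] [PerfectField k]
    (G : Over (Spec (CommRingCat.of k))) [GrpObj G] [Smooth G.hom] [QuasiCompact G.hom] [ConnectedSpace ↥G.left] :
    ∃ (L : Over (Spec (CommRingCat.of k))) (_ : GrpObj L) (l : L ⟶ G) (Q : Over (Spec (CommRingCat.of k))) (_ : GrpObj Q)
      (q : G ⟶ Q), IsMonHom l ∧ IsClosedImmersion l.left ∧ IsAffine L.left ∧ Smooth L.hom ∧ ConnectedSpace ↥L.left ∧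
      AlgGrp.IsNormalHom l ∧ IsMonHom q ∧ Surjective q.left ∧ Flat q.left ∧ AlgGrp.IsKernel l q ∧
      IsProper Q.hom ∧ Smooth Q.hom ∧ ConnectedSpace ↥Q.left ∧
      ∀ (L' : Over (Spec (CommRingCat.of k))) [GrpObj L'] (l' : L' ⟶ G) (Q' : Over (Spec (CommRingCat.of k))) [GrpObj Q']
        (q' : G ⟶ Q'), IsMonHom l' → IsClosedImmersion l'.left → IsAffine L'.left → Smooth L'.hom → ConnectedSpace ↥L'.left →
        AlgGrp.IsNormalHom l' → IsMonHom q' → Surjective q'.left → Flat q'.left → AlgGrp.IsKernel l' q' →
        IsProper Q'.hom → Smooth Q'.hom → ConnectedSpace ↥Q'.left → ∃ φ : L' ≅ L, φ.hom ≫ l = l' := by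
  obtain ⟨N, _, i, him, hic, hNs, hNc, hNa, hNn, R, _, r, hrm, hrs, hrf, hrk, hRp, hRs⟩ :=
    Chev24.exists_affSub_properQuot_perfect G
  haveI := him; haveI := hic; haveI := hNs; haveI := hNc; haveI := hNa
  haveI := hrm; haveI := hrs; haveI := hrf
  haveI : ConnectedSpace ↥R.left := r.left.surjective.connectedSpace r.left.continuous
  refine ⟨N, inferInstance, i, R, inferInstance, r, him, hic, hNa, hNs, hNc, hNn, hrm, hrs, hrf, hrk, hRp, hRs,
    inferInstance, ?_⟩
  intro L' _ l' Q' _ q' hl'm hl'c hL'a hL's hL'c _ hq'm _ _ hk' hQ'p _ _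
  haveI := hl'm; haveI := hl'c; haveI := hL'a; haveI := hL's; haveI := hL'c; haveI := hq'm; haveI := hQ'p
  haveI := hRp
  have h1 : l' ≫ r = 1 := Chev24.eq_one_of_affine_of_proper (l' ≫ r)
  have h2 : i ≫ q' = 1 := Chev24.eq_one_of_affine_of_proper (i ≫ q')
  let f := hrk.lift l' (toUnit L') (h1.trans Hom.one_def)
  let g := hk'.lift i (toUnit N) (h2.trans Hom.one_def)
  haveI : Mono i := Over.mono_of_mono_left _
  haveI : Mono l' := Over.mono_of_mono_left _
  refine ⟨⟨f, g, ?_, ?_⟩, hrk.lift_fst _ _ _⟩
  · rw [← cancel_mono l', Category.assoc, hk'.lift_fst, hrk.lift_fst, Category.id_comp]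
  · rw [← cancel_mono i, Category.assoc, hrk.lift_fst, hk'.lift_fst, Category.id_comp]

end Groth.Agent.S4141
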