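import Groth.Statements.S4260
import Groth.Agent.SGA4hFrob.DimZero.Trace
import Groth.Agent.SGA4hFrob.DimZero.ExtZeroId

set_option autoImplicit false
universe u
open CategoryTheory CategoryTheory.Limits AlgebraicGeometry Opposite
open scoped BigOperators
open SGA4h

namespace Groth.Agent.S4260

set_option backward.isDefEq.respectTransparency.types false

/-- Stated with coefficients a finite field Λ of characteristic invertible in k and a single sheaf: let
k be a finite field, K an algebraic closure, a : X₀ → Spec k finite, and L an etale sheaf of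
Λ-modules on X₀ which is constructible. Then Σ_{x ∈ X₀(k)} Tr(F_x, L_x̄) = Σ_i (-1)^i Tr(F^*, H^i(X₀
⊗_k K, L)), where the right side is computed through the trivial compactification (X₀ is proper over
k). -/
theorem result (k K : Type u) [Field k] [Fintype k] [Field K] [Algebra k K]
    [IsAlgClosed K] [Algebra.IsAlgebraic k K] (Λ : Type) [Field Λ] [Finite Λ] (hΛ : (ringChar Λ : k) ≠ 0)
    [Fact FinFr.PullExact.{u}] {X₀ : Scheme.{u}} (a : X₀ ⟶ Spec (CommRingCat.of k)) [IsFinite a]
    (L : EtLam.Sheaf Λ X₀) (hL : EtLam.IsConstructible L) :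
    ∑ᶠ x : FinFr.RatPt a, FinFr.locTrace (K := K) x.1 L =
      ∑ᶠ i : ℕ, (-1 : Λ) ^ i * LinearMap.trace Λ _ (FinFr.frobC (K := K) (𝟙 X₀) a L i) := by
  refine (SGA4hFrob.DimZero.trace_frob_zero a L hL).symm.trans (Eq.trans ?_ (finsum_eq_single _ 0 fun i hi => ?_).symm)
  · rw [pow_zero, one_mul]
    obtain ⟨e⟩ := SGA4hFrob.DimZero.exists_extZeroId X₀
    let φ : (FinFr.extZeroLam (𝟙 X₀) L).carrier ≅ L.carrier := e.app L.carrier
    let P := EtCoh.pull (FinFr.extπ K a)
    let E : EtCoh.H (FinFr.ext K a) (EtLam.pullback (FinFr.extπ K a) (FinFr.extZeroLam (𝟙 X₀) L)).carrier 0 →ₗ[Λ]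
        EtCoh.H (FinFr.ext K a) (EtLam.pullback (FinFr.extπ K a) L).carrier 0 :=
      { toFun := fun z => Sheaf.H.map (P.map φ.hom) 0 z
        map_add' := map_add _
        map_smul' := fun r z => by
          change Sheaf.H.map _ 0 (Sheaf.H.map (P.map ((EtShriek.extZero (𝟙 X₀)).map (L.act r))) 0 z) =
            Sheaf.H.map (P.map (L.act r)) 0 (Sheaf.H.map (P.map φ.hom) 0 z)
          rw [← Sheaf.H.map_comp_apply, ← Sheaf.H.map_comp_apply]
          exact congrArg (fun m => Sheaf.H.map m 0 z) ((P.map_comp _ _).symm.trans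
            ((congrArg P.map (e.hom.naturality (L.act r))).trans (P.map_comp _ _))) }
    have hE : Function.Bijective E :=
      ((EtCoh.HF (FinFr.ext K a) 0).mapIso (P.mapIso φ)).addCommGroupIsoToAddEquiv.bijective
    rw [← LinearMap.trace_conj' (FinFr.frobC (K := K) (𝟙 X₀) a L 0) (LinearEquiv.ofBijective E hE)]
    congr 1
    refine LinearMap.ext fun v => ?_
    rw [LinearEquiv.conj_apply_apply]
    obtain ⟨w, rfl⟩ := (LinearEquiv.ofBijective E hE).surjective v
    rw [LinearEquiv.symm_apply_apply]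
    exact SGA4hFrob.via_natural _ _ _ (FinFr.galAct_fst a _) φ.hom 0 w
  · haveI : IsFinite (FinFr.extStr K a) := inferInstance
    haveI := SGA4hFrob.subsingleton_H_finiteOverField (FinFr.extStr K a)
      (EtLam.pullback (FinFr.extπ K a) (FinFr.extZeroLam (𝟙 X₀) L)).carrier i (Nat.pos_of_ne_zero hi)
    rw [Subsingleton.elim (FinFr.frobC (K := K) (𝟙 X₀) a L i) 0, map_zero, mul_zero]

end Groth.Agent.S4260
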