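import Groth.Statements.S4263
import Groth.Agent.SGA4hFrob.FrobEt

set_option autoImplicit false
universe u
open CategoryTheory CategoryTheory.Limits AlgebraicGeometry Opposite
open scoped BigOperators
open SGA4h

namespace Groth.Agent.S4263

set_option backward.isDefEq.respectTransparency.types false

open CategoryTheory.Abelian in
theorem galH_const [Fact FinFr.PullExact.{u}] {X X₀ : Scheme.{u}} (A : X ⟶ X) (π : X ⟶ X₀) (w : A ≫ π = π)
    (M : Type) [AddCommGroup M] (n : ℕ) (x : EtCoh.H X ((EtCoh.pull π).obj (EtCoh.const X₀ M)) n) :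
    (haveI := FinFr.pullExact_out A; EtCore.HpullVia A π π w (EtCoh.const X₀ M) n x) =
      Sheaf.H.map (EtCore.pullConst π M).inv n
        (SGA4hFrob.hConst M A n (Sheaf.H.map (EtCore.pullConst π M).hom n x)) := by
  have := FinFr.pullExact_out A
  have e : ((EtCore.pullComp A π).symm ≪≫ EtCore.pullCongr w).hom.app (EtCoh.const X₀ M) =
      (EtCoh.pull A).map (EtCore.pullConst π M).hom ≫ (EtCore.pullConst A M).hom ≫
        (EtCore.pullConst π M).inv := by
    rw [← Category.assoc, SGA4hFrob.pullConst_comp_hom A π π w M, Category.assoc, Iso.hom_inv_id,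
      Category.comp_id]
  rw [EtMVLib.HpullVia_apply, e]
  simp only [SGA4hFrob.hConst, Sheaf.H.map_apply, FinFr.HpullF]
  rw [EtMVLib.Hpull_apply, Ext.mapExactFunctor_comp, Ext.mapExactFunctor_mk₀]
  simp only [Ext.comp_assoc_of_second_deg_zero, Ext.comp_assoc_of_third_deg_zero, Ext.mk₀_comp_mk₀,
    Category.assoc]

open CategoryTheory.Abelian in
theorem frob_eq {k : Type u} [Field k] [Fintype k] {K : Type u} [Field K] [Algebra k K]
    [Algebra.IsAlgebraic k K] (Λ : Type) [CommRing Λ] [Fact FinFr.PullExact.{u}] {X₀ : Scheme.{u}}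
    (a : X₀ ⟶ Spec (CommRingCat.of k)) (p : ℕ) [Fact p.Prime] [FrobSch.IsCharP X₀ p]
    [FrobSch.IsCharP (Spec (CommRingCat.of K)) p] [FrobSch.IsCharP (FinFr.ext K a) p] (m : ℕ)
    (F : X₀ ⟶ X₀) (hw : F ≫ a = a) (hF : F = SGA4hFrob.frobPow p X₀ m)
    (hK : Spec.map (CommRingCat.ofHom (FinFr.arith k K : K →+* K)) = SGA4hFrob.frobPow p _ m) (n : ℕ)
    (x : EtCoh.H (FinFr.ext K a) ((EtCoh.pull (FinFr.extπ K a)).obj (EtCoh.const X₀ Λ)) n) :
    FinFr.galH a (FinFr.arith k K).symm (EtCoh.const X₀ Λ) n x =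
      Sheaf.H.map (EtCore.pullConst (FinFr.extπ K a) Λ).inv n
        (FinFr.endConstAdd (Λ := Λ) (FinFr.extHom K a F hw) n
          (Sheaf.H.map (EtCore.pullConst (FinFr.extπ K a) Λ).hom n x)) := by
  set σ := FinFr.arith k K
  set G := FinFr.extHom K a F hw
  have h1 : G ≫ FinFr.galAct a σ = SGA4hFrob.frobPow p (FinFr.ext K a) m := by
    apply pullback.hom_ext
    · rw [Category.assoc]
      refine (congrArg (G ≫ ·) (FinFr.galAct_fst a σ)).trans ?_
      rw [SGA4hFrob.frobPow_comp]
      refine (FinFr.extHom_fst a _ hw).trans ?_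
      rw [hF]
    · rw [Category.assoc]
      refine (congrArg (G ≫ ·) (FinFr.galAct_snd a σ)).trans ?_
      rw [SGA4hFrob.frobPow_comp, ← hK]
      refine (Category.assoc _ _ _).symm.trans (congrArg (· ≫ _) ?_)
      exact (pullback.lift_snd _ _ _).trans (Category.comp_id _)
  have h2 : FinFr.galAct a σ ≫ FinFr.galAct a σ.symm = 𝟙 _ := by
    apply pullback.hom_ext
    · rw [Category.assoc, Category.id_comp]
      exact (congrArg (FinFr.galAct a σ ≫ ·) (FinFr.galAct_fst a σ.symm)).trans (FinFr.galAct_fst a σ)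
    · simp only [FinFr.galAct, Category.assoc, pullback.lift_snd, pullback.lift_snd_assoc, ← Spec.map_comp,
        Category.id_comp]
      rw [show (CommRingCat.ofHom (σ.symm : K →+* K) ≫ CommRingCat.ofHom (σ : K →+* K)) = 𝟙 _ by
        ext z; exact σ.apply_symm_apply z, Spec.map_id, Category.comp_id]
  have hid : ∀ y, SGA4hFrob.hConst Λ (𝟙 (FinFr.ext K a)) n y = y :=
    fun y => SGA4hFrob.hConst_frobPow p (FinFr.ext K a) Λ 0 n y
  have key : ∀ y, SGA4hFrob.hConst Λ G n y = SGA4hFrob.hConst Λ (FinFr.galAct a σ.symm) n y := by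
    intro y
    conv_lhs => rw [← hid y, SGA4hFrob.hConst_comp Λ _ _ _ h2]
    rw [← SGA4hFrob.hConst_comp Λ _ _ _ h1, SGA4hFrob.hConst_frobPow]
  refine (galH_const _ _ (FinFr.galAct_fst a σ.symm) Λ n x).trans (congrArg _ ?_)
  refine (key _).symm.trans ?_
  rfl

/-- For an affine scheme and constant coefficients, pullback along the Frobenius endomorphism equals the
geometric Frobenius on cohomology: let k be a finite field with q elements, K an algebraic
extension, R a k-algebra, X₀ = Spec R, φ_R : R → R the ring endomorphism r ↦ r^q (the Frobenius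
endomorphism F of X₀ is Spec φ_R, a k-morphism), and Λ a coefficient ring. Then for every n the
endomorphism of H^n(X₀ ⊗_k K, Λ) induced by pullback along F × id (using the identifications of the
inverse images of the constant sheaf Λ with Λ) coincides with the geometric Frobenius F^* defined as
transport of structure by the inverse of the arithmetic Frobenius x ↦ x^q of K. -/
theorem result (k K : Type u) [Field k] [Fintype k] [Field K] [Algebra k K]
    [Algebra.IsAlgebraic k K] (Λ : Type) [CommRing Λ] [Fact FinFr.PullExact.{u}]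
    (R : Type u) [CommRing R] [Algebra k R] (φ : R →+* R) (hφ : ∀ r : R, φ r = r ^ Fintype.card k)
    (hw : Spec.map (CommRingCat.ofHom φ) ≫ Spec.map (CommRingCat.ofHom (algebraMap k R)) =
      Spec.map (CommRingCat.ofHom (algebraMap k R))) (n : ℕ)
    (x : EtCoh.H (FinFr.ext K (Spec.map (CommRingCat.ofHom (algebraMap k R))))
      (EtLam.pullback (FinFr.extπ K (Spec.map (CommRingCat.ofHom (algebraMap k R)))) (FinFr.constLam Λ (Spec (CommRingCat.of R)))).carrier n) :
    FinFr.frob (K := K) (Spec.map (CommRingCat.ofHom (algebraMap k R))) (FinFr.constLam Λ (Spec (CommRingCat.of R))) n x =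
      Sheaf.H.map (EtCore.pullConst (FinFr.extπ K (Spec.map (CommRingCat.ofHom (algebraMap k R)))) Λ).inv n
        (FinFr.endConstAdd (Λ := Λ) (FinFr.extHom K (Spec.map (CommRingCat.ofHom (algebraMap k R))) (Spec.map (CommRingCat.ofHom φ)) hw) n
          (Sheaf.H.map (EtCore.pullConst (FinFr.extπ K (Spec.map (CommRingCat.ofHom (algebraMap k R)))) Λ).hom n x)) := by
  obtain ⟨p, hp⟩ := CharP.exists k
  obtain ⟨m, hprime, hq⟩ := FiniteField.card k p
  have : Fact p.Prime := ⟨hprime⟩
  have : FrobSch.IsCharP (Spec (CommRingCat.of R)) p := FrobSch.IsCharP.of_hom (Spec.map (CommRingCat.ofHom (algebraMap k R))) p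
  have : FrobSch.IsCharP (Spec (CommRingCat.of K)) p :=
    FrobSch.IsCharP.of_hom (FinFr.specι k K) p
  have : FrobSch.IsCharP (FinFr.ext K (Spec.map (CommRingCat.ofHom (algebraMap k R)))) p :=
    FrobSch.IsCharP.of_hom (FinFr.extπ K _) p
  have hspec : ∀ (S : Type u) [CommRing S] [FrobSch.IsCharP (Spec (CommRingCat.of S)) p] (ψ : S →+* S)
      (_ : ∀ r, ψ r = r ^ p ^ (m : ℕ)),
      Spec.map (CommRingCat.ofHom ψ) = SGA4hFrob.frobPow p (Spec (CommRingCat.of S)) m := by
    intro S _ _ ψ hψ
    apply ext_of_isAffine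
    ext s
    rw [SGA4hFrob.frobPow_appTop]
    obtain ⟨r, rfl⟩ := (Scheme.ΓSpecIso (CommRingCat.of S)).commRingCatIsoToRingEquiv.symm.surjective s
    change (Spec.map (CommRingCat.ofHom ψ)).appTop ((Scheme.ΓSpecIso (CommRingCat.of S)).inv r) =
      ((Scheme.ΓSpecIso (CommRingCat.of S)).inv r) ^ p ^ (m : ℕ)
    rw [← CommRingCat.comp_apply, ← Scheme.ΓSpecIso_inv_naturality, CommRingCat.comp_apply]
    exact (congrArg _ (hψ r)).trans (map_pow _ _ _)
  exact frob_eq Λ _ p m _ hw (hspec R φ fun r => by rw [hφ, hq]) (hspec K _ fun r => by simp [hq]) n x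

end Groth.Agent.S4263
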