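import Groth.Statements.S4285
import Groth.Agent.Pic13Lib.RegBounded
-- import your own Groth.Agent.* helpers here

set_option autoImplicit false
universe u
open CategoryTheory CategoryTheory.Limits AlgebraicGeometry
open Pic13

namespace Groth.Agent.S4285

/-- (iii) implies (i), over the base S = Spec k with k algebraically closed: let X ⊆ P^n_k be a closed
subscheme, m an integer and φ a polynomial. The family of coherent O_X-modules F which are m-regular
(H^q(X, F(m - q)) = 0 for q ≥ 1) and have Hilbert polynomial φ (χ(F(d)) = φ(d) for all integers d)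
is bounded. (The source allows a finite set of Hilbert polynomials and a projective X over a
Noetherian base with O_X(1) generated by global sections on the fibres.) -/
theorem result (k : Type u) [Field k] [IsAlgClosed k] (n : ℕ) (X : Scheme.{u}) [X.Over (Spec (CommRingCat.of k))]
    (i : X ⟶ CohB1.ProjSpace n k) [IsClosedImmersion i] (hi : i ≫ CohB1.ProjSpace.toSpec n k = X ↘ Spec (CommRingCat.of k))
    (m : ℤ) (φ : Polynomial ℚ) :
    Pic13.IsBounded k X (fun F : X.Modules => Coh.IsCoh F ∧ Pic13.IsMRegular k i F m ∧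
      ∀ d : ℤ, (FGA.eulerCharLE k X (Pic13.twistOn k i F d) n : ℚ) = φ.eval (d : ℚ)) := by
  haveI : IsLocallyNoetherian X := Pic13Lib.isLocallyNoetherian_of_closed i
  obtain ⟨T, q, h1, h2, G, hG, h⟩ := Pic13Lib.isBounded_of_regular i hi m (⌊φ.eval (m : ℚ)⌋).toNat
  refine ⟨T, q, h1, h2, G, hG, fun F ⟨hF, hreg, hφ⟩ => h F ⟨hF, hreg, ?_⟩⟩
  have h0 : FGA.eulerCharLE k X (Pic13.twistOn k i F m) n = (Module.finrank k (Coh.HH X (Pic13.twistOn k i F m) 0) : ℤ) := by
    rw [FGA.eulerCharLE, Finset.sum_range_succ', Finset.sum_eq_zero fun j _ => ?_]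
    · simp
    haveI := Pic13Lib.subsingleton_HH_of_isMRegular i hF hreg (q := j + 1) (Nat.succ_pos j) (d := m) (by omega)
    rw [Module.finrank_zero_of_subsingleton]
    simp
  have h := hφ m
  rw [h0, Int.cast_natCast] at h
  rw [← h, Int.floor_natCast, Int.toNat_natCast]

end Groth.Agent.S4285
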