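import Groth.Statements.S4286
import Groth.Agent.Pic13Lib.Bounded
-- import your own Groth.Agent.* helpers here

set_option autoImplicit false
universe u
open CategoryTheory CategoryTheory.Limits AlgebraicGeometry
open Pic13

namespace Groth.Agent.S4286

/-- (i) implies (iii), over the base S = Spec k with k algebraically closed: let X ⊆ P^n_k be a closed
subscheme and P a bounded family of coherent O_X-modules. Then there is an integer m such that every
member of P is m-regular, and the Hilbert polynomials d ↦ χ(F(d)) of the members of P form a finite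
set. -/
theorem result (k : Type u) [Field k] [IsAlgClosed k] (n : ℕ) (X : Scheme.{u}) [X.Over (Spec (CommRingCat.of k))]
    (i : X ⟶ CohB1.ProjSpace n k) [IsClosedImmersion i] (hi : i ≫ CohB1.ProjSpace.toSpec n k = X ↘ Spec (CommRingCat.of k))
    (P : X.Modules → Prop) (hP : ∀ F, P F → Coh.IsCoh F) (hb : Pic13.IsBounded k X P) :
    (∃ m : ℤ, ∀ F, P F → Pic13.IsMRegular k i F m) ∧
      ∃ s : Finset (Polynomial ℚ), ∀ F, P F → ∃ φ ∈ s, ∀ d : ℤ, (FGA.eulerCharLE k X (Pic13.twistOn k i F d) n : ℚ) = φ.eval (d : ℚ) := by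
  obtain ⟨T, q, _, _, F, hF, hmem⟩ := hb
  haveI : IsProper (CohB1.ProjSpace.toSpec n k) := Groth.Agent.PnCoh.Chow.isProper_toSpec n k
  haveI : IsProper (X ↘ Spec (CommRingCat.of k)) := hi ▸ inferInstance
  obtain ⟨m, s, h⟩ := Pic13Lib.exists_bound i q F hF
  refine ⟨⟨m, fun L hL => ?_⟩, s, fun L hL => ?_⟩
  · obtain ⟨t, ht, ⟨e⟩⟩ := hmem L hL
    exact fun p hp => QCoh.subsingleton_HH_of_iso (Pic13Lib.twistOn_congr i e _).some p ((h t ht).1 p hp)
  · obtain ⟨t, ht, ⟨e⟩⟩ := hmem L hL
    obtain ⟨-, φ, hφ, hv⟩ := h t ht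
    exact ⟨φ, hφ, fun d => by rw [← Pic13Lib.eulerCharLE_congr (Pic13Lib.twistOn_congr i e d).some n]; exact hv d⟩

end Groth.Agent.S4286
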