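import Groth.Statements.S4305
import Groth.Agent.Pic13Lib.TauApply
import Groth.Agent.S2122
-- import your own Groth.Agent.* helpers here

set_option autoImplicit false
universe u
open CategoryTheory CategoryTheory.Limits AlgebraicGeometry
open Pic13

namespace Groth.Agent.S4305

/-- Let k be an algebraically closed field, X an irreducible proper k-scheme of dimension ≤ d carrying
an ample invertible module H with inverse H', and L an invertible module with inverse L'. Condition
(v): χ(L^{⊗ m} ⊗ H^{⊗ n}) = χ(H^{⊗ n}) for all integers m, n — written with natural exponents on L,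
L', H, H' to cover all signs, Euler characteristics in degrees ≤ d; condition (i): L is τ-equivalent
to zero. -/
theorem result (k : Type u) [Field k] [IsAlgClosed k] (X : Scheme.{u})
    [X.Over (Spec (CommRingCat.of k))] [IsProper (X ↘ Spec (CommRingCat.of k))] [IrreducibleSpace X]
    (d : ℕ) (hd : topologicalKrullDim X ≤ d) (H H' L L' : X.Modules) (hH : CohB1.IsAmple H) (hL : PicF.IsInvertible L)
    (hHH' : Nonempty (CohB1.tensorMod H H' ≅ Coh.structureModule X)) (hLL' : Nonempty (CohB1.tensorMod L L' ≅ Coh.structureModule X))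
    (hτ : Pic13.IsTauEquivZero k X L) :
    ∀ m n : ℕ,
      FGA.eulerCharLE k X (CohB1.tensorMod (CohB1.tensorPow L m) (CohB1.tensorPow H n)) d = FGA.eulerCharLE k X (CohB1.tensorPow H n) d ∧
      FGA.eulerCharLE k X (CohB1.tensorMod (CohB1.tensorPow L m) (CohB1.tensorPow H' n)) d = FGA.eulerCharLE k X (CohB1.tensorPow H' n) d ∧
      FGA.eulerCharLE k X (CohB1.tensorMod (CohB1.tensorPow L' m) (CohB1.tensorPow H n)) d = FGA.eulerCharLE k X (CohB1.tensorPow H n) d ∧
      FGA.eulerCharLE k X (CohB1.tensorMod (CohB1.tensorPow L' m) (CohB1.tensorPow H' n)) d = FGA.eulerCharLE k X (CohB1.tensorPow H' n) d := by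
  intro m n
  have : IsLocallyNoetherian X := LocallyOfFiniteType.isLocallyNoetherian (X ↘ Spec (CommRingCat.of k))
  have hH' : PicF.IsInvertible H' :=
    Groth.Agent.S2122.result H' H ((H23.PicMul.comm H' H).some ≪≫ hHH'.some)
  have hL' : PicF.IsInvertible L' :=
    Groth.Agent.S2122.result L' L ((H23.PicMul.comm L' L).some ≪≫ hLL'.some)
  have hc : ∀ M : X.Modules, PicF.IsInvertible M → Coh.IsCoh (CohB1.tensorPow M n) := fun M hM =>
    AmpleVan.isCoh_invertible (H23.PicMul.isInvertible_tensorPow hM n)
  have key : ∀ A B : X.Modules, FGA.eulerCharLE k X (CohB1.tensorMod B A) d = FGA.eulerCharLE k X B d →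
      FGA.eulerCharLE k X (CohB1.tensorMod A B) d = FGA.eulerCharLE k X B d :=
    fun A B h => (Pic13Lib.eulerCharLE_congr (H23.PicMul.comm A B).some d).trans h
  exact ⟨key _ _ (Pic13Lib.euler_tensorPow_eq d hd hL hτ (hc H hH.1) m),
    key _ _ (Pic13Lib.euler_tensorPow_eq d hd hL hτ (hc H' hH') m),
    key _ _ (Pic13Lib.euler_tensorPow_inv_eq d hd hL hL' hLL'.some hτ (hc H hH.1) m),
    key _ _ (Pic13Lib.euler_tensorPow_inv_eq d hd hL hL' hLL'.some hτ (hc H' hH') m)⟩

end Groth.Agent.S4305
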