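import Groth.Statements.S4334
import Groth.Agent.EtDual68.CurveDim
import Groth.Agent.EtDual68.CurveKummer
import Groth.Agent.S0227
-- import your own Groth.Agent.* helpers here

set_option autoImplicit false
universe u
open CategoryTheory CategoryTheory.Limits AlgebraicGeometry Opposite
open EtSix

namespace Groth.Agent.S4334

/-- The degree-two step in canonical form: let X be a smooth projective curve over an algebraically
closed field k (here: X integral, with a proper morphism X -> Spec k that is smooth of relative
dimension 1), and n an integer that is nonzero in k, so that the n-th power map on G_m is an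
epimorphism of sheaves on the small etale site (taken as the hypothesis h). Then the boundary map
H^1(X, G_m) -> H^2(X, μ_n) of the Kummer sequence is surjective, and its kernel is the image of
multiplication by n on H^1(X, G_m). -/
theorem result (k : Type u) [Field k] [IsAlgClosed k] {X : Scheme.{u}} [IsIntegral X]
    (f : X ⟶ Spec (CommRingCat.of k)) [IsProper f] [SmoothOfRelativeDimension 1 f]
    (n : ℕ) (hn : (n : k) ≠ 0) (h : Epi (EtCoh.powMap X n)) :
    Function.Surjective (EtSix.kummerBoundary h 1) ∧
      (EtSix.kummerBoundary h 1).ker = (n • AddMonoidHom.id (EtCoh.H X (EtCoh.Gm X) 1)).range := by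
  have hdim : topologicalKrullDim X = 1 := by
    simpa using Groth.Agent.EtDual68.CurveDim.topologicalKrullDim_eq f 1
  have := SmoothOfRelativeDimension.smooth 1 f
  have := Groth.Agent.S0227.result k X f hdim 2 le_rfl
  let hS := EtSix.kummerShortExact h
  refine ⟨fun x => Abelian.Ext.covariant_sequence_exact₁ _ hS x (this.elim _ _) rfl, ?_⟩
  ext x
  constructor
  · intro hx
    obtain ⟨y, hy⟩ := Abelian.Ext.covariant_sequence_exact₃ _ hS x rfl hx
    refine ⟨y, Eq.trans ?_ hy⟩
    show n • y = y.comp (Abelian.Ext.mk₀ (n • 𝟙 (EtCoh.Gm X))) (add_zero 1)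
    exact (Groth.Agent.EtDual68.CurveKummer.comp_mk₀_nsmul y n).symm
  · rintro ⟨y, rfl⟩
    show EtSix.kummerBoundary h 1 (n • y) = 0
    rw [← Groth.Agent.EtDual68.CurveKummer.comp_mk₀_nsmul y n]
    show (y.comp (Abelian.Ext.mk₀ (EtCoh.powMap X n)) (add_zero 1)).comp hS.extClass rfl = 0
    exact Groth.Agent.EtDual68.CurveKummer.comp_g_extClass hS y

end Groth.Agent.S4334
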