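import Groth.Statements.S4466
import Groth.Agent.Coh43.PnTwist

set_option autoImplicit false
universe u
open Coherent

namespace Groth.Agent.S4466

open AlgebraicGeometry CategoryTheory in
/-- Let k be a field, r > 0 and n any integer. Then the Euler characteristic of the twisting sheaf O(n)
on projective r-space over k, namely the alternating sum of the dimensions of H^j(P^r_k, O(n)) for 0
≤ j ≤ r, equals the binomial coefficient C(n+r, r), understood as the binomial polynomial evaluated
at the integer n+r (so that it makes sense and is correct for negative n too). -/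
theorem result (k : Type u) [Field k] (r : ℕ) (hr : 0 < r)
    (n : ℤ) :
    ((Finset.range (r + 1)).sum fun j => (-1 : ℤ) ^ j *
        (Module.finrank k (Coh.HH (CohB1.ProjSpace r k) (Twist.twistProjSpace r k n) j) : ℤ)) =
      Ring.choose (n + r) r := by
  show ((Finset.range (r + 1)).sum fun j => (-1 : ℤ) ^ j *
    (Groth.Agent.Coh43.hP k r n j : ℤ)) = Ring.choose (n + r) r
  rw [Finset.sum_range_succ, Finset.sum_eq_single 0]
  rotate_left
  · intro j hj hj0
    rw [Groth.Agent.Coh43.hP_eq_zero k r (fun h => hj0 h.1)
      (fun h => by rw [Finset.mem_range] at hj; omega)]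
    simp
  · intro h
    exact absurd (Finset.mem_range.2 hr) h
  rw [Groth.Agent.Coh43.hP_zero k r hr, Groth.Agent.Coh43.hP_top k r hr]
  by_cases h1 : 0 ≤ n + r
  · obtain ⟨m, hm⟩ := Int.eq_ofNat_of_zero_le h1
    rw [hm, Ring.choose_natCast, Int.toNat_natCast,
      Nat.choose_eq_zero_of_lt (show (-n - 1).toNat < r by omega)]
    simp
  · rw [Nat.choose_eq_zero_of_lt (show (n + (r : ℤ)).toNat < r by omega),
      show n + (r : ℤ) = -(-(n + r)) by ring, Ring.choose_neg,
      show -(n + (r : ℤ)) + r - 1 = ((-n - 1).toNat : ℤ) by omega, Ring.choose_natCast]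
    simp [Units.smul_def, Int.coe_negOnePow_natCast]

end Groth.Agent.S4466
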