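import Groth.Statements.S4487
import Groth.Agent.FlatAssocX.CxRank
import Groth.Agent.S2440
import Groth.Agent.S4485

set_option autoImplicit false
universe u
open FlatCx

namespace Groth.Agent.S4487

open CategoryTheory CategoryTheory.Limits in
/-- The case of the homological functor T_p(M) = H_p(P ⊗_A M) of a chain complex P of flat modules over
a commutative ring A. Let A be Noetherian and suppose P_i = 0 for i < i₀ and that every T_n(A) is a
finitely generated A-module. Then for every integer N there is a dense open subset U of Spec A such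
that, for every p ≤ N, the function x ↦ dim_{k(x)} H_p(P ⊗_A k(x)) is locally constant on U. (The
published statement says constant on U; over the product of two fields, with P the projective module
supported on one factor placed in degree 0, the only dense open set is the whole two-point spectrum
and the ranks there are 1 and 0, so locally constant on U is what holds; the argument produces U as
a disjoint union of opens, one dense in each irreducible component, on each of which the functions
are constant.) -/
theorem result {A : Type u} [CommRing A] [IsNoetherianRing A]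
    (P : ChainComplex (ModuleCat.{u} A) ℤ) (hP : ∀ i, Module.Flat A (P.X i)) (i₀ : ℤ)
    (hb : ∀ i < i₀, IsZero (P.X i))
    (hfg : ∀ n : ℤ, Module.Finite A (CohIII.T P n (ModuleCat.of A A))) (N : ℤ) :
    ∃ U : Set (PrimeSpectrum A), IsOpen U ∧ Dense U ∧
      ∀ p ≤ N, IsLocallyConstant (fun x : U => CohIII.dRank P p x) := by
  classical
  have hfin := Groth.Agent.FlatAssocX.finite_T_of_finite hP hb hfg
  let Min : Set (PrimeSpectrum A) := {x | x.asIdeal ∈ minimalPrimes A}
  have hMin : Min.Finite := by
    have : (minimalPrimes A).Finite := minimalPrimes.finite_of_isNoetherianRing A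
    exact this.preimage (Set.injOn_of_injective fun a b h => PrimeSpectrum.ext h)
  have key : ∀ m : Min, ∃ f : A, f ∉ m.1.asIdeal ∧ ∀ q ≤ N, ∀ x y : PrimeSpectrum A,
      m.1 ≤ x → f ∉ x.asIdeal → m.1 ≤ y → f ∉ y.asIdeal →
        CohIII.dRank P q x = CohIII.dRank P q y := by
    intro m
    let D := A ⧸ m.1.asIdeal
    let φ : A →+* D := algebraMap A D
    let PD := CohIII.bcCx φ P
    have hPD : ∀ i, Module.Flat D (PD.X i) := Groth.Agent.FlatCxLib.flat_bcCx_X P hP
    have hbD : ∀ i < i₀, IsZero (PD.X i) := fun i hi =>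
      (ModuleCat.extendScalars φ).map_isZero (hb i hi)
    have hD : Module.Finite A ((ModuleCat.restrictScalars φ).obj (ModuleCat.of D D)) :=
      Module.Finite.of_surjective (M := A)
        ({ toFun := fun a => φ a
           map_add' := fun a b => φ.map_add a b
           map_smul' := fun a b => φ.map_mul a b } :
          A →ₗ[A] (ModuleCat.restrictScalars φ).obj (ModuleCat.of D D))
        Ideal.Quotient.mk_surjective
    have hfgD : ∀ n : ℤ, Module.Finite D (CohIII.T PD n (ModuleCat.of D D)) := fun n =>
      Groth.Agent.FlatAssocX.finite_T_bcCx φ n (hfin n _ hD)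
    obtain ⟨g, hg0, hg⟩ := Groth.Agent.FlatAssocX.exists_away_exact_upTo hPD hbD
      (fun n => have := hfgD n; Module.finitePresentation_of_finite D _) N
    obtain ⟨f, rfl⟩ := Ideal.Quotient.mk_surjective g
    refine ⟨f, fun hf => hg0 (Ideal.Quotient.eq_zero_iff_mem.2 hf), ?_⟩
    let E := Localization.Away (Ideal.Quotient.mk m.1.asIdeal f)
    have hne : Submonoid.powers (Ideal.Quotient.mk m.1.asIdeal f) ≤ nonZeroDivisors D :=
      powers_le_nonZeroDivisors_of_noZeroDivisors hg0
    have : IsDomain E := IsLocalization.isDomain_localization hne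
    intro q hq x y hx hfx hy hfy
    have hfp' : Module.FinitePresentation E
        (CohIII.T (CohIII.bcCx (algebraMap D E) PD) q (ModuleCat.of E E)) := by
      have := hfgD q
      obtain ⟨e⟩ := Groth.Agent.FlatAssocX.nonempty_T_bcCx_equiv (P := PD) (B := E) q
      have : Module.Finite E (CohIII.T (CohIII.bcCx (algebraMap D E) PD) q (ModuleCat.of E E)) :=
        Module.Finite.equiv e
      exact Module.finitePresentation_of_finite E _
    have hlc := Groth.Agent.S4485.result _ (Groth.Agent.FlatCxLib.flat_bcCx_X PD hPD) q (hg q hq) hfp'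
    have lift : ∀ z : PrimeSpectrum A, m.1 ≤ z → f ∉ z.asIdeal →
        ∃ z' : PrimeSpectrum E, CohIII.dRank P q z =
          CohIII.dRank (CohIII.bcCx (algebraMap D E) PD) q z' := by
      intro z hz hfz
      have h1 : z ∈ Set.range (PrimeSpectrum.comap φ) := by
        rw [show φ = Ideal.Quotient.mk m.1.asIdeal from rfl]
        rw [range_comap_of_surjective _ _ Ideal.Quotient.mk_surjective,
          PrimeSpectrum.mem_zeroLocus, Ideal.mk_ker]
        exact hz
      obtain ⟨w, rfl⟩ := h1
      have h2 : w ∈ Set.range (PrimeSpectrum.comap (algebraMap D E)) := by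
        rw [PrimeSpectrum.localization_away_comap_range E (Ideal.Quotient.mk m.1.asIdeal f)]
        exact hfz
      obtain ⟨v, rfl⟩ := h2
      exact ⟨v, ((Groth.Agent.S2440.result PD hPD q v).trans
        (Groth.Agent.S2440.result P hP q (PrimeSpectrum.comap (algebraMap D E) v))).symm⟩
    obtain ⟨x', hx'⟩ := lift x hx hfx
    obtain ⟨y', hy'⟩ := lift y hy hfy
    rw [hx', hy']
    exact hlc.apply_eq_of_preconnectedSpace _ _
  choose f hf hconst using key
  let V : Min → Set (PrimeSpectrum A) := fun m =>
    ↑(PrimeSpectrum.basicOpen (f m)) \ ⋃ m' ∈ Min \ {m.1}, closure {m'}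
  have hVo : ∀ m, IsOpen (V m) := fun m =>
    (PrimeSpectrum.basicOpen (f m)).isOpen.sdiff
      ((hMin.sdiff (t := {m.1})).isClosed_biUnion fun _ _ => isClosed_closure)
  have hVm : ∀ m, m.1 ∈ V m := fun m => ⟨hf m, by
    simp only [Set.mem_iUnion, not_exists]
    intro m' hm' h
    have hle : m' ≤ m.1 := (PrimeSpectrum.le_iff_mem_closure m' m.1).2 h
    exact hm'.2 (PrimeSpectrum.ext (le_antisymm hle
      ((m.2 : m.1.asIdeal ∈ minimalPrimes A).2 ⟨m'.isPrime, bot_le⟩ hle)))⟩
  have hcover : ∀ x : PrimeSpectrum A, ∃ m : Min, m.1 ≤ x := fun x => by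
    obtain ⟨p, hp, hpx⟩ := Ideal.exists_minimalPrimes_le (bot_le (a := x.asIdeal))
    exact ⟨⟨⟨p, hp.1.1⟩, hp⟩, hpx⟩
  have hle : ∀ (m : Min), ∀ x ∈ V m, m.1 ≤ x := by
    intro m x hx
    obtain ⟨m', hm'⟩ := hcover x
    by_cases hmm : m'.1 = m.1
    · exact hmm ▸ hm'
    · exact absurd (Set.mem_iUnion₂.2 ⟨m'.1, ⟨m'.2, hmm⟩,
        (PrimeSpectrum.le_iff_mem_closure m'.1 x).1 hm'⟩) hx.2
  refine ⟨⋃ m, V m, isOpen_iUnion hVo, ?_, ?_⟩
  · intro x
    obtain ⟨m, hm⟩ := hcover x
    exact (closure_mono (Set.singleton_subset_iff.2 (Set.mem_iUnion.2 ⟨m, hVm m⟩)))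
      ((PrimeSpectrum.le_iff_mem_closure m.1 x).1 hm)
  · intro p hp
    rw [IsLocallyConstant.iff_exists_open]
    rintro ⟨x, hx⟩
    obtain ⟨m, hm⟩ := Set.mem_iUnion.1 hx
    exact ⟨Subtype.val ⁻¹' V m, (hVo m).preimage continuous_subtype_val, hm, fun y hy =>
      hconst m p hp y.1 x (hle m y.1 hy) hy.1 (hle m x hm) hm.1⟩

end Groth.Agent.S4487
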