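import Groth.Statements.S4499
import Groth.Agent.FlatAssocX.Dedekind

set_option autoImplicit false
universe u
attribute [local instance] HasDerivedCategory.standard
open FlatCx
open CategoryTheory

namespace Groth.Agent.S4499

/-- Let A be a Noetherian local ring with residue field k, and d : P₁ → P₀ an A-linear map between flat
A-modules, viewed as a two-term chain complex, so that H₁ = Ker d, H₀ = Coker d and H₁ of the
complex tensored with k is Ker(d ⊗ 1_k). Let α : (Ker d) ⊗_A k → P₁ ⊗_A k be the map induced by the
inclusion Ker d → P₁; its image lies in Ker(d ⊗ 1_k). Then there is an exact sequence 0 →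
Tor₂^A(Coker d, k) → (Ker d) ⊗_A k → Ker(d ⊗ 1_k) → Tor₁^A(Coker d, k) → 0 with middle map α, stated
here as: Ker α is isomorphic to Tor₂^A(Coker d, k), and the quotient of Ker(d ⊗ 1_k) by the image of
α is isomorphic to Tor₁^A(Coker d, k) (existence of A-linear isomorphisms only; Tor is Mathlib's,
left derived in the second variable). (In the published statement the cokernel is printed without
its prime, as the module of 0-cycles; the proof is about the cokernel of d.) -/
theorem result {A : Type u} [CommRing A] [IsNoetherianRing A]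
    [IsLocalRing A] {P₁ P₀ : Type u} [AddCommGroup P₁] [Module A P₁] [AddCommGroup P₀] [Module A P₀]
    [Module.Flat A P₁] [Module.Flat A P₀] (d : P₁ →ₗ[A] P₀) :
    Nonempty (LinearMap.ker ((LinearMap.ker d).subtype.rTensor (IsLocalRing.ResidueField A)) ≃ₗ[A]
        DRing.Tor A 2 (P₀ ⧸ LinearMap.range d) (IsLocalRing.ResidueField A)) ∧
      LinearMap.range ((LinearMap.ker d).subtype.rTensor (IsLocalRing.ResidueField A)) ≤
        LinearMap.ker (d.rTensor (IsLocalRing.ResidueField A)) ∧
      Nonempty ((↥(LinearMap.ker (d.rTensor (IsLocalRing.ResidueField A))) ⧸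
          Submodule.comap (LinearMap.ker (d.rTensor (IsLocalRing.ResidueField A))).subtype
            (LinearMap.range ((LinearMap.ker d).subtype.rTensor (IsLocalRing.ResidueField A)))) ≃ₗ[A]
        DRing.Tor A 1 (P₀ ⧸ LinearMap.range d) (IsLocalRing.ResidueField A)) := by
  let k := IsLocalRing.ResidueField A
  let B := LinearMap.range d
  let v := d.rangeRestrict
  have hd : d.rTensor k = B.subtype.rTensor k ∘ₗ v.rTensor k := by
    rw [← LinearMap.rTensor_comp]
    rfl
  have hex0 : Function.Exact (LinearMap.ker d).subtype v :=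
    LinearMap.exact_iff.2 (by rw [LinearMap.ker_rangeRestrict, Submodule.range_subtype])
  have hv : Function.Surjective v := d.surjective_rangeRestrict
  have hex := rTensor_exact k hex0 hv
  have hle : LinearMap.range ((LinearMap.ker d).subtype.rTensor k) ≤ LinearMap.ker (d.rTensor k) := by
    rintro _ ⟨x, rfl⟩
    rw [LinearMap.mem_ker, hd, LinearMap.comp_apply, hex.apply_apply_eq_zero, map_zero]
  refine ⟨?_, hle, ?_⟩
  · have hz : ModuleCat.ofHom (LinearMap.ker d).subtype ≫ ModuleCat.ofHom v = 0 :=
      ModuleCat.hom_ext (LinearMap.ext hex0.apply_apply_eq_zero)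
    let S : ShortComplex (ModuleCat.{u} A) := ShortComplex.mk _ _ hz
    have hS : S.ShortExact :=
      { exact := (ShortComplex.ShortExact.moduleCat_exact_iff_function_exact S).2 hex0
        mono_f := (ModuleCat.mono_iff_injective _).2 Subtype.val_injective
        epi_g := (ModuleCat.epi_iff_surjective _).2 hv }
    haveI : Module.Flat A S.X₂ := inferInstanceAs (Module.Flat A P₁)
    obtain ⟨e1⟩ := Groth.Agent.FlatAssocX.nonempty_torOne_equiv_ker hS k
    have hz' : ModuleCat.ofHom B.subtype ≫ ModuleCat.ofHom B.mkQ = 0 :=
      ModuleCat.hom_ext (LinearMap.ext fun x => (Submodule.Quotient.mk_eq_zero B).2 x.2)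
    let T : ShortComplex (ModuleCat.{u} A) := ShortComplex.mk _ _ hz'
    have hT : T.ShortExact :=
      { exact := (ShortComplex.ShortExact.moduleCat_exact_iff_function_exact T).2
          (LinearMap.exact_subtype_mkQ B)
        mono_f := (ModuleCat.mono_iff_injective _).2 Subtype.val_injective
        epi_g := (ModuleCat.epi_iff_surjective _).2 (Submodule.mkQ_surjective B) }
    haveI : Module.Flat A T.X₂ := inferInstanceAs (Module.Flat A P₀)
    obtain ⟨e2⟩ := Groth.Agent.FlatAssocX.nonempty_tor_succ_equiv hT k 0
    exact ⟨(e2.trans e1).symm⟩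
  · obtain ⟨e⟩ := Groth.Agent.FlatAssocX.nonempty_torOne_quotient_equiv_ker B k
    obtain ⟨e'⟩ := Groth.Agent.FlatAssocX.nonempty_kerQuot_equiv _ _ _ _ hd
      (LinearMap.rTensor_surjective k hv) hex
    exact ⟨e'.trans e.symm⟩

end Groth.Agent.S4499
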