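import Groth.Statements.S4568
import Groth.Agent.S12124
import Mathlib
-- import your own Groth.Agent.* helpers here

set_option autoImplicit false
universe u
open CAlg

namespace Groth.Agent.S4568

/-- A finite subalgebra over a localisation comes from a finite subalgebra. -/
theorem exists_model {A L K : Type u} [CommRing A] [IsDomain A] [CommRing L] [Algebra A L] (M : Submonoid A)
    [IsLocalization M L] [Field K] [Algebra A K] [Algebra L K] [IsScalarTower A L K] [IsFractionRing A K]
    (C : Subalgebra L K) [Module.Finite L C] (hC : C ≤ integralClosure L K) :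
    ∃ C₀ : Subalgebra A K, C₀ ≤ integralClosure A K ∧ Module.Finite A C₀ ∧
      (∀ y ∈ C₀, y ∈ C) ∧ ∀ y ∈ C, ∃ s ∈ M, s • y ∈ C₀ := by
  classical
  obtain ⟨G, hG⟩ := (Module.Finite.fg_top : (⊤ : Submodule L C).FG)
  have hint : ∀ g : C, ∃ s ∈ M, IsIntegral A (s • (g : K)) := fun g => by
    obtain ⟨⟨s, hs⟩, h⟩ := IsIntegral.exists_multiple_integral_of_isLocalization M (g : K) (hC g.2)
    exact ⟨s, hs, h⟩
  choose t htM ht using hint
  let S : Set K := (fun g => t g • (g : K)) '' (G : Set C)
  have hSint : ∀ y ∈ S, IsIntegral A y := by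
    rintro _ ⟨g, -, rfl⟩
    exact ht g
  have hle : Algebra.adjoin A S ≤ integralClosure A K := Algebra.adjoin_le hSint
  refine ⟨Algebra.adjoin A S, hle,
    Module.Finite.of_fg (fg_adjoin_of_finite (G.finite_toSet.image _) hSint), fun y hy => ?_, fun y hy => ?_⟩
  · have h' : Algebra.adjoin A S ≤ C.restrictScalars A := Algebra.adjoin_le (by
      rintro _ ⟨g, -, rfl⟩
      show t g • (g : K) ∈ C
      rw [← algebraMap_smul L (t g) (g : K)]
      exact C.smul_mem g.2 _)
    exact h' hy
  · have key : ∀ c : C, c ∈ Submodule.span L (G : Set C) → ∃ s ∈ M, s • (c : K) ∈ Algebra.adjoin A S := by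
      intro c hc
      induction hc using Submodule.span_induction with
      | mem g hg => exact ⟨t g, htM g, Algebra.subset_adjoin ⟨g, hg, rfl⟩⟩
      | zero => exact ⟨1, M.one_mem, by simp⟩
      | add a b _ _ ha hb =>
        obtain ⟨s, hs, ha⟩ := ha
        obtain ⟨s', hs', hb⟩ := hb
        refine ⟨s * s', M.mul_mem hs hs', ?_⟩
        rw [Subalgebra.coe_add, smul_add]
        refine add_mem ?_ ?_
        · rw [mul_comm, mul_smul]; exact Subalgebra.smul_mem _ ha _
        · rw [mul_smul]; exact Subalgebra.smul_mem _ hb _
      | smul r a _ ha =>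
        obtain ⟨s, hs, ha⟩ := ha
        obtain ⟨⟨b, s'⟩, hb⟩ := IsLocalization.surj M r
        refine ⟨s' * s, M.mul_mem s'.2 hs, ?_⟩
        have e : ((s' : A) * s) • ((r • a : C) : K) = b • s • (a : K) := by
          rw [show ((r • a : C) : K) = r • (a : K) from rfl, Algebra.smul_def, Algebra.smul_def r, Algebra.smul_def b, Algebra.smul_def s,
            map_mul, IsScalarTower.algebraMap_apply A L K (s' : A), IsScalarTower.algebraMap_apply A L K b,
            ← hb, map_mul]
          ring
        rw [e]
        exact Subalgebra.smul_mem _ ha _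
    exact key ⟨y, hy⟩ (hG.ge Submodule.mem_top)

end Groth.Agent.S4568

namespace Groth.Agent.S4568

/-- Let A be a Noetherian domain with fraction field K and A' its integral closure in K. Assume that for
every sub-A-algebra C of A' which is finite over A, every height-one prime of C lies over a
height-one prime of A. Then A' is the intersection in K of the localizations A'_p over the
height-one primes p of A. -/
theorem result {A : Type u} [CommRing A] [IsDomain A] [IsNoetherianRing A]
    (h : ∀ C : Subalgebra A (FractionRing A), C ≤ integralClosure A (FractionRing A) → Module.Finite A C →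
      ∀ (q : Ideal C) [q.IsPrime], q.height = 1 → (q.comap (algebraMap A C)).height = 1) :
    (integralClosure A (FractionRing A) : Set (FractionRing A)) =
      ⋂ (p : PrimeSpectrum A) (_ : p.asIdeal.height = 1),
        {x : FractionRing A | ∃ s : A, s ∉ p.asIdeal ∧
          algebraMap A (FractionRing A) s * x ∈ integralClosure A (FractionRing A)} := by
  classical
  let K := FractionRing A
  ext x
  simp only [Set.mem_iInter, Set.mem_ofPred_eq, SetLike.mem_coe]
  refine ⟨fun hx p _ => ⟨1, p.asIdeal.primeCompl.one_mem, by rwa [map_one, one_mul]⟩, fun hx => ?_⟩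
  -- the conductor of `x`
  let D : Ideal A :=
    { carrier := {a | IsIntegral A (algebraMap A K a * x)}
      add_mem' := fun {a b} ha hb => by
        show IsIntegral A _
        rw [map_add, add_mul]; exact ha.add hb
      zero_mem' := by
        show IsIntegral A _
        rw [map_zero, zero_mul]; exact isIntegral_zero
      smul_mem' := fun c a ha => by
        show IsIntegral A _
        rw [smul_eq_mul, map_mul, mul_assoc]; exact isIntegral_algebraMap.mul ha }
  suffices hD : D = ⊤ by
    have h1 : (1 : A) ∈ D := hD ▸ Submodule.mem_top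
    have h2 : IsIntegral A (algebraMap A K 1 * x) := h1
    rwa [map_one, one_mul] at h2
  by_contra hD
  obtain ⟨m, hm, hDm⟩ := Ideal.exists_le_maximal D hD
  let L := Localization.AtPrime m
  let φ : L →ₐ[A] K := IsLocalization.liftAlgHom (M := m.primeCompl) (f := Algebra.ofId A K)
    (fun s => IsUnit.mk0 _ fun h0 => s.2 (by
      rw [IsFractionRing.injective A K (h0.trans (map_zero _).symm)]; exact m.zero_mem))
  let : Algebra L K := φ.toRingHom.toAlgebra
  have : IsScalarTower A L K := IsScalarTower.of_algebraMap_eq fun a => (φ.commutes a).symm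
  have : IsDomain L := IsLocalization.isDomain_localization m.primeCompl_le_nonZeroDivisors
  have : IsFractionRing L K := IsFractionRing.isFractionRing_of_isDomain_of_isLocalization m.primeCompl L K
  obtain ⟨C, hfin, hle, hsep⟩ := Groth.Agent.UnibConn.exists_separating L K
  have := hfin
  obtain ⟨C₀, hC₀, hC₀fin, hsub, hclear⟩ := exists_model m.primeCompl C hle
  let : Algebra C₀ C := RingHom.toAlgebra
    { toFun := fun y => ⟨y.1, hsub _ y.2⟩
      map_one' := rfl, map_mul' := fun _ _ => rfl, map_zero' := rfl, map_add' := fun _ _ => rfl }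
  have hu : ∀ s ∈ m.primeCompl, IsUnit (algebraMap A C s) := fun s hs => by
    rw [IsScalarTower.algebraMap_apply A L C]
    exact (IsLocalization.map_units L (⟨s, hs⟩ : m.primeCompl)).map (algebraMap L C)
  have : IsLocalization (m.primeCompl.map (algebraMap A C₀)) C := by
    constructor
    constructor
    · rintro ⟨_, s, hs, rfl⟩
      exact (show algebraMap C₀ C (algebraMap A C₀ s) = algebraMap A C s from
        Subtype.ext rfl).symm ▸ hu s hs
    · intro c
      obtain ⟨s, hs, hsc⟩ := hclear c.1 c.2
      refine ⟨⟨⟨_, hsc⟩, ⟨_, s, hs, rfl⟩⟩, Subtype.ext ?_⟩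
      show (c : K) * algebraMap A K s = s • (c : K)
      rw [Algebra.smul_def, mul_comm]
    · intro a b hab
      have : a = b := Subtype.ext (congrArg (fun c : C => (c : K)) hab)
      exact ⟨1, by rw [this]⟩
  have hxL : IsIntegral L x := by
    refine Groth.Agent.S12124.partB C hle hsep x fun q _ hq => ?_
    have hq₀ : (q.comap (algebraMap C₀ C)).height = 1 :=
      (IsLocalization.height_under (m.primeCompl.map (algebraMap A C₀)) q).trans hq
    have hp := h C₀ hC₀ hC₀fin (q.comap (algebraMap C₀ C)) hq₀
    obtain ⟨s, hs, hsx⟩ := hx ⟨_, Ideal.comap_isPrime (algebraMap A C₀) _⟩ hp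
    refine ⟨algebraMap L C (algebraMap A L s), fun hmem => hs ?_, ?_⟩
    · show algebraMap C₀ C (algebraMap A C₀ s) ∈ q
      convert hmem using 1
      exact Subtype.ext (IsScalarTower.algebraMap_apply A L K s)
    · show IsIntegral L (algebraMap L K (algebraMap A L s) * x)
      rw [← IsScalarTower.algebraMap_apply]
      exact hsx.tower_top
  obtain ⟨⟨s, hs⟩, hsi⟩ := IsIntegral.exists_multiple_integral_of_isLocalization m.primeCompl x hxL
  refine hs (hDm ?_)
  show IsIntegral A _
  rwa [Submonoid.smul_def, Algebra.smul_def] at hsi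

end Groth.Agent.S4568
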