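import Groth.Statements.S4601
import Mathlib
-- import your own Groth.Agent.* helpers here

set_option autoImplicit false
universe u
open TensorProduct
open CAlg

namespace Groth.Agent.S4601

/-- Let A be a domain with fraction field K, B a Noetherian A-algebra which is flat over A, K' an
extension field of K, B₁ = B_red and R its total ring of fractions. For every sub-A-algebra A' of
K', the map (A' ⊗_A B)_red → (K' ⊗_A R)_red is injective, i.e. an element of A' ⊗_A B with nilpotent
image in K' ⊗_A R is nilpotent. -/
theorem result {A B K' R : Type u} [CommRing A]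
    [IsDomain A] [CommRing B] [Algebra A B] [IsNoetherianRing B] [Module.Flat A B]
    [Field K'] [Algebra A K'] [Algebra (FractionRing A) K'] [IsScalarTower A (FractionRing A) K']
    [CommRing R] [Algebra (B ⧸ nilradical B) R] [IsFractionRing (B ⧸ nilradical B) R]
    [Algebra B R] [IsScalarTower B (B ⧸ nilradical B) R] [Algebra A R] [IsScalarTower A B R]
    (A' : Subalgebra A K') (x : ↥A' ⊗[A] B)
    (hx : IsNilpotent (Algebra.TensorProduct.map A'.val (IsScalarTower.toAlgHom A B R) x)) :
    IsNilpotent x := by
  have : Module.Flat A (FractionRing A) := IsLocalization.flat _ (nonZeroDivisors A)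
  have : Module.Flat A K' := Module.Flat.trans A (FractionRing A) K'
  let π : B →ₐ[A] B ⧸ nilradical B := Ideal.Quotient.mkₐ A (nilradical B)
  have : IsScalarTower A (B ⧸ nilradical B) R := IsScalarTower.of_algebraMap_eq fun a => by
    rw [IsScalarTower.algebraMap_apply A B (B ⧸ nilradical B), ← IsScalarTower.algebraMap_apply B (B ⧸ nilradical B) R,
      ← IsScalarTower.algebraMap_apply A B R]
  let ι : (B ⧸ nilradical B) →ₐ[A] R := IsScalarTower.toAlgHom A _ R
  have hι : Function.Injective ι := IsFractionRing.injective (B ⧸ nilradical B) R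
  have h1 : Function.Injective (Algebra.TensorProduct.map A'.val (AlgHom.id A B)) :=
    Module.Flat.rTensor_preserves_injective_linearMap A'.val.toLinearMap Subtype.val_injective
  have h2 : Function.Injective (Algebra.TensorProduct.map (AlgHom.id A K') ι) :=
    Module.Flat.lTensor_preserves_injective_linearMap ι.toLinearMap hι
  refine (IsNilpotent.map_iff h1).1 ?_
  obtain ⟨n, hn⟩ := hx
  refine IsNilpotent.of_pow (m := n) ?_
  set z := Algebra.TensorProduct.map A'.val (AlgHom.id A B) x
  have e : ∀ w : ↥A' ⊗[A] B, Algebra.TensorProduct.map (AlgHom.id A K') ι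
      (Algebra.TensorProduct.map (AlgHom.id A K') π (Algebra.TensorProduct.map A'.val (AlgHom.id A B) w)) =
        Algebra.TensorProduct.map A'.val (IsScalarTower.toAlgHom A B R) w := by
    intro w
    induction w using TensorProduct.induction_on with
    | zero => simp
    | add u v hu hv => simp [hu, hv]
    | tmul a b => simp [ι, π, ← IsScalarTower.algebraMap_apply B (B ⧸ nilradical B) R, ← Ideal.Quotient.algebraMap_eq]
  have hz : Algebra.TensorProduct.map (AlgHom.id A K') π (z ^ n) = 0 := h2 (by
    rw [map_pow, map_pow, e, hn, map_zero])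
  have hker : z ^ n ∈ (RingHom.ker π).map Algebra.TensorProduct.includeRight := by
    rw [← Algebra.TensorProduct.lTensor_ker (A := K') π Ideal.Quotient.mk_surjective]
    exact hz
  have hle : (RingHom.ker π).map (Algebra.TensorProduct.includeRight : B →ₐ[A] K' ⊗[A] B) ≤
      nilradical (K' ⊗[A] B) := Ideal.map_le_iff_le_comap.2 fun b hb =>
    IsNilpotent.map (show IsNilpotent b from (Ideal.Quotient.eq_zero_iff_mem.1 hb : b ∈ nilradical B)) _
  exact hle hker


end Groth.Agent.S4601
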