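import Groth.Statements.S4682
import Groth.Agent.FBaseLib.Product
import Groth.Agent.BMLib.Piece

set_option autoImplicit false
open CategoryTheory AlgebraicGeometry
universe u
open FBase

namespace Groth.Agent.S4682

/-- The ideal of a reduced closed subscheme is the vanishing ideal of its support. -/
theorem eq_vanishingIdeal_support {U : Scheme.{u}} (I : U.IdealSheafData) [AlgebraicGeometry.IsReduced I.subscheme] :
    I = Scheme.IdealSheafData.vanishingIdeal I.support := by
  rw [Scheme.IdealSheafData.vanishingIdeal_support]
  refine le_antisymm I.le_radical fun W s hs => ?_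
  rw [Scheme.IdealSheafData.radical_ideal] at hs
  obtain ⟨n, hn⟩ := hs
  rw [← I.ker_subschemeι_app W, RingHom.mem_ker] at hn ⊢
  rw [map_pow] at hn
  exact IsReduced.eq_zero _ ⟨n, hn⟩

/-- Let Y be a scheme over a field K', let K be an extension field of K' which is separable over K'
(Spec K → Spec K' is geometrically reduced), let g : Y ⊗_{K'} K → Y be the projection and T a closed
subset of Y ⊗_{K'} K. Then T is defined over K' as a closed subset, that is T = g⁻¹(T') for some
closed subset T' of Y, if and only if the reduced closed subscheme of Y ⊗_{K'} K with support T is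
defined over K', that is, there is a quasi-coherent ideal sheaf of O_Y whose inverse image in Y
⊗_{K'} K is the vanishing ideal sheaf of T. -/
theorem result {K' K : Type u} [Field K'] [Field K] [Algebra K' K]
    {Y : Scheme.{u}} (fY : Y ⟶ Spec (CommRingCat.of K'))
    [GeometricallyReduced (Spec.map (CommRingCat.ofHom (algebraMap K' K)))]
    (T : TopologicalSpace.Closeds ↥(FBase.bc fY K)) :
    (∃ T' : TopologicalSpace.Closeds ↥Y, (T : Set ↥(FBase.bc fY K)) = ⇑(FBase.bcπ fY K) ⁻¹' (T' : Set ↥Y)) ↔
      ∃ J : Y.IdealSheafData, J.comap (FBase.bcπ fY K) = Scheme.IdealSheafData.vanishingIdeal T := by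
  constructor
  · rintro ⟨T', hT'⟩
    refine ⟨Scheme.IdealSheafData.vanishingIdeal T', ?_⟩
    have hr : AlgebraicGeometry.IsReduced (Scheme.IdealSheafData.vanishingIdeal T').subscheme :=
      BMLib.isReduced_vanishingIdeal_subscheme T'
    let i := (Scheme.IdealSheafData.vanishingIdeal T').subschemeι
    haveI h1 : AlgebraicGeometry.IsReduced
        (Limits.pullback (Spec.map (CommRingCat.ofHom (algebraMap K' K))) (i ≫ fY)) :=
      FBaseLib.isReduced_pullback _ _
    let π := FBase.bcπ fY K
    have e : Limits.pullback π i ≅ Limits.pullback (Spec.map (CommRingCat.ofHom (algebraMap K' K))) (i ≫ fY) :=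
      (Limits.pullbackSymmetry π i) ≪≫ Limits.pullbackRightPullbackFstIso fY _ i ≪≫ Limits.pullbackSymmetry _ _
    haveI : AlgebraicGeometry.IsReduced (Limits.pullback π i) := isReduced_of_isOpenImmersion e.hom
    haveI : AlgebraicGeometry.IsReduced ((Scheme.IdealSheafData.vanishingIdeal T').comap π).subscheme :=
      isReduced_of_isOpenImmersion ((Scheme.IdealSheafData.vanishingIdeal T').comapIso π).hom
    rw [eq_vanishingIdeal_support ((Scheme.IdealSheafData.vanishingIdeal T').comap π)]
    congr 1
    apply TopologicalSpace.Closeds.ext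
    rw [Scheme.IdealSheafData.support_comap, TopologicalSpace.Closeds.coe_preimage,
      Scheme.IdealSheafData.coe_support_vanishingIdeal]
    exact hT'.symm
  · rintro ⟨J, hJ⟩
    refine ⟨J.support, ?_⟩
    rw [← Scheme.IdealSheafData.coe_support_vanishingIdeal (Z := T), ← hJ, Scheme.IdealSheafData.support_comap]
    rfl

end Groth.Agent.S4682
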