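import Groth.Statements.S4690
import Groth.Agent.E4Basics.DimMorph

set_option autoImplicit false
universe u
open EGA4

namespace Groth.Agent.S4690

open AlgebraicGeometry CategoryTheory in
/-- Let Y be an irreducible locally Noetherian scheme, X an irreducible scheme and f : X → Y a dominant
morphism locally of finite type; let e be the dimension of the generic fibre of f. Then dim X ≤ dim
Y + e. If moreover every local ring of Y is universally catenary, the two sides are equal if and
only if dim Y equals the supremum of the dimensions of the local rings of Y at the points of f(X). -/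
theorem result {X Y : Scheme.{u}} (f : X ⟶ Y) [IsLocallyNoetherian Y]
    [LocallyOfFiniteType f] [IrreducibleSpace X] [IrreducibleSpace Y] (hf : DenseRange f.base) :
    topologicalKrullDim X ≤ topologicalKrullDim Y + topologicalKrullDim (f.fiber (genericPoint Y)) ∧
      ((∀ y : Y, CAlg.IsUniversallyCatenary (Y.presheaf.stalk y)) →
        (topologicalKrullDim X = topologicalKrullDim Y + topologicalKrullDim (f.fiber (genericPoint Y)) ↔
          topologicalKrullDim Y = ⨆ y ∈ Set.range f.base, ringKrullDim (Y.presheaf.stalk y))) := by
  haveI : IsDominant f := ⟨hf⟩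
  obtain ⟨-, he⟩ := DimFormula.generic_fibre_dim f
  haveI := LocallyOfFiniteType.isLocallyNoetherian f
  have hr : (⨆ y ∈ Set.range f.base, ringKrullDim (Y.presheaf.stalk y)) =
      ⨆ y ∈ Set.range f, ((DimFormula.codim y : ℕ∞) : WithBot ℕ∞) :=
    iSup_congr fun y => iSup_congr fun _ => DimFormula.ringKrullDim_stalk y
  have hle : (⨆ y ∈ Set.range f, ((DimFormula.codim y : ℕ∞) : WithBot ℕ∞)) ≤ topologicalKrullDim Y := by
    rw [E4Basics.topologicalKrullDim_eq_iSup_codim Y]
    exact iSup₂_le fun y _ => le_iSup (fun y : Y => ((DimFormula.codim y : ℕ∞) : WithBot ℕ∞)) y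
  rw [he, hr]
  refine ⟨(E4Basics.iSup_image_le f).trans (add_le_add hle le_rfl), fun hY => ?_⟩
  rw [E4Basics.eq_iSup_image_add f hY]
  exact ⟨fun h => (E4Basics.add_natCast_right_cancel h).symm, fun h => by rw [h]; rfl⟩

end Groth.Agent.S4690
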