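import Groth.Statements.S4692
import Groth.Agent.E4Basics.DimMorph

set_option autoImplicit false
universe u
open EGA4

namespace Groth.Agent.S4692

open AlgebraicGeometry CategoryTheory in
/-- Let Y be a locally Noetherian scheme all of whose local rings are universally catenary, X an
irreducible scheme, f : X → Y a morphism locally of finite type and n a natural number. If every
fibre of f has dimension at least n then dim X ≥ dim Y + n; if every fibre has dimension exactly n
then dim X = dim Y + n. (The empty scheme has dimension ⊥, so either hypothesis forces f to be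
surjective.) -/
theorem result {X Y : Scheme.{u}} (f : X ⟶ Y) [IsLocallyNoetherian Y]
    [LocallyOfFiniteType f] [IrreducibleSpace X] (hY : ∀ y : Y, CAlg.IsUniversallyCatenary (Y.presheaf.stalk y))
    (n : ℕ) :
    ((∀ y : Y, (n : WithBot ℕ∞) ≤ topologicalKrullDim (f.fiber y)) →
        topologicalKrullDim Y + n ≤ topologicalKrullDim X) ∧
      ((∀ y : Y, topologicalKrullDim (f.fiber y) = n) →
        topologicalKrullDim X = topologicalKrullDim Y + n) := by
  have main : (∀ y : Y, (n : WithBot ℕ∞) ≤ topologicalKrullDim (f.fiber y)) →
      topologicalKrullDim Y + n ≤ topologicalKrullDim X := by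
    intro h
    have hsurj : Function.Surjective f := fun y => by
      obtain ⟨z, hz, -⟩ := (FibDim.le_topologicalKrullDim_fiber_iff f y n).1 (h y)
      exact ⟨z, hz⟩
    haveI : Surjective f := ⟨hsurj⟩
    haveI : IrreducibleSpace Y := by
      have hi := (IrreducibleSpace.isIrreducible_univ X).image f f.continuous.continuousOn
      rw [Set.image_univ, hsurj.range_eq] at hi
      exact (irreducibleSpace_def Y).mpr hi
    haveI : IsDominant f := ⟨hsurj.denseRange⟩
    obtain ⟨-, he⟩ := DimFormula.generic_fibre_dim f
    have hn := h (genericPoint Y)
    rw [he] at hn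
    rw [E4Basics.eq_iSup_image_add f hY, E4Basics.topologicalKrullDim_eq_iSup_codim Y]
    refine add_le_add (iSup_le fun y => le_iSup₂_of_le y (hsurj y) le_rfl) ?_
    exact_mod_cast hn
  exact ⟨main, fun h => le_antisymm (E4Basics.topologicalKrullDim_le_add f fun y => (h y).le)
    (main fun y => (h y).ge)⟩

end Groth.Agent.S4692
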