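import Groth.Statements.S4693
import Groth.Agent.FlatLoc6.Supp
import Groth.Agent.Cohen4.RegHom

set_option autoImplicit false
universe u
open EGA4

namespace Groth.Agent.S4693

/-- Let A → B be a local homomorphism of Noetherian local rings such that the closed fibre ring B/m_A B
has Krull dimension 0 (that is, m_A B is an ideal of definition of B). Then dim B ≤ dim A. If
moreover some finite B-module which is flat over A has support equal to all of Spec B (for instance
if B is flat over A), then dim B = dim A. -/
theorem result (A B : Type u) [CommRing A] [CommRing B] [IsNoetherianRing A]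
    [IsNoetherianRing B] [IsLocalRing A] [IsLocalRing B] [Algebra A B] [IsLocalHom (algebraMap A B)]
    (h0 : ringKrullDim (EGA4.FibRing A B) = 0) :
    ringKrullDim B ≤ ringKrullDim A ∧
      (∀ (N : Type u) [AddCommGroup N] [Module B N] [Module A N] [IsScalarTower A B N] [Module.Finite B N]
          [Module.Flat A N], Module.support B N = Set.univ → ringKrullDim B = ringKrullDim A) := by
  refine ⟨by simpa [h0] using (Cohen4.dim_le (A := A) (B := B)).trans_eq (congrArg (ringKrullDim A + ·) h0), ?_⟩
  intro N _ _ _ _ _ _ hsupp
  haveI : Nontrivial N := by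
    obtain ⟨x⟩ : Nonempty (PrimeSpectrum B) := inferInstance
    have hx : x ∈ Module.support B N := hsupp ▸ Set.mem_univ x
    exact Module.nonempty_support_iff.mp ⟨x, hx⟩
  have h := FlatLoc6.supportDim_tensor (A := A) (B := B) (N := N) (M := A)
  rw [Module.supportDim_eq_of_equiv (TensorProduct.AlgebraTensorModule.rid A B N),
    Module.supportDim_self_eq_ringKrullDim] at h
  have hN : Module.supportDim B N = ringKrullDim B := by
    show Order.krullDim _ = Order.krullDim _
    rw [hsupp]
    exact Order.krullDim_eq_of_orderIso OrderIso.Set.univ
  rw [hN] at h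
  haveI := FlatLoc6.nontrivial_quot_mN (A := A) (B := B) N
  have hfib : Module.supportDim B (EGA4.FibMod A B N) = 0 := by
    refine le_antisymm ?_ ?_
    · rw [← FlatLoc6.supportDim_fibMod, ← h0]
      exact Module.supportDim_le_ringKrullDim _ _
    · exact (Module.supportDim_ne_bot_iff_nontrivial B _).mpr ‹_› |> fun h =>
        (WithBot.ne_bot_iff_exists.mp h).elim fun a ha => ha ▸ WithBot.coe_le_coe.mpr bot_le
  rw [h, hfib, add_zero]

end Groth.Agent.S4693
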