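import Groth.Statements.S4694
import Groth.Agent.FlatLoc6.Depth
import Groth.Agent.HSLib.Samuel
import Groth.Agent.Alg6.AssDepth

set_option autoImplicit false
universe u
open EGA4

namespace Groth.Agent.S4694

open TensorProduct in
/-- Let A → B be a local homomorphism of Noetherian local rings, M a finite A-module and N a nonzero
finite B-module, flat over A, whose closed-fibre module N/m_A N has finite length. Then the depth of
the B-module N ⊗_A M equals the depth of the A-module M. (The companion equality of codepths in the
published item is not restated.) -/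
theorem result {A B M N : Type u} [CommRing A] [CommRing B]
    [IsNoetherianRing A] [IsNoetherianRing B] [IsLocalRing A] [IsLocalRing B] [Algebra A B]
    [IsLocalHom (algebraMap A B)] [AddCommGroup M] [Module A M] [Module.Finite A M]
    [AddCommGroup N] [Module B N] [Module A N] [IsScalarTower A B N] [Module.Finite B N] [Nontrivial N]
    [Module.Flat A N] (hN : IsFiniteLength B (EGA4.FibMod A B N)) :
    LocCoh.depth B (N ⊗[A] M) = LocCoh.depth A M := by
  rcases subsingleton_or_nontrivial M with hM | hM
  · have h1 : LocCoh.depth A M = ⊤ := if_pos (Subsingleton.elim _ _)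
    haveI : Subsingleton (N ⊗[A] M) := subsingleton_of_forall_eq 0 fun z => by
      induction z using TensorProduct.induction_on with
      | zero => rfl
      | tmul n m => rw [Subsingleton.elim m 0, TensorProduct.tmul_zero]
      | add a b ha hb => rw [ha, hb, add_zero]
    rw [h1]
    exact if_pos (Subsingleton.elim _ _)
  · rw [FlatLoc6.depth_tensor, FlatLoc6.depth_fibMod]
    haveI := FlatLoc6.nontrivial_quot_mN (A := A) (B := B) N
    have h0 : LocCoh.depth B (N ⧸ FlatLoc6.mN A B N) = 0 := by
      obtain ⟨P, hP⟩ := associatedPrimes.nonempty B (N ⧸ FlatLoc6.mN A B N)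
      have hmax : P = IsLocalRing.maximalIdeal B := by
        haveI := hP.isPrime
        have hs : (⟨P, hP.isPrime⟩ : PrimeSpectrum B) ∈ Module.support B (N ⧸ FlatLoc6.mN A B N) :=
          Module.mem_support_iff_of_finite.mpr (Submodule.annihilator_top (R := B) (M := N ⧸ FlatLoc6.mN A B N) ▸ hP.annihilator_le)
        exact IsLocalRing.eq_maximalIdeal (HSLib.isMaximal_of_isFiniteLength hN hs)
      by_contra hne
      exact Alg6.one_le_depth_iff.mp (ENat.one_le_iff_ne_zero.mpr hne) (hmax ▸ hP)
    rw [h0, add_zero]

end Groth.Agent.S4694
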