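import Groth.Statements.S4699
import Groth.Agent.E4Basics.GenDepth

set_option autoImplicit false
universe u
open EGA4

namespace Groth.Agent.S4699

/-- Let A be a Noetherian ring, M a finite A-module and I an ideal of A whose radical p is a prime ideal
lying in the support of M (so V(I) is an irreducible closed subset whose generic point is in Supp
M). Then there is an element f outside p such that, for every prime q containing I with f outside q,
the dimension of M_q is the dimension of M_p plus the dimension of (A/I)_q, and the depth of M_q is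
the depth of M_p plus the depth of (A/I)_q (the module (A/I)_q = A_q / I A_q being regarded over
A_q). -/
theorem result (A : Type u) [CommRing A] [IsNoetherianRing A]
    (M : Type u) [AddCommGroup M] [Module A M] [Module.Finite A M] (I : Ideal A) [I.radical.IsPrime]
    (hp : (⟨I.radical, inferInstance⟩ : PrimeSpectrum A) ∈ Module.support A M) :
    ∃ f : A, f ∉ I.radical ∧ ∀ (q : Ideal A) [q.IsPrime], I ≤ q → f ∉ q →
      Module.supportDim (Localization.AtPrime q) (LocalizedModule q.primeCompl M) =
          Module.supportDim (Localization.AtPrime I.radical) (LocalizedModule I.radical.primeCompl M) +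
            Module.supportDim (Localization.AtPrime q)
              (Localization.AtPrime q ⧸ I.map (algebraMap A (Localization.AtPrime q))) ∧
        LocCoh.depth (Localization.AtPrime q) (LocalizedModule q.primeCompl M) =
          LocCoh.depth (Localization.AtPrime I.radical) (LocalizedModule I.radical.primeCompl M) +
            LocCoh.depth (Localization.AtPrime q)
              (Localization.AtPrime q ⧸ I.map (algebraMap A (Localization.AtPrime q))) := by
  set p := I.radical with hpdef
  have hIp : I ≤ p := Ideal.le_radical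
  have hp' : (⟨p, ‹_›⟩ : PrimeSpectrum A) ∈ Module.support A (A ⧸ I) := by
    rw [Module.support_eq_zeroLocus, Ideal.annihilator_quotient]; exact hIp
  have hmin : p ∈ (Module.annihilator A (A ⧸ I)).minimalPrimes := by
    rw [Ideal.annihilator_quotient]
    exact ⟨⟨‹_›, hIp⟩, fun r hr _ => hr.1.radical_le_iff.2 hr.2⟩
  have hd0 : Module.supportDim (Localization.AtPrime p) (LocalizedModule p.primeCompl (A ⧸ I)) = 0 :=
    LC.supportDim_localized_minimalPrimes _ hmin
  have he0 : LocCoh.depth (Localization.AtPrime p) (LocalizedModule p.primeCompl (A ⧸ I)) = 0 := by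
    by_contra h
    exact (Alg6.one_le_depth_atPrime_iff p (M := A ⧸ I)).mp (Order.one_le_iff_pos.2 (pos_iff_ne_zero.2 h))
      (Module.associatedPrimes.minimalPrimes_annihilator_subset_associatedPrimes _ _ hmin)
  obtain ⟨f₁, hf₁, h₁⟩ := E4Basics.exists_dim_add M p hp
  obtain ⟨f₂, hf₂, h₂⟩ := E4Basics.exists_depth_add M p hp
  obtain ⟨f₃, hf₃, h₃⟩ := E4Basics.exists_dim_add (A ⧸ I) p hp'
  obtain ⟨f₄, hf₄, h₄⟩ := E4Basics.exists_depth_add (A ⧸ I) p hp'
  refine ⟨f₁ * f₂ * f₃ * f₄, fun h => ?_, fun q _ hIq hfq => ?_⟩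
  · rcases Ideal.IsPrime.mem_or_mem ‹_› h with h | h
    · rcases Ideal.IsPrime.mem_or_mem ‹_› h with h | h
      · rcases Ideal.IsPrime.mem_or_mem ‹_› h with h | h
        · exact hf₁ h
        · exact hf₂ h
      · exact hf₃ h
    · exact hf₄ h
  have hpq : p ≤ q := Ideal.IsPrime.radical_le_iff ‹_› |>.2 hIq
  have n4 : f₄ ∉ q := fun h => hfq (Ideal.mul_mem_left _ _ h)
  have n3 : f₃ ∉ q := fun h => hfq (Ideal.mul_mem_right _ _ (Ideal.mul_mem_left _ _ h))
  have n2 : f₂ ∉ q := fun h => hfq (Ideal.mul_mem_right _ _ (Ideal.mul_mem_right _ _ (Ideal.mul_mem_left _ _ h)))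
  have n1 : f₁ ∉ q := fun h => hfq (Ideal.mul_mem_right _ _ (Ideal.mul_mem_right _ _ (Ideal.mul_mem_right _ _ h)))
  obtain ⟨ed, edim⟩ := E4Basics.depth_quot_map_eq I q
  rw [h₁ q hpq n1, h₂ q hpq n2, ed, edim, h₃ q hpq n3, h₄ q hpq n4, hd0, he0, zero_add, zero_add]
  exact ⟨rfl, rfl⟩

end Groth.Agent.S4699
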