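import Groth.Statements.S4702
import Groth.Agent.E4Basics.DimMorph

set_option autoImplicit false
universe u
open EGA4

namespace Groth.Agent.S4702

open AlgebraicGeometry CategoryTheory in
/-- Let Y be an irreducible locally Noetherian scheme of dimension 1, X an irreducible scheme and f : X
→ Y a dominant morphism of finite type. Then for every point y in the image of f, every irreducible
component of the fibre of f at y has dimension equal to the dimension of the generic fibre. -/
theorem result {X Y : Scheme.{u}} (f : X ⟶ Y) [IsLocallyNoetherian Y]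
    [IrreducibleSpace Y] [IrreducibleSpace X] (hY : topologicalKrullDim Y = 1) [LocallyOfFiniteType f]
    [QuasiCompact f] (hf : DenseRange f.base) (y : Y) (hy : y ∈ Set.range f.base)
    (Z : Set ↥(f.fiber y)) (hZ : Z ∈ irreducibleComponents ↥(f.fiber y)) :
    topologicalKrullDim Z = topologicalKrullDim ↥(f.fiber (genericPoint Y)) := by
  haveI : IsDominant f := ⟨hf⟩
  haveI := LocallyOfFiniteType.isLocallyNoetherian f
  obtain ⟨heη, he⟩ := DimFormula.generic_fibre_dim f
  rw [he]
  set η := genericPoint X
  have hZc : IsClosed Z := isClosed_of_mem_irreducibleComponents Z hZ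
  let ξ := hZ.1.genericPoint
  have hξ : IsGenericPoint ξ Z := hZ.1.isGenericPoint_genericPoint hZc
  set z := f.fiberι y ξ with hzdef
  have hz : f z = y := by
    have : z ∈ Set.range (f.fiberι y) := ⟨ξ, rfl⟩
    rwa [Scheme.Hom.range_fiberι] at this
  have hemb : Topology.IsEmbedding (f.fiberι y) := (f.fiberι y).isEmbedding
  have hpre : f.fiberι y ⁻¹' closure {z} = Z := by
    rw [← hξ.def, hemb.isInducing.closure_eq_preimage_closure_image, Set.image_singleton]
  have hdimZ : topologicalKrullDim Z = ((FibDim.rd f z : ℕ∞) : WithBot ℕ∞) := by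
    have h1 := (FibDim.pieceHomeo f y (closure {z})).isHomeomorph.topologicalKrullDim_eq
    rw [hpre] at h1
    rw [h1, ← hz]
    exact FibDim.dim_closure_inter f z
  rw [hdimZ]
  have hmax : FibDim.FibMax f z := by
    intro z' hz' hfz'
    obtain ⟨ξ', rfl⟩ : z' ∈ Set.range (f.fiberι y) := by
      rw [Scheme.Hom.range_fiberι]; exact hfz'.trans hz
    have hsp : ξ' ⤳ ξ := hemb.isInducing.specializes_iff.1 hz'
    have h1 : closure {ξ'} ⊆ Z := hZ.2 isIrreducible_singleton.closure
      (hξ.def ▸ closure_minimal (Set.singleton_subset_iff.2 hsp.mem_closure) isClosed_closure)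
    have hsp' : ξ ⤳ ξ' := specializes_iff_mem_closure.2 (hξ.def.symm ▸ h1 (subset_closure rfl))
    rw [(hsp.antisymm hsp').eq]
  have hη : η ⤳ z := (genericPoint_spec X).specializes (Set.mem_univ z)
  have hge : FibDim.rd f η ≤ FibDim.rd f z := by
    have h1 := DimFormula.rd_le_of_specializes' f hη
    rwa [(DimFormula.fb_eq_zero_iff f z).2 hmax, add_zero] at h1
  have hle : FibDim.rd f z ≤ FibDim.rd f η := by
    by_cases hzη : z = η
    · rw [hzη]
    have hsY : DimFormula.codim (f z) ≤ 1 := by
      have h1 := E4Basics.topologicalKrullDim_eq_iSup_codim Y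
      rw [hY] at h1
      exact_mod_cast h1.symm ▸ le_iSup (fun y : Y => ((DimFormula.codim y : ℕ∞) : WithBot ℕ∞)) (f z)
    have hpos : DimFormula.codim z ≠ 0 := fun h =>
      hzη ((DimFormula.codim_eq_zero_iff.1 h η hη).symm)
    have := (E4Basics.codim_formula f z).1
    change DimFormula.codim z + FibDim.rd f z ≤ DimFormula.codim (f z) + FibDim.rd f η at this
    omega
  rw [le_antisymm hle hge]

end Groth.Agent.S4702
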