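import Groth.Statements.S4712
import Mathlib
import Groth.Agent.Goldman.Scheme
import Groth.Agent.DimLift.Basic

set_option autoImplicit false
universe u
open EGA4

namespace Groth.Agent.S4712

open AlgebraicGeometry in
/-- Let X be a locally Noetherian scheme and x a point such that {x} is locally closed in X. Then the
closure of {x} has dimension at most 1, and every point of that closure other than x is a closed
point of X. -/
theorem result (X : Scheme.{u}) [IsLocallyNoetherian X] (x : X)
    (hx : IsLocallyClosed ({x} : Set X)) :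
    topologicalKrullDim (closure ({x} : Set X)) ≤ 1 ∧
      ∀ y ∈ closure ({x} : Set X), y ≠ x → IsClosed ({y} : Set X) := by
  have hcl : ∀ y ∈ closure ({x} : Set X), y ≠ x → IsClosed ({y} : Set X) := fun y hy hne =>
    Goldman.isClosed_of_specializes hx (specializes_iff_mem_closure.mpr hy) hne
  refine ⟨?_, hcl⟩
  letI := specializationOrder (closure ({x} : Set X))
  haveI : QuasiSober (closure ({x} : Set X)) := isClosed_closure.isClosedEmbedding_subtypeVal.quasiSober
  rw [Groth.Agent.DimLift.topologicalKrullDim_eq_points]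
  refine iSup_le fun l => ?_
  have hlt : ∀ i j : Fin (l.length + 1), i < j → (l j ⤳ l i) ∧ l i ≠ l j := fun i j h =>
    Groth.Agent.DimLift.lt_iff_specializes.1 (@LTSeries.strictMono _ (specializationOrder (closure ({x} : Set X))).toPreorder l _ _ h)
  by_contra hlen
  have h2 : 2 ≤ l.length := by
    by_contra hh
    exact hlen (by exact_mod_cast (show l.length ≤ 1 by omega))
  obtain ⟨hab, hne1⟩ := hlt ⟨0, by omega⟩ ⟨1, by omega⟩ Nat.zero_lt_one
  obtain ⟨hbc, hne2⟩ := hlt ⟨1, by omega⟩ ⟨2, by omega⟩ (Nat.lt_succ_self 1)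
  have h1 : ∀ z : closure ({x} : Set X), x ⤳ z.1 := fun z => specializes_iff_mem_closure.mpr z.2
  by_cases hbx : (l ⟨1, by omega⟩).1 = x
  · refine hne2 (Subtype.ext ?_)
    rw [hbx]
    exact ((h1 (l ⟨2, by omega⟩)).antisymm (hbx ▸ hbc.map continuous_subtype_val)).eq
  · refine hne1 (Subtype.ext ?_)
    exact specializes_iff_mem_closure.mp (hab.map continuous_subtype_val) |> fun h => (hcl _ (l ⟨1, by omega⟩).2 hbx).closure_eq ▸ h |> Set.mem_singleton_iff.1

end Groth.Agent.S4712
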