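import Groth.Statements.S4714
import Groth.Agent.DimFormula.ClosedSub
import Groth.Agent.DimFormula.EquidimSub
import Groth.Agent.DimFormula.JacobsonLocal

set_option autoImplicit false
universe u
open EGA4

namespace Groth.Agent.S4714

open AlgebraicGeometry CategoryTheory in
/-- For a section of the structure sheaf: let X be a scheme locally of finite type over a field k and f
a global section of O_X whose zero locus Y is nowhere dense in X. Then dim Y + 1 ≤ dim X. If
moreover some irreducible component of X has dimension equal to dim X and Y meets every such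
component, then dim Y + 1 = dim X. (The published statement is for a section of an invertible sheaf;
the existence of a component of maximal dimension, implicit in the published wording, is made a
hypothesis of the equality clause.) -/
theorem result (k : Type u) [Field k] (X : Scheme.{u}) (p : X ⟶ Spec (CommRingCat.of k))
    [LocallyOfFiniteType p] (f : Γ(X, ⊤)) (hY : interior (X.zeroLocus (U := ⊤) {f}) = ∅) :
    topologicalKrullDim (X.zeroLocus (U := ⊤) {f}) + 1 ≤ topologicalKrullDim X ∧
      ((∃ Z ∈ irreducibleComponents (X : Type u), topologicalKrullDim Z = topologicalKrullDim X) →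
        (∀ Z ∈ irreducibleComponents (X : Type u), topologicalKrullDim Z = topologicalKrullDim X →
          (Z ∩ X.zeroLocus (U := ⊤) {f}).Nonempty) →
        topologicalKrullDim (X.zeroLocus (U := ⊤) {f}) + 1 = topologicalKrullDim X) := by
  classical
  haveI := LocallyOfFiniteType.isLocallyNoetherian p
  haveI := LocallyOfFiniteType.jacobsonSpace p
  set Y := X.zeroLocus (U := ⊤) {f} with hYdef
  have hYc : IsClosed Y := by
    rw [hYdef]
    exact Scheme.zeroLocus_isClosed X {f}
  have hpt : ∀ a b : X, p a = p b := fun a b => Subsingleton.elim _ _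
  have hdim : ∀ Z : Set X, IsClosed Z →
      topologicalKrullDim ↥Z = ⨆ z : ↥Z, ((FibDim.rd p z.1 : ℕ∞) : WithBot ℕ∞) := by
    intro Z hZ
    have h := FibDim.dim_closed_inter_eq_iSup p default hZ
    rwa [show Z ∩ p ⁻¹' {(default : Spec (CommRingCat.of k))} = Z from
      Set.inter_eq_left.2 fun z _ => Subsingleton.elim _ _] at h
  have hX : topologicalKrullDim X = ⨆ z : X, ((FibDim.rd p z : ℕ∞) : WithBot ℕ∞) := by
    rw [← (Homeomorph.Set.univ X).isHomeomorph.topologicalKrullDim_eq, hdim Set.univ isClosed_univ]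
    exact (Equiv.Set.univ X).iSup_congr fun z => rfl
  have hlt : ∀ z ∈ Y, ∃ η, η ⤳ z ∧ FibDim.rd p z + 1 ≤ FibDim.rd p η := by
    intro z hz
    obtain ⟨η, hη, hmax⟩ := FibDim.exists_maximal_generization z
    have hηY : η ∉ Y := DimFormula.dense_mem_maximal hYc.isOpen_compl
      (interior_eq_empty_iff_dense_compl.1 hY) hmax
    exact ⟨η, hη, FibDim.rd_lt p hη (fun e => hηY (e ▸ hz)) (hpt _ _)⟩
  have h1 : topologicalKrullDim ↥Y + 1 ≤ topologicalKrullDim X := by
    rcases isEmpty_or_nonempty ↥Y with hE | hE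
    · rw [hdim Y hYc, iSup_of_empty, WithBot.bot_add]
      exact bot_le
    rw [hdim Y hYc, hX, ← WithBot.coe_iSup (OrderTop.bddAbove _), ← WithBot.coe_one, ← WithBot.coe_add,
      ENat.iSup_add, WithBot.coe_iSup (OrderTop.bddAbove _)]
    refine iSup_le fun z => ?_
    obtain ⟨η, -, h⟩ := hlt z.1 z.2
    exact le_iSup_of_le η (WithBot.coe_le_coe.2 (by exact_mod_cast h))
  refine ⟨h1, ?_⟩
  · rintro ⟨C, hC, hCdim⟩ hmeet
    refine le_antisymm h1 ?_
    obtain ⟨w, hwC, hwY⟩ := hmeet C hC hCdim
    have hCc : IsClosed C := isClosed_of_mem_irreducibleComponents C hC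
    let η := hC.1.genericPoint
    have hη : IsGenericPoint η C := hC.1.isGenericPoint_genericPoint hCc
    have hCrd : topologicalKrullDim ↥C = ((FibDim.rd p η : ℕ∞) : WithBot ℕ∞) := by
      rw [← FibDim.dim_closure_inter p η, hη.def,
        show C ∩ p ⁻¹' {p η} = C from Set.inter_eq_left.2 fun z _ => hpt z η]
    obtain ⟨ξ, ⟨hξC, hξY⟩, hξw, -, hξmax⟩ := FibDim.exists_max_rd p (Z := C ∩ Y) ⟨hwC, hwY⟩
    have hξtop : ∀ z, z ⤳ ξ → z ∈ C → z ∈ Y → z = ξ := by
      intro z hz hzC hzY
      by_contra hne
      have h1 := FibDim.rd_lt p hz hne (hpt _ _)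
      have h2 := hξmax z ⟨hzC, hzY⟩ (hz.trans hξw) (hpt _ _)
      omega
    let J := Scheme.IdealSheafData.vanishingIdeal (⟨C, hCc⟩ : TopologicalSpace.Closeds X)
    let j := J.subschemeι
    have hrange : Set.range j = C := DimFormula.range_vanishingIdeal ⟨C, hCc⟩
    haveI : IsLocallyNoetherian J.subscheme := LocallyOfFiniteType.isLocallyNoetherian j
    obtain ⟨w', hw'⟩ : ξ ∈ Set.range j := hrange.symm ▸ hξC
    have hz0 : ∀ v : J.subscheme, v ∈ J.subscheme.zeroLocus ({j.appTop f} : Set Γ(J.subscheme, ⊤)) ↔ j v ∈ Y := by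
      intro v
      rw [hYdef, Scheme.mem_zeroLocus_iff, Scheme.mem_zeroLocus_iff]
      simp only [Set.mem_singleton_iff, forall_eq]
      rw [← Scheme.preimage_basicOpen_top]
      exact Iff.rfl
    have hcod : DimFormula.codim w' ≤ 1 :=
      DimFormula.codim_le_one_of_maximal_zeroLocus (X := J.subscheme) (j.appTop f) ((hz0 w').2 (hw' ▸ hξY))
        (fun v hv hvY => by
          refine j.isClosedEmbedding.injective ?_
          rw [hw']
          exact hξtop (j v) (hw' ▸ hv.map j.continuous) (hrange ▸ ⟨v, rfl⟩) ((hz0 v).1 hvY))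
    rw [DimFormula.codim_closedSub_irreducible j (hη.def.trans hrange.symm), hw'] at hcod
    have hηξ : η ⤳ ξ := hη.specializes hξC
    have hsum := DimFormula.cd_add_rd_of_fibre p hηξ (hpt _ _)
    rw [← hCdim, hCrd, hdim Y hYc]
    refine le_trans ?_ (add_le_add (le_iSup (fun z : ↥Y => ((FibDim.rd p z.1 : ℕ∞) : WithBot ℕ∞)) ⟨ξ, hξY⟩) le_rfl)
    exact_mod_cast (show FibDim.rd p η ≤ FibDim.rd p ξ + 1 by omega)

end Groth.Agent.S4714
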