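import Groth.Statements.S4715
import Mathlib
import Groth.Agent.DimLift.Basic
import Groth.Agent.E4Basics.QFFibre

set_option autoImplicit false
universe u
open EGA4

namespace Groth.Agent.S4715

open AlgebraicGeometry CategoryTheory in
/-- Let f : X → Y be a quasi-finite morphism (of finite type with discrete fibres) of locally Noetherian
schemes. Then dim X is at most the dimension of the closure of f(X), which is at most dim Y. -/
theorem result {X Y : Scheme.{u}} (f : X ⟶ Y) [IsLocallyNoetherian X] [IsLocallyNoetherian Y]
    [LocallyQuasiFinite f] [LocallyOfFiniteType f] [QuasiCompact f] :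
    topologicalKrullDim X ≤ topologicalKrullDim (closure (Set.range f.base)) ∧
      topologicalKrullDim (closure (Set.range f.base)) ≤ topologicalKrullDim Y := by
  haveI : QuasiSober (closure (Set.range f.base)) := isClosed_closure.isClosedEmbedding_subtypeVal.quasiSober
  refine ⟨?_, Topology.IsInducing.subtypeVal.topologicalKrullDim_le⟩
  refine Groth.Agent.DimLift.le_of_incomparable (fun x => (⟨f.base x, subset_closure ⟨x, rfl⟩⟩ : closure (Set.range f.base)))
    (f.continuous.subtype_mk _) fun a b h e => ?_
  exact Groth.Agent.E4Basics.eq_of_specializes_fibre f h (congrArg Subtype.val e)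

end Groth.Agent.S4715
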