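import Groth.Statements.S4718
import Groth.Agent.E4Basics.SemiLocDepth
import Groth.Agent.FlatLoc6.Sk
import Groth.Agent.LC.ExtDim

set_option autoImplicit false
universe u
open EGA4

namespace Groth.Agent.S4718

/-- Let A be a Noetherian local ring, B a Noetherian ring, A → B a ring homomorphism and M a nonzero
B-module which is finite as an A-module. Then M is a Cohen–Macaulay A-module if and only if, for all
primes q of B lying over the maximal ideal of A and belonging to the support of M, the B_q-module
M_q is Cohen–Macaulay and all these modules M_q have the same dimension. -/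
theorem result (A B : Type u) [CommRing A] [CommRing B]
    [IsNoetherianRing A] [IsLocalRing A] [IsNoetherianRing B] [Algebra A B]
    (M : Type u) [AddCommGroup M] [Module B M] [Module A M] [IsScalarTower A B M] [Module.Finite A M]
    [Nontrivial M] :
    LocCoh.IsCohenMacaulayModule A M ↔
      (∀ q ∈ {q : PrimeSpectrum B | q.asIdeal.comap (algebraMap A B) = IsLocalRing.maximalIdeal A ∧
          q ∈ Module.support B M},
        LocCoh.IsCohenMacaulayModule (Localization.AtPrime q.asIdeal) (LocalizedModule q.asIdeal.primeCompl M)) ∧
      (∀ q ∈ {q : PrimeSpectrum B | q.asIdeal.comap (algebraMap A B) = IsLocalRing.maximalIdeal A ∧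
          q ∈ Module.support B M},
        ∀ q' ∈ {q : PrimeSpectrum B | q.asIdeal.comap (algebraMap A B) = IsLocalRing.maximalIdeal A ∧
          q ∈ Module.support B M},
          Module.supportDim (Localization.AtPrime q.asIdeal) (LocalizedModule q.asIdeal.primeCompl M) =
            Module.supportDim (Localization.AtPrime q'.asIdeal) (LocalizedModule q'.asIdeal.primeCompl M)) := by
  obtain ⟨h1, h2⟩ := E4Basics.supportDim_depth_restrictScalars A B M (IsLocalRing.maximalIdeal A)
  rw [FlatLoc6.supportDim_loc_maximal] at h1
  rw [FlatLoc6.depth_loc_maximal] at h2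
  haveI : Module.Finite B M := Module.Finite.of_restrictScalars_finite A B M
  have hle : ∀ q ∈ Module.support B M, ((LocCoh.depth (Localization.AtPrime q.asIdeal)
      (LocalizedModule q.asIdeal.primeCompl M) : ℕ∞) : WithBot ℕ∞) ≤
        Module.supportDim (Localization.AtPrime q.asIdeal) (LocalizedModule q.asIdeal.primeCompl M) := by
    intro q hq
    haveI : Nontrivial (LocalizedModule q.asIdeal.primeCompl M) := Module.mem_support_iff.mp hq
    haveI : Module.Finite (Localization.AtPrime q.asIdeal) (LocalizedModule q.asIdeal.primeCompl M) :=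
      Module.Finite.of_isLocalizedModule q.asIdeal.primeCompl (LocalizedModule.mkLinearMap _ M)
    exact LC.depth_le_supportDim (LocalizedModule q.asIdeal.primeCompl M)
  have hge : ∀ q, q.asIdeal.comap (algebraMap A B) = IsLocalRing.maximalIdeal A ∧ q ∈ Module.support B M →
      Module.supportDim (Localization.AtPrime q.asIdeal) (LocalizedModule q.asIdeal.primeCompl M) ≤
        Module.supportDim A M ∧
      LocCoh.depth A M ≤
        LocCoh.depth (Localization.AtPrime q.asIdeal) (LocalizedModule q.asIdeal.primeCompl M) :=
    fun q hq => ⟨h1 ▸ le_iSup₂_of_le q hq le_rfl, h2 ▸ iInf₂_le_of_le q hq le_rfl⟩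
  unfold LocCoh.IsCohenMacaulayModule
  constructor
  · intro hCM
    have key : ∀ q, q.asIdeal.comap (algebraMap A B) = IsLocalRing.maximalIdeal A ∧ q ∈ Module.support B M →
        Module.supportDim (Localization.AtPrime q.asIdeal) (LocalizedModule q.asIdeal.primeCompl M) =
          Module.supportDim A M := fun q hq => le_antisymm (hge q hq).1
      ((hCM.trans_le (WithBot.coe_le_coe.mpr (hge q hq).2)).trans (hle q hq.2))
    exact ⟨fun q hq => le_antisymm (le_trans (key q hq).le (hCM.trans_le (WithBot.coe_le_coe.mpr (hge q hq).2)))
      (hle q hq.2), fun q hq q' hq' => (key q hq).trans (key q' hq').symm⟩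
  · rintro ⟨hCM, heq⟩
    have hdd : ((LocCoh.depth A M : ℕ∞) : WithBot ℕ∞) ≤ Module.supportDim A M := LC.depth_le_supportDim M
    refine le_antisymm ?_ hdd
    conv_rhs => rw [h2]
    refine E4Basics.le_coe_iInf_of_forall _ _ _ fun q hq => ?_
    rw [← hCM q hq, h1]
    exact iSup₂_le fun q' hq' => (heq q' hq' q hq).le

end Groth.Agent.S4718
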