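import Groth.Statements.S4719
import Groth.Agent.E4Basics.SemiLocDepth

set_option autoImplicit false
universe u
open EGA4

namespace Groth.Agent.S4719

/-- Let A → B be a homomorphism of Noetherian rings and M a B-module which is finite as an A-module. (i)
If M satisfies (S_k) as an A-module, it satisfies (S_k) as a B-module. (ii) If for every two primes
q, q' of B in the support of M having the same contraction to A the modules M_q and M_{q'} have the
same dimension, then (S_k) for M as a B-module implies (S_k) for M as an A-module. (The published
statement asks the equal-dimension condition for all pairs of primes of B with the same contraction;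
this row asks it only for primes in the support of M, which is all its proof uses.) -/
theorem result (k : ℕ) (A B : Type u) [CommRing A] [CommRing B] [IsNoetherianRing A]
    [IsNoetherianRing B] [Algebra A B] (M : Type u) [AddCommGroup M] [Module B M] [Module A M]
    [IsScalarTower A B M] [Module.Finite A M] :
    (LocCoh.HasSk k A M → LocCoh.HasSk k B M) ∧
      ((∀ q ∈ Module.support B M, ∀ q' ∈ Module.support B M,
          q.asIdeal.comap (algebraMap A B) = q'.asIdeal.comap (algebraMap A B) →
            Module.supportDim (Localization.AtPrime q.asIdeal) (LocalizedModule q.asIdeal.primeCompl M) =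
              Module.supportDim (Localization.AtPrime q'.asIdeal) (LocalizedModule q'.asIdeal.primeCompl M)) →
        LocCoh.HasSk k B M → LocCoh.HasSk k A M) := by
  constructor
  · intro h q hqp
    by_cases hs : (⟨q, hqp⟩ : PrimeSpectrum B) ∈ Module.support B M
    · obtain ⟨h1, h2⟩ := E4Basics.supportDim_le_and_depth_ge (p := q.comap (algebraMap A B))
        (q := ⟨q, hqp⟩) rfl hs
      exact le_trans (min_le_min le_rfl h1) ((h _).trans (WithBot.coe_le_coe.mpr h2))
    · rw [Module.notMem_support_iff] at hs
      haveI := hs
      refine le_trans (min_le_right _ _) ?_
      rw [Module.supportDim_eq_bot_of_subsingleton]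
      exact bot_le
  · intro heq h p hp
    obtain ⟨h1, h2⟩ := E4Basics.supportDim_depth_restrictScalars A B M p
    rw [h2]
    refine E4Basics.le_coe_iInf_of_forall _ _ _ fun q hq => ?_
    refine le_trans (min_le_min le_rfl ?_) (h q.asIdeal)
    rw [h1]
    exact iSup₂_le fun q' hq' => (heq q' hq'.2 q hq.2 (hq'.1.trans hq.1.symm)).le

end Groth.Agent.S4719
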