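import Groth.Statements.S4730
import Mathlib
import Groth.Agent.S4688

set_option autoImplicit false
universe u
open EGA4

namespace Groth.Agent.S4730

open Polynomial in
/-- Let A be a Noetherian ring, p a prime ideal of A and q a prime ideal of the polynomial ring A[T]
lying over p. Then ht(p) + 1 = ht(q) + deg.tr_{κ(p)} κ(q), the transcendence degree being that of
the domain A[T]/q over the domain A/p. -/
theorem result (A : Type u) [CommRing A] [IsNoetherianRing A]
    (p : Ideal A) [p.IsPrime] (q : Ideal A[X]) [q.IsPrime] [q.LiesOver p] :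
    (p.height : Cardinal.{u}) + 1 = (q.height : Cardinal.{u}) + Algebra.trdeg (A ⧸ p) (A[X] ⧸ q) := by
  classical
  obtain ⟨hC, hne⟩ := Groth.Agent.S4688.result A p q
  haveI : (p.map (Polynomial.C : A →+* A[X])).IsPrime := Ideal.isPrime_map_C_of_isPrime
  have hcast : ∀ a b : ℕ∞, a = b + 1 → b ≠ ⊤ → (b : Cardinal.{u}) + 1 = (a : Cardinal.{u}) := by
    rintro a b rfl hb
    obtain ⟨n, rfl⟩ := ENat.ne_top_iff_exists.1 hb
    simp only [Cardinal.ofENat_add, Cardinal.ofENat_one]
  by_cases hq : q = p.map (Polynomial.C : A →+* A[X])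
  · subst hq
    rw [hC]
    congr 1
    let e := Ideal.polynomialQuotientEquivQuotientPolynomial p
    let e' : (A ⧸ p)[X] ≃ₐ[A ⧸ p] (A[X] ⧸ p.map (Polynomial.C : A →+* A[X])) :=
      AlgEquiv.ofRingEquiv (f := e) fun x => by
        obtain ⟨a, rfl⟩ := Ideal.Quotient.mk_surjective x
        rw [Polynomial.algebraMap_eq]
        simp [e, Ideal.polynomialQuotientEquivQuotientPolynomial, Polynomial.eval₂_C]
    haveI : Nontrivial (A ⧸ p) := Ideal.Quotient.nontrivial_iff.2 (Ideal.IsPrime.ne_top ‹_›)
    rw [← e'.trdeg_eq, Polynomial.trdeg_of_isDomain]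
  · rw [hcast _ _ (hne hq) (Ideal.height_ne_top (Ideal.IsPrime.ne_top ‹_›))]
    obtain ⟨f, hfq, hfp⟩ := SetLike.exists_of_lt (lt_of_le_of_ne (by
      rw [Ideal.map_le_iff_le_comap, Ideal.LiesOver.over (P := q) (p := p)]
      exact le_rfl) (Ne.symm hq))
    have halg : Algebra.IsAlgebraic (A ⧸ p) (A[X] ⧸ q) := by
      have hX : IsAlgebraic (A ⧸ p) (Ideal.Quotient.mk q Polynomial.X) := by
        refine ⟨f.map (Ideal.Quotient.mk p), ?_, ?_⟩
        · intro h0
          refine hfp (Ideal.mem_map_C_iff.2 fun n => Ideal.Quotient.eq_zero_iff_mem.1 ?_)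
          rw [← Polynomial.coeff_map, h0, Polynomial.coeff_zero]
        · rw [Polynomial.aeval_def, Polynomial.eval₂_map,
            show (algebraMap (A ⧸ p) (A[X] ⧸ q)).comp (Ideal.Quotient.mk p) = (Ideal.Quotient.mk q).comp Polynomial.C from rfl,
            ← Polynomial.hom_eval₂, Polynomial.eval₂_C_X]
          exact Ideal.Quotient.eq_zero_iff_mem.2 hfq
      have htop : Algebra.adjoin (A ⧸ p) {Ideal.Quotient.mk q (Polynomial.X : A[X])} = ⊤ := by
        refine eq_top_iff.2 fun y _ => ?_
        obtain ⟨g, rfl⟩ := Ideal.Quotient.mk_surjective y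
        induction g using Polynomial.induction_on' with
        | add a b ha hb => rw [map_add]; exact add_mem (ha trivial) (hb trivial)
        | monomial n a =>
          rw [← Polynomial.C_mul_X_pow_eq_monomial, map_mul, map_pow]
          exact mul_mem (Subalgebra.algebraMap_mem _ (Ideal.Quotient.mk p a))
            (pow_mem (Algebra.subset_adjoin (Set.mem_singleton _)) n)
      exact ⟨fun y => Algebra.isAlgebraic_adjoin_singleton_iff.2 hX y (htop ▸ Algebra.mem_top)⟩
    rw [trdeg_eq_zero_iff.2 halg, add_zero]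

end Groth.Agent.S4730
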