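import Groth.Statements.S4731
import Mathlib
import Groth.Agent.Alg6.Noeth

set_option autoImplicit false
universe u
open EGA4

namespace Groth.Agent.S4731

/-- Let S → R be an injective homomorphism of commutative rings making R a finite S-module, with R
Noetherian; let c be the conductor of S in R, the ideal of those s in S with s R contained in (the
image of) S. If S/c is Noetherian, then every increasing sequence of ideals of S contained in c is
eventually constant. -/
theorem result (S R : Type u) [CommRing S] [CommRing R] [Algebra S R]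
    [FaithfulSMul S R] [IsNoetherianRing R] [Module.Finite S R] (c : Ideal S)
    (hc : ∀ s : S, s ∈ c ↔ ∀ r : R, ∃ s' : S, algebraMap S R s' = algebraMap S R s * r)
    [IsNoetherianRing (S ⧸ c)] (a : ℕ →o Ideal S) (ha : ∀ n, a n ≤ c) :
    ∃ N : ℕ, ∀ n, N ≤ n → a n = a N := by
  classical
  let L : S →ₗ[S] R := Algebra.linearMap S R
  have hL : Function.Injective L := FaithfulSMul.algebraMap_injective S R
  -- `c` is an ideal of `R`
  have hcl : ∀ s ∈ c, ∀ r : R, ∃ s' ∈ c, algebraMap S R s' = algebraMap S R s * r := by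
    intro s hs r
    obtain ⟨s', hs'⟩ := (hc s).1 hs r
    refine ⟨s', (hc s').2 fun r' => ?_, hs'⟩
    obtain ⟨s'', hs''⟩ := (hc s).1 hs (r * r')
    exact ⟨s'', by rw [hs'', hs', mul_assoc]⟩
  obtain ⟨N₀, hN₀⟩ := monotone_stabilizes_iff_noetherian.2 (inferInstance : IsNoetherian R R)
    ⟨fun n => (a n).map (algebraMap S R), fun m n hmn => Ideal.map_mono (a.mono hmn)⟩
  let I : Ideal R := (a N₀).map (algebraMap S R)
  let B : Submodule S R := I.restrictScalars S
  have : Module.Finite R I := Module.Finite.iff_fg.2 (IsNoetherian.noetherian I)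
  have : Module.Finite S I := Module.Finite.trans R I
  have hBfg : Module.Finite S B := this
  let A₀ : Submodule S B := (Submodule.map L (a N₀)).comap B.subtype
  -- `c` kills the quotient
  have hmul : ∀ x ∈ B, ∀ t ∈ c, ∃ s ∈ a N₀, L s = algebraMap S R t * x := by
    intro x hx
    refine Submodule.span_induction (p := fun x _ => ∀ t ∈ c, ∃ s ∈ a N₀, L s = algebraMap S R t * x)
      ?_ ?_ ?_ ?_ hx
    · rintro _ ⟨y, hy, rfl⟩ t _
      exact ⟨t * y, Ideal.mul_mem_left _ _ hy, map_mul (algebraMap S R) t y⟩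
    · exact fun t _ => ⟨0, zero_mem _, by simp⟩
    · intro x y _ _ hx hy t ht
      obtain ⟨s, hs, hs'⟩ := hx t ht
      obtain ⟨s₁, hs₁, hs₁'⟩ := hy t ht
      exact ⟨s + s₁, add_mem hs hs₁, by rw [map_add, hs', hs₁', mul_add]⟩
    · intro r x _ hx t ht
      obtain ⟨t', ht', htt⟩ := hcl t ht r
      obtain ⟨s, hs, hs'⟩ := hx t' ht'
      exact ⟨s, hs, by rw [hs', htt, smul_eq_mul, mul_assoc]⟩
  have htor : Module.IsTorsionBySet S (B ⧸ A₀) (c : Set S) := by
    intro q t
    obtain ⟨x, rfl⟩ := Submodule.Quotient.mk_surjective A₀ q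
    rw [← Submodule.Quotient.mk_smul, Submodule.Quotient.mk_eq_zero]
    obtain ⟨s, hs, hs'⟩ := hmul x x.2 t t.2
    show ((t : S) • x : B).1 ∈ Submodule.map L (a N₀)
    exact ⟨s, hs, by rw [hs']; exact (Algebra.smul_def _ _).symm⟩
  have : IsNoetherian S (B ⧸ A₀) := by
    letI := htor.module
    haveI : IsScalarTower S (S ⧸ c) (B ⧸ A₀) := htor.isScalarTower (S := S)
    haveI : Module.Finite (S ⧸ c) (B ⧸ A₀) := Module.Finite.of_restrictScalars_finite S (S ⧸ c) _
    haveI : IsNoetherian (S ⧸ c) (B ⧸ A₀) := isNoetherian_of_isNoetherianRing_of_finite _ _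
    obtain ⟨k, f, hf⟩ := Module.Finite.exists_fin' (S ⧸ c) (B ⧸ A₀)
    haveI : IsNoetherian S (S ⧸ c) :=
      Groth.Agent.Alg6.isNoetherian_of_surjective_algebraMap S (S ⧸ c) Ideal.Quotient.mk_surjective
    exact isNoetherian_of_surjective (f.restrictScalars S) (LinearMap.range_eq_top.2 hf)
  have hle : ∀ n, N₀ ≤ n → Submodule.map L (a n) ≤ B := by
    rintro n hn _ ⟨x, hx, rfl⟩
    have hmem := Ideal.mem_map_of_mem (algebraMap S R) hx
    rw [show (a n).map (algebraMap S R) = I from (hN₀ n hn).symm] at hmem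
    exact hmem
  obtain ⟨N₁, hN₁⟩ := monotone_stabilizes_iff_noetherian.2 (inferInstance : IsNoetherian S (B ⧸ A₀))
    ⟨fun n => ((Submodule.map L (a n)).comap B.subtype).map A₀.mkQ, fun m n hmn =>
      Submodule.map_mono (Submodule.comap_mono (Submodule.map_mono (a.mono hmn)))⟩
  refine ⟨max N₀ N₁, fun n hn => le_antisymm ?_ (a.mono hn)⟩
  intro x hx
  have hxB : L x ∈ B := hle n (le_of_max_le_left hn) ⟨x, hx, rfl⟩
  have h1 : A₀.mkQ ⟨L x, hxB⟩ ∈ ((Submodule.map L (a (max N₀ N₁))).comap B.subtype).map A₀.mkQ := by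
    have h3 := (hN₁ _ (le_max_right N₀ N₁)).symm.trans (hN₁ n (le_of_max_le_right hn))
    exact h3.ge ⟨⟨L x, hxB⟩, ⟨x, hx, rfl⟩, rfl⟩
  obtain ⟨y, ⟨z, hz, hzy⟩, hy⟩ := h1
  obtain ⟨w, hw, hwy⟩ := (Submodule.Quotient.eq A₀).1 hy
  have hxe : x = z - w := hL (by
    rw [map_sub]
    have : L w = L z - L x := by rw [hwy, hzy]; rfl
    rw [this, sub_sub_cancel])
  rw [hxe]
  exact sub_mem hz (a.mono (le_max_left _ _) hw)

end Groth.Agent.S4731
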