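import Groth.Statements.S4735
import Groth.Agent.E4Basics.StrictCat
import Groth.Agent.S2634

set_option autoImplicit false
universe u
open EGA4

namespace Groth.Agent.S4735

/-- Let A be a strictly formally catenary Noetherian local ring. Then every Noetherian local ring B
which is an A-algebra essentially of finite type is strictly formally catenary. -/
theorem result (A : Type u) [CommRing A] [IsNoetherianRing A] [IsLocalRing A]
    (hA : EGA4.IsFormallyStrictlyCatenary A) (B : Type u) [CommRing B] [IsNoetherianRing B] [IsLocalRing B]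
    [Algebra A B] [Algebra.EssFiniteType A B] : EGA4.IsFormallyStrictlyCatenary B := by
  obtain ⟨hc, hS⟩ := (E4Basics.isFormallyStrictlyCatenary_iff A).1 hA
  refine (E4Basics.isFormallyStrictlyCatenary_iff B).2
    ⟨fun q _ => ?_, E4Basics.hasSnFormalFibres_of_essFiniteType 1 A hS B⟩
  haveI : Algebra.EssFiniteType B (B ⧸ q) := inferInstance
  haveI : Algebra.EssFiniteType A (B ⧸ q) := Algebra.EssFiniteType.comp A B (B ⧸ q)
  haveI : IsLocalRing (B ⧸ q) := .of_surjective' _ Ideal.Quotient.mk_surjective
  refine S2634.result A hc (B ⧸ q) fun r hr => ?_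
  rw [IsDomain.minimalPrimes_eq_singleton_bot] at hr
  rw [Set.mem_singleton_iff.1 hr]
  exact ringKrullDim_eq_of_ringEquiv (RingEquiv.quotientBot _)

end Groth.Agent.S4735
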