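import Groth.Statements.S4778
import Groth.Agent.LimitsH94.FPCrit
-- import your own Groth.Agent.* helpers here

set_option autoImplicit false
universe u
open CategoryTheory AlgebraicGeometry
open Lim8

namespace Groth.Agent.S4778

/-- Let f : X ⟶ S be a morphism of schemes. Suppose that for every affine open U of S and every
projective system (Z_λ) of U-schemes indexed by a nonempty directed preordered set, with every Z_λ
an affine scheme, the functor Hom_S(-, X) takes the limit of the system to the colimit of the
Hom_S(Z_λ, X) (the canonical map from the colimit is bijective). Then f is locally of finite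
presentation. -/
theorem result {X S : Scheme.{u}} (f : X ⟶ S)
    (h : ∀ (U : S.Opens), IsAffineOpen U →
      ∀ (J : Type u) [Preorder J] [IsDirected J (· ≤ ·)] [Nonempty J] (Z : Jᵒᵖ ⥤ Over (U : Scheme.{u})),
      (∀ j, IsAffine (Z.obj j).left) →
      Limits.PreservesColimit (Z ⋙ Over.map U.ι).op (yoneda.obj (Over.mk f))) :
    LocallyOfFinitePresentation f := by
  refine LimitsH94.locallyOfFinitePresentation_of_factor f fun U hU J _ _ _ D t c hc haff j₀ a ha => ?_
  let Z : Jᵒᵖ ⥤ Over (U : Scheme.{u}) :=
    { obj j := Over.mk (t.app j)
      map {i j} φ := Over.homMk (D.map φ) ((t.naturality φ).trans (Category.comp_id _)) }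
  haveI := h U hU J Z haff
  haveI : IsConnected J := IsFiltered.isConnected _
  have hconst : ∀ j, c.π.app j ≫ t.app j = c.π.app j₀ ≫ t.app j₀ := fun j => by
    have := constant_of_preserves_morphisms (fun j => c.π.app j ≫ t.app j) (fun i k φ => by
      change c.π.app i ≫ t.app i = c.π.app k ≫ t.app k
      rw [← c.w φ, Category.assoc, t.naturality φ]
      exact congrArg (c.π.app i ≫ ·) (Category.comp_id _).symm) j j₀
    exact this
  let c' : Limits.Cone (Z ⋙ Over.map U.ι) :=
    { pt := Over.mk (c.π.app j₀ ≫ t.app j₀ ≫ U.ι)
      π :=
        { app j := Over.homMk (c.π.app j) ((Category.assoc _ _ _).symm.trans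
            ((congrArg (· ≫ U.ι) (hconst j)).trans (Category.assoc _ _ _)))
          naturality i j φ := by
            apply Over.OverMorphism.ext
            exact c.π.naturality φ } }
  have hc' : Limits.IsLimit c' :=
    Limits.isLimitOfReflects (Over.forget S) (Limits.IsLimit.ofIsoLimit hc (Limits.Cones.ext (Iso.refl _)
      (fun j => (Category.id_comp _).symm)))
  obtain ⟨j, aj, haj⟩ := Limits.Types.jointly_surjective _
    (Limits.isColimitOfPreserves (yoneda.obj (Over.mk f)) hc'.op) (Over.homMk a ha : c'.pt ⟶ Over.mk f)
  exact ⟨j.unop, aj.left, Over.w aj, congrArg CommaMorphism.left haj⟩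

end Groth.Agent.S4778
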