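import Groth.Statements.S4792
import Groth.Agent.LimitsH94.LimLocFree
-- import your own Groth.Agent.* helpers here

set_option autoImplicit false
universe u
open CategoryTheory AlgebraicGeometry
open Lim8

namespace Groth.Agent.S4792

/-- Let S = lim S_i be a cofiltered limit of schemes with affine transition maps, S_{i₀} a quasi-compact
stage, F₀ a quasi-coherent O-module of finite presentation on S_{i₀} and n a natural number. Then
the pullback of F₀ along S ⟶ S_{i₀} is locally free of rank n if and only if, for some index j over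
i₀, the pullback of F₀ along S_j ⟶ S_{i₀} is locally free of rank n. This is the case of locally
free modules of rank n. -/
theorem result {I : Type u} [SmallCategory I] [IsCofiltered I]
    (D : I ⥤ Scheme.{u}) (c : Limits.Cone D) (hc : Limits.IsLimit c)
    [∀ (i j : I) (f : i ⟶ j), IsAffineHom (D.map f)] (i₀ : I) [CompactSpace (D.obj i₀)]
    (F₀ : (D.obj i₀).Modules) [Coh.IsQCoh F₀] (hF₀fp : CohB1.IsFP F₀)
    (n : ℕ) :
    FlatMod.IsFinLocFreeOfRank n ((Scheme.Modules.pullback (c.π.app i₀)).obj F₀) ↔
      ∃ (j : I) (φ : j ⟶ i₀), FlatMod.IsFinLocFreeOfRank n ((Scheme.Modules.pullback (D.map φ)).obj F₀) := by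
  open Groth.Agent.LimitsH94.LM in
  constructor
  · intro h
    exact exists_stage_isFinLocFreeOfRank hc ‹_› hF₀fp n h
  · rintro ⟨j, φ, h⟩
    haveI : IsAffineHom (c.π.app j) := isAffineHom_π_app D c hc j
    exact isFinLocFreeOfRank_of_iso ((limIso c φ).app F₀) n
      (isFinLocFreeOfRank_pullback (c.π.app j) (Groth.Agent.QCoh.isQCoh_pullback _ ‹_›)
        (isFT_pullback (D.map φ) ‹_› (Groth.Agent.QCoh.isFT_of_isFP hF₀fp)) n h)

end Groth.Agent.S4792
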