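import Groth.Statements.S4806
import Groth.Agent.GrpSchLib.UnramifiedFibre
import Mathlib.AlgebraicGeometry.Morphisms.UniversallyInjective
import Mathlib.AlgebraicGeometry.ZariskisMainTheorem
-- import your own Groth.Agent.* helpers here

set_option autoImplicit false
universe u
open CategoryTheory AlgebraicGeometry
open Lim8

namespace Groth.Agent.S4806


theorem mono_of_fibres {W Z : Scheme.{u}} (π : W ⟶ Z) [LocallyOfFiniteType π]
    (h : ∀ z : Z, IsEmpty (π.fiber z) ∨ IsIso (π.fiberToSpecResidueField z)) : Mono π := by
  have hz : ∀ z, IsOpenImmersion (π.fiberToSpecResidueField z) := fun z => by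
    rcases h z with h | h <;> infer_instance
  haveI : FormallyUnramified π := GrpSchLib.formallyUnramified_of_fibres π fun z => by
    haveI := hz z
    infer_instance
  haveI : UniversallyInjective π := by
    refine ((tfae_universallyInjective π).out 0 1).mpr ?_
    intro K _ g₁ g₂ hg
    obtain ⟨ρ, hρ⟩ : ∃ ρ, g₁ ≫ π = Spec.map ρ ≫ Z.fromSpecResidueField ((g₁ ≫ π).base (IsLocalRing.closedPoint K)) :=
      ⟨_, (Scheme.descResidueField_stalkClosedPointTo_fromSpecResidueField (CommRingCat.of K) Z (g₁ ≫ π)).symm⟩
    haveI := hz ((g₁ ≫ π).base (IsLocalRing.closedPoint K))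
    have hg' : g₂ ≫ π = g₁ ≫ π := hg.symm
    have e : Limits.pullback.lift g₁ (Spec.map ρ) hρ = Limits.pullback.lift g₂ (Spec.map ρ) (hg'.trans hρ) := by
      refine (cancel_mono (π.fiberToSpecResidueField ((g₁ ≫ π).base (IsLocalRing.closedPoint K)))).mp ?_
      exact (Limits.pullback.lift_snd _ _ _).trans (Limits.pullback.lift_snd _ _ _).symm
    have e' := congrArg (fun t => t ≫ Limits.pullback.fst _ _) e
    simpa only [Limits.pullback.lift_fst] using e'
  haveI : Surjective (Limits.pullback.diagonal π) := (UniversallyInjective.iff_diagonal π).mp inferInstance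
  haveI : IsIso (Limits.pullback.diagonal π) :=
    (isIso_iff_isOpenImmersion_and_epi_base _).mpr
      ⟨inferInstance, (TopCat.epi_iff_surjective _).mpr (Limits.pullback.diagonal π).surjective⟩
  exact (Limits.pullback.isIso_diagonal_iff π).mp inferInstance


/-- Let f : X ⟶ Y be a proper morphism of finite presentation. Then f is a closed immersion if and only
if, for every point y of Y, the scheme-theoretic fibre of f at y is empty or its structure morphism
to Spec κ(y) is an isomorphism. -/
theorem result {X Y : Scheme.{u}} (f : X ⟶ Y) [IsProper f]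
    [LocallyOfFinitePresentation f] :
    IsClosedImmersion f ↔ ∀ y : Y, IsEmpty (f.fiber y) ∨ IsIso (f.fiberToSpecResidueField y) := by
  constructor
  · intro h y
    rcases isEmpty_or_nonempty (f.fiber y) with he | hne
    · exact Or.inl he
    · haveI : IsClosedImmersion (f.fiberToSpecResidueField y) :=
        inferInstanceAs (IsClosedImmersion (Limits.pullback.snd f (Y.fromSpecResidueField y)))
      haveI : Subsingleton (Spec (Y.residueField y)) := inferInstance
      haveI : Surjective (f.fiberToSpecResidueField y) :=
        ⟨fun s => ⟨hne.some, Subsingleton.elim _ _⟩⟩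
      exact Or.inr (isIso_of_isClosedImmersion_of_surjective _)
  · intro h
    haveI := mono_of_fibres f h
    exact (IsClosedImmersion.iff_isProper_and_mono f).mpr ⟨inferInstance, inferInstance⟩


end Groth.Agent.S4806
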