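import Groth.Statements.S4812
import Groth.Agent.LimitsH94.LimMod
-- import your own Groth.Agent.* helpers here

set_option autoImplicit false
universe u
open CategoryTheory AlgebraicGeometry
open Lim8

namespace Groth.Agent.S4812

/-- Let S = lim S_i be a cofiltered limit of schemes with affine transition maps and S_{i₀} a
quasi-compact stage; let f₀ : F₀ ⟶ G₀ and g₀ : G₀ ⟶ H₀ be homomorphisms of quasi-coherent O-modules
on S_{i₀}, with F₀ and G₀ of finite type and H₀ of finite presentation. Then the pulled-back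
sequence F ⟶ G ⟶ H ⟶ 0 on S is exact (the composite is zero, the sequence is exact at G, and G ⟶ H
is an epimorphism) if and only if, for some index j over i₀, the pulled-back sequence F_j ⟶ G_j ⟶
H_j ⟶ 0 on S_j is exact. -/
theorem result {I : Type u} [SmallCategory I] [IsCofiltered I]
    (D : I ⥤ Scheme.{u}) (c : Limits.Cone D) (hc : Limits.IsLimit c)
    [∀ (i j : I) (f : i ⟶ j), IsAffineHom (D.map f)] (i₀ : I) [CompactSpace (D.obj i₀)]
    {F₀ G₀ H₀ : (D.obj i₀).Modules} [Coh.IsQCoh F₀] [Coh.IsQCoh G₀] [Coh.IsQCoh H₀]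
    (hF₀ : CohB1.IsFT F₀) (hG₀ : CohB1.IsFT G₀) (hH₀ : CohB1.IsFP H₀) (f₀ : F₀ ⟶ G₀) (g₀ : G₀ ⟶ H₀) :
    (∃ w : (Scheme.Modules.pullback (c.π.app i₀)).map f₀ ≫ (Scheme.Modules.pullback (c.π.app i₀)).map g₀ = 0,
        (ShortComplex.mk _ _ w).Exact ∧ Epi ((Scheme.Modules.pullback (c.π.app i₀)).map g₀)) ↔
      ∃ (j : I) (φ : j ⟶ i₀) (w : (Scheme.Modules.pullback (D.map φ)).map f₀ ≫ (Scheme.Modules.pullback (D.map φ)).map g₀ = 0),
        (ShortComplex.mk _ _ w).Exact ∧ Epi ((Scheme.Modules.pullback (D.map φ)).map g₀) := by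
  open Groth.Agent.LimitsH94.LM in
  constructor
  · rintro ⟨w, hex, hg⟩
    exact exists_stage_rightExact hc ‹Coh.IsQCoh F₀› hF₀ ‹Coh.IsQCoh G₀› hG₀ ‹Coh.IsQCoh H₀› hH₀ f₀ g₀ w hex
  · rintro ⟨j, φ, w, hex, hg⟩
    let P := Scheme.Modules.pullback (c.π.app j)
    have hc₁ := hex.gIsCokernel
    have hc₂ := Limits.CokernelCofork.mapIsColimit _ hc₁ P
    have wP : P.map ((Scheme.Modules.pullback (D.map φ)).map f₀) ≫ P.map ((Scheme.Modules.pullback (D.map φ)).map g₀) = 0 := by
      rw [← Functor.map_comp, w, Functor.map_zero]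
    have hex₂ : (ShortComplex.mk _ _ wP).Exact := ShortComplex.exact_of_g_is_cokernel _ hc₂
    have w' : (Scheme.Modules.pullback (c.π.app i₀)).map f₀ ≫ (Scheme.Modules.pullback (c.π.app i₀)).map g₀ = 0 := by
      rw [← Functor.map_comp]
      exact (zero_lim_iff φ _).mp (by rw [Functor.map_comp, w, Functor.map_zero])
    refine ⟨w', (ShortComplex.exact_iff_of_iso ?_).mp hex₂, (epi_lim_iff φ g₀).mp inferInstance⟩
    exact ShortComplex.isoMk ((limIso c φ).app F₀) ((limIso c φ).app G₀) ((limIso c φ).app H₀)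
      ((limIso c φ).hom.naturality f₀).symm ((limIso c φ).hom.naturality g₀).symm

end Groth.Agent.S4812
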