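import Groth.Statements.S4824
import Groth.Agent.GrpSchLib.TensorDomain
import Groth.Agent.FBaseLib.Components
import Mathlib.RingTheory.TensorProduct.Quotient
import Mathlib.RingTheory.TensorProduct.MvPolynomial

set_option autoImplicit false
open CategoryTheory AlgebraicGeometry
universe u
open Cons9
open CategoryTheory.Limits
open scoped TensorProduct

namespace Groth.Agent.S4824

instance : ObjectProperty.IsClosedUnderIsomorphisms (AlgebraicGeometry.IsIntegral : Scheme.{u} → Prop) :=
  ⟨fun {X Y} e h => by
    haveI := h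
    haveI : Nonempty Y := (inferInstance : Nonempty X).map e.hom
    exact isIntegral_of_isOpenImmersion e.inv⟩

theorem isDomain_of_algClosed {k : Type u} [Field k] (Ω : Type u) [Field Ω] [Algebra k Ω] [IsAlgClosed Ω]
    (A : Type u) [CommRing A] [Algebra k A] (h : IsDomain (Ω ⊗[k] A)) (K : Type u) [Field K] [Algebra k K] :
    IsDomain (K ⊗[k] A) := by
  obtain ⟨M, iM, iA, iB, iC, t1, t2⟩ := FBaseLib.exists_field_compositum (k := k) K Ω
  letI := iM; letI := iA; letI := iB; letI := iC
  haveI := t1; haveI := t2
  haveI := h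
  haveI : IsDomain (M ⊗[Ω] (Ω ⊗[k] A)) := GrpSchLib.isDomain_tensor_of_isAlgClosed
  haveI : IsDomain (M ⊗[k] A) :=
    (Algebra.TensorProduct.cancelBaseChange k Ω M M A).symm.toMulEquiv.isDomain _
  let φ : K ⊗[k] A →ₐ[k] M ⊗[k] A := Algebra.TensorProduct.map (IsScalarTower.toAlgHom k K M) (AlgHom.id k A)
  have hφ : Function.Injective φ :=
    Module.Flat.rTensor_preserves_injective_linearMap (M := A) (IsScalarTower.toAlgHom k K M).toLinearMap
      (algebraMap K M).injective
  exact hφ.isDomain


/-- Let k be a field, Ω an algebraically closed extension of k and F a non-constant polynomial in k[T_1,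
…, T_n]. The following are equivalent: (a) the k-scheme Spec(k[T_1, …, T_n]/(F)) is geometrically
integral; (b) for every extension field K of k the image of F in K[T_1, …, T_n] is irreducible; (c)
the image of F in Ω[T_1, …, T_n] is irreducible. (Such an F is called geometrically irreducible.) -/
theorem result {k : Type u} [Field k] (Ω : Type u) [Field Ω] [Algebra k Ω]
    [IsAlgClosed Ω] {n : ℕ} (F : MvPolynomial (Fin n) k) (hF : 0 < F.totalDegree) :
    List.TFAE [
      GeometricallyIntegral (Spec.map (CommRingCat.ofHom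
        (algebraMap k (MvPolynomial (Fin n) k ⧸ Ideal.span ({F} : Set (MvPolynomial (Fin n) k)))))),
      ∀ (K : Type u) [Field K] [Algebra k K], Irreducible (MvPolynomial.map (algebraMap k K) F),
      Irreducible (MvPolynomial.map (algebraMap k Ω) F)] := by
  classical
  let P := MvPolynomial (Fin n) k
  let A := P ⧸ Ideal.span ({F} : Set P)
  have hne : ∀ (K : Type u) [Field K] [Algebra k K], MvPolynomial.map (algebraMap k K) F ≠ 0 := fun K _ _ h => by
    have : F = 0 := MvPolynomial.map_injective _ (algebraMap k K).injective (by rw [h, map_zero])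
    rw [this, MvPolynomial.totalDegree_zero] at hF
    exact lt_irrefl 0 hF
  have hdom : ∀ (K : Type u) [Field K] [Algebra k K],
      IsDomain (K ⊗[k] A) ↔ Irreducible (MvPolynomial.map (algebraMap k K) F) := by
    intro K _ _
    let e1 : K ⊗[k] A ≃ₐ[K] (K ⊗[k] P) ⧸ (Ideal.span ({F} : Set P)).map
        (Algebra.TensorProduct.includeRight (A := K) (R := k)) :=
      Algebra.TensorProduct.tensorQuotientEquiv (R := k) K P K (Ideal.span ({F} : Set P))
    let e2 : ((K ⊗[k] P) ⧸ (Ideal.span ({F} : Set P)).map (Algebra.TensorProduct.includeRight (A := K) (R := k))) ≃+*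
        MvPolynomial (Fin n) K ⧸ Ideal.span ({MvPolynomial.map (algebraMap k K) F} : Set _) :=
      Ideal.quotientEquiv _ _ (MvPolynomial.algebraTensorAlgEquiv k K).toRingEquiv (by
        rw [Ideal.map_span, Ideal.map_span, Set.image_singleton, Set.image_singleton]
        congr 2
        show _ = MvPolynomial.algebraTensorAlgEquiv k K ((1 : K) ⊗ₜ[k] F)
        rw [MvPolynomial.algebraTensorAlgEquiv_tmul, one_smul])
    let e := e1.toRingEquiv.trans e2
    have h1 : IsDomain (K ⊗[k] A) ↔
        IsDomain (MvPolynomial (Fin n) K ⧸ Ideal.span ({MvPolynomial.map (algebraMap k K) F} : Set _)) :=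
      ⟨fun _ => e.symm.toMulEquiv.isDomain _, fun _ => e.toMulEquiv.isDomain _⟩
    rw [h1, Ideal.Quotient.isDomain_iff_prime, Ideal.span_singleton_prime (hne K),
      UniqueFactorizationMonoid.irreducible_iff_prime]
  have hgeo : GeometricallyIntegral (Spec.map (CommRingCat.ofHom (algebraMap k A))) ↔
      ∀ (K : Type u) [Field K] [Algebra k K], IsDomain (K ⊗[k] A) := by
    rw [geometricallyIntegral_iff, geometrically_iff_of_commRing_of_isClosedUnderIsomorphisms]
    refine forall₃_congr fun K _ _ => ?_
    let i : pullback (Spec.map (CommRingCat.ofHom (algebraMap k A))) (Spec.map (CommRingCat.ofHom (algebraMap k K))) ≅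
        Spec (CommRingCat.of (K ⊗[k] A)) := pullbackSymmetry _ _ ≪≫ pullbackSpecIso k K A
    rw [← affine_isIntegral_iff (CommRingCat.of (K ⊗[k] A))]
    exact ⟨fun h => ObjectProperty.prop_of_iso (fun Z : Scheme.{u} => AlgebraicGeometry.IsIntegral Z) i h,
      fun h => ObjectProperty.prop_of_iso (fun Z : Scheme.{u} => AlgebraicGeometry.IsIntegral Z) i.symm h⟩
  tfae_have 2 → 3 := fun h => h Ω
  tfae_have 1 ↔ 2 := by
    rw [hgeo]
    exact forall₃_congr fun K _ _ => hdom K
  tfae_have 3 → 2 := by
    intro h K _ _
    rw [← hdom] at h ⊢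
    exact isDomain_of_algClosed Ω A h K
  tfae_finish

end Groth.Agent.S4824
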