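import Groth.Statements.S4951

set_option autoImplicit false
set_option linter.style.haveILetI false
set_option backward.isDefEq.respectTransparency false
set_option backward.isDefEq.respectTransparency.types false
universe u
open EGA43

namespace Groth.Agent.S4951

/-- Let X be a locally Noetherian topological space in which every irreducible closed subset has a
unique generic point (X quasi-sober and T₀), and Z a closed nowhere dense subset of X such that for
every point x of Z the set of generizations of x distinct from x is connected (possibly empty). If X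
is connected, then X − Z is connected. (Uniqueness of generic points, automatic for the underlying
space of a scheme, is needed: in the four-point space {u, v, z₁, z₂} whose open sets are ∅, {u},
{v}, {u, v} and the whole space, the closed nowhere dense set Z = {z₁, z₂} satisfies the hypothesis,
since z₂ is a generization of z₁ and conversely, yet X − Z = {u, v} is not connected.) -/
theorem result {X : Type u} [TopologicalSpace X]
    [QuasiSober X] [T0Space X] (hloc : ∀ x : X, ∃ U ∈ nhds x, TopologicalSpace.NoetherianSpace ↥U) [ConnectedSpace X]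
    (Z : Set X) (hZ : IsClosed Z) (hZn : IsNowhereDense Z)
    (hgen : ∀ x ∈ Z, IsPreconnected ({x' : X | x' ⤳ x} \ {x})) :
    IsConnected Zᶜ := by
  classical
  have hnb : ∀ x : X, ∃ U : Set X, IsOpen U ∧ x ∈ U ∧ TopologicalSpace.NoetherianSpace ↥U := fun x => by
    obtain ⟨V, hV, hN⟩ := hloc x
    obtain ⟨U, hUV, hU, hxU⟩ := mem_nhds_iff.1 hV
    haveI := hN
    exact ⟨U, hU, hxU, (Topology.IsEmbedding.inclusion hUV).isInducing.noetherianSpace⟩
  -- a point of the closure of an open set generizes into it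
  have key : ∀ (B : Set X), IsOpen B → ∀ x ∈ closure B, ∃ b ∈ B, b ⤳ x := fun B hB x hx => by
    obtain ⟨U, hU, hxU, hN⟩ := hnb x
    haveI := hN
    haveI : QuasiSober ↥U := hU.isOpenEmbedding_subtypeVal.quasiSober
    let T : Set (Set ↥U) := {W ∈ irreducibleComponents ↥U | (W ∩ Subtype.val ⁻¹' B).Nonempty}
    have hT : IsClosed (⋃ W ∈ T, W) :=
      (TopologicalSpace.NoetherianSpace.finite_irreducibleComponents.subset fun _ h => h.1).isClosed_biUnion
        fun W hW => isClosed_of_mem_irreducibleComponents W hW.1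
    have hsub : Subtype.val ⁻¹' B ⊆ ⋃ W ∈ T, W := fun z hz => Set.mem_biUnion
      (show irreducibleComponent z ∈ T from ⟨irreducibleComponent_mem_irreducibleComponents z,
        z, mem_irreducibleComponent, hz⟩) mem_irreducibleComponent
    have hxc : (⟨x, hxU⟩ : ↥U) ∈ closure (Subtype.val ⁻¹' B) :=
      hU.isOpenEmbedding_subtypeVal.isOpenMap.preimage_closure_eq_closure_preimage continuous_subtype_val B ▸ hx
    obtain ⟨W, hW, hxW⟩ := Set.mem_iUnion₂.1 (closure_minimal hsub hT hxc)
    have hξ := hW.1.1.isGenericPoint_genericPoint (isClosed_of_mem_irreducibleComponents W hW.1)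
    obtain ⟨z, hzW, hzB⟩ := hW.2
    exact ⟨_, ((hξ.specializes hzW).map continuous_subtype_val).mem_open hB hzB,
      (hξ.specializes hxW).map continuous_subtype_val⟩
  have hd : Dense Zᶜ := interior_eq_empty_iff_dense_compl.1 (by
    rw [← hZ.closure_eq]
    exact hZn)
  refine ⟨?_, ?_⟩
  · obtain ⟨x⟩ := (inferInstance : Nonempty X)
    exact Dense.nonempty hd
  intro A B hA hB hcov hnA hnB
  by_contra hne
  rw [Set.not_nonempty_iff_eq_empty] at hne
  let A' := Zᶜ ∩ A
  let B' := Zᶜ ∩ B
  have hA' : IsOpen A' := hZ.isOpen_compl.inter hA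
  have hB' : IsOpen B' := hZ.isOpen_compl.inter hB
  have hAB : ∀ z, z ∈ A' → z ∉ B' := fun z h h' =>
    (Set.eq_empty_iff_forall_notMem.1 hne) z ⟨h.1, h.2, h'.2⟩
  have huniv : ∀ z, z ∈ closure A' ∪ closure B' := fun z => by
    rw [← closure_union]
    exact closure_mono (fun w hw => (hcov hw).imp (fun h => ⟨hw, h⟩) (fun h => ⟨hw, h⟩)) (hd z)
  obtain ⟨p, -, hpA, hpB⟩ := (isPreconnected_closed_iff.1 isPreconnected_univ) (closure A') (closure B')
    isClosed_closure isClosed_closure (fun z _ => huniv z)
    (hnA.mono fun z hz => ⟨trivial, subset_closure hz⟩) (hnB.mono fun z hz => ⟨trivial, subset_closure hz⟩)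
  haveI : QuasiSober ↥(closure A' ∩ closure B') :=
    ((isClosed_closure.inter isClosed_closure).isClosedEmbedding_subtypeVal).quasiSober
  have hξ := (isIrreducible_irreducibleComponent (x := (⟨p, hpA, hpB⟩ : ↥(closure A' ∩ closure B')))
    ).isGenericPoint_genericPoint isClosed_irreducibleComponent
  obtain ⟨x, hxdef⟩ : ∃ x, x = (isIrreducible_irreducibleComponent
    (x := (⟨p, hpA, hpB⟩ : ↥(closure A' ∩ closure B')))).genericPoint := ⟨_, rfl⟩
  rw [← hxdef] at hξ
  have hmax : ∀ y, y ⤳ (x : X) → y ∈ closure A' → y ∈ closure B' → y = x := fun y hy hyA hyB => by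
    have hyx : (⟨y, hyA, hyB⟩ : ↥(closure A' ∩ closure B')) ⤳ x :=
      Topology.IsInducing.subtypeVal.specializes_iff.1 hy
    have h1 : irreducibleComponent (⟨p, hpA, hpB⟩ : ↥(closure A' ∩ closure B')) ⊆
        closure {(⟨y, hyA, hyB⟩ : ↥(closure A' ∩ closure B'))} := by
      rw [← hξ.def]
      exact closure_minimal (Set.singleton_subset_iff.2 hyx.mem_closure) isClosed_closure
    have h2 := (irreducibleComponent_mem_irreducibleComponents
      (⟨p, hpA, hpB⟩ : ↥(closure A' ∩ closure B'))).2 isIrreducible_singleton.closure h1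
    exact congrArg Subtype.val ((isGenericPoint_closure (x := (⟨y, hyA, hyB⟩ : ↥(closure A' ∩ closure B')))).eq
      (h1.antisymm h2 ▸ hξ))
  have hxZ : (x : X) ∈ Z := by
    by_contra h
    rcases hcov (show (x : X) ∈ Zᶜ from h) with hxA | hxB
    · obtain ⟨w, hw1, hw2⟩ := mem_closure_iff.1 x.2.2 A' hA' ⟨h, hxA⟩
      exact hAB w hw1 hw2
    · obtain ⟨w, hw1, hw2⟩ := mem_closure_iff.1 x.2.1 B' hB' ⟨h, hxB⟩
      exact hAB w hw2 hw1
  obtain ⟨b, hbB, hbx⟩ := key B' hB' x x.2.2
  obtain ⟨a, haA, hax⟩ := key A' hA' x x.2.1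
  have ha : a ∈ {x' : X | x' ⤳ (x : X)} \ {(x : X)} := ⟨hax, fun e => haA.1 (by rw [show a = x from e]; exact hxZ)⟩
  have hb : b ∈ {x' : X | x' ⤳ (x : X)} \ {(x : X)} := ⟨hbx, fun e => hbB.1 (by rw [show b = x from e]; exact hxZ)⟩
  obtain ⟨w, hw, hwA, hwB⟩ := (isPreconnected_closed_iff.1 (hgen x hxZ)) (closure A') (closure B')
    isClosed_closure isClosed_closure (fun z _ => huniv z) ⟨a, ha, subset_closure haA⟩ ⟨b, hb, subset_closure hbB⟩
  exact hw.2 (hmax w hw.1 hwA hwB)
end Groth.Agent.S4951
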