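import Groth.Statements.S4965
import Groth.Agent.Ega43Prop.FibreAssBase

set_option autoImplicit false
set_option linter.style.haveILetI false
set_option backward.isDefEq.respectTransparency false
set_option backward.isDefEq.respectTransparency.types false
open CategoryTheory AlgebraicGeometry
universe u v w
open EGA43

namespace Groth.Agent.S4965

/-- Let f : X ⟶ Y be a proper morphism of finite presentation and F a finitely presented O_X-module
which is f-flat; for y in Y write F_y for the restriction of F to the fibre X_y. Let Φ be a finite
set of natural numbers. Then the set of points y of Y such that the set of dimensions of the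
irreducible components of Supp(F_y) contains Φ is open in Y. -/
theorem result {X Y : Scheme.{u}} (f : X ⟶ Y) [IsProper f]
    [LocallyOfFinitePresentation f] (F : X.Modules) (hF : CohB1.IsFP F) (hflat : FlatMod.IsFlatOver f F) (Φ : Finset ℕ) :
    IsOpen {y : Y | ∀ n ∈ Φ, ∃ Z ∈ irreducibleComponents ↥{z : ↥(f.fiber y) | Nontrivial (((Scheme.Modules.pullback (f.fiberι y)).obj F).presheaf.stalk z)},
      topologicalKrullDim ↥Z = (n : WithBot ℕ∞)} := by
  convert isOpen_biInter_finset (s := Φ) fun n _ => Ega43Prop.isOpen_exists_maxPt f F hF hflat n using 1
  ext y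
  simp only [Set.mem_iInter, Set.mem_ofPred_eq]
  refine forall₂_congr fun n _ => ?_
  have h := Set.ext_iff.1 (Ega43Prop.component_dims f F hF y) ((n : ℕ∞) : WithBot ℕ∞)
  simp only [Set.mem_image, Set.mem_ofPred_eq] at h
  refine h.trans (exists_congr fun v => and_congr Iff.rfl ?_)
  exact_mod_cast Iff.rfl
end Groth.Agent.S4965
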