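import Groth.Statements.S4966
import Groth.Agent.Ega43Prop.FibreAssBase

set_option autoImplicit false
set_option linter.style.haveILetI false
set_option backward.isDefEq.respectTransparency false
set_option backward.isDefEq.respectTransparency.types false
open CategoryTheory AlgebraicGeometry
universe u v w
open EGA43

namespace Groth.Agent.S4966

/-- Let f : X ⟶ Y be a proper morphism of finite presentation and F a finitely presented O_X-module
which is f-flat; for y in Y write F_y for the restriction of F to the fibre X_y. Let Φ be a finite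
set of natural numbers. Then the set of points y of Y such that F_y has no embedded associated point
and the set of dimensions of the irreducible components of Supp(F_y) is exactly Φ is open in Y. -/
theorem result {X Y : Scheme.{u}} (f : X ⟶ Y) [IsProper f]
    [LocallyOfFinitePresentation f] (F : X.Modules) (hF : CohB1.IsFP F) (hflat : FlatMod.IsFlatOver f F) (Φ : Finset ℕ) :
    IsOpen {y : Y | AssSch.NoEmbedded ((Scheme.Modules.pullback (f.fiberι y)).obj F) ∧
      (fun Z : Set ↥{z : ↥(f.fiber y) | Nontrivial (((Scheme.Modules.pullback (f.fiberι y)).obj F).presheaf.stalk z)} => topologicalKrullDim ↥Z) '' irreducibleComponents ↥{z : ↥(f.fiber y) | Nontrivial (((Scheme.Modules.pullback (f.fiberι y)).obj F).presheaf.stalk z)} =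
        (fun n : ℕ => (n : WithBot ℕ∞)) '' (Φ : Set ℕ)} := by
  convert (Ega43Prop.isOpen_base_noEmbedded f F hF hflat).inter
    ((Ega43Prop.isOpen_base_assDims f F hF hflat (fun c => ∃ n ∈ Φ, c = ((n : ℕ) : ℕ∞))).inter
      (isOpen_biInter_finset (s := Φ) fun n _ => Ega43Prop.isOpen_exists_maxPt f F hF hflat n)) using 1
  ext y
  simp only [Set.mem_inter_iff, Set.mem_iInter, Set.mem_ofPred_eq]
  refine and_congr_right fun hne => ?_
  rw [Ega43Prop.component_dims f F hF y]
  constructor
  · intro h
    refine ⟨fun v hv => ?_, fun n hn => ?_⟩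
    · obtain ⟨n, hn, e⟩ := h.le ⟨v, Ega43Prop.IsMaxPt.of_ass_noEmbedded f F hF hne hv, rfl⟩
      exact ⟨n, hn, (WithBot.coe_inj.1 e).symm⟩
    · obtain ⟨v, hv, e⟩ := h.ge ⟨n, hn, rfl⟩
      exact ⟨v, hv, ENat.coe_inj.1 (WithBot.coe_inj.1 e)⟩
  · rintro ⟨h1, h2⟩
    refine Set.Subset.antisymm ?_ ?_
    · rintro _ ⟨v, hv, rfl⟩
      obtain ⟨n, hn, e⟩ := h1 v (hv.mem_ass f F hF)
      exact ⟨n, hn, congrArg WithBot.some e.symm⟩
    · rintro _ ⟨n, hn, rfl⟩
      obtain ⟨v, hv, e⟩ := h2 n hn
      exact ⟨v, hv, congrArg (fun m : ℕ => ((m : ℕ∞) : WithBot ℕ∞)) e⟩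
end Groth.Agent.S4966
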