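import Groth.Statements.S4969
import Groth.Agent.Ega43Prop.FibreAssBase

set_option autoImplicit false
set_option linter.style.haveILetI false
set_option backward.isDefEq.respectTransparency false
set_option backward.isDefEq.respectTransparency.types false
open CategoryTheory AlgebraicGeometry
universe u v w
open EGA43

namespace Groth.Agent.S4969

/-- Let f : X ⟶ Y be a proper morphism of finite presentation and F a finitely presented O_X-module
which is f-flat; for y in Y let F_y be the restriction of F to the fibre X_y. Then the function y ↦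
dim Supp(F_y) is locally constant on Y. -/
theorem result {X Y : Scheme.{u}} (f : X ⟶ Y) [IsProper f]
    [LocallyOfFinitePresentation f] (F : X.Modules) (hF : CohB1.IsFP F) (hflat : FlatMod.IsFlatOver f F) :
    IsLocallyConstant (fun y : Y => topologicalKrullDim ↥{z : ↥(f.fiber y) | Nontrivial (((Scheme.Modules.pullback (f.fiberι y)).obj F).presheaf.stalk z)}) := by
  rw [IsLocallyConstant.iff_isOpen_fiber]
  intro d
  have hS : ∀ y : Y, topologicalKrullDim ↥{z : ↥(f.fiber y) | Nontrivial (((Scheme.Modules.pullback (f.fiberι y)).obj F).presheaf.stalk z)} =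
      ⨆ z : ↥{z : ↥(f.fiber y) | Nontrivial (((Scheme.Modules.pullback (f.fiberι y)).obj F).presheaf.stalk z)},
        ((FibDim.rd f (f.fiberι y z.1) : ℕ∞) : WithBot ℕ∞) := fun y => by
    have h := FibDim.topologicalKrullDim_locClosed_eq_iSup_deg (k := Y.residueField y) (f.fiberToSpecResidueField y)
      isOpen_univ (Ega43Prop.isClosed_supp_fibre f F hF y)
    rw [Set.univ_inter] at h
    rw [h]
    exact iSup_congr fun z => by rw [FibDim.deg_fiber]
  by_cases hb : d = ⊥
  · subst hb
    convert Ega43Prop.isOpen_base_assDims f F hF hflat (fun _ => False) using 1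
    ext y
    refine ⟨fun h v hv => ?_, fun h => ?_⟩
    · have h' : _ = (⊥ : WithBot ℕ∞) := h
      replace h' := (hS y).symm.trans h'
      rw [iSup_eq_bot] at h'
      exact WithBot.coe_ne_bot (h' ⟨v, Ega43Prop.nontrivial_of_ass f F hv⟩)
    · refine (hS y).trans ?_
      rw [iSup_eq_bot]
      intro z
      obtain ⟨v, hv, -⟩ := Ega43Prop.exists_ass_below f F hF z.2
      exact (h v hv).elim
  obtain ⟨c, rfl⟩ := WithBot.ne_bot_iff_exists.1 hb
  induction c using ENat.recTopCoe with
  | top =>
    convert isOpen_empty using 1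
    refine Set.eq_empty_iff_forall_notMem.2 fun y (hy : _ = ((⊤ : ℕ∞) : WithBot ℕ∞)) => ?_
    replace hy := (hS y).symm.trans hy
    haveI : CompactSpace ↥(f.fiber y) := inferInstance
    rcases isEmpty_or_nonempty ↥(f.fiber y) with he | hne
    · rw [iSup_of_empty] at hy
      exact WithBot.coe_ne_bot hy.symm
    obtain ⟨η, -, hmax, -⟩ := VarDim.exists_deg_eq_topologicalKrullDim (k := Y.residueField y) (f.fiberToSpecResidueField y)
    have hle : ((⊤ : ℕ∞) : WithBot ℕ∞) ≤ ((FibDim.rd f (f.fiberι y η) : ℕ∞) : WithBot ℕ∞) := hy ▸ iSup_le fun z => by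
      have h1 := hmax z.1
      rw [FibDim.deg_fiber, FibDim.deg_fiber] at h1
      exact_mod_cast h1
    exact absurd (WithBot.coe_le_coe.1 hle) (by simp)
  | coe m =>
    convert (Ega43Prop.isOpen_base_assDims f F hF hflat (fun c => c ≤ (m : ℕ∞))).inter
      (Ega43Prop.isOpen_exists_maxPt f F hF hflat m) using 1
    ext y
    refine ⟨fun (h : _ = _) => ?_, fun h => ?_⟩
    · replace h := (hS y).symm.trans h
      have hle : ∀ z : ↥(f.fiber y), Nontrivial (((Scheme.Modules.pullback (f.fiberι y)).obj F).presheaf.stalk z) →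
          FibDim.rd f (f.fiberι y z) ≤ m := fun z hz => by
        have := h ▸ le_iSup (fun z : ↥{z : ↥(f.fiber y) | Nontrivial (((Scheme.Modules.pullback (f.fiberι y)).obj F).presheaf.stalk z)} =>
          ((FibDim.rd f (f.fiberι y z.1) : ℕ∞) : WithBot ℕ∞)) ⟨z, hz⟩
        exact_mod_cast this
      refine ⟨fun v hv => by exact_mod_cast hle v (Ega43Prop.nontrivial_of_ass f F hv), ?_⟩
      by_contra hno
      have hlt : ∀ z : ↥(f.fiber y), Nontrivial (((Scheme.Modules.pullback (f.fiberι y)).obj F).presheaf.stalk z) →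
          FibDim.rd f (f.fiberι y z) < m := fun z hz => by
        obtain ⟨v, hv, hvz⟩ := Ega43Prop.exists_isMaxPt_below f F hF hz
        have h1 := FibDim.rd_le_of_specializes f (hvz.map (f.fiberι y).continuous)
          (by rw [FibDim.fiber_apply_fiberι, FibDim.fiber_apply_fiberι])
        have h2 := hle v hv.1
        have h3 : FibDim.rd f (f.fiberι y v) ≠ m := fun e => hno ⟨v, hv, e⟩
        omega
      rcases Nat.eq_zero_or_pos m with rfl | hpos
      · have h' : (⨆ z : ↥{z : ↥(f.fiber y) | Nontrivial (((Scheme.Modules.pullback (f.fiberι y)).obj F).presheaf.stalk z)},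
            ((FibDim.rd f (f.fiberι y z.1) : ℕ∞) : WithBot ℕ∞)) ≤ ⊥ :=
          iSup_le fun z => absurd (hlt z.1 z.2) (by omega)
        rw [h] at h'
        exact WithBot.coe_ne_bot (le_bot_iff.1 h')
      · have h' : (⨆ z : ↥{z : ↥(f.fiber y) | Nontrivial (((Scheme.Modules.pullback (f.fiberι y)).obj F).presheaf.stalk z)},
            ((FibDim.rd f (f.fiberι y z.1) : ℕ∞) : WithBot ℕ∞)) ≤ (((m - 1 : ℕ) : ℕ∞) : WithBot ℕ∞) :=
          iSup_le fun z => by exact_mod_cast (show FibDim.rd f (f.fiberι y z.1) ≤ m - 1 by have := hlt z.1 z.2; omega)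
        rw [h] at h'
        have : m ≤ m - 1 := by exact_mod_cast h'
        omega
    · obtain ⟨h1, v, hv, hvm⟩ := h
      refine (hS y).trans ?_
      refine le_antisymm (iSup_le fun z => ?_) (le_iSup_of_le ⟨v, hv.1⟩ (by rw [hvm]))
      obtain ⟨w, hw, hwz⟩ := Ega43Prop.exists_isMaxPt_below f F hF z.2
      have e1 := FibDim.rd_le_of_specializes f (hwz.map (f.fiberι y).continuous)
          (by rw [FibDim.fiber_apply_fiberι, FibDim.fiber_apply_fiberι])
      have e2 : ((FibDim.rd f (f.fiberι y w) : ℕ∞)) ≤ (m : ℕ∞) := h1 w (hw.mem_ass f F hF)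
      exact WithBot.coe_le_coe.2 (le_trans (by exact_mod_cast e1) e2)
end Groth.Agent.S4969
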