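import Groth.Statements.S4975
import Groth.Agent.S5927
import Groth.Agent.UnivOpen.SectionUnivOpen
import Groth.Agent.Ega43Sect.SectInterior

set_option autoImplicit false
set_option linter.style.haveILetI false
set_option backward.isDefEq.respectTransparency false
set_option backward.isDefEq.respectTransparency.types false
open CategoryTheory AlgebraicGeometry
universe u v w
open EGA43

namespace Groth.Agent.S4975

/-- Let f : X ⟶ Y be a morphism locally of finite type with Y locally Noetherian, g : Y ⟶ X a section of
f, X_y^0 the connected component of f⁻¹(y) containing g y, and X^0 ⊆ X their union. Suppose every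
X_y^0 is geometrically integral over κ(y) (its preimage in X_y ⊗ K is irreducible and has reduced
local rings, for every field extension K of κ(y)). Then y ↦ dim X_y^0 is locally constant on Y if
and only if f is universally open at every point of X^0; and when this holds, X^0 is open in X. (The
published statement also lists, as a further equivalent condition, flatness of the base change of f
to the reduced closed subscheme Y_red at the points of X^0; that condition is not stated here.) -/
theorem result {X Y : Scheme.{u}}
    [IsLocallyNoetherian Y] (f : X ⟶ Y) [LocallyOfFiniteType f] (g : Y ⟶ X) (hg : g ≫ f = 𝟙 Y)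
    (hint : ∀ y : Y, (∀ (K : Type u) [Field K] [Algebra (IsLocalRing.ResidueField (Y.presheaf.stalk y)) K],
        IsIrreducible ((FBase.bcπ (f.fiberToSpecResidueField y) K ≫ f.fiberι y).base ⁻¹' connectedComponentIn (f.base ⁻¹' {y}) (g.base y)) ∧
        ∀ x' : ↥(FBase.bc (f.fiberToSpecResidueField y) K),
          (FBase.bcπ (f.fiberToSpecResidueField y) K ≫ f.fiberι y).base x' ∈ connectedComponentIn (f.base ⁻¹' {y}) (g.base y) →
          _root_.IsReduced ((FBase.bc (f.fiberToSpecResidueField y) K).presheaf.stalk x'))) :
    (IsLocallyConstant (fun y : Y => topologicalKrullDim ↥(connectedComponentIn (f.base ⁻¹' {y}) (g.base y))) ↔ ∀ x ∈ MoreMor.sectionComponents f g, EGA43.IsUnivOpenAt f x) ∧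
      (IsLocallyConstant (fun y : Y => topologicalKrullDim ↥(connectedComponentIn (f.base ⁻¹' {y}) (g.base y))) → IsOpen (MoreMor.sectionComponents f g)) := by
  have hgi : ∀ (y : Y) (K : Type u) [Field K] [Algebra (IsLocalRing.ResidueField (Y.presheaf.stalk y)) K],
      IsIrreducible ((FBase.bcπ (f.fiberToSpecResidueField y) K ≫ f.fiberι y).base ⁻¹' connectedComponentIn (f.base ⁻¹' {y}) (g.base y)) :=
    fun y K _ _ => (hint y K).1
  have hsec := UnivOpen.apply_section hg
  have hred : ∀ x ∈ MoreMor.sectionComponents f g,
      FBase.IsGeomReducedAt (f.fiberToSpecResidueField (f.base x)) (f.asFiber x) := fun x hx K _ _ x' hx' => by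
    refine (hint (f.base x) K).2 x' ?_
    rw [Scheme.Hom.comp_apply]
    erw [hx']
    rw [Scheme.Hom.fiberι_asFiber]
    exact hx
  have hmemSC : ∀ (y : Y) (a : X), a ∈ connectedComponentIn (f.base ⁻¹' {y}) (g.base y) →
      a ∈ MoreMor.sectionComponents f g := fun y a ha => by
    obtain rfl : f.base a = y := (connectedComponentIn_subset _ _ ha : a ∈ f.base ⁻¹' {y})
    exact ha
  have h1 : IsLocallyConstant (fun y : Y => topologicalKrullDim ↥(connectedComponentIn (f.base ⁻¹' {y}) (g.base y))) →
      ∀ x ∈ MoreMor.sectionComponents f g, EGA43.IsUnivOpenAt f x := fun hlc x hx => by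
    obtain ⟨U, hU, hfxU, hUc⟩ := hlc.exists_open (f.base x)
    exact UnivOpen.isUnivOpenAt_sectionComponent f hg hgi (y := f.base x)
      (fun y' hy' => (hUc y' (hy'.mem_open hU hfxU)).ge) hx
  refine ⟨⟨h1, fun huo => ?_⟩, fun hlc => ?_⟩
  · rw [IsLocallyConstant.iff_exists_open]
    intro y₀
    obtain ⟨V, hV, hVc⟩ := S5927.result f g hg hgi y₀
      (fun ξ hξ _ => huo ξ (hmemSC y₀ ξ hξ))
      (Or.inl (hred (g.base y₀) (hmemSC _ _ (mem_connectedComponentIn (hsec y₀)))))
    obtain ⟨U, hUV, hU, hyU⟩ := mem_nhds_iff.1 hV
    exact ⟨U, hU, hyU, fun z hz => hVc z (hUV hz)⟩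
  · refine subset_interior_iff_isOpen.1 fun x hx => ?_
    exact Ega43Sect.subset_interior_of_noetherian f g hg (f.base x)
      (fun a ha => ⟨h1 hlc a (hmemSC _ _ ha), hred a (hmemSC _ _ ha)⟩) hx
end Groth.Agent.S4975
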