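import Groth.Statements.S4978
import Groth.Agent.Ega43Prop.Generic

set_option autoImplicit false
open CategoryTheory AlgebraicGeometry
universe u v w
set_option linter.style.haveILetI false
set_option backward.isDefEq.respectTransparency false
set_option backward.isDefEq.respectTransparency.types false
open CategoryTheory.Limits IsLocalRing
open EGA43

namespace Groth.Agent.S4978

open CategoryTheory.Limits in
/-- Let Y be a Noetherian scheme, f : X ⟶ Y a separated morphism of finite type, Z a subset of X such
that every maximal point of the closure of Z belongs to Z, and y a point of Y. Then the closure of Z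
is proper over Y at y (for some open U ∋ y, its trace on f⁻¹(U) is proper over U with the reduced
structure) if and only if: for every discrete valuation ring A' and every morphism g : Spec A' ⟶ Y
mapping the closed point to y, every point x' of X' = X ×_Y Spec A' which projects into Z, lies over
the generic point η' of Spec A' and is rational over κ(η') is in the image of some section of X' ⟶
Spec A'. -/
theorem result {X Y : Scheme.{u}} [IsNoetherian Y] (f : X ⟶ Y) [IsSeparated f]
    [LocallyOfFiniteType f] [QuasiCompact f] (Z : Set X)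
    (hZ : ∀ z ∈ closure Z, (∀ z' ∈ closure Z, z ∈ closure {z'} → z' = z) → z ∈ Z) (y : Y) :
    (∃ U : Y.Opens, y ∈ U ∧ ∃ hC : IsClosed ((f ⁻¹ᵁ U).ι.base ⁻¹' closure Z),
      IsProper ((Scheme.IdealSheafData.vanishingIdeal
        (⟨(f ⁻¹ᵁ U).ι.base ⁻¹' closure Z, hC⟩ : TopologicalSpace.Closeds ↥(f ⁻¹ᵁ U))).subschemeι ≫ (f ∣_ U))) ↔
      ∀ (A' : Type u) [CommRing A'] [IsDomain A'] [IsDiscreteValuationRing A'] (g : Spec (CommRingCat.of A') ⟶ Y),
        g.base (IsLocalRing.closedPoint A') = y →
        ∀ x' : ↥(pullback f g), (pullback.fst f g).base x' ∈ Z →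
          (pullback.snd f g).base x' = genericPoint (Spec (CommRingCat.of A')) →
          Function.Bijective ((pullback.snd f g).residueFieldMap x').hom →
          ∃ s : Spec (CommRingCat.of A') ⟶ pullback f g, s ≫ pullback.snd f g = 𝟙 _ ∧ x' ∈ Set.range s.base := by
  let C : TopologicalSpace.Closeds X := ⟨closure Z, isClosed_closure⟩
  let T := (Scheme.IdealSheafData.vanishingIdeal C).subscheme
  let jT : T ⟶ X := (Scheme.IdealSheafData.vanishingIdeal C).subschemeι
  haveI : IsReduced T := Groth.Agent.H23.RedSub.isReduced_vanishingIdeal C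
  have hrT : Set.range jT = closure Z := Groth.Agent.H23.RedSub.range_vanishingIdeal C
  have hgen : ∀ (A : Type u) [CommRing A] [IsDomain A] (K : Type u) [Field K] [Algebra A K]
      [IsFractionRing A K], Spec.map (CommRingCat.ofHom (algebraMap A K)) (closedPoint K) =
        genericPoint (Spec (CommRingCat.of A)) := by
    intro A _ _ K _ _ _
    rw [genericPoint_eq_bot_of_affine]
    refine PrimeSpectrum.ext ?_
    show Ideal.comap (algebraMap A K) (maximalIdeal K) = ⊥
    rw [IsLocalRing.maximalIdeal_eq_bot]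
    exact Ideal.comap_bot_of_injective _ (IsFractionRing.injective A K)
  -- properness of the restriction = properness of the subscheme over an open
  have key : (∃ U : Y.Opens, y ∈ U ∧ ∃ hC : IsClosed ((f ⁻¹ᵁ U).ι.base ⁻¹' closure Z),
      IsProper ((Scheme.IdealSheafData.vanishingIdeal
        (⟨(f ⁻¹ᵁ U).ι.base ⁻¹' closure Z, hC⟩ : TopologicalSpace.Closeds ↥(f ⁻¹ᵁ U))).subschemeι ≫
          (f ∣_ U))) ↔ ∃ U : Y.Opens, y ∈ U ∧ IsProper ((jT ≫ f) ∣_ U) := by
    have e : ∀ (U : Y.Opens) (hC : IsClosed ((f ⁻¹ᵁ U).ι.base ⁻¹' closure Z)),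
        IsProper ((Scheme.IdealSheafData.vanishingIdeal
        (⟨(f ⁻¹ᵁ U).ι.base ⁻¹' closure Z, hC⟩ : TopologicalSpace.Closeds ↥(f ⁻¹ᵁ U))).subschemeι ≫
          (f ∣_ U)) ↔ IsProper ((jT ≫ f) ∣_ U) := by
      intro U hC
      haveI : IsReduced ↑(jT ⁻¹ᵁ (f ⁻¹ᵁ U)) := isReduced_of_isOpenImmersion (jT ⁻¹ᵁ (f ⁻¹ᵁ U)).ι
      haveI : IsClosedImmersion (jT ∣_ (f ⁻¹ᵁ U)) :=
        MorphismProperty.of_isPullback (isPullback_morphismRestrict jT (f ⁻¹ᵁ U)).flip inferInstance
      have hr : Set.range (jT ∣_ (f ⁻¹ᵁ U)) = (f ⁻¹ᵁ U).ι.base ⁻¹' closure Z := by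
        rw [← hrT]
        ext w
        constructor
        · rintro ⟨v, rfl⟩
          exact ⟨(jT ⁻¹ᵁ (f ⁻¹ᵁ U)).ι v, (Scheme.Hom.comp_apply _ _ _).symm.trans
            ((congrArg (fun k : (jT ⁻¹ᵁ (f ⁻¹ᵁ U)).toScheme ⟶ X => k v)
              (morphismRestrict_ι jT (f ⁻¹ᵁ U)).symm).trans (Scheme.Hom.comp_apply _ _ _))⟩
        · rintro ⟨t, ht⟩
          obtain ⟨v, hv, -⟩ := Scheme.exists_preimage_of_isPullback
            (isPullback_morphismRestrict jT (f ⁻¹ᵁ U)) w t ht.symm
          exact ⟨v, hv⟩
      let C' : TopologicalSpace.Closeds ↥(f ⁻¹ᵁ U) := ⟨(f ⁻¹ᵁ U).ι.base ⁻¹' closure Z, hC⟩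
      haveI := Groth.Agent.H23.RedSub.isReduced_vanishingIdeal (X := (f ⁻¹ᵁ U).toScheme) C'
      obtain ⟨i, hi⟩ := Groth.Agent.H23.RedSub.exists_iso_of_range_eq
        (jT ∣_ (f ⁻¹ᵁ U)) (Scheme.IdealSheafData.vanishingIdeal C').subschemeι
        (by rw [hr, Groth.Agent.H23.RedSub.range_vanishingIdeal]; rfl)
      rw [morphismRestrict_comp, ← hi, Category.assoc,
        MorphismProperty.cancel_left_of_respectsIso @IsProper i.hom]
    constructor
    · rintro ⟨U, hyU, hC, h⟩
      exact ⟨U, hyU, (e U hC).mp h⟩
    · rintro ⟨U, hyU, h⟩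
      have hC : IsClosed ((f ⁻¹ᵁ U).ι.base ⁻¹' closure Z) :=
        isClosed_closure.preimage (f ⁻¹ᵁ U).ι.continuous
      exact ⟨U, hyU, hC, (e U hC).mpr h⟩
  rw [key]
  constructor
  · intro hU A _ _ _ g hg x' hx'Z hx'η hbij
    have H := (Groth.Agent.Ega43Prop.exists_nhd_isProper_iff (f := jT ≫ f) (y := y)).mp hU
    let p := pullback.snd f g
    let i : Spec (CommRingCat.of (FractionRing A)) ⟶ Spec (CommRingCat.of A) :=
      Spec.map (CommRingCat.ofHom (algebraMap A (FractionRing A)))
    haveI : IsIso (p.residueFieldMap x') := (ConcreteCategory.isIso_iff_bijective _).mpr hbij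
    have hi : i (closedPoint _) = p x' := (hgen A (FractionRing A)).trans hx'η.symm
    let ι₀ := Scheme.descResidueField (Scheme.stalkClosedPointTo i)
    let τ : Spec (CommRingCat.of (FractionRing A)) ⟶ pullback f g :=
      Spec.map (inv (p.residueFieldMap x') ≫ ((Spec (CommRingCat.of A)).residueFieldCongr hi.symm).hom ≫ ι₀) ≫
        (pullback f g).fromSpecResidueField x'
    have hτp : τ ≫ p = i := by
      rw [Category.assoc, ← Scheme.Hom.SpecMap_residueFieldMap_fromSpecResidueField,
        ← Spec.map_comp_assoc, IsIso.hom_inv_id_assoc, Spec.map_comp_assoc,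
        Scheme.residueFieldCongr_fromSpecResidueField,
        Scheme.descResidueField_stalkClosedPointTo_fromSpecResidueField]
    have hτx : ∀ q, τ q = x' := fun q => by
      rw [Scheme.Hom.comp_apply, Scheme.fromSpecResidueField_apply]
    obtain ⟨σ, hσ⟩ := Groth.Agent.H23.RedSub.exists_lift_closed (τ ≫ pullback.fst f g) jT (by
      rintro _ ⟨q, rfl⟩
      rw [hrT, Scheme.Hom.comp_apply, hτx]
      exact subset_closure hx'Z)
    obtain ⟨l, hl₁, hl₂⟩ := H A σ g hg (by
      rw [reassoc_of% hσ, pullback.condition, reassoc_of% hτp])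
    refine ⟨pullback.lift (l ≫ jT) (𝟙 _) (by rw [Category.assoc, hl₁, Category.id_comp]),
      pullback.lift_snd _ _ _, i (closedPoint _), ?_⟩
    have he : i ≫ pullback.lift (l ≫ jT) (𝟙 _)
        (by rw [Category.assoc, hl₁, Category.id_comp]) = τ := by
      apply pullback.hom_ext
      · rw [Category.assoc, pullback.lift_fst, reassoc_of% hl₂, hσ]
      · rw [Category.assoc, pullback.lift_snd, Category.comp_id, hτp]
    rw [← Scheme.Hom.comp_apply, he, hτx]
  · intro H
    refine Groth.Agent.Ega43Prop.exists_nhd_isProper_of_dvrLiftsAtPt fun t => ?_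
    haveI : IsLocallyNoetherian X := LocallyOfFiniteType.isLocallyNoetherian f
    have hZc := irreducibleComponent_mem_irreducibleComponents t
    have hclc := isClosed_irreducibleComponent (x := t)
    let u : T := hZc.1.genericPoint
    have hug : IsGenericPoint u (irreducibleComponent t) := by
      have := hZc.1.isGenericPoint_genericPoint_closure
      rwa [hclc.closure_eq] at this
    refine ⟨u, hug.specializes mem_irreducibleComponent, ?_⟩
    have hmax : ∀ t' : T, t' ⤳ u → t' = u := by
      intro t' ht'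
      have h1 : irreducibleComponent t ⊆ closure {t'} := by
        rw [← hug.def]; exact ht'.closure_subset
      have h2 := hZc.2 isIrreducible_singleton.closure h1
      exact ((hug.specializes (h2 (subset_closure rfl))).antisymm ht').eq.symm
    have huZ : jT u ∈ Z := by
      refine hZ _ (hrT ▸ ⟨u, rfl⟩) fun z hz hzu => ?_
      rw [← hrT] at hz
      obtain ⟨t', rfl⟩ := hz
      rw [hmax t' (jT.isClosedEmbedding.isInducing.specializes_iff.mp
        (specializes_iff_mem_closure.mpr hzu))]
    intro V g hV hg hcomm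
    let i : Spec (T.residueField u) ⟶ Spec (CommRingCat.of V) :=
      Spec.map (CommRingCat.ofHom V.subtype)
    let x'' : Spec (T.residueField u) ⟶ pullback f g :=
      pullback.lift (T.fromSpecResidueField u ≫ jT) i (by rw [Category.assoc]; exact hcomm.symm)
    let x' := x'' (closedPoint _)
    have hp : x'' ≫ pullback.snd f g = i := pullback.lift_snd _ _ _
    haveI : IsPreimmersion i :=
      IsPreimmersion.of_isLocalization (R := V) (nonZeroDivisors V)
    haveI : IsPreimmersion (x'' ≫ pullback.snd f g) := hp ▸ inferInstance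
    have hbij := Groth.Agent.Ega43Prop.residueFieldMap_bijective_of_isPreimmersion
      (K := T.residueField u) x'' (pullback.snd f g)
    have hfst : pullback.fst f g x' = jT u := by
      rw [← Scheme.Hom.comp_apply, pullback.lift_fst, Scheme.Hom.comp_apply,
        Scheme.fromSpecResidueField_apply]
    have hsnd : pullback.snd f g x' = genericPoint (Spec (CommRingCat.of V)) := by
      rw [← Scheme.Hom.comp_apply, hp]
      exact hgen V (T.residueField u)
    obtain ⟨s, hs, p, hpx⟩ := H V g hg x' (hfst ▸ huZ) hsnd hbij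
    have hp' : p = i (closedPoint _) := by
      rw [← hp, Scheme.Hom.comp_apply]
      show p = pullback.snd f g x'
      rw [← hpx, ← Scheme.Hom.comp_apply, hs]
      rfl
    have hs' : i ≫ s = x'' :=
      Groth.Agent.Ega43Prop.hom_ext_of_residueFieldMap_surjective
        (K := T.residueField u) (i ≫ s) x'' (pullback.snd f g)
        (by rw [Scheme.Hom.comp_apply]; exact (congrArg s hp'.symm).trans hpx) rfl
        (by rw [Category.assoc, hs, Category.comp_id, hp]) hbij.2
    have hrange : Set.range (s ≫ pullback.fst f g) ⊆ Set.range jT := by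
      rintro _ ⟨q, rfl⟩
      rw [hrT]
      refine Specializes.mem_closed ?_ isClosed_closure (subset_closure huZ)
      rw [← hfst, ← hpx, Scheme.Hom.comp_apply]
      refine (Specializes.map ?_ s.continuous).map (pullback.fst f g).continuous
      rw [hp', show i (closedPoint _) = genericPoint _ from hgen V (T.residueField u)]
      exact genericPoint_specializes q
    obtain ⟨l, hl⟩ := Groth.Agent.H23.RedSub.exists_lift_closed (s ≫ pullback.fst f g) jT hrange
    refine ⟨l, ?_, ?_⟩
    · rw [reassoc_of% hl, pullback.condition, reassoc_of% hs]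
    · rw [← cancel_mono jT, Category.assoc, hl, reassoc_of% hs']
      exact pullback.lift_fst _ _ _

end Groth.Agent.S4978
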