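import Groth.Statements.S4996
import Groth.Agent.S4578
import Groth.Agent.S9408
import Groth.Agent.SmoothingLib.GeomRegDiff
-- import your own Groth.Agent.* helpers here

set_option autoImplicit false
universe u
open Unram17

namespace Groth.Agent.S4996

open TensorProduct in
/-- Let B be a finitely presented algebra over a commutative ring A. Then B is smooth over A if and only
if B is flat over A and every fibre ring κ(p) ⊗_A B, p a prime of A, is geometrically regular over
the residue field κ(p), i.e. stays a regular ring after base change to any finite extension of κ(p). -/
theorem result (A B : Type u) [CommRing A] [CommRing B]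
    [Algebra A B] [Algebra.FinitePresentation A B] :
    Algebra.Smooth A B ↔
      Module.Flat A B ∧ ∀ (p : Ideal A) [p.IsPrime], CAlg.IsGeometricallyRegular p.ResidueField (p.Fiber B) := by
  constructor
  · intro h
    refine ⟨inferInstance, fun p _ => ?_⟩
    have hA : CAlg.IsGeometricallyRegular p.ResidueField p.ResidueField := by
      intro k' _ _ _
      exact IsRegularRing.of_ringEquiv (Algebra.TensorProduct.rid p.ResidueField p.ResidueField k').toRingEquiv.symm
    exact S9408.result p.ResidueField p.ResidueField (p.Fiber B) hA
  · rintro ⟨h1, h2⟩
    refine Algebra.Smooth.of_formallySmooth_fiber fun p hp => ?_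
    haveI : IsNoetherianRing (p.Fiber B) := Algebra.FiniteType.isNoetherianRing p.ResidueField _
    rw [← Algebra.smoothLocus_eq_univ_iff]
    refine Set.eq_univ_iff_forall.mpr fun q => ?_
    have hq : CAlg.IsGeometricallyRegular p.ResidueField (Localization.AtPrime q.asIdeal) :=
      SmoothingLib.GeomDiff.isGeometricallyRegular_of_isLocalization (h2 p) q.asIdeal.primeCompl _
    exact ((S4578.result (k₀ := p.ResidueField) (k := p.ResidueField) q.asIdeal).out 3 0).mp hq

end Groth.Agent.S4996
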