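import Groth.Statements.S5001
import Groth.Agent.S2790
import Groth.Agent.PP38.FieldRank
-- import your own Groth.Agent.* helpers here

set_option autoImplicit false
universe u
open Unram17

namespace Groth.Agent.S5001

/-- Let k be a field, A a k-algebra of finite type equipped with a k-algebra map from the polynomial
ring in n variables, with images g_i of the variables, and p a prime of A such that Spec A has local
dimension n at p, the residue field of p is a finite separable extension of k, and every g_i lies in
p. Then A is etale over the polynomial ring at p if and only if the images of the g_i generate the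
maximal ideal of the local ring A_p. -/
theorem result (k A : Type u) [Field k] [CommRing A] [Algebra k A]
    [Algebra.FiniteType k A] (n : ℕ) [Algebra (MvPolynomial (Fin n) k) A]
    [IsScalarTower k (MvPolynomial (Fin n) k) A] (p : Ideal A) [p.IsPrime]
    (hn : FlatMor.localDim (PrimeSpectrum A) ⟨p, inferInstance⟩ = (n : WithBot ℕ∞))
    [Module.Finite k p.ResidueField] [Algebra.IsSeparable k p.ResidueField]
    (hg : ∀ i : Fin n, algebraMap (MvPolynomial (Fin n) k) A (MvPolynomial.X i) ∈ p) :
    Algebra.IsEtaleAt (MvPolynomial (Fin n) k) p ↔
      Ideal.span (Set.range fun i : Fin n =>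
        algebraMap A (Localization.AtPrime p) (algebraMap (MvPolynomial (Fin n) k) A (MvPolynomial.X i))) =
        IsLocalRing.maximalIdeal (Localization.AtPrime p) := by
  constructor
  · intro h
    haveI := h
    classical
    rw [← Set.image_univ]
    refine PP38.FieldRank.span_image_eq_maximalIdeal (k := k) p Set.univ (le_antisymm (fun f hf => ?_)
      (Ideal.span_le.2 (by rintro _ ⟨i, -, rfl⟩; exact hg i)))
    have h1 := PP38.FieldRank.sub_mem_span (Set.univ : Set (Fin n)) f
    have h2 : MvPolynomial.aeval (fun i : Fin n => if i ∈ (Set.univ : Set (Fin n)) then (0 : MvPolynomial (Fin n) k) else MvPolynomial.X i) f =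
        MvPolynomial.C (MvPolynomial.constantCoeff f) := by
      simp only [Set.mem_univ, if_true]
      exact MvPolynomial.aeval_zero' f
    rw [h2] at h1
    by_cases hc : MvPolynomial.constantCoeff f = 0
    · rwa [hc, map_zero, sub_zero] at h1
    · exfalso
      refine (inferInstance : (p.under (MvPolynomial (Fin n) k)).IsPrime).ne_top
        (Ideal.eq_top_of_isUnit_mem _ ?_ ((isUnit_iff_ne_zero.2 hc).map MvPolynomial.C))
      have hX : Ideal.span (MvPolynomial.X '' (Set.univ : Set (Fin n))) ≤ p.under (MvPolynomial (Fin n) k) :=
        Ideal.span_le.2 (by rintro _ ⟨i, -, rfl⟩; exact hg i)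
      simpa using sub_mem hf (hX h1)
  · intro h
    rw [S2790.result k A n p hn]
    refine PP38.FieldRank.span_D_eq_top p _ Set.univ (by rwa [Set.image_univ]) ?_
    haveI : Algebra.FormallyUnramified k p.ResidueField := Algebra.FormallyUnramified.of_isSeparable k p.ResidueField
    exact Subsingleton.elim _ _

end Groth.Agent.S5001
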