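import Groth.Statements.S5012
import Groth.Agent.PP38.GeomRedMin
-- import your own Groth.Agent.* helpers here

set_option autoImplicit false
universe u
open Unram17

namespace Groth.Agent.S5012

/-- Let A be an algebra of finite type over a field k. Then Spec A has a dense open subset consisting of
points at which A is smooth over k if and only if, for every minimal prime p of A, the local ring
A_p is geometrically reduced over k (that is, A_p is a field and a separable extension of k). -/
theorem result (k A : Type u) [Field k] [CommRing A] [Algebra k A]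
    [Algebra.FiniteType k A] :
    (∃ U : TopologicalSpace.Opens (PrimeSpectrum A), Dense (U : Set (PrimeSpectrum A)) ∧
        ∀ p ∈ U, Algebra.IsSmoothAt k p.asIdeal) ↔
      ∀ (p : Ideal A) [p.IsPrime], p ∈ minimalPrimes A →
        Algebra.IsGeometricallyReduced k (Localization.AtPrime p) := by
  haveI : IsNoetherianRing A := Algebra.FiniteType.isNoetherianRing k A
  haveI := (Algebra.FinitePresentation.of_finiteType (R := k)).1 (inferInstance : Algebra.FiniteType k A)
  constructor
  · rintro ⟨U, hU, hsm⟩ p _ hp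
    refine (PP38.isSmoothAt_iff_geomReduced_of_minimal k A p hp).1 ?_
    let O : Set (PrimeSpectrum A) := (⋃ q ∈ {q : PrimeSpectrum A | q.asIdeal ∈ minimalPrimes A ∧ q.asIdeal ≠ p},
      PrimeSpectrum.zeroLocus (q.asIdeal : Set A))ᶜ
    have hfin : {q : PrimeSpectrum A | q.asIdeal ∈ minimalPrimes A ∧ q.asIdeal ≠ p}.Finite :=
      (((minimalPrimes.finite_of_isNoetherianRing A).preimage (fun a _ b _ h => PrimeSpectrum.ext h)).subset fun q hq => hq.1)
    have hO : IsOpen O := (hfin.isClosed_biUnion fun q _ => PrimeSpectrum.isClosed_zeroLocus _).isOpen_compl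
    have hpO : (⟨p, inferInstance⟩ : PrimeSpectrum A) ∈ O := by
      simp only [O, Set.mem_compl_iff, Set.mem_iUnion, PrimeSpectrum.mem_zeroLocus, SetLike.coe_subset_coe, not_exists]
      rintro q ⟨hq, hqp⟩ hle
      exact hqp (le_antisymm hle (hp.2 ⟨q.isPrime, bot_le⟩ hle))
    obtain ⟨r, hrO, hrU⟩ := hU.inter_open_nonempty O hO ⟨_, hpO⟩
    obtain ⟨q, hq, hqr⟩ := Ideal.exists_minimalPrimes_le (bot_le : (⊥ : Ideal A) ≤ r.asIdeal)
    have hqp : q = p := by
      by_contra hne
      refine hrO (Set.mem_biUnion (x := (⟨q, hq.1.1⟩ : PrimeSpectrum A)) ⟨hq, hne⟩ ?_)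
      rw [PrimeSpectrum.mem_zeroLocus]
      exact hqr
    subst hqp
    exact hsm ⟨q, inferInstance⟩ (U.isOpen.stableUnderGeneralization
      ((PrimeSpectrum.le_iff_specializes ⟨q, inferInstance⟩ r).1 hqr) hrU)
  · intro h
    refine ⟨⟨Algebra.smoothLocus k A, Algebra.isOpen_smoothLocus⟩, fun r => ?_, fun p hp => hp⟩
    obtain ⟨q, hq, hqr⟩ := Ideal.exists_minimalPrimes_le (bot_le : (⊥ : Ideal A) ≤ r.asIdeal)
    haveI := hq.1.1
    exact ((PrimeSpectrum.le_iff_specializes ⟨q, hq.1.1⟩ r).1 hqr).mem_closed isClosed_closure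
      (subset_closure ((PP38.isSmoothAt_iff_geomReduced_of_minimal k A q hq).2 (h q hq)))

end Groth.Agent.S5012
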