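import Groth.Statements.S5026
import Groth.Agent.S2790
import Groth.Agent.PP38.FieldRank
-- import your own Groth.Agent.* helpers here

set_option autoImplicit false
universe u
open Unram17

namespace Groth.Agent.S5026

/-- Let k be a field, A a k-algebra of finite type equipped with a k-algebra map from the polynomial
ring in n variables (images g_i of the variables), p a prime of A such that Spec A has local
dimension n at p, r the Krull dimension of the local ring A_p, and suppose g_i ∈ p for the indices i
< r. Then A is etale at p over the polynomial ring if and only if the images of the g_i with i < r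
generate the maximal ideal of A_p and the differentials of the residue classes of the g_i with i ≥ r
generate the module of differentials of the residue field κ(p) over k. (The published statement adds
that these conditions imply that A is smooth at p over k and that κ(p) is separable over k; this row
does not state that consequence.) -/
theorem result (k A : Type u) [Field k]
    [CommRing A] [Algebra k A] [Algebra.FiniteType k A] (n r : ℕ) [Algebra (MvPolynomial (Fin n) k) A]
    [IsScalarTower k (MvPolynomial (Fin n) k) A] (p : Ideal A) [p.IsPrime]
    (hn : FlatMor.localDim (PrimeSpectrum A) ⟨p, inferInstance⟩ = (n : WithBot ℕ∞))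
    (hr : ringKrullDim (Localization.AtPrime p) = (r : WithBot ℕ∞))
    (hg : ∀ i : Fin n, (i : ℕ) < r → algebraMap (MvPolynomial (Fin n) k) A (MvPolynomial.X i) ∈ p) :
    Algebra.IsEtaleAt (MvPolynomial (Fin n) k) p ↔
      Ideal.span ((fun i : Fin n =>
          algebraMap A (Localization.AtPrime p) (algebraMap (MvPolynomial (Fin n) k) A (MvPolynomial.X i))) ''
            {i : Fin n | (i : ℕ) < r}) = IsLocalRing.maximalIdeal (Localization.AtPrime p) ∧
        Submodule.span p.ResidueField ((fun i : Fin n =>
          KaehlerDifferential.D k p.ResidueField
            (IsLocalRing.residue (Localization.AtPrime p)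
              (algebraMap A (Localization.AtPrime p) (algebraMap (MvPolynomial (Fin n) k) A (MvPolynomial.X i))))) ''
            {i : Fin n | r ≤ (i : ℕ)}) = ⊤ := by
  rw [show {i : Fin n | r ≤ (i : ℕ)} = {i : Fin n | (i : ℕ) < r}ᶜ by ext i; simp]
  constructor
  · intro h
    haveI := h
    constructor
    · refine PP38.FieldRank.span_image_eq_maximalIdeal (k := k) p _ ?_
      have htr := PP38.FieldRank.trdeg_residueField (k := k) p n r hn hr
      obtain ⟨hp₀, hh⟩ := PP38.FieldRank.isPrime_span_X_lt (F := k) n r (by omega)
      let Q := p.under (MvPolynomial (Fin n) k)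
      let qP : PrimeSpectrum (MvPolynomial (Fin n) k) := ⟨Q, inferInstance⟩
      have hle : Ideal.span (MvPolynomial.X '' {i : Fin n | (i : ℕ) < r}) ≤ Q :=
        Ideal.span_le.2 (by rintro _ ⟨i, hi, rfl⟩; exact hg i hi)
      refine ((eq_or_lt_of_le hle).resolve_right fun hlt => ?_).symm
      have hh1 := le_trans (add_le_add_left hh 1) (Ideal.height_add_one_le_of_lt_of_isPrime hlt)
      have hP : ringKrullDim (MvPolynomial (Fin n) k) = n := by
        rw [MvPolynomial.ringKrullDim_of_isNoetherianRing, ringKrullDim_eq_zero_of_field, zero_add, Nat.card_fin]
      have hsum := VarDim.height_add_coheight_eq (k := k) n _ hP qP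
      have hld : FlatMor.localDim (PrimeSpectrum (MvPolynomial (Fin n) k)) qP = (n : WithBot ℕ∞) := by
        rw [CAlgOdd.LocalDimSpec.localDim_eq_add k, hsum]; rfl
      obtain ⟨hQ, hhQ⟩ := ENat.ne_top_iff_exists.1 (Ideal.height_ne_top_of_isPrime (I := Q))
      have hrQ : ringKrullDim (Localization.AtPrime Q) = (hQ : WithBot ℕ∞) := by
        rw [IsLocalization.AtPrime.ringKrullDim_eq_height Q, ← hhQ]; rfl
      have htrQ := PP38.FieldRank.trdeg_residueField (k := k) Q n hQ hld hrQ
      haveI : Algebra.EssFiniteType (MvPolynomial (Fin n) k) A := by
        haveI : Algebra.FiniteType (MvPolynomial (Fin n) k) A :=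
          Algebra.FiniteType.of_restrictScalars_finiteType k _ _
        infer_instance
      let _ := Localization.AtPrime.algebraOfLiesOver Q p
      haveI : Algebra.IsSeparable Q.ResidueField p.ResidueField :=
        ((Algebra.isUnramifiedAt_iff_map_eq (MvPolynomial (Fin n) k) Q p).1 inferInstance).1
      haveI : FaithfulSMul k Q.ResidueField :=
        (faithfulSMul_iff_algebraMap_injective _ _).2 (algebraMap k Q.ResidueField).injective
      haveI : IsScalarTower k Q.ResidueField p.ResidueField := IsScalarTower.of_algebraMap_eq fun c => by
        rw [IsScalarTower.algebraMap_apply k (MvPolynomial (Fin n) k) Q.ResidueField,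
          ← IsScalarTower.algebraMap_apply (MvPolynomial (Fin n) k) Q.ResidueField p.ResidueField,
          IsScalarTower.algebraMap_apply (MvPolynomial (Fin n) k) A p.ResidueField,
          ← IsScalarTower.algebraMap_apply k (MvPolynomial (Fin n) k) A,
          ← IsScalarTower.algebraMap_apply k A p.ResidueField]
      have heq : Algebra.trdeg k p.ResidueField = Algebra.trdeg k Q.ResidueField := by
        rw [← trdeg_add_eq k Q.ResidueField, trdeg_eq_zero (R := Q.ResidueField), add_zero]
      rw [heq] at htr
      change ((r : ℕ∞) + 1 ≤ Q.height) at hh1
      rw [← hhQ] at hh1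
      norm_cast at hh1
      omega
    · have hsp := (S2790.result k A n p hn).1 h
      rw [eq_top_iff, ← KaehlerDifferential.span_range_derivation, Submodule.span_le]
      rintro _ ⟨c, rfl⟩
      obtain ⟨y, rfl⟩ := IsLocalRing.residue_surjective c
      have hy : KaehlerDifferential.D k (Localization.AtPrime p) y ∈ Submodule.span (Localization.AtPrime p)
          (Set.range fun i : Fin n => KaehlerDifferential.D k (Localization.AtPrime p)
            (algebraMap A (Localization.AtPrime p) (algebraMap (MvPolynomial (Fin n) k) A (MvPolynomial.X i)))) := by
        rw [hsp]; trivial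
      let φ := KaehlerDifferential.map k k (Localization.AtPrime p) p.ResidueField
      have h2 : φ (KaehlerDifferential.D k (Localization.AtPrime p) y) ∈ Submodule.span (Localization.AtPrime p)
          (φ '' Set.range fun i : Fin n => KaehlerDifferential.D k (Localization.AtPrime p)
            (algebraMap A (Localization.AtPrime p) (algebraMap (MvPolynomial (Fin n) k) A (MvPolynomial.X i)))) := by
        rw [Submodule.span_image]; exact Submodule.mem_map_of_mem hy
      rw [KaehlerDifferential.map_D] at h2
      refine SetLike.mem_coe.2 (Submodule.span_le.2 ?_ (Submodule.span_le_restrictScalars (Localization.AtPrime p) p.ResidueField _ h2))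
      rintro _ ⟨_, ⟨i, rfl⟩, rfl⟩
      rw [KaehlerDifferential.map_D]
      by_cases hi : (i : ℕ) < r
      · have h0 : IsLocalRing.residue (Localization.AtPrime p) (algebraMap A (Localization.AtPrime p)
            (algebraMap (MvPolynomial (Fin n) k) A (MvPolynomial.X i))) = 0 :=
          (IsLocalRing.residue_eq_zero_iff _).2 ((IsLocalization.AtPrime.to_map_mem_maximal_iff _ p _).2 (hg i hi))
        rw [SetLike.mem_coe, IsLocalRing.ResidueField.algebraMap_eq, h0, map_zero]
        exact zero_mem _
      · exact Submodule.subset_span ⟨i, hi, rfl⟩
  · rintro ⟨h1, h2⟩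
    rw [S2790.result k A n p hn]
    exact PP38.FieldRank.span_D_eq_top p _ _ h1 h2

end Groth.Agent.S5026
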