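import Groth.Statements.S5027
import Groth.Agent.PP38.FieldRank
-- import your own Groth.Agent.* helpers here

set_option autoImplicit false
universe u
open Unram17

namespace Groth.Agent.S5027

/-- Let A be an algebra of finite type over a field k, p a prime of A such that Spec A has local
dimension n at p, and r the Krull dimension of the local ring A_p. Then A_p is regular and the
residue field κ(p) is a separable extension of k (geometrically reduced over k) if and only if there
exist n elements of the local ring A_p (germs at p in place of sections over an open neighbourhood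
of p, which is equivalent) of which those with index < r generate the maximal ideal and the residue
classes of the remaining ones have differentials generating the module of differentials of κ(p) over
k. -/
theorem result (k A : Type u) [Field k]
    [CommRing A] [Algebra k A] [Algebra.FiniteType k A] (n r : ℕ) (p : Ideal A) [p.IsPrime]
    (hn : FlatMor.localDim (PrimeSpectrum A) ⟨p, inferInstance⟩ = (n : WithBot ℕ∞))
    (hr : ringKrullDim (Localization.AtPrime p) = (r : WithBot ℕ∞)) :
    (IsRegularLocalRing (Localization.AtPrime p) ∧ Algebra.IsGeometricallyReduced k p.ResidueField) ↔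
      ∃ g : Fin n → Localization.AtPrime p,
        Ideal.span (g '' {i : Fin n | (i : ℕ) < r}) = IsLocalRing.maximalIdeal (Localization.AtPrime p) ∧
          Submodule.span p.ResidueField ((fun i : Fin n =>
            KaehlerDifferential.D k p.ResidueField (IsLocalRing.residue (Localization.AtPrime p) (g i))) ''
              {i : Fin n | r ≤ (i : ℕ)}) = ⊤ := by
  haveI : Algebra.EssFiniteType k p.ResidueField := Algebra.EssFiniteType.comp k A p.ResidueField
  haveI : IsNoetherianRing A := Algebra.FiniteType.isNoetherianRing k A
  have htr := PP38.FieldRank.trdeg_residueField (k := k) p n r hn hr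
  rw [PP38.FieldRank.isGeometricallyReduced_iff]
  have hrn : r ≤ n := by omega
  constructor
  · rintro ⟨hreg, hsep⟩
    have hge := PP38.FieldRank.trdeg_le_finrank k p.ResidueField
    have hspan : (IsLocalRing.maximalIdeal (Localization.AtPrime p)).spanFinrank = r := by
      have := IsRegularLocalRing.spanFinrank_maximalIdeal (R := Localization.AtPrime p)
      rw [hr] at this
      exact_mod_cast this
    have hfg := (IsLocalRing.maximalIdeal (Localization.AtPrime p)).fg_of_isNoetherianRing
    have hfin := Submodule.FG.finite_generators hfg
    haveI := hfin.to_subtype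
    have hgc : Nat.card (IsLocalRing.maximalIdeal (Localization.AtPrime p)).generators = r := by
      rw [Nat.card_coe_set_eq, Submodule.FG.generators_ncard hfg, hspan]
    let a : Fin r → Localization.AtPrime p := fun j => ((Finite.equivFinOfCardEq hgc).symm j).1
    have ha : Set.range a = (IsLocalRing.maximalIdeal (Localization.AtPrime p)).generators := by
      rw [show a = Subtype.val ∘ (Finite.equivFinOfCardEq hgc).symm from rfl, EquivLike.range_comp,
        Subtype.range_coe]
    haveI : Module.Finite p.ResidueField (KaehlerDifferential k p.ResidueField) := inferInstance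
    obtain ⟨B, hB, hBspan, hBli⟩ := exists_linearIndependent p.ResidueField
      (Set.range (KaehlerDifferential.D k p.ResidueField))
    rw [KaehlerDifferential.span_range_derivation] at hBspan
    let bas : Module.Basis B p.ResidueField (KaehlerDifferential k p.ResidueField) :=
      Module.Basis.mk hBli (by rw [Subtype.range_coe, hBspan])
    haveI : Fintype B := FiniteDimensional.fintypeBasisIndex bas
    have hBc : Nat.card B = n - r := by
      rw [Nat.card_eq_fintype_card, ← Module.finrank_eq_card_basis bas]
      omega
    have hlift : ∀ b : B, ∃ y : Localization.AtPrime p,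
        KaehlerDifferential.D k p.ResidueField (IsLocalRing.residue (Localization.AtPrime p) y) = b := fun b => by
      obtain ⟨c, hc⟩ := hB b.2
      obtain ⟨y, rfl⟩ := IsLocalRing.residue_surjective c
      exact ⟨y, hc⟩
    choose y hy using hlift
    let eB := (Finite.equivFinOfCardEq hBc).symm
    refine ⟨fun i => if h : (i : ℕ) < r then a ⟨i, h⟩ else y (eB ⟨i - r, by omega⟩), ?_, ?_⟩
    · conv_rhs => rw [← (IsLocalRing.maximalIdeal (Localization.AtPrime p)).span_generators, ← ha]
      refine congrArg Ideal.span ?_
      ext z
      constructor
      · rintro ⟨i, hi, rfl⟩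
        refine ⟨⟨i, hi⟩, ?_⟩
        dsimp only
        rw [dif_pos (show (i : ℕ) < r from hi)]
      · rintro ⟨j, rfl⟩
        exact ⟨⟨j, j.2.trans_le hrn⟩, j.2, dif_pos j.2⟩
    · refine eq_top_iff.2 (hBspan.ge.trans (Submodule.span_mono fun z hz => ?_))
      obtain ⟨j, hj⟩ := eB.surjective ⟨z, hz⟩
      refine ⟨⟨r + j, by omega⟩, Nat.le_add_right r j, ?_⟩
      dsimp only
      rw [dif_neg (Nat.le_add_right r j).not_gt, hy]
      have hj' : (⟨r + (j : ℕ) - r, by omega⟩ : Fin (n - r)) = j := Fin.ext (Nat.add_sub_cancel_left r j)
      rw [hj', hj]
  · rintro ⟨g, hgm, hgs⟩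
    classical
    have hcard : ({i : Fin n | (i : ℕ) < r}).ncard = r := by
      have : {i : Fin n | (i : ℕ) < r} = Set.range (Fin.castLE hrn) := by
        ext i
        exact ⟨fun h => ⟨⟨i, h⟩, rfl⟩, fun ⟨j, hj⟩ => hj ▸ j.2⟩
      rw [this, Set.ncard_range_of_injective (Fin.castLE_injective hrn), Nat.card_fin]
    refine ⟨IsRegularLocalRing.of_spanFinrank_maximalIdeal_le _ ?_, ?_⟩
    · rw [hr, ← hgm]
      refine Nat.cast_le.2 ?_
      refine (Submodule.spanFinrank_span_le_ncard_of_finite ((Set.toFinite _).image _)).trans ?_
      exact (Set.ncard_image_le (Set.toFinite _)).trans hcard.le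
    · have h1 : {i : Fin n | r ≤ (i : ℕ)} = {i : Fin n | (i : ℕ) < r}ᶜ := by
        ext i; simp
      have h2 : ({i : Fin n | r ≤ (i : ℕ)}).ncard = n - r := by
        rw [h1, Set.ncard_compl, hcard, Nat.card_fin]
      have h3 := finrank_span_le_card (R := p.ResidueField)
        ((fun i : Fin n => KaehlerDifferential.D k p.ResidueField
          (IsLocalRing.residue (Localization.AtPrime p) (g i))) '' {i : Fin n | r ≤ (i : ℕ)})
      rw [hgs, finrank_top, ← Set.ncard_eq_toFinset_card'] at h3
      have h4 := Set.ncard_image_le (f := fun i : Fin n => KaehlerDifferential.D k p.ResidueField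
          (IsLocalRing.residue (Localization.AtPrime p) (g i))) (Set.toFinite {i : Fin n | r ≤ (i : ℕ)})
      omega

end Groth.Agent.S5027
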