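import Groth.Statements.S5029
import Groth.Agent.Eg2Sym.Spec
import Groth.Agent.QCoh.LocFree
import Groth.Agent.QCoh.FT
import Groth.Agent.PP38.SymSmooth
-- import your own Groth.Agent.* helpers here

set_option autoImplicit false
universe u
open CategoryTheory CategoryTheory.Limits AlgebraicGeometry TopologicalSpace
open Unram17

namespace Groth.Agent.S5029

/-- Let S be a scheme and E a quasi-coherent O_S-module that is finite locally free. If A is a
quasi-coherent O_S-algebra which is the symmetric algebra of E (through j : E ⟶ A), then the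
structure morphism of the relative spectrum of A, i.e. of the vector bundle V(E), is smooth. -/
theorem result {S : Scheme.{u}} (E : S.Modules) (hE : Coh.IsQCoh E)
    (hlf : FlatMod.IsFinLocFree E) (A : RelSpec.QCAlg S) (j : E ⟶ A.toModule) (hA : RelSpec.IsSymAlg E A j) :
    Smooth A.π := by
  haveI hbc : MorphismProperty.IsStableUnderBaseChange @Smooth.{u} := inferInstance
  haveI : MorphismProperty.RespectsIso @Smooth.{u} := MorphismProperty.IsStableUnderBaseChange.respectsIso
  haveI : IsZariskiLocalAtTarget @Smooth.{u} := HasRingHomProperty.instIsZariskiLocalAtTarget (P := @Smooth.{u}) (Q := RingHom.Smooth)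
  have hA' := Eg2Sym.isAffSym_of_isSymAlg hE hA
  refine IsZariskiLocalAtTarget.of_iSup_eq_top (P := @Smooth.{u})
    (fun U : S.affineOpens => (U : S.Opens)) (iSup_affineOpens_eq_top S) fun U => ?_
  have hfp := QCoh.isFP_of_isFinLocFree hlf
  haveI := QCoh.finitePresentation_of_isFP hfp U.2
  haveI := (QCoh.flat_sections_iff hE U.2).2 fun x _ => (QCoh.isFlat_and_isFP_iff.2 hlf).1 x
  haveI : Module.Projective Γ(S, U.1) Γ(E, U.1) := Module.Flat.projective_of_finitePresentation
  have hsm : (A.str.app (Opposite.op U.1)).hom.Smooth := by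
    obtain ⟨g, hgσ, hgι⟩ : ∃ g : SymmetricAlgebra Γ(S, U.1) Γ(E, U.1) →+* A.presheaf.obj (Opposite.op U.1),
        (∀ r, g (algebraMap _ _ r) = (A.str.app (Opposite.op U.1)).hom r) ∧
          ∀ x, g (SymmetricAlgebra.ι _ _ x) = Eg2Sym.jApp j U.1 x :=
      ⟨_, Eg2Sym.symLift_algebraMap _ _ (Eg2Sym.jApp_smul j U.1), Eg2Sym.symLift_ι _ _ _⟩
    obtain ⟨h, hhσ, hhι⟩ := (hA' U.1 U.2).exists_lift (R := CommRingCat.of (SymmetricAlgebra Γ(S, U.1) Γ(E, U.1)))
      (algebraMap _ _) (SymmetricAlgebra.ι _ _).toAddMonoidHom fun r x => by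
        rw [← Algebra.smul_def]; exact map_smul (SymmetricAlgebra.ι _ _) r x
    have h₁ : h.hom.comp g = RingHom.id _ := Eg2Sym.sym_hom_ext
      (fun r => by rw [RingHom.comp_apply, hgσ, hhσ]; rfl) (fun x => by rw [RingHom.comp_apply, hgι, hhι]; rfl)
    have h₂ : h ≫ CommRingCat.ofHom g = 𝟙 _ := (hA' U.1 U.2).ext _ _
      (fun r => (congrArg g (hhσ r)).trans (hgσ r)) fun x => (congrArg g (hhι x)).trans (hgι x)
    letI : Algebra Γ(S, U.1) (A.presheaf.obj (Opposite.op U.1)) := (A.str.app (Opposite.op U.1)).hom.toAlgebra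
    haveI := PP38.smooth_symmetricAlgebra Γ(S, U.1) Γ(E, U.1)
    exact Algebra.Smooth.of_equiv (AlgEquiv.ofRingEquiv
      (f := RingEquiv.ofRingHom g h.hom (RingHom.ext fun a => congr(($h₂).hom a)) h₁) hgσ)
  have h2 : Smooth (Spec.map (A.str.app (Opposite.op U.1))) := (HasRingHomProperty.Spec_iff (P := @Smooth.{u})).mpr hsm
  have hU : IsAffineOpen U.1 := U.2
  let e := morphismRestrictOpensRange A.π hU.fromSpec
  rw [← hU.opensRange_fromSpec, (MorphismProperty.arrow_mk_iso_iff @Smooth.{u} e)]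
  have h3 := (RelSpecX.isPullback_ι (A := A) U.1 hU)
  rw [← h3.isoPullback_inv_snd]
  infer_instance

end Groth.Agent.S5029
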