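import Groth.Statements.S5038
import Groth.Agent.EtFound.Henselian
import Groth.Agent.SmoothingLib.StandardSmoothRetract

set_option autoImplicit false
open CategoryTheory AlgebraicGeometry
universe u
open Hensel

open scoped TensorProduct

namespace Groth.Agent.S5038

/-- Let A be a henselian local ring with residue field k, S = Spec A, and f : X ⟶ S a smooth morphism.
Then the map from sections of f to k-points of the closed fibre is surjective: every u₀ : Spec k ⟶ X
lying over the closed point extends to a section u of f. -/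
theorem result (A : Type u) [CommRing A] [HenselianLocalRing A]
    {X : Scheme.{u}} (f : X ⟶ Spec (CommRingCat.of A)) [Smooth f]
    (u₀ : Spec (CommRingCat.of (IsLocalRing.ResidueField A)) ⟶ X)
    (h₀ : u₀ ≫ f = Spec.map (CommRingCat.ofHom (IsLocalRing.residue A))) :
    ∃ u : Spec (CommRingCat.of A) ⟶ X, u ≫ f = 𝟙 _ ∧
      Spec.map (CommRingCat.ofHom (IsLocalRing.residue A)) ≫ u = u₀ := by
  obtain ⟨S, j, hj, hmem, -⟩ := Scheme.exists_affine_mem_range_and_range_subset
    (x := u₀.base default) (U := (⊤ : X.Opens)) (by simp)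
  let u' := IsOpenImmersion.lift j u₀ (by
    rintro _ ⟨a, rfl⟩; rw [Subsingleton.elim a default]; exact hmem)
  have hu' : u' ≫ j = u₀ := IsOpenImmersion.lift_fac _ _ _
  obtain ⟨φA, hφA⟩ := Spec.map_surjective (j ≫ f)
  obtain ⟨φu, hφu⟩ := Spec.map_surjective u'
  algebraize [φA.hom]
  haveI : Algebra.Smooth A S := by
    have h : Smooth (Spec.map φA) := by rw [hφA]; infer_instance
    exact (HasRingHomProperty.Spec_iff (P := @Smooth)).mp h
  have hcomp : φA ≫ φu = CommRingCat.ofHom (IsLocalRing.residue A) := by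
    apply Spec.map_injective
    rw [Spec.map_comp, hφA, hφu, ← Category.assoc, hu', h₀]
  let φ : S →ₐ[A] IsLocalRing.ResidueField A :=
    { φu.hom with commutes' := fun r => congr(($hcomp).hom r) }
  obtain ⟨B, _, _, _, _, -, ⟨ρ⟩, hB⟩ := SmoothingLib.exists_standardSmooth_retract (R := A) (A := S)
  obtain ⟨n, g, hgC, hg⟩ := RingHom.IsStandardSmooth.exists_etale_mvPolynomial (f := algebraMap A B)
    (RingHom.isStandardSmooth_algebraMap.2 hB)
  letI : Algebra (MvPolynomial (Fin n) A) B := g.toAlgebra
  haveI : Algebra.Etale (MvPolynomial (Fin n) A) B := RingHom.etale_algebraMap.1 hg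
  let φB : B →ₐ[A] IsLocalRing.ResidueField A := φ.comp (ρ.restrictScalars A)
  choose a ha using fun i => IsLocalRing.residue_surjective (φB (g (MvPolynomial.X i)))
  letI : Algebra (MvPolynomial (Fin n) A) A := (MvPolynomial.aeval a).toRingHom.toAlgebra
  let T := A ⊗[MvPolynomial (Fin n) A] B
  have key : (Algebra.ofId A (IsLocalRing.ResidueField A)).toRingHom.comp (algebraMap (MvPolynomial (Fin n) A) A) =
      φB.toRingHom.comp g := by
    refine MvPolynomial.ringHom_ext (fun r => ?_) (fun i => ?_)
    · show IsLocalRing.residue A (MvPolynomial.aeval a (MvPolynomial.C r)) = φB (g (MvPolynomial.C r))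
      rw [MvPolynomial.aeval_C, ← RingHom.comp_apply g, hgC, AlgHom.commutes]
      rfl
    · show IsLocalRing.residue A (MvPolynomial.aeval a (MvPolynomial.X i)) = φB (g (MvPolynomial.X i))
      rw [MvPolynomial.aeval_X, ha]
  letI : Algebra (MvPolynomial (Fin n) A) (IsLocalRing.ResidueField A) := (φB.toRingHom.comp g).toAlgebra
  haveI : IsScalarTower (MvPolynomial (Fin n) A) A (IsLocalRing.ResidueField A) :=
    IsScalarTower.of_algebraMap_eq' key.symm
  let φP : B →ₐ[MvPolynomial (Fin n) A] IsLocalRing.ResidueField A :=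
    { φB.toRingHom with commutes' := fun _ => rfl }
  let φT : T →ₐ[A] IsLocalRing.ResidueField A :=
    Algebra.TensorProduct.lift (Algebra.ofId A _) φP fun _ _ => Commute.all _ _
  obtain ⟨ψT, hψT, -⟩ := EtFound.existsUnique_lift_residue φT
  let χ : S →+* A :=
    ψT.toRingHom.comp ((Algebra.TensorProduct.includeRight : B →ₐ[MvPolynomial (Fin n) A] T).toRingHom.comp
      (algebraMap S B))
  have hχA : ∀ r, χ (algebraMap A S r) = r := fun r => by
    have h1 : ((1 : A) ⊗ₜ[MvPolynomial (Fin n) A] (algebraMap A B r) : T) = algebraMap A T r := by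
      rw [show algebraMap A B r = g (MvPolynomial.C r) from (RingHom.congr_fun hgC r).symm,
        show g (MvPolynomial.C r) = (MvPolynomial.C r : MvPolynomial (Fin n) A) • (1 : B) from
          (Algebra.algebraMap_eq_smul_one _), TensorProduct.tmul_smul, TensorProduct.smul_tmul',
        ← Algebra.algebraMap_eq_smul_one]
      show (MvPolynomial.aeval a (MvPolynomial.C r)) ⊗ₜ[MvPolynomial (Fin n) A] (1 : B) = _
      rw [MvPolynomial.aeval_C]
      rfl
    show ψT ((1 : A) ⊗ₜ[MvPolynomial (Fin n) A] algebraMap S B (algebraMap A S r)) = r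
    rw [← IsScalarTower.algebraMap_apply A S B, h1, AlgHom.commutes]
    rfl
  have hχ : ∀ s, IsLocalRing.residue A (χ s) = φ s := fun s => by
    show IsLocalRing.residue A (ψT ((1 : A) ⊗ₜ[MvPolynomial (Fin n) A] algebraMap S B s)) = φ s
    rw [hψT, Algebra.TensorProduct.lift_tmul, map_one, one_mul]
    show φ (ρ (algebraMap S B s)) = φ s
    rw [AlgHom.commutes]
    rfl
  refine ⟨Spec.map (CommRingCat.ofHom χ) ≫ j, ?_, ?_⟩
  · rw [Category.assoc, ← hφA, ← Spec.map_comp, show φA ≫ CommRingCat.ofHom χ = 𝟙 _ from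
      CommRingCat.hom_ext (RingHom.ext hχA), Spec.map_id]
  · rw [← Category.assoc, ← Spec.map_comp, show CommRingCat.ofHom χ ≫ CommRingCat.ofHom (IsLocalRing.residue A) = φu
      from CommRingCat.hom_ext (RingHom.ext hχ), hφu, hu']

end Groth.Agent.S5038
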