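import Groth.Statements.S5071
import Groth.Agent.QRegBC.Basic
import Groth.Agent.E4Basics.PdFlat
import Groth.Agent.QCoh.FlatOver
import Groth.Agent.LinType.QReg

set_option autoImplicit false
set_option linter.style.haveILetI false
universe u
open CInt

namespace Groth.Agent.S5071

/-- Let B be an A-algebra and J an ideal of B generated by a sequence which is transversally regular
relative to A. Then for n < m the module J^n/J^m is flat over A, and for every prime q of B
containing J the localisation (J^n)_q is flat over A (modules regarded as A-modules by restriction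
of scalars). -/
theorem result (A B : Type u) [CommRing A] [CommRing B] [Algebra A B]
    (rs : List B) (hrs : RegImm.IsTransRegularSeq A B rs) (n m : ℕ) (hnm : n < m) :
    Module.Flat A (RestrictScalars A B
      (↥(Ideal.ofList rs ^ n) ⧸ (Submodule.comap (Ideal.ofList rs ^ n).subtype (Ideal.ofList rs ^ m)))) ∧
      ∀ (q : Ideal B) [q.IsPrime], Ideal.ofList rs ≤ q →
        Module.Flat A (RestrictScalars A B (LocalizedModule q.primeCompl ↥(Ideal.ofList rs ^ n))) := by
  obtain ⟨hreg, hfl⟩ := hrs
  let J := Ideal.ofList rs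
  let f : Fin rs.length → B := fun i => rs.get i
  have hf : RingTheory.Sequence.IsWeaklyRegular B (List.ofFn f) := by rw [List.ofFn_get]; exact hreg
  have hq : CAlgX.IsQuasiRegular f := fun n P hP h d => Groth.Agent.LinType.quasiRegular f hf hP h d
  have hJ : Ideal.span (Set.range f) = J := by
    refine congrArg Ideal.span ?_
    ext x
    exact ⟨fun ⟨i, hi⟩ => hi ▸ List.get_mem _ _, fun hx => List.mem_iff_get.1 hx⟩
  haveI hJf : Module.Flat A (B ⧸ Ideal.span (Set.range f)) := by
    rw [hJ]
    have h := hfl rs.length le_rfl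
    rwa [List.take_length] at h
  have hpow : ∀ k, Module.Flat A (B ⧸ J ^ k) := fun k => hJ ▸ Groth.Agent.QRegBC.flat_pow (A := A) f hq k
  haveI hB : Module.Flat A B := by
    have h := hfl 0 (Nat.zero_le _)
    rw [List.take_zero, Ideal.ofList_nil] at h
    exact Module.Flat.of_linearEquiv ((Submodule.quotEquivOfEqBot (⊥ : Ideal B) rfl).restrictScalars A).symm
  refine ⟨?_, fun q _ _ => ?_⟩
  · have hle : J ^ m ≤ J ^ n := Ideal.pow_le_pow_right hnm.le
    let π : (B ⧸ J ^ m) →ₗ[A] B ⧸ J ^ n := (Submodule.factor hle).restrictScalars A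
    haveI := hpow m
    haveI := hpow n
    haveI hk : Module.Flat A (LinearMap.ker π) :=
      Groth.Agent.E4Basics.flat_ker_of_flat π (Submodule.factor_surjective hle)
    let ι : (↥(J ^ n) ⧸ Submodule.comap (J ^ n).subtype (J ^ m)) →ₗ[B] B ⧸ J ^ m :=
      Submodule.mapQ _ _ (J ^ n).subtype le_rfl
    have hι : Function.Injective ι := by
      refine (injective_iff_map_eq_zero ι).2 fun z hz => ?_
      obtain ⟨z, rfl⟩ := Submodule.Quotient.mk_surjective _ z
      exact (Submodule.Quotient.mk_eq_zero _).2 ((Submodule.Quotient.mk_eq_zero (J ^ m)).1 hz)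
    have hmem : ∀ z, ι z ∈ LinearMap.ker π := fun z => by
      obtain ⟨z, rfl⟩ := Submodule.Quotient.mk_surjective _ z
      exact (Submodule.Quotient.mk_eq_zero (J ^ n)).2 z.2
    let e : RestrictScalars A B (↥(J ^ n) ⧸ Submodule.comap (J ^ n).subtype (J ^ m)) →ₗ[A] LinearMap.ker π :=
      { toFun := fun z => ⟨ι (RestrictScalars.addEquiv A B _ z), hmem _⟩
        map_add' := fun z w => Subtype.ext (map_add ι _ _)
        map_smul' := fun c z => Subtype.ext (by
          show ι (algebraMap A B c • RestrictScalars.addEquiv A B _ z) = c • ι (RestrictScalars.addEquiv A B _ z)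
          rw [map_smul, algebraMap_smul]) }
    refine Module.Flat.of_linearEquiv (LinearEquiv.ofBijective e ⟨fun z w h => hι (congrArg Subtype.val h), ?_⟩)
    rintro ⟨w, hw⟩
    obtain ⟨b, rfl⟩ := Submodule.Quotient.mk_surjective _ w
    exact ⟨(RestrictScalars.addEquiv A B _).symm
      (Submodule.Quotient.mk ⟨b, (Submodule.Quotient.mk_eq_zero (J ^ n)).1 hw⟩), Subtype.ext rfl⟩
  · haveI := hpow n
    let π : B →ₗ[A] B ⧸ J ^ n := (Ideal.Quotient.mkₐ A (J ^ n)).toLinearMap
    haveI hk : Module.Flat A (LinearMap.ker π) :=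
      Groth.Agent.E4Basics.flat_ker_of_flat π Ideal.Quotient.mk_surjective
    let e : ↥(J ^ n) ≃ₗ[A] LinearMap.ker π :=
      { toFun := fun z => ⟨z, Ideal.Quotient.eq_zero_iff_mem.2 z.2⟩
        invFun := fun z => ⟨z, Ideal.Quotient.eq_zero_iff_mem.1 z.2⟩
        map_add' := fun _ _ => rfl
        map_smul' := fun _ _ => rfl }
    haveI hJn : Module.Flat A ↥(J ^ n) := Module.Flat.of_linearEquiv e
    haveI hl : Module.Flat A (LocalizedModule q.primeCompl ↥(J ^ n)) :=
      Groth.Agent.QCoh.flat_base_of_isLocalizedModule q.primeCompl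
        (LocalizedModule.mkLinearMap q.primeCompl ↥(J ^ n))
    let e' : RestrictScalars A B (LocalizedModule q.primeCompl ↥(J ^ n)) ≃ₗ[A]
        LocalizedModule q.primeCompl ↥(J ^ n) :=
      { (RestrictScalars.addEquiv A B (LocalizedModule q.primeCompl ↥(J ^ n))) with
        map_smul' := fun c z => by
          show algebraMap A B c • RestrictScalars.addEquiv A B _ z = c • RestrictScalars.addEquiv A B _ z
          rw [algebraMap_smul] }
    exact Module.Flat.of_linearEquiv e'

end Groth.Agent.S5071
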