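import Groth.Statements.S5082
import Groth.Agent.MeroDepth.Basic
-- import your own Groth.Agent.* helpers here

set_option autoImplicit false
universe u
open CategoryTheory CategoryTheory.Limits AlgebraicGeometry TopologicalSpace
open Mero

namespace Groth.Agent.S5082

/-- Let A be a Noetherian local ring. Then the group of divisors of Spec A is trivial (every divisor
equals the unit divisor, divisors being written multiplicatively) if and only if A has depth 0, that
is, if and only if every element of the maximal ideal of A is a zero-divisor. -/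
theorem result (A : Type u) [CommRing A] [IsNoetherianRing A] [IsLocalRing A] :
    (∀ D : Mero.Divisor (Spec (CommRingCat.of A)), D = 1) ↔ LocCoh.depth A A = 0 := by
  let X := Spec (CommRingCat.of A)
  have htop : IsAffineOpen (⊤ : X.Opens) := isAffineOpen_top _
  let e : A ≃+* Γ(X, ⊤) := (Scheme.ΓSpecIso (CommRingCat.of A)).symm.commRingCatIsoToRingEquiv
  let x₀ : X := IsLocalRing.closedPoint A
  have hU : ∀ U : X.Opens, x₀ ∈ U → U = ⊤ := fun U h =>
    top_unique fun y _ => (IsLocalRing.specializes_closedPoint y).mem_open U.isOpen h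
  have hdepth : LocCoh.depth A A = 0 ↔
      ∀ a : A, a ∈ nonZeroDivisors A → IsUnit a := by
    rw [← not_iff_not, ← ne_eq, ← Order.one_le_iff_pos.trans pos_iff_ne_zero]
    rw [Alg6.one_le_depth_iff]
    constructor
    · intro h hu
      obtain ⟨x, hx, hreg⟩ := (Alg6.exists_isSMulRegular_mem_iff (M := A) (IsLocalRing.maximalIdeal A)).mpr
        (fun p hp hle => h (by
          rwa [(IsLocalRing.maximalIdeal.isMaximal A).eq_of_le (IsAssociatedPrime.isPrime hp).ne_top hle]))
      refine (IsLocalRing.mem_maximalIdeal x).mp hx (hu x ?_)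
      exact mem_nonZeroDivisors_iff_right.mpr fun y hy => hreg (by simpa [mul_comm] using hy)
    · intro hu hass
      refine hu fun a ha => ?_
      by_contra hau
      exact Alg6.isSMulRegular_iff_forall_ass.mp
        (fun u v h => (mul_cancel_left_mem_nonZeroDivisors ha).mp h) _ hass
        ((IsLocalRing.mem_maximalIdeal a).mpr hau)
  rw [hdepth]
  constructor
  · intro hD a ha
    have hreg : e a ∈ Mero.regSub X ⊤ := by
      rw [MeroX.regSub_eq_nonZeroDivisors htop]
      exact mem_nonZeroDivisors_iff_right.mpr fun y hy => by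
        obtain ⟨z, rfl⟩ := e.surjective y
        rw [← map_mul, map_eq_zero_iff e e.injective] at hy
        rw [mem_nonZeroDivisors_iff_right.mp ha z hy, map_zero]
    let inv : Γ(Mero.kmod X, ⊤) :=
      ⟨fun x => LocalizedModule.mk (X.presheaf.germ ⊤ x.1 x.2 1) (Mero.regGerm x ⟨e a, hreg⟩),
        fun x => ⟨⊤, x.2, 𝟙 _, 1, ⟨e a, hreg⟩, fun y => rfl⟩⟩
    have hmul : Mero.toK X ⊤ (e a) * inv = 1 := Subtype.ext (funext fun x => by
      change (LocalizedModule.mk (X.presheaf.germ ⊤ x.1 x.2 (e a)) 1 : Mero.KStalk X x.1) *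
        LocalizedModule.mk (X.presheaf.germ ⊤ x.1 x.2 1) (Mero.regGerm x ⟨e a, hreg⟩) = 1
      refine LocalizedModule.mk_mul_mk.trans ?_
      refine Eq.trans (Mero.mk_congr ?_ ?_) (Mero.mk_self_eq_one (Mero.regGerm x ⟨e a, hreg⟩))
      · rw [map_one, mul_one]
      · rw [one_mul])
    let f : (Γ(Mero.kmod X, ⊤))ˣ := ⟨Mero.toK X ⊤ (e a), inv, hmul, by rw [mul_comm, hmul]⟩
    have h1 : (QuotientGroup.mk (Units.map (Mero.evalK X ⊤ ⟨x₀, trivial⟩).toMonoidHom f) :
        Mero.Germ X x₀) = 1 :=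
      congrArg (fun D : Mero.Divisor X => D.1 x₀) (hD (Mero.div f))
    rw [QuotientGroup.eq_one_iff] at h1
    obtain ⟨v, hv⟩ := h1
    have h2 : X.presheaf.germ ⊤ x₀ trivial (e a) = v :=
      Mero.algebraMap_KStalk_injective x₀ (congrArg Units.val hv).symm
    have hall : IsUnit (e a) := by
      apply X.toRingedSpace.isUnit_of_isUnit_germ
      intro y _
      have hy : y ∈ X.basicOpen (e a) := by
        rw [hU (X.basicOpen (e a)) ((Scheme.mem_basicOpen X (e a) x₀ trivial).mpr (h2 ▸ v.isUnit))]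
        trivial
      exact (Scheme.mem_basicOpen X (e a) y trivial).mp hy
    have := hall.map e.symm
    rwa [e.symm_apply_apply] at this
  · intro hu D
    have hu' : ∀ b : Γ(X, ⊤), b ∈ Mero.regSub X ⊤ → IsUnit b := by
      intro b hb
      rw [MeroX.regSub_eq_nonZeroDivisors htop] at hb
      obtain ⟨a, rfl⟩ := e.surjective b
      refine (hu a (mem_nonZeroDivisors_iff_right.mpr fun z hz => e.injective ?_)).map e
      rw [map_zero]
      exact mem_nonZeroDivisors_iff_right.mp hb _ (by rw [← map_mul, hz, map_zero])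
    have hk : ∀ f : Γ(Mero.kmod X, ⊤), ∃ c : Γ(X, ⊤), Mero.toK X ⊤ c = f := by
      intro f
      obtain ⟨W, hxW, i, a, b, w⟩ := f.2 ⟨x₀, trivial⟩
      obtain rfl := hU W hxW
      obtain ⟨v, hv⟩ := hu' b.1 b.2
      refine ⟨a * ↑v⁻¹, Subtype.ext (funext fun y => ?_)⟩
      refine Eq.trans ?_ (w y).symm
      change (LocalizedModule.mk (X.presheaf.germ ⊤ y.1 y.2 (a * ↑v⁻¹)) 1 : Mero.KStalk X y.1) = _
      refine LocalizedModule.mk_eq.2 ⟨1, ?_⟩
      simp only [Submonoid.smul_def, OneMemClass.coe_one, one_smul, smul_eq_mul]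
      rw [← map_mul, ← hv, ← mul_assoc, mul_comm (↑v : Γ(X, ⊤)) a, mul_assoc, Units.mul_inv,
        mul_one]
    obtain ⟨U, hxU, f, hf⟩ := D.2 x₀
    obtain rfl := hU U hxU
    obtain ⟨c, hc⟩ := hk f.1
    obtain ⟨d, hd⟩ := hk (↑f⁻¹)
    refine Subtype.ext (funext fun y => ?_)
    rw [hf ⟨y, trivial⟩]
    refine (MeroDepth.mk_eq_one_iff y _).mpr
      ⟨⟨X.presheaf.germ ⊤ y trivial c, ?_⟩, ⟨X.presheaf.germ ⊤ y trivial d, ?_⟩⟩
    · exact congrArg (Mero.evalK X ⊤ ⟨y, trivial⟩) hc
    · exact congrArg (Mero.evalK X ⊤ ⟨y, trivial⟩) hd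

end Groth.Agent.S5082
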