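import Groth.Statements.S5084
import Groth.Agent.Div86.MeroGen
import Groth.Agent.Alg6.AssDepth

-- import your own Groth.Agent.* helpers here

set_option autoImplicit false
set_option backward.isDefEq.respectTransparency false
set_option backward.isDefEq.respectTransparency.types false
universe u
open CategoryTheory CategoryTheory.Limits AlgebraicGeometry TopologicalSpace
open Mero

namespace Groth.Agent.S5084

/-- Let X be a locally Noetherian scheme and F a quasi-coherent O_X-module. Then F is torsion-free — the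
canonical map from F to its sheaf of meromorphic sections K_X(F), m ↦ m/1, is a monomorphism, i.e.
at every point no germ of a regular function kills a nonzero element of the stalk of F — if and only
if every associated point of F is an associated point of the structure sheaf (a point x such that
the maximal ideal of O_{X,x} is an associated prime of O_{X,x}). -/
theorem result (X : Scheme.{u}) [IsLocallyNoetherian X]
    (F : X.Modules) (hF : Coh.IsQCoh F) :
    Mono (Mero.toMer F) ↔
      ∀ x : ↥X, Curv2.IsAssPoint F x →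
        IsAssociatedPrime (IsLocalRing.maximalIdeal ↑(X.presheaf.stalk x)) ↑(X.presheaf.stalk x) := by
  constructor
  · intro hmono x hx
    rw [Div86.isAssociatedPrime_iff_wAss]
    by_contra hw
    obtain ⟨-, n, hn⟩ := hx
    rw [AssPtX.colon_bot_singleton] at hn
    have hg : ∃ g ∈ IsLocalRing.maximalIdeal (X.presheaf.stalk x),
        g ∈ nonZeroDivisors (X.presheaf.stalk x) := by
      by_contra hc
      push Not at hc
      refine hw ((Div86.isAssociatedPrime_iff_wAss x).1 ?_)
      by_contra hass
      obtain ⟨g, hg, hreg⟩ := (Alg6.exists_isSMulRegular_mem_iff (M := X.presheaf.stalk x)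
        (IsLocalRing.maximalIdeal (X.presheaf.stalk x))).mpr (fun p hp hle => hass (by
          rwa [(IsLocalRing.maximalIdeal.isMaximal _).eq_of_le (IsAssociatedPrime.isPrime hp).ne_top hle]))
      exact hc g hg (mem_nonZeroDivisors_iff_right.mpr fun y hy => hreg (by simpa [mul_comm] using hy))
    obtain ⟨g, hgm, hgn⟩ := hg
    rw [hn] at hgm
    obtain ⟨k, hk⟩ := hgm
    have hgk : g ^ k ∈ Mero.regStalk X x :=
      (AssPtX.regStalk_eq x).symm ▸ pow_mem hgn k
    obtain ⟨W', hxW', b, hb, hbg⟩ := hgk
    obtain ⟨W, hxW, m, rfl⟩ := TopCat.Presheaf.exists_germ_eq F.presheaf (x := x) n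
    let W₁ : X.Opens := W ⊓ W'
    have hxW₁ : x ∈ W₁ := ⟨hxW, hxW'⟩
    let m₁ : Γ(F, W₁) := AModX.res F inf_le_left m
    let b₁ : Γ(X, W₁) := X.presheaf.map (homOfLE inf_le_right).op b
    have h0 : F.presheaf.germ W₁ x hxW₁ (b₁ • m₁) = 0 := by
      rw [QCoh.germ_smul' F hxW₁ b₁ m₁, X.presheaf.germ_res_apply, hbg, InvX.germ_res']
      exact WeakAss.mem_annEl.1 hk
    obtain ⟨W₂, hxW₂, i, j, hij⟩ := TopCat.Presheaf.germ_eq (C := AddCommGrpCat.{u}) F.presheaf x
      hxW₁ hxW₁ (b₁ • m₁) 0 (h0.trans (map_zero _).symm)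
    let m₂ : Γ(F, W₂) := AModX.res F i.le m₁
    have hm₂ : (Mero.toMer F).app W₂ m₂ = 0 := Subtype.ext (funext fun y => by
      change (LocalizedModule.mk (F.presheaf.germ W₂ y.1 y.2 m₂) 1 : Mero.MStalk F y.1) = 0
      rw [← LocalizedModule.zero_mk (1 : Mero.regStalk X y.1), LocalizedModule.mk_eq]
      refine ⟨Mero.regGerm ⟨y.1, i.le y.2⟩ ⟨b₁, Mero.regSub_res _ hb⟩, ?_⟩
      rw [smul_zero, smul_zero, one_smul, Submonoid.smul_def]
      have h2 := congrArg (F.presheaf.germ W₂ y.1 y.2) hij
      rw [map_zero, map_zero, TopCat.Presheaf.germ_res_apply, QCoh.germ_smul' F (i.le y.2) b₁ m₁] at h2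
      rw [InvX.germ_res']
      exact h2)
    have hzero : m₂ = 0 := QCoh.app_injective (Mero.toMer F) W₂ (hm₂.trans (map_zero _).symm)
    refine (IsLocalRing.maximalIdeal.isMaximal (X.presheaf.stalk x)).ne_top (hn.trans ?_)
    have hn0 : F.presheaf.germ W x hxW m = 0 := by
      rw [← InvX.germ_res' (inf_le_left : W₁ ≤ W) hxW₁ m, ← InvX.germ_res' i.le hxW₂ m₁]
      exact (congrArg _ hzero).trans (map_zero _)
    rw [hn0]
    exact Ideal.eq_top_iff_one _ |>.2 ⟨1, WeakAss.mem_annEl.2 (smul_zero _)⟩
  · intro h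
    refine QCoh.mono_of_app_injective _ fun U => ?_
    refine (injective_iff_map_eq_zero ((Mero.toMer F).app U).hom).2 fun m hm => ?_
    refine AssPtX.eq_zero_of_germ hF m fun y hy hya => ?_
    have hw := (Div86.isAssociatedPrime_iff_wAss y).1 (h y (AssPtX.isAssPoint_iff.2 hya))
    have h1 : (LocalizedModule.mk (F.presheaf.germ U y hy m) 1 : Mero.MStalk F y) = 0 :=
      congrArg (fun t : Γ(Mero.merMod F, U) => t.1 ⟨y, hy⟩) hm
    rw [← LocalizedModule.zero_mk (1 : Mero.regStalk X y), LocalizedModule.mk_eq] at h1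
    obtain ⟨v, hv⟩ := h1
    rw [smul_zero, smul_zero, one_smul, Submonoid.smul_def] at hv
    exact (Div86.isUnit_germ_of_nzd hw
      (Mero.regStalk_le_nonZeroDivisors (X := X) y v.property)).smul_eq_zero.1 hv

end Groth.Agent.S5084
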