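import Groth.Statements.S5100
import Groth.Agent.Div86.Descend.NoEmbedded

set_option autoImplicit false
set_option linter.style.haveILetI false
set_option backward.isDefEq.respectTransparency false
set_option backward.isDefEq.respectTransparency.types false
universe u
open CategoryTheory CategoryTheory.Limits AlgebraicGeometry TopologicalSpace
open Div21

namespace Groth.Agent.S5100

theorem ideal_top_eq_iff {X : Scheme.{u}} (J : X.IdealSheafData) (x : X) (v : X.presheaf.stalk x) :
    (J.comap (X.fromSpecStalk x)).ideal ⟨⊤, isAffineOpen_top _⟩ =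
        Ideal.span {(Scheme.ΓSpecIso (X.presheaf.stalk x)).inv v} ↔
      Div86.Descend.stI J x = Ideal.span {v} := by
  rw [← Div86.Descend.topI_fromSpecStalk, Div86.Descend.topI]
  have hb := ConcreteCategory.bijective_of_isIso (Scheme.ΓSpecIso (X.presheaf.stalk x)).hom
  have e : (Ideal.span {(Scheme.ΓSpecIso (X.presheaf.stalk x)).inv v}).map
      (Scheme.ΓSpecIso (X.presheaf.stalk x)).hom.hom = Ideal.span {v} := by
    rw [Ideal.map_span, Set.image_singleton]
    congr 2
    show ((Scheme.ΓSpecIso (X.presheaf.stalk x)).inv ≫ (Scheme.ΓSpecIso (X.presheaf.stalk x)).hom) v = v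
    rw [Iso.inv_hom_id]; rfl
  rw [← e]
  exact ⟨fun h => by rw [h], fun h => by
    have := congrArg (Ideal.comap (Scheme.ΓSpecIso (X.presheaf.stalk x)).hom.hom) h
    rwa [Ideal.comap_map_of_bijective _ hb, Ideal.comap_map_of_bijective _ hb] at this⟩

theorem isDVR {Y : Scheme.{u}} [IsLocallyNoetherian Y] {y : Y} [IsDomain (Y.presheaf.stalk y)]
    [IsIntegrallyClosed (Y.presheaf.stalk y)] (h : ringKrullDim (Y.presheaf.stalk y) = 1) :
    IsDiscreteValuationRing (Y.presheaf.stalk y) := by
  have hf : ¬ IsField (Y.presheaf.stalk y) := fun hf => by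
    rw [ringKrullDim_eq_zero_of_isField hf] at h; exact zero_ne_one h
  haveI : Ring.KrullDimLE 1 (Y.presheaf.stalk y) := (Order.krullDimLE_iff 1 _).2 h.le
  haveI : Ring.DimensionLEOne (Y.presheaf.stalk y) :=
    ⟨fun hne hp => Ring.krullDimLE_one_iff_of_noZeroDivisors.1 inferInstance _ hne hp⟩
  haveI : IsDedekindDomain (Y.presheaf.stalk y) := { }
  exact ((IsDiscreteValuationRing.TFAE (Y.presheaf.stalk y) hf).out 0 2).2 ‹IsDedekindDomain _›

/-- Suppose X and Y are locally Noetherian schemes, and consider a morphism f : X → Y that is flat and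
surjective (i.e. faithfully flat) and is either quasi-compact or open. Assume Y is normal, and that
whenever y ∈ Y has a local ring of dimension 1, the fibre X_y has no embedded associated point (if
one associated point of X_y specializes to another, the two coincide). Given an effective Cartier
divisor D' on X, described by its ideal sheaf 𝓙, D' arises as the inverse image of some effective
Cartier divisor on Y exactly when both of the following hold: (1) at each maximal point η of Y,
pulling D' back to the fibre X_η gives zero (the resulting ideal is the unit ideal); and (2) at each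
y ∈ Y with one-dimensional local ring (a discrete valuation ring, because Y is normal) one can find
an integer n ≥ 0 so that, for any uniformizer t of O_{Y,y} and any maximal point x of f⁻¹(y), the
ideal of D' in O_{X,x} (namely the inverse image of 𝓙 on Spec O_{X,x}) is generated by the image of
t raised to the n-th power. -/
theorem result {X Y : Scheme.{u}}
    [IsLocallyNoetherian X] [IsLocallyNoetherian Y] (f : X ⟶ Y) [Flat f] [Surjective f]
    (hf : QuasiCompact f ∨ IsOpenMap f) (hY : Pi1.IsNormalScheme Y)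
    (hfib : ∀ y : ↥Y, ringKrullDim ↑(Y.presheaf.stalk y) = 1 → ∀ z z' : ↥(f.fiber y),
      IsAssociatedPrime (IsLocalRing.maximalIdeal ↑((f.fiber y).presheaf.stalk z)) ↑((f.fiber y).presheaf.stalk z) →
      IsAssociatedPrime (IsLocalRing.maximalIdeal ↑((f.fiber y).presheaf.stalk z')) ↑((f.fiber y).presheaf.stalk z') →
      z' ⤳ z → z' = z)
    (𝓙 : X.IdealSheafData) (hJ : BlowUp.IsEffCartierIdeal 𝓙) :
    (∃ 𝓘 : Y.IdealSheafData, BlowUp.IsEffCartierIdeal 𝓘 ∧ 𝓘.comap f = 𝓙) ↔
      ((∀ η : ↥Y, (∀ z : ↥Y, z ⤳ η → z = η) → 𝓙.comap (f.fiberι η) = ⊤) ∧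
        ∀ y : ↥Y, ringKrullDim ↑(Y.presheaf.stalk y) = 1 → ∃ n : ℕ, ∀ t : ↑(Y.presheaf.stalk y),
          IsLocalRing.maximalIdeal ↑(Y.presheaf.stalk y) = Ideal.span {t} →
          ∀ (x : ↥X) (hx : f x = y), (∀ z : ↥X, f z = y → z ⤳ x → z = x) →
            (𝓙.comap (X.fromSpecStalk x)).ideal ⟨⊤, isAffineOpen_top _⟩ =
              Ideal.span {(Scheme.ΓSpecIso (X.presheaf.stalk x)).inv
                (((f.stalkMap x).hom ((Y.presheaf.stalkCongr (.of_eq hx.symm)).hom t)) ^ n)}) := by
  haveI := fun y => (hY y).1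
  haveI := fun y => (hY y).2
  constructor
  · rintro ⟨I, hI, h⟩
    refine ⟨fun η hη => Div86.Descend.fibre_eq_top_of_comap f hI h hη, fun y hy => ?_⟩
    haveI := isDVR hy
    obtain ⟨g, hg, hJg⟩ := Div86.Descend.loc_of_comap f hI h y
    obtain ⟨π, hπ⟩ := IsDiscreteValuationRing.exists_irreducible (Y.presheaf.stalk y)
    obtain ⟨n, v, hv⟩ := IsDiscreteValuationRing.eq_unit_mul_pow_irreducible (nonZeroDivisors.ne_zero hg) hπ
    refine ⟨n, fun t ht x hx _ => (ideal_top_eq_iff _ _ _).2 ?_⟩
    obtain ⟨w, hw⟩ := Ideal.span_singleton_eq_span_singleton.1 (hπ.maximalIdeal_eq.symm.trans ht)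
    have e : Ideal.span {g} = Ideal.span {t ^ n} :=
      Ideal.span_singleton_eq_span_singleton.2 ⟨v⁻¹ * w ^ n, by
        rw [hv, ← hw, Units.val_mul, Units.val_pow_eq_pow_val, mul_pow]
        linear_combination (π ^ n * (w : Y.presheaf.stalk y) ^ n) * v.mul_inv⟩
    have h2 := congrArg (Ideal.map (Div86.Descend.pb f (specializes_of_eq hx)).hom) e
    rw [Ideal.map_span, Set.image_singleton, Ideal.map_span, Set.image_singleton, ← hJg x (specializes_of_eq hx),
      map_pow] at h2
    exact h2
  · rintro ⟨h1, h2⟩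
    refine Div86.Descend.exists_descend_divisor f hJ (fun y hy => ?_) hf
    have htriv : ∀ x : X, Div86.Descend.IsMaxPt (f x) → Div86.Descend.stI 𝓙 x = ⊤ := fun x hx =>
      Div86.Descend.stI_eq_top_of_fibre f (h1 _ hx) rfl
    by_cases hF : IsField (Y.presheaf.stalk y)
    · refine ⟨1, one_mem _, fun x hx => ?_⟩
      have hm := Div86.Descend.isMaxPt_of_isField hF
      rw [map_one, Ideal.span_singleton_one, htriv x ((hm _ hx).symm ▸ hm)]
    · have hdim : ringKrullDim (Y.presheaf.stalk y) = 1 := by
        refine le_antisymm ?_ ?_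
        · have h : min ((2 : ℕ) : WithBot ℕ∞) (ringKrullDim (Y.presheaf.stalk y)) ≤ (1 : WithBot ℕ∞) :=
            (AlgSpLib.CartierDepth.one_two_le_depth_of_normal (Y.presheaf.stalk y)).trans (WithBot.coe_le_coe.2 hy)
          exact (min_le_iff.1 h).resolve_left (by norm_num)
        · by_contra hlt
          haveI : Ring.KrullDimLE 0 (Y.presheaf.stalk y) := (Order.krullDimLE_iff 0 _).2 (by
            have h0 := not_le.1 hlt
            obtain ⟨m, hm⟩ := WithBot.ne_bot_iff_exists.1
              (ne_bot_of_le_ne_bot WithBot.coe_ne_bot (ringKrullDim_nonneg_of_nontrivial (R := Y.presheaf.stalk y)))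
            show ringKrullDim (Y.presheaf.stalk y) ≤ 0
            rw [← hm] at h0 ⊢
            exact_mod_cast ENat.lt_one_iff_eq_zero.1 (WithBot.coe_lt_coe.1 h0) |>.le)
          exact hF (Ring.KrullDimLE.isField_of_isDomain)
      haveI := isDVR hdim
      obtain ⟨π, hπ⟩ := IsDiscreteValuationRing.exists_irreducible (Y.presheaf.stalk y)
      obtain ⟨n, hn⟩ := h2 y hdim
      exact Div86.Descend.loc_of_maximal f hJ htriv (hfib y hdim) hπ n
        fun x hx hxmax => (ideal_top_eq_iff _ _ _).1 (hn π hπ.maximalIdeal_eq x hx hxmax)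

end Groth.Agent.S5100
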