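import Groth.Agent.EtEff48.Fpqc
import Groth.Statements.S5122
-- import your own Groth.Agent.* helpers here

set_option autoImplicit false
set_option backward.isDefEq.respectTransparency false
set_option backward.isDefEq.respectTransparency.types false
universe u
open SGA1

namespace Groth.Agent.S5122

open AlgebraicGeometry CategoryTheory CategoryTheory.Limits in
/-- Let g : S' ⟶ S be universally submersive, D a descent datum relative to g (functor-of-points form,
for the one-member family g) whose underlying S'-scheme is etale, separated and of finite type over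
S', and p : S₁ ⟶ S faithfully flat and quasi-compact. Then D is effective in the fibred category of
etale separated finite-type schemes (isomorphic to the canonical datum of some etale, separated,
quasi-compact S-scheme) if and only if the descent datum obtained by base change along p, relative
to S' ×_S S₁ ⟶ S₁, is effective in the same sense over S₁. -/
theorem result {S S' S₁ : Scheme.{u}} (g : S' ⟶ S) (hg : SGA1.UnivSubmersive g)
    (D : Desc.SchDDFam (fun _ : PUnit.{1} => g))
    [Etale (D.obj PUnit.unit).hom] [IsSeparated (D.obj PUnit.unit).hom] [QuasiCompact (D.obj PUnit.unit).hom]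
    (p : S₁ ⟶ S) [Flat p] [Surjective p] [QuasiCompact p] :
    (∃ U : Over S, Etale U.hom ∧ IsSeparated U.hom ∧ QuasiCompact U.hom ∧ Nonempty ((Desc.toDDFam (fun _ : PUnit.{1} => g)).obj U ≅ D)) ↔
      (∃ U : Over S₁, Etale U.hom ∧ IsSeparated U.hom ∧ QuasiCompact U.hom ∧
        Nonempty ((Desc.toDDFam (fun _ : PUnit.{1} => pullback.snd g p)).obj U ≅
          (Desc.pullDDFam (f := fun _ : PUnit.{1} => g) (f' := fun _ : PUnit.{1} => pullback.snd g p)
        (α := id) (p := p) (p' := fun _ => pullback.fst g p) (fun _ => pullback.condition)).obj D)) := by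
  let D₀ := (Desc.SchDDFam.toSchDD.{0} g).obj D
  have : Etale D₀.obj.hom := ‹Etale (D.obj PUnit.unit).hom›
  have : IsSeparated D₀.obj.hom := ‹IsSeparated (D.obj PUnit.unit).hom›
  have H := IsPullback.of_hasPullback g p
  have hD : (Desc.SchDDFam.toSchDD.{0} (pullback.snd g p)).obj
      ((Desc.pullDDFam (f := fun _ : PUnit.{1} => g) (f' := fun _ : PUnit.{1} => pullback.snd g p)
        (α := id) (p := p) (p' := fun _ => pullback.fst g p) (fun _ => pullback.condition)).obj D) =
      EtEff48.pullDD H.w D₀ := rfl
  constructor
  · rintro ⟨U, _, _, _, e⟩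
    obtain ⟨e⟩ := (EtEff48.nonempty_famIso_iff U D).1 e
    refine ⟨Over.mk (pullback.snd U.hom p), inferInstanceAs (Etale (pullback.snd U.hom p)),
      inferInstanceAs (IsSeparated (pullback.snd U.hom p)),
      inferInstanceAs (QuasiCompact (pullback.snd U.hom p)), ?_⟩
    rw [EtEff48.nonempty_famIso_iff, hD]
    exact EtEff48.nonempty_iso_pull H.w e
  · rintro ⟨U₁, _, _, _, e⟩
    rw [EtEff48.nonempty_famIso_iff, hD] at e
    obtain ⟨e⟩ := e
    obtain ⟨U, h₁, h₂, h₃, h₄⟩ := EtEff48.exists_iso_of_pullback_fpqc hg p H U₁ e
    exact ⟨U, h₁, h₂, h₃, (EtEff48.nonempty_famIso_iff U D).2 h₄⟩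

end Groth.Agent.S5122
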