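import Groth.Agent.EtEff48.Zariski
import Groth.Statements.S5123
-- import your own Groth.Agent.* helpers here

set_option autoImplicit false
set_option backward.isDefEq.respectTransparency false
set_option backward.isDefEq.respectTransparency.types false
universe u
open SGA1

namespace Groth.Agent.S5123

open AlgebraicGeometry CategoryTheory CategoryTheory.Limits in
/-- Let g : S' ⟶ S be universally submersive, D a descent datum relative to g (functor-of-points form,
for the one-member family g) whose underlying S'-scheme is etale over S', and (S_i)_{i ∈ ι} a cover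
of S by open subschemes. Then D is effective in the fibred category of etale schemes (isomorphic to
the canonical datum of some etale S-scheme) if and only if for every i the descent datum obtained by
base change along S_i ⟶ S, relative to S' ×_S S_i ⟶ S_i, is the canonical datum of some etale
S_i-scheme. -/
theorem result {S S' : Scheme.{u}} (g : S' ⟶ S) (hg : SGA1.UnivSubmersive g)
    (D : Desc.SchDDFam (fun _ : PUnit.{1} => g)) [Etale (D.obj PUnit.unit).hom]
    {ι : Type u} (V : ι → S.Opens) (hV : ⨆ i, V i = ⊤) :
    (∃ U : Over S, Etale U.hom ∧ Nonempty ((Desc.toDDFam (fun _ : PUnit.{1} => g)).obj U ≅ D)) ↔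
      ∀ i : ι, (∃ U : Over (V i : Scheme.{u}), Etale U.hom ∧
        Nonempty ((Desc.toDDFam (fun _ : PUnit.{1} => pullback.snd g (V i).ι)).obj U ≅
          (Desc.pullDDFam (f := fun _ : PUnit.{1} => g) (f' := fun _ : PUnit.{1} => pullback.snd g (V i).ι)
        (α := id) (p := (V i).ι) (p' := fun _ => pullback.fst g (V i).ι) (fun _ => pullback.condition)).obj D)) := by
  let D₀ := (Desc.SchDDFam.toSchDD.{0} g).obj D
  have : Etale D₀.obj.hom := ‹Etale (D.obj PUnit.unit).hom›
  have hD : ∀ i, (Desc.SchDDFam.toSchDD.{0} (pullback.snd g (V i).ι)).obj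
      ((Desc.pullDDFam (f := fun _ : PUnit.{1} => g) (f' := fun _ : PUnit.{1} => pullback.snd g (V i).ι)
        (α := id) (p := (V i).ι) (p' := fun _ => pullback.fst g (V i).ι)
        (fun _ => pullback.condition)).obj D) =
      EtEff48.pullDD (IsPullback.of_hasPullback g (V i).ι).w D₀ := fun i => rfl
  constructor
  · rintro ⟨U, _, e⟩ i
    obtain ⟨e⟩ := (EtEff48.nonempty_famIso_iff U D).1 e
    refine ⟨Over.mk (pullback.snd U.hom (V i).ι),
      inferInstanceAs (Etale (pullback.snd U.hom (V i).ι)), ?_⟩
    rw [EtEff48.nonempty_famIso_iff, hD]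
    exact EtEff48.nonempty_iso_pull (IsPullback.of_hasPullback g (V i).ι).w e
  · intro h
    have hV' : ∀ x, ∃ a, x ∈ V a := fun x =>
      TopologicalSpace.Opens.mem_iSup.1 (hV.symm ▸ TopologicalSpace.Opens.mem_top x : x ∈ ⨆ i, V i)
    obtain ⟨U, hU, e⟩ := EtEff48.exists_iso_of_open_cover hg D₀ V hV' fun i => by
      obtain ⟨U, hU, e⟩ := h i
      rw [EtEff48.nonempty_famIso_iff, hD] at e
      exact ⟨U, hU, e⟩
    exact ⟨U, hU, (EtEff48.nonempty_famIso_iff U D).2 e⟩

end Groth.Agent.S5123
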