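import Groth.Statements.S5178
import Groth.Agent.LA96.Dev
import Groth.Agent.AvramovLib.Main

set_option autoImplicit false
universe u
open CInt

namespace Groth.Agent.S5178

/-- Let A be a Noetherian local ring of dimension d, and let the completion of A be presented as B/I
with B a regular local ring of dimension e and I an ideal whose minimal number of generators is q,
so that e − q is the geometric depth of A (this number does not depend on the presentation). Then e
− q ≤ d, and equality holds if and only if A is a complete intersection, i.e. its completion is a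
regular local ring modulo an ideal generated by a regular sequence. -/
theorem result (A : Type u) [CommRing A] [IsLocalRing A] [IsNoetherianRing A] (B : Type u) [CommRing B] [IsRegularLocalRing B] (I : Ideal B) (hpres : Nonempty (AdicCompletion (IsLocalRing.maximalIdeal A) A ≃+* B ⧸ I)) (d e : ℕ) (hd : ringKrullDim A = (d : WithBot ℕ∞)) (he : ringKrullDim B = (e : WithBot ℕ∞)) : (e : ℤ) - (I.spanFinrank : ℤ) ≤ (d : ℤ) ∧ ((e : ℤ) - (I.spanFinrank : ℤ) = (d : ℤ) ↔ Pi1.IsCompleteIntersection A) := by
  obtain ⟨ε⟩ := hpres
  haveI := Groth.Agent.CILib.isAdicComplete_adicCompletion A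
  let π : B →+* AdicCompletion (IsLocalRing.maximalIdeal A) A := ε.symm.toRingHom.comp (Ideal.Quotient.mk I)
  have hπ : Function.Surjective π := ε.symm.surjective.comp Ideal.Quotient.mk_surjective
  have hk : RingHom.ker π = I := (RingHom.ker_comp_of_injective _ ε.symm.injective).trans Ideal.mk_ker
  obtain ⟨h1, h2⟩ := Groth.Agent.LA96.Dev.dev_le π hπ d (by rw [Groth.Agent.CILib.ringKrullDim_adicCompletion, hd])
  rw [Groth.Agent.AvramovLib.isCI_completion_iff] at h2
  rw [Groth.Agent.Synt29.ringKrullDim_eq_nat] at he
  norm_cast at he
  rw [Groth.Agent.LA96.Dev.dev, hk, he] at h1 h2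
  exact ⟨h1, h2⟩

end Groth.Agent.S5178
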