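import Groth.Statements.S5179
import Groth.Agent.LA96.DevFlat
import Groth.Agent.S9231

set_option autoImplicit false
universe u
open CInt

namespace Groth.Agent.S5179

/-- Let A → A' be a flat local homomorphism of Noetherian local rings such that m_A A' is the maximal
ideal of A' and the residue field of A' is a separable extension of the residue field k of A
(separable in the sense that it is formally smooth over k; so A' ⊗_A k is a field separable over k).
Present the completions as Â ≅ B/I and Â' ≅ B'/I' with B, B' regular local rings of dimensions e,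
e'. Then e − μ(I) = e' − μ(I'), μ denoting the minimal number of generators: A and A' have the same
geometric depth. -/
theorem result (A A' : Type u) [CommRing A] [IsLocalRing A] [IsNoetherianRing A] [CommRing A'] [IsLocalRing A'] [IsNoetherianRing A'] [Algebra A A'] [IsLocalHom (algebraMap A A')] [Module.Flat A A'] (hmax : Ideal.map (algebraMap A A') (IsLocalRing.maximalIdeal A) = IsLocalRing.maximalIdeal A') (hsep : Algebra.FormallySmooth (IsLocalRing.ResidueField A) (IsLocalRing.ResidueField A')) (B B' : Type u) [CommRing B] [IsRegularLocalRing B] [CommRing B'] [IsRegularLocalRing B'] (I : Ideal B) (I' : Ideal B') (hpres : Nonempty (AdicCompletion (IsLocalRing.maximalIdeal A) A ≃+* B ⧸ I)) (hpres' : Nonempty (AdicCompletion (IsLocalRing.maximalIdeal A') A' ≃+* B' ⧸ I')) (e e' : ℕ) (he : ringKrullDim B = (e : WithBot ℕ∞)) (he' : ringKrullDim B' = (e' : WithBot ℕ∞)) : (e : ℤ) - (I.spanFinrank : ℤ) = (e' : ℤ) - (I'.spanFinrank : ℤ) := by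
  obtain ⟨ε⟩ := hpres
  obtain ⟨ε'⟩ := hpres'
  let Ah := AdicCompletion (IsLocalRing.maximalIdeal A) A
  let Bh := AdicCompletion (IsLocalRing.maximalIdeal A') A'
  haveI := Groth.Agent.LC.Canon.isNoetherianRing_completion (R := A)
  haveI := Groth.Agent.LC.Canon.isNoetherianRing_completion (R := A')
  haveI := Groth.Agent.CILib.isAdicComplete_adicCompletion A
  haveI := Groth.Agent.CILib.isAdicComplete_adicCompletion A'
  have hmA : IsLocalRing.maximalIdeal Ah = (IsLocalRing.maximalIdeal A).map (algebraMap A Ah) := AdicCompletion.maximalIdeal_eq_map (R := A)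
  have hmB : IsLocalRing.maximalIdeal Bh = (IsLocalRing.maximalIdeal A').map (algebraMap A' Bh) := AdicCompletion.maximalIdeal_eq_map (R := A')
  have hle : (IsLocalRing.maximalIdeal A).map (algebraMap A Bh) ≤ IsLocalRing.maximalIdeal Bh := by
    rw [IsScalarTower.algebraMap_eq A A' Bh, ← Ideal.map_map, hmB, hmax]
  obtain ⟨F, -⟩ := Groth.Agent.Adic7.exists_lift_completion (R := A) (S := A) (B := Bh) (IsLocalRing.maximalIdeal A)
    (IsLocalRing.maximalIdeal Bh) (Algebra.ofId A Bh) hle
  letI : Algebra Ah Bh := F.toRingHom.toAlgebra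
  have hFA : F.toRingHom.comp (algebraMap A Ah) = algebraMap A Bh := F.comp_algebraMap
  have hmap : (IsLocalRing.maximalIdeal Ah).map (algebraMap Ah Bh) = IsLocalRing.maximalIdeal Bh := by
    rw [hmA, Ideal.map_map, hmB, ← congrArg (Ideal.map (algebraMap A' Bh)) hmax, Ideal.map_map, ← IsScalarTower.algebraMap_eq A A' Bh]
    exact congrArg (fun f => Ideal.map f (IsLocalRing.maximalIdeal A)) hFA
  haveI : IsLocalHom (algebraMap Ah Bh) := ((IsLocalRing.local_hom_TFAE _).out 0 2).2 hmap.le
  haveI : Module.Flat Ah Bh := (Groth.Agent.S9231.result A A' F.toRingHom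
    (hFA.trans (IsScalarTower.algebraMap_eq A A' Bh))).2 (RingHom.flat_algebraMap_iff.2 inferInstance)
  let π : B →+* Ah := ε.symm.toRingHom.comp (Ideal.Quotient.mk I)
  let q : B' →+* Bh := ε'.symm.toRingHom.comp (Ideal.Quotient.mk I')
  have hk : RingHom.ker π = I := (RingHom.ker_comp_of_injective _ ε.symm.injective).trans Ideal.mk_ker
  have hk' : RingHom.ker q = I' := (RingHom.ker_comp_of_injective _ ε'.symm.injective).trans Ideal.mk_ker
  have h := Groth.Agent.LA96.Dev.dev_eq_of_flat_complete hmap π (ε.symm.surjective.comp Ideal.Quotient.mk_surjective)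
    q (ε'.symm.surjective.comp Ideal.Quotient.mk_surjective)
  rw [Groth.Agent.Synt29.ringKrullDim_eq_nat] at he he'
  norm_cast at he he'
  rw [Groth.Agent.LA96.Dev.dev, Groth.Agent.LA96.Dev.dev, hk, hk', he, he'] at h
  exact h

end Groth.Agent.S5179
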