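import Groth.Statements.S5181
import Groth.Agent.EtDerLib.DepthClopen
-- import your own Groth.Agent.* helpers here

set_option autoImplicit false
universe u
open CategoryTheory CategoryTheory.Limits AlgebraicGeometry Opposite
open EtDepth

namespace Groth.Agent.S5181

/-- Last assertion, in the cases of depth ≥ 1 and depth ≥ 2. Let X be a scheme and j : U → X an open
immersion with closed complement Y; for X' étale over X write U' = X' ×_X U. Then (a) the Y-étale
depth of X is ≥ 1, i.e. the local cohomology sheaf H^0_Y(Z/ℓ) vanishes for every prime ℓ, if and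
only if for every scheme X' étale over X the restriction functor from finite étale covers of X' to
finite étale covers of U' is faithful; and (b) the Y-étale depth of X is ≥ 2, i.e. H^0_Y(Z/ℓ) and
H^1_Y(Z/ℓ) vanish for every prime ℓ, if and only if for every scheme X' étale over X that
restriction functor is full and faithful. (The case of depth ≥ 3 versus equivalences is the
prelude's definition of homotopic depth ≥ 3.) -/
theorem result {X U : Scheme.{u}} (j : U ⟶ X) [IsOpenImmersion j] [EtCoh.BCCont j] : ((∀ ℓ : ℕ, ℓ.Prime → EtDepth.DepthGE j (EtCoh.const X (ZMod ℓ)) 1) ↔ ∀ (X' : Scheme.{u}) (g : X' ⟶ X) [Etale g], (FEt.restrict (pullback.snd j g)).Faithful) ∧ ((∀ ℓ : ℕ, ℓ.Prime → EtDepth.DepthGE j (EtCoh.const X (ZMod ℓ)) 2) ↔ ∀ (X' : Scheme.{u}) (g : X' ⟶ X) [Etale g], (FEt.restrict (pullback.snd j g)).Full ∧ (FEt.restrict (pullback.snd j g)).Faithful) := by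
  open Groth.Agent.EtDerLib in
  have mono : (∀ (X' : Scheme.{u}) (g : X' ⟶ X) [Etale g], (FEt.restrict (pullback.snd j g)).Faithful) →
      ∀ (X' : Scheme.{u}) (g : X' ⟶ X) [Etale g], DepthClopen.Meets (DepthClopen.part j g) := by
    intro h X' g _
    rw [← DepthClopen.range_snd]
    exact DepthClopen.meets_of_faithful _ (h X' g)
  haveI : Fact (Nat.Prime 2) := ⟨Nat.prime_two⟩
  open Groth.Agent.EtDerLib in
  refine ⟨⟨fun h X' g _ => ?_, fun h ℓ hℓ => ?_⟩, ⟨fun h X' g _ => ?_, fun h ℓ hℓ => ?_⟩⟩
  · haveI : Mono (EtDual.unitApp j (EtCoh.const X (ZMod 2))) := mono_unit_of_depthGE j (h 2 Nat.prime_two)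
    refine Groth.Agent.Pi1X.restrict_faithful _ ?_
    rw [DepthClopen.range_snd]
    exact DepthClopen.meets_of_mono_unit j (ZMod 2) X' g
  · exact (depthGE_one_iff j _).2 (DepthClopen.mono_unit_of_meets j (ZMod ℓ) (mono h))
  · haveI : IsIso (EtDual.unitApp j (EtCoh.const X (ZMod 2))) :=
      (DepthClopen.depthGE_two_iff j _).1 (h 2 Nat.prime_two)
    exact DepthClopen.fullyFaithful_iff j g (DepthClopen.range_snd j g)
      (fun X'' g' _ => DepthClopen.meets_of_mono_unit j (ZMod 2) X'' g')
      (fun X'' g' _ => DepthClopen.extends_of_isIso_unit j (ZMod 2) X'' g')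
  · haveI : Fact ℓ.Prime := ⟨hℓ⟩
    refine (DepthClopen.depthGE_two_iff j _).2 (DepthClopen.isIso_unit_of_extends j (ZMod ℓ)
      (mono fun X' g _ => (h X' g).2) fun X' g _ => ?_)
    rw [← DepthClopen.range_snd]
    exact DepthClopen.extends_of_full _ (h X' g).1

end Groth.Agent.S5181
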