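import Groth.Statements.S5238
import Mathlib.AlgebraicGeometry.Sites.SheafQuasiCompact
import Mathlib.AlgebraicGeometry.Morphisms.Flat
import Groth.Agent.S9432

set_option autoImplicit false
set_option backward.isDefEq.respectTransparency false
set_option backward.isDefEq.respectTransparency.types false
open CategoryTheory AlgebraicGeometry
universe w u
open GrpQ

namespace Groth.Agent.S5238

/-- A presheaf of sets on schemes is a sheaf for the fppf topology (the topology generated by jointly
surjective families of flat morphisms locally of finite presentation) if and only if it is a Zariski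
sheaf and satisfies the sheaf condition for every single morphism of affine schemes `T ⟶ S` which is
flat, surjective, locally of finite presentation and locally quasi-finite. (Between affine schemes
such a morphism is faithfully flat, of finite presentation and quasi-finite; that these quasi-finite
covers suffice rests on the existence of quasi-finite flat quasi-sections of flat surjective
morphisms locally of finite presentation.) -/
theorem result (F : Scheme.{u}ᵒᵖ ⥤ Type w) :
    Presheaf.IsSheaf Scheme.fppfTopology F ↔
      Presheaf.IsSheaf Scheme.zariskiTopology F ∧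
        ∀ (T S : Scheme.{u}) [IsAffine T] [IsAffine S] (f : T ⟶ S)
          [Flat f] [Surjective f] [LocallyOfFinitePresentation f] [LocallyQuasiFinite f],
          Presieve.IsSheafFor F (Presieve.singleton f) := by
  have hJ : Scheme.fppfTopology.{u} =
      Scheme.propQCTopology (@Flat ⊓ @LocallyOfFinitePresentation : MorphismProperty Scheme.{u}) := by
    have : Scheme.fppfPrecoverage.{u} =
        Scheme.propQCPrecoverage (@Flat ⊓ @LocallyOfFinitePresentation : MorphismProperty Scheme.{u}) :=
      le_antisymm (le_inf (Scheme.precoverage_le_qcPrecoverage_of_isOpenMap fun X Y f ⟨_, _⟩ ↦ f.isOpenMap) le_rfl)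
        Scheme.propQCPrecoverage_le_precoverage
    simp [Scheme.propQCTopology, ← this, Scheme.fppfTopology]
  rw [isSheaf_iff_isSheaf_of_type, isSheaf_iff_isSheaf_of_type]
  refine ⟨fun hF => ⟨Presieve.isSheaf_of_le _
    (Precoverage.toGrothendieck_mono Scheme.zariskiPrecoverage_le_fppfPrecoverage) hF, ?_⟩, ?_⟩
  · intro T S _ _ f _ _ _ _
    rw [Presieve.isSheafFor_iff_generate]
    refine hF _ (Precoverage.generate_mem_toGrothendieck ?_)
    exact Scheme.Hom.singleton_mem_fppfPrecoverage f
  rintro ⟨hzar, hqf⟩
  have : (@Flat ⊓ @LocallyOfFinitePresentation : MorphismProperty Scheme.{u}).IsMultiplicative :=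
    { id_mem := fun _ => ⟨inferInstance, inferInstance⟩
      comp_mem := fun f g ⟨_, _⟩ ⟨_, _⟩ => ⟨inferInstance, inferInstance⟩ }
  rw [hJ, isSheaf_type_propQCTopology_iff]
  refine ⟨hzar, fun {R A} φ ⟨h1, h2⟩ hs => ?_⟩
  algebraize [φ.hom]
  have hff : Module.FaithfullyFlat R A := by
    rw [← RingHom.faithfullyFlat_algebraMap_iff]
    exact (flat_and_surjective_SpecMap_iff φ).1 ⟨h1, hs⟩
  have hfp : Algebra.FinitePresentation R A := by
    rw [← RingHom.finitePresentation_algebraMap]
    exact (HasRingHomProperty.Spec_iff (P := @LocallyOfFinitePresentation)).1 h2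
  obtain ⟨A', _, _, hA1, hA2, hA3, hA4, ⟨σ⟩⟩ := Groth.Agent.S9432.result (R : Type u) A
  let f := Spec.map φ
  let g := Spec.map (CommRingCat.ofHom σ.toRingHom)
  let f' := Spec.map (CommRingCat.ofHom (algebraMap R A'))
  have hgf : g ≫ f = f' := by
    rw [← Spec.map_comp]
    congr 1
    ext r
    exact σ.commutes r
  obtain ⟨h1', hs'⟩ := (flat_and_surjective_SpecMap_iff (CommRingCat.ofHom (algebraMap R A'))).2
    ((RingHom.faithfullyFlat_algebraMap_iff).2 hA3)
  have h2' : LocallyOfFinitePresentation f' := by
    rw [HasRingHomProperty.Spec_iff (P := @LocallyOfFinitePresentation), CommRingCat.hom_ofHom,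
      RingHom.finitePresentation_algebraMap]
    exact hA4
  have h3' : LocallyQuasiFinite f' := by
    rw [HasRingHomProperty.Spec_iff (P := @LocallyQuasiFinite), CommRingCat.hom_ofHom,
      RingHom.quasiFinite_algebraMap]
    exact hA1
  have hf' := Presieve.isSheafFor_singleton.1 (hqf _ _ f')
  rw [Presieve.isSheafFor_singleton]
  intro x hx
  obtain ⟨y, hy, huy⟩ := hf' (F.map g.op x) fun {Z} p₁ p₂ h => by
    have := hx (p₁ ≫ g) (p₂ ≫ g) (by rw [Category.assoc, Category.assoc, hgf, h])
    rw [← Functor.map_comp_apply, ← Functor.map_comp_apply, ← op_comp, ← op_comp]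
    exact this
  have hinj : ∀ y₁, F.map f'.op y₁ = F.map g.op (F.map f.op y₁) := fun y₁ => by
    rw [← hgf, op_comp, Functor.map_comp]
    rfl
  refine ⟨y, ?_, fun y₁ hy₁ => huy y₁ (by show F.map f'.op y₁ = _; rw [hinj, hy₁])⟩
  have hsep := Presieve.isSeparatedFor_singleton.1
    (hqf _ _ (Limits.pullback.fst f f')).isSeparatedFor
  refine hsep ?_
  have e1 : F.map (Limits.pullback.fst f f').op (F.map f.op y) =
      F.map (Limits.pullback.snd f f').op (F.map f'.op y) := by
    rw [← Functor.map_comp_apply, ← Functor.map_comp_apply, ← op_comp, ← op_comp, Limits.pullback.condition]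
    rfl
  rw [e1, hy]
  rw [← Functor.map_comp_apply, ← op_comp]
  exact hx _ _ (by rw [Category.assoc, hgf, Limits.pullback.condition])

end Groth.Agent.S5238
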