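import Groth.Statements.S5247
import Groth.Agent.MultTransp18.SubTransp

set_option autoImplicit false
open CategoryTheory MonoidalCategory CartesianMonoidalCategory MonObj GrpObj AlgebraicGeometry
universe u
open SGA3x

namespace Groth.Agent.S5247

/-- Let H be an S-group of multiplicative type and of finite type, G an S-group smooth and affine over S
and u : H ⟶ G a homomorphism of S-groups. Then the centralizer of u (the subfunctor of G of points g
with int(g) ∘ u = u after every base change) is representable by a closed subgroup scheme of G which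
is smooth over S. -/
theorem result {S : Scheme.{u}} (H G : Over S) [GrpObj H] [GrpObj G]
    (hH : SGA3x.IsMultTypeFT H) (hG : Smooth G.hom) (hGa : IsAffineHom G.hom) (u : H ⟶ G) [IsMonHom u] :
    ∃ (Z : Over S) (_ : GrpObj Z) (j : Z ⟶ G), Red.IsCentralizerOf u j ∧ IsClosedImmersion j.left ∧ Smooth Z.hom := by
  haveI := hG
  haveI := hGa
  obtain ⟨T, j, hj, -, hs, hT⟩ := MultTransp18.exists_homTransporter_smooth hH u u
  haveI := hj
  haveI : Mono j := Over.mono_of_mono_left j
  have hT' : ∀ (X : Over S) (g : X ⟶ G), (∃ t : X ⟶ T, t ≫ j = g) ↔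
      ∀ (X' : Over S) (x : X' ⟶ X) (h : X' ⟶ H), (x ≫ g) * (h ≫ u) = (h ≫ u) * (x ≫ g) := fun X g => by
    rw [hT]
    exact forall_congr' fun X' => forall_congr' fun x => forall_congr' fun h => mul_inv_eq_iff_eq_mul
  obtain ⟨str, hstr⟩ := MultTransp18.exists_subgroup j
    (fun X g => ∀ (X' : Over S) (x : X' ⟶ X) (h : X' ⟶ H), Commute (x ≫ g) (h ≫ u)) hT'
    (fun X' x h => by simp [MonObj.comp_one, Commute.one_left])
    (fun X a c ha hc X' x h => by rw [MonObj.comp_mul]; exact (ha X' x h).mul_left (hc X' x h))
    (fun X a ha X' x h => by rw [GrpObj.comp_inv]; exact (ha X' x h).inv_left)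
  exact ⟨T, str, j, ⟨hstr, inferInstance, hT'⟩, hj, hs⟩

end Groth.Agent.S5247
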