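import Groth.Statements.S5248
import Groth.Agent.MultTransp18.SubTransp

set_option autoImplicit false
open CategoryTheory MonoidalCategory CartesianMonoidalCategory MonObj GrpObj AlgebraicGeometry
universe u
open SGA3x

namespace Groth.Agent.S5248

/-- Let G be an S-group smooth and affine over S and i : H ⟶ G a subgroup scheme of G of multiplicative
type (H of multiplicative type and of finite type, which is automatic here since G is affine and of
finite type over S). Then the normalizer of H in G (the subfunctor of points g of G with g H g⁻¹ ⊆ H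
and g⁻¹ H g ⊆ H after every base change) is representable by a closed subgroup scheme of G which is
smooth over S. -/
theorem result {S : Scheme.{u}} (H G : Over S) [GrpObj H] [GrpObj G]
    (hH : SGA3x.IsMultTypeFT H) (hG : Smooth G.hom) (hGa : IsAffineHom G.hom) (i : H ⟶ G) [IsMonHom i] [Mono i] :
    ∃ (N : Over S) (_ : GrpObj N) (j : N ⟶ G), Red.IsNormalizerOf i j ∧ IsClosedImmersion j.left ∧ Smooth N.hom := by
  haveI := hG
  haveI := hGa
  obtain ⟨T, j, hj, -, hs, hT⟩ := MultTransp18.exists_eqTransporter_smooth hH hH i i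
  haveI := hj
  haveI : Mono j := Over.mono_of_mono_left j
  obtain ⟨str, hstr⟩ := MultTransp18.exists_subgroup j (fun X g => MultTransp18.SubEq i i g) hT
    (fun X' x => ⟨fun h => ⟨h, by simp [MonObj.comp_one]⟩, fun h => ⟨h, by simp [MonObj.comp_one]⟩⟩)
    (fun X a c ha hc X' x => ⟨fun h => by
      obtain ⟨k, hk⟩ := (hc X' x).1 h
      obtain ⟨l, hl⟩ := (ha X' x).1 k
      exact ⟨l, by rw [← hl, ← hk, MonObj.comp_mul]; group⟩, fun h => by
      obtain ⟨k, hk⟩ := (ha X' x).2 h
      obtain ⟨l, hl⟩ := (hc X' x).2 k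
      exact ⟨l, by rw [← hl, ← hk, MonObj.comp_mul]; group⟩⟩)
    (fun X a ha X' x => ⟨fun h => by rw [GrpObj.comp_inv, _root_.inv_inv]; exact (ha X' x).2 h,
      fun h => by rw [GrpObj.comp_inv, _root_.inv_inv]; exact (ha X' x).1 h⟩)
  exact ⟨T, str, j, ⟨hstr, inferInstance, fun X g => (hT X g).trans
    ⟨fun hg X' x h => ⟨(hg X' x).1 h, (hg X' x).2 h⟩,
      fun hg X' x => ⟨fun h => (hg X' x h).1, fun h => (hg X' x h).2⟩⟩⟩, hj, hs⟩

end Groth.Agent.S5248
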