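import Groth.Statements.S5249
import Groth.Agent.MultTransp18.CentrNorm

set_option autoImplicit false
open CategoryTheory MonoidalCategory CartesianMonoidalCategory MonObj GrpObj AlgebraicGeometry
universe u
open SGA3x

namespace Groth.Agent.S5249

/-- Let G be an S-group smooth and affine over S, i : H ⟶ G a subgroup scheme of multiplicative type (H
of multiplicative type and of finite type), j : Z ⟶ G the centralizer and k : N ⟶ G the normalizer
of H in G. Then Z ⟶ G factors through N by a morphism which is an open and closed immersion: the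
centralizer is an open and closed subgroup scheme of the normalizer. -/
theorem result {S : Scheme.{u}} (H G Z N : Over S) [GrpObj H] [GrpObj G] [GrpObj Z] [GrpObj N]
    (hH : SGA3x.IsMultTypeFT H) (hG : Smooth G.hom) (hGa : IsAffineHom G.hom) (i : H ⟶ G) [IsMonHom i] [Mono i]
    (j : Z ⟶ G) (k : N ⟶ G) (hj : Red.IsCentralizerOf i j) (hk : Red.IsNormalizerOf i k) :
    ∃ f : Z ⟶ N, f ≫ k = j ∧ IsOpenImmersion f.left ∧ IsClosedImmersion f.left := by
  obtain ⟨_, hjm, hjc⟩ := hj
  obtain ⟨_, hkm, hkc⟩ := hk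
  have hjj := (hjc Z j).mp ⟨𝟙 _, Category.id_comp _⟩
  obtain ⟨f, hf⟩ := (hkc Z j).mpr fun X' x h => ⟨⟨h, by rw [hjj X' x h]; group⟩,
    ⟨h, by rw [_root_.mul_assoc, ← hjj X' x h]; group⟩⟩
  haveI := hjm
  haveI := hkm
  refine ⟨f, hf, ?_⟩
  obtain ⟨U, hUc, hU⟩ := MultTransp18.exists_clopen_centralising hH i k fun X' x h =>
    ((hkc X' (x ≫ k)).mp ⟨x, rfl⟩ X' (𝟙 _) h).1.imp fun h' hh => by simpa using hh
  have hr : Set.range f.left.base ⊆ Set.range U.ι.base := by
    rintro z ⟨q, rfl⟩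
    rw [Scheme.Opens.range_ι]
    exact (hU Z f).mp (fun X' y h => by rw [hf]; exact hjj X' y h) q
  let x : Over.mk (U.ι ≫ N.hom) ⟶ N := Over.homMk U.ι rfl
  obtain ⟨z, hz⟩ := (hjc _ (x ≫ k)).mpr ((hU _ x).mpr fun p => p.2)
  have hzf : z ≫ f = x := by rw [← cancel_mono k, Category.assoc, hf, hz]
  let l := IsOpenImmersion.lift U.ι f.left hr
  have hl : l ≫ U.ι = f.left := IsOpenImmersion.lift_fac _ _ _
  have h1 : z.left ≫ l = 𝟙 _ := by
    rw [← cancel_mono U.ι, Category.id_comp, Category.assoc, hl]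
    exact congrArg CommaMorphism.left hzf
  have h2 : l ≫ z.left = 𝟙 _ := by
    have e : (Over.homMk l (by show l ≫ U.ι ≫ N.hom = Z.hom; rw [reassoc_of% hl, Over.w f]) : Z ⟶ Over.mk (U.ι ≫ N.hom)) ≫ z = 𝟙 Z := by
      rw [← cancel_mono j, Category.assoc, Category.id_comp, hz, ← Category.assoc, ← hf]
      exact congrArg (· ≫ k) (Over.OverMorphism.ext hl)
    exact congrArg CommaMorphism.left e
  haveI : IsIso l := ⟨z.left, h2, h1⟩
  haveI : IsClosedImmersion U.ι := IsClosedImmersion.of_isPreimmersion _ (by rwa [Scheme.Opens.range_ι])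
  rw [← hl]
  exact ⟨inferInstance, inferInstance⟩

end Groth.Agent.S5249
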