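import Groth.Statements.S5259
import Groth.Agent.WeilSm18.Centr

set_option autoImplicit false
open CategoryTheory MonoidalCategory CartesianMonoidalCategory MonObj GrpObj AlgebraicGeometry
universe u
open SGA3x

namespace Groth.Agent.S5259

/-- Centralizer: Let G be an S-group locally of finite type and quasi-separated over S, H an S-group
which is smooth and of finite presentation over S with connected fibres, and i : H ⟶ G a
homomorphism which is a monomorphism. Then the centralizer of H in G is representable by a closed
subgroup scheme of G whose immersion into G is of finite presentation. -/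
theorem result {S : Scheme.{u}} (G H : Over S) [GrpObj G] [GrpObj H]
    [LocallyOfFiniteType G.hom] [QuasiSeparated G.hom] [Smooth H.hom] [QuasiCompact H.hom] [QuasiSeparated H.hom]
    (hconn : ∀ s : S, ConnectedSpace ↥(Limits.pullback H.hom (S.fromSpecResidueField s)))
    (i : H ⟶ G) [IsMonHom i] [Mono i] :
    ∃ (Z : Over S) (_ : GrpObj Z) (j : Z ⟶ G), Red.IsCentralizerOf i j ∧ IsClosedImmersion j.left ∧
      LocallyOfFinitePresentation j.left := by
  haveI := Groth.Agent.WeilSm18.geometricallyIrreducible_of_group H fun s => by
    haveI := hconn s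
    rw [← Groth.Agent.GrpSchLib.FibreIrr.range_fst H s, ← Set.image_univ]
    exact isConnected_univ.image _ (Limits.pullback.fst H.hom (S.fromSpecResidueField s)).continuous.continuousOn
  obtain ⟨T, j, hj, hjf, hT⟩ := Groth.Agent.WeilSm18.exists_closed_centralizing i
  haveI := hj
  haveI : Mono j := Over.mono_of_mono_left j
  obtain ⟨str, hstr⟩ := Groth.Agent.MultTransp18.exists_subgroup j
    (fun X g => ∀ (X' : Over S) (x : X' ⟶ X) (h : X' ⟶ H), Commute (x ≫ g) (h ≫ i)) hT
    (fun X' x h => by simp [MonObj.comp_one, Commute.one_left])
    (fun X a c ha hc X' x h => by rw [MonObj.comp_mul]; exact (ha X' x h).mul_left (hc X' x h))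
    (fun X a ha X' x h => by rw [GrpObj.comp_inv]; exact (ha X' x h).inv_left)
  exact ⟨T, str, j, ⟨hstr, inferInstance, hT⟩, hj, hjf⟩

end Groth.Agent.S5259
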