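import Groth.Statements.S5263
import Groth.Agent.HomRep18.Hom
import Groth.Agent.HomRep18.MultFlat
import Groth.Agent.HomRep18.FinEtale
import Groth.Agent.MultTransp18.Mono
-- import your own Groth.Agent.* helpers here

set_option autoImplicit false
open CategoryTheory MonoidalCategory CartesianMonoidalCategory MonObj GrpObj AlgebraicGeometry
universe u
open SGA3x

namespace Groth.Agent.S5263

/-- Let G and H be S-groups of multiplicative type which are finite over S. Then the functor of group
homomorphisms from G to H is representable by an S-scheme which is finite and etale over S (with its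
universal family of homomorphisms). -/
theorem result {S : Scheme.{u}} (G H : Over S) [GrpObj G] [GrpObj H]
    (hG : SGA3x.IsMultTypeFT G) [IsFinite G.hom] (hH : SGA3x.IsMultTypeFT H) [IsFinite H.hom] :
    ∃ (A : Over S) (υ : G ⊗ A ⟶ H), AutFam.RepresentsHom G H A υ ∧ IsFinite A.hom ∧ Etale A.hom := by
  haveI : Flat G.hom := Groth.Agent.HomRep18.MultFlat.flat hG
  have hlf : Mor2.IsFinLocFree G.hom :=
    ⟨inferInstance, inferInstance, Groth.Agent.MultTransp18.lfp_multTypeFT hG⟩
  obtain ⟨A, υ, M, ω, k, hrep, hω, hk, hlfp, hMa⟩ := Groth.Agent.HomRep18.exists_homRep G H hlf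
  haveI : IsAffineHom A.hom := by
    rw [← Over.w k]
    infer_instance
  exact ⟨A, υ, hrep, Groth.Agent.HomRep18.isFinite_etale hG hH hrep⟩

end Groth.Agent.S5263
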