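import Groth.Statements.S5308
import Groth.Agent.GrpSchLib.TwConstClosed
import Groth.Agent.TwC10.Basic

set_option autoImplicit false
set_option linter.style.haveILetI false
set_option backward.isDefEq.respectTransparency false
set_option synthInstance.maxHeartbeats 400000
open CategoryTheory MonoidalCategory CartesianMonoidalCategory MonObj GrpObj AlgebraicGeometry
universe u
open SGA3x

namespace Groth.Agent.S5308

open CategoryTheory.Limits

/-- (i) ⇒ (ii). Let R be a commutative twisted constant S-group which is isotrivial (it becomes a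
constant group over the open and closed pieces of one finite etale surjective S' ⟶ S). Then R is a
union of open and closed subschemes which are quasi-compact, indeed finite, over S: every point of R
has an open and closed neighbourhood U in R with U ⟶ S finite. -/
theorem result {S : Scheme.{u}} (R : Over S) [GrpObj R]
    (hcomm : ∀ (X : Over S) (a b : X ⟶ R), a * b = b * a) (hR : TwC.IsTwConstGrp TwC.Topology.finiteEtale R) (x : R.left) :
    ∃ U : R.left.Opens, x ∈ U ∧ IsClosed (U : Set R.left) ∧ IsFinite (U.ι ≫ R.hom) := by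
  obtain ⟨S', f, hfin, het, hsurj, hloc⟩ := hR
  haveI := hfin
  haveI := het
  haveI := hsurj
  obtain ⟨x', hx'⟩ := (pullback.fst R.hom f).surjective x
  obtain ⟨U, hsU, hUc, M, _, e, -⟩ := hloc (pullback.snd R.hom f x')
  haveI : IsClosedImmersion U.ι :=
    IsClosedImmersion.of_isPreimmersion _ (by rw [Scheme.Opens.range_ι]; exact hUc)
  -- the point over `x` inside the base change to `U`
  obtain ⟨z, hz1, hz2⟩ := Scheme.Pullback.exists_preimage_pullback (f := R.hom) (g := U.ι ≫ f) x ⟨_, hsU⟩ (by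
    rw [← hx', ← Scheme.Hom.comp_apply, pullback.condition, Scheme.Hom.comp_apply]
    exact rfl)
  obtain ⟨⟨m, v⟩, hv⟩ := (sigmaMk fun _ : M => (U : Scheme.{u})).surjective (e.hom.left z)
  rw [sigmaMk_mk] at hv
  let a : (U : Scheme.{u}) ⟶ (Red.bc (U.ι ≫ f) R).left :=
    Sigma.ι (fun _ : M => (U : Scheme.{u})) m ≫ e.inv.left
  have ha : a ≫ pullback.snd R.hom (U.ι ≫ f) = 𝟙 _ := by
    show (Sigma.ι (fun _ : M => (U : Scheme.{u})) m ≫ e.inv.left) ≫ (Red.bc (U.ι ≫ f) R).hom = _
    rw [Category.assoc, Over.w e.inv]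
    exact Sigma.ι_desc _ m
  let q : (U : Scheme.{u}) ⟶ R.left := a ≫ pullback.fst R.hom (U.ι ≫ f)
  have hq : q ≫ R.hom = U.ι ≫ f :=
    (Category.assoc _ _ _).trans ((congrArg (a ≫ ·) pullback.condition).trans
      ((reassoc_of% ha) _))
  haveI : IsFinite (q ≫ R.hom) := by rw [hq]; infer_instance
  have hmem : x ∈ Set.range q := by
    refine ⟨v, ?_⟩
    show q v = x
    rw [← hz1]
    show (a ≫ pullback.fst R.hom (U.ι ≫ f)) v = _
    rw [Scheme.Hom.comp_apply]
    congr 1
    show (Sigma.ι (fun _ : M => (U : Scheme.{u})) m ≫ e.inv.left) v = z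
    rw [Scheme.Hom.comp_apply, hv]
    have h := congrArg (fun g : Red.bc (U.ι ≫ f) R ⟶ Red.bc (U.ι ≫ f) R => g.left z) e.hom_inv_id
    exact h
  -- `q` is open and closed
  haveI : IsOpenImmersion (Sigma.ι (fun _ : M => (U : Scheme.{u})) m) := inferInstance
  haveI : Etale (U.ι ≫ f) := inferInstance
  haveI : Etale (pullback.fst R.hom (U.ι ≫ f)) := inferInstance
  have h1 : Etale a := inferInstanceAs (Etale (Sigma.ι (fun _ : M => (U : Scheme.{u})) m ≫ e.inv.left))
  haveI : Etale q := MorphismProperty.comp_mem (W := @Etale) a _ h1 inferInstance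
  have htw : TwC.IsTwConst TwC.Topology.fpqc R := by
    refine ⟨S', f, inferInstance, inferInstance, fun V hV => ⟨f ⁻¹ᵁ V, (hV.preimage f).isCompact, ?_⟩, fun s' => ?_⟩
    · exact Set.image_preimage_eq _ f.surjective
    · obtain ⟨W, hW, -, N, _, e', -⟩ := hloc s'
      exact ⟨W, hW, N, ⟨e'⟩⟩
  haveI : IsSeparated R.hom := TwC10.isSeparated_of_twConst (X := R) fun s => by
    obtain ⟨s', rfl⟩ := f.surjective s
    obtain ⟨W, hW, -, N, _, e', -⟩ := hloc s'
    exact ⟨W, W.ι ≫ f, inferInstance, ⟨⟨s', hW⟩, rfl⟩, N, ⟨e'⟩⟩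
  haveI : IsFinite q := IsFinite.of_comp q R.hom
  let W : R.left.Opens := ⟨Set.range q, q.isOpenMap.isOpen_range⟩
  have hWc : IsClosed (W : Set R.left) := q.isClosedMap.isClosed_range
  haveI : IsClosedImmersion W.ι :=
    IsClosedImmersion.of_isPreimmersion _ (by rw [Scheme.Opens.range_ι]; exact hWc)
  haveI : QuasiCompact (W.ι ≫ R.hom) := by
    refine quasiCompact_iff_isSpectralMap.mpr ⟨(W.ι ≫ R.hom).continuous, fun K hKo hKc => ?_⟩
    rw [W.ι.isOpenEmbedding.isInducing.isCompact_iff]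
    have h : W.ι '' ((W.ι ≫ R.hom) ⁻¹' K) = q '' ((q ≫ R.hom) ⁻¹' K) := by
      ext r
      constructor
      · rintro ⟨w, hw, rfl⟩
        obtain ⟨y, hy⟩ := w.2
        refine ⟨y, ?_, hy⟩
        show (q ≫ R.hom) y ∈ K
        rw [Scheme.Hom.comp_apply, show q y = W.ι w from hy, ← Scheme.Hom.comp_apply]
        exact hw
      · rintro ⟨y, hy, rfl⟩
        exact ⟨⟨q y, y, rfl⟩, hy, rfl⟩
    rw [h]
    exact ((q ≫ R.hom).isCompact_preimage (U := ⟨K, hKo⟩) hKc).image q.continuous
  exact ⟨W, hmem, hWc, GrpSchLib.TwConstClosed.isFinite_of_twConst R htw W.ι⟩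

end Groth.Agent.S5308
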