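import Groth.Statements.S5383
import Groth.Agent.IntTh85.UnibOpenQf
import Groth.Agent.H23.RedSub
-- import your own Groth.Agent.* helpers here

set_option autoImplicit false
universe u
open CategoryTheory CategoryTheory.Limits MonoidalCategory CartesianMonoidalCategory MonObj GrpObj AlgebraicGeometry
open SGA3

namespace Groth.Agent.S5383

/-- (i) let A ⊆ B be domains with B integral over A, and q a prime of B such that the local ring of A at
p = q ∩ A is unibranch; then Spec B → Spec A is open at q (it maps neighbourhoods of q to
neighbourhoods of p). (ii) Let f : X → Y be a dominant morphism of irreducible schemes which is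
locally of finite type, x a point of X isolated in its fibre (f quasi-finite at x) such that the
local ring of Y at f(x) is unibranch; then f is open at x. -/
theorem result :
    (∀ (A B : Type u) [CommRing A] [IsDomain A] [CommRing B] [IsDomain B] [Algebra A B],
      Function.Injective (algebraMap A B) → Algebra.IsIntegral A B →
      ∀ q : PrimeSpectrum B, CAlg2.IsUnibranch (Localization.AtPrime (q.asIdeal.comap (algebraMap A B))) →
        EGA43.IsOpenAt (PrimeSpectrum.comap (algebraMap A B)) q) ∧
    (∀ (X Y : Scheme.{u}) (f : X ⟶ Y) [IrreducibleSpace X] [IrreducibleSpace Y] [LocallyOfFiniteType f],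
      DenseRange f.base → ∀ x : X, (nhdsWithin x (f.base ⁻¹' {f.base x})) = pure x →
        CAlg2.IsUnibranch (Y.presheaf.stalk (f.base x)) → EGA43.IsOpenAt f.base x) := by
  refine ⟨fun A B _ _ _ _ _ hinj hint q hq => ?_, fun X Y f _ _ _ hdense x hx hY => ?_⟩
  · haveI := hint
    let p := q.asIdeal.comap (algebraMap A B)
    let O := Localization.AtPrime p
    haveI : IsDomain O := IsLocalization.isDomain_localization p.primeCompl_le_nonZeroDivisors
    let e : O ≃ₐ[A] CAlg2.red O := AlgEquiv.ofBijective (Ideal.Quotient.mkₐ A (nilradical O))
      ⟨fun a b h => by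
        have := Ideal.Quotient.eq.mp h
        rwa [nilradical_eq_zero O, Submodule.zero_eq_bot, Ideal.mem_bot, sub_eq_zero] at this, Ideal.Quotient.mk_surjective⟩
    haveI : IsLocalization.AtPrime (CAlg2.red O) p := IsLocalization.isLocalization_of_algEquiv p.primeCompl e
    exact Groth.Agent.IntTh85.UnibOpen.isOpenAt_comap hinj q (O := O) hq
  · let S : TopologicalSpace.Closeds X := ⊤
    let I := Scheme.IdealSheafData.vanishingIdeal S
    let i := I.subschemeι
    haveI : IsReduced I.subscheme := H23.RedSub.isReduced_vanishingIdeal S
    have hrange : Set.range i.base = Set.univ := by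
      rw [Scheme.IdealSheafData.range_subschemeι, Scheme.IdealSheafData.coe_support_vanishingIdeal]
      rfl
    have hemb : Topology.IsEmbedding i.base := i.isEmbedding
    let e : I.subscheme ≃ₜ X := hemb.toHomeomorph.trans ((Homeomorph.setCongr hrange).trans (Homeomorph.Set.univ X))
    haveI : IrreducibleSpace I.subscheme := e.symm.surjective.irreducibleSpace e.symm.continuous
    haveI : IsIntegral I.subscheme := isIntegral_of_irreducibleSpace_of_isReduced _
    obtain ⟨x', hx'⟩ : x ∈ Set.range i.base := hrange ▸ Set.mem_univ x
    let g : I.subscheme ⟶ Y := i ≫ f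
    have hgx : g.base x' = f.base x := by
      show f.base (i.base x') = _
      rw [hx']
    have hfib : IsOpen ({⟨x', rfl⟩} : Set ↥(g.base ⁻¹' {g.base x'})) := by
      have h2 : ({x} : Set X) ∈ nhdsWithin x (f.base ⁻¹' {f.base x}) := hx ▸ Filter.mem_pure.mpr rfl
      obtain ⟨U, hU, hxU, hsub⟩ := mem_nhdsWithin.mp h2
      refine isOpen_induced_iff.mpr ⟨i.base ⁻¹' U, hU.preimage i.continuous, Set.ext fun z => ⟨fun hz => ?_, ?_⟩⟩
      · refine Subtype.ext (hemb.injective ?_)
        rw [hx']
        exact hsub ⟨hz, show f.base (i.base z.1) = f.base x from (show g.base z.1 = g.base x' from z.2).trans hgx⟩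
      · rintro rfl
        exact show i.base x' ∈ U from hx'.symm ▸ hxU
    have hqf : g.QuasiFiniteAt x' := by
      rw [Scheme.Hom.quasiFiniteAt_iff_isOpen_singleton_asFiber, ← (g.fiberHomeo (g x')).isOpen_image,
        Set.image_singleton]
      simp only [Scheme.Hom.asFiber, Homeomorph.apply_symm_apply]
      exact hfib
    have hcl : closure {g (genericPoint I.subscheme)} ∈ nhds (g x') := by
      refine Filter.mem_of_superset Filter.univ_mem fun z _ => ?_
      have h1 : DenseRange g.base :=
        hdense.comp e.surjective.denseRange f.continuous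
      have h2 : Set.range g.base ⊆ closure {g (genericPoint I.subscheme)} := by
        rintro _ ⟨w, rfl⟩
        exact specializes_iff_mem_closure.mp (((genericPoint_spec I.subscheme).specializes (Set.mem_univ w)).map g.continuous)
      exact closure_minimal h2 isClosed_closure (h1 z)
    have := Groth.Agent.IntTh85.UnibOpen.isOpenAt_qf g x' hqf
      (by rw [show g x' = f.base x from hgx]; exact hY) hcl
    intro N hN
    have h3 := this (i.base ⁻¹' N) (i.continuous.continuousAt.preimage_mem_nhds (hx'.symm ▸ hN))
    rw [hgx] at h3
    refine Filter.mem_of_superset h3 ?_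
    rintro _ ⟨w, hw, rfl⟩
    exact ⟨i.base w, hw, rfl⟩

end Groth.Agent.S5383
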