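import Groth.Statements.S5432
import Groth.Agent.ComodLib.Rosenlicht
import Groth.Agent.S2966
import Groth.Agent.H23.GeomConn
import Groth.Agent.QRepLib.Naive
-- import your own Groth.Agent.* helpers here

set_option autoImplicit false
universe u
open TensorProduct
open SGA3t2b

namespace Groth.Agent.S5432

open CategoryTheory Limits AlgebraicGeometry Groth.Agent.ComodLib

/-- Connected spectrum from trivial idempotents. -/
theorem connectedSpace_of_idem {T : Type u} [CommRing T] [Nontrivial T]
    (h : ∀ e : T, IsIdempotentElem e → e = 0 ∨ e = 1) : ConnectedSpace (PrimeSpectrum T) := by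
  rw [connectedSpace_iff_clopen]
  refine ⟨inferInstance, fun s hs => ?_⟩
  obtain ⟨e, he, rfl⟩ := PrimeSpectrum.isClopen_iff.mp hs
  rcases h e he with rfl | rfl
  · left
    simp
  · right
    simp

/-- A connected affine algebra with a rational point stays connected over every field extension. -/
theorem idem_baseChange {k : Type u} [Field k] {C : Type u} [CommRing C] [Algebra k C] (ε : C →ₐ[k] k)
    (hconn : ∀ e : C, IsIdempotentElem e → e = 0 ∨ e = 1) (K : Type u) [Field K] [Algebra k K]
    (e : K ⊗[k] C) (he : IsIdempotentElem e) : e = 0 ∨ e = 1 := by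
  haveI : Nontrivial C := ε.toRingHom.domain_nontrivial
  let f : Spec (CommRingCat.of C) ⟶ Spec (CommRingCat.of k) := Spec.map (CommRingCat.ofHom (algebraMap k C))
  haveI : ConnectedSpace ↥(Spec (CommRingCat.of C)) :=
    connectedSpace_of_idem hconn
  have hx : Spec.map (CommRingCat.ofHom ε.toRingHom) ≫ f = 𝟙 _ := by
    rw [← Spec.map_comp, ← Spec.map_id]
    congr 1
    ext c
    exact ε.commutes c
  haveI := H23.GeomConn.of_point k f _ hx
  haveI : ConnectedSpace ↥(pullback f (Spec.map (CommRingCat.ofHom (algebraMap k K)))) :=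
    GeometricallyConnected.geometrically_connectedSpace (f := f) (Spec.map (CommRingCat.ofHom (algebraMap k K))) _ _ (.of_hasPullback _ _)
  haveI hP : ConnectedSpace (PrimeSpectrum (C ⊗[k] K)) :=
    (pullbackSpecIso k C K).hom.homeomorph.surjective.connectedSpace
      (pullbackSpecIso k C K).hom.homeomorph.continuous
  let t := Algebra.TensorProduct.comm k K C
  rcases (connectedSpace_iff_clopen.mp hP).2 _
      (PrimeSpectrum.isClopen_iff.mpr ⟨t e, he.map t, rfl⟩) with h | h
  · left
    apply t.injective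
    rw [map_zero]
    refine ((he.map t).eq_zero_of_isNilpotent ?_)
    rwa [← PrimeSpectrum.basicOpen_eq_bot_iff, ← TopologicalSpace.Opens.coe_eq_empty]
  · right
    apply t.injective
    rw [map_one]
    have hu : IsUnit (t e) := by
      by_contra hn
      obtain ⟨p, hp, hep⟩ := exists_max_ideal_of_mem_nonunits hn
      exact ((PrimeSpectrum.mem_basicOpen _ _).mp (h.ge (Set.mem_univ (⟨p, hp.isPrime⟩ : PrimeSpectrum (C ⊗[k] K))))) hep
    exact hu.mul_left_cancel ((he.map t).eq.trans (mul_one _).symm)

/-- Units of a smooth connected unipotent group over an algebraically closed extension are constants. -/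
theorem unit_const {k : Type u} [Field k] {C : Type u} [CommRing C] [HopfAlgebra k C] [Algebra.FiniteType k C]
    [Algebra.FormallySmooth k C] (hconn : ∀ e : C, IsIdempotentElem e → e = 0 ∨ e = 1)
    (hU : HopfRep.IsUnipotent k C) (K : Type u) [Field K] [IsAlgClosed K] [Algebra k K]
    {u : K ⊗[k] C} (hu : IsUnit u) :
    u = algebraMap K (K ⊗[k] C) (Bialgebra.counitAlgHom K (K ⊗[k] C) u) := by
  haveI : Algebra.FinitePresentation k C := Algebra.FinitePresentation.of_finiteType.mp inferInstance
  haveI : Algebra.Smooth k C := { }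
  haveI : _root_.IsReduced (K ⊗[k] C) := QRepLib.isReduced_of_smooth_algebra K (K ⊗[k] C)
  haveI : IsDomain (K ⊗[k] C) :=
    isDomain_of_connected K fun e he => idem_baseChange (Bialgebra.counitAlgHom k C) hconn K e he
  haveI : GLin.IsCoactAlg K (K ⊗[k] C) (K ⊗[k] C) := ⟨Bialgebra.comul_one, fun f g => Bialgebra.comul_mul f g⟩
  obtain ⟨χ, hχ, hco⟩ := exists_character (A := K ⊗[k] C) (B := K ⊗[k] C) hu.ne_zero fun g => by
    refine ⟨(show IsUnit (HopfRep.Comod.act K (K ⊗[k] C) (K ⊗[k] C) g u) from ?_).unit * hu.unit⁻¹, ?_⟩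
    · exact IsUnit.of_mul_eq_one (HopfRep.Comod.act K (K ⊗[k] C) (K ⊗[k] C) g ((hu.unit⁻¹ : (K ⊗[k] C)ˣ) : K ⊗[k] C)) (by
        rw [← act_mul, IsUnit.mul_val_inv]; exact act_fixed (GLin.invariants K (K ⊗[k] C) (K ⊗[k] C)).one_mem g)
    · simp [mul_assoc]
  rw [Groth.Agent.S2966.groupLike_eq_one hU χ hχ] at hco
  have h := congrArg (TensorProduct.lid K (K ⊗[k] C)) (Coalgebra.rTensor_counit_comul (R := K) u)
  rw [show Coalgebra.comul (R := K) u = u ⊗ₜ[K] 1 from hco, LinearMap.rTensor_tmul, TensorProduct.lid_tmul,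
    TensorProduct.lid_tmul, one_smul] at h
  rw [Algebra.algebraMap_eq_smul_one]
  exact h.symm

/-- Let k be a field, C a finitely generated commutative Hopf algebra which is formally smooth with no
idempotents other than 0 and 1 and unipotent in the fixed-vector sense (a smooth connected unipotent
algebraic group U), and B a commutative Hopf algebra of multiplicative type (isomorphic to a group
algebra after a faithfully flat extension of k; the group H, not assumed of finite type). Then every
morphism of k-schemes U → H is constant: every k-algebra map f : B → C satisfies f(b) = ε_C(f(b)) ·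
1. -/
theorem result (k : Type u) [Field k] (C B : Type u) [CommRing C] [HopfAlgebra k C] [Algebra.FiniteType k C]
    [Algebra.FormallySmooth k C] (hconn : ∀ e : C, IsIdempotentElem e → e = 0 ∨ e = 1)
    (hU : HopfRep.IsUnipotent k C) [CommRing B] [HopfAlgebra k B]
    (hB : SGA3b.IsMultTypeConst k B) (f : B →ₐ[k] C) :
    ∀ b : B, f b = algebraMap k C (Bialgebra.counitAlgHom k C (f b)) := by
  classical
  obtain ⟨R', _, _, hff, M, _, ⟨Φ⟩⟩ := hB
  haveI := hff
  haveI : Nontrivial R' := (TensorProduct.rid k R').symm.toEquiv.nontrivial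
  obtain ⟨m, hm⟩ := Ideal.exists_maximal R'
  haveI := hm
  letI : Field (R' ⧸ m) := Ideal.Quotient.field m
  let K := AlgebraicClosure (R' ⧸ m)
  let ι : R' →ₐ[k] K := (IsScalarTower.toAlgHom k (R' ⧸ m) K).comp (Ideal.Quotient.mkₐ k m)
  let F : R' ⊗[k] B →ₐ[k] K ⊗[k] C := Algebra.TensorProduct.map ι f
  let D : K ⊗[k] C → Prop := fun w => w = algebraMap K (K ⊗[k] C) (Bialgebra.counitAlgHom K (K ⊗[k] C) w)
  have key : ∀ z : MonoidAlgebra R' M, D (F ((Φ : R' ⊗[k] B ≃ₐ[R'] MonoidAlgebra R' M).symm z)) := by
    intro z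
    induction z using MonoidAlgebra.induction_on with
    | of m =>
      refine unit_const hconn hU K ((IsUnit.map _ ?_).map F)
      exact (Group.isUnit m).map (MonoidAlgebra.of R' M)
    | add z w hz hw =>
      simp only [D, map_add] at hz hw ⊢
      conv_lhs => rw [hz, hw]
    | smul r z hz =>
      have hr : F (algebraMap R' (R' ⊗[k] B) r) = algebraMap K (K ⊗[k] C) (ι r) := by
        show F (r ⊗ₜ[k] 1) = ι r ⊗ₜ[k] 1
        simp [F]
      simp only [D, Algebra.smul_def, map_mul, AlgEquiv.commutes, hr] at hz ⊢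
      conv_lhs => rw [hz]
      rw [AlgHom.commutes, Algebra.algebraMap_self, RingHom.id_apply]
  intro b
  have h := key ((Φ : R' ⊗[k] B ≃ₐ[R'] MonoidAlgebra R' M) ((1 : R') ⊗ₜ[k] b))
  rw [AlgEquiv.symm_apply_apply] at h
  have hF : F ((1 : R') ⊗ₜ[k] b) = (1 : K) ⊗ₜ[k] f b := by simp [F]
  simp only [D, hF] at h
  refine Algebra.TensorProduct.includeRight_injective (A := K) (algebraMap k K).injective ?_
  show (1 : K) ⊗ₜ[k] f b = (1 : K) ⊗ₜ[k] algebraMap k C _
  rw [h, Algebra.TensorProduct.algebraMap_apply, Bialgebra.counitAlgHom_apply, Bialgebra.counitAlgHom_apply]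
  simp [Algebra.algebraMap_eq_smul_one, TensorProduct.smul_tmul', TensorProduct.tmul_smul]

end Groth.Agent.S5432
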