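import Groth.Statements.S5425
import Groth.Agent.SGAUnipP20.Core
import Groth.Agent.S5432
import Groth.Agent.S2968
import Groth.Agent.AGFHopf.UniPrim
import Groth.Agent.AGFHopf.BC
import Groth.Agent.AGF27.SemiInv
-- import your own Groth.Agent.* helpers here

set_option autoImplicit false
universe u
open TensorProduct
open SGA3t2b

namespace Groth.Agent.S5425

open WithConv Groth.Agent.ComodLib Groth.Agent.SGAUnipP20

attribute [local instance] LieRing.ofAssociativeRing

variable {k : Type u} [Field k] {A : Type u} [CommRing A] [HopfAlgebra k A]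

theorem convPow_eq (d : A →ₗ[k] k) : ∀ n : ℕ, LieHopf.convPow d n = (toConv d ^ n).ofConv
  | 0 => by ext a; simp [LieHopf.convPow, LinearMap.convOne_apply]
  | n + 1 => by
    rw [LieHopf.convPow, convPow_eq d n, pow_succ]
    rfl

/-- The `p`-nilpotence of the Lie algebra as nilpotence in the dual algebra. -/
theorem isNilpotent_of_lie {p : ℕ}
    (h : ∀ D : LieHopf.Lie k A, ∃ n : ℕ, 0 < n ∧
      LieHopf.convPow (D.toLinearMap.restrictScalars k ∘ₗ LinearMap.id) (p ^ n) = 0)
    {y : CartDual.D k A} (hy : y ∈ derSub k A) : IsNilpotent y := by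
  let D : LieHopf.Lie k A := Derivation.mk'
    { toFun := fun a => (y.ofConv a : k)
      map_add' := fun a b => map_add y.ofConv a b
      map_smul' := fun c a => map_smul y.ofConv c a }
    fun a b => by
      show y.ofConv (a * b) = _
      rw [hy a b]
      rfl
  obtain ⟨n, -, hn⟩ := h D
  refine ⟨p ^ n, WithConv.ofConv_injective ?_⟩
  have e : (D.toLinearMap.restrictScalars k ∘ₗ LinearMap.id) = y.ofConv := LinearMap.ext fun a => rfl
  have hn' : LieHopf.convPow y.ofConv (p ^ n) = 0 := e ▸ hn
  rw [convPow_eq, WithConv.toConv_ofConv] at hn'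
  rw [hn']
  rfl

/-- Long products of derivations kill each function when every derivation is nilpotent. -/
theorem exists_words_kill (h : ∀ y ∈ derSub k A, IsNilpotent y) (a : A) :
    ∃ n, ∀ w : List (derSub k A), n ≤ w.length →
      w.foldr (fun (y : derSub k A) x => actF y.1.ofConv x) a = 0 := by
  obtain ⟨W, hWf, haW, hWs⟩ := exists_finite_subcomod_mem (k := k) (C := A) (V := A) a
  haveI := hWf
  letI cW : HopfRep.Comod k A W := ComodSub.Comod.restr (HopfRep.Comod.regular k A) W hWs
  have hsub : ∀ (φ : A →ₗ[k] k) (w : W), ((actF φ w : W) : A) = actF φ (w : A) := fun φ w =>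
    comodHom_actF (f := W.subtype) (LinearMap.ext fun x =>
      (ComodSub.restr_coact_coe (HopfRep.Comod.regular k A) W hWs x).symm) φ w
  let S : Submodule k (Module.End k W) := (derSub k A).map (convAction k A W).toLinearMap
  let 𝔤 : LieSubalgebra k (Module.End k W) :=
    { S with
      lie_mem' := by
        rintro _ _ ⟨y, hy, rfl⟩ ⟨z, hz, rfl⟩
        refine ⟨y * z - z * y, commutator_mem_derSub hy hz, ?_⟩
        simp [Ring.lie_def, map_sub, map_mul] }
  haveI : LieModule.IsNilpotent 𝔤 W := by
    refine (LieModule.isNilpotent_iff_forall (R := k)).mpr ?_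
    rintro ⟨_, y, hy, rfl⟩
    exact (h y hy).map (convAction k A W)
  obtain ⟨n, hn⟩ := (LieModule.isNilpotent_iff k 𝔤 W).mp inferInstance
  refine ⟨n, fun w hw => ?_⟩
  have key : ∀ w : List (derSub k A), ∃ x : W, (x : A) = w.foldr (fun (y : derSub k A) x => actF y.1.ofConv x) a ∧
      x ∈ LieModule.lowerCentralSeries k 𝔤 W w.length := by
    intro w
    induction w with
    | nil => exact ⟨⟨a, haW⟩, rfl, by simp⟩
    | cons y w ih =>
      obtain ⟨x, hx, hxm⟩ := ih
      refine ⟨actF y.1.ofConv x, ?_, ?_⟩
      · rw [hsub, hx]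
        rfl
      · rw [List.length_cons, LieModule.lowerCentralSeries_succ]
        exact LieSubmodule.lie_mem_lie (LieSubmodule.mem_top (⟨convAction k A W y, y, y.2, rfl⟩ : 𝔤)) hxm
  obtain ⟨x, hx, hxm⟩ := key w
  have := LieModule.antitone_lowerCentralSeries k 𝔤 W hw hxm
  rw [hn, LieSubmodule.mem_bot] at this
  rw [← hx, this]
  rfl

/-- A nilpotent Lie algebra excludes `μ_p` over every extension. -/
theorem no_mu_of_nilpotent [Algebra.FiniteType k A] (p : ℕ) [Fact p.Prime] (K : Type u) [Field K] [Algebra k K]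
    [CharP K p] (h : ∀ y ∈ derSub k A, IsNilpotent y) :
    ¬ ∃ φ : (K ⊗[k] A) →ₐc[K] MonoidAlgebra K (Multiplicative (ZMod p)), Function.Surjective φ := by
  rintro ⟨φ, hφ⟩
  have hp : p.Prime := Fact.out
  obtain ⟨w, t₀, hw, ht0, ht1, hwp⟩ := GrpSchLib.exists_deriv_muP (k := K) p
  let t : CartDual.D K (K ⊗[k] A) := toConv (w.ofConv ∘ₗ (φ : (K ⊗[k] A) →ₗ[K] MonoidAlgebra K (Multiplicative (ZMod p))))
  have hφc : ∀ z, Coalgebra.counit (R := K) (φ z) = Coalgebra.counit (R := K) z :=
    fun z => CoalgHomClass.counit_comp_apply φ z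
  have ht : t ∈ derSub K (K ⊗[k] A) := by
    intro a b
    show w.ofConv (φ (a * b)) = _
    rw [map_mul, hw, hφc, hφc]
    rfl
  have hpow : ∀ (m : ℕ) z, (t ^ m).ofConv z = (w ^ m).ofConv (φ z) := by
    intro m
    induction m with
    | zero => intro z; simp [LinearMap.convOne_apply, hφc]
    | succ m ih =>
      intro z
      rw [pow_succ, pow_succ, LinearMap.convMul_apply, LinearMap.convMul_apply, ← CoalgHomClass.map_comp_comul_apply φ]
      induction Coalgebra.comul (R := K) z using TensorProduct.induction_on with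
      | zero => simp
      | tmul a b => simp [ih, t]
      | add a b ha hb => simp only [map_add, ha, hb]
  have htw : ∀ m : ℕ, w ^ p ^ m = w := by
    intro m
    induction m with
    | zero => rw [pow_zero, pow_one]
    | succ m ih => rw [pow_succ, pow_mul, ih, hwp, one_smul]
  have htinj : ∀ z, t.ofConv z = 0 := by
    obtain ⟨d, x, L, hx, -, hexp⟩ := GradedAug.exists_dual_coords (k := k) (A := A)
    have hexpand : ∀ b : A, t.ofConv ((1 : K) ⊗ₜ[k] b) =
        ∑ i, algebraMap k K ((L i).1 b) * t.ofConv ((1 : K) ⊗ₜ[k] x i) := by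
      intro b
      have hc : ∀ u : A, Coalgebra.counit (R := K) ((1 : K) ⊗ₜ[k] u) = algebraMap k K (Coalgebra.counit (R := k) u) :=
        fun u => by simp [TensorProduct.counit_tmul, Algebra.algebraMap_eq_smul_one]
      have hsq : ∀ v ∈ Cartier0.aug k A ^ 2, t.ofConv ((1 : K) ⊗ₜ[k] v) = 0 := by
        intro v hv
        rw [pow_two] at hv
        induction hv using Submodule.mul_induction_on' with
        | mem_mul_mem u hu v hv =>
          rw [show ((1 : K) ⊗ₜ[k] (u * v)) = ((1 : K) ⊗ₜ[k] u) * ((1 : K) ⊗ₜ[k] v) by simp, ht, hc, hc,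
            show Coalgebra.counit (R := k) u = 0 from hu, show Coalgebra.counit (R := k) v = 0 from hv]
          simp
        | add u _ v _ hu hv => rw [TensorProduct.tmul_add, map_add, hu, hv, add_zero]
      have hone : t.ofConv ((1 : K) ⊗ₜ[k] (1 : A)) = 0 := GrpSchLib.deriv_apply_one ht
      have h1 := hsq _ (hexp (b - algebraMap k A (Bialgebra.counitAlgHom k A b)) (Cartier0.sub_counit_mem b))
      have hL : ∀ i, (L i).1 (b - algebraMap k A (Bialgebra.counitAlgHom k A b)) = (L i).1 b := fun i => by
        rw [map_sub, Algebra.algebraMap_eq_smul_one, map_smul, Cartier0.Tan.one, smul_zero, sub_zero]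
      simp only [hL] at h1
      simp only [TensorProduct.tmul_sub, TensorProduct.tmul_sum, map_sub, map_sum, sub_eq_zero,
        Algebra.algebraMap_eq_smul_one, TensorProduct.tmul_smul, LinearMap.map_smul_of_tower, hone, smul_zero,
        sub_zero] at h1
      rw [h1]
      exact Finset.sum_congr rfl fun i _ => Algebra.smul_def _ _
    have hkill : ∀ (m : ℕ) (b : A), (∀ v : List (derSub k A), v.length = m →
        v.foldr (fun (y : derSub k A) x => actF y.1.ofConv x) b = 0) → (t ^ m).ofConv ((1 : K) ⊗ₜ[k] b) = 0 := by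
      intro m
      induction m with
      | zero =>
        intro b hb
        have : b = 0 := hb [] rfl
        rw [this, TensorProduct.tmul_zero, map_zero]
      | succ m ih =>
        intro b hb
        have e : (t ^ (m + 1)).ofConv ((1 : K) ⊗ₜ[k] b) =
            ∑ i, t.ofConv ((1 : K) ⊗ₜ[k] x i) * (t ^ m).ofConv ((1 : K) ⊗ₜ[k] actF (L i).1 b) := by
          rw [pow_succ, LinearMap.convMul_apply, S7966.comul_one_tmul]
          simp only [actF_apply, show HopfRep.Comod.coact (k := k) (A := A) b = Coalgebra.comul (R := k) b from rfl]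
          induction Coalgebra.comul (R := k) b using TensorProduct.induction_on with
          | zero => simp
          | tmul u v =>
            simp only [TensorProduct.AlgebraTensorModule.distribBaseChange_tmul, TensorProduct.map_tmul,
              LinearMap.mul'_apply, slice_tmul]
            rw [hexpand v, Finset.mul_sum]
            refine Finset.sum_congr rfl fun i _ => ?_
            rw [TensorProduct.tmul_smul, LinearMap.map_smul_of_tower, Algebra.smul_def]
            ring
          | add u v hu hv =>
            simp only [map_add, TensorProduct.tmul_add, hu, hv, ← Finset.sum_add_distrib, mul_add]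
        rw [e]
        refine Finset.sum_eq_zero fun i _ => ?_
        rw [ih _ fun v hv => ?_, mul_zero]
        have := hb (v ++ [⟨toConv (L i).1, (L i).2⟩]) (by simp [hv])
        rwa [List.foldr_append] at this
    intro z
    induction z using TensorProduct.induction_on with
    | zero => exact map_zero _
    | add u v hu hv => rw [map_add, hu, hv, add_zero]
    | tmul c b =>
      obtain ⟨n, hn⟩ := exists_words_kill h b
      have h1 := hkill (p ^ n) b fun v hv => hn v (hv ▸ (Nat.lt_pow_self hp.one_lt).le)
      rw [hpow, htw, show w.ofConv (φ ((1 : K) ⊗ₜ[k] b)) = t.ofConv ((1 : K) ⊗ₜ[k] b) from rfl] at h1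
      rw [show c ⊗ₜ[k] b = c • ((1 : K) ⊗ₜ[k] b) by rw [TensorProduct.smul_tmul', smul_eq_mul, mul_one],
        map_smul, h1, smul_zero]
  obtain ⟨z, hz⟩ := hφ t₀
  have := htinj z
  rw [show t.ofConv z = w.ofConv (φ z) from rfl, hz, ht1] at this
  exact one_ne_zero this

/-- (i) ⟺ (iv) ⟺ (v): let k be a field of characteristic p > 0 with algebraic closure k̄, and A a
finitely generated commutative Hopf algebra over k with no idempotents other than 0 and 1 (a
connected affine algebraic group G). Then the following are equivalent: (i) G is unipotent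
(fixed-vector form); (iv) G_{k̄} contains no closed subgroup isomorphic to μ_p; (v) the Lie algebra
of G is a unipotent p-Lie algebra: for every ε-derivation D : A → k some p^n-fold convolution power
of D (n > 0) vanishes. -/
theorem result (k : Type u) [Field k] (p : ℕ) [Fact p.Prime] [CharP k p] (A : Type u) [CommRing A] [HopfAlgebra k A]
    [Algebra.FiniteType k A] (hconn : ∀ e : A, IsIdempotentElem e → e = 0 ∨ e = 1) :
    (HopfRep.IsUnipotent k A ↔
      ¬ ∃ φ : (AlgebraicClosure k ⊗[k] A) →ₐc[AlgebraicClosure k]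
        MonoidAlgebra (AlgebraicClosure k) (Multiplicative (ZMod p)), Function.Surjective φ) ∧
    (HopfRep.IsUnipotent k A ↔
      ∀ D : LieHopf.Lie k A, ∃ n : ℕ, 0 < n ∧
        LieHopf.convPow (D.toLinearMap.restrictScalars k ∘ₗ LinearMap.id) (p ^ n) = 0) := by
  haveI : CharP (AlgebraicClosure k) p := charP_of_injective_algebraMap (algebraMap k _).injective p
  have h1 : HopfRep.IsUnipotent k A → ∀ D : LieHopf.Lie k A, ∃ n : ℕ, 0 < n ∧
      LieHopf.convPow (D.toLinearMap.restrictScalars k ∘ₗ LinearMap.id) (p ^ n) = 0 :=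
    fun hU D => S2968.result p hU D
  have h2 : (∀ D : LieHopf.Lie k A, ∃ n : ℕ, 0 < n ∧
      LieHopf.convPow (D.toLinearMap.restrictScalars k ∘ₗ LinearMap.id) (p ^ n) = 0) →
      ¬ ∃ φ : (AlgebraicClosure k ⊗[k] A) →ₐc[AlgebraicClosure k]
        MonoidAlgebra (AlgebraicClosure k) (Multiplicative (ZMod p)), Function.Surjective φ :=
    fun h => no_mu_of_nilpotent p _ fun y hy => isNilpotent_of_lie h hy
  have h3 : (¬ ∃ φ : (AlgebraicClosure k ⊗[k] A) →ₐc[AlgebraicClosure k]
      MonoidAlgebra (AlgebraicClosure k) (Multiplicative (ZMod p)), Function.Surjective φ) →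
      HopfRep.IsUnipotent k A := fun h =>
    AGFHopf.isUnipotent_of_baseChange (isUnipotent_of_no_mu p
      (fun e he => S5432.idem_baseChange (Bialgebra.counitAlgHom k A) hconn _ e he) h)
  exact ⟨⟨fun hU => h2 (h1 hU), h3⟩, ⟨h1, fun h => h3 (h2 h)⟩⟩

end Groth.Agent.S5425
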