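import Groth.Statements.S5430
import Groth.Agent.MultTypeRigid18
-- import your own Groth.Agent.* helpers here

set_option autoImplicit false
universe u
open CategoryTheory MonoidalCategory CartesianMonoidalCategory MonObj GrpObj AlgebraicGeometry CategoryTheory.Limits
open SGA3x

namespace Groth.Agent.S5430

/-- Let S be a scheme and E an S-group scheme which is an extension of an S-group scheme U with
connected fibres by an S-group H of multiplicative type and of finite type: p : E → U is a
homomorphism which is surjective, flat and quasi-compact (U is the fpqc quotient E/H) and i : H → E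
is its kernel. Then the extension is central: every point of H commutes with every point of E. -/
theorem result (S : Scheme.{u}) (E H U : Over S) [GrpObj E] [GrpObj H] [GrpObj U]
    (p : E ⟶ U) [IsMonHom p] [Surjective p.left] [Flat p.left] [QuasiCompact p.left]
    (i : H ⟶ E) [IsMonHom i] (hker : AlgGrp.IsKernel i p) (hH : SGA3x.IsMultTypeFT H)
    (hU : ∀ s : S, _root_.IsConnected (U.hom.base ⁻¹' {s})) :
    ∀ (X : Over S) (h : X ⟶ H) (e : X ⟶ E), (h ≫ i) * e = e * (h ≫ i) := by
  have hcomm : ∀ {X : Over S} (a b : X ⟶ H), a * b = b * a := fun a b =>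
    Groth.Agent.GrpSchLib.MultTypeComm.points_comm hH a b
  have hexact : ∀ {X : Over S} (x : X ⟶ E), x ≫ p = 1 → ∃ a : X ⟶ H, a ≫ i = x := fun x hx =>
    ⟨hker.lift x (toUnit _) hx, hker.lift_fst _ _ _⟩
  have hip : ∀ {X : Over S} (a : X ⟶ H), (a ≫ i) ≫ p = 1 := fun a => by
    rw [Category.assoc, hker.w, ← Category.assoc, toUnit_unique (a ≫ toUnit H) (toUnit _)]
    rfl
  have hinj : ∀ {X : Over S} (a b : X ⟶ H), a ≫ i = b ≫ i → a = b := fun a b h =>
    hker.hom_ext h (toUnit_unique _ _)
  -- conjugation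
  obtain ⟨c, hc⟩ := hexact (snd H E * (fst H E ≫ i) * (snd H E)⁻¹) (by
    rw [MonObj.mul_comp, MonObj.mul_comp, GrpObj.inv_comp, hip, _root_.mul_one, mul_inv_cancel])
  have hcp : ∀ {X : Over S} (a : X ⟶ H) (e : X ⟶ E), lift a e ≫ c ≫ i = e * (a ≫ i) * e⁻¹ := fun a e => by
    rw [hc, MonObj.comp_mul, MonObj.comp_mul, GrpObj.comp_inv, lift_snd, lift_fst_assoc]
  have hcov : Groth.Agent.GrpSchLib.IsCover p := ⟨inferInstance, inferInstance, inferInstance⟩
  obtain ⟨c', hc'⟩ := Groth.Agent.AlgGrpH24.exists_desc_of_cover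
    (Groth.Agent.AlgGrpH24.IsCover.whiskerLeft hcov H) c fun W g₁ g₂ hg => by
      have e1 : g₁ ≫ fst H E = g₂ ≫ fst H E := by simpa using congrArg (· ≫ fst H U) hg
      have e2 : (g₁ ≫ snd H E) ≫ p = (g₂ ≫ snd H E) ≫ p := by simpa using congrArg (· ≫ snd H U) hg
      obtain ⟨m, hm⟩ := Groth.Agent.AlgGrpH24.exists_kernel_pt hker e2
      refine hinj _ _ ?_
      rw [show g₁ = lift (g₁ ≫ fst H E) (g₁ ≫ snd H E) by simp,
        show g₂ = lift (g₂ ≫ fst H E) (g₂ ≫ snd H E) by simp, Category.assoc, Category.assoc, hcp, hcp, ← e1,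
        ← mul_inv_cancel_left (g₁ ≫ snd H E) (g₂ ≫ snd H E), ← hm]
      have hco : (m ≫ i) * ((g₁ ≫ fst H E) ≫ i) = ((g₁ ≫ fst H E) ≫ i) * (m ≫ i) := by
        rw [← MonObj.mul_comp, hcomm, MonObj.mul_comp]
      rw [_root_.mul_inv_rev, _root_.mul_assoc (g₁ ≫ snd H E) (m ≫ i), hco, ← _root_.mul_assoc (g₁ ≫ snd H E)]
      group
  have hcp' : ∀ {X : Over S} (a : X ⟶ H) (e : X ⟶ E), lift a (e ≫ p) ≫ c' = lift a e ≫ c := fun a e => by
    rw [← hc', lift_whiskerLeft_assoc]
  -- the deviation from the identity is a family of endomorphisms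
  let d : H ⊗ U ⟶ H := c' * (fst H U)⁻¹
  have hcmul : ∀ {X : Over S} (a b : X ⟶ H) (e : X ⟶ E),
      lift (a * b) e ≫ c = (lift a e ≫ c) * (lift b e ≫ c) := fun a b e => hinj _ _ (by
    rw [MonObj.mul_comp, Category.assoc, Category.assoc, Category.assoc, hcp, hcp, hcp, MonObj.mul_comp]
    group)
  have hd : ∀ (X : Over S) (a b : X ⟶ H) (t : X ⟶ U),
      lift (a * b) t ≫ d = (lift a t ≫ d) * (lift b t ≫ d) := by
    intro X a b t
    -- pass to the covering
    have hc'mul : lift (a * b) t ≫ c' = (lift a t ≫ c') * (lift b t ≫ c') := by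
      let q : Over.mk (Limits.pullback.fst t.left p.left ≫ X.hom) ⟶ X := Over.homMk (Limits.pullback.fst t.left p.left) rfl
      let e : Over.mk (Limits.pullback.fst t.left p.left ≫ X.hom) ⟶ E :=
        Over.homMk (Limits.pullback.snd t.left p.left) (by
          show Limits.pullback.snd t.left p.left ≫ E.hom = Limits.pullback.fst t.left p.left ≫ X.hom
          rw [← Over.w p, ← Limits.pullback.condition_assoc, Over.w t])
      have he : e ≫ p = q ≫ t := Over.OverMorphism.ext Limits.pullback.condition.symm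
      haveI : Flat q.left := inferInstanceAs (Flat (Limits.pullback.fst t.left p.left))
      haveI : Surjective q.left := inferInstanceAs (Surjective (Limits.pullback.fst t.left p.left))
      haveI : QuasiCompact q.left := inferInstanceAs (QuasiCompact (Limits.pullback.fst t.left p.left))
      haveI : Epi q.left := Flat.epi_of_flat_of_surjective _
      haveI : Epi q := Over.epi_of_epi_left _
      rw [← cancel_epi q, MonObj.comp_mul, ← Category.assoc, ← Category.assoc q (lift a t),
        ← Category.assoc q (lift b t), comp_lift, comp_lift, comp_lift, MonObj.comp_mul, ← he, hcp', hcp', hcp', hcmul]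
    simp only [d, MonObj.comp_mul, GrpObj.comp_inv, lift_fst, hc'mul, _root_.mul_inv_rev]
    rw [hcomm b⁻¹ a⁻¹, mul_mul_mul_comm_of_comm hcomm]
  have hd1 : ∀ (X : Over S) (a : X ⟶ H), lift a (1 : X ⟶ U) ≫ d = 1 := fun X a => by
    have h : lift a (1 : X ⟶ U) ≫ c' = a := hinj _ _ (by
      rw [← MonObj.one_comp p, hcp', Category.assoc, hcp]
      simp)
    simp only [d, MonObj.comp_mul, GrpObj.comp_inv, lift_fst, h, mul_inv_cancel]
  have hd0 := Groth.Agent.MultTypeRigid18.family_eq_one hH hU d hd hd1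
  intro X h e
  have hce : lift h e ≫ c = h := by
    have h2 := congrArg (lift h (e ≫ p) ≫ ·) hd0
    simp only [d, MonObj.comp_mul, GrpObj.comp_inv, lift_fst, MonObj.comp_one, hcp', mul_inv_eq_one] at h2
    exact h2
  have h3 := hcp h e
  rw [← Category.assoc, hce] at h3
  exact eq_mul_inv_iff_mul_eq.mp h3
where
  mul_mul_mul_comm_of_comm {A : Type _} [Group A] (hA : ∀ a b : A, a * b = b * a) {a b c d : A} :
      (a * b) * (c * d) = (a * c) * (b * d) := by
    rw [_root_.mul_assoc, ← _root_.mul_assoc b, hA b c, _root_.mul_assoc c, ← _root_.mul_assoc]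

end Groth.Agent.S5430
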