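import Groth.Statements.S5520
import Groth.Agent.RedCell22.Generation
-- import your own Groth.Agent.* helpers here

set_option autoImplicit false
open CategoryTheory MonoidalCategory CartesianMonoidalCategory MonObj GrpObj AlgebraicGeometry
universe u
open RedSub

namespace Groth.Agent.S5520

/-- Let G be a split pinned reductive S-group (pinning D), Ω ⟶ G the big cell map of its system of
positive roots, and for each simple root a let x_a be an S-point of G_a with unit coordinate. Let
U_1 be the submonoid of G(S) generated by the sections u_a(x_a), a simple. Then the open sets u Ω, u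
∈ U_1, cover G. -/
theorem result {S : Scheme.{u}} {G : Over S} [GrpObj G] (D : Red.Pinning G)
    {n m : ℕ} (eneg : Fin n → D.idx) (epos : Fin m → D.idx)
    (hneg : RedSub.Enumerates (RedSub.negRoots D.P D.base) eneg) (hpos : RedSub.Enumerates (RedSub.posRoots D.P D.base) epos)
    (x : D.idx → (𝟙_ (Over S) ⟶ Red.Ga S)) (hx : ∀ a ∈ D.base.support, IsUnit (Red.gaFn (x a))) (p : ↥G.left) :
    ∃ w ∈ Submonoid.closure {g : 𝟙_ (Over S) ⟶ G | ∃ a ∈ D.base.support, g = x a ≫ D.u a},
      p ∈ Set.range ((toUnit _ ≫ w) * RedSub.cellMap D.toSplitRed eneg epos).left.base := by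
  haveI : IsAffineHom G.hom := RedCell22.isAffineHom_of_split D.toSplitRed
  obtain ⟨K, _, _, β, g, hg⟩ := RedCell22.exists_geom_point p
  obtain ⟨φ, hφ⟩ := RedCell22.exists_form_base D.P D.base
  let W := Submonoid.closure {g : 𝟙_ (Over S) ⟶ G | ∃ a ∈ D.base.support, g = x a ≫ D.u a}
  obtain ⟨w, hw, hO⟩ := RedCell22.exists_translate (b := β) D.base hφ W (fun a ha h y hh => by
    obtain ⟨c, hc, -, hxc⟩ := RedCell22.exists_coord_const (K := K) (x a) β (hx a ha)
    rcases RedCell22.inOmega_mul_root_unit D.base ha hφ hh y hc with h1 | h1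
    · exact ⟨1, one_mem W, by rw [MonObj.comp_one, inv_one, _root_.one_mul]; exact h1⟩
    · exact ⟨x a ≫ D.u a, Submonoid.subset_closure ⟨a, ha, rfl⟩, by rw [← Category.assoc, hxc]; exact h1⟩) g
  obtain ⟨q, hq⟩ := hO.exists_cellPt (RedCell22.negList_of_enumerates D.base hφ hneg)
    (RedCell22.posList_of_enumerates D.base hφ hpos)
  refine ⟨w, hw, ?_⟩
  rw [← hg]
  exact RedCell22.mem_range_of_lift _ q (by rw [RedCell22.comp_const_mul, hq, mul_inv_cancel_left])

end Groth.Agent.S5520
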