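import Groth.Statements.S5521
import Groth.Agent.S3951
import Groth.Agent.Red23Lib.Pinned.Conj

set_option autoImplicit false
open CategoryTheory MonoidalCategory CartesianMonoidalCategory MonObj GrpObj AlgebraicGeometry
universe u
open RedSub
open Groth.Agent Groth.Agent.Red23Lib.Pinned

namespace Groth.Agent.S5521

/-- Let G be a split reductive S-group (splitting D, root homomorphisms u_c : G_a ⟶ G), b a system of
simple roots and α, β two roots positive for b. Let e be an injective enumeration of the roots of
the form i α + j β with i, j ≥ 1, with exponents (i_k, j_k). Then there is a unique family (C_k) of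
global functions on S such that, for all points x, y of G_a (with values in any X over S), u_α(x)
u_β(y) u_α(x)⁻¹ = u_β(y) · ∏_k u_{e k}(C_k x^{i_k} y^{j_k}), the product taken in the order of e;
here a point z of G_a with coordinate C_k x^{i_k} y^{j_k} is any point whose coordinate function is
that product. -/
theorem result {S : Scheme.{u}} {G : Over S} [GrpObj G] (D : Red.SplitRed G) (b : D.P.Base)
    (α β : D.idx) (hα : α ∈ RedSub.posRoots D.P b) (hβ : β ∈ RedSub.posRoots D.P b)
    {n : ℕ} (e : Fin n → D.idx) (i j : Fin n → ℕ) (he : Function.Injective e)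
    (hij : ∀ k, 1 ≤ i k ∧ 1 ≤ j k ∧ D.P.root (e k) = (i k : ℤ) • D.P.root α + (j k : ℤ) • D.P.root β)
    (hall : ∀ (c : D.idx) (p q : ℕ), 1 ≤ p → 1 ≤ q → D.P.root c = (p : ℤ) • D.P.root α + (q : ℤ) • D.P.root β →
      c ∈ Set.range e) :
    ∃! C : Fin n → Γ(S, ⊤), ∀ (X : Over S) (x y : X ⟶ Red.Ga S) (z : Fin n → (X ⟶ Red.Ga S)),
      (∀ k, Red.gaFn (z k) = X.hom.appTop (C k) * Red.gaFn x ^ (i k) * Red.gaFn y ^ (j k)) →
        (x ≫ D.u α) * (y ≫ D.u β) * (x ≫ D.u α)⁻¹ =
          (y ≫ D.u β) * (List.ofFn (fun k => z k ≫ D.u (e k))).prod := by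
  classical
  have hax : CellAx D b := fun n m en ep hn hp => (Groth.Agent.S3951.result D b en ep hn hp).1
  have hpos : ∀ k, e k ∈ RedSub.posRoots D.P b := fun k => by
    have h := (hij k).2.2
    rw [natCast_zsmul, natCast_zsmul] at h
    exact mem_posRoots_of_comb b hα hβ h
  have hC : ∃ C : Fin n → Γ((𝟙_ (Over S)).left, ⊤), ∀ (X : Over S) (x y : Γ(X.left, ⊤)),
      up D α x * up D β y * (up D α x)⁻¹ =
        up D β y * (List.ofFn fun k => up D (e k) ((toUnit X).left.appTop (C k) * x ^ i k * y ^ j k)).prod := by
    by_cases hind : ∀ p q : ℤ, p • D.P.root α + q • D.P.root β = 0 → p = 0 ∧ q = 0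
    · refine exists_commutator hax hα hβ hind e i j he (fun k => ?_) fun c p q hp hq h => ?_
      · obtain ⟨h1, h2, h3⟩ := hij k
        exact ⟨h1, h2, by rw [h3, natCast_zsmul, natCast_zsmul]⟩
      · exact hall c p q hp hq (by rw [h, natCast_zsmul, natCast_zsmul])
    · push Not at hind
      obtain ⟨p, q, hpq, hne⟩ := hind
      obtain ⟨l, hlp, -⟩ := exists_cochar b
      have hla := hlp α hα
      have hlb := hlp β hβ
      have hp : p ≠ 0 := by
        rintro rfl
        rw [zero_smul, zero_add] at hpq
        have := congrArg l hpq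
        rw [map_zsmul, map_zero, smul_eq_mul, mul_eq_zero] at this
        exact hne rfl (this.resolve_right hlb.ne')
      have hq : q ≠ 0 := by
        rintro rfl
        rw [zero_smul, add_zero] at hpq
        have := congrArg l hpq
        rw [map_zsmul, map_zero, smul_eq_mul, mul_eq_zero] at this
        exact hp (this.resolve_right hla.ne')
      have h1 : p • D.P.root α = (-q) • D.P.root β := by rw [neg_smul]; exact eq_neg_of_add_eq_zero_left hpq
      have hab : β = α := by
        apply D.P.root.injective
        rcases Groth.Agent.RootData.proportional_cases (P := D.P) (neg_ne_zero.2 hq) h1 with E | E | E | E | E | E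
        · exact E
        · rw [E, map_neg] at hlb; omega
        · exact absurd E.symm (isIndiv_of_base b β α)
        · rw [E, map_zsmul, smul_eq_mul] at hlb; omega
        · exact absurd E.symm (isIndiv_of_base b α β)
        · rw [E, map_zsmul, smul_eq_mul] at hla; omega
      subst hab
      refine ⟨0, fun X x y => ?_⟩
      rw [List.prod_eq_one, _root_.mul_one, ← up_add, add_comm, up_add, mul_inv_cancel_right]
      intro g hg
      obtain ⟨k, rfl⟩ := (List.mem_ofFn).1 hg
      rw [Pi.zero_apply, map_zero, zero_mul, zero_mul, up_zero]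
  obtain ⟨C, hC⟩ := hC
  have hcst : ∀ (X : Over S) (c : Γ(S, ⊤)), X.hom.appTop c = (toUnit X).left.appTop c := fun X c => by
    have h : (toUnit X).left = X.hom := (Category.comp_id _).symm.trans (Over.w (toUnit X))
    rw [h]
  refine ⟨C, fun X x y z hz => ?_, fun C' hC' => ?_⟩
  · rw [up_eq D α x, up_eq D β y, hC]
    congr 2
    refine congrArg List.ofFn (funext fun k => ?_)
    rw [up_eq D (e k) (z k), hz k, hcst]
  · let X₀ : Over S := 𝟙_ (Over S)
    have h1 := hC' X₀ (GrpSchLib.GaPts.ptOfFn 1) (GrpSchLib.GaPts.ptOfFn 1)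
      (fun k => GrpSchLib.GaPts.ptOfFn (X₀.hom.appTop (C' k)))
      (fun k => by simp [GrpSchLib.GaPts.gaFn_ptOfFn])
    have h2 := hC X₀ 1 1
    have h3 := mul_left_cancel (h2.symm.trans h1)
    have h4 := prod_up_inj hax e he hpos h3
    funext k
    have h5 := congrFun h4 k
    rw [hcst] at h5
    simp only [one_pow, _root_.mul_one] at h5
    rw [show toUnit X₀ = 𝟙 X₀ from toUnit_unique _ _] at h5
    simp only [Over.id_left, Scheme.Hom.id_appTop] at h5
    exact h5.symm

end Groth.Agent.S5521
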