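import Groth.Statements.S5542
import Groth.Agent.Reduced22.WeylAct
-- import your own Groth.Agent.* helpers here

set_option autoImplicit false
open CategoryTheory MonoidalCategory CartesianMonoidalCategory MonObj GrpObj AlgebraicGeometry
universe u
open RedSub

namespace Groth.Agent.S5542

/-- The identification W_S ⥲ Norm_G(T)/T for a split group, in the following pointwise form. Let G be a
split reductive S-group (splitting D, torus T ≅ D_S(M)) and N ⟶ G the normaliser of T. Then for
every X over S whose underlying space is connected and every X-point n of N, int(n) acts on T_X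
through an element of the Weyl group: there is a word a_1 … a_k in the roots such that n t n⁻¹ is,
for every point t of T (after base change), the image of t under the automorphism of T corresponding
to the product of the reflections s_{a_1} ⋯ s_{a_k} of M. -/
theorem result {S : Scheme.{u}} {G N : Over S} [GrpObj G] [GrpObj N]
    (D : Red.SplitRed G) (j : N ⟶ G) (hN : Red.IsNormalizerOf D.i j) (X : Over S) [ConnectedSpace ↥X.left]
    (n : X ⟶ N) :
    ∃ l : List D.idx, ∀ (X' : Over S) (y : X' ⟶ X) (t : X' ⟶ D.T),
      (y ≫ n ≫ j) * (t ≫ D.i) * (y ≫ n ≫ j)⁻¹ =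
        t ≫ D.split.hom.hom.hom ≫
          Red.DSmap S ((l.map fun a => D.P.reflection a).prod : D.M ≃ₗ[ℤ] D.M).toLinearMap.toAddMonoidHom ≫
            D.split.inv.hom.hom ≫ D.i := by
  obtain ⟨x₀⟩ := (inferInstance : Nonempty ↥X.left)
  haveI : Nonempty ↥S := ⟨X.hom x₀⟩
  haveI : IsAffineHom G.hom := RedCell22.isAffineHom_of_split D
  haveI := Groth.Agent.Reduced22.isReduced_of_splitRed D
  obtain ⟨base⟩ := Groth.Agent.Reduced22.nonempty_base D.P
  obtain ⟨φ, hφ⟩ := RedCell22.exists_form_base D.P base
  choose nr hnr using D.refl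
  obtain ⟨k, ln, hln⟩ := RedCell22.exists_posList D (-φ)
  obtain ⟨m, lp, hlp⟩ := RedCell22.exists_posList D φ
  have hg : WeylAct22.NormPts D (n ≫ j) := fun X' y t =>
    (((hN.2.2 X (n ≫ j)).mp ⟨n, rfl⟩) X' y t).2
  obtain ⟨w, hw⟩ := WeylAct22.exists_acts_global base hnr hφ hln hlp hg
  refine ⟨w, fun X' y t => ?_⟩
  rw [WeylAct22.prod_reflection_eq]
  exact hw X' y t

end Groth.Agent.S5542
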