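import Groth.Statements.S5564
import Groth.Agent.Reduced22.DerivedSplitting
import Groth.Agent.Reduced22.RootBase
-- import your own Groth.Agent.* helpers here

set_option autoImplicit false
open CategoryTheory MonoidalCategory CartesianMonoidalCategory MonObj GrpObj AlgebraicGeometry
universe u
open RedSub

namespace Groth.Agent.S5564

/-- Let G be a split reductive S-group (splitting D, torus T ≅ D_S(M)), D' = dér(G) ⟶ G its derived
group and N = {m ∈ M | (α*, m) = 0 for every coroot α*}. Then (dér(G), T', M/N, R) is a splitting: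
D' admits a splitting whose character group is identified with M/N carrying root to root (through a
bijection of index sets), whose torus maps to T over the inclusion D' ⟶ G compatibly with D_S(M/N) ⟶
D_S(M), and whose root homomorphisms composed with D' ⟶ G are the u_a. -/
theorem result {S : Scheme.{u}} {G D' : Over S} [GrpObj G] [GrpObj D'] (D : Red.SplitRed G)
    (d : D' ⟶ G) [IsMonHom d]
    (hker : ∃ (C : Over S) (_ : GrpObj C) (f₀ : G ⟶ C), IsMonHom f₀ ∧ (∀ (X : Over S) (a b : X ⟶ C), a * b = b * a) ∧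
      AlgGrp.IsKernel d f₀)
    (hkill : RedSub.KilledByCommutative d)
    (N : AddSubgroup D.M) (hN : ∀ m : D.M, m ∈ N ↔ ∀ a : D.idx, D.P.coroot a m = 0) :
    ∃ (Dd : Red.SplitRed D') (τ : Dd.T ⟶ D.T) (eidx : Dd.idx ≃ D.idx) (em : Dd.M ≃+ D.M ⧸ N),
      τ ≫ D.i = Dd.i ≫ d ∧
      τ ≫ D.split.hom.hom.hom =
        Dd.split.hom.hom.hom ≫ Red.DSmap S (em.symm.toAddMonoidHom.comp (QuotientAddGroup.mk' N)) ∧
      (∀ a' : Dd.idx, em (Dd.P.root a') = QuotientAddGroup.mk' N (D.P.root (eidx a'))) ∧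
      (∀ a' : Dd.idx, Dd.u a' ≫ d = D.u (eidx a')) := by
  haveI : IsAffineHom G.hom := RedCell22.isAffineHom_of_split D
  obtain ⟨C, _, f₀, hf₀, hC, hd₀⟩ := hker
  rcases isEmpty_or_nonempty ↥S with hS | hS
  · haveI : ∀ X : Over S, IsEmpty ↥X.left := fun X => Function.isEmpty X.hom
    have hext : ∀ {X Y : Over S} (f g : X ⟶ Y), f = g := fun {X Y} f g =>
      Over.OverMorphism.ext ((Limits.IsInitial.hom_ext (isInitialOfIsEmpty (X := X.left))) _ _)
    let f : G ⟶ Red.DS S ↥N :=
      Over.homMk ((isInitialOfIsEmpty (X := G.left)).to _) ((isInitialOfIsEmpty (X := G.left)).hom_ext _ _)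
    haveI : IsMonHom f := { one_hom := hext _ _, mul_hom := hext _ _ }
    have hd : AlgGrp.IsKernel d f := ⟨⟨hext _ _⟩, ⟨Limits.PullbackCone.IsLimit.mk (hext _ _)
      (fun q => Over.homMk ((isInitialOfIsEmpty (X := q.pt.left)).to _) ((isInitialOfIsEmpty (X := q.pt.left)).hom_ext _ _))
      (fun q => hext _ _) (fun q => hext _ _) (fun q p _ _ => hext _ _)⟩⟩
    exact DerivedSplit22.exists_splitting hN D' d hd (hext _ _) (fun a => hext _ _)
      (by haveI : IsOpenImmersion D'.hom := inferInstance; infer_instance)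
      (fun s => isEmptyElim s) (fun i' _ _ s => isEmptyElim s) (fun s => isEmptyElim s)
  haveI := hf₀
  haveI := Groth.Agent.Reduced22.isReduced_of_splitRed D
  obtain ⟨base⟩ := Groth.Agent.Reduced22.nonempty_base D.P
  obtain ⟨φ, hφ, hφN⟩ := DerivedSplit22.exists_form_killing hN base
  obtain ⟨n, ln, hln⟩ := RedCell22.exists_posList D (-φ)
  obtain ⟨m, lp, hlp⟩ := RedCell22.exists_posList D φ
  obtain ⟨f, hfm, hf⟩ := RedCell22.exists_derivedHom hφ hln hlp (N := N) fun x hx => (hN x).mp hx
  haveI := hfm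
  have hd := DerivedSplit22.isKernel_derived hN base hφ hln hlp hf d hkill f₀ hC hd₀
  obtain ⟨hsm, hconn, -⟩ := DerivedKer22.kernel_props base hφ hln hlp hN hf D' d hd
  refine DerivedSplit22.exists_splitting hN D' d hd (RedCell22.torus_comp_hom hln hf) (fun a => ?_) hsm
    (fun s => DerivedSplit22.reductiveOver_fibre hN d hd base hln hf hsm hconn s)
    (fun i' _ hi' s T' _ j _ _ f' hT' hf' =>
      DerivedSplit22.maxTorus_fibre hN d hd base hφ hφN hln hf i' hi' s T' j f' hT' hf')
    (fun s => DerivedSplit22.dim_fibre_derived hN d hd base hφ hln hlp hf hsm hconn s)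
  refine RedCell22.hom_ext_of_pts fun A _ b q => ?_
  rw [← Category.assoc, ← RedCell22.gaPt_gaFn q, MonObj.comp_one]
  exact DerivedKer22.ua_killed (fun X x y => Groth.Agent.Red23Lib.Pinned.dsCh_ext fun z => by
    rw [Groth.Agent.Red23Lib.Pinned.dsCh_mul, Groth.Agent.Red23Lib.Pinned.dsCh_mul, _root_.mul_comm]) a _

end Groth.Agent.S5564
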