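import Groth.Statements.S5566
import Groth.Agent.RedCell22.RankOneCover
-- import your own Groth.Agent.* helpers here

set_option autoImplicit false
open CategoryTheory MonoidalCategory CartesianMonoidalCategory MonObj GrpObj AlgebraicGeometry
universe u
open RedSub

namespace Groth.Agent.S5566

/-- Let G be a split reductive S-group (splitting D, system of simple roots b, big cell Ω ⟶ G), a a
simple root, u_a(x) a section of U_a with x of unit coordinate, and v = u_{-a}(y) any section of
U_{-a}. Then Ω · v ⊆ Ω ∪ u_a(x) · Ω. -/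
theorem result {S : Scheme.{u}} {G : Over S} [GrpObj G] (D : Red.SplitRed G)
    (b : D.P.Base) {n m : ℕ} (eneg : Fin n → D.idx) (epos : Fin m → D.idx)
    (hneg : RedSub.Enumerates (RedSub.negRoots D.P b) eneg) (hpos : RedSub.Enumerates (RedSub.posRoots D.P b) epos)
    (a : D.idx) (ha : a ∈ b.support) (x : 𝟙_ (Over S) ⟶ Red.Ga S) (hx : IsUnit (Red.gaFn x))
    (y : 𝟙_ (Over S) ⟶ Red.Ga S) :
    Set.range (RedSub.cellMap D eneg epos * (toUnit _ ≫ y ≫ D.u (D.P.reflectionPerm a a))).left.base ⊆
      Set.range (RedSub.cellMap D eneg epos).left.base ∪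
        Set.range ((toUnit _ ≫ x ≫ D.u a) * RedSub.cellMap D eneg epos).left.base := by
  haveI : IsAffineHom G.hom := RedCell22.isAffineHom_of_split D
  rintro z ⟨z', rfl⟩
  obtain ⟨K, _, _, β, p, hp⟩ := RedCell22.exists_geom_point z'
  obtain ⟨q, hq⟩ := RedCell22.exists_lift_simple b ha hneg hpos x hx p
    (RedCell22.gs (Red.gaFn (toUnit (RedCell22.tb β K) ≫ y)))
  have e : p ≫ (RedSub.cellMap D eneg epos * (toUnit _ ≫ y ≫ D.u (D.P.reflectionPerm a a))) =
      (p ≫ RedSub.cellMap D eneg epos) * RedCell22.ua D (D.P.reflectionPerm a a)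
        (RedCell22.gs (Red.gaFn (toUnit (RedCell22.tb β K) ≫ y))) := by
    rw [MonObj.comp_mul, RedCell22.ua, RedCell22.gaPt_gaFn, ← Category.assoc, toUnit_unique (p ≫ toUnit _) (toUnit _),
      Category.assoc]
  rw [← hp]
  rcases hq with h | h
  · exact Or.inl (RedCell22.mem_range_of_lift _ q (h.trans e.symm))
  · exact Or.inr (RedCell22.mem_range_of_lift _ q (h.trans e.symm))

end Groth.Agent.S5566
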