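import Groth.Statements.S5572
import Groth.Agent.Reduced22.DerivedKer
import Groth.Agent.Reduced22.Main
import Groth.Agent.Reduced22.RootBase
-- import your own Groth.Agent.* helpers here

set_option autoImplicit false
open CategoryTheory MonoidalCategory CartesianMonoidalCategory MonObj GrpObj AlgebraicGeometry
universe u
open RedSub

namespace Groth.Agent.S5572

/-- Let G be a split reductive S-group (splitting D, T ≅ D_S(M)) and N = {m | (α*, m) = 0 for all
coroots}, so that T/T' = D_S(N). Then there is a homomorphism f : G ⟶ D_S(N) inducing on T the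
canonical projection; any kernel of f is smooth over S with connected fibres and is killed by every
homomorphism from G to a commutative S-group scheme. -/
theorem result {S : Scheme.{u}} {G : Over S} [GrpObj G] (D : Red.SplitRed G)
    (N : AddSubgroup D.M) (hN : ∀ m : D.M, m ∈ N ↔ ∀ a : D.idx, D.P.coroot a m = 0) :
    ∃ f : G ⟶ Red.DS S ↥N, IsMonHom f ∧ D.i ≫ f = D.split.hom.hom.hom ≫ Red.DSmap S N.subtype ∧
      ∀ (K : Over S) [GrpObj K] (k : K ⟶ G) [IsMonHom k], AlgGrp.IsKernel k f →
        Smooth K.hom ∧ RedSub.HasConnectedFibres K ∧ RedSub.KilledByCommutative k := by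
  haveI : IsAffineHom G.hom := RedCell22.isAffineHom_of_split D
  rcases isEmpty_or_nonempty ↥S with hS | hS
  · haveI : ∀ X : Over S, IsEmpty ↥X.left := fun X => Function.isEmpty X.hom
    have hext : ∀ {X Y : Over S} (f g : X ⟶ Y), f = g := fun {X Y} f g =>
      Over.OverMorphism.ext ((Limits.IsInitial.hom_ext (isInitialOfIsEmpty (X := X.left))) _ _)
    let f : G ⟶ Red.DS S ↥N := Over.homMk ((isInitialOfIsEmpty (X := G.left)).to _) ((isInitialOfIsEmpty (X := G.left)).hom_ext _ _)
    refine ⟨f, { one_hom := hext _ _, mul_hom := hext _ _ }, hext _ _, fun K _ k _ _ => ⟨?_, fun s => isEmptyElim s, ?_⟩⟩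
    · haveI : IsOpenImmersion K.hom := inferInstance
      infer_instance
    · intro A _ g _ _
      exact hext _ _
  haveI := Groth.Agent.Reduced22.isReduced_of_splitRed D
  obtain ⟨base⟩ := Groth.Agent.Reduced22.nonempty_base D.P
  obtain ⟨φ, hφ⟩ := RedCell22.exists_form_base D.P base
  obtain ⟨n, ln, hln⟩ := RedCell22.exists_posList D (-φ)
  obtain ⟨m, lp, hlp⟩ := RedCell22.exists_posList D φ
  obtain ⟨f, hfm, hf⟩ := RedCell22.exists_derivedHom hφ hln hlp (N := N) fun x hx => (hN x).mp hx
  haveI := hfm
  exact ⟨f, hfm, RedCell22.torus_comp_hom hln hf,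
    fun K _ k _ hk => DerivedKer22.kernel_props base hφ hln hlp hN hf K k hk⟩

end Groth.Agent.S5572
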