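import Groth.Statements.S5577
import Groth.Agent.RedCell22.DerivedCell
-- import your own Groth.Agent.* helpers here

set_option autoImplicit false
open CategoryTheory MonoidalCategory CartesianMonoidalCategory MonObj GrpObj AlgebraicGeometry
universe u
open RedSub

namespace Groth.Agent.S5577

/-- Let G be a split reductive S-group (splitting D, T ≅ D_S(M), system of simple roots b, big cell map
c : Ω ⟶ G), N = {m | (α*, m) = 0 for all coroots} and f : Ω ⟶ D_S(N) = T/T' the T-component followed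
by D_S(M) ⟶ D_S(N). Then f is generically multiplicative: there is an open V ⊆ Ω x_S Ω containing
the unit point such that for all points x, y of Ω with (x, y) in V there is a point z of Ω with c(z)
= c(x) c(y) and f(z) = f(x) f(y). -/
theorem result {S : Scheme.{u}} {G : Over S} [GrpObj G]
    (D : Red.SplitRed G) (b : D.P.Base) {n m : ℕ} (eneg : Fin n → D.idx) (epos : Fin m → D.idx)
    (hneg : RedSub.Enumerates (RedSub.negRoots D.P b) eneg) (hpos : RedSub.Enumerates (RedSub.posRoots D.P b) epos)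
    (N : AddSubgroup D.M) (hN : ∀ x : D.M, x ∈ N ↔ ∀ c : D.idx, D.P.coroot c x = 0) :
    ∃ V : Set ↥((RedSub.pow (Red.Ga S) n ⊗ (D.T ⊗ RedSub.pow (Red.Ga S) m)) ⊗ (RedSub.pow (Red.Ga S) n ⊗ (D.T ⊗ RedSub.pow (Red.Ga S) m))).left, IsOpen V ∧
      (∀ u₀ : 𝟙_ (Over S) ⟶ RedSub.pow (Red.Ga S) n ⊗ (D.T ⊗ RedSub.pow (Red.Ga S) m), u₀ ≫ RedSub.cellMap D eneg epos = 1 →
        Set.range (lift u₀ u₀).left.base ⊆ V) ∧
      ∀ (X : Over S) (x y : X ⟶ RedSub.pow (Red.Ga S) n ⊗ (D.T ⊗ RedSub.pow (Red.Ga S) m)), Set.range (lift x y).left.base ⊆ V →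
        ∃ z : X ⟶ RedSub.pow (Red.Ga S) n ⊗ (D.T ⊗ RedSub.pow (Red.Ga S) m),
          z ≫ RedSub.cellMap D eneg epos = (x ≫ RedSub.cellMap D eneg epos) * (y ≫ RedSub.cellMap D eneg epos) ∧
          z ≫ snd _ _ ≫ fst _ _ ≫ D.split.hom.hom.hom ≫ Red.DSmap S N.subtype =
            (x ≫ snd _ _ ≫ fst _ _ ≫ D.split.hom.hom.hom ≫ Red.DSmap S N.subtype) *
              (y ≫ snd _ _ ≫ fst _ _ ≫ D.split.hom.hom.hom ≫ Red.DSmap S N.subtype) := by
  haveI : IsAffineHom G.hom := RedCell22.isAffineHom_of_split D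
  obtain ⟨φ, hφ⟩ := RedCell22.exists_form_base D.P b
  have hl := RedCell22.negList_of_enumerates b hφ hneg
  have hl' := RedCell22.posList_of_enumerates b hφ hpos
  have hreg : ∀ r, φ (D.P.root r) ≠ 0 := fun r => (RedCell22.mem_posRoots_iff D.P b hφ r).2.2
  haveI := RedCell22.isOpenImmersion_cell hl hl' hreg
  obtain ⟨f, hfm, hf⟩ := RedCell22.exists_derivedHom hφ hl hl' (N := N) fun x hx => (hN x).mp hx
  haveI := hfm
  let c := RedSub.cellMap D eneg epos
  let M := (fst _ _ ≫ c) * (snd _ _ ≫ c)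
  refine ⟨M.left ⁻¹ᵁ c.left.opensRange, TopologicalSpace.Opens.isOpen _, fun u₀ hu₀ => ?_, fun X x y hxy => ?_⟩
  · have e : lift u₀ u₀ ≫ M = 1 := by
      rw [MonObj.comp_mul, ← Category.assoc, lift_fst, ← Category.assoc, lift_snd, hu₀, _root_.mul_one]
    rintro _ ⟨s, rfl⟩
    show (lift u₀ u₀ ≫ M).left.base s ∈ c.left.opensRange
    rw [e, ← hu₀]
    exact ⟨u₀.left.base s, rfl⟩
  have e : lift x y ≫ M = (x ≫ c) * (y ≫ c) := by
    rw [MonObj.comp_mul, ← Category.assoc, lift_fst, ← Category.assoc, lift_snd]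
  have hr : Set.range ((x ≫ c) * (y ≫ c)).left ⊆ Set.range c.left := by
    rw [← e]
    rintro _ ⟨s, rfl⟩
    exact hxy ⟨s, rfl⟩
  obtain ⟨z, hz⟩ := RedCell22.exists_lift_range c _ hr
  refine ⟨z, hz, ?_⟩
  show z ≫ RedCell22.cellChar D N n m = (x ≫ RedCell22.cellChar D N n m) * (y ≫ RedCell22.cellChar D N n m)
  rw [← hf, ← Category.assoc, ← Category.assoc, ← Category.assoc, hz, MonObj.mul_comp _ _ f]

end Groth.Agent.S5577
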