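import Groth.Statements.S5634
import Groth.Agent.CAlgH39.RadBound.Radical
-- import your own Groth.Agent.* helpers here

set_option autoImplicit false
universe u
open CAlg
open Groth.Agent.CAlgH39.RadBound

namespace Groth.Agent.S5634

/-- For every N there is a function R_N such that, for every field k₀, every m and every ideal I of
k₀[T_1, …, T_N] generated by polynomials of total degree ≤ m, the radical of I is generated by
polynomials of total degree ≤ R_N(m). (The published statement gives R_N as a polynomial in m; this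
row asserts only a bound depending on N and m, uniform in the field and the ideal.) -/
theorem result (N : ℕ) :
    ∃ R : ℕ → ℕ, ∀ (k₀ : Type u) [Field k₀] (m : ℕ) (S : Set (MvPolynomial (Fin N) k₀)),
      (∀ p ∈ S, p.totalDegree ≤ m) →
        ∃ S' : Set (MvPolynomial (Fin N) k₀), (∀ q ∈ S', q.totalDegree ≤ R m) ∧ Ideal.span S' = (Ideal.span S).radical := by
  classical
  have : IsNoetherianRing (ULift.{u} ℤ) := isNoetherianRing_of_ringEquiv ℤ ULift.ringEquiv.symm
  suffices h : ∀ m : ℕ, ∃ D : ℕ, ∀ (k₀ : Type u) [Field k₀] (S : Set (MvPolynomial (Fin N) k₀)),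
      (∀ p ∈ S, p.totalDegree ≤ m) →
        (Ideal.span S).radical ≤ Ideal.span {q | q.totalDegree ≤ D ∧ q ∈ (Ideal.span S).radical} by
    choose R hR using h
    exact ⟨R, fun k₀ _ m S hS => ⟨{q | q.totalDegree ≤ R m ∧ q ∈ (Ideal.span S).radical}, fun q hq => hq.1,
      le_antisymm (Ideal.span_le.2 fun q hq => hq.2) (hR m k₀ S hS)⟩⟩
  intro m
  let E := Fin N → Fin (m + 1)
  let U := Univ.{u} E N m
  obtain ⟨D, hD⟩ := exists_bound_induction (R := U)
    (fun k _ φ D => (Ideal.span (Set.range fun s : E => MvPolynomial.map φ (univPoly s))).radical ≤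
      Ideal.span {q | q.totalDegree ≤ D ∧
        q ∈ (Ideal.span (Set.range fun s : E => MvPolynomial.map φ (univPoly s))).radical})
    (fun k _ φ D D' hDD' h => h.trans (Ideal.span_mono
      (Set.ofPred_subset_ofPred.2 fun q hq => ⟨hq.1.trans hDD', hq.2⟩)))
    (fun p hp => by
      obtain ⟨c, hc, D, hD⟩ := exists_rad_spread (N := N)
        (fun s : E => MvPolynomial.map (Ideal.Quotient.mk p) (univPoly s))
      obtain ⟨c, rfl⟩ := Ideal.Quotient.mk_surjective c
      refine ⟨c, fun h => hc (Ideal.Quotient.eq_zero_iff_mem.2 h), D, fun k _ φ hφ hφc => ?_⟩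
      let φA : U ⧸ p →+* k := Ideal.Quotient.lift p φ fun x hx => hφ hx
      let _ : Algebra (U ⧸ p) k := φA.toAlgebra
      have e : ∀ s : E, MvPolynomial.map (algebraMap (U ⧸ p) k) (MvPolynomial.map (Ideal.Quotient.mk p) (univPoly s)) =
          MvPolynomial.map φ (univPoly s) := fun s => by rw [MvPolynomial.map_map]; rfl
      simpa only [e] using hD k hφc)
  refine ⟨D, fun k₀ _ S hS => ?_⟩
  -- finitely many generators
  let W := Submodule.span k₀ S
  obtain ⟨P, hP⟩ := LinearMap.exists_leftInverse_of_injective W.subtype (Submodule.ker_subtype W)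
  have hPW : ∀ w : W, P w = w := fun w => LinearMap.congr_fun hP w
  let g : E → MvPolynomial (Fin N) k₀ := fun e => (P (MvPolynomial.monomial (expo m e) 1) : W)
  have hdeg : ∀ f ∈ W, f.totalDegree ≤ m := fun f hf => (MvPolynomial.mem_restrictTotalDegree (Fin N) m f).1
    (Submodule.span_le.2 (fun x hx => (MvPolynomial.mem_restrictTotalDegree (Fin N) m x).2 (hS x hx)) hf)
  have hg : Ideal.span (Set.range g) = Ideal.span S := by
    refine le_antisymm (Ideal.span_le.2 ?_) (Ideal.span_le.2 fun x hx => ?_)
    · rintro _ ⟨e, rfl⟩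
      exact Submodule.span_le_restrictScalars k₀ _ S (P (MvPolynomial.monomial (expo m e) 1)).2
    · have hx' : (P x : MvPolynomial (Fin N) k₀) = x := congrArg Subtype.val (hPW ⟨x, Submodule.subset_span hx⟩)
      rw [SetLike.mem_coe, ← hx', ← sum_coeff_monomial x (hS x hx), map_sum, Submodule.coe_sum]
      refine Ideal.sum_mem _ fun e _ => ?_
      rw [← mul_one (MvPolynomial.coeff _ x), ← smul_eq_mul, ← MvPolynomial.smul_monomial, map_smul, SetLike.val_smul,
        MvPolynomial.smul_eq_C_mul]
      exact Ideal.mul_mem_left _ _ (Ideal.subset_span ⟨e, rfl⟩)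
  obtain ⟨φ, hφ⟩ := exists_spec k₀ g fun e => hdeg _ (P (MvPolynomial.monomial (expo m e) 1)).2
  have := hD k₀ φ
  simp only [hφ] at this
  rwa [hg] at this


end Groth.Agent.S5634
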