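import Groth.Statements.S5692
import Groth.Agent.FittX.Sheaf
-- import your own Groth.Agent.* helpers here

set_option autoImplicit false
universe u
open CategoryTheory CategoryTheory.Limits AlgebraicGeometry
open FGA

namespace Groth.Agent.S5692

/-- Let S be a locally Noetherian scheme, M a coherent module on S and r a natural number. Then there is
an immersion e : Z ⟶ S with the following universal property: for every scheme T and every morphism
g : T ⟶ S, the pullback of M along g is locally free of rank r if and only if g factors through e.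
If moreover M is generated by r sections on a neighbourhood of every point of S (equivalently all
fibres of M have rank at most r), then e is a closed immersion. -/
theorem result (S : Scheme.{u}) [IsLocallyNoetherian S]
    (M : S.Modules) (hM : Coh.IsCoh M) (r : ℕ) :
    ∃ (Z : Scheme.{u}) (e : Z ⟶ S), IsImmersion e ∧
      (∀ (T : Scheme.{u}) (g : T ⟶ S),
        FlatMod.IsFinLocFreeOfRank r ((Scheme.Modules.pullback g).obj M) ↔ ∃ g' : T ⟶ Z, g' ≫ e = g) ∧
      ((∀ s : ↥S, ∃ U : S.Opens, s ∈ U ∧ ∃ p : FlatMod.freeMod (↑U) r ⟶ M.restrict U.ι, Epi p) →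
        IsClosedImmersion e) := by
  classical
  have hq : Coh.IsQCoh M := hM.1
  have hft : CohB1.IsFT M := hM.2
  have hmono : ∀ k l : ℕ, k ≤ l → Fitt.sheafIdeal M k ≤ Fitt.sheafIdeal M l := by
    intro k l hkl V
    rw [Groth.Agent.FittX.sheafIdeal_ideal hq hft, Groth.Agent.FittX.sheafIdeal_ideal hq hft]
    haveI := Groth.Agent.QCoh.finite_of_isFT hq hft V.2
    exact Groth.Agent.FittX.ideal_mono hkl
  let U : S.Opens := (Fitt.sheafIdeal M r).support.compl
  let I : S.IdealSheafData := ⨆ k : Fin r, Fitt.sheafIdeal M k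
  let J := I.comap U.ι
  have key : ∀ (T : Scheme.{u}) (g : T ⟶ S),
      FlatMod.IsFinLocFreeOfRank r ((Scheme.Modules.pullback g).obj M) ↔
        I.comap g = ⊥ ∧ Set.range g ⊆ (U : Set S) := by
    intro T g
    rw [Groth.Agent.FittX.isFinLocFreeOfRank_iff (Groth.Agent.QCoh.isQCoh_pullback g hq)
      (Groth.Agent.FittX.isFT_pullback g hq hft)]
    simp only [← Groth.Agent.FittX.sheafIdeal_comap g hq hft]
    have hsup : (Fitt.sheafIdeal M r).comap g = ⊤ ↔ Set.range g ⊆ (U : Set S) := by
      rw [← Scheme.IdealSheafData.support_eq_bot_iff, Scheme.IdealSheafData.support_comap, ← SetLike.coe_set_eq]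
      simp only [TopologicalSpace.Closeds.coe_preimage, TopologicalSpace.Closeds.coe_bot, Set.preimage_eq_empty_iff]
      exact ⟨fun h x hx hxs => Set.disjoint_left.1 h hxs hx, fun h => Set.disjoint_left.2 fun x hxs hx => h hx hxs⟩
    refine and_congr ?_ ?_
    · simp only [I, (Scheme.IdealSheafData.map_gc g).l_iSup]
      refine ⟨fun h => eq_bot_iff.2 (iSup_le fun k => (h k k.2).le), fun h k hk => ?_⟩
      exact eq_bot_iff.2 ((le_iSup (fun j : Fin r => (Fitt.sheafIdeal M j).comap g) ⟨k, hk⟩).trans h.le)
    · rw [← hsup]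
      exact ⟨fun h => h r le_rfl, fun h k hk =>
        top_le_iff.1 (h ▸ Scheme.IdealSheafData.comap_mono g (hmono r k hk))⟩
  refine ⟨J.subscheme, J.subschemeι ≫ U.ι, inferInstance, fun T g => ?_, fun hgen => ?_⟩
  · rw [key T g]
    constructor
    · rintro ⟨hI, hU⟩
      let g₀ := IsOpenImmersion.lift U.ι g (by simpa using hU)
      have hg₀ : g₀ ≫ U.ι = g := IsOpenImmersion.lift_fac _ _ _
      have hle : J.subschemeι.ker ≤ g₀.ker := by
        rw [Scheme.IdealSheafData.ker_subschemeι, ← Scheme.IdealSheafData.map_bot g₀,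
          Scheme.IdealSheafData.le_map_iff_comap_le]
        show (I.comap U.ι).comap g₀ ≤ ⊥
        rw [← Scheme.IdealSheafData.comap_comp, hg₀, hI]
      exact ⟨IsClosedImmersion.lift J.subschemeι g₀ hle, by rw [IsClosedImmersion.lift_fac_assoc, hg₀]⟩
    · rintro ⟨g', rfl⟩
      refine ⟨?_, ?_⟩
      · rw [eq_bot_iff, ← Scheme.IdealSheafData.le_map_iff_comap_le, Scheme.IdealSheafData.map_bot]
        have h1 : J ≤ (g' ≫ J.subschemeι).ker := by
          refine le_trans ?_ (Scheme.Hom.le_ker_comp _ _)
          rw [Scheme.IdealSheafData.ker_subschemeι]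
        rw [← Scheme.IdealSheafData.map_bot, Scheme.IdealSheafData.le_map_iff_comap_le, ← Category.assoc,
          Scheme.IdealSheafData.comap_comp, ← Scheme.IdealSheafData.le_map_iff_comap_le,
          Scheme.IdealSheafData.map_bot]
        exact h1
      · rintro _ ⟨t, rfl⟩
        rw [← Category.assoc, Scheme.Hom.comp_apply]
        exact ((g' ≫ J.subschemeι) t).2
  · have hU : U = ⊤ := by
      refine top_le_iff.1 fun s _ => ?_
      exact (Groth.Agent.FittX.generated_iff hq hft s r).1 (hgen s)
    haveI : IsIso U.ι := by rw [hU]; exact inferInstanceAs (IsIso S.topIso.hom)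
    infer_instance

end Groth.Agent.S5692
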