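import Groth.Statements.S5708
import Groth.Agent.BrauerXCurve.Dim1
import Groth.Agent.BrauerXCurve.C1
import Groth.Agent.BrauerXPoint.GmPush
import Groth.Agent.VarDim.Top

set_option autoImplicit false
universe u
open CategoryTheory AlgebraicGeometry
open Dix

namespace Groth.Agent.S5708

/-- Let k be an algebraically closed field and X a reduced scheme of finite type over k of dimension at
most 1 (an algebraic curve). Then H²(X_et, G_m) = 0. (The published statement is the vanishing of
the Brauer group of Azumaya algebras, which embeds in H²(X_et, G_m); this row states the vanishing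
of H²(X_et, G_m) and assumes X reduced.) -/
theorem result (k : Type u) [Field k] [IsAlgClosed k] (X : Scheme.{u}) (f : X ⟶ Spec (CommRingCat.of k)) [LocallyOfFiniteType f] [QuasiCompact f] [IsReduced X] (hdim : topologicalKrullDim X ≤ 1) : Subsingleton (Dix.BrCoh X) := by
  classical
  have : IsLocallyNoetherian X := LocallyOfFiniteType.isLocallyNoetherian f
  have : CompactSpace X := QuasiCompact.compactSpace_of_compactSpace f
  have : AlgebraicGeometry.IsNoetherian X := { }
  have hsep : ∀ x : X, IsClosed ({x} : Set X) → IsSepClosed (X.residueField x) := fun x hx =>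
    Hensel.isSepClosed_of_ringEquiv (residueFieldIsoBase f x hx).symm.commRingCatIsoToRingEquiv
  have hC1 : ∀ x : BrauerXCurve.MaxPts X, Curves.IsCi (X.residueField x.1) 1 := fun x => by
    let := (VarDim.resHom f x.1).toAlgebra
    have h1 : VarDim.deg f x.1 ≤ 1 := by
      have h : ((VarDim.deg f x.1 : ℕ∞) : WithBot ℕ∞) ≤ 1 := by
        refine le_trans ?_ hdim
        rw [VarDim.topologicalKrullDim_eq_iSup_deg f]
        exact le_iSup (fun x => ((VarDim.deg f x : ℕ∞) : WithBot ℕ∞)) x.1
      exact_mod_cast h
    have h2 : Algebra.trdeg k (X.residueField x.1) = (VarDim.deg f x.1 : ℕ) := (VarDim.deg_eq_tdeg f x.1).symm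
    exact TsenLib.isCi_mono h1 (TsenLib.tsen_lang h2)
  refine subsingleton_of_forall_eq 0 fun ξ => ?_
  obtain ⟨N, hN, hξ⟩ := BrauerXCurve.exists_kill (⊥ : Submonoid ℕ)
    (fun x : BrauerXCurve.MaxPts X => EtLim.GmPush (X.fromSpecStalk x.1)) 1
    (BrauerXCurve.killedBy_bot_iff.2 (BrauerXCurve.subsingleton_H_supp_closedPoints hsep _
      (BrauerXCurve.isClosed_of_mem_supp_kernel hdim) 1))
    (BrauerXCurve.killedBy_bot_iff.2 (BrauerXCurve.subsingleton_H_supp_closedPoints hsep _
      (BrauerXCurve.isClosed_of_mem_supp_cokernel hdim) 0)) ξ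
    (fun x => ⟨1, one_mem _, by
      let := (BrauerXCurve.isField_stalk x.1 x.2).toField
      have := EtFound.pull_preservesFiniteLimits (X.fromSpecStalk x.1)
      let e : X.residueField x.1 ≃+* X.presheaf.stalk x.1 :=
        (RingEquiv.ofBijective (X.residue x.1).hom
          ⟨(X.residue x.1).hom.injective, X.residue_surjective x.1⟩).symm
      rw [one_smul]
      refine BrauerXPoint.hofPush_Gm_injective_two (k := X.presheaf.stalk x.1) (X.fromSpecStalk x.1) ?_
      exact (BrauerXCurve.brauer_eq_zero_of_isCi (TsenLib.isCi_of_ringEquiv e (hC1 x)) _).trans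
        (map_zero (EtLim.HofPush (X.fromSpecStalk x.1) (EtCoh.Gm (Spec (CommRingCat.of (X.presheaf.stalk x.1)))) 2)).symm⟩)
  rw [Submonoid.mem_bot.1 hN, one_smul] at hξ
  exact hξ

end Groth.Agent.S5708
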