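import Groth.Statements.S5732
import Groth.Agent.Eg2Sym.FundFrame
import Groth.Agent.RelTildeX.SheafCrit

set_option autoImplicit false
universe u
set_option backward.isDefEq.respectTransparency false
set_option backward.isDefEq.respectTransparency.types false
open CategoryTheory CategoryTheory.Limits AlgebraicGeometry TopologicalSpace Opposite
open scoped HomogeneousIdeal
open EGA2
open Groth.Agent.AModX

namespace Groth.Agent.S5732

/-- Let E be a quasi-coherent O_Y-module with graded symmetric algebra 𝒮 (j : E → 𝒮 landing in degree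
one), p : P = P(E) → Y its projective bundle with its charts over affine opens, and O_P(1) the
fundamental sheaf with its chart identifications. Let φ : E → p_*O_P(1) be the canonical map,
characterised as follows: for an affine open U and a section e of E over U, the section φ(e) of
O_P(1) over p⁻¹(U), read on the chart Proj(𝒮(U)), has value j(e)/1 at every point. Then the morphism
p^*E → O_P(1) adjoint to φ is an epimorphism. -/
theorem result {Y P : Scheme.{u}} (E : Y.Modules) (hE : Coh.IsQCoh E)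
    (𝒮 : RelProj.QCGrAlg Y) (j : E ⟶ 𝒮.toModule) (hj : RelProj.IsGrSymAlg E 𝒮 j) (p : P ⟶ Y)
    (chart : ∀ (U : Y.Opens) (hU : IsAffineOpen U), ((p ⁻¹ᵁ U : P.Opens) : Scheme.{u}) ≅ Proj (𝒮.deg U hU))
    (hP : RelProj.IsRelProj 𝒮 p chart) (O1 : P.Modules)
    (lam : ∀ (U : Y.Opens) (hU : IsAffineOpen U),
      O1 ⟶ (Scheme.Modules.pushforward (RelProj.emb p chart U hU)).obj (GrTwist.twist (𝒮.deg U hU) 1))
    (hO1 : RelProj.IsRelTwist 𝒮 p chart 1 O1 lam)
    (φ : E ⟶ (Scheme.Modules.pushforward p).obj O1)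
    (hφ : ∀ (U : Y.Opens) (hU : IsAffineOpen U) (e : Γ(E, U))
      (y : ↥(RelProj.emb p chart U hU ⁻¹ᵁ (p ⁻¹ᵁ U))),
      GrTwist.val (V := RelProj.emb p chart U hU ⁻¹ᵁ (p ⁻¹ᵁ U))
          ((lam U hU).app (p ⁻¹ᵁ U) ((φ.app U) e)) y =
        algebraMap (𝒮.presheaf.obj (op U)) (GrTwist.Loc (𝒮.deg U hU) y.1)
          ((j.app U) e : 𝒮.presheaf.obj (op U))) :
    Epi (((Scheme.Modules.pullbackPushforwardAdjunction p).homEquiv E O1).symm φ) := by
  let a := ((Scheme.Modules.pullbackPushforwardAdjunction p).homEquiv E O1).symm φ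
  have hunit : ∀ (U : Y.Opens) (e : Γ(E, U)),
      (φ.app U e : Γ(O1, p ⁻¹ᵁ U)) =
        a.app (p ⁻¹ᵁ U) (((Scheme.Modules.pullbackPushforwardAdjunction p).unit.app E).app U e) := by
    intro U e
    have h : (Scheme.Modules.pullbackPushforwardAdjunction p).unit.app E ≫
        (Scheme.Modules.pushforward p).map a = φ :=
      ((Scheme.Modules.pullbackPushforwardAdjunction p).homEquiv_unit E O1 a).symm.trans
        (Equiv.apply_symm_apply _ φ)
    exact (congrArg (fun ψ : E ⟶ (Scheme.Modules.pushforward p).obj O1 => ψ.app U e) h).symm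
  refine RelTildeX.epi_of_locally a fun W t x hx => ?_
  obtain ⟨_, ⟨U, hU, rfl⟩, hxU, -⟩ := Y.isBasis_affineOpens.exists_subset_of_mem_open
    (Set.mem_univ (p x)) isOpen_univ
  replace hU : IsAffineOpen U := hU
  obtain ⟨e, hxe⟩ := Eg2Sym.exists_mem_genOpen (chart := chart) hE hj hU x hxU
  have hV : W ⊓ Eg2Sym.genOpen j chart hU e ≤ W := inf_le_left
  have hfr := (Eg2Sym.isFrame_phi hj hO1 φ hφ hU e).exists_coord
    (inf_le_right : W ⊓ Eg2Sym.genOpen j chart hU e ≤ _) (res O1 hV t)
  obtain ⟨r, hr⟩ := hfr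
  let i : W ⊓ Eg2Sym.genOpen j chart hU e ≤ p ⁻¹ᵁ U :=
    inf_le_right.trans (Eg2Sym.genOpen_le hU e)
  refine ⟨W ⊓ Eg2Sym.genOpen j chart hU e, hV, ⟨hx, hxe⟩,
    r • res ((Scheme.Modules.pullback p).obj E) i
      (((Scheme.Modules.pullbackPushforwardAdjunction p).unit.app E).app U e), ?_⟩
  show a.app _ (r • res _ i _) = res O1 hV t
  rw [Scheme.Modules.Hom.app_smul, app_res, hr, res_res]
  congr 2
  exact (hunit U e).symm

end Groth.Agent.S5732
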