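import Groth.Statements.S5734
import Groth.Agent.Eg2Sym.Graded
import Groth.Agent.Eg2Sym.Spec
import Groth.Agent.Eg2Sym.CoprodClosed
import Groth.Agent.Proj16.RelMap
import Groth.Agent.Proj16.Map
import Groth.Agent.QCoh.Extension

set_option autoImplicit false
universe u
open CategoryTheory CategoryTheory.Limits AlgebraicGeometry TopologicalSpace Opposite
open scoped HomogeneousIdeal
open EGA2

namespace Groth.Agent.S5734

/-- Let E and F be quasi-coherent O_Y-modules with graded symmetric algebras 𝒮E, 𝒮F and let 𝒮 be the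
graded symmetric algebra of E ⊕ F; let πE : 𝒮 → 𝒮E and πF : 𝒮 → 𝒮F be the graded algebra
homomorphisms induced by the two projections of E ⊕ F (compatible with the structure maps from E ⊕
F, E and F), the irrelevant ideal of the target being generated by the image of that of the source
over every affine open (so that the induced morphisms of homogeneous spectra are everywhere
defined). Let P(E ⊕ F), P(E), P(F) be the projective bundles with their charts and hE : P(E) → P(E ⊕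
F), hF : P(F) → P(E ⊕ F) the morphisms chartwise induced by πE and πF. Then the morphism P(E) ⨿ P(F)
→ P(E ⊕ F) which restricts to hE and hF is a closed immersion: the disjoint union of P(E) and P(F)
is a closed subscheme of P(E ⊕ F). -/
theorem result {Y PE PF P : Scheme.{u}} (E F : Y.Modules)
    (hE : Coh.IsQCoh E) (hF : Coh.IsQCoh F) (𝒮E 𝒮F 𝒮 : RelProj.QCGrAlg Y)
    (jE : E ⟶ 𝒮E.toModule) (hjE : RelProj.IsGrSymAlg E 𝒮E jE)
    (jF : F ⟶ 𝒮F.toModule) (hjF : RelProj.IsGrSymAlg F 𝒮F jF)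
    (j : E ⊞ F ⟶ 𝒮.toModule) (hj : RelProj.IsGrSymAlg (E ⊞ F) 𝒮 j)
    (πE : 𝒮.toQCAlg ⟶ 𝒮E.toQCAlg) (hπE : RelProj.IsGradedHom πE)
    (hjπE : j ≫ RelSpec.QCAlg.Hom.toModuleMap πE = biprod.fst ≫ jE)
    (πF : 𝒮.toQCAlg ⟶ 𝒮F.toQCAlg) (hπF : RelProj.IsGradedHom πF)
    (hjπF : j ≫ RelSpec.QCAlg.Hom.toModuleMap πF = biprod.snd ≫ jF)
    (hirrE : ∀ (U : Y.Opens) (hU : IsAffineOpen U),
      (𝒮E.deg U hU)₊ ≤ ((𝒮.deg U hU)₊).map (RelProj.gradedHomAt πE hπE U hU))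
    (hirrF : ∀ (U : Y.Opens) (hU : IsAffineOpen U),
      (𝒮F.deg U hU)₊ ≤ ((𝒮.deg U hU)₊).map (RelProj.gradedHomAt πF hπF U hU))
    (p : P ⟶ Y) (pE : PE ⟶ Y) (pF : PF ⟶ Y)
    (chart : ∀ (U : Y.Opens) (hU : IsAffineOpen U), ((p ⁻¹ᵁ U : P.Opens) : Scheme.{u}) ≅ Proj (𝒮.deg U hU))
    (chartE : ∀ (U : Y.Opens) (hU : IsAffineOpen U), ((pE ⁻¹ᵁ U : PE.Opens) : Scheme.{u}) ≅ Proj (𝒮E.deg U hU))
    (chartF : ∀ (U : Y.Opens) (hU : IsAffineOpen U), ((pF ⁻¹ᵁ U : PF.Opens) : Scheme.{u}) ≅ Proj (𝒮F.deg U hU))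
    (hP : RelProj.IsRelProj 𝒮 p chart) (hPE : RelProj.IsRelProj 𝒮E pE chartE) (hPF : RelProj.IsRelProj 𝒮F pF chartF)
    (hE' : PE ⟶ P) (hhE : RelProj.IsRelProjMap πE hπE hirrE chart chartE hE')
    (hF' : PF ⟶ P) (hhF : RelProj.IsRelProjMap πF hπF hirrF chart chartF hF') :
    IsClosedImmersion (coprod.desc hE' hF') := by
  have hEF : Coh.IsQCoh (E ⊞ F) :=
    QCoh.isQCoh_X₂ (ShortComplex.Splitting.ofHasBinaryBiproduct E F).shortExact hE hF
  have hsE : ∀ (U : Y.Opens) (hU : IsAffineOpen U), Function.Surjective (πE.hom.app (op U)).hom :=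
    Eg2Sym.surjective_of_epi hEF hE biprod.fst (Eg2Sym.isAffSym_of_isSymAlg hE hjE.1) πE hjπE
  have hsF : ∀ (U : Y.Opens) (hU : IsAffineOpen U), Function.Surjective (πF.hom.app (op U)).hom :=
    Eg2Sym.surjective_of_epi hEF hF biprod.snd (Eg2Sym.isAffSym_of_isSymAlg hF hjF.1) πF hjπF
  have : IsClosedImmersion hE' :=
    Proj16.relProjMap_of_affineOpens hP hPE hhE @IsClosedImmersion fun U hU =>
      Proj16.isClosedImmersion_map _ _ (hsE U hU)
  have : IsClosedImmersion hF' :=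
    Proj16.relProjMap_of_affineOpens hP hPF hhF @IsClosedImmersion fun U hU =>
      Proj16.isClosedImmersion_map _ _ (hsF U hU)
  refine Eg2Sym.isClosedImmersion_coprodDesc hE' hF' fun z w hzw => ?_
  obtain ⟨_, ⟨U, hU, rfl⟩, hyU, -⟩ := Y.isBasis_affineOpens.exists_subset_of_mem_open
    (Set.mem_univ (p (hE' z))) isOpen_univ
  replace hU : IsAffineOpen U := hU
  have hz : z ∈ pE ⁻¹ᵁ U := by
    show pE z ∈ U
    rw [← Proj16.relProjMap_comp hP hPE hhE, Scheme.Hom.comp_apply]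
    exact hyU
  have hw : w ∈ pF ⁻¹ᵁ U := by
    show pF w ∈ U
    rw [← Proj16.relProjMap_comp hP hPF hhF, Scheme.Hom.comp_apply, ← hzw]
    exact hyU
  let q : ProjectiveSpectrum (𝒮E.deg U hU) := (chartE U hU).hom ⟨z, hz⟩
  let q' : ProjectiveSpectrum (𝒮F.deg U hU) := (chartF U hU).hom ⟨w, hw⟩
  let c : ProjectiveSpectrum (𝒮.deg U hU) := ProjectiveSpectrum.comap _ (hirrE U hU) q
  let c' : ProjectiveSpectrum (𝒮.deg U hU) := ProjectiveSpectrum.comap _ (hirrF U hU) q'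
  have hcc : c = c' := by
    have h1 : hE' z = ((chart U hU).inv ≫ (p ⁻¹ᵁ U).ι) c :=
      congr($(hhE U hU) ⟨z, hz⟩)
    have h2 : hF' w = ((chart U hU).inv ≫ (p ⁻¹ᵁ U).ι) c' :=
      congr($(hhF U hU) ⟨w, hw⟩)
    exact ((chart U hU).inv ≫ (p ⁻¹ᵁ U).ι).isOpenEmbedding.injective (h1.symm.trans (hzw.trans h2))
  refine c.not_irrelevant_le ?_
  show ((𝒮.deg U hU)₊).toIdeal ≤ c.asHomogeneousIdeal.toIdeal
  rw [Eg2Sym.irrelevant_eq_span hEF hj hU, Ideal.span_le]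
  rintro _ ⟨x, rfl⟩
  have memE : ∀ y, Eg2Sym.jApp (A := 𝒮.toQCAlg) j U ((biprod.inr : F ⟶ E ⊞ F).app U y) ∈
      c.asHomogeneousIdeal.toIdeal := by
    intro y
    show (πE.hom.app (op U)).hom _ ∈ q.asHomogeneousIdeal.toIdeal
    rw [← Eg2Sym.jApp_toModuleMap, hjπE]
    have h0 : (biprod.fst : E ⊞ F ⟶ E).app U ((biprod.inr : F ⟶ E ⊞ F).app U y) = 0 := by
      refine (congrArg (fun φ : F ⟶ E => φ.app U y) (biprod.inr_fst (X := E) (Y := F))).trans ?_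
      simp
    show Eg2Sym.jApp (A := 𝒮E.toQCAlg) jE U ((biprod.fst : E ⊞ F ⟶ E).app U _) ∈ _
    rw [h0, map_zero]
    exact Ideal.zero_mem _
  have memF : ∀ y, Eg2Sym.jApp (A := 𝒮.toQCAlg) j U ((biprod.inl : E ⟶ E ⊞ F).app U y) ∈
      c.asHomogeneousIdeal.toIdeal := by
    intro y
    rw [hcc]
    show (πF.hom.app (op U)).hom _ ∈ q'.asHomogeneousIdeal.toIdeal
    rw [← Eg2Sym.jApp_toModuleMap, hjπF]
    have h0 : (biprod.snd : E ⊞ F ⟶ F).app U ((biprod.inl : E ⟶ E ⊞ F).app U y) = 0 := by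
      refine (congrArg (fun φ : E ⟶ F => φ.app U y) (biprod.inl_snd (X := E) (Y := F))).trans ?_
      simp
    show Eg2Sym.jApp (A := 𝒮F.toQCAlg) jF U ((biprod.snd : E ⊞ F ⟶ F).app U _) ∈ _
    rw [h0, map_zero]
    exact Ideal.zero_mem _
  have ht : (biprod.inl : E ⟶ E ⊞ F).app U ((biprod.fst : E ⊞ F ⟶ E).app U x) +
      (biprod.inr : F ⟶ E ⊞ F).app U ((biprod.snd : E ⊞ F ⟶ F).app U x) = x :=
    congrArg (fun φ : E ⊞ F ⟶ E ⊞ F => φ.app U x) (biprod.total (X := E) (Y := F))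
  rw [← ht, map_add]
  exact Ideal.add_mem _ (memF _) (memE _)

end Groth.Agent.S5734
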