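import Groth.Statements.S5759
import Groth.Agent.LC.DepthLoc
import Groth.Agent.LC.ExtDim
import Groth.Agent.S5752
import Mathlib.RingTheory.KrullDimension.Regular

set_option autoImplicit false
universe u
open EGA41

namespace Groth.Agent.S5759

theorem aux (A : Type u) [CommRing A] [IsLocalRing A] [IsNoetherianRing A] : ∀ (D : ℕ) (M : Type u) [AddCommGroup M]
    [Module A M] [Module.Finite A M] [Nontrivial M], Module.supportDim A M = (D : WithBot ℕ∞) →
    (∀ xs : List A, (∀ x ∈ xs, x ∈ IsLocalRing.maximalIdeal A) →
      Module.supportDim A (M ⧸ (Ideal.ofList xs • (⊤ : Submodule A M))) + xs.length = Module.supportDim A M →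
        ∀ p ∈ associatedPrimes A (M ⧸ (Ideal.ofList xs • (⊤ : Submodule A M))),
          ringKrullDim (A ⧸ p) = Module.supportDim A (M ⧸ (Ideal.ofList xs • (⊤ : Submodule A M)))) →
    LocCoh.IsCohenMacaulayModule A M := by
  intro D
  induction D with
  | zero =>
    intro M _ _ _ _ hD _
    have h1 := LC.depth_le_supportDim (R := A) (M := M)
    rw [hD] at h1
    have h2 : LocCoh.depth A M = 0 := nonpos_iff_eq_zero.1 (WithBot.coe_le_coe.1 h1)
    show Module.supportDim A M = _
    rw [hD, h2]
    rfl
  | succ D ih =>
    intro M _ _ _ _ hD h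
    have hm : IsLocalRing.maximalIdeal A ∉ associatedPrimes A M := by
      intro hm
      let e : (M ⧸ (Ideal.ofList ([] : List A) • (⊤ : Submodule A M))) ≃ₗ[A] M :=
        Submodule.quotEquivOfEqBot _ (by rw [Ideal.ofList_nil, Submodule.bot_smul])
      have h0 := h [] (by simp) (by rw [Module.supportDim_eq_of_equiv e]; simp) (IsLocalRing.maximalIdeal A)
        (by rw [LinearEquiv.AssociatedPrimes.eq e]; exact hm)
      rw [Module.supportDim_eq_of_equiv e, hD, (letI := Ideal.Quotient.field (IsLocalRing.maximalIdeal A); ringKrullDim_eq_zero_of_field (A ⧸ IsLocalRing.maximalIdeal A))] at h0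
      exact absurd (by exact_mod_cast h0 : (0 : ℕ) = D + 1) (by omega)
    have hdep : LocCoh.depth A M ≠ 0 := fun h0 => hm ((Groth.Agent.S5752.result A M).1 h0)
    obtain ⟨x, hx, hreg⟩ : ∃ x ∈ IsLocalRing.maximalIdeal A, IsSMulRegular M x := by
      by_contra hcon
      push Not at hcon
      exact hdep (LC.idealDepth_eq_zero_of_forall _ (LC.smul_top_ne_top_of_le_maximal le_rfl) hcon)
    have hdim : Module.supportDim A (QuotSMulTop x M) + 1 = Module.supportDim A M :=
      Module.supportDim_quotSMulTop_succ_eq_supportDim hreg hx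
    have : Nontrivial (QuotSMulTop x M) := by
      rw [← not_subsingleton_iff_nontrivial]
      intro hs
      rw [Module.supportDim_eq_bot_of_subsingleton, WithBot.bot_add, hD] at hdim
      exact WithBot.bot_ne_coe hdim
    have hD' : Module.supportDim A (QuotSMulTop x M) = (D : WithBot ℕ∞) := by
      obtain ⟨q, hq⟩ := LC.exists_supportDim_eq_nat (R := A) (QuotSMulTop x M)
      rw [hq, hD] at hdim
      rw [hq]
      have : q + 1 = D + 1 := by exact_mod_cast hdim
      exact_mod_cast (by omega : q = D)
    have hcm := ih (QuotSMulTop x M) hD' fun ys hys hlen p hp => by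
      let e := Submodule.quotOfListConsSMulTopEquivQuotSMulTopInner M x ys
      rw [← LinearEquiv.AssociatedPrimes.eq e] at hp
      rw [← Module.supportDim_eq_of_equiv e] at hlen ⊢
      refine h (x :: ys) (List.forall_mem_cons.2 ⟨hx, hys⟩) ?_ p hp
      rw [List.length_cons, Nat.cast_succ, ← add_assoc, hlen, hdim]
    have h3 := LC.idealDepth_quotSMulTop_add_one (I := IsLocalRing.maximalIdeal A) (M := M) hx hreg
    show Module.supportDim A M = ((LocCoh.depth A M : ℕ∞) : WithBot ℕ∞)
    rw [← hdim, hcm, LocCoh.depth, LocCoh.depth, ← h3, WithBot.coe_add]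
    rfl


/-- Let A be a Noetherian local ring and M a nonzero finitely generated A-module. Suppose that for every
sequence x_1, ..., x_r of elements of the maximal ideal which is part of a system of parameters for
M (i.e. dim(M/(x_1 M + ... + x_r M)) = dim(M) - r), every associated prime p of N = M/(x_1 M + ... +
x_r M) satisfies dim(A/p) = dim(N). Then M is a Cohen-Macaulay module. (The published convention
also counts the zero module as Cohen-Macaulay; this row assumes M nonzero.) -/
theorem result (A : Type u) [CommRing A]
    [IsLocalRing A] [IsNoetherianRing A] (M : Type u) [AddCommGroup M] [Module A M] [Module.Finite A M]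
    [Nontrivial M]
    (h : ∀ xs : List A, (∀ x ∈ xs, x ∈ IsLocalRing.maximalIdeal A) →
      Module.supportDim A (M ⧸ (Ideal.ofList xs • (⊤ : Submodule A M))) + xs.length = Module.supportDim A M →
        ∀ p ∈ associatedPrimes A (M ⧸ (Ideal.ofList xs • (⊤ : Submodule A M))),
          ringKrullDim (A ⧸ p) = Module.supportDim A (M ⧸ (Ideal.ofList xs • (⊤ : Submodule A M)))) :
    LocCoh.IsCohenMacaulayModule A M := by
  obtain ⟨D, hD⟩ := LC.exists_supportDim_eq_nat (R := A) M
  exact aux A D M hD h

end Groth.Agent.S5759
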