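import Groth.Statements.S5760
import Groth.Agent.LC.DepthLoc
import Groth.Agent.LC.CdDim
import Groth.Agent.LC.ExtDim
import Groth.Agent.LC.TopDim3

set_option autoImplicit false
universe u
open EGA41

namespace Groth.Agent.S5760

/-- Let A be a Noetherian local ring, M a nonzero finitely generated Cohen-Macaulay A-module, p a prime
ideal in the support of M and r the integer dim(M) - dim(M/pM). Then there exists an M-regular
sequence x_1, ..., x_r of elements of p; for every such sequence, dim(M/(x_1 M + ... + x_r M)) =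
dim(M/pM) = dim(A/p), and p is a minimal element of the set of associated primes of M/(x_1 M + ... +
x_r M). -/
theorem result (A : Type u) [CommRing A]
    [IsLocalRing A] [IsNoetherianRing A] (M : Type u) [AddCommGroup M] [Module A M] [Module.Finite A M]
    (hM : LocCoh.IsCohenMacaulayModule A M) (p : PrimeSpectrum A) (hp : p ∈ Module.support A M) (r : ℕ)
    (hr : Module.supportDim A (M ⧸ (p.asIdeal • (⊤ : Submodule A M))) + r = Module.supportDim A M) :
    (∃ xs : List A, xs.length = r ∧ (∀ x ∈ xs, x ∈ p.asIdeal) ∧ RingTheory.Sequence.IsWeaklyRegular M xs) ∧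
      ∀ xs : List A, xs.length = r → (∀ x ∈ xs, x ∈ p.asIdeal) → RingTheory.Sequence.IsWeaklyRegular M xs →
        Module.supportDim A (M ⧸ (Ideal.ofList xs • (⊤ : Submodule A M))) =
            Module.supportDim A (M ⧸ (p.asIdeal • (⊤ : Submodule A M))) ∧
          Module.supportDim A (M ⧸ (p.asIdeal • (⊤ : Submodule A M))) = ringKrullDim (A ⧸ p.asIdeal) ∧
          p.asIdeal ∈ associatedPrimes A (M ⧸ (Ideal.ofList xs • (⊤ : Submodule A M))) ∧
          ∀ q ∈ associatedPrimes A (M ⧸ (Ideal.ofList xs • (⊤ : Submodule A M))), q ≤ p.asIdeal → q = p.asIdeal := by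
  have := LC.nontrivial_of_isCM M hM
  have hpm : p.asIdeal ≤ IsLocalRing.maximalIdeal A := IsLocalRing.le_maximalIdeal p.isPrime.ne_top
  have hpsmul := LC.smul_top_ne_top_of_le_maximal (M := M) hpm
  have hsum := LC.supportDim_eq_add_idealDepth M hM p.isPrime.ne_top
  have : Nontrivial (M ⧸ (p.asIdeal • (⊤ : Submodule A M))) := Submodule.Quotient.nontrivial_iff.2 hpsmul
  obtain ⟨d, hd⟩ := LC.exists_supportDim_eq_nat (R := A) (M ⧸ (p.asIdeal • (⊤ : Submodule A M)))
  obtain ⟨rs, hrs, hrsp, hn⟩ := LC.exists_idealDepth_eq_length p.asIdeal (M := M) hpsmul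
  have hlen : rs.length = r := by
    rw [hn, ← hr, hd] at hsum
    have h' : d + r = d + rs.length := by exact_mod_cast hsum
    omega
  refine ⟨⟨rs, hlen, hrsp, hrs⟩, fun xs hlx hxp hreg => ?_⟩
  have hxm : ∀ x ∈ xs, x ∈ IsLocalRing.maximalIdeal A := fun x hx => hpm (hxp x hx)
  have hN := LC.isCM_quot_ofList M hM hreg hxm
  have := LC.nontrivial_quot_ofList (M := M) (LC.ofList_le (IsLocalRing.maximalIdeal A) hxm)
  have hJ : Ideal.ofList xs ≠ ⊤ := fun h => (IsLocalRing.maximalIdeal.isMaximal A).ne_top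
    (top_le_iff.1 (h.ge.trans (LC.ofList_le _ hxm)))
  have h1 := LC.supportDim_eq_add_idealDepth M hM hJ
  rw [(LC.idealDepth_ofList_eq_length_iff xs hxm).2 hreg, hlx, ← hr, hd] at h1
  obtain ⟨q, hq⟩ := LC.exists_supportDim_eq_nat (R := A) (M ⧸ (Ideal.ofList xs • (⊤ : Submodule A M)))
  have hqd : q = d := by
    rw [hq] at h1
    have h' : d + r = q + r := by exact_mod_cast h1
    omega
  have hd' : Module.supportDim A (M ⧸ (p.asIdeal • (⊤ : Submodule A M))) = ringKrullDim (A ⧸ p.asIdeal) := by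
    rw [Module.supportDim, Module.support_quotient, ringKrullDim_quotient]
    have hset : Module.support A M ∩ PrimeSpectrum.zeroLocus (p.asIdeal : Set A) =
        PrimeSpectrum.zeroLocus (p.asIdeal : Set A) := Set.inter_eq_right.2 fun z hz => by
      rw [Module.mem_support_iff_of_finite] at hp ⊢
      exact hp.trans hz
    rw [hset]
  refine ⟨by rw [hq, hd, hqd], hd', ?_, ?_⟩
  · have hpN : p ∈ Module.support A (M ⧸ (Ideal.ofList xs • (⊤ : Submodule A M))) := by
      rw [Module.support_quotient]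
      exact ⟨hp, (LC.ofList_le p.asIdeal hxp : (Ideal.ofList xs : Set A) ⊆ p.asIdeal)⟩
    rw [Module.mem_support_iff_of_finite] at hpN
    obtain ⟨p₀, hp₀, hle⟩ := Ideal.exists_minimalPrimes_le hpN
    have hass := Module.associatedPrimes.minimalPrimes_annihilator_subset_associatedPrimes A _ hp₀
    have hp₀' : p₀.IsPrime := hp₀.1.1
    have hco := LC.coheight_eq_of_ass_of_isCM _ hN (p := ⟨p₀, hp₀'⟩) hass
    rcases hle.eq_or_lt with heq | hlt
    · exact heq ▸ hass
    exfalso
    have hlt' : (⟨p₀, hp₀'⟩ : PrimeSpectrum A) < p := hlt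
    have h2 := LC.coheight_eq_ringKrullDim_quotient p
    rw [← hd', hd, ← hqd, ← hq, ← hco] at h2
    have h3 : Order.coheight p + 1 ≤ Order.coheight (⟨p₀, hp₀'⟩ : PrimeSpectrum A) := LC.coheight_add_one_le hlt'
    have h2' : Order.coheight p = Order.coheight (⟨p₀, hp₀'⟩ : PrimeSpectrum A) := WithBot.coe_eq_coe.1 h2
    have h4 : Order.coheight p = (q : ℕ∞) := WithBot.coe_eq_coe.1 ((congrArg _ h2').trans (hco.trans hq))
    rw [← h2', h4] at h3
    exact absurd (by exact_mod_cast h3 : q + 1 ≤ q) (by omega)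
  · intro z hz hle
    rcases hle.eq_or_lt with heq | hlt
    · exact heq
    exfalso
    have hz' : z.IsPrime := hz.isPrime
    have hco := LC.coheight_eq_of_ass_of_isCM _ hN (p := ⟨z, hz'⟩) hz
    have hlt' : (⟨z, hz'⟩ : PrimeSpectrum A) < p := hlt
    have h2 := LC.coheight_eq_ringKrullDim_quotient p
    rw [← hd', hd, ← hqd, ← hq, ← hco] at h2
    have h3 : Order.coheight p + 1 ≤ Order.coheight (⟨z, hz'⟩ : PrimeSpectrum A) := LC.coheight_add_one_le hlt'
    have h2' : Order.coheight p = Order.coheight (⟨z, hz'⟩ : PrimeSpectrum A) := WithBot.coe_eq_coe.1 h2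
    have h4 : Order.coheight p = (q : ℕ∞) := WithBot.coe_eq_coe.1 ((congrArg _ h2').trans (hco.trans hq))
    rw [← h2', h4] at h3
    exact absurd (by exact_mod_cast h3 : q + 1 ≤ q) (by omega)

end Groth.Agent.S5760
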