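import Groth.Statements.S5782
import Groth.Agent.E4Basics.PdQuot

set_option autoImplicit false
universe u
open CategoryTheory
open EGA41

namespace Groth.Agent.S5782

/-- Let A be a Noetherian local ring with maximal ideal m, E a finitely generated A-module of finite
projective dimension, and a ∈ m an element which is A-regular and E-regular. Then E/aE, as a module
over A/aA, has finite projective dimension at most the projective dimension of E over A. -/
theorem result (A : Type u) [CommRing A] [IsLocalRing A]
    [IsNoetherianRing A] (E : Type u) [AddCommGroup E] [Module A E] [Module.Finite A E]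
    (hfin : projectiveDimension (ModuleCat.of A E) ≠ ⊤) (a : A) (ha : a ∈ IsLocalRing.maximalIdeal A)
    (hA : IsSMulRegular A a) (hE : IsSMulRegular E a) :
    projectiveDimension (ModuleCat.of (A ⧸ Ideal.span {a}) (E ⧸ (Ideal.span {a} • (⊤ : Submodule A E)))) ≤
      projectiveDimension (ModuleCat.of A E) := by
  generalize hp : projectiveDimension (ModuleCat.of A E) = p at hfin
  induction p with
  | bot =>
    haveI := (E4Basics.pdim_eq_bot_iff E).1 hp
    exact le_of_eq ((E4Basics.pdim_eq_bot_iff _).2 inferInstance)
  | coe c =>
    induction c with
    | top => exact absurd rfl hfin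
    | coe n =>
      exact (E4Basics.pdim_le_iff _ n).2
        (E4Basics.pdLE_quot a hA n E hE ((E4Basics.pdim_le_iff E n).1 hp.le))

end Groth.Agent.S5782
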