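import Groth.Statements.S5783
import Groth.Agent.S2604
import Groth.Agent.CMOpen5.Params
import Groth.Agent.VarDim.Basic
import Groth.Agent.CotTLib.CI

set_option autoImplicit false
universe u
open EGA41

namespace Groth.Agent.S5783

/-- Let A be a regular local ring, B a local ring and ρ : A → B a local homomorphism making B a finitely
generated A-module. Then B is a free A-module if and only if B is a Cohen-Macaulay ring and ρ is
injective (the latter being equivalent to dim(B) = dim(A)). -/
theorem result (A B : Type u) [CommRing A] [CommRing B]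
    [IsRegularLocalRing A] [IsLocalRing B] [Algebra A B] [IsLocalHom (algebraMap A B)] [Module.Finite A B] :
    Module.Free A B ↔ LocCoh.IsCohenMacaulayLocalRing B ∧ Function.Injective (algebraMap A B) := by
  haveI : IsNoetherianRing B := IsNoetherianRing.of_finite A B
  let m := IsLocalRing.maximalIdeal A
  haveI : Module.Finite (A ⧸ m) (B ⧸ m.map (algebraMap A B)) := Module.Finite.of_restrictScalars_finite A _ _
  haveI : IsArtinianRing (B ⧸ m.map (algebraMap A B)) := by
    letI := Ideal.Quotient.field m
    exact IsArtinianRing.of_finite (A ⧸ m) _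
  constructor
  · intro hfree
    have hinj : Function.Injective (algebraMap A B) := by
      haveI : FaithfulSMul A B := inferInstance
      exact FaithfulSMul.algebraMap_injective A B
    refine ⟨⟨?_⟩, hinj⟩
    haveI : Nontrivial (EGA4.FibRing A B) := Ideal.Quotient.nontrivial_iff.2 fun h =>
      (IsLocalRing.maximalIdeal.isMaximal B).ne_top (top_le_iff.1 (h ▸
        (((IsLocalRing.local_hom_TFAE (algebraMap A B)).out 0 2).mp ‹_› :
          (IsLocalRing.maximalIdeal A).map (algebraMap A B) ≤ _)))
    haveI : IsLocalRing (EGA4.FibRing A B) := .of_surjective' (Ideal.Quotient.mk _) Ideal.Quotient.mk_surjective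
    haveI : Nontrivial (EGA4.FibMod A B B) := FlatLoc6.nontrivial_quot_mN B
    have h0 : LocCoh.IsCohenMacaulayModule (EGA4.FibRing A B) (EGA4.FibMod A B B) := by
      have h1 := LC.depth_le_supportDim (R := EGA4.FibRing A B) (EGA4.FibMod A B B)
      have h2 := Module.supportDim_le_ringKrullDim (EGA4.FibRing A B) (EGA4.FibMod A B B)
      rw [show ringKrullDim (EGA4.FibRing A B) = 0 from ringKrullDimZero_iff_ringKrullDim_eq_zero.1
        (show Ring.KrullDimLE 0 (EGA4.FibRing A B) from
          (isArtinianRing_iff_isNoetherianRing_krullDimLE_zero.1 ‹_›).2)] at h2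
      obtain ⟨d, hd⟩ := LC.exists_supportDim_eq_nat (R := EGA4.FibRing A B) (EGA4.FibMod A B B)
      obtain ⟨e, he⟩ := LC.exists_depth_eq_nat (R := EGA4.FibRing A B) (EGA4.FibMod A B B)
      unfold LocCoh.IsCohenMacaulayModule
      rw [hd, he] at h1 ⊢
      rw [hd] at h2
      norm_cast at h1 h2 ⊢
      omega
    have h := (S2604.result A B A B).2 ⟨CotTLib.isCM_of_isRegularLocalRing A, h0⟩
    have e := TensorProduct.AlgebraTensorModule.rid A B B
    unfold LocCoh.IsCohenMacaulayModule at h
    rwa [Module.supportDim_eq_of_equiv e, Hensel.depth_congr e] at h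
  · rintro ⟨hCM, hinj⟩
    haveI : FaithfulSMul A B := (faithfulSMul_iff_algebraMap_injective A B).2 hinj
    obtain ⟨T, hcard, hspan⟩ :=
      (IsNoetherian.noetherian (IsLocalRing.maximalIdeal A)).exists_span_finset_card_eq_spanFinrank
    let t : Fin T.card → A := fun i => (T.equivFin.symm i : A)
    have hr : Set.range t = (T : Set A) := by
      rw [show t = Subtype.val ∘ T.equivFin.symm from rfl, Set.range_comp, Equiv.range_eq_univ, Set.image_univ,
        Subtype.range_coe_subtype]
      rfl
    have ht : IsLocalRing.maximalIdeal A = Ideal.span (Set.range t) := by rw [hr]; exact hspan.symm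
    haveI := CMOpen5.flat_of_params hCM t ht (by
        rw [hcard, VarDim.ringKrullDim_eq_of_isIntegral (R := A) (S := B), IsRegularLocalRing.spanFinrank_maximalIdeal])
      fun Q hQ hQt => ?_
    · exact Module.free_of_flat_of_isLocalRing
    · have hle : IsLocalRing.maximalIdeal A ≤ Q.comap (algebraMap A B) := by
        rw [ht, Ideal.span_le]
        rintro _ ⟨i, rfl⟩
        exact hQt i
      haveI : (Q.comap (algebraMap A B)).IsPrime := hQ.comap _
      have hmax : (Q.comap (algebraMap A B)).IsMaximal :=
        IsLocalRing.maximalIdeal.isMaximal A |>.eq_of_le (Ideal.IsPrime.ne_top inferInstance) hle ▸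
          IsLocalRing.maximalIdeal.isMaximal A
      exact IsLocalRing.eq_maximalIdeal (Ideal.isMaximal_of_isIntegral_of_isMaximal_comap Q hmax)

end Groth.Agent.S5783
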