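import Groth.Statements.S5808
import Groth.Agent.E4Basics.SemiDim

set_option autoImplicit false
universe u
open EGA41

namespace Groth.Agent.S5808

open Groth.Agent.E4Basics in
theorem aux (A : Type u) [CommRing A] [IsNoetherianRing A] [Finite (MaximalSpectrum A)] (a : Ideal A) (ha : a ≠ ⊤)
    (h : ℕ) (hh : a.height = h) : ∀ i ≤ h, ∃ xs : List A, xs.length = i ∧ (∀ x ∈ xs, x ∈ a ∧ x ∈ Ring.jacobson A) ∧
      Module.supportDim A (A ⧸ (Ideal.ofList xs • (⊤ : Submodule A A))) + i = Module.supportDim A A ∧
      ∀ q : Ideal A, q.IsPrime → Ideal.ofList xs ≤ q → ∀ p : Ideal A, p.IsPrime → a ≤ p → q ≤ p →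
        (i : ℕ∞) ≤ q.height := by
  classical
  have : Nontrivial A := by
    by_contra hn
    rw [not_nontrivial_iff_subsingleton] at hn
    exact ha (Subsingleton.elim _ _)
  intro i
  induction i with
  | zero =>
    intro _
    refine ⟨[], rfl, by simp, ?_, fun _ _ _ _ _ _ _ => by simp⟩
    rw [Module.supportDim_eq_of_equiv (Submodule.quotEquivOfEqBot _
      (by rw [Ideal.ofList_nil, Submodule.bot_smul]) : (A ⧸ (Ideal.ofList ([] : List A) • (⊤ : Submodule A A))) ≃ₗ[A] A)]
    simp
  | succ i ih =>
    intro hi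
    obtain ⟨xs, hlen, hxs, hdim, hht⟩ := ih (by omega)
    let J := Ideal.ofList xs
    have hJ : (Ideal.ofList xs • (⊤ : Submodule A A)) = J := Ideal.mul_top _
    have hfin := Ideal.finite_minimalPrimes_of_isNoetherianRing A J
    let S := hfin.toFinset.filter fun q => ¬ q.IsMaximal ∧ ¬ a ≤ q
    obtain ⟨x, hxa, hxj, hxS⟩ : ∃ x ∈ a, x ∈ Ring.jacobson A ∧ ∀ q ∈ S, x ∉ q := by
      by_contra hcon
      push Not at hcon
      have hsub : ((a ⊓ Ring.jacobson A : Ideal A) : Set A) ⊆ ⋃ q ∈ (S : Set (Ideal A)), (q : Set A) := fun y hy => by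
        obtain ⟨q, hq, hyq⟩ := hcon y hy.1 hy.2
        exact Set.mem_iUnion₂.mpr ⟨q, hq, hyq⟩
      obtain ⟨q, hq, hle⟩ := (Ideal.subset_union_prime ⊤ ⊤
        (fun q hq _ _ => (hfin.mem_toFinset.mp (Finset.mem_filter.mp hq).1).1.1)).mp hsub
      haveI hqp : q.IsPrime := (hfin.mem_toFinset.mp (Finset.mem_filter.mp hq).1).1.1
      rcases hqp.inf_le.1 hle with h1 | h1
      · exact (Finset.mem_filter.mp hq).2.2 h1
      · exact (Finset.mem_filter.mp hq).2.1 (HSLib.isMaximal_of_jacobson_le h1)
    -- minimal primes of `J` below a prime containing `a` are neither maximal nor contain `a`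
    have hkey : ∀ q ∈ J.minimalPrimes, a ≤ q → False := fun q hq haq => by
      haveI : q.IsPrime := hq.1.1
      have h1 : a.height ≤ q.height := Ideal.height_mono haq
      have h2 : q.height ≤ (i : ℕ∞) := by
        refine (Ideal.height_le_spanRank_toENat_of_mem_minimal_primes _ _ hq).trans ?_
        refine (OrderHomClass.mono Cardinal.toENat (Submodule.spanRank_span_le_card _)).trans ?_
        have hset : {r | r ∈ xs} = (xs.toFinset : Set A) := by ext z; simp
        rw [hset]; simp only [Finset.coe_sort_coe, Cardinal.mk_coe_finset, Cardinal.toENat_nat]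
        exact_mod_cast (List.toFinset_card_le xs).trans hlen.le
      rw [hh] at h1
      have : h ≤ i := by exact_mod_cast h1.trans h2
      omega
    refine ⟨x :: xs, by simp [hlen], List.forall_mem_cons.2 ⟨⟨hxa, hxj⟩, hxs⟩, ?_, ?_⟩
    · obtain ⟨D, hD⟩ := exists_supportDim_eq_nat (A := A) A
      have hnt := nontrivial_quot_ofList (A := A) A (xs := xs) fun z hz => (hxs z hz).2
      obtain ⟨d, hd⟩ := exists_supportDim_eq_nat (A := A) (A ⧸ (Ideal.ofList xs • (⊤ : Submodule A A)))
      have hdi : d + i = D := by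
        rw [hd, hD] at hdim
        exact_mod_cast hdim
      have hDh : h ≤ D := by
        have h1 := Ideal.height_le_ringKrullDim_of_ne_top ha
        rw [hh, ← Module.supportDim_self_eq_ringKrullDim, hD] at h1
        exact_mod_cast h1
      have hone : Module.supportDim A (QuotSMulTop x (A ⧸ (Ideal.ofList xs • (⊤ : Submodule A A)))) + 1 =
          Module.supportDim A (A ⧸ (Ideal.ofList xs • (⊤ : Submodule A A))) := by
        refine (supportDim_quot_add_one_eq_iff _ hxj).2 fun p hp hpd hxp => ?_
        rw [Module.mem_support_iff_of_finite, hJ, Ideal.annihilator_quotient] at hp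
        obtain ⟨q, hq, hqp⟩ := Ideal.exists_minimalPrimes_le hp
        let q' : PrimeSpectrum A := ⟨q, hq.1.1⟩
        have hqs : q' ∈ Module.support A (A ⧸ (Ideal.ofList xs • (⊤ : Submodule A A))) := by
          rw [Module.mem_support_iff_of_finite, hJ, Ideal.annihilator_quotient]
          exact hq.1.2
        have hqe : q = p.asIdeal := by
          rcases hqp.eq_or_lt with heq | hlt
          · exact heq
          exfalso
          have h1 := LC.coheight_le_supportDim hqs
          rw [hd] at h1
          rw [← LC.coheight_eq_ringKrullDim_quotient, hd] at hpd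
          have h2 : Order.coheight p = (d : ℕ∞) := WithBot.coe_eq_coe.1 hpd
          have h3 := (LC.coheight_add_one_le (show q' < p from hlt)).trans (WithBot.coe_le_coe.1 h1)
          rw [h2] at h3
          exact absurd (by exact_mod_cast h3 : d + 1 ≤ d) (by omega)
        subst hqe
        refine hxS _ (Finset.mem_filter.2 ⟨hfin.mem_toFinset.2 hq, fun hm => ?_, fun haq => hkey _ hq haq⟩) hxp
        rw [(letI := Ideal.Quotient.field p.asIdeal; ringKrullDim_eq_zero_of_field (A ⧸ p.asIdeal)), hd] at hpd
        have : 0 = d := by exact_mod_cast hpd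
        omega
      rw [Module.supportDim_eq_of_equiv (Submodule.quotOfListConsSMulTopEquivQuotSMulTopOuter A x xs)]
      rw [Nat.cast_succ, add_comm (i : WithBot ℕ∞) 1, ← add_assoc, hone, hdim]
    · intro q hqp hq p hpp hap hqle
      rw [Ideal.ofList_cons, sup_le_iff, Ideal.span_singleton_le_iff_mem] at hq
      obtain ⟨q₀, hq₀, hle⟩ := Ideal.exists_minimalPrimes_le hq.2
      have hnmax : ¬ q₀.IsMaximal := fun hm => hkey q₀ hq₀ (by
        rw [hm.eq_of_le hpp.ne_top (hle.trans hqle)]; exact hap)
      have hnot := hxS q₀ (Finset.mem_filter.2 ⟨hfin.mem_toFinset.2 hq₀, hnmax, fun haq => hkey q₀ hq₀ haq⟩)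
      have hlt : q₀ < q := lt_of_le_of_ne hle fun he => hnot (he ▸ hq.1)
      haveI := hq₀.1.1
      have h1 := hht q₀ hq₀.1.1 hq₀.1.2 p hpp hap (hle.trans hqle)
      have h2 := Ideal.height_add_one_le_of_lt_of_isPrime hlt
      push_cast
      exact (add_le_add h1 le_rfl).trans h2


/-- Let A be a semi-local Noetherian ring with spectrum X and Jacobson radical r, and a an ideal of A
distinct from A with codim(V(a), X) = h > 0 (h is the height of a). Then there exist h elements x_1,
..., x_h of a which are part of a system of parameters of A (so lie in r and can be completed by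
elements of r to dim(A) elements generating an ideal modulo which A has finite length) and such that
codim(V(a), V(x_1 A + ... + x_h A)) = 0, i.e. the image of a in A/(x_1 A + ... + x_h A) has height
0. -/
theorem result (A : Type u) [CommRing A] [IsNoetherianRing A]
    [Finite (MaximalSpectrum A)] (a : Ideal A) (ha : a ≠ ⊤) (h : ℕ) (hh : a.height = h) (hpos : 0 < h) :
    ∃ x : Fin h → A, (∀ i, x i ∈ a) ∧ (∀ i, x i ∈ Ring.jacobson A) ∧
      (∃ ys : List A, (∀ y ∈ ys, y ∈ Ring.jacobson A) ∧
        (((h + ys.length : ℕ) : ℕ∞) : WithBot ℕ∞) = ringKrullDim A ∧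
        IsFiniteLength A (A ⧸ (Ideal.span (Set.range x) ⊔ Ideal.ofList ys))) ∧
      (a.map (Ideal.Quotient.mk (Ideal.span (Set.range x)))).height = 0 := by
  obtain ⟨xs, hlen, hxs, hdim, hht⟩ := aux A a ha h hh h le_rfl
  have : Nontrivial A := by
    by_contra hn
    rw [not_nontrivial_iff_subsingleton] at hn
    exact ha (Subsingleton.elim _ _)
  subst hlen
  have hJ : Ideal.span (Set.range xs.get) = Ideal.ofList xs := by
    rw [Set.range_list_get]
  refine ⟨xs.get, fun i => (hxs _ (List.get_mem xs i)).1, fun i => (hxs _ (List.get_mem xs i)).2, ?_, ?_⟩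
  · obtain ⟨ys, hys, hl, hfl⟩ :=
      (Groth.Agent.E4Basics.supportDim_quot_add_length_eq_iff A xs fun z hz => (hxs z hz).2).1 hdim
    refine ⟨ys, hys, ?_, ?_⟩
    · rw [Module.supportDim_self_eq_ringKrullDim, List.length_append] at hl
      rw [← hl]
      rfl
    · rw [Groth.Agent.E4Basics.isFiniteLength_iff_supportDim_le_zero] at hfl ⊢
      rw [Ideal.smul_eq_mul, Ideal.mul_top] at hfl
      rw [hJ, ← Ideal.ofList_append]
      exact hfl
  · obtain ⟨p, hpp, hap, hph⟩ := Ideal.exists_isPrime_height_eq hh
    rw [hJ]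
    have hJa : Ideal.ofList xs ≤ a := Ideal.span_le.2 fun z hz => (hxs z hz).1
    have hmap : (p.map (Ideal.Quotient.mk (Ideal.ofList xs))).IsPrime :=
      Ideal.map_isPrime_of_surjective Ideal.Quotient.mk_surjective (by rw [Ideal.mk_ker]; exact hJa.trans hap)
    refine nonpos_iff_eq_zero.1 ((Ideal.height_mono (Ideal.map_mono hap)).trans (le_of_eq ?_))
    rw [Ideal.height_eq_zero_iff]
    refine ⟨⟨hmap, bot_le⟩, fun Q hQ hQle => ?_⟩
    have hQp := hQ.1
    let q := Q.comap (Ideal.Quotient.mk (Ideal.ofList xs))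
    have hqJ : Ideal.ofList xs ≤ q := by
      intro z hz
      show Ideal.Quotient.mk _ z ∈ Q
      rw [Ideal.Quotient.eq_zero_iff_mem.2 hz]
      exact zero_mem _
    have hqp : q ≤ p := by
      refine (Ideal.comap_mono hQle).trans ?_
      rw [Ideal.comap_map_of_surjective _ Ideal.Quotient.mk_surjective]
      exact sup_le le_rfl (by
        rw [← RingHom.ker_eq_comap_bot, Ideal.mk_ker]; exact hJa.trans hap)
    have h1 := hht q inferInstance hqJ p hpp hap hqp
    have heq : q = p := by
      haveI : q.IsPrime := inferInstance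
      refine Ideal.eq_of_le_of_height_le (I := q) (J := p) hqp ?_
      rw [hph]; exact h1
    rw [show Q = q.map (Ideal.Quotient.mk (Ideal.ofList xs)) from
      (Ideal.map_comap_of_surjective _ Ideal.Quotient.mk_surjective Q).symm, heq]

end Groth.Agent.S5808
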