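import Groth.Statements.S5811
import Groth.Agent.CplFib6.Quot
import Groth.Agent.MorLib.UnramLocus
import Groth.Agent.S19474

set_option autoImplicit false
universe u
open EGA41

namespace Groth.Agent.S5811

theorem dim_completion (A : Type u) [CommRing A] [IsNoetherianRing A] [Finite (MaximalSpectrum A)] (I : Ideal A) :
    ringKrullDim (AdicCompletion (Ring.jacobson A) A ⧸ I.map (algebraMap A (AdicCompletion (Ring.jacobson A) A))) =
      ringKrullDim (A ⧸ I) := by
  let J := Ring.jacobson A
  let B := AdicCompletion J A
  have hfg : J.FG := IsNoetherian.noetherian J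
  haveI := AdicCompletion.isAdicComplete_self J hfg
  haveI : IsNoetherianRing (B ⧸ J.map (algebraMap A B)) := by
    have e : (B ⧸ J.map (algebraMap A B)) ≃+* (A ⧸ J) :=
      (Ideal.quotEquivOfEq (AdicCompletion.ker_evalOneₐ_eq_map J hfg).symm).trans
        (RingHom.quotientKerEquivOfSurjective (f := (AdicCompletion.evalOneₐ J).toRingHom)
          (AdicCompletion.evalOneₐ_surjective J))
    exact isNoetherianRing_of_ringEquiv _ e.symm
  haveI : IsNoetherianRing B :=
    Groth.Agent.LocalCrit.isNoetherianRing_of_isAdicComplete (J.map (algebraMap A B)) (hfg.map _)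
  haveI : Module.Flat A B := AdicCompletion.flat_of_isNoetherian J
  let C := A ⧸ I
  let D := B ⧸ I.map (algebraMap A B)
  haveI : Module.Flat C D := Groth.Agent.CplFib6.flat_quot I
  have hjac : J.map (algebraMap A B) ≤ (⊥ : Ideal B).jacobson := IsAdicComplete.le_jacobson_bot _
  have hsurj : ∀ b : B, ∃ a : A, b - algebraMap A B a ∈ J.map (algebraMap A B) := fun b => by
    obtain ⟨a, ha⟩ := Ideal.Quotient.mk_surjective ((AdicCompletion.evalOneₐ J) b)
    refine ⟨a, ?_⟩
    rw [← AdicCompletion.ker_evalOneₐ_eq_map J hfg, RingHom.mem_ker]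
    show AdicCompletion.evalOneₐ J (b - algebraMap A B a) = 0
    rw [map_sub, ← ha, ← AdicCompletion.evalOneₐ_comp_algebraMap_eq_mk]
    exact sub_self _
  -- maximal ideals of `B` are extended from `A`
  have hmaxB : ∀ n : Ideal B, n.IsMaximal →
      (n.comap (algebraMap A B)).IsMaximal ∧ (n.comap (algebraMap A B)).map (algebraMap A B) = n := by
    intro n hn
    have hJn : J.map (algebraMap A B) ≤ n :=
      hjac.trans (sInf_le ⟨bot_le, hn⟩)
    have hmA : (n.comap (algebraMap A B)).IsMaximal := by
      have hs : Function.Surjective ((Ideal.Quotient.mk n).comp (algebraMap A B)) := fun z => by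
        obtain ⟨b, rfl⟩ := Ideal.Quotient.mk_surjective z
        obtain ⟨a, ha⟩ := hsurj b
        exact ⟨a, (Ideal.Quotient.eq.2 (hJn ha)).symm⟩
      letI := Ideal.Quotient.field n
      have := RingHom.ker_isMaximal_of_surjective _ hs
      rwa [← RingHom.comap_ker, Ideal.mk_ker] at this
    have hle : J ≤ n.comap (algebraMap A B) := fun a ha => hJn (Ideal.mem_map_of_mem _ ha)
    exact ⟨hmA, (AdicCompletion.isMaximal_map_of_le J _ hle hfg).eq_of_le hn.ne_top Ideal.map_comap_le⟩
  have halg : ∀ a : A, algebraMap C D (Ideal.Quotient.mk I a) = Ideal.Quotient.mk _ (algebraMap A B a) := fun _ => rfl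
  -- heights
  have key : ∀ N : Ideal D, N.IsMaximal → (N.comap (algebraMap C D)).IsMaximal ∧
      N.height = (N.comap (algebraMap C D)).height := by
    intro N hN
    let n := N.comap (Ideal.Quotient.mk (I.map (algebraMap A B)))
    have hn : n.IsMaximal := Ideal.comap_isMaximal_of_surjective _ Ideal.Quotient.mk_surjective
    obtain ⟨hmA, hmn⟩ := hmaxB n hn
    let m := N.comap (algebraMap C D)
    have hmC : m.comap (Ideal.Quotient.mk I) = n.comap (algebraMap A B) := Ideal.ext fun a => by
      simp only [m, n, Ideal.mem_comap, halg]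
    have hm : m.IsMaximal := by
      rw [← Ideal.map_comap_of_surjective _ Ideal.Quotient.mk_surjective m, hmC]
      refine Ideal.IsMaximal.map_of_surjective_of_ker_le Ideal.Quotient.mk_surjective ?_
      rw [← hmC]
      exact fun a ha => by rw [Ideal.mem_comap, RingHom.mem_ker.1 ha]; exact zero_mem _
    refine ⟨hm, ?_⟩
    haveI : N.LiesOver m := ⟨rfl⟩
    have hext : m.map (algebraMap C D) = N := by
      refine le_antisymm Ideal.map_comap_le ?_
      rw [← Ideal.map_comap_of_surjective _ Ideal.Quotient.mk_surjective N]
      refine Ideal.map_le_iff_le_comap.2 ?_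
      refine hmn.ge.trans (Ideal.map_le_iff_le_comap.2 fun a ha => ?_)
      rw [← hmC, Ideal.mem_comap] at ha
      rw [Ideal.mem_comap, Ideal.mem_comap, ← halg]
      exact Ideal.mem_map_of_mem _ ha
    have h := Ideal.height_eq_height_add_of_liesOver_of_hasGoingDown m N
    haveI : Nontrivial (D ⧸ m.map (algebraMap C D)) := Ideal.Quotient.nontrivial_iff.2 (hext ▸ hN.ne_top)
    have hbot : N.map (Ideal.Quotient.mk (m.map (algebraMap C D))) = ⊥ := by
      rw [hext, Ideal.map_quotient_self]
    rwa [hbot, Ideal.height_bot, add_zero] at h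
  refine le_antisymm ((ringKrullDim_le_iff_isMaximal_height_le _).2 fun N hN => ?_)
    ((ringKrullDim_le_iff_isMaximal_height_le _).2 fun m hm => ?_)
  · rw [(key N hN).2]
    exact Ideal.height_le_ringKrullDim_of_ne_top (key N hN).1.ne_top
  · let mA := m.comap (Ideal.Quotient.mk I)
    have hmA : mA.IsMaximal := Ideal.comap_isMaximal_of_surjective _ Ideal.Quotient.mk_surjective
    have hle : J ≤ mA := fun a ha => by
      rw [show J = Ring.jacobson A from rfl, Ring.jacobson_eq_sInf_isMaximal] at ha
      exact Submodule.mem_sInf.1 ha mA hmA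
    have hn := AdicCompletion.isMaximal_map_of_le J mA hle hfg
    have hIle : I.map (algebraMap A B) ≤ mA.map (algebraMap A B) := Ideal.map_mono fun a ha => by
      rw [Ideal.mem_comap, Ideal.Quotient.eq_zero_iff_mem.2 ha]
      exact zero_mem _
    have hN : ((mA.map (algebraMap A B)).map (Ideal.Quotient.mk (I.map (algebraMap A B)))).IsMaximal :=
      Ideal.IsMaximal.map_of_surjective_of_ker_le Ideal.Quotient.mk_surjective (by rwa [Ideal.mk_ker])
    obtain ⟨hm', hh⟩ := key _ hN
    have heq : m = ((mA.map (algebraMap A B)).map (Ideal.Quotient.mk (I.map (algebraMap A B)))).comap (algebraMap C D) := by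
      refine hm.eq_of_le hm'.ne_top fun c hc => ?_
      obtain ⟨a, rfl⟩ := Ideal.Quotient.mk_surjective c
      rw [Ideal.mem_comap, halg]
      exact Ideal.mem_map_of_mem _ (Ideal.mem_map_of_mem _ hc)
    rw [heq, ← hh]
    exact Ideal.height_le_ringKrullDim_of_ne_top hN.ne_top


/-- Let A be a semi-local Noetherian ring (finitely many maximal ideals) with Jacobson radical r, M a
finitely generated A-module, and write Â and M̂ for the r-adic completions of A and M. Then
dim_Â(M̂) = dim_A(M), the dimension of a module being the Krull dimension of its support. (For M = 0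
both sides are ⊥.) -/
theorem result (A : Type u) [CommRing A] [IsNoetherianRing A]
    [Finite (MaximalSpectrum A)] (M : Type u) [AddCommGroup M] [Module A M] [Module.Finite A M] :
    Module.supportDim (AdicCompletion (Ring.jacobson A) A) (AdicCompletion (Ring.jacobson A) M) =
      Module.supportDim A M := by
  let B := AdicCompletion (Ring.jacobson A) A
  let e := AdicCompletion.ofTensorProductEquivOfFiniteNoetherian (Ring.jacobson A) M
  rw [← Module.supportDim_eq_of_equiv e]
  have hs : Module.support B (TensorProduct A B M) =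
      PrimeSpectrum.zeroLocus (((Module.annihilator A M).map (algebraMap A B) : Ideal B) : Set B) := by
    ext q
    rw [Groth.Agent.MorLib.UnrLocus.support_baseChange_iff, Module.mem_support_iff_of_finite, PrimeSpectrum.mem_zeroLocus,
      SetLike.coe_subset_coe, Ideal.map_le_iff_le_comap]
    rfl
  rw [Module.supportDim, hs, ← ringKrullDim_quotient, dim_completion,
    Module.supportDim_eq_ringKrullDim_quotient_annihilator]

end Groth.Agent.S5811
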