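import Groth.Statements.S5868
import Groth.Agent.Der55.Hull.Scheme
import Groth.Agent.ZClosLib.CohLocus
import Groth.Agent.SecFin.Normal

set_option autoImplicit false
universe u
open ZClos

namespace Groth.Agent.S5868

open CategoryTheory CategoryTheory.Limits AlgebraicGeometry in
/-- d) ⇒ a), second sufficient condition: let X be a locally Noetherian scheme, Z a subset of X stable
under specialization and F a coherent O_X-module none of whose associated points lies in Z. Assume
that for every affine open V of X with ring A and every associated point x of F in V, with prime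
ideal p ⊂ A, the domain A/p is universally catenary and N-1 (its integral closure is a finite
module); that is, the reduced closed subschemes on the closures of the associated points of F are
universally catenary with finite normalization. If, for a directed family of closed subsets T of X
contained in Z and covering Z, each direct image i_*(F|X∖T) is coherent, then H⁰_{X/Z}(F) is
coherent. (The published statement also allows, in place of the condition on the closures of the
associated points, that X be locally immersible in a regular scheme; this row omits that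
alternative.) -/
theorem result (X : Scheme.{u}) [IsLocallyNoetherian X] (Z : Set X)
    (hZ : StableUnderSpecialization Z) (F : X.Modules) (hF : Coh.IsCoh F)
    (hass : ∀ x ∈ AssSch.Ass F, x ∉ Z)
    (hX : ∀ (V : X.Opens) (hV : IsAffineOpen V) (x : X) (hxV : x ∈ V), x ∈ AssSch.Ass F →
        CAlg.IsUniversallyCatenary (Γ(X, V) ⧸ (hV.primeIdealOf ⟨x, hxV⟩).asIdeal) ∧
          CAlg.IsN1 (Γ(X, V) ⧸ (hV.primeIdealOf ⟨x, hxV⟩).asIdeal))
    (𝒯 : Set (ZClos.Cl Z)) (hdir : DirectedOn (· ≤ ·) 𝒯) (hcov : ∀ z ∈ Z, ∃ T ∈ 𝒯, z ∈ (T.1 : Set X))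
    (hd : ∀ T ∈ 𝒯, Coh.IsCoh ((ZClos.resPush T.U).obj F)) :
    Coh.IsCoh ((ZClos.H0 Z).obj F) := by
  refine QCoh.isCoh_iff.2 ⟨ZClosLib.isQCoh_H0 (Z := Z) hF.1, fun V => ?_⟩
  refine Der55.Hull.finite_sections_H0 hF hZ V.2 (RingEquiv.refl _) fun p hp _ => ?_
  obtain ⟨x, hx, hxp⟩ := QCoh.exists_point V.2 p
  have hxF : x ∈ AssSch.Ass F := (AssLib.mem_ass_iff hF.1 V.2 hx).2 (by rw [hxp]; exact hp)
  subst hxp
  obtain ⟨huc, hn1⟩ := hX V.1 V.2 x hx hxF
  haveI : IsNoetherianRing Γ(X, V.1) := IsLocallyNoetherian.component_noetherian V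
  refine ⟨SecFin.heightOneHullFinite _ huc hn1, fun q hq hle => ?_⟩
  obtain ⟨y, hy, hyZ, hqy⟩ := hq
  have hqy' : q.asIdeal = (V.2.primeIdealOf ⟨y, hy⟩).asIdeal := hqy
  rw [hqy'] at hle ⊢
  obtain ⟨T, hT, hyT⟩ := hcov y hyZ
  let T' : ZClos.Cl (T.1 : Set X) := ⟨T.1, Set.Subset.refl _⟩
  have hH : Coh.IsCoh ((ZClos.H0 (T.1 : Set X)).obj F) := by
    haveI : IsIso (ZClosLib.toH0 (T.1 : Set X) F T') :=
      isIso_ι_of_isTerminal (IsTerminal.ofUniqueHom
        (fun A => homOfLE (show A ≤ T' from A.2)) fun A m => Subsingleton.elim _ _) _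
    exact QCoh.isCoh_of_mono (inv (ZClosLib.toH0 (T.1 : Set X) F T')) (hd T hT) (ZClosLib.isQCoh_H0 hF.1)
  have hsp : x ⤳ y := (AssLib.primeIdealOf_le_iff V.2 hy hx).1 hle
  exact Der55.Hull.two_le_height_of_dim V.2 hx hy hsp
    (ZClosLib.two_le_dim_quot hF.1 hH T.1.isClosed.stableUnderSpecialization hxF
      (fun h => hass x hxF (T.2 h)) hyT hsp)

end Groth.Agent.S5868
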