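import Groth.Statements.S5926
import Groth.Agent.FlatDvrVC5.UnivOpenFlat
import Groth.Agent.UnivOpen.SectionUnivOpen

set_option autoImplicit false
set_option linter.style.haveILetI false
set_option backward.isDefEq.respectTransparency false
set_option backward.isDefEq.respectTransparency.types false
open CategoryTheory AlgebraicGeometry
universe u
open EGA43

namespace Groth.Agent.S5926

/-- Let Y be a reduced locally Noetherian scheme, f : X ⟶ Y a morphism locally of finite type with a
section g : Y ⟶ X, X_y^0 the connected component of f⁻¹(y) containing g y, and suppose every X_y^0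
is geometrically irreducible over κ(y) (its preimage in the base change of X_y to any field
extension K of κ(y) is irreducible). Let x₀ be a point of X lying in X_{y₀}^0, y₀ = f x₀. If y ↦ dim
X_y^0 is constant on a neighbourhood of y₀ and the fibre f⁻¹(y₀) is geometrically reduced at x₀,
then f is flat at x₀. -/
theorem result {X Y : Scheme.{u}} [IsLocallyNoetherian Y]
    [IsReduced Y] (f : X ⟶ Y) [LocallyOfFiniteType f] (g : Y ⟶ X) (hg : g ≫ f = 𝟙 Y)
    (hirr : ∀ y : Y, (∀ (K : Type u) [Field K] [Algebra (IsLocalRing.ResidueField (Y.presheaf.stalk y)) K],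
        IsIrreducible ((FBase.bcπ (f.fiberToSpecResidueField y) K ≫ f.fiberι y).base ⁻¹' connectedComponentIn (f.base ⁻¹' {y}) (g.base y))))
    (x₀ : X) (hx₀ : x₀ ∈ MoreMor.sectionComponents f g)
    (hconst : (∃ V ∈ nhds (f.base x₀), ∀ z ∈ V, topologicalKrullDim ↥(connectedComponentIn (f.base ⁻¹' {z}) (g.base z)) = topologicalKrullDim ↥(connectedComponentIn (f.base ⁻¹' {(f.base x₀)}) (g.base (f.base x₀)))))
    (hred : FBase.IsGeomReducedAt (f.fiberToSpecResidueField (f.base x₀)) (f.asFiber x₀)) :
    (f.stalkMap x₀).hom.Flat := by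
  obtain ⟨V, hV, hVc⟩ := hconst
  refine FlatDvrVC5.flat_stalkMap_of_univOpen f x₀ (fun z hz _ => ?_) hred inferInstance
  refine UnivOpen.isUnivOpenAt_sectionComponent f hg hirr (y := f.base x₀)
    (fun y' hy' => (hVc y' (mem_of_mem_nhds (hy' hV))).ge) ?_
  have hzx : f.fiberι (f.base x₀) z ⤳ x₀ := by
    have := (specializes_iff_mem_closure.2 hz).map (f.fiberι (f.base x₀)).continuous
    rwa [Scheme.Hom.fiberι_asFiber] at this
  have hfz : f.base (f.fiberι (f.base x₀) z) = f.base x₀ := FlatDvr.fiberι_apply_eq f z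
  have hsub : ({f.fiberι (f.base x₀) z, x₀} : Set X) ⊆ f.base ⁻¹' {f.base x₀} :=
    Set.insert_subset_iff.2 ⟨hfz, Set.singleton_subset_iff.2 rfl⟩
  have hpre : _root_.IsPreconnected ({f.fiberι (f.base x₀) z, x₀} : Set X) :=
    isPreconnected_singleton.subset_closure (s := {f.fiberι (f.base x₀) z}) (by simp)
      (Set.insert_subset_iff.2 ⟨subset_closure rfl, Set.singleton_subset_iff.2 (specializes_iff_mem_closure.1 hzx)⟩)
  have hx₀' : x₀ ∈ connectedComponentIn (f.base ⁻¹' {f.base x₀}) (g.base (f.base x₀)) := hx₀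
  rw [connectedComponentIn_eq hx₀']
  exact hpre.subset_connectedComponentIn (by simp) hsub (by simp)
end Groth.Agent.S5926
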