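import Groth.Statements.S5933
import Groth.Agent.Ega43Prop.GeomNormal

set_option autoImplicit false
set_option linter.style.haveILetI false
set_option backward.isDefEq.respectTransparency false
set_option backward.isDefEq.respectTransparency.types false
open CategoryTheory AlgebraicGeometry
universe u
open EGA43

namespace Groth.Agent.S5933

/-- Let f : X ⟶ Y be a proper, flat morphism of finite presentation. The set of points y of Y whose
fibre X_y is geometrically normal over κ(y) — for every point x of X_y, every finite field extension
K of κ(y) and every point x' over x of the base change of X_y to K, the local ring at x' is an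
integrally closed domain — is open in Y. -/
theorem result {X Y : Scheme.{u}} (f : X ⟶ Y) [IsProper f] [Flat f]
    [LocallyOfFinitePresentation f] :
    IsOpen {y : Y | ∀ x : ↥(f.fiber y), (∀ (K : Type u) [Field K] [Algebra (IsLocalRing.ResidueField (Y.presheaf.stalk y)) K],
        Module.Finite (IsLocalRing.ResidueField (Y.presheaf.stalk y)) K →
        ∀ x' : ↥(FBase.bc (f.fiberToSpecResidueField y) K),
          (FBase.bcπ (f.fiberToSpecResidueField y) K).base x' = x →
          IsDomain ((FBase.bc (f.fiberToSpecResidueField y) K).presheaf.stalk x') ∧
            IsIntegrallyClosed ((FBase.bc (f.fiberToSpecResidueField y) K).presheaf.stalk x'))} := by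
  convert Ega43Prop.isOpen_base_forall f f.isClosedMap (Ega43Prop.isOpen_flat_geomNormal f) using 1
  ext y
  refine forall_congr' fun w => ?_
  obtain ⟨x, hx⟩ : ∃ x, f.fiberι y w = x := ⟨_, rfl⟩
  obtain rfl : f x = y := by rw [← hx]; exact FibDim.fiber_apply_fiberι f w
  obtain rfl : w = f.asFiber x := (f.fiberι (f x)).isEmbedding.injective (by rw [hx, f.fiberι_asFiber x])
  rw [f.fiberι_asFiber x]
  exact (Ega43Prop.geomNormal_iff f x (Flat.stalkMap f x)).trans (and_iff_right (Flat.stalkMap f x)).symm
end Groth.Agent.S5933
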