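import Groth.Statements.S5947
import Groth.Agent.Synt29.OmegaExtend
-- import your own Groth.Agent.* helpers here

set_option autoImplicit false
universe u
open CategoryTheory AlgebraicGeometry TopologicalSpace Opposite
open Nrm16

namespace Groth.Agent.S5947

/-- Let A be a commutative ring, B an A-algebra and L a B-module; put S = Spec A, X = Spec B and let F
be the O_X-module associated with L. For an S-derivation D of O_X into F write Γ(D) : B → L for its
effect on global sections (global sections of O_X and of F being identified with B and L by the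
canonical isomorphisms). Then D ↦ Γ(D) is a bijection from the set of S-derivations of O_X into F
onto the set of A-derivations of B into L: every Γ(D) is an A-derivation, and every A-derivation of
B into L is Γ(D) for exactly one D. (The published statement asserts an isomorphism of B-modules; no
module structure is placed on sheaf derivations here, so this row states the bijection.) -/
theorem result (A B : Type u) [CommRing A] [CommRing B] [Algebra A B]
    (L : Type u) [AddCommGroup L] [Module B L] [Module A L] [IsScalarTower A B L] :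
    (∀ D : OmegaSh.Der (Spec.map (CommRingCat.ofHom (algebraMap A B))) (tilde (ModuleCat.of (CommRingCat.of B) L)),
      ∃ δ : Derivation A B L, ∀ t : B, D.app ⊤ ((Scheme.ΓSpecIso (CommRingCat.of B)).inv t) =
        (tilde.isoTop (ModuleCat.of (CommRingCat.of B) L)).hom (δ t)) ∧
    ∀ δ : Derivation A B L,
      ∃! D : OmegaSh.Der (Spec.map (CommRingCat.ofHom (algebraMap A B))) (tilde (ModuleCat.of (CommRingCat.of B) L)),
        ∀ t : B, D.app ⊤ ((Scheme.ΓSpecIso (CommRingCat.of B)).inv t) =
          (tilde.isoTop (ModuleCat.of (CommRingCat.of B) L)).hom (δ t) := by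
  let M := ModuleCat.of (CommRingCat.of B) L
  let eI : M ≃+ Γ(tilde M, ⊤) := (tilde.isoTop M).toLinearEquiv.toAddEquiv
  let eB : B ≃+* Γ(Spec (CommRingCat.of B), ⊤) :=
    (Scheme.ΓSpecIso (CommRingCat.of B)).symm.commRingCatIsoToRingEquiv
  have hsmul : ∀ (r : B) (m : M), eI (r • m) = eB r • eI m := by
    intro r m
    refine ((tilde.isoTop M).toLinearEquiv.map_smul r m).trans ?_
    show ((Spec (CommRingCat.of B)).presheaf.map (⊤ : (Spec (CommRingCat.of B)).Opens).leTop.op)
      ((Scheme.ΓSpecIso (CommRingCat.of B)).inv r) • eI m = _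
    congr 1
  let f := Spec.map (CommRingCat.ofHom (algebraMap A B))
  have hbase : ∀ a : A, eB (algebraMap A B a) = f.appTop ((Scheme.ΓSpecIso (CommRingCat.of A)).inv a) :=
    fun a => congr($(Scheme.ΓSpecIso_inv_naturality (CommRingCat.ofHom (algebraMap A B))) a)
  refine ⟨fun D => ?_, fun δ => ?_⟩
  · let g : B → L := fun t => eI.symm (D.app ⊤ (eB t))
    have hg : ∀ t, eI (g t) = D.app ⊤ (eB t) := fun t => eI.apply_symm_apply _
    have g_add : ∀ s t, g (s + t) = g s + g t := fun s t => eI.injective <| by
      rw [map_add, hg, hg, hg, map_add, map_add]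
    have g_mul : ∀ s t : B, g (s * t) = s • g t + t • g s := fun s t => eI.injective <| by
      rw [map_add, hg, hsmul s (g t), hsmul t (g s), hg, hg, map_mul]
      exact Groth.Agent.Synt29.OmegaStalk.app_mul _ D ⊤ _ _
    have g_base : ∀ a : A, g (algebraMap A B a) = 0 := fun a => eI.injective <| by
      rw [hg, map_zero, hbase]
      exact Groth.Agent.Synt29.OmegaStalk.app_base _ D ⊤ _
    refine ⟨Derivation.mk'
      { toFun := g
        map_add' := g_add
        map_smul' := fun a t => by
          rw [Algebra.smul_def, g_mul, g_base, smul_zero, add_zero]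
          exact algebraMap_smul B a (g t) } g_mul, fun t => ?_⟩
    exact (hg t).symm
  · let δ' : Γ(Spec (CommRingCat.of B), ⊤) →+ Γ(tilde M, ⊤) :=
      eI.toAddMonoidHom.comp (δ.toLinearMap.toAddMonoidHom.comp eB.symm.toRingHom.toAddMonoidHom)
    have hd : ∀ t, δ' (eB t) = eI (δ t) := fun t => by
      show eI (δ (eB.symm (eB t))) = _
      rw [eB.symm_apply_apply]
    obtain ⟨D, hD⟩ := Groth.Agent.Synt29.OmegaStalk.exists_der_of_top f (tilde M) δ' (fun x y => by
        obtain ⟨s, rfl⟩ := eB.surjective x
        obtain ⟨t, rfl⟩ := eB.surjective y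
        rw [← map_mul, hd, hd, hd, δ.leibniz, map_add, hsmul s (δ t), hsmul t (δ s)]
        ) fun c => by
        obtain ⟨a, rfl⟩ : ∃ a, (Scheme.ΓSpecIso (CommRingCat.of A)).inv a = c :=
          (ConcreteCategory.bijective_of_isIso _).2 c
        rw [← hbase, hd, δ.map_algebraMap, map_zero]
    have hD' : ∀ t, D.app ⊤ (eB t) = eI (δ t) := fun t => (congr($hD (eB t))).trans (hd t)
    refine ⟨D, hD', fun D' hD'' => Groth.Agent.Synt29.OmegaStalk.der_ext_top fun b => ?_⟩
    obtain ⟨t, rfl⟩ := eB.surjective b
    exact (hD'' t).trans (hD' t).symm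

end Groth.Agent.S5947
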