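import Groth.Statements.S5961
import Groth.Agent.PP38.Ops
-- import your own Groth.Agent.* helpers here

set_option autoImplicit false
universe u
open CategoryTheory CategoryTheory.Limits AlgebraicGeometry TopologicalSpace Opposite
open Nrm16

namespace Groth.Agent.S5961

/-- Let f : X ⟶ S be a morphism of schemes, G an O_X-module and D : O_X ⟶ G a differential operator of
order at most 1 relative to S. Then D can be written in exactly one way as v + d with v : O_X ⟶ G an
O_X-linear map and d an S-derivation of O_X into G. -/
theorem result {X S : Scheme.{u}} (f : X ⟶ S) (G : X.Modules)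
    (D : (Coh.structureModule X).presheaf ⟶ G.presheaf)
    (hD : PrinPart.IsDiffOpLE f (Coh.structureModule X) G 1 D) :
    ∃! p : (Coh.structureModule X ⟶ G) × OmegaSh.Der f G,
      ∀ (U : X.Opens) (a : Γ(X, U)),
        D.app (op U) (OmegaSh.strSect X U a) = p.1.app U (OmegaSh.strSect X U a) + p.2.app U a := by
  have h := Groth.Agent.PP38.isDO_of_isDiffOpLE hD
  let one : ∀ U : X.Opens, Γ(Coh.structureModule X, U) := fun U => OmegaSh.strSect X U 1
  let c : ∀ U : X.Opens, Γ(G, U) := fun U => D.app (op U) (one U)
  have hDres : ∀ (U V : X.Opens) (i : V ⟶ U) (t : Γ(Coh.structureModule X, U)),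
      D.app (op V) ((Coh.structureModule X).presheaf.map i.op t) = G.presheaf.map i.op (D.app (op U) t) :=
    fun U V i t => congr($(D.naturality i.op) t)
  have hone : ∀ (U V : X.Opens) (i : V ⟶ U), (Coh.structureModule X).presheaf.map i.op (one U) = one V :=
    fun U V i => map_one (X.presheaf.map i.op).hom
  have hc : ∀ (U V : X.Opens) (i : V ⟶ U), G.presheaf.map i.op (c U) = c V := fun U V i => by
    show G.presheaf.map i.op (D.app (op U) (one U)) = D.app (op V) (one V)
    rw [← hDres, hone]
  -- the linear part
  let v : Coh.structureModule X ⟶ G := ⟨PresheafOfModules.homMk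
    { app := fun U => AddCommGrpCat.ofHom (AddMonoidHom.mk' (fun t => OmegaSh.fnSect X U.unop t • c U.unop)
        fun a b => (congrArg (· • c U.unop) (map_add (OmegaSh.fnSect X U.unop) a b)).trans (add_smul _ _ _))
      naturality := fun U V i => by
        ext t
        show OmegaSh.fnSect X V.unop ((Coh.structureModule X).presheaf.map i t) • c V.unop =
          G.presheaf.map i (OmegaSh.fnSect X U.unop t • c U.unop)
        rw [← hc U.unop V.unop i.unop]
        exact (Scheme.Modules.map_smul G (homOfLE i.unop.le) _ _).symm }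
    fun U a t => mul_smul (show Γ(X, U.unop) from a) (OmegaSh.fnSect X U.unop t) (c U.unop)⟩
  have hv : ∀ (U : X.Opens) (a : Γ(X, U)), v.app U (OmegaSh.strSect X U a) = a • c U := fun _ _ => rfl
  let dv : ∀ U : X.Opens, Γ(X, U) →+ Γ(G, U) := fun U =>
    AddMonoidHom.mk' (fun a => D.app (op U) (OmegaSh.strSect X U a) - a • c U) fun a b => by
      rw [map_add, map_add, add_smul]; abel
  have hmul : ∀ (U : X.Opens) (a b : Γ(X, U)), dv U (a * b) = a • dv U b + b • dv U a := by
    intro U a b
    have h2 := DFunLike.congr_fun (show Groth.Agent.PP38.br (Groth.Agent.PP38.br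
      ((D.app (op U)).hom : Γ(Coh.structureModule X, U) →+ Γ(G, U)) a) b = 0 from h.2 U a b) (one U)
    simp only [Groth.Agent.PP38.br_apply, AddMonoidHom.zero_apply] at h2
    have e1 : ∀ p : Γ(X, U), p • one U = OmegaSh.strSect X U p := fun p => mul_one p
    have e2 : a • b • one U = OmegaSh.strSect X U (a * b) := by rw [← mul_smul, e1]
    rw [e1 a] at h2
    rw [show a • b • one U = OmegaSh.strSect X U (a * b) from e2] at h2
    rw [e1 b] at h2
    show D.app (op U) (OmegaSh.strSect X U (a * b)) - (a * b) • c U =
      a • (D.app (op U) (OmegaSh.strSect X U b) - b • c U) + b • (D.app (op U) (OmegaSh.strSect X U a) - a • c U)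
    rw [smul_sub, smul_sub, mul_smul, smul_comm b a]
    rw [smul_sub, sub_eq_zero] at h2
    have h2' : D.app (op U) (OmegaSh.strSect X U (a * b)) - a • D.app (op U) (OmegaSh.strSect X U b) =
        b • D.app (op U) (OmegaSh.strSect X U a) - a • b • c U := h2.trans (congrArg _ (smul_comm b a _))
    linear_combination (norm := abel) h2'
  let d : OmegaSh.Der f G :=
    { d := fun {U} => dv U.unop
      d_mul := fun {U} a b => hmul U.unop a b
      d_map := fun {U V} i a => by
        show D.app V _ - (_ : Γ(X, V.unop)) • c V.unop =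
          G.presheaf.map i (D.app U (OmegaSh.strSect X U.unop a) - (show Γ(X, U.unop) from a) • c U.unop)
        rw [map_sub, ← hc U.unop V.unop i.unop]
        congr 1
        · exact hDres U.unop V.unop i.unop (OmegaSh.strSect X U.unop a)
        · exact (Scheme.Modules.map_smul G (homOfLE i.unop.le) _ _).symm
      d_app := fun {U} s => by
        have := h.1 U.unop s (f ⁻¹ᵁ U.unop) le_rfl (one _)
        rw [show X.presheaf.map (homOfLE (le_refl (f ⁻¹ᵁ U.unop))).op (f.app U.unop s) = f.app U.unop s by
          rw [show (homOfLE (le_refl (f ⁻¹ᵁ U.unop))).op = 𝟙 _ from rfl, X.presheaf.map_id]; rfl] at this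
        show D.app _ (OmegaSh.strSect X _ (f.app U.unop s)) - f.app U.unop s • c _ = 0
        rw [sub_eq_zero]
        refine Eq.trans (congrArg _ ?_) this
        exact (mul_one (show Γ(X, f ⁻¹ᵁ U.unop) from f.app U.unop s)).symm }
  refine ⟨(v, d), fun U a => ?_, ?_⟩
  · rw [hv]
    exact (add_sub_cancel _ _).symm
  · rintro ⟨v', d'⟩ hp
    have hd1 : ∀ U : X.Opens, d'.app U 1 = 0 := fun U => by
      have := d'.d_mul (X := op U) (1 : Γ(X, U)) (1 : Γ(X, U))
      have h2 : d'.app U (1 * 1) = (1 : Γ(X, U)) • d'.app U 1 + (1 : Γ(X, U)) • d'.app U 1 := this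
      rwa [one_mul, one_smul, left_eq_add] at h2
    have hv' : ∀ (U : X.Opens) (t : Γ(Coh.structureModule X, U)), v'.app U t = v.app U t := fun U t => by
      have h1 : v'.app U (one U) = c U := by
        have := hp U 1
        rw [hd1, add_zero] at this
        exact this.symm
      obtain ⟨a, rfl⟩ : ∃ a, OmegaSh.strSect X U a = t := ⟨t, rfl⟩
      rw [hv, ← h1, ← Scheme.Modules.Hom.app_smul]
      exact congrArg _ (mul_one a).symm
    have e : v' = v := Scheme.Modules.hom_ext _ _ fun U => by ext t; exact hv' U t
    refine Prod.ext e (PresheafOfModules.Derivation.ext ?_)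
    ext U a
    show d'.app U.unop a = D.app U (OmegaSh.strSect X U.unop a) - (show Γ(X, U.unop) from a) • c U.unop
    have h1 : D.app U (OmegaSh.strSect X U.unop a) =
        v'.app U.unop (OmegaSh.strSect X U.unop a) + d'.app U.unop a := hp U.unop a
    rw [h1, e, hv, add_sub_cancel_left]

end Groth.Agent.S5961
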