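import Groth.Statements.S5970
import Groth.Agent.PP38.SqAlg
import Groth.Agent.PP38.DerLift
import Groth.Agent.PP38.PBC
import Groth.Agent.RelSpecX.Gamma
import Groth.Agent.QCoh.PullbackBC
import Groth.Agent.Synt29.OmegaAffine
-- import your own Groth.Agent.* helpers here

set_option autoImplicit false
universe u
open CategoryTheory CategoryTheory.Limits AlgebraicGeometry TopologicalSpace Opposite
open Nrm16

namespace Groth.Agent.S5970

/-- Let S be a scheme, E a quasi-coherent O_S-module and A its symmetric algebra, given as a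
quasi-coherent O_S-algebra with a module map j : E ⟶ A having the universal property; let X = V(E)
be the relative spectrum of A with structure morphism p : X ⟶ S, and let (Ω', d) be a sheaf of
differentials of X over S (d a universal S-derivation of O_X into Ω'). Let φ : p^*E ⟶ Ω' be an
O_X-linear map such that, whenever a local section t of E over U and a function t' on p⁻¹U
correspond (t' maps to j(t) under the canonical identification of p_*O_X with A), φ sends the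
pullback of t to d t'. Then φ is an isomorphism. -/
theorem result {S : Scheme.{u}} (E : S.Modules) (hE : Coh.IsQCoh E)
    (A : RelSpec.QCAlg S) (j : E ⟶ A.toModule) (hA : RelSpec.IsSymAlg E A j)
    (Ω' : A.spec.Modules) (d : OmegaSh.Der A.π Ω') (hd : OmegaSh.IsUniversal d)
    (φ : (Scheme.Modules.pullback A.π).obj E ⟶ Ω')
    (hφ : ∀ (U : S.Opens) (t : Γ(E, U)) (t' : Γ(A.spec, A.π ⁻¹ᵁ U)),
      A.gammaMap.app (op U) t' = j.app U t →
        φ.app (A.π ⁻¹ᵁ U) (OmegaSh.pullSect A.π E U t) = d.app (A.π ⁻¹ᵁ U) t') :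
    IsIso φ := by
  haveI : IsIso A.gammaMap := RelSpecX.isIso_gammaMap A
  let M := (Scheme.Modules.pullback A.π).obj E
  let u : E ⟶ (Scheme.Modules.pushforward A.π).obj M :=
    (Scheme.Modules.pullbackPushforwardAdjunction A.π).unit.app E
  have hM : Coh.IsQCoh M := QCoh.isQCoh_pullback A.π hE
  have hΩ : Coh.IsQCoh Ω' := Synt29.OmegaStalk.isQCoh_of_isUniversal hd
  let γi : A ⟶ RelSpec.QCAlg.directImage A.π :=
    ⟨(asIso A.gammaMap).inv, (Iso.comp_inv_eq _).2 A.π_c_gammaMap.symm⟩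
  have hγ1 : ∀ (U : S.Opens) (a : Γ(A.spec, A.π ⁻¹ᵁ U)),
      γi.hom.app (op U) (A.gammaMap.app (op U) a) = a :=
    fun U a => congr(($((asIso A.gammaMap).hom_inv_id)).app (op U) a)
  have hγ2 : ∀ (U : S.Opens) (x : A.presheaf.obj (op U)),
      A.gammaMap.app (op U) (γi.hom.app (op U) x) = x :=
    fun U x => congr(($((asIso A.gammaMap).inv_hom_id)).app (op U) x)
  let a := j ≫ RelSpec.QCAlg.Hom.toModuleMap γi
  let B := PP38.SqAlg.sqAlg A.π M hM
  let B₂ := PP38.SqAlg.sqAlg A.π Ω' hΩ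
  obtain ⟨ψ, hψ, -⟩ := hA B (PP38.SqAlg.toSq A.π M hM a u)
  have hψ' : ∀ (U : S.Opens) (t : Γ(E, U)), ψ.hom.app (op U) (j.app U t) =
      PP38.SqAlg.mkT A.π M U (γi.hom.app (op U) (j.app U t)) (OmegaSh.pullSect A.π E U t) :=
    fun U t => congr((Scheme.Modules.Hom.app $hψ U) t)
  have h₁ : ψ ≫ PP38.SqAlg.sqFst A.π M hM = γi := by
    refine (hA _ a).unique ?_ rfl
    refine Scheme.Modules.hom_ext _ _ fun U => AddCommGrpCat.ext fun t => ?_
    exact congrArg (PP38.SqAlg.fstT A.π M U) (hψ' U t)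
  have h₁' : ∀ (U : S.Opens) (x : A.presheaf.obj (op U)),
      PP38.SqAlg.fstT A.π M U (ψ.hom.app (op U) x) = γi.hom.app (op U) x :=
    fun U x => congr(($(congrArg RelSpec.QCAlg.Hom.hom h₁)).app (op U) x)
  have h₂ : ψ ≫ PP38.SqAlg.sqMap A.π M hM hΩ φ = γi ≫ PP38.SqAlg.sqGraph A.π Ω' hΩ d := by
    refine (hA B₂ _).unique rfl ?_
    refine Scheme.Modules.hom_ext _ _ fun U => AddCommGrpCat.ext fun t => ?_
    refine (PP38.SqAlg.extT ?_ ?_).symm
    · show PP38.SqAlg.fstT A.π M U (ψ.hom.app (op U) (j.app U t)) = γi.hom.app (op U) (j.app U t)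
      exact h₁' U _
    · show φ.app (A.π ⁻¹ᵁ U) (PP38.SqAlg.sndT A.π M U (ψ.hom.app (op U) (j.app U t))) =
        d.app (A.π ⁻¹ᵁ U) (γi.hom.app (op U) (j.app U t))
      rw [hψ']
      exact hφ U t _ (hγ2 U _)
  refine PP38.isIso_of_affine_nhds hM hΩ φ fun x => ?_
  obtain ⟨U, hU, hxU, -⟩ := exists_isAffineOpen_mem_and_subset (x := A.π x) (U := ⊤) trivial
  refine ⟨A.π ⁻¹ᵁ U, hU.preimage A.π, hxU, ?_⟩
  let δ : Γ(A.spec, A.π ⁻¹ᵁ U) →+ Γ(M, A.π ⁻¹ᵁ U) :=
    (PP38.SqAlg.sndT A.π M U).comp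
      ((ψ.hom.app (op U)).hom.toAddMonoidHom.comp (A.gammaMap.app (op U)).hom.toAddMonoidHom)
  have hmul : ∀ a b, δ (a * b) = a • δ b + b • δ a := by
    intro a b
    show PP38.SqAlg.sndT A.π M U (ψ.hom.app (op U) (A.gammaMap.app (op U) (a * b))) = _
    rw [map_mul, map_mul]
    refine (PP38.SqAlg.sndT_mul _ _).trans ?_
    rw [h₁', h₁', hγ1, hγ1]
    rfl
  have hbase : ∀ c : Γ(S, U), δ (A.π.appLE U (A.π ⁻¹ᵁ U) le_rfl c) = 0 := by
    intro c
    rw [← Scheme.Hom.app_eq_appLE]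
    show PP38.SqAlg.sndT A.π M U (ψ.hom.app (op U) (A.gammaMap.app (op U) (A.π.app U c))) = _
    rw [show A.gammaMap.app (op U) (A.π.app U c) = A.str.app (op U) c from congr(($(A.π_c_gammaMap)).app (op U) c),
      show ψ.hom.app (op U) (A.str.app (op U) c) = B.str.app (op U) c from congr(($(ψ.comm)).app (op U) c)]
    rfl
  have hφδ : ∀ a, φ.app _ (δ a) = d.app _ a := by
    intro a
    have h := congrArg (PP38.SqAlg.sndT A.π Ω' U)
      congr(($(congrArg RelSpec.QCAlg.Hom.hom h₂)).app (op U) (A.gammaMap.app (op U) a))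
    exact h.trans (congrArg (d.app _) (hγ1 U a))
  obtain ⟨L, hLs, hLd, hLφ⟩ := PP38.exists_lift d hd (hU.preimage A.π) hU le_rfl δ hmul hbase
  letI : Algebra Γ(S, U) Γ(A.spec, A.π ⁻¹ᵁ U) := (A.π.app U).hom.toAlgebra
  letI : Module Γ(S, U) Γ(M, A.π ⁻¹ᵁ U) := Module.compHom _ (A.π.app U).hom
  haveI : IsScalarTower Γ(S, U) Γ(A.spec, A.π ⁻¹ᵁ U) Γ(M, A.π ⁻¹ᵁ U) :=
    .of_algebraMap_smul fun _ _ => rfl
  let l : Γ(E, U) →ₗ[Γ(S, U)] Γ(M, A.π ⁻¹ᵁ U) :=
    { toFun := u.app U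
      map_add' := map_add (u.app U).hom
      map_smul' := fun r t => Scheme.Modules.Hom.app_smul u r t }
  have hl : IsBaseChange Γ(A.spec, A.π ⁻¹ᵁ U) l :=
    QCoh.isBaseChange_pullback hU A.π (hU.preimage A.π) hE le_rfl
      (fun r => congr($(Scheme.Hom.app_eq_appLE A.π (U := U)) r)) l
      fun t => congr($((M.presheaf.map_id (op (A.π ⁻¹ᵁ U))).symm) (u.app U t))
  have hLφ' : ∀ m, L (φ.app _ m) = m := by
    intro m
    refine hl.inductionOn m (motive := fun m => L (φ.app _ m) = m) ?_ (fun t => ?_) (fun r m hm => ?_)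
      (fun m n hm hn => ?_)
    · rw [map_zero, map_zero]
    · show L (φ.app _ (OmegaSh.pullSect A.π E U t)) = OmegaSh.pullSect A.π E U t
      rw [hφ U t _ (hγ2 U (j.app U t))]
      refine (hLd _).trans ?_
      show PP38.SqAlg.sndT A.π M U (ψ.hom.app (op U) (A.gammaMap.app (op U) (γi.hom.app (op U) (j.app U t)))) = _
      refine (congrArg (fun x => PP38.SqAlg.sndT A.π M U (ψ.hom.app (op U) x)) (hγ2 U (j.app U t))).trans ?_
      exact congrArg (PP38.SqAlg.sndT A.π M U) (hψ' U t)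
    · rw [Scheme.Modules.Hom.app_smul, hLs, hm]
    · rw [map_add, map_add, hm, hn]
  exact ⟨Function.LeftInverse.injective hLφ', Function.RightInverse.surjective (hLφ φ hφδ)⟩

end Groth.Agent.S5970
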