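import Groth.Statements.S5972
import Groth.Agent.PP38.Struct
import Groth.Agent.QCoh.VanIdeal
-- import your own Groth.Agent.* helpers here

set_option autoImplicit false
universe u
open CategoryTheory CategoryTheory.Limits AlgebraicGeometry TopologicalSpace Opposite
open Nrm16

open scoped TensorProduct

namespace Groth.Agent.S5972

/-- Let A → B be a ring homomorphism, X = Spec B, S = Spec A with f : X ⟶ S the induced morphism, and n
a natural number; identify B with the ring of global functions on X through the canonical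
isomorphism. If ψ : B ⊗_A B → Γ(X, P^n_{X/S}) is the additive map with ψ(b ⊗ b') = b · d^n(b') for
all b, b' in B, then ψ is surjective with kernel the (n+1)-st power of the kernel I of the
multiplication map B ⊗_A B → B. -/
theorem result (A B : Type u) [CommRing A] [CommRing B] [Algebra A B] (n : ℕ)
    (ψ : TensorProduct A B B →+
      Γ(PrinPart.P (Spec.map (CommRingCat.ofHom (algebraMap A B))) n, (⊤ : (Spec (CommRingCat.of B)).Opens)))
    (hψ : ∀ b b' : B, ψ (b ⊗ₜ[A] b') =
      (Scheme.ΓSpecIso (CommRingCat.of B)).inv b •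
        PrinPart.dn (Spec.map (CommRingCat.ofHom (algebraMap A B))) n ⊤
          ((Scheme.ΓSpecIso (CommRingCat.of B)).inv b')) :
    Function.Surjective ψ ∧ ψ.ker = (KaehlerDifferential.ideal A B ^ (n + 1)).toAddSubgroup := by
  let g := Spec.map (CommRingCat.ofHom (algebraMap A B))
  let V : (Spec (CommRingCat.of A)).affineOpens := ⟨⊤, isAffineOpen_top _⟩
  let U : (Spec (CommRingCat.of B)).affineOpens := ⟨⊤, isAffineOpen_top _⟩
  have e : U.1 ≤ g ⁻¹ᵁ V.1 := le_top
  let B' := Γ(Spec (CommRingCat.of B), U.1)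
  let A' := Γ(Spec (CommRingCat.of A), V.1)
  letI : Algebra A' B' := (g.appLE V.1 U.1 e).hom.toAlgebra
  let eB : B ≃+* B' := (Scheme.ΓSpecIso (CommRingCat.of B)).symm.commRingCatIsoToRingEquiv
  let eA : A ≃+* A' := (Scheme.ΓSpecIso (CommRingCat.of A)).symm.commRingCatIsoToRingEquiv
  have hAB : ∀ a : A, eB (algebraMap A B a) = algebraMap A' B' (eA a) := fun a => by
    show _ = g.appLE ⊤ ⊤ _ _
    rw [show g.appLE ⊤ ⊤ e = g.app ⊤ from Scheme.Hom.appLE_eq_app g (U := ⊤)]
    exact congr($(Scheme.ΓSpecIso_inv_naturality (CommRingCat.ofHom (algebraMap A B))) a)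
  have hZ := (Groth.Agent.PPSheaf.exists_chart g V U e n rfl)
  obtain ⟨-, ψc, hsurj, hker, hl, hr⟩ := hZ
  obtain ⟨E, hE, hEl, hE1⟩ := Groth.Agent.PP38.exists_sections_equiv g n V U e rfl
    (Coh.structureModule (Spec (CommRingCat.of B))) Groth.Agent.QCoh.isQCoh_structureModule
  let Z := PrinPart.pr1 g n ⁻¹ᵁ U.1
  letI : Algebra Γ(Spec (CommRingCat.of B), U.1) Γ(PrinPart.nbhd g n, Z) :=
    ((PrinPart.pr2 g n).appLE U.1 Z (PrinPart.preimage_pr1 g n U.1).le).hom.toAlgebra
  let O : (Spec (CommRingCat.of B)).Modules := Coh.structureModule (Spec (CommRingCat.of B))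
  let one : Γ(O, U.1) := OmegaSh.strSect _ U.1 1
  let G : Γ(PrinPart.nbhd g n, Z) →+ Γ(PrinPart.P g n, U.1) :=
    E.comp (AddMonoidHom.mk' (fun t => t ⊗ₜ one) fun a b => TensorProduct.add_tmul a b one)
  have hG : Function.Bijective G := by
    refine hE.comp ?_
    let r := (TensorProduct.AlgebraTensorModule.rid Γ(Spec (CommRingCat.of B), U.1)
      Γ(PrinPart.nbhd g n, Z) Γ(PrinPart.nbhd g n, Z))
    exact r.symm.bijective
  -- the comparison of tensor squares
  letI : Algebra A A' := eA.toRingHom.toAlgebra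
  letI : Algebra A B' := ((algebraMap A' B').comp eA.toRingHom).toAlgebra
  haveI : IsScalarTower A A' B' := IsScalarTower.of_algebraMap_eq fun _ => rfl
  let φ : B →ₐ[A] B' := { eB.toRingHom with commutes' := hAB }
  let j1 : B' →ₐ[A'] B' ⊗[A'] B' := Algebra.TensorProduct.includeLeft
  let j2 : B' →ₐ[A'] B' ⊗[A'] B' := Algebra.TensorProduct.includeRight
  let χ : B ⊗[A] B →ₐ[A] B' ⊗[A'] B' := Algebra.TensorProduct.lift
    ((j1.restrictScalars A).comp φ) ((j2.restrictScalars A).comp φ) fun _ _ => Commute.all _ _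
  have hsym : ∀ (r : A') (x : B'), eB.symm (r • x) = eA.symm r • eB.symm x := fun r x => by
    rw [Algebra.smul_def, Algebra.smul_def, map_mul, eB.symm_apply_eq.2 (hAB (eA.symm r) ▸ congrArg
      (algebraMap A' B') (eA.apply_symm_apply r).symm)]
  let χ' : B' ⊗[A'] B' →+ B ⊗[A] B := TensorProduct.liftAddHom
    (AddMonoidHom.mk' (fun b => AddMonoidHom.mk' (fun c => eB.symm b ⊗ₜ[A] eB.symm c)
        (fun c c' => by rw [map_add, TensorProduct.tmul_add]))
      (fun b b' => AddMonoidHom.ext fun c => by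
        show eB.symm (b + b') ⊗ₜ[A] eB.symm c = eB.symm b ⊗ₜ[A] eB.symm c + eB.symm b' ⊗ₜ[A] eB.symm c
        rw [map_add, TensorProduct.add_tmul]))
    (fun r b c => by
      show eB.symm (r • b) ⊗ₜ[A] eB.symm c = eB.symm b ⊗ₜ[A] eB.symm (r • c)
      rw [hsym, hsym, TensorProduct.smul_tmul])
  have hχt : ∀ b c : B, χ (b ⊗ₜ c) = eB b ⊗ₜ eB c := fun b c => by
    show Algebra.TensorProduct.lift _ _ _ _ = _
    rw [Algebra.TensorProduct.lift_tmul]
    show (eB b ⊗ₜ[A'] (1 : B')) * ((1 : B') ⊗ₜ[A'] eB c) = _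
    rw [Algebra.TensorProduct.tmul_mul_tmul, one_mul, mul_one]
  have hχ't : ∀ b c : B', χ' (b ⊗ₜ c) = eB.symm b ⊗ₜ eB.symm c := fun b c => rfl
  have h1 : ∀ t, χ' (χ t) = t := fun t => by
    induction t with
    | zero => simp
    | add a b ha hb => simp only [map_add, ha, hb]
    | tmul a b => rw [hχt, hχ't, eB.symm_apply_apply, eB.symm_apply_apply]
  have h2 : ∀ t, χ (χ' t) = t := fun t => by
    induction t with
    | zero => simp
    | add a b ha hb => simp only [map_add, ha, hb]
    | tmul a b => rw [hχ't, hχt, eB.apply_symm_apply, eB.apply_symm_apply]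
  let χe : B ⊗[A] B ≃+* B' ⊗[A'] B' :=
    { χ.toRingHom with invFun := χ', left_inv := h1, right_inv := h2 }
  have hI : (KaehlerDifferential.ideal A B).map (χe : B ⊗[A] B →+* B' ⊗[A'] B') =
      KaehlerDifferential.ideal A' B' := by
    rw [← KaehlerDifferential.span_range_eq_ideal, ← KaehlerDifferential.span_range_eq_ideal,
      Ideal.map_span, ← Set.range_comp]
    congr 1
    rw [← eB.surjective.range_comp (fun s : B' => (1 : B') ⊗ₜ[A'] s - s ⊗ₜ[A'] (1 : B'))]
    congr 1
    funext s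
    show χ _ = _
    rw [map_sub, hχt, hχt, map_one]
    rfl
  have hψG : ∀ t, ψ t = G (ψc (χ t)) := by
    intro t
    induction t with
    | zero => simp
    | add a b ha hb => simp only [map_add, ha, hb]
    | tmul b c =>
      rw [hχt, hψ, show eB b ⊗ₜ[A'] eB c = (eB b ⊗ₜ 1) * (1 ⊗ₜ eB c) by simp, map_mul, hl, hr]
      show _ = E (((PrinPart.pr1 g n).app U.1 (eB b) *
        (PrinPart.pr2 g n).appLE U.1 Z (PrinPart.preimage_pr1 g n U.1).le (eB c)) ⊗ₜ one)
      rw [← smul_eq_mul, ← TensorProduct.smul_tmul', hEl]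
      refine congrArg (eB b • ·) ?_
      refine (hE1 (OmegaSh.strSect _ U.1 (eB c))).symm.trans (congrArg E ?_)
      have hsmul : OmegaSh.strSect (Spec (CommRingCat.of B)) U.1 (eB c) = eB c • one :=
        (mul_one (eB c)).symm
      rw [hsmul, ← TensorProduct.smul_tmul]
      exact congrArg (· ⊗ₜ one) (mul_one _)
  constructor
  · intro σ
    obtain ⟨u, rfl⟩ := hG.2 σ
    obtain ⟨w, rfl⟩ := hsurj u
    exact ⟨χ' w, by rw [hψG, h2]⟩
  · ext t
    rw [AddMonoidHom.mem_ker, hψG, map_eq_zero_iff G hG.1, ← RingHom.mem_ker, hker,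
      Submodule.mem_toAddSubgroup, ← hI, ← Ideal.map_pow]
    exact (Ideal.mem_map_of_equiv χe _).trans
      ⟨fun ⟨x, hx, h⟩ => χe.injective h ▸ hx, fun h => ⟨t, h, rfl⟩⟩

end Groth.Agent.S5972
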