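import Groth.Statements.S5977
import Groth.Agent.PP38.Ops
-- import your own Groth.Agent.* helpers here

set_option autoImplicit false
universe u
open CategoryTheory CategoryTheory.Limits AlgebraicGeometry TopologicalSpace Opposite
open Nrm16

namespace Groth.Agent.S5977

/-- Let f : Y ⟶ Z be a morphism and j : X ⟶ Y a closed immersion, and let φ : j^* P^n_{Y/Z} ⟶ P^n_{X/Z}
be the canonical O_X-linear map of sheaves of principal parts of order n, the one sending the
pullback of d^n b to d^n (j♯ b). Then φ is an epimorphism. (The published statement also identifies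
the kernel of φ as the ideal generated by the pullback of d^n of the ideal of j; this row states the
surjectivity.) -/
theorem result {X Y Z : Scheme.{u}} (f : Y ⟶ Z) (j : X ⟶ Y) [IsClosedImmersion j] (n : ℕ)
    (φ : (Scheme.Modules.pullback j).obj (PrinPart.P f n) ⟶ PrinPart.P (j ≫ f) n)
    (hφ : PrinPart.IsPMap f (j ≫ f) j n φ) :
    Epi φ := by
  refine ⟨fun {G} a b h => Groth.Agent.PPSheaf.hom_ext_dP (j ≫ f) n (Coh.structureModule X) G fun U t => ?_⟩
  refine TopCat.Presheaf.section_ext ⟨G.presheaf, G.isSheaf⟩ U _ _ fun x hx => ?_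
  obtain ⟨c, hc⟩ := j.stalkMap_surjective x (X.presheaf.germ U x hx (OmegaSh.fnSect X U t))
  obtain ⟨W, hxW, c, rfl⟩ := Y.presheaf.exists_germ_eq c
  rw [Scheme.Hom.germ_stalkMap_apply j W x hxW c] at hc
  obtain ⟨V, hxV, i₁, i₂, e⟩ := X.presheaf.germ_eq x _ _ _ _ hc
  have key : ∀ (α : PrinPart.P (j ≫ f) n ⟶ G),
      G.presheaf.map i₂.op (α.app U (PrinPart.dP (j ≫ f) n (Coh.structureModule X) U t)) =
        G.presheaf.map i₁.op ((φ ≫ α).app (j ⁻¹ᵁ W) (OmegaSh.pullSect j (PrinPart.P f n) W
          (PrinPart.dn f n W c))) := by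
    intro α
    rw [Scheme.Modules.Hom.comp_app, ConcreteCategory.comp_apply, hφ W c,
      ← Groth.Agent.Nrm6.hom_app_res, ← Groth.Agent.Nrm6.hom_app_res]
    refine congrArg _ ((PrinPart.dP_map (j ≫ f) n _ i₂.le t).symm.trans
      (Eq.trans ?_ (PrinPart.dP_map (j ≫ f) n _ i₁.le (OmegaSh.strSect X _ (j.app W c)))))
    exact congrArg _ e.symm
  show G.presheaf.germ U x hx _ = G.presheaf.germ U x hx _
  rw [← G.presheaf.germ_res_apply i₂ x hxV, ← G.presheaf.germ_res_apply i₂ x hxV, key, key, h]

end Groth.Agent.S5977
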