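import Groth.Statements.S5978
import Groth.Agent.PP38.Ops
import Groth.Agent.OmegaUniv.Universal
-- import your own Groth.Agent.* helpers here

set_option autoImplicit false
universe u
open CategoryTheory CategoryTheory.Limits AlgebraicGeometry TopologicalSpace Opposite
open Nrm16

namespace Groth.Agent.S5978

/-- Let f : X ⟶ S be a quasi-separated morphism, Ω_{X/S} its sheaf of differentials (the conormal sheaf
of the diagonal) with its derivation d, e : O_X ⟶ P^1_{X/S} the O_X-linear map s ↦ s·1 and ι :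
Ω_{X/S} ⟶ P^1_{X/S} the O_X-linear map with ι(d s) = d^1 s − s·1 for every local function s. Then
the map O_X ⊕ Ω_{X/S} ⟶ P^1_{X/S} induced by e and ι is an isomorphism of O_X-modules for the left
structure of P^1_{X/S}; in other words Ω_{X/S} is identified with the augmentation ideal of
P^1_{X/S} and d s = d^1 s − s. (The published text takes this as the definition of Ω_{X/S} for every
f; here Ω_{X/S} is the conormal sheaf of the diagonal, formed for quasi-separated f, and the
identification is stated.) -/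
theorem result {X S : Scheme.{u}} (f : X ⟶ S) [QuasiSeparated f]
    (e : Coh.structureModule X ⟶ PrinPart.P f 1)
    (he : ∀ (U : X.Opens) (s : Γ(X, U)), e.app U (OmegaSh.strSect X U s) = s • PrinPart.dn f 1 U 1)
    (ι : Omega.sheaf f ⟶ PrinPart.P f 1)
    (hι : ∀ (U : X.Opens) (s : Γ(X, U)),
      ι.app U ((OmegaSh.dOmega f).app U s) = PrinPart.dn f 1 U s - s • PrinPart.dn f 1 U 1) :
    IsIso (coprod.desc e ι) := by
  let O := Coh.structureModule X
  let d := OmegaSh.dOmega f
  have hd := Groth.Agent.OmegaUniv.isUniversal_dOmega f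
  have dres : ∀ (U V : X.Opens) (i : V ⟶ U) (s : Γ(X, U)),
      d.app V (X.presheaf.map i.op s) = (Omega.sheaf f).presheaf.map i.op (d.app U s) :=
    fun U V i s => d.d_map i.op s
  let D1 : O.presheaf ⟶ (Omega.sheaf f).presheaf :=
    { app := fun U => AddCommGrpCat.ofHom ((d.app U.unop).comp (OmegaSh.fnSect X U.unop))
      naturality := fun U V i => by
        ext s
        exact dres U.unop V.unop i.unop (OmegaSh.fnSect X U.unop s) }
  have hmul : ∀ (U : X.Opens) (a : Γ(X, U)) (t : Γ(O, U)), D1.app (op U) (a • t) =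
      a • D1.app (op U) t + OmegaSh.fnSect X U t • d.app U a := fun U a t =>
    d.d_mul (X := op U) a (OmegaSh.fnSect X U t)
  have h1 : Groth.Agent.PP38.IsDO f 1 D1 := by
    refine ⟨fun V s U hU t => ?_, fun U a b => ?_⟩
    · rw [hmul, dres _ _ (homOfLE hU), show d.app (f ⁻¹ᵁ V) (f.app V s) = 0 from d.d_app s, map_zero,
        smul_zero, add_zero]
    · refine AddMonoidHom.ext fun t => ?_
      have e : ∀ w : Γ(O, U), Groth.Agent.PP38.br
          ((D1.app (op U)).hom : Γ(O, U) →+ Γ(Omega.sheaf f, U)) a w = OmegaSh.fnSect X U w • d.app U a :=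
        fun w => by
          rw [Groth.Agent.PP38.br_apply]
          exact sub_eq_iff_eq_add'.2 (hmul U a w)
      rw [Groth.Agent.PP38.br_apply, e, e, AddMonoidHom.zero_apply, ← mul_smul, sub_eq_zero]
      rfl
  let il : O ⟶ O ⨿ Omega.sheaf f := coprod.inl
  let ir : Omega.sheaf f ⟶ O ⨿ Omega.sheaf f := coprod.inr
  let D : O.presheaf ⟶ (O ⨿ Omega.sheaf f).presheaf :=
    Scheme.Modules.Hom.mapPresheaf il + D1 ≫ Scheme.Modules.Hom.mapPresheaf ir
  have hDv : ∀ (U : X.Opens) (t : Γ(O, U)),
      D.app (op U) t = il.app U t + ir.app U (d.app U (OmegaSh.fnSect X U t)) := fun U t => rfl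
  have hD : Groth.Agent.PP38.IsDO f 1 D := by
    refine ⟨fun V s U hU t => ?_, fun U => ?_⟩
    · show il.app U (_ • t) + ir.app U (D1.app (op U) (_ • t)) = _ • (il.app U t + ir.app U (D1.app (op U) t))
      rw [h1.1 V s U hU t, Scheme.Modules.Hom.app_smul, Scheme.Modules.Hom.app_smul, smul_add]
    · exact Groth.Agent.PP38.kills_add 2
        (Groth.Agent.PP38.kills_succ 1 (Groth.Agent.PP38.kills_one_hom il))
        (Groth.Agent.PP38.kills_comp 0 2 (h1.2 U) (Groth.Agent.PP38.kills_one_hom ir))
  let u := Groth.Agent.PP38.desc hD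
  have hu : ∀ (U : X.Opens) (s : Γ(X, U)),
      u.app U (PrinPart.dn f 1 U s) = il.app U (OmegaSh.strSect X U s) + ir.app U (d.app U s) :=
    fun U s => (Groth.Agent.PP38.desc_dP hD U (OmegaSh.strSect X U s)).trans (hDv U _)
  have hu1 : ∀ (U : X.Opens) (s : Γ(X, U)),
      u.app U (s • PrinPart.dn f 1 U 1) = il.app U (OmegaSh.strSect X U s) := fun U s => by
    have d1 : d.app U 1 = 0 := by
      have h2 : d.app U (1 * 1) = (1 : Γ(X, U)) • d.app U 1 + (1 : Γ(X, U)) • d.app U 1 :=
        d.d_mul (X := op U) (1 : Γ(X, U)) (1 : Γ(X, U))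
      rwa [one_mul, one_smul, left_eq_add] at h2
    rw [Scheme.Modules.Hom.app_smul, hu, d1, map_zero, add_zero, ← Scheme.Modules.Hom.app_smul]
    exact congrArg _ (mul_one s)
  refine ⟨u, coprod.hom_ext ?_ ?_, Groth.Agent.PPSheaf.hom_ext_dP f 1 O _ fun U t => ?_⟩
  · rw [coprod.inl_desc_assoc, Category.comp_id]
    refine Scheme.Modules.hom_ext _ _ fun U => ?_
    ext t
    show u.app U (e.app U t) = il.app U t
    have := he U (OmegaSh.fnSect X U t)
    exact (congrArg (u.app U) this).trans (hu1 U _)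
  · rw [coprod.inr_desc_assoc, Category.comp_id]
    refine (hd _ (d.postcomp ir.val)).unique ?_ rfl
    refine PresheafOfModules.Derivation.ext ?_
    ext U s
    show u.app U.unop (ι.app U.unop (d.app U.unop s)) = ir.app U.unop (d.app U.unop s)
    rw [hι U.unop s, map_sub, hu, hu1, add_sub_cancel_left]
  · show (coprod.desc e ι).app U (u.app U (PrinPart.dP f 1 O U t)) = PrinPart.dP f 1 O U t
    rw [show u.app U (PrinPart.dP f 1 O U t) = _ from (Groth.Agent.PP38.desc_dP hD U t).trans (hDv U t), map_add]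
    rw [show (coprod.desc e ι).app U (il.app U t) = e.app U t from
      congr(($(coprod.inl_desc e ι)).app U t)]
    rw [show (coprod.desc e ι).app U (ir.app U (d.app U (OmegaSh.fnSect X U t))) =
        ι.app U (d.app U (OmegaSh.fnSect X U t)) from
      congr(($(coprod.inr_desc e ι)).app U (d.app U (OmegaSh.fnSect X U t)))]
    refine (congrArg₂ (· + ·) (he U (OmegaSh.fnSect X U t)) (hι U (OmegaSh.fnSect X U t))).trans ?_
    rw [add_sub_cancel]
    rfl

end Groth.Agent.S5978
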