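import Groth.Statements.S6001
import Groth.Prelude
import Groth.Agent.EtEff48.AnRed

set_option autoImplicit false
universe u
open SGA1

namespace Groth.Agent.S6001

/-- Let A be a Noetherian local ring which is analytically reduced (its completion has no nonzero
nilpotents), and let B be the local ring at a prime q, lying over the maximal ideal of A, of an
A-algebra C of finite type that is etale over A at q (an etale local homomorphism A ⟶ B). Then B is
analytically reduced, and in particular reduced. -/
theorem result (A C : Type u) [CommRing A] [IsLocalRing A]
    [IsNoetherianRing A] [CommRing C] [Algebra A C] [Algebra.FiniteType A C] (q : Ideal C) [q.IsPrime]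
    (hq : Ideal.comap (algebraMap A C) q = IsLocalRing.maximalIdeal A) (hC : Algebra.IsEtaleAt A q)
    (hA : IsReduced (AdicCompletion (IsLocalRing.maximalIdeal A) A)) :
    IsReduced (AdicCompletion (IsLocalRing.maximalIdeal (Localization.AtPrime q)) (Localization.AtPrime q)) ∧
      IsReduced (Localization.AtPrime q) := by
  haveI : Algebra.IsEtaleAt A q := hC
  haveI : Algebra.FinitePresentation A C := Algebra.FinitePresentation.of_finiteType.mp inferInstance
  haveI : IsNoetherianRing C := Algebra.FiniteType.isNoetherianRing A C
  haveI : IsNoetherianRing (Localization.AtPrime q) :=
    IsLocalization.isNoetherianRing q.primeCompl _ inferInstance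
  obtain ⟨f, hf, hfet⟩ := Algebra.exists_etale_of_isEtaleAt (R := A) q
  haveI : Module.Flat A (Localization.AtPrime q) := by
    haveI := hfet
    letI := IsLocalization.localizationAlgebraOfSubmonoidLe (Localization.Away f) (Localization.AtPrime q)
      (Submonoid.powers f) q.primeCompl (Submonoid.powers_le.2 hf)
    haveI := IsLocalization.localization_isScalarTower_of_submonoid_le (Localization.Away f)
      (Localization.AtPrime q) (Submonoid.powers f) q.primeCompl (Submonoid.powers_le.2 hf)
    haveI : IsScalarTower A (Localization.Away f) (Localization.AtPrime q) := .to₁₃₄ A C _ _
    haveI : IsLocalization (q.primeCompl.map (algebraMap C (Localization.Away f)))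
        (Localization.AtPrime q) :=
      IsLocalization.isLocalization_of_submonoid_le _ _ (Submonoid.powers f) q.primeCompl (Submonoid.powers_le.2 hf)
    haveI : Module.Flat (Localization.Away f) (Localization.AtPrime q) :=
      IsLocalization.flat _ (q.primeCompl.map (algebraMap C (Localization.Away f)))
    exact Module.Flat.trans A (Localization.Away f) _
  haveI : IsLocalHom (algebraMap A (Localization.AtPrime q)) := by
    refine ⟨fun a ha => ?_⟩
    rw [IsScalarTower.algebraMap_apply A C (Localization.AtPrime q),
      IsLocalization.AtPrime.isUnit_to_map_iff (Localization.AtPrime q) q] at ha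
    by_contra h
    exact ha (hq.ge h)
  exact EtEff48.isReduced_completion_of_etale A (Localization.AtPrime q) hA

end Groth.Agent.S6001
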