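import Groth.Statements.S6017
import Groth.Agent.EtEff48.InvLocal

set_option autoImplicit false
universe u
open scoped Pointwise
open SGA1

set_option backward.isDefEq.respectTransparency false
set_option backward.isDefEq.respectTransparency.types false
set_option maxHeartbeats 1600000
namespace Groth.Agent.S6017

open Groth.Agent.EtEff48 in
/-- Stated in affine form, at the level of rings: let a finite group `G` act on a commutative ring `R`;
suppose the ring of invariants `B = R^G` is Noetherian and `R` is a finite `B`-module. Let `q` be a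
prime of `R`, let `H` be a subgroup of `G` containing the stabilizer of `q` (the decomposition
group), and put `R' = R^H`, `q' = q ∩ R'`, `p = q ∩ B = q' ∩ B`. Then the local homomorphism `B_p →
R'_{q'}` induces an isomorphism between the completions of these two Noetherian local rings;
equivalently, and this is the form stated, for every `n` the composite `B_p → R'_{q'} → R'_{q'} /
m_{q'}^n` is surjective and its kernel is exactly `m_p^n`. (The published statement concerns a
prescheme `X` finite over a locally Noetherian `Y = X/G` and the local rings of `Y` and `X/H` at the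
images of a point `x`; the assertion is local on `Y` and `X` is affine over `Y`, so it is stated for
`X = Spec R`, `Y = Spec R^G`, `X/H = Spec R^H`. The hypothesis `hle` only records the inclusion `R^G
⊆ R^H`, which always holds.) -/
theorem result
    (G R : Type u) [Group G] [Finite G] [CommRing R] [MulSemiringAction G R]
    [IsNoetherianRing (FixedPoints.subring R G)] [Module.Finite (FixedPoints.subring R G) R]
    (H : Subgroup G) (q : Ideal R) [q.IsPrime] (hD : MulAction.stabilizer G q ≤ H)
    (hle : FixedPoints.subring R G ≤ FixedPoints.subring R H) (n : ℕ) :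
    let q' : Ideal (FixedPoints.subring R H) := Ideal.comap (FixedPoints.subring R H).subtype q
    let φ := Localization.localRingHom (Ideal.comap (Subring.inclusion hle) q') q' (Subring.inclusion hle) rfl
    Function.Surjective ((Ideal.Quotient.mk (IsLocalRing.maximalIdeal (Localization.AtPrime q') ^ n)).comp φ) ∧
      Ideal.comap φ (IsLocalRing.maximalIdeal (Localization.AtPrime q') ^ n) =
        IsLocalRing.maximalIdeal (Localization.AtPrime (Ideal.comap (Subring.inclusion hle) q')) ^ n := by
  intro q' φ
  let A := FixedPoints.subring R G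
  let A' := FixedPoints.subring R H
  let ι : A →+* A' := Subring.inclusion hle
  let P : Ideal A := q'.comap ι
  let L := Localization.AtPrime q'
  let L₀ := Localization.AtPrime P
  let m := IsLocalRing.maximalIdeal L
  let m₀ := IsLocalRing.maximalIdeal L₀
  -- finiteness
  letI : Algebra A A' := ι.toAlgebra
  have : IsScalarTower A A' R := IsScalarTower.of_algebraMap_eq fun _ => rfl
  have : Module.Finite A A' := Module.Finite.of_injective
    (IsScalarTower.toAlgHom A A' R).toLinearMap Subtype.val_injective
  have : IsNoetherianRing A' := isNoetherianRing_iff.2 (isNoetherian_of_tower A inferInstance)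
  have : Module.Finite A' R := Module.Finite.of_restrictScalars_finite A A' R
  have hφ : ∀ a : A, φ (algebraMap A L₀ a) = algebraMap A' L (ι a) := fun a =>
    Localization.localRingHom_to_map _ _ _ _ a
  -- elements of the maximal ideal to a power
  have hm : ∀ (k : ℕ) (x : A'), (∃ t : A', t ∉ q' ∧ t * x ∈ q' ^ k) → algebraMap A' L x ∈ m ^ k := by
    rintro k x ⟨t, ht, htx⟩
    have h1 : algebraMap A' L (t * x) ∈ m ^ k := by
      show _ ∈ IsLocalRing.maximalIdeal L ^ k
      rw [← IsLocalization.AtPrime.map_eq_maximalIdeal q' L, ← Ideal.map_pow]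
      exact Ideal.mem_map_of_mem _ htx
    rw [map_mul] at h1
    exact (Ideal.unit_mul_mem_iff_mem _ (IsLocalization.map_units L (⟨t, ht⟩ : q'.primeCompl))).1 h1
  have hm' : ∀ (k : ℕ) (x : A'), algebraMap A' L x ∈ m ^ k → ∃ t : A', t ∉ q' ∧ t * x ∈ q' ^ k := by
    intro k x hx
    change _ ∈ IsLocalRing.maximalIdeal L ^ k at hx
    rw [← IsLocalization.AtPrime.map_eq_maximalIdeal q' L, ← Ideal.map_pow] at hx
    obtain ⟨t, ht, htx⟩ := (IsLocalization.algebraMap_mem_map_algebraMap_iff q'.primeCompl L _ x).1 hx
    exact ⟨t, ht, htx⟩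
  -- `φ` is surjective modulo every power
  have hsurj : ∀ (k : ℕ) (z : L), ∃ w : L₀, φ w - z ∈ m ^ k := by
    intro k
    have hbase : ∀ x : A', ∃ w : L₀, φ w - algebraMap A' L x ∈ m ^ k := by
      intro x
      obtain ⟨N, hN⟩ := InvLocal.exists_mul_mem_pow H q k
      obtain ⟨b, e, hb, hbx, c, hc, hce, he⟩ := InvLocal.exists_approx H q hD (N + 1) x
      have hbm : algebraMap A' L b - algebraMap A' L x * algebraMap A' L e ∈ m ^ k := by
        rw [← map_mul, ← map_sub]
        refine hm k _ (hN (b - x * e) 1 q.one_notMem ?_)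
        rw [one_mul]
        exact Ideal.pow_le_pow_right (Nat.le_succ N) hbx
      have hcm : algebraMap A' L c - algebraMap A' L e ∈ m ^ k := by
        rw [← map_sub]
        refine hm k _ (hN (c - e) 1 q.one_notMem ?_)
        rw [one_mul]
        exact Ideal.pow_le_pow_right (Nat.le_succ N) hce
      have hcP : (⟨c.1, hc⟩ : A) ∉ P := fun h => he (by
        have h1 : (c : R) - e ∈ q := Ideal.pow_le_self (Nat.succ_ne_zero N) hce
        simpa using sub_mem (show (c : R) ∈ q from h) h1)
      have hu := IsLocalization.map_units L₀ (⟨⟨c.1, hc⟩, hcP⟩ : P.primeCompl)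
      refine ⟨algebraMap A L₀ ⟨b.1, hb⟩ * ↑hu.unit⁻¹, ?_⟩
      have hu' : φ ↑hu.unit⁻¹ * algebraMap A' L c = 1 := by
        rw [← show algebraMap A' L (ι ⟨c.1, hc⟩) = algebraMap A' L c from rfl, ← hφ, ← map_mul]
        exact (congrArg φ hu.val_inv_mul).trans (map_one φ)
      rw [map_mul, hφ, show algebraMap A' L (ι ⟨b.1, hb⟩) = algebraMap A' L b from rfl]
      have : algebraMap A' L b * φ ↑hu.unit⁻¹ - algebraMap A' L x =
          φ ↑hu.unit⁻¹ * ((algebraMap A' L b - algebraMap A' L x * algebraMap A' L e) -
            algebraMap A' L x * (algebraMap A' L c - algebraMap A' L e)) := by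
        linear_combination (algebraMap A' L x) * hu'
      rw [this]
      exact Ideal.mul_mem_left _ _ (sub_mem hbm (Ideal.mul_mem_left _ _ hcm))
    intro z
    obtain ⟨x, s, rfl⟩ := IsLocalization.exists_mk'_eq q'.primeCompl z
    rcases Nat.eq_zero_or_pos k with rfl | hk
    · exact ⟨0, by simp⟩
    obtain ⟨w₁, hw₁⟩ := hbase x
    obtain ⟨w₂, hw₂⟩ := hbase s
    have hw₂u : IsUnit w₂ := by
      by_contra h
      have h1 : φ w₂ ∈ m := (IsLocalRing.mem_maximalIdeal _).2 fun hu => h (isUnit_of_map_unit φ w₂ hu)
      have h2 : algebraMap A' L s ∈ m := by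
        simpa using sub_mem h1 (Ideal.pow_le_self hk.ne' hw₂)
      exact (IsLocalRing.mem_maximalIdeal _).1 h2 (IsLocalization.map_units L s)
    refine ⟨w₁ * ↑hw₂u.unit⁻¹, ?_⟩
    have hu' : φ w₂ * φ ↑hw₂u.unit⁻¹ = 1 := by
      rw [← map_mul, hw₂u.mul_val_inv, map_one]
    have hsp : IsLocalization.mk' L x s * algebraMap A' L s = algebraMap A' L x :=
      IsLocalization.mk'_spec _ _ _
    have : φ (w₁ * ↑hw₂u.unit⁻¹) - IsLocalization.mk' L x s =
        φ ↑hw₂u.unit⁻¹ * ((φ w₁ - algebraMap A' L x) - IsLocalization.mk' L x s * (φ w₂ - algebraMap A' L s)) := by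
      rw [map_mul]
      linear_combination (IsLocalization.mk' L x s) * hu' - (φ ↑hw₂u.unit⁻¹) * hsp
    rw [this]
    exact Ideal.mul_mem_left _ _ (sub_mem hw₁ (Ideal.mul_mem_left _ _ hw₂))
  -- the preimage of a high power is in a given power
  have hker : ∀ k : ℕ, ∃ N : ℕ, ∀ w : L₀, φ w ∈ m ^ N → w ∈ m₀ ^ k := by
    intro k
    obtain ⟨N, hN⟩ := InvLocal.exists_mul_mem_pow G q k
    refine ⟨N, fun w hw => ?_⟩
    obtain ⟨a, s, rfl⟩ := IsLocalization.exists_mk'_eq P.primeCompl w
    have h1 : algebraMap A' L (ι a) ∈ m ^ N := by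
      rw [← hφ, ← IsLocalization.mk'_spec L₀ a s, map_mul]
      exact Ideal.mul_mem_right _ _ hw
    obtain ⟨t, ht, hta⟩ := hm' N _ h1
    have h2 : (A'.subtype (t * ι a)) ∈ q ^ N := by
      have := Ideal.mem_map_of_mem A'.subtype hta
      rw [Ideal.map_pow] at this
      exact Ideal.pow_right_mono Ideal.map_comap_le N this
    obtain ⟨u, hu, hua⟩ := hN a (t : R) ht h2
    have h3 : algebraMap A L₀ a ∈ m₀ ^ k := by
      have h4 : algebraMap A L₀ (u * a) ∈ m₀ ^ k := by
        show _ ∈ IsLocalRing.maximalIdeal L₀ ^ k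
        rw [← IsLocalization.AtPrime.map_eq_maximalIdeal P L₀, ← Ideal.map_pow]
        exact Ideal.mem_map_of_mem _ hua
      rw [map_mul] at h4
      exact (Ideal.unit_mul_mem_iff_mem _ (IsLocalization.map_units L₀ (⟨u, hu⟩ : P.primeCompl))).1 h4
    rw [IsLocalization.mk'_eq_mul_mk'_one]
    exact Ideal.mul_mem_right _ _ h3
  -- the maximal ideal is generated by that of the invariants
  have hle' : m₀.map φ ≤ m := Ideal.map_le_iff_le_comap.2 fun w hw =>
    (IsLocalRing.mem_maximalIdeal _).2 fun hu => (IsLocalRing.mem_maximalIdeal _).1 hw (isUnit_of_map_unit φ w hu)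
  have hgen : m₀.map φ = m := by
    refine le_antisymm hle' ?_
    refine Submodule.le_of_le_smul_of_le_jacobson_bot (I := m) (IsNoetherian.noetherian m)
      (IsLocalRing.maximalIdeal_le_jacobson _) ?_
    intro z hz
    obtain ⟨w, hw⟩ := hsurj 2 z
    have hwm : w ∈ m₀ := by
      by_contra h
      have hu : IsUnit (φ w) := (IsLocalRing.notMem_maximalIdeal.1 h).map φ
      have : φ w ∈ m := by simpa using add_mem (Ideal.pow_le_self two_ne_zero hw) hz
      exact (IsLocalRing.mem_maximalIdeal _).1 this hu
    have : z = φ w + -(φ w - z) := by ring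
    rw [this]
    refine Submodule.add_mem_sup (Ideal.mem_map_of_mem _ hwm) (neg_mem ?_)
    rw [smul_eq_mul, ← sq]
    exact hw
  refine ⟨fun z => ?_, ?_⟩
  · obtain ⟨z, rfl⟩ := Ideal.Quotient.mk_surjective z
    obtain ⟨w, hw⟩ := hsurj n z
    exact ⟨w, Ideal.Quotient.eq.2 hw⟩
  · refine le_antisymm (fun w hw => ?_) (Ideal.map_le_iff_le_comap.1 ?_)
    · obtain ⟨N, hN⟩ := hker n
      have hsum : ∀ N', ∀ z ∈ m ^ n, ∃ v ∈ m₀ ^ n, φ v - z ∈ m ^ N' := by
        intro N' z hz
        change z ∈ IsLocalRing.maximalIdeal L ^ n at hz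
        have hz' : z ∈ (m₀ ^ n).map φ := by rw [Ideal.map_pow, hgen]; exact hz
        rw [Ideal.map] at hz'
        induction hz' using Submodule.span_induction with
        | mem x hx =>
          obtain ⟨v, hv, rfl⟩ := hx
          exact ⟨v, hv, by rw [sub_self]; exact zero_mem _⟩
        | zero => exact ⟨0, zero_mem _, by simp⟩
        | add x y hx hy ihx ihy =>
          have hxm : x ∈ IsLocalRing.maximalIdeal L ^ n := by
            have : x ∈ (m₀ ^ n).map φ := hx
            rwa [Ideal.map_pow, hgen] at this
          have hym : y ∈ IsLocalRing.maximalIdeal L ^ n := by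
            have : y ∈ (m₀ ^ n).map φ := hy
            rwa [Ideal.map_pow, hgen] at this
          obtain ⟨v, hv, hv'⟩ := ihx hxm
          obtain ⟨v', hv₂, hv₂'⟩ := ihy hym
          refine ⟨v + v', add_mem hv hv₂, ?_⟩
          rw [map_add, add_sub_add_comm]
          exact add_mem hv' hv₂'
        | smul r x hx ih =>
          have hxm : x ∈ IsLocalRing.maximalIdeal L ^ n := by
            have : x ∈ (m₀ ^ n).map φ := hx
            rwa [Ideal.map_pow, hgen] at this
          obtain ⟨v, hv, hv'⟩ := ih hxm
          obtain ⟨r', hr'⟩ := hsurj N' r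
          refine ⟨r' * v, Ideal.mul_mem_left _ _ hv, ?_⟩
          have : φ (r' * v) - r • x = (φ r' - r) * φ v + r * (φ v - x) := by
            rw [map_mul, smul_eq_mul]; ring
          rw [this]
          exact add_mem (Ideal.mul_mem_right _ _ hr') (Ideal.mul_mem_left _ _ hv')
      obtain ⟨v, hv, hvw⟩ := hsum N (φ w) hw
      have := hN (w - v) (by rw [map_sub, ← neg_sub]; exact neg_mem hvw)
      simpa using add_mem this hv
    · rw [Ideal.map_pow]
      exact Ideal.pow_right_mono hle' n

end Groth.Agent.S6017
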