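import Groth.Statements.S6041
import Mathlib.CategoryTheory.Sites.Over

set_option autoImplicit false
set_option backward.isDefEq.respectTransparency false
set_option backward.isDefEq.respectTransparency.types false
open CategoryTheory CategoryTheory.Limits AlgebraicGeometry MonoidalCategory
universe u
open GrpQ

namespace Groth.Agent.S6041

open CartesianMonoidalCategory in
/-- For schemes and the fppf topology, easy direction: let `s, t : R ⇉ U` be a pair of morphisms of
schemes over `S` (in the source an equivalence relation), `T` a scheme over `S` and `i : Z ⟶ U ×_S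
T` such that `Z ⟶ T` is flat, surjective and locally of finite presentation and any two points of
`Z` over the same point of `T` have `R`-related images in `U`. Then the composite `h_Z ⟶ h_U ⟶ U/R`
descends to exactly one section of the fppf quotient sheaf `U/R` over `T`. -/
theorem result {S : Scheme.{u}} {R U : Over S} (s t : R ⟶ U)
    (T Z : Over S) (i : Z ⟶ U ⊗ T)
    [Flat (i ≫ snd U T).left] [Surjective (i ≫ snd U T).left] [LocallyOfFinitePresentation (i ≫ snd U T).left]
    (hZZ : ∀ (T' : Over S) (z₁ z₂ : T' ⟶ Z), z₁ ≫ i ≫ snd U T = z₂ ≫ i ≫ snd U T →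
      ∃ r : T' ⟶ R, r ≫ s = z₁ ≫ i ≫ fst U T ∧ r ≫ t = z₂ ≫ i ≫ fst U T) :
    ∃! σ : QuotSh.rep Scheme.fppfPrecoverage T ⟶ QuotSh.quot Scheme.fppfPrecoverage s t,
      QuotSh.repMap Scheme.fppfPrecoverage (i ≫ fst U T) ≫ QuotSh.quotπ Scheme.fppfPrecoverage s t =
        QuotSh.repMap Scheme.fppfPrecoverage (i ≫ snd U T) ≫ σ := by
  let J := QuotSh.J Scheme.fppfPrecoverage S
  let Q := QuotSh.quot Scheme.fppfPrecoverage s t
  let e : ∀ V : Over S, (QuotSh.rep Scheme.fppfPrecoverage V ⟶ Q) ≃ Q.obj.obj (Opposite.op V) := fun V =>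
    ((sheafificationAdjunction J (Type (u + 1))).homEquiv _ _).trans uliftYonedaEquiv.{u + 1}
  have he : ∀ {V W : Over S} (g : V ⟶ W) (φ : QuotSh.rep Scheme.fppfPrecoverage W ⟶ Q),
      e V (QuotSh.repMap Scheme.fppfPrecoverage g ≫ φ) = Q.obj.map g.op (e W φ) := fun g φ => by
    refine (congrArg uliftYonedaEquiv.{u + 1}
      ((sheafificationAdjunction J (Type (u + 1))).homEquiv_naturality_left _ φ)).trans ?_
    exact (uliftYonedaEquiv_naturality.{u + 1} _ g.op).symm
  let ρ := i ≫ snd U T
  have hρ : Presieve.IsSheafFor Q.obj (Presieve.singleton ρ) := by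
    rw [Presieve.isSheafFor_iff_generate]
    refine (isSheaf_iff_isSheaf_of_type _ _).1 Q.property _ ?_
    rw [GrothendieckTopology.mem_over_iff]
    refine GrothendieckTopology.superset_covering _ ?_
      (Precoverage.generate_mem_toGrothendieck (Scheme.Hom.singleton_mem_fppfPrecoverage ρ.left))
    rw [Sieve.generate_le_iff]
    rintro _ _ ⟨⟩
    rw [Sieve.overEquiv_iff]
    exact ⟨Z, Over.homMk (𝟙 _) (by simp), ρ, Presieve.singleton.mk, Over.OverMorphism.ext (by simp)⟩
  let φ₀ := QuotSh.repMap Scheme.fppfPrecoverage (i ≫ fst U T) ≫ QuotSh.quotπ Scheme.fppfPrecoverage s t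
  obtain ⟨y, hy, huy⟩ := Presieve.isSheafFor_singleton.1 hρ (e Z φ₀) fun {T'} z₁ z₂ h => by
    obtain ⟨r, h1, h2⟩ := hZZ T' z₁ z₂ h
    rw [← he, ← he]
    congr 1
    rw [← Category.assoc, ← Category.assoc, ← Functor.map_comp, ← Functor.map_comp, ← Functor.whiskerRight_comp,
      ← Functor.whiskerRight_comp, ← yoneda.map_comp, ← yoneda.map_comp, ← h1, ← h2, yoneda.map_comp,
      yoneda.map_comp, Functor.whiskerRight_comp, Functor.whiskerRight_comp, Functor.map_comp, Functor.map_comp,
      Category.assoc, Category.assoc]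
    exact congrArg (QuotSh.repMap Scheme.fppfPrecoverage r ≫ ·) (QuotSh.quot_condition _ s t)
  refine ⟨(e T).symm y, (e Z).injective ?_, fun σ hσ => (e T).injective ?_⟩
  · exact ((he ρ _).trans ((congrArg (Q.obj.map ρ.op) (Equiv.apply_symm_apply _ _)).trans hy)).symm
  · rw [Equiv.apply_symm_apply]
    exact huy _ ((he ρ σ).symm.trans (congrArg (e Z) hσ.symm))

end Groth.Agent.S6041
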