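import Groth.Statements.S6043
import Groth.Agent.GrpQ29.ClosedGraph

set_option autoImplicit false
set_option backward.isDefEq.respectTransparency false
set_option backward.isDefEq.respectTransparency.types false
open CategoryTheory CategoryTheory.Limits AlgebraicGeometry MonoidalCategory
universe u
open GrpQ

namespace Groth.Agent.S6043

open CartesianMonoidalCategory in
/-- The comparison of topologies, for an equivalence relation of schemes over a base scheme `S` with
closed graph: let `s, t : R ⇉ U` be an equivalence relation of schemes over `S` with `s` flat,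
surjective and locally of finite presentation and `(t, s) : R ⟶ U ×_S U` a closed immersion. Then
the fppf quotient sheaf `U/R` on schemes over `S` satisfies the sheaf condition for the fpqc
topology. (The published statement takes `R ⟶ U` faithfully flat and quasi-compact and says that its
fpqc quotient sheaf is also the quotient for the canonical topology; this row takes `R ⟶ U` flat,
surjective and locally of finite presentation and says that the fppf quotient sheaf is already an
fpqc sheaf.) -/
theorem result {S : Scheme.{u}} {R U : Over S} (s t : R ⟶ U)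
    [IsEquivalenceRelation s t]
    [Flat s.left] [Surjective s.left] [LocallyOfFinitePresentation s.left]
    (hc : IsClosedImmersion (lift t s).left) :
    Presheaf.IsSheaf (QuotSh.J Scheme.fpqcPrecoverage S)
      (QuotSh.quot Scheme.fppfPrecoverage s t).obj := by
  let K := Scheme.fpqcPrecoverage.{u}
  let K₀ := Scheme.fppfPrecoverage.{u}
  have hle : QuotSh.J K₀ S ≤ QuotSh.J K S := fun X Sv hSv => by
    rw [GrothendieckTopology.mem_over_iff] at hSv ⊢
    exact Scheme.fppfTopology_le_fpqcTopology _ hSv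
  let Q₁ := QuotSh.quot K s t
  let Q₀ := QuotSh.quot K₀ s t
  let G : QuotSh.Sh K₀ S := ⟨Q₁.obj, (isSheaf_iff_isSheaf_of_type _ _).2
    (Presieve.isSheaf_of_le _ hle ((isSheaf_iff_isSheaf_of_type _ _).1 Q₁.property))⟩
  let φ : QuotSh.rep K₀ U ⟶ G :=
    (Groth.Agent.GrpQ29.secEquiv G U).symm (Groth.Agent.GrpQ29.cls K s t (𝟙 U))
  have hφ : ∀ {V : Over S} (a : V ⟶ U),
      Groth.Agent.GrpQ29.secEquiv G V (QuotSh.repMap K₀ a ≫ φ) = Groth.Agent.GrpQ29.cls K s t a := fun a => by
    rw [Groth.Agent.GrpQ29.secEquiv_repMap, Equiv.apply_symm_apply]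
    exact (Groth.Agent.GrpQ29.cls_map (K := K) a (𝟙 U)).trans (congrArg _ (Category.comp_id a))
  let θ : Q₀ ⟶ G := coequalizer.desc φ ((Groth.Agent.GrpQ29.secEquiv G R).injective (by
    rw [hφ, hφ]
    exact (congrArg _ (Category.id_comp s).symm).trans
      ((Groth.Agent.GrpQ29.cls_comp_eq (𝟙 R)).trans (congrArg _ (Category.id_comp t)))))
  have hθ : ∀ {V : Over S} (a : V ⟶ U),
      θ.hom.app (Opposite.op V) (Groth.Agent.GrpQ29.cls K₀ s t a) = Groth.Agent.GrpQ29.cls K s t a := fun a => by
    rw [Groth.Agent.GrpQ29.cls, ← Groth.Agent.GrpQ29.secEquiv_comp, Category.assoc]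
    refine Eq.trans ?_ (hφ a)
    rw [show QuotSh.quotπ K₀ s t ≫ θ = φ from coequalizer.π_desc _ _]
  have h₀ := (isSheaf_iff_isSheaf_of_type _ _).1 Q₀.property
  have h₁ := (isSheaf_iff_isSheaf_of_type _ _).1 Q₁.property
  have hinj : ∀ (T : Over S) (x y : Q₀.obj.obj (Opposite.op T)),
      θ.hom.app (Opposite.op T) x = θ.hom.app (Opposite.op T) y → x = y := by
    intro T x y h
    obtain ⟨Sx, hSx, hx⟩ := Groth.Agent.GrpQ29.exists_covering_cls x
    obtain ⟨Sy, hSy, hy⟩ := Groth.Agent.GrpQ29.exists_covering_cls y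
    refine (h₀ (Sx ⊓ Sy) ((QuotSh.J K₀ S).intersection_covering hSx hSy)).isSeparatedFor.ext fun V g hg => ?_
    obtain ⟨a, ha⟩ := hx g hg.1
    obtain ⟨b, hb⟩ := hy g hg.2
    have hab : Groth.Agent.GrpQ29.cls K s t a = Groth.Agent.GrpQ29.cls K s t b := by
      rw [← hθ, ← hθ, ha, hb]
      exact (NatTrans.naturality_apply θ.hom g.op x).trans
        ((congrArg (G.obj.map g.op) h).trans (NatTrans.naturality_apply θ.hom g.op y).symm)
    obtain ⟨r, rfl, rfl⟩ := Groth.Agent.GrpQ29.exists_of_cls_eq hab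
    rw [← ha, ← hb, Groth.Agent.GrpQ29.cls_comp_eq]
  have hsurj : ∀ (T : Over S) (x : Q₁.obj.obj (Opposite.op T)), ∃ y, θ.hom.app (Opposite.op T) y = x := by
    intro T x
    obtain ⟨Z, i, hi, hpts, hP⟩ := Groth.Agent.GrpQ29.exists_closed_of_section x hc
    let ρ := i ≫ snd U T
    have : Flat ρ.left := hP @Flat (fun hg h hb => Groth.Agent.CGrpSh29.property_descends hg h hb) ‹_›
    have : Surjective ρ.left := hP @Surjective (fun hg h hb => Groth.Agent.CGrpSh29.property_descends hg h hb) ‹_›
    have : LocallyOfFinitePresentation ρ.left :=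
      hP @LocallyOfFinitePresentation (fun hg h hb => Groth.Agent.CGrpSh29.property_descends hg h hb) ‹_›
    have hmem : Sieve.generate (Presieve.singleton ρ) ∈ QuotSh.J K₀ S T := by
      rw [GrothendieckTopology.mem_over_iff]
      refine GrothendieckTopology.superset_covering _ ?_
        (Precoverage.generate_mem_toGrothendieck (Scheme.Hom.singleton_mem_fppfPrecoverage ρ.left))
      rw [Sieve.generate_le_iff]
      rintro _ _ ⟨⟩
      rw [Sieve.overEquiv_iff]
      exact ⟨Z, Over.homMk (𝟙 _) (by simp), ρ, Presieve.singleton.mk, Over.OverMorphism.ext (by simp)⟩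
    have hZ : ∀ {W : Over S} (p : W ⟶ Z), Groth.Agent.GrpQ29.cls K s t (p ≫ i ≫ fst U T) =
        Q₁.obj.map (p ≫ ρ).op x := fun p => by
      have h := (hpts _ (p ≫ i)).1 ⟨p, rfl⟩
      rwa [Category.assoc, Category.assoc] at h
    obtain ⟨y, hy, -⟩ := Presieve.isSheafFor_singleton.1 ((Presieve.isSheafFor_iff_generate _).2 (h₀ _ hmem))
      (Groth.Agent.GrpQ29.cls K₀ s t (i ≫ fst U T)) fun {W} p₁ p₂ h => by
        rw [Groth.Agent.GrpQ29.cls_map, Groth.Agent.GrpQ29.cls_map]
        obtain ⟨r, hr₁, hr₂⟩ := Groth.Agent.GrpQ29.exists_of_cls_eq ((hZ p₁).trans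
          ((congrArg (fun m => Q₁.obj.map m.op x) h).trans (hZ p₂).symm))
        rw [← hr₁, ← hr₂, Groth.Agent.GrpQ29.cls_comp_eq]
    refine ⟨y, ((Presieve.isSheafFor_iff_generate _).2 (h₁ _ (hle _ hmem))).isSeparatedFor.ext fun W g hg => ?_⟩
    cases hg
    refine (NatTrans.naturality_apply θ.hom ρ.op y).symm.trans ?_
    rw [hy, hθ]
    have h := hZ (𝟙 Z)
    rwa [Category.id_comp, Category.id_comp] at h
  have : ∀ T, IsIso (θ.hom.app T) := fun T =>
    (isIso_iff_bijective _).2 ⟨fun x y h => hinj T.unop x y h, fun x => hsurj T.unop x⟩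
  have : IsIso θ.hom := NatIso.isIso_of_isIso_app _
  exact (Presheaf.isSheaf_of_iso_iff (asIso θ.hom)).2 Q₁.property

end Groth.Agent.S6043
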