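import Groth.Statements.S6049
import Groth.Agent.GrpQ29.OpenGraph

set_option autoImplicit false
set_option backward.isDefEq.respectTransparency false
set_option backward.isDefEq.respectTransparency.types false
open CategoryTheory CategoryTheory.Limits AlgebraicGeometry MonoidalCategory
universe u
open GrpQ

namespace Groth.Agent.S6049

open CartesianMonoidalCategory in
/-- The case of an open graph, for schemes over a base scheme `S` and the fpqc topology: let `s, t : R ⇉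
U` be an equivalence relation of schemes over `S` with `s` flat, surjective and quasi-compact and
`(t, s) : R ⟶ U ×_S U` an open immersion. For every scheme `T` over `S`, every section `σ` of the
fpqc quotient sheaf `U/R` over `T` is induced by an open subscheme `Z ⊆ U ×_S T` which is stable
under `R ×_S T`, is flat, surjective and quasi-compact over `T`, and any two of whose points over
the same point of `T` are `R`-related (so that `R_Z ⇉ Z ⟶ T` is exact); such a `Z` is unique up to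
isomorphism over `U ×_S T`. (So the `T`-points of `U/R` are exactly these open subschemes. The
published statement also says that this fpqc quotient sheaf is the quotient for the canonical
topology; that clause is not part of this row.) -/
theorem result {S : Scheme.{u}} {R U : Over S} (s t : R ⟶ U)
    [IsEquivalenceRelation s t]
    [Flat s.left] [Surjective s.left] [QuasiCompact s.left]
    (hc : IsOpenImmersion (lift t s).left)
    (T : Over S) (σ : QuotSh.rep Scheme.fpqcPrecoverage T ⟶ QuotSh.quot Scheme.fpqcPrecoverage s t) :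
    (∃ (Z : Over S) (i : Z ⟶ U ⊗ T), IsOpenImmersion i.left ∧
      (∀ (T' : Over S) (r : T' ⟶ R ⊗ T),
        (∃ z : T' ⟶ Z, z ≫ i = r ≫ (s ▷ T)) ↔ (∃ z : T' ⟶ Z, z ≫ i = r ≫ (t ▷ T))) ∧
      Flat (i ≫ snd U T).left ∧ Surjective (i ≫ snd U T).left ∧
      QuasiCompact (i ≫ snd U T).left ∧
      (∀ (T' : Over S) (z₁ z₂ : T' ⟶ Z), z₁ ≫ i ≫ snd U T = z₂ ≫ i ≫ snd U T →
        ∃ r : T' ⟶ R, r ≫ s = z₁ ≫ i ≫ fst U T ∧ r ≫ t = z₂ ≫ i ≫ fst U T) ∧
      QuotSh.repMap Scheme.fpqcPrecoverage (i ≫ fst U T) ≫ QuotSh.quotπ Scheme.fpqcPrecoverage s t =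
        QuotSh.repMap Scheme.fpqcPrecoverage (i ≫ snd U T) ≫ σ) ∧
    (∀ (Z Z' : Over S) (i : Z ⟶ U ⊗ T) (i' : Z' ⟶ U ⊗ T),
      IsOpenImmersion i.left → IsOpenImmersion i'.left →
      (∀ (T' : Over S) (r : T' ⟶ R ⊗ T),
        (∃ z : T' ⟶ Z, z ≫ i = r ≫ (s ▷ T)) ↔ (∃ z : T' ⟶ Z, z ≫ i = r ≫ (t ▷ T))) →
      (∀ (T' : Over S) (r : T' ⟶ R ⊗ T),
        (∃ z : T' ⟶ Z', z ≫ i' = r ≫ (s ▷ T)) ↔ (∃ z : T' ⟶ Z', z ≫ i' = r ≫ (t ▷ T))) →
      Flat (i ≫ snd U T).left → Surjective (i ≫ snd U T).left →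
      QuasiCompact (i ≫ snd U T).left →
      Flat (i' ≫ snd U T).left → Surjective (i' ≫ snd U T).left →
      QuasiCompact (i' ≫ snd U T).left →
      (∀ (T' : Over S) (z₁ z₂ : T' ⟶ Z), z₁ ≫ i ≫ snd U T = z₂ ≫ i ≫ snd U T →
        ∃ r : T' ⟶ R, r ≫ s = z₁ ≫ i ≫ fst U T ∧ r ≫ t = z₂ ≫ i ≫ fst U T) →
      (∀ (T' : Over S) (z₁ z₂ : T' ⟶ Z'), z₁ ≫ i' ≫ snd U T = z₂ ≫ i' ≫ snd U T →
        ∃ r : T' ⟶ R, r ≫ s = z₁ ≫ i' ≫ fst U T ∧ r ≫ t = z₂ ≫ i' ≫ fst U T) →
      QuotSh.repMap Scheme.fpqcPrecoverage (i ≫ fst U T) ≫ QuotSh.quotπ Scheme.fpqcPrecoverage s t =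
        QuotSh.repMap Scheme.fpqcPrecoverage (i ≫ snd U T) ≫ σ →
      QuotSh.repMap Scheme.fpqcPrecoverage (i' ≫ fst U T) ≫ QuotSh.quotπ Scheme.fpqcPrecoverage s t =
        QuotSh.repMap Scheme.fpqcPrecoverage (i' ≫ snd U T) ≫ σ →
      ∃ e : Z ≅ Z', e.hom ≫ i' = i) := by
  let K := Scheme.fpqcPrecoverage.{u}
  let x := Groth.Agent.GrpQ29.secEquiv _ T σ
  have key : ∀ (X : Over S) (Z : Over S) (i : Z ⟶ U ⊗ T),
      QuotSh.repMap K (i ≫ fst U T) ≫ QuotSh.quotπ K s t = QuotSh.repMap K (i ≫ snd U T) ≫ σ →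
      ∀ w : X ⟶ Z, Groth.Agent.GrpQ29.cls K s t ((w ≫ i) ≫ fst U T) =
        (QuotSh.quot K s t).obj.map ((w ≫ i) ≫ snd U T).op x := by
    intro X Z i h w
    rw [Category.assoc, Category.assoc, ← Groth.Agent.GrpQ29.cls_map, op_comp, Functor.map_comp_apply]
    exact congrArg ((QuotSh.quot K s t).obj.map w.op)
      ((congrArg (Groth.Agent.GrpQ29.secEquiv _ Z) h).trans (Groth.Agent.GrpQ29.secEquiv_repMap _ σ))
  have hst : ∀ {X : Over S} (r : X ⟶ R ⊗ T),
      ((r ≫ s ▷ T) ≫ fst U T = (r ≫ fst R T) ≫ s ∧ (r ≫ s ▷ T) ≫ snd U T = r ≫ snd R T) ∧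
      ((r ≫ t ▷ T) ≫ fst U T = (r ≫ fst R T) ≫ t ∧ (r ≫ t ▷ T) ≫ snd U T = r ≫ snd R T) := fun r => by simp
  constructor
  · obtain ⟨Z, i, hi, hpts, hP⟩ := Groth.Agent.GrpQ29.exists_open_of_section x hc
    have hrel : ∀ (X : Over S) (w : X ⟶ Z), Groth.Agent.GrpQ29.cls K s t (w ≫ i ≫ fst U T) =
        (QuotSh.quot K s t).obj.map (w ≫ i ≫ snd U T).op x := fun X w => by
      have h := (hpts X (w ≫ i)).1 ⟨w, rfl⟩
      rwa [Category.assoc, Category.assoc] at h
    refine ⟨Z, i, hi, fun X r => ?_, ?_, ?_, ?_, fun X z₁ z₂ h => ?_, ?_⟩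
    · rw [hpts, hpts, (hst r).1.1, (hst r).1.2, (hst r).2.1, (hst r).2.2, Groth.Agent.GrpQ29.cls_comp_eq]
    · exact hP @Flat (fun hg h hb => Groth.Agent.CGrpSh29.property_descends hg h hb) ‹_›
    · exact hP @Surjective (fun hg h hb => Groth.Agent.CGrpSh29.property_descends hg h hb) ‹_›
    · have := Groth.Agent.CGrpSh29.descendsAlong_quasiCompact.{u}
      exact hP @QuasiCompact (fun hg h hb => MorphismProperty.of_isPullback_of_descendsAlong
        (Q := Groth.Agent.CGrpSh29.fpqcCov) h.flip hg hb) ‹_›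
    · obtain ⟨r, h₁, h₂⟩ := Groth.Agent.GrpQ29.exists_of_cls_eq
        ((hrel X z₂).trans (((congrArg (fun m => (QuotSh.quot K s t).obj.map m.op x) h).symm).trans (hrel X z₁).symm))
      exact ⟨r, h₂, h₁⟩
    · refine (Groth.Agent.GrpQ29.secEquiv _ Z).injective ?_
      rw [Groth.Agent.GrpQ29.secEquiv_repMap (i ≫ snd U T) σ]
      exact ((congrArg (Groth.Agent.GrpQ29.cls K s t) (Category.id_comp (i ≫ fst U T))).symm.trans (hrel Z (𝟙 Z))).trans
        (congrArg (fun m => (QuotSh.quot K s t).obj.map m.op x) (Category.id_comp (i ≫ snd U T)))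
  · have factor : ∀ (Z : Over S) (i : Z ⟶ U ⊗ T), IsOpenImmersion i.left →
        (∀ (T' : Over S) (r : T' ⟶ R ⊗ T),
          (∃ z : T' ⟶ Z, z ≫ i = r ≫ (s ▷ T)) ↔ (∃ z : T' ⟶ Z, z ≫ i = r ≫ (t ▷ T))) →
        Flat (i ≫ snd U T).left → Surjective (i ≫ snd U T).left → QuasiCompact (i ≫ snd U T).left →
        QuotSh.repMap K (i ≫ fst U T) ≫ QuotSh.quotπ K s t = QuotSh.repMap K (i ≫ snd U T) ≫ σ →
        ∀ (X : Over S) (v : X ⟶ U ⊗ T), Groth.Agent.GrpQ29.cls K s t (v ≫ fst U T) =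
          (QuotSh.quot K s t).obj.map (v ≫ snd U T).op x → ∃ z : X ⟶ Z, z ≫ i = v := by
      intro Z i hi hstab hf hs hq heq X v hv
      have : Mono i := Over.mono_of_mono_left _
      let P : Over S := pullback (v ≫ snd U T) (i ≫ snd U T)
      let p : P ⟶ X := pullback.fst _ _
      let z : P ⟶ Z := pullback.snd _ _
      have hp : Groth.Agent.CGrpSh29.fpqcCov p.left :=
        MorphismProperty.of_isPullback (P := Groth.Agent.CGrpSh29.fpqcCov)
          ((IsPullback.of_hasPullback (v ≫ snd U T) (i ≫ snd U T)).flip.map (Over.forget S))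
          (Scheme.Hom.singleton_mem_fpqcPrecoverage (i ≫ snd U T).left)
      have hw : p ≫ v ≫ snd U T = z ≫ i ≫ snd U T := pullback.condition
      have h1 : Groth.Agent.GrpQ29.cls K s t (p ≫ v ≫ fst U T) =
          Groth.Agent.GrpQ29.cls K s t (z ≫ i ≫ fst U T) := by
        rw [← Category.assoc z, key P Z i heq z, Category.assoc, ← hw, ← Groth.Agent.GrpQ29.cls_map, hv,
          ← Functor.map_comp_apply, ← op_comp]
      obtain ⟨r, hr₁, hr₂⟩ := Groth.Agent.GrpQ29.exists_of_cls_eq h1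
      let l : P ⟶ R ⊗ T := lift r (p ≫ v ≫ snd U T)
      obtain ⟨z', hz'⟩ := (hstab P l).1 ⟨z, by
        apply CartesianMonoidalCategory.hom_ext
        · rw [(hst l).1.1, lift_fst, hr₂, Category.assoc]
        · rw [(hst l).1.2, lift_snd, Category.assoc, hw]⟩
      have hz'' : z' ≫ i = p ≫ v := by
        rw [hz']
        apply CartesianMonoidalCategory.hom_ext
        · rw [(hst l).2.1, lift_fst, hr₁, Category.assoc]
        · rw [(hst l).2.2, lift_snd, Category.assoc]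
      obtain ⟨z₀, hz₀, -⟩ := Presieve.isSheafFor_singleton.mp ((Presieve.isSheafFor_iff_generate _).mpr
        ((GrothendieckTopology.Subcanonical.isSheaf_of_isRepresentable (yoneda.obj Z) :
          Presieve.IsSheaf (QuotSh.J K S) _) _ (Groth.Agent.CGrpSh29.singleton_mem p hp))) z' fun {W} p₁ p₂ h => by
        show p₁ ≫ z' = p₂ ≫ z'
        rw [← cancel_mono i, Category.assoc, Category.assoc, hz'', ← Category.assoc, h, Category.assoc]
      refine ⟨z₀, Groth.Agent.CGrpSh29.hom_ext p hp ?_⟩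
      rw [← hz'', ← Category.assoc]
      exact congrArg (· ≫ i) hz₀
    intro Z Z' i i' hi hi' hst₁ hst₂ hf hs hq hf' hs' hq' _ _ heq heq'
    have : Mono i := Over.mono_of_mono_left _
    have : Mono i' := Over.mono_of_mono_left _
    obtain ⟨a, ha⟩ := factor Z' i' hi' hst₂ hf' hs' hq' heq' Z i (by
      have h := key Z Z i heq (𝟙 Z)
      rwa [Category.id_comp] at h)
    obtain ⟨b, hb⟩ := factor Z i hi hst₁ hf hs hq heq Z' i' (by
      have h := key Z' Z' i' heq' (𝟙 Z')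
      rwa [Category.id_comp] at h)
    exact ⟨⟨a, b, by rw [← cancel_mono i, Category.assoc, hb, ha, Category.id_comp],
      by rw [← cancel_mono i', Category.assoc, ha, hb, Category.id_comp]⟩, ha⟩

end Groth.Agent.S6049
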