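import Groth.Statements.S6060
import Groth.Agent.MultCentral18.Main
import Groth.Agent.GrpSchLib.ConjCentral
-- import your own Groth.Agent.* helpers here

set_option autoImplicit false
open CategoryTheory MonoidalCategory CartesianMonoidalCategory MonObj GrpObj AlgebraicGeometry
universe u
open SGA3x

namespace Groth.Agent.S6060
open Groth.Agent.GrpSchLib.SubgroupEqLocus (Le)
open Groth.Agent

/-- Let G be an S-group, suppose S locally Noetherian or G of finite presentation over S, and let i₁ :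
H₁ ⟶ G, i₂ : H₂ ⟶ G be two sub-group-schemes (homomorphisms which are immersions) of multiplicative
type and of finite type. Let s ∈ S be a point such that the fibre (H₁)_s is central in G_s (every
point of G_s commutes with every point of (H₁)_s) and (H₁)_s = (H₂)_s as subgroups of G_s (an
isomorphism of the fibres compatible with the inclusions). Then there is an open neighbourhood U of
s such that H₁|_U = H₂|_U as subgroups of G|_U. -/
theorem result {S : Scheme.{u}} (G H₁ H₂ : Over S) [GrpObj G] [GrpObj H₁] [GrpObj H₂]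
    (hG : IsLocallyNoetherian S ∨ (LocallyOfFinitePresentation G.hom ∧ QuasiCompact G.hom ∧ QuasiSeparated G.hom))
    (h₁ : SGA3x.IsMultTypeFT H₁) (h₂ : SGA3x.IsMultTypeFT H₂)
    (i₁ : H₁ ⟶ G) [IsMonHom i₁] [IsImmersion i₁.left] (i₂ : H₂ ⟶ G) [IsMonHom i₂] [IsImmersion i₂.left] (s : S)
    (hc : ∀ (X : Over (Spec (S.residueField s))) (g : X ⟶ Red.bc (S.fromSpecResidueField s) G)
      (h : X ⟶ Red.bc (S.fromSpecResidueField s) H₁),
      g * (h ≫ (Over.pullback (S.fromSpecResidueField s)).map i₁) = (h ≫ (Over.pullback (S.fromSpecResidueField s)).map i₁) * g)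
    (hs : ∃ ψ : Red.bc (S.fromSpecResidueField s) H₁ ≅ Red.bc (S.fromSpecResidueField s) H₂,
      ψ.hom ≫ (Over.pullback (S.fromSpecResidueField s)).map i₂ = (Over.pullback (S.fromSpecResidueField s)).map i₁) :
    ∃ U : S.Opens, s ∈ U ∧ ∃ ψ : Red.bc U.ι H₁ ≅ Red.bc U.ι H₂,
      ψ.hom ≫ (Over.pullback U.ι).map i₂ = (Over.pullback U.ι).map i₁ := by
  classical
  have hfin : IsLocallyNoetherian S ∨ LocallyOfFiniteType G.hom :=
    hG.imp id fun h => by obtain ⟨h, -, -⟩ := h; exact inferInstance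
  obtain ⟨ψ, hψ⟩ := hs
  let j := S.fromSpecResidueField s
  have key : ∀ {A B : Over S} (iA : A ⟶ G) (iB : B ⟶ G) (χ : Red.bc j B ⟶ Red.bc j A),
      χ ≫ (Over.pullback j).map iA = (Over.pullback j).map iB → Le iA iB j := by
    intro A B iA iB χ hχ Y q b
    let e : Y ⟶ (Over.map j).obj (Over.mk q.left) := Over.homMk (𝟙 _) ((Category.id_comp _).trans (Over.w q))
    let e' : (Over.map j).obj (Over.mk q.left) ⟶ Y := Over.homMk (𝟙 _) ((Category.id_comp _).trans (Over.w q).symm)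
    have hee : e ≫ e' = 𝟙 _ := Over.OverMorphism.ext (Category.id_comp _)
    obtain ⟨b₁, hb₁⟩ := (DSPtsLib.theta_bijective (H := B) (Y := Over.mk q.left) j).2 (e' ≫ b)
    refine ⟨e ≫ DSPtsLib.theta j (b₁ ≫ χ), ?_⟩
    rw [Category.assoc, ← MultCentral18.theta_map, Category.assoc, hχ, MultCentral18.theta_map, hb₁,
      Category.assoc, reassoc_of% hee]
  have hc₁ : ∀ (Y : Over S) (_ : Y ⟶ Over.mk j) (g : Y ⟶ G) (h : Y ⟶ H₁), g * (h ≫ i₁) = (h ≫ i₁) * g :=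
    fun Y q g h => (GrpSchLib.ConjCentral.fixed_iff i₁ h g).mp (GrpSchLib.ConjCentral.fixed_of_fibre hc Y q h g)
  have hl₂ : Le i₂ i₁ j := key i₂ i₁ ψ.hom hψ
  have hl₁ : Le i₁ i₂ j := key i₁ i₂ ψ.inv (by rw [Iso.inv_comp_eq, hψ])
  have hc₂ : ∀ (Y : Over S) (_ : Y ⟶ Over.mk j) (g : Y ⟶ G) (h : Y ⟶ H₂), g * (h ≫ i₂) = (h ≫ i₂) * g :=
    fun Y q g h => by
      obtain ⟨a, ha⟩ := hl₁ Y q h
      rw [← ha]
      exact hc₁ Y q g a
  obtain ⟨U₁, hs₁, hU₁⟩ := MultCentral18.exists_nhd_le i₂ i₁ hfin h₂ h₁ s hc₁ hl₂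
  obtain ⟨U₂, hs₂, hU₂⟩ := MultCentral18.exists_nhd_le i₁ i₂ hfin h₁ h₂ s hc₂ hl₁
  let U := U₁ ⊓ U₂
  refine ⟨U, ⟨hs₁, hs₂⟩, ?_⟩
  haveI : Mono i₁ := Over.mono_of_mono_left _
  haveI : Mono i₂ := Over.mono_of_mono_left _
  haveI : (Over.pullback U.ι).PreservesMonomorphisms :=
    Functor.preservesMonomorphisms_of_adjunction (Over.mapPullbackAdj U.ι)
  have mk : ∀ {A B : Over S} (iA : A ⟶ G) (iB : B ⟶ G), Le iA iB U.ι →
      ∃ χ : Red.bc U.ι B ⟶ Red.bc U.ι A, χ ≫ (Over.pullback U.ι).map iA = (Over.pullback U.ι).map iB := by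
    intro A B iA iB h
    let Y₀ := Red.bc U.ι B
    obtain ⟨a, ha⟩ := h ((Over.map U.ι).obj Y₀) (Over.homMk Y₀.hom rfl) (DSPtsLib.theta U.ι (𝟙 Y₀))
    obtain ⟨χ, rfl⟩ := (DSPtsLib.theta_bijective (H := A) U.ι).2 a
    refine ⟨χ, (DSPtsLib.theta_bijective (H := G) U.ι).1 ?_⟩
    rw [MultCentral18.theta_map, ha, ← MultCentral18.theta_map, Category.id_comp]
  have hle₁ : Le i₂ i₁ U.ι := by
    rw [← S.homOfLE_ι (inf_le_left : U ≤ U₁)]
    exact Le.comp hU₁ _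
  have hle₂ : Le i₁ i₂ U.ι := by
    rw [← S.homOfLE_ι (inf_le_right : U ≤ U₂)]
    exact Le.comp hU₂ _
  obtain ⟨χ₁, hχ₁⟩ := mk i₂ i₁ hle₁
  obtain ⟨χ₂, hχ₂⟩ := mk i₁ i₂ hle₂
  refine ⟨⟨χ₁, χ₂, ?_, ?_⟩, hχ₁⟩
  · rw [← cancel_mono ((Over.pullback U.ι).map i₁), Category.assoc, hχ₂, hχ₁]
    exact (Category.id_comp _).symm
  · rw [← cancel_mono ((Over.pullback U.ι).map i₂), Category.assoc, hχ₁, hχ₂]
    exact (Category.id_comp _).symm

end Groth.Agent.S6060
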