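import Groth.Statements.S6065
import Groth.Agent.Sga3xB.Torsion

set_option autoImplicit false
open CategoryTheory MonoidalCategory CartesianMonoidalCategory MonObj GrpObj AlgebraicGeometry
universe u
open SGA3x

namespace Groth.Agent.S6065

open CategoryTheory.Limits in
/-- Let S be a locally Noetherian scheme, H a commutative S-group which is of finite type over S, and E
a nonempty set of integers n > 0 stable under multiplication, such that: a) for every n ∈ E the
kernel ₙH of the n-th power map of H (the pullback of the unit section along that map) is finite and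
flat over S; b) for every s ∈ S the family of fibres (ₙH)_s ⟶ H_s, n ∈ E, is schematically dense in
H_s (a section of the structure sheaf of H_s over an open subset whose pullback to every (ₙH)_s
vanishes is zero). Let Y be a closed subscheme of H. Then the functor on S-schemes whose value at S'
⟶ S is a point when H ×_S S' ⟶ H factors through Y and empty otherwise is representable by a closed
subscheme T of S; and if S is Noetherian there is n ∈ E such that, for every S' ⟶ S, H ×_S S' ⟶ H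
factors through Y if and only if ₙH ×_S S' ⟶ H does. -/
theorem result {S : Scheme.{u}} [IsLocallyNoetherian S]
    (H : Over S) [GrpObj H] [IsCommMonObj H] [LocallyOfFiniteType H.hom] [QuasiCompact H.hom]
    (E : Set ℕ) (hE : E.Nonempty) (hE0 : ∀ n ∈ E, 0 < n) (hEmul : ∀ m ∈ E, ∀ n ∈ E, m * n ∈ E)
    (ha : ∀ n ∈ E, IsFinite ((pullback.snd η[H].left (𝟙 H ^ n : H ⟶ H).left) ≫ H.hom) ∧ Flat ((pullback.snd η[H].left (𝟙 H ^ n : H ⟶ H).left) ≫ H.hom))
    (hb : ∀ (s : S) (V : (H.hom.fiber s).Opens) (t : Γ(H.hom.fiber s, V)),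
      (∀ n ∈ E, (MoreMor.fiberMap (pullback.snd η[H].left (𝟙 H ^ n : H ⟶ H).left) H.hom s).app V t = 0) → t = 0)
    (Y : Scheme.{u}) (y : Y ⟶ H.left) [IsClosedImmersion y] :
    (∃ (T : Scheme.{u}) (t : T ⟶ S), IsClosedImmersion t ∧
      ∀ (S' : Scheme.{u}) (g : S' ⟶ S), (∃ g' : S' ⟶ T, g' ≫ t = g) ↔
        ∃ l : pullback H.hom g ⟶ Y, l ≫ y = pullback.fst H.hom g) ∧
    (AlgebraicGeometry.IsNoetherian S → ∃ n ∈ E, ∀ (S' : Scheme.{u}) (g : S' ⟶ S),
      (∃ l : pullback H.hom g ⟶ Y, l ≫ y = pullback.fst H.hom g) ↔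
        ∃ l : pullback ((pullback.snd η[H].left (𝟙 H ^ n : H ⟶ H).left) ≫ H.hom) g ⟶ Y,
          l ≫ y = pullback.fst ((pullback.snd η[H].left (𝟙 H ^ n : H ⟶ H).left) ≫ H.hom) g ≫ (pullback.snd η[H].left (𝟙 H ^ n : H ⟶ H).left)) := by
  let C : Over S := Over.mk (y ≫ H.hom)
  let i : C ⟶ H := Over.homMk y rfl
  have : IsClosedImmersion i.left := ‹IsClosedImmersion y›
  haveI : IsLocallyNoetherian (𝟙_ (Over S)).left := ‹IsLocallyNoetherian S›
  obtain ⟨⟨Z, c, hc, hZ⟩, hN⟩ := Sga3xB.exists_closed_universal_torsion H E hE hEmul ha hb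
    (X := 𝟙_ (Over S)) (ρ_ H).hom i
  have hl : ∀ {S' : Scheme.{u}} (g : S' ⟶ S),
      (∃ l : pullback H.hom g ⟶ Y, l ≫ y = pullback.fst H.hom g) ↔
        ∃ l : H ⊗ Over.mk g ⟶ C, l ≫ i = (H ◁ toUnit (Over.mk g)) ≫ (ρ_ H).hom := by
    intro S' g
    rw [rightUnitor_hom, whiskerLeft_fst]
    refine ⟨fun ⟨l, hl⟩ => ⟨Over.homMk l ?_, Over.OverMorphism.ext hl⟩, fun ⟨l, hl⟩ => ⟨l.left, congrArg CommaMorphism.left hl⟩⟩
    show l ≫ y ≫ H.hom = _
    rw [reassoc_of% hl]
    rfl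
  refine ⟨⟨Z.left, Z.hom, ?_, fun S' g => ?_⟩, fun hS => ?_⟩
  · rw [← Over.w c]
    haveI := hc
    haveI : IsIso (𝟙_ (Over S)).hom := inferInstanceAs (IsIso (𝟙 S))
    infer_instance
  · rw [hl, ← hZ (Over.mk g) (toUnit _)]
    refine ⟨fun ⟨g', hg'⟩ => ⟨Over.homMk g' hg', toUnit_unique _ _⟩, fun ⟨z, _⟩ => ⟨z.left, Over.w z⟩⟩
  · obtain ⟨⟨n, hn⟩, hn'⟩ := hN hS
    refine ⟨n, hn, fun S' g => (hl g).trans ((hn' (Over.mk g) (toUnit _)).trans ?_)⟩
    rw [rightUnitor_hom, whiskerLeft_fst, whiskerRight_fst]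
    refine ⟨fun ⟨l, hl⟩ => ⟨l.left, congrArg CommaMorphism.left hl⟩, fun ⟨l, hl⟩ => ⟨Over.homMk l ?_, Over.OverMorphism.ext hl⟩⟩
    show l ≫ y ≫ H.hom = _
    rw [reassoc_of% hl]
    rfl

end Groth.Agent.S6065
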