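import Groth.Statements.S6101
import Groth.Agent.RedCell22.Tail

set_option autoImplicit false
open CategoryTheory MonoidalCategory CartesianMonoidalCategory MonObj GrpObj AlgebraicGeometry
universe u
open RedSub

namespace Groth.Agent.S6101

/-- On points: let G be a split reductive S-group (splitting D with torus T, lattice M and root
homomorphisms u_a), fix a total order on M compatible with addition, and let a_1 < ⋯ < a_N be the
roots which are positive for it, enumerated increasingly by e. For i + m = N write U_{>i} for the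
products u_{a_{i+1}}(y_1) ⋯ u_{a_N}(y_m) of points of G_a, taken in increasing order. Then: U_{>i}
is closed under products and inverses; it is normalised by the points of T and by the points of
U_{>0}; and conjugating a point of U_{>i} by a point of U_{>0} does not change its first factor y_1
(inner automorphisms of U_{>0} act trivially on U_{>i}/U_{>i+1} = U_{a_{i+1}}). -/
theorem result {S : Scheme.{u}} {G : Over S} [GrpObj G] (D : Red.SplitRed G)
    [LinearOrder D.M] [IsOrderedAddMonoid D.M] {N : ℕ} (e : Fin N → D.idx) (he : Function.Injective e)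
    (hrange : ∀ a : D.idx, a ∈ Set.range e ↔ 0 < D.P.root a) (hmono : StrictMono (fun k => D.P.root (e k)))
    (i m : ℕ) (h : i + m = N) :
    (∀ (X : Over S) (y y' : Fin m → (X ⟶ Red.Ga S)), ∃ z : Fin m → (X ⟶ Red.Ga S),
      (List.ofFn (fun k => z k ≫ D.u (e (Fin.cast h (Fin.natAdd i k))))).prod =
        (List.ofFn (fun k => y k ≫ D.u (e (Fin.cast h (Fin.natAdd i k))))).prod *
          (List.ofFn (fun k => y' k ≫ D.u (e (Fin.cast h (Fin.natAdd i k))))).prod) ∧
    (∀ (X : Over S) (y : Fin m → (X ⟶ Red.Ga S)), ∃ z : Fin m → (X ⟶ Red.Ga S),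
      (List.ofFn (fun k => z k ≫ D.u (e (Fin.cast h (Fin.natAdd i k))))).prod =
        ((List.ofFn (fun k => y k ≫ D.u (e (Fin.cast h (Fin.natAdd i k))))).prod)⁻¹) ∧
    (∀ (X : Over S) (t : X ⟶ D.T) (y : Fin m → (X ⟶ Red.Ga S)), ∃ z : Fin m → (X ⟶ Red.Ga S),
      (List.ofFn (fun k => z k ≫ D.u (e (Fin.cast h (Fin.natAdd i k))))).prod =
        (t ≫ D.i) * (List.ofFn (fun k => y k ≫ D.u (e (Fin.cast h (Fin.natAdd i k))))).prod * (t ≫ D.i)⁻¹) ∧
    (∀ (X : Over S) (x : Fin N → (X ⟶ Red.Ga S)) (y : Fin m → (X ⟶ Red.Ga S)), ∃ z : Fin m → (X ⟶ Red.Ga S),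
      (List.ofFn (fun k => z k ≫ D.u (e (Fin.cast h (Fin.natAdd i k))))).prod =
        (List.ofFn (fun k => x k ≫ D.u (e k))).prod *
          (List.ofFn (fun k => y k ≫ D.u (e (Fin.cast h (Fin.natAdd i k))))).prod *
            ((List.ofFn (fun k => x k ≫ D.u (e k))).prod)⁻¹ ∧
      ∀ k : Fin m, (k : ℕ) = 0 → z k = y k) := by
  classical
  haveI : IsAffineHom G.hom := Groth.Agent.RedCell22.isAffineHom_of_split D
  have hc := Groth.Agent.RedCell22.isClosedSet_tail hrange hmono i
  have hd := Groth.Agent.RedCell22.enumerates_tail (D := D) he i h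
  have hmem : ∀ k : Fin m, e (Fin.cast h (Fin.natAdd i k)) ∈ Groth.Agent.RedCell22.tailSet e i :=
    fun k => (Set.ext_iff.mp hd.2 _).mp ⟨k, rfl⟩
  haveI := Groth.Agent.RedCell22.mono_prodMap_of_closed hc hd
  refine ⟨fun X y y' => ?_, fun X y => ?_, fun X t y => ?_, fun X x y => ?_⟩
  · refine Groth.Agent.RedCell22.exists_tuple_of_tests _ fun A _ b φ => ?_
    rw [MonObj.comp_mul, Groth.Agent.RedCell22.comp_prod_ofFn, Groth.Agent.RedCell22.comp_prod_ofFn,
      ← Groth.Agent.RedCell22.word_append]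
    exact (Groth.Agent.RedCell22.exists_word_of_word hc hd _
      (fun k => Fin.addCases (fun i => by rw [Fin.append_left]; exact hmem i)
        (fun i => by rw [Fin.append_right]; exact hmem i) k) _).1
  · refine Groth.Agent.RedCell22.exists_tuple_of_tests _ fun A _ b φ => ?_
    rw [GrpObj.comp_inv, Groth.Agent.RedCell22.comp_prod_ofFn]
    exact (Groth.Agent.RedCell22.exists_word_of_word hc hd _ hmem _).2
  · refine Groth.Agent.RedCell22.exists_tuple_of_tests _ fun A _ b φ => ?_
    refine ⟨_, (Groth.Agent.RedCell22.conj_word D (φ ≫ t) _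
      fun k => Groth.Agent.RedCell22.gs (Red.gaFn (φ ≫ y k))).symm.trans ?_⟩
    rw [MonObj.comp_mul, MonObj.comp_mul, GrpObj.comp_inv, Groth.Agent.RedCell22.comp_prod_ofFn,
      Groth.Agent.RedCell22.tG, Category.assoc]
  · obtain ⟨z, hz⟩ := Groth.Agent.RedCell22.exists_tuple_of_tests
      (d := fun k => e (Fin.cast h (Fin.natAdd i k)))
      ((List.ofFn (fun k => x k ≫ D.u (e k))).prod *
        (List.ofFn (fun k => y k ≫ D.u (e (Fin.cast h (Fin.natAdd i k))))).prod *
          ((List.ofFn (fun k => x k ≫ D.u (e k))).prod)⁻¹) fun A _ b φ => by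
        obtain ⟨z, hz, -⟩ := Groth.Agent.RedCell22.exists_conj_tail (D := D) he hrange hmono i h (b := b)
          (fun k => Groth.Agent.RedCell22.gs (Red.gaFn (φ ≫ x k)))
          fun k => Groth.Agent.RedCell22.gs (Red.gaFn (φ ≫ y k))
        exact ⟨z, by rw [hz, MonObj.comp_mul, MonObj.comp_mul, GrpObj.comp_inv,
          Groth.Agent.RedCell22.comp_prod_ofFn, Groth.Agent.RedCell22.comp_prod_ofFn]⟩
    refine ⟨z, hz, fun k hk => Groth.Agent.RedCell22.hom_ext_of_tests fun A _ b φ => ?_⟩
    obtain ⟨w, hw, hwk⟩ := Groth.Agent.RedCell22.exists_conj_tail (D := D) he hrange hmono i h (b := b)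
      (fun k => Groth.Agent.RedCell22.gs (Red.gaFn (φ ≫ x k)))
      fun k => Groth.Agent.RedCell22.gs (Red.gaFn (φ ≫ y k))
    have e1 := congrArg (φ ≫ ·) hz
    simp only [MonObj.comp_mul, GrpObj.comp_inv, Groth.Agent.RedCell22.comp_prod_ofFn] at e1
    have e2 := congrFun (Groth.Agent.RedCell22.word_injective_of_closed hc hd (e1.trans hw.symm)) k
    rw [hwk k hk] at e2
    rw [← Groth.Agent.RedCell22.gaPt_gaFn (φ ≫ z k), e2, Groth.Agent.RedCell22.gaPt_gaFn]

end Groth.Agent.S6101
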