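import Groth.Statements.S6102
import Groth.Agent.RedCell22.Law

set_option autoImplicit false
open CategoryTheory MonoidalCategory CartesianMonoidalCategory MonObj GrpObj AlgebraicGeometry
universe u
open RedSub

namespace Groth.Agent.S6102

/-- Existence, uniqueness and triangular form of the polynomial group law: let G be a split reductive
S-group (splitting D with root homomorphisms u_a and lattice M), fix a total order on M compatible
with addition, and let a_1 < ⋯ < a_N be the positive roots, enumerated increasingly by e. Then there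
is a unique family (Q_k) of polynomials in 2N variables over Γ(S, O_S) expressing the group law in
the coordinates x ↦ u_{a_1}(x_1) ⋯ u_{a_N}(x_N): for points x, y, z of G_a^N one has u(z) = u(x)
u(y) if and only if the coordinate of each z_k is Q_k(x, y); moreover Q_k = x_k + y_k + Q'_k with
Q'_k a polynomial in the x_j, y_j for j < k only. (The further assertion that the coefficients lie
in the subring generated by the structure constants of the commutator formulas is not stated.) -/
theorem result {S : Scheme.{u}} {G : Over S} [GrpObj G] (D : Red.SplitRed G)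
    [LinearOrder D.M] [IsOrderedAddMonoid D.M] {N : ℕ} (e : Fin N → D.idx) (he : Function.Injective e)
    (hrange : ∀ a : D.idx, a ∈ Set.range e ↔ 0 < D.P.root a) (hmono : StrictMono (fun k => D.P.root (e k))) :
    ∃! Q : Fin N → MvPolynomial (Fin N ⊕ Fin N) Γ(S, ⊤),
      (∀ (X : Over S) (x y z : Fin N → (X ⟶ Red.Ga S)),
        (List.ofFn (fun k => z k ≫ D.u (e k))).prod =
            (List.ofFn (fun k => x k ≫ D.u (e k))).prod * (List.ofFn (fun k => y k ≫ D.u (e k))).prod ↔
          ∀ k, Red.gaFn (z k) = MvPolynomial.eval₂ X.hom.appTop.hom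
            (Sum.elim (fun j => Red.gaFn (x j)) (fun j => Red.gaFn (y j))) (Q k)) ∧
      (∀ k : Fin N, ∀ v ∈ (Q k - MvPolynomial.X (Sum.inl k) - MvPolynomial.X (Sum.inr k)).vars,
        Sum.elim (fun j : Fin N => j < k) (fun j : Fin N => j < k) v) := by
  classical
  haveI : IsAffineHom G.hom := Groth.Agent.RedCell22.isAffineHom_of_split D
  have hc := Groth.Agent.RedCell22.isClosedSet_tail hrange hmono 0
  have he' := Groth.Agent.RedCell22.enumerates_zero (D := D) he
  haveI := Groth.Agent.RedCell22.mono_prodMap_of_closed hc he'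
  obtain ⟨Q, hQ⟩ := Groth.Agent.RedCell22.exists_globalLaw hc he'
  -- the point with prescribed coordinates
  let P : (Fin N → MvPolynomial (Fin N ⊕ Fin N) Γ(S, ⊤)) → ∀ X : Over S, (Fin N → (X ⟶ Red.Ga S)) →
      (Fin N → (X ⟶ Red.Ga S)) → Fin N → (X ⟶ Red.Ga S) := fun Q X x y k =>
    Groth.Agent.GrpSchLib.GaPts.ptOfFn (MvPolynomial.eval₂ X.hom.appTop.hom
      (Sum.elim (fun j => Red.gaFn (x j)) (fun j => Red.gaFn (y j))) (Q k))
  have hval : ∀ (Q : Fin N → MvPolynomial (Fin N ⊕ Fin N) Γ(S, ⊤)) (X : Over S) x y (A : Type u) [CommRing A]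
      (c : Spec (CommRingCat.of A) ⟶ S) (φ : Groth.Agent.RedCell22.tb c A ⟶ X) k,
      Groth.Agent.RedCell22.gs (Red.gaFn (φ ≫ P Q X x y k)) =
        MvPolynomial.aeval (Sum.elim (fun j => Groth.Agent.RedCell22.gs (Red.gaFn (φ ≫ x j)))
          (fun j => Groth.Agent.RedCell22.gs (Red.gaFn (φ ≫ y j))))
          (MvPolynomial.map (Groth.Agent.RedCell22.glob c) (Q k)) := by
    intro Q X x y A _ c φ k
    have h := Groth.Agent.RedCell22.gs_gaFn_eval φ (Sum.elim x y) (Q k)
    rw [Groth.Agent.GrpSchLib.GaPts.gaFn_comp, Groth.Agent.GrpSchLib.GaPts.gaFn_ptOfFn]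
    convert h using 3
    · congr 1
      funext v
      cases v <;> rfl
    · funext v
      cases v <;> rfl
  have hlaw : ∀ (X : Over S) x y, (List.ofFn (fun k => P Q X x y k ≫ D.u (e k))).prod =
      (List.ofFn (fun k => x k ≫ D.u (e k))).prod * (List.ofFn (fun k => y k ≫ D.u (e k))).prod := by
    intro X x y
    refine Groth.Agent.RedCell22.hom_ext_of_tests fun A _ c φ => ?_
    rw [MonObj.comp_mul, Groth.Agent.RedCell22.comp_prod_ofFn, Groth.Agent.RedCell22.comp_prod_ofFn,
      Groth.Agent.RedCell22.comp_prod_ofFn, funext (hval Q X x y A c φ)]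
    exact (hQ A c).eval _ _
  have hinj : ∀ (X : Over S) (z z' : Fin N → (X ⟶ Red.Ga S)), (List.ofFn (fun k => z k ≫ D.u (e k))).prod =
      (List.ofFn (fun k => z' k ≫ D.u (e k))).prod → z = z' := by
    intro X z z' h
    rw [← Groth.Agent.Red23Lib.Pinned.tuple_prodMap, ← Groth.Agent.Red23Lib.Pinned.tuple_prodMap, cancel_mono] at h
    funext k
    rw [← Groth.Agent.Red23Lib.Pinned.tuple_proj z k, h, Groth.Agent.Red23Lib.Pinned.tuple_proj]
  refine ⟨Q, ⟨fun X x y z => ⟨fun h k => ?_, fun h => ?_⟩, fun k v hv => ?_⟩, fun Q' hQ' => ?_⟩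
  · rw [hinj X z (P Q X x y) (h.trans (hlaw X x y).symm), Groth.Agent.GrpSchLib.GaPts.gaFn_ptOfFn]
  · refine (congrArg (fun w => (List.ofFn (fun k => w k ≫ D.u (e k))).prod) (funext fun k => ?_)).trans (hlaw X x y)
    refine Groth.Agent.GrpSchLib.GaPts.gaFn_injective ?_
    show Red.gaFn (z k) = _
    rw [h k]
    exact (Groth.Agent.GrpSchLib.GaPts.gaFn_ptOfFn _).symm
  · obtain ⟨d, hd, hdv⟩ := (MvPolynomial.mem_vars v).mp hv
    by_contra hlt
    refine MvPolynomial.mem_support_iff.mp hd (Groth.Agent.RedCell22.glob_ext fun A _ c => ?_)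
    rw [map_zero, ← MvPolynomial.coeff_map, map_sub, map_sub, MvPolynomial.map_X, MvPolynomial.map_X]
    refine Groth.Agent.RedCell22.LawAt.triangular hc he' (fun i => (hrange _).mp ⟨i, rfl⟩) (hQ A c) k d v
      (Finsupp.mem_support_iff.mp hdv) ?_
    rcases v with j | j <;> exact hmono.monotone (not_lt.mp hlt)
  · funext k
    ext d
    refine Groth.Agent.RedCell22.glob_ext fun A _ c => ?_
    let R := MvPolynomial (Fin N ⊕ Fin N) A
    let cR : Spec (CommRingCat.of R) ⟶ S := Spec.map (CommRingCat.ofHom (algebraMap A R)) ≫ c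
    let X : Over S := Groth.Agent.RedCell22.tb cR R
    let x : Fin N → (X ⟶ Red.Ga S) := fun j => Groth.Agent.RedCell22.gaPt (MvPolynomial.X (Sum.inl j) : R)
    let y : Fin N → (X ⟶ Red.Ga S) := fun j => Groth.Agent.RedCell22.gaPt (MvPolynomial.X (Sum.inr j) : R)
    have h1 := (hQ'.1 X x y (P Q' X x y)).mpr fun k => Groth.Agent.GrpSchLib.GaPts.gaFn_ptOfFn _
    have h2 := congrArg (fun z => Groth.Agent.RedCell22.gs (Red.gaFn (𝟙 X ≫ z)))
      (congrFun (hinj X _ _ (h1.trans (hlaw X x y).symm)) k)
    simp only [hval] at h2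
    have key : ∀ Q'' : MvPolynomial (Fin N ⊕ Fin N) Γ(S, ⊤),
        MvPolynomial.aeval (Sum.elim (fun j => Groth.Agent.RedCell22.gs (Red.gaFn (𝟙 X ≫ x j)))
          (fun j => Groth.Agent.RedCell22.gs (Red.gaFn (𝟙 X ≫ y j))))
          (MvPolynomial.map (Groth.Agent.RedCell22.glob cR) Q'') =
          MvPolynomial.map (Groth.Agent.RedCell22.glob c) Q'' := by
      intro Q''
      induction Q'' using MvPolynomial.induction_on with
      | C a =>
        rw [MvPolynomial.map_C, MvPolynomial.aeval_C, MvPolynomial.map_C,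
          ← Groth.Agent.RedCell22.glob_map (algebraMap A R) (b := c) rfl a]
        rfl
      | add p q hp hq => simp only [map_add, hp, hq]
      | mul_X p i hp =>
        simp only [map_mul, MvPolynomial.map_X, MvPolynomial.aeval_X, hp]
        rcases i with j | j
        · exact congrArg (MvPolynomial.map (Groth.Agent.RedCell22.glob c) p * ·)
            ((congrArg (fun z => Groth.Agent.RedCell22.gs (Red.gaFn z)) (Category.id_comp (x j))).trans
              (Groth.Agent.RedCell22.gs_gaFn_gaPt (b := cR) (S := S) (MvPolynomial.X (Sum.inl j) : R)))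
        · exact congrArg (MvPolynomial.map (Groth.Agent.RedCell22.glob c) p * ·)
            ((congrArg (fun z => Groth.Agent.RedCell22.gs (Red.gaFn z)) (Category.id_comp (y j))).trans
              (Groth.Agent.RedCell22.gs_gaFn_gaPt (b := cR) (S := S) (MvPolynomial.X (Sum.inr j) : R)))
    rw [key, key] at h2
    rw [← MvPolynomial.coeff_map, ← MvPolynomial.coeff_map, h2]

end Groth.Agent.S6102
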