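import Groth.Statements.S6104
import Groth.Agent.RedCell22.DerivedCell
-- import your own Groth.Agent.* helpers here

set_option autoImplicit false
open CategoryTheory MonoidalCategory CartesianMonoidalCategory MonObj GrpObj AlgebraicGeometry
universe u
open RedSub

namespace Groth.Agent.S6104

/-- Let G be a split reductive S-group (splitting D, T ≅ D_S(M), system of simple roots b, big cell Ω =
U⁻ · T · U for enumerations of the negative and positive roots), N = {m | (α*, m) = 0 for all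
coroots}, T' = D_S(M/N) ⊆ T and Ω' = U⁻ · T' · U. For every S-point w of G normalising T there is an
open V_w ⊆ G containing the unit section such that int(w)Ω' ∩ V_w ⊆ Ω': if g is a point of Ω' and
the point w g w⁻¹ of G lies in V_w, then w g w⁻¹ is a point of Ω'. -/
theorem result {S : Scheme.{u}} {G : Over S} [GrpObj G] (D : Red.SplitRed G)
    (b : D.P.Base) {n m : ℕ} (eneg : Fin n → D.idx) (epos : Fin m → D.idx)
    (hneg : RedSub.Enumerates (RedSub.negRoots D.P b) eneg) (hpos : RedSub.Enumerates (RedSub.posRoots D.P b) epos)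
    (N : AddSubgroup D.M) (hN : ∀ x : D.M, x ∈ N ↔ ∀ c : D.idx, D.P.coroot c x = 0)
    (w : 𝟙_ (Over S) ⟶ G)
    (hw : ∀ (X : Over S) (t : X ⟶ D.T), (∃ t' : X ⟶ D.T, (toUnit X ≫ w) * (t ≫ D.i) * (toUnit X ≫ w)⁻¹ = t' ≫ D.i) ∧
      (∃ t' : X ⟶ D.T, (toUnit X ≫ w)⁻¹ * (t ≫ D.i) * (toUnit X ≫ w) = t' ≫ D.i)) :
    ∃ V : Set ↥G.left, IsOpen V ∧ Set.range η[G].left.base ⊆ V ∧
      ∀ (X : Over S) (g : X ⟶ RedSub.pow (Red.Ga S) n ⊗ (Red.DS S (D.M ⧸ N) ⊗ RedSub.pow (Red.Ga S) m)),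
        Set.range ((toUnit X ≫ w) * (g ≫ ((fst _ _ ≫ RedSub.prodMap (Red.Ga S) n (fun k => D.u (eneg k))) *
        ((snd _ _ ≫ fst _ _ ≫ Red.DSmap S (QuotientAddGroup.mk' N) ≫ D.split.inv.hom.hom ≫ D.i) *
          (snd _ _ ≫ snd _ _ ≫ RedSub.prodMap (Red.Ga S) m (fun k => D.u (epos k)))))) * (toUnit X ≫ w)⁻¹).left.base ⊆ V →
        ∃ g' : X ⟶ RedSub.pow (Red.Ga S) n ⊗ (Red.DS S (D.M ⧸ N) ⊗ RedSub.pow (Red.Ga S) m),
          (toUnit X ≫ w) * (g ≫ ((fst _ _ ≫ RedSub.prodMap (Red.Ga S) n (fun k => D.u (eneg k))) *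
        ((snd _ _ ≫ fst _ _ ≫ Red.DSmap S (QuotientAddGroup.mk' N) ≫ D.split.inv.hom.hom ≫ D.i) *
          (snd _ _ ≫ snd _ _ ≫ RedSub.prodMap (Red.Ga S) m (fun k => D.u (epos k)))))) * (toUnit X ≫ w)⁻¹ = g' ≫ ((fst _ _ ≫ RedSub.prodMap (Red.Ga S) n (fun k => D.u (eneg k))) *
        ((snd _ _ ≫ fst _ _ ≫ Red.DSmap S (QuotientAddGroup.mk' N) ≫ D.split.inv.hom.hom ≫ D.i) *
          (snd _ _ ≫ snd _ _ ≫ RedSub.prodMap (Red.Ga S) m (fun k => D.u (epos k))))) := by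
  haveI : IsAffineHom G.hom := RedCell22.isAffineHom_of_split D
  obtain ⟨φ, hφ⟩ := RedCell22.exists_form_base D.P b
  have hl := RedCell22.negList_of_enumerates b hφ hneg
  have hl' := RedCell22.posList_of_enumerates b hφ hpos
  have hreg : ∀ r, φ (D.P.root r) ≠ 0 := fun r => (RedCell22.mem_posRoots_iff D.P b hφ r).2.2
  haveI := RedCell22.isOpenImmersion_cell hl hl' hreg
  obtain ⟨f, hfm, hf⟩ := RedCell22.exists_derivedHom hφ hl hl' (N := N) fun x hx => (hN x).mp hx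
  haveI := hfm
  obtain ⟨p, hp⟩ : ∃ p, p ≫ RedSub.cellMap D eneg epos = (1 : 𝟙_ (Over S) ⟶ G) :=
    RedCell22.exists_lift_range _ _ (RedCell22.range_one_subset hl hl')
  refine ⟨(RedSub.cellMap D eneg epos).left.opensRange, TopologicalSpace.Opens.isOpen _, ?_, fun X g hg => ?_⟩
  · rw [Hom.one_def] at hp
    rintro _ ⟨s, rfl⟩
    refine ⟨p.left.base s, ?_⟩
    have := congrArg (fun q : (𝟙_ (Over S) ⟶ G) => q.left.base s) hp
    simpa using this
  rw [← RedCell22.derIncl_cellMap] at hg ⊢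
  obtain ⟨y, hy⟩ := RedCell22.exists_lift_range (RedSub.cellMap D eneg epos) _ hg
  refine RedCell22.exists_derSrc hf y hy ?_
  rw [MonObj.mul_comp _ _ f, MonObj.mul_comp _ _ f, RedCell22.der_comp_hom hf, GrpObj.inv_comp _ f]
  letI : Group (X ⟶ Red.DS S ↥N) := Hom.group
  exact mul_inv_eq_one.mpr (_root_.mul_one _)

end Groth.Agent.S6104
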