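import Groth.Statements.S6108
import Groth.Agent.RedCell22.Law
import Groth.Agent.RedCell22.ProdHom

set_option autoImplicit false
set_option linter.style.haveILetI false
open CategoryTheory MonoidalCategory CartesianMonoidalCategory MonObj GrpObj AlgebraicGeometry
universe u
open RedSub

namespace Groth.Agent.S6108

open Groth.Agent.RedCell22 in
theorem hom_mul_comp {S : Scheme.{u}} {G X : Over S} [GrpObj G] (v : Red.Ga S ⟶ G) [IsMonHom v]
    (x y : X ⟶ Red.Ga S) : (x * y) ≫ v = (x ≫ v) * (y ≫ v) := MonObj.mul_comp _ _ _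

/-- Let G be a split reductive S-group (splitting D with root homomorphisms u_a, lattice M), fix a total
order on M compatible with addition, let a_1 < ⋯ < a_N be the positive roots enumerated increasingly
by e, and let f_1, …, f_N : G_a ⟶ H be homomorphisms into an S-group scheme H. Let F be the map
u_{a_1}(x_1) ⋯ u_{a_N}(x_N) ↦ f_1(x_1) ⋯ f_N(x_N) on points of U = U_{a_1} ⋯ U_{a_N}. Then F is
multiplicative if and only if, for all i < j and all points a, c of G_a, F applied to the
coordinates of u_{a_j}(c) u_{a_i}(a) u_{a_j}(c)⁻¹ equals f_j(c) f_i(a) f_j(c)⁻¹. (The published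
statement allows H to be any group functor over S; this row takes H to be a group scheme over S.) -/
theorem result {S : Scheme.{u}} {G H : Over S} [GrpObj G] [GrpObj H]
    (D : Red.SplitRed G) [LinearOrder D.M] [IsOrderedAddMonoid D.M] {N : ℕ} (e : Fin N → D.idx)
    (he : Function.Injective e) (hrange : ∀ a : D.idx, a ∈ Set.range e ↔ 0 < D.P.root a)
    (hmono : StrictMono (fun k => D.P.root (e k))) (f : Fin N → (Red.Ga S ⟶ H)) (hf : ∀ k, IsMonHom (f k)) :
    (∀ (X : Over S) (x y z : Fin N → (X ⟶ Red.Ga S)),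
      (List.ofFn (fun k => z k ≫ D.u (e k))).prod =
          (List.ofFn (fun k => x k ≫ D.u (e k))).prod * (List.ofFn (fun k => y k ≫ D.u (e k))).prod →
        (List.ofFn (fun k => z k ≫ f k)).prod =
          (List.ofFn (fun k => x k ≫ f k)).prod * (List.ofFn (fun k => y k ≫ f k)).prod) ↔
    (∀ (X : Over S) (i j : Fin N), i < j → ∀ (a c : X ⟶ Red.Ga S) (z : Fin N → (X ⟶ Red.Ga S)),
      (List.ofFn (fun k => z k ≫ D.u (e k))).prod = (c ≫ D.u (e j)) * (a ≫ D.u (e i)) * (c ≫ D.u (e j))⁻¹ →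
        (List.ofFn (fun k => z k ≫ f k)).prod = (c ≫ f j) * (a ≫ f i) * (c ≫ f j)⁻¹) := by
  classical
  haveI : IsAffineHom G.hom := Groth.Agent.RedCell22.isAffineHom_of_split D
  haveI hu : ∀ k, IsMonHom (D.u (e k)) := fun k => (D.rootHom (e k)).1
  haveI := hf
  let α : ∀ X : Over S, Fin N → ((X ⟶ Red.Ga S) →* (X ⟶ G)) := fun X k =>
    MonoidHom.mk' (fun x => x ≫ D.u (e k)) (hom_mul_comp _)
  let β : ∀ X : Over S, Fin N → ((X ⟶ Red.Ga S) →* (X ⟶ H)) := fun X k =>
    MonoidHom.mk' (fun x => x ≫ f k) (hom_mul_comp _)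
  have hα : ∀ (X : Over S) (x : Fin N → (X ⟶ Red.Ga S)),
      Groth.Agent.RedCell22.ProdHom.wd (P := X ⟶ Red.Ga S) (Gr := X ⟶ G) (α X) x = (List.ofFn fun k => x k ≫ D.u (e k)).prod := fun _ _ => rfl
  have hβ : ∀ (X : Over S) (x : Fin N → (X ⟶ Red.Ga S)),
      Groth.Agent.RedCell22.ProdHom.wd (P := X ⟶ Red.Ga S) (Gr := X ⟶ H) (β X) x = (List.ofFn fun k => x k ≫ f k).prod := fun _ _ => rfl
  have hinj : ∀ X : Over S, Function.Injective (Groth.Agent.RedCell22.ProdHom.wd (P := X ⟶ Red.Ga S) (Gr := X ⟶ G) (α X)) := by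
    intro X x y h
    haveI := Groth.Agent.RedCell22.mono_prodMap_of_closed
      (Groth.Agent.RedCell22.isClosedSet_tail hrange hmono 0) (Groth.Agent.RedCell22.enumerates_zero (D := D) he)
    rw [hα, hα, ← Groth.Agent.Red23Lib.Pinned.tuple_prodMap, ← Groth.Agent.Red23Lib.Pinned.tuple_prodMap] at h
    have h' := (cancel_mono _).mp h
    funext k
    rw [← Groth.Agent.Red23Lib.Pinned.tuple_proj x k, h', Groth.Agent.Red23Lib.Pinned.tuple_proj]
  have hsingle : ∀ (X : Over S) (i k : Fin N) (a : X ⟶ Red.Ga S), (k : ℕ) < i →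
      (Pi.mulSingle i a : Fin N → (X ⟶ Red.Ga S)) k = 1 := fun X i k a hk =>
    Pi.mulSingle_eq_of_ne (fun h => (ne_of_lt hk) (congrArg Fin.val h)) _
  constructor
  · intro hmulF X i j hij a c z hz
    obtain ⟨z₁, hz₁, _⟩ := Groth.Agent.RedCell22.exists_coord_product he hrange hmono
      (Pi.mulSingle j c) (Pi.mulSingle i a) (i := (i : ℕ))
      (fun k hk => hsingle X j k c (hk.trans hij)) (fun k hk => hsingle X i k a hk)
    have e1 := hmulF X (Pi.mulSingle j c) (Pi.mulSingle i a) z₁ hz₁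
    have e2 := hmulF X z (Pi.mulSingle j c) z₁ (by
      rw [hz₁, hz]
      simp only [← hα, Groth.Agent.RedCell22.ProdHom.wd_single]
      simp [α])
    simp only [← hβ, Groth.Agent.RedCell22.ProdHom.wd_single] at e1 e2
    rw [e1] at e2
    rw [← hβ]
    change _ = β X j c * β X i a * (β X j c)⁻¹
    rw [e2]
    group
  · intro hconjF X x y z h
    have h' : Groth.Agent.RedCell22.ProdHom.wd (α X) z =
        Groth.Agent.RedCell22.ProdHom.wd (α X) x * Groth.Agent.RedCell22.ProdHom.wd (α X) y := by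
      simp only [hα]; exact h
    simp only [← hβ]
    refine Groth.Agent.RedCell22.ProdHom.mul_of_relations (α X) (β X) (hinj X) ?_ ?_ x y z h'
    · intro i x y hx hy
      obtain ⟨w, hw, hwc⟩ := Groth.Agent.RedCell22.exists_coord_product he hrange hmono x y hx hy
      exact ⟨w, fun k hk => by rw [hwc k hk.le, hx k hk, hy k hk]; exact _root_.one_mul (M := X ⟶ Red.Ga S) _, hw⟩
    · intro i j hij a c
      obtain ⟨z₁, hz₁, hz₁c⟩ := Groth.Agent.RedCell22.exists_coord_product he hrange hmono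
        (Pi.mulSingle j c) (Pi.mulSingle i a) (i := (i : ℕ))
        (fun k hk => hsingle X j k c (hk.trans hij)) (fun k hk => hsingle X i k a hk)
      have hz₁s : ∀ k : Fin N, (k : ℕ) < i → z₁ k = 1 := fun k hk => by
        rw [hz₁c k hk.le, hsingle X j k c (hk.trans hij), hsingle X i k a hk]; exact _root_.one_mul (M := X ⟶ Red.Ga S) _
      obtain ⟨w, hw, hwc⟩ := Groth.Agent.RedCell22.exists_coord_product he hrange hmono
        z₁ (Pi.mulSingle j c⁻¹) (i := (i : ℕ)) hz₁s (fun k hk => hsingle X j k c⁻¹ (hk.trans hij))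
      have hwα : Groth.Agent.RedCell22.ProdHom.wd (α X) w = α X j c * α X i a * (α X j c)⁻¹ := by
        rw [← map_inv, ← Groth.Agent.RedCell22.ProdHom.wd_single (α X) j c,
          ← Groth.Agent.RedCell22.ProdHom.wd_single (α X) i a,
          ← Groth.Agent.RedCell22.ProdHom.wd_single (α X) j c⁻¹, hα, hw, hz₁]
        rfl
      refine ⟨w, fun k hk => by rw [hwc k hk.le, hz₁s k hk, hsingle X j k c⁻¹ (hk.trans hij)]; exact _root_.one_mul (M := X ⟶ Red.Ga S) _, ?_, hwα,
        hconjF X i j hij a c w hwα⟩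
      rw [hwc i le_rfl, hz₁c i le_rfl, Pi.mulSingle_eq_of_ne (ne_of_lt hij), Pi.mulSingle_eq_same,
        Pi.mulSingle_eq_of_ne (ne_of_lt hij)]
      exact (_root_.mul_one (M := X ⟶ Red.Ga S) _).trans (_root_.one_mul (M := X ⟶ Red.Ga S) _)

end Groth.Agent.S6108
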