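import Groth.Statements.S6194
import Groth.Agent.KSix54.Spread.Perfect
import Groth.Agent.H9Misc.DRingPC

set_option autoImplicit false
universe u
open CategoryTheory CategoryTheory.Limits AlgebraicGeometry
attribute [local instance] HasDerivedCategory.standard
open KSix

namespace Groth.Agent.S6194

/-- Let X be a scheme such that, at every point x, every module over the local ring of X at x has finite
tor dimension (for instance a regular scheme), and let E ∈ D(O_X), given by a cochain complex F,
have bounded cohomology. Then E is pseudo-coherent if and only if E is perfect. (The published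
statement is for a ringed topos with enough points; this row is the case of schemes.) -/
theorem result {X : Scheme.{u}}
    (hX : ∀ (x : X) (M : Type u) [AddCommGroup M] [Module (X.presheaf.stalk x) M], DRing.HasFiniteTorDim (X.presheaf.stalk x) M)
    (F : CochainComplex X.Modules ℤ) (c d : ℤ) [(DCoh.toD X F).IsGE c] [(DCoh.toD X F).IsLE d] :
    (∀ m : ℤ, DCoh.IsPseudoCoherentD m (DCoh.toD X F)) ↔ DCoh.IsPerfect (DCoh.toD X F) := by
  refine ⟨fun h => ?_, fun h m => (Groth.Agent.KFlatLib.isPseudoCoherentD_iff _ _).2
    (((Groth.Agent.KFlatLib.isPerfect_iff _).1 h).locPC m)⟩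
  have hF := fun m => (Groth.Agent.KFlatLib.isPseudoCoherentD_iff _ _).1 (h m)
  refine (Groth.Agent.KFlatLib.isPerfect_iff _).2
    (Groth.Agent.KSix54.Spread.locSP_of_stalk c hF fun x => ?_)
  refine (Groth.Agent.H9Misc.DRingPerfect.isPerfect_iff _).2
    ⟨(Groth.Agent.H9Misc.DRingPC.pc'_iff _).2 fun m =>
      Groth.Agent.KSix54.Spread.stalk_isPseudoCoherent (hF m) x,
    Groth.Agent.H9Misc.DRingPerfect.finiteTorDimCx_of_bounded (hX x) _ (a := c) (b := d) fun i hi => ?_⟩
  have hz : IsZero (DCoh.HD (DCoh.toD X F) i) := by
    rcases hi with hi | hi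
    · exact (DerivedCategory.isGE_iff (DCoh.toD X F) c).1 inferInstance i hi
    · exact (DerivedCategory.isLE_iff (DCoh.toD X F) d).1 inferInstance i hi
  have hz' : IsZero (F.homology i) :=
    hz.of_iso ((DerivedCategory.homologyFunctorFactors X.Modules i).app F).symm
  refine @ModuleCat.subsingleton_of_isZero _ _ (ModuleCat.of _ _) ?_
  exact (((DerSch.stalkFunctor X x).map_isZero hz').of_iso
    ((ShortComplex.homologyFunctorIso (DerSch.stalkFunctor X x)).app
      ((HomologicalComplex.shortComplexFunctor X.Modules (ComplexShape.up ℤ) i).obj F))).of_iso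
    ((DerivedCategory.homologyFunctorFactors _ i).app _)

end Groth.Agent.S6194
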