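import Groth.Statements.S6209
import Groth.Agent.KSix54.Rel.Compose

set_option autoImplicit false
universe u
open CategoryTheory CategoryTheory.Limits AlgebraicGeometry
attribute [local instance] HasDerivedCategory.standard
open KSix

namespace Groth.Agent.S6209

/-- Let f : X ⟶ Y and g : Y ⟶ Z be locally of finite type, with f r-pseudo-coherent and g
s-pseudo-coherent (O_X, resp. O_Y, placed in degree 0 is r-, resp. s-pseudo-coherent relative to f,
resp. g, in chart form). Then f ≫ g is max(r, s)-pseudo-coherent. -/
theorem result {X Y Z : Scheme.{u}} (f : X ⟶ Y) (g : Y ⟶ Z)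
    [LocallyOfFiniteType f] [LocallyOfFiniteType g] (r s : ℤ)
    (hf : DerSch.IsNPseudoCoherent f r) (hg : DerSch.IsNPseudoCoherent g s) :
    DerSch.IsNPseudoCoherent (f ≫ g) (max r s) := by
  have h0 : (KSix54.unitD X).IsLE 0 := inferInstance
  refine KSix54.isNPseudoCoherent_iff.2 ?_
  have h := KSix54.isPseudoCoherentRel_comp ((DerivedCategory.isLE_iff (KSix54.unitD X) 0).1 h0)
    (KSix54.isNPseudoCoherent_iff.1 hf) hg
  rwa [add_zero] at h

end Groth.Agent.S6209
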