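import Groth.Statements.S6247
import Groth.Agent.H9Misc.TensorLinear
import Groth.Agent.KFlatLib.Bifunctor

set_option autoImplicit false
universe u
open CategoryTheory CategoryTheory.Limits AlgebraicGeometry
attribute [local instance] HasDerivedCategory.standard
open KSix

namespace Groth.Agent.S6247

/-- One ringed site: let (C, J, O) be a small site with a sheaf of commutative rings O, let E be a
cochain complex of O-modules isomorphic in D(O) to a complex P of flat O-modules which vanishes
outside [m, n] (E has flat amplitude in [m, n]), and let F be a cochain complex of flat O-modules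
which vanishes outside [m', n']. Then, the derived tensor product − ⊗^L_O F being assumed to exist,
E ⊗^L_O F is isomorphic in D(O) to a complex of flat O-modules vanishing outside [m + m', n + n']:
flat amplitudes add, and in particular the derived tensor product of two objects of finite flat
amplitude has finite flat amplitude. (The published statement is for a morphism of ringed topoi f
from S' to S and the external derived tensor product of an object over S' with an object over S,
flatness meaning exactness of the tensor product functor; this row is the case S' = S with f the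
identity, on the topos of sheaves on a small site, with the second factor given by its own flat
model.) -/
theorem result {C : Type u} [SmallCategory C]
    {J : GrothendieckTopology C} (O : Sheaf J CommRingCat.{u}) (E P : CochainComplex (ModSite.Mod O) ℤ)
    (m n : ℤ) (hP : ∀ i : ℤ, ModSite.IsFlat (P.X i)) (hPb : ∀ i : ℤ, i < m ∨ n < i → IsZero (P.X i))
    (eP : DerivedCategory.Q.obj P ≅ DerivedCategory.Q.obj E) (F : CochainComplex (ModSite.Mod O) ℤ)
    (m' n' : ℤ) (hF : ∀ i : ℤ, ModSite.IsFlat (F.X i)) (hFb : ∀ i : ℤ, i < m' ∨ n' < i → IsZero (F.X i))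
    [ModSite.HasLTensorCx F] :
    ∃ G : CochainComplex (ModSite.Mod O) ℤ, (∀ i : ℤ, ModSite.IsFlat (G.X i)) ∧
      (∀ i : ℤ, i < m + m' ∨ n + n' < i → IsZero (G.X i)) ∧
      Nonempty (DerivedCategory.Q.obj G ≅ (ModSite.LTensorCx F).obj (DerivedCategory.Q.obj E)) := by
  open Groth.Agent Groth.Agent.H9Misc in
  classical
  haveI : P.IsStrictlyLE n := (CochainComplex.isStrictlyLE_iff _ _).2 fun i hi => hPb i (Or.inr hi)
  have hPK := ModTensor.isKFlat_of_isStrictlyLE P n hP
  haveI := TensorLinear.isIso_counit F hPK
  refine ⟨((ModSite.tensorCx O).obj P).obj F, fun i => ?_, fun i hi => ?_,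
    ⟨(asIso (((ModSite.tensorCxQ F).totalLeftDerivedCounit DerivedCategory.Q
      (HomologicalComplex.quasiIso (ModSite.Mod O) (ComplexShape.up ℤ))).app P)).symm ≪≫
      (ModSite.LTensorCx F).mapIso eP⟩⟩
  · refine ModTensor.isFlat_of_iso (KFlatLib.evalObjIso₂ (ModSite.tensorBi O) P i F).symm ?_
    let D := (KFlatLib.family₂ (ModSite.tensorBi O) P i).obj F
    have hD : ∀ s, ModSite.IsFlat (D.obj s) := fun s =>
      ModTensor.isFlat_tensor (G := P.X s.as.1.1) (F := F.X s.as.1.2) (hP _) (hF _)
    let e : Discrete (ULift.{u} (KFlatLib.fibre i)) ≌ Discrete (KFlatLib.fibre i) :=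
      Discrete.equivalence Equiv.ulift
    exact ModTensor.isFlat_of_iso (HasColimit.isoOfEquivalence e (Iso.refl (e.functor ⋙ D)))
      (ModTensor.isFlat_of_isColimit (D := e.functor ⋙ D) (fun s => hD (e.functor.obj s))
        (colimit.isColimit (e.functor ⋙ D)))
  · rw [IsZero.iff_id_eq_zero]
    refine HomologicalComplex.mapBifunctor.hom_ext fun p q (h : p + q = i) => ?_
    by_cases hp : p < m ∨ n < p
    · exact (((ModSite.tensorBi O).map_isZero (hPb p hp)).obj _).eq_of_src _ _
    · exact (((ModSite.tensorBi O).obj _).map_isZero (hFb q (by omega))).eq_of_src _ _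

end Groth.Agent.S6247
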