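import Groth.Statements.S6333
import Mathlib

set_option autoImplicit false
universe u
open Fields

namespace Groth.Agent.S6333

/-- For a finitely generated field extension K/k, the algebraic closure of k inside K is a finite
extension of k. -/
theorem result {k K : Type u} [Field k] [Field K] [Algebra k K]
    (hfg : (⊤ : IntermediateField k K).FG) :
    FiniteDimensional k (algebraicClosure k K) := by
  classical
  obtain ⟨ι, b, hb⟩ := exists_isTranscendenceBasis' k K
  set F := IntermediateField.adjoin k (Set.range b) with hF
  haveI : Algebra.IsAlgebraic F K := hb.isAlgebraic_field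
  obtain ⟨s, hs⟩ := hfg
  haveI : FiniteDimensional F K := by
    have h1 : IntermediateField.adjoin F (s : Set K) = ⊤ := by
      refine IntermediateField.restrictScalars_injective k ?_
      rw [IntermediateField.restrictScalars_top, ← top_le_iff, ← hs, IntermediateField.adjoin_le_iff]
      exact fun x hx => IntermediateField.subset_adjoin F _ hx
    haveI := IntermediateField.finiteDimensional_adjoin (K := F) (S := (s : Set K))
      (fun x _ => (Algebra.IsAlgebraic.isAlgebraic x).isIntegral)
    rw [h1] at this
    exact (IntermediateField.topEquiv (F := F) (E := K)).toLinearEquiv.finiteDimensional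
  set A := algebraicClosure k K with hA
  haveI : Algebra.IsAlgebraic k A := algebraicClosure.isAlgebraic k K
  have hbA : AlgebraicIndependent A b := hb.1.extendScalars A
  have key : ∀ t : Finset A, LinearIndependent k (fun i : t => (i : A)) →
      LinearIndependent F (fun i : t => ((i : A) : K)) := by
    intro t ht
    rw [Fintype.linearIndependent_iff]
    intro c hc i
    have hrep : ∀ j : t, ∃ r q : MvPolynomial ι k, MvPolynomial.aeval b q ≠ 0 ∧
        (c j : K) * MvPolynomial.aeval b q = MvPolynomial.aeval b r := by
      intro j
      obtain ⟨r, q, h⟩ := (IntermediateField.mem_adjoin_range_iff k b (c j : K)).1 (c j).2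
      by_cases hq : MvPolynomial.aeval b q = 0
      · refine ⟨0, 1, by simp, ?_⟩
        rw [h, hq]
        simp
      · exact ⟨r, q, hq, by rw [h, div_mul_cancel₀ _ hq]⟩
    choose r q hq hcq using hrep
    let R : t → MvPolynomial ι k := fun j => r j * ∏ l ∈ Finset.univ.erase j, q l
    have hR : ∀ j, MvPolynomial.aeval b (R j) = (c j : K) * ∏ l, MvPolynomial.aeval b (q l) := by
      intro j
      rw [← Finset.mul_prod_erase Finset.univ _ (Finset.mem_univ j), ← mul_assoc, hcq, map_mul, map_prod]
    have h1 : ∑ j, MvPolynomial.aeval b (R j) * ((j : A) : K) = 0 := by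
      simp only [hR]
      have : ∑ j, (c j : K) * ((j : A) : K) = 0 := by
        simpa [IntermediateField.smul_def] using hc
      calc ∑ j, (c j : K) * (∏ l, MvPolynomial.aeval b (q l)) * ((j : A) : K)
          = (∏ l, MvPolynomial.aeval b (q l)) * ∑ j, (c j : K) * ((j : A) : K) := by
            rw [Finset.mul_sum]
            exact Finset.sum_congr rfl fun j _ => by ring
        _ = 0 := by rw [this, mul_zero]
    have h2 : ∑ j : t, MvPolynomial.C (j : A) * MvPolynomial.map (algebraMap k A) (R j) = 0 := by
      refine (map_eq_zero_iff _ hbA).1 ?_
      rw [map_sum, ← h1]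
      exact Finset.sum_congr rfl fun j _ => by
        rw [map_mul, MvPolynomial.aeval_C, MvPolynomial.aeval_map_algebraMap]
        exact mul_comm _ _
    have h3 : R i = 0 := by
      ext d
      rw [MvPolynomial.coeff_zero]
      refine Fintype.linearIndependent_iff.1 ht (fun j => MvPolynomial.coeff d (R j)) ?_ i
      have := congrArg (MvPolynomial.coeff d) h2
      rw [MvPolynomial.coeff_sum, MvPolynomial.coeff_zero] at this
      rw [← this]
      exact Finset.sum_congr rfl fun j _ => by
        rw [MvPolynomial.coeff_C_mul, MvPolynomial.coeff_map, Algebra.smul_def]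
        exact mul_comm _ _
    have h4 := hR i
    rw [h3, map_zero] at h4
    rcases mul_eq_zero.1 h4.symm with h | h
    · exact Subtype.ext h
    · exact absurd h (Finset.prod_ne_zero_iff.2 fun l _ => hq l)
  refine Module.rank_lt_aleph0_iff.1 ((rank_le (n := Module.finrank F K) fun t ht => ?_).trans_lt Cardinal.natCast_lt_aleph0)
  simpa using (key t ht).fintype_card_le_finrank

end Groth.Agent.S6333
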