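import Groth.Statements.S6334
import Mathlib

set_option autoImplicit false
universe u
open Fields

namespace Groth.Agent.S6334

open IntermediateField in
/-- Let E/F be a finite purely inseparable extension of fields of characteristic p > 0. Then there are
elements a_1, ..., a_n of E generating E over F such that for each i the p-th power of a_i lies in
F(a_1, ..., a_{i-1}) while a_i itself does not (so each step adjoins a p-th root and has degree p);
in particular [E : F] = p ^ n. -/
theorem result {F E : Type u} [Field F] [Field E] [Algebra F E] (p : ℕ)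
    [Fact p.Prime] [CharP F p] [FiniteDimensional F E] [IsPurelyInseparable F E] :
    ∃ (n : ℕ) (a : Fin n → E), adjoin F (Set.range a) = ⊤ ∧
      (∀ i : Fin n, a i ^ p ∈ adjoin F (a '' {j | j < i}) ∧ a i ∉ adjoin F (a '' {j | j < i})) ∧
      Module.finrank F E = p ^ n := by
  classical
  have key : ∀ n : ℕ, (∃ (m : ℕ) (a : Fin m → E), adjoin F (Set.range a) = ⊤ ∧
      (∀ i : Fin m, a i ^ p ∈ adjoin F (a '' {j | j < i}) ∧ a i ∉ adjoin F (a '' {j | j < i})) ∧
      Module.finrank F E = p ^ m) ∨ (∃ a : Fin n → E,
      (∀ i : Fin n, a i ^ p ∈ adjoin F (a '' {j | j < i}) ∧ a i ∉ adjoin F (a '' {j | j < i})) ∧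
      Module.finrank F (adjoin F (Set.range a)) = p ^ n) := by
    intro n
    induction n with
    | zero =>
      refine Or.inr ⟨Fin.elim0, fun i => i.elim0, ?_⟩
      rw [Set.range_eq_empty, IntermediateField.adjoin_empty, IntermediateField.finrank_bot, pow_zero]
    | succ n ih =>
      rcases ih with h | ⟨a, ha, hdeg⟩
      · exact Or.inl h
      by_cases htop : adjoin F (Set.range a) = ⊤
      · refine Or.inl ⟨n, a, htop, ha, ?_⟩
        rw [htop, IntermediateField.finrank_top'] at hdeg
        exact hdeg
      refine Or.inr ?_
      set M := adjoin F (Set.range a) with hM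
      obtain ⟨x, hx⟩ : ∃ x, x ∉ M := by
        by_contra h
        push Not at h
        exact htop (top_le_iff.1 fun x _ => h x)
      haveI : CharP E p := charP_of_injective_algebraMap (algebraMap F E).injective p
      haveI : CharP M p := charP_of_injective_algebraMap (algebraMap F M).injective p
      have hex : ∃ m, x ^ p ^ m ∈ M := by
        obtain ⟨m, y, hy⟩ := IsPurelyInseparable.pow_mem F p x
        exact ⟨m, hy ▸ M.algebraMap_mem y⟩
      obtain ⟨y, hy, hyp⟩ : ∃ y, y ∉ M ∧ y ^ p ∈ M := by
        have h0 : Nat.find hex ≠ 0 := fun h => hx (by simpa [h] using Nat.find_spec hex)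
        obtain ⟨m, hm⟩ := Nat.exists_eq_succ_of_ne_zero h0
        refine ⟨x ^ p ^ m, Nat.find_min hex (by omega), ?_⟩
        rw [← pow_mul, ← pow_succ]
        have := Nat.find_spec hex
        rwa [hm] at this
      have himg : ∀ i : Fin n, Fin.snoc (α := fun _ => E) a y '' {j | j < i.castSucc} = a '' {j | j < i} := by
        intro i
        ext z
        constructor
        · rintro ⟨j, hj, rfl⟩
          induction j using Fin.lastCases with
          | last => exact absurd hj (not_lt_of_ge (Fin.le_last _))
          | cast j => exact ⟨j, Fin.castSucc_lt_castSucc_iff.1 hj, by simp⟩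
        · rintro ⟨j, hj, rfl⟩
          exact ⟨j.castSucc, Fin.castSucc_lt_castSucc_iff.2 hj, by simp⟩
      have hlast : Fin.snoc (α := fun _ => E) a y '' {j | j < Fin.last n} = Set.range a := by
        ext z
        constructor
        · rintro ⟨j, hj, rfl⟩
          induction j using Fin.lastCases with
          | last => exact absurd hj (lt_irrefl (Fin.last n))
          | cast j => exact ⟨j, by simp⟩
        · rintro ⟨j, rfl⟩
          exact ⟨j.castSucc, Fin.castSucc_lt_last j, by simp⟩
      refine ⟨Fin.snoc a y, fun i => ?_, ?_⟩
      · induction i using Fin.lastCases with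
        | last => rw [hlast, Fin.snoc_last]; exact ⟨hyp, hy⟩
        | cast i => rw [himg, Fin.snoc_castSucc]; exact ha i
      · have hirr : Irreducible (Polynomial.X ^ p - Polynomial.C (⟨y ^ p, hyp⟩ : M)) := by
          refine X_pow_sub_C_irreducible_of_prime Fact.out fun b hb => hy ?_
          have : (b : E) ^ p = y ^ p := congrArg Subtype.val hb
          rw [← frobenius_inj E p this]
          exact b.2
        have hmin : minpoly M y = Polynomial.X ^ p - Polynomial.C (⟨y ^ p, hyp⟩ : M) :=
          (minpoly.eq_of_irreducible_of_monic hirr (by simp) (Polynomial.monic_X_pow_sub_C _ (Fact.out : p.Prime).ne_zero)).symm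
        have hr : Module.finrank M (adjoin M ({y} : Set E)) = p := by
          rw [IntermediateField.adjoin.finrank (Algebra.IsIntegral.isIntegral y), hmin, Polynomial.natDegree_X_pow_sub_C]
        have heq : (adjoin M ({y} : Set E)).restrictScalars F = adjoin F (Set.range (Fin.snoc (α := fun _ => E) a y)) := by
          rw [hM, IntermediateField.adjoin_adjoin_left, Fin.range_snoc, Set.union_singleton]
        rw [← heq]
        change Module.finrank F (adjoin M ({y} : Set E)) = _
        rw [← Module.finrank_mul_finrank F M, hr, hdeg, pow_succ]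
  rcases key (Module.finrank F E + 1) with h | ⟨a, -, h⟩
  · exact h
  · exfalso
    have h1 : Module.finrank F (adjoin F (Set.range a)) ≤ Module.finrank F E :=
      Submodule.finrank_le (adjoin F (Set.range a)).toSubmodule
    have h2 := Nat.lt_pow_self (Fact.out : p.Prime).one_lt (n := Module.finrank F E + 1)
    omega

end Groth.Agent.S6334
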