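import Groth.Statements.S6363
import Mathlib

set_option autoImplicit false
universe u
open scoped TensorProduct
open Fields

namespace Groth.Agent.S6363

/-- For a finite field extension L/K and a normal closure M of L/K, some K-algebra homomorphism from the
n-fold tensor power L ⊗_K ⋯ ⊗_K L to M is surjective, where n = [L : K]_s is the separable degree
(so n ≤ [L : K]). -/
theorem result {K L M : Type u} [Field K] [Field L] [Field M]
    [Algebra K L] [Algebra K M] [Algebra L M] [IsScalarTower K L M] [FiniteDimensional K L]
    [IsNormalClosure K L M] :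
    ∃ f : (⨂[K] _ : Fin (Field.finSepDegree K L), L) →ₐ[K] M, Function.Surjective f := by
  classical
  have hN : IsNormalClosure K L M := inferInstance
  haveI : Algebra.IsAlgebraic K L := Algebra.IsAlgebraic.of_finite K L
  haveI : Normal K M := hN.normal
  haveI : Algebra.IsAlgebraic K M := hN.normal.toIsAlgebraic
  let Ω := AlgebraicClosure M
  let e1 : (L →ₐ[K] M) ≃ (L →ₐ[K] Ω) :=
    Algebra.IsAlgebraic.algHomEquivAlgHomOfSplits Ω M (fun x => hN.splits x)
  haveI : IsAlgClosed Ω := inferInstance
  have hcard : Nat.card (L →ₐ[K] M) = Field.finSepDegree K L := by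
    rw [Field.finSepDegree_eq_of_isAlgClosed K L Ω, Nat.card_congr e1]
  haveI : Finite (L →ₐ[K] M) := inferInstance
  let σ : Fin (Field.finSepDegree K L) ≃ (L →ₐ[K] M) := (Finite.equivFinOfCardEq hcard).symm
  let F : MultilinearMap K (fun _ : Fin (Field.finSepDegree K L) => L) M :=
    (MultilinearMap.mkPiAlgebra K (Fin (Field.finSepDegree K L)) M).compLinearMap fun i => (σ i).toLinearMap
  have hF : ∀ x, F x = ∏ i, σ i (x i) := fun x => rfl
  let f := PiTensorProduct.liftAlgHom F (by rw [hF]; simp) (fun x y => by
    simp only [hF, Pi.mul_apply, map_mul, Finset.prod_mul_distrib])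
  refine ⟨f, ?_⟩
  have hrange : ∀ (τ : L →ₐ[K] M) (x : L), τ x ∈ f.range := by
    intro τ x
    refine ⟨PiTensorProduct.tprod K (Function.update 1 (σ.symm τ) x), ?_⟩
    have : f (PiTensorProduct.tprod K (Function.update 1 (σ.symm τ) x)) =
        F (Function.update 1 (σ.symm τ) x) := PiTensorProduct.lift.tprod _
    refine this.trans ?_
    rw [hF, Finset.prod_eq_single (σ.symm τ)]
    · simp
    · intro b _ hb
      simp [Function.update_of_ne hb]
    · simp
  have htop : IntermediateField.normalClosure K L M = ⊤ := by
    rw [normalClosure_eq_iSup_adjoin, ← hN.adjoin_rootSet]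
  let R : IntermediateField K M := f.range.toIntermediateField fun x hx =>
    Subalgebra.inv_mem_of_algebraic f.range (x := ⟨x, hx⟩) (Algebra.IsAlgebraic.isAlgebraic x)
  have hR : ⊤ ≤ R := by
    rw [← htop]
    exact iSup_le fun τ => by rintro _ ⟨x, rfl⟩; exact hrange τ x
  intro y
  exact hR (IntermediateField.mem_top (x := y))

end Groth.Agent.S6363
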