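import Groth.Statements.S6377
import Groth.Agent.CAlgH39.TorVanish
import Groth.Agent.H9Misc.TorBalance
-- import your own Groth.Agent.* helpers here

set_option autoImplicit false
universe u
open CategoryTheory
open scoped TensorProduct
open CAlg

namespace Groth.Agent.S6377

open Groth.Agent.CAlgH39.TorVanish

variable {A : Type u} [CommRing A] (M : Type u) [AddCommGroup M] [Module A M]

theorem killed_pow (I : Ideal A) (n : ℕ) [Module.Flat (A ⧸ I) ((A ⧸ I) ⊗[A] M)]
    (h3 : ∀ i, i < n → TorV A M (i + 1) (A ⧸ I)) :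
    ∀ (k : ℕ) (N : Type u) [AddCommGroup N] [Module A N], (∀ a ∈ I ^ k, ∀ y : N, a • y = 0) →
      ∀ i, i < n → TorV A M (i + 1) N := by
  intro k
  induction k with
  | zero =>
    intro N _ _ hN i _
    have : Subsingleton N :=
      subsingleton_of_forall_eq 0 fun y => (one_smul A y).symm.trans (hN 1 (by simp) y)
    exact of_flat M i
  | succ k ih =>
    intro N _ _ hN i hi
    let L : Submodule A N := I ^ k • ⊤
    have hL : Module.IsTorsionBySet A L (I : Set A) := by
      rintro ⟨y, hy⟩ ⟨a, ha⟩
      refine Subtype.ext ?_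
      change a • y = 0
      induction hy using Submodule.smul_induction_on' with
      | smul b hb z _ =>
        rw [smul_smul]
        exact hN _ (by rw [pow_succ']; exact Ideal.mul_mem_mul ha hb) z
      | add p _ q _ hp hq => rw [smul_add, hp, hq, add_zero]
    refine middle M L.injective_subtype L.mkQ_surjective (LinearMap.exact_subtype_mkQ L) ?_
      (ih (N ⧸ L) (fun a ha y => ?_) i hi)
    · let : Module (A ⧸ I) L := hL.module
      have : IsScalarTower A (A ⧸ I) L := hL.isScalarTower
      exact of_algebra M (A ⧸ I) n h3 i L hi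
    · obtain ⟨y, rfl⟩ := L.mkQ_surjective y
      rw [← map_smul, Submodule.mkQ_apply, Submodule.Quotient.mk_eq_zero]
      exact Submodule.smul_mem_smul ha Submodule.mem_top

/-- `N` is torsion for the first `k` of the elements `f`. -/
def Tors {r : ℕ} (f : Fin r → A) (k : ℕ) (N : Type u) [AddCommGroup N] [Module A N] : Prop :=
  ∀ j : Fin r, (j : ℕ) < k → ∀ y : N, ∃ n : ℕ, f j ^ n • y = 0

theorem descend {r : ℕ} (f : Fin r → A)
    (h1 : ∀ i, Module.Flat (Localization.Away (f i)) (Localization.Away (f i) ⊗[A] M))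
    (h2 : Module.Flat (A ⧸ Ideal.span (Set.range f)) ((A ⧸ Ideal.span (Set.range f)) ⊗[A] M))
    (h3 : ∀ i, i < r + 1 → TorV A M (i + 1) (A ⧸ Ideal.span (Set.range f))) :
    ∀ (d k : ℕ), k + d = r → ∀ (N : Type u) [AddCommGroup N] [Module A N], Tors f k N →
      ∀ i, i < k + 1 → TorV A M (i + 1) N := by
  classical
  intro d
  induction d with
  | zero =>
    intro k hk N _ _ hT i hi
    obtain rfl : k = r := by simpa using hk
    set I := Ideal.span (Set.range f) with hI
    refine of_iUnion N (fun n => Submodule.torsionBySet A N ((I ^ n : Ideal A) : Set A)) ?_ ?_ fun n => ?_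
    · intro m n hmn
      exact Submodule.torsionBySet_le_torsionBySet_of_subset (Ideal.pow_le_pow_right hmn)
    · intro y
      have hle : I ≤ Ideal.radical (LinearMap.ker (LinearMap.toSpanSingleton A N y)) := by
        rw [hI, Ideal.span_le]
        rintro _ ⟨j, rfl⟩
        obtain ⟨n, hn⟩ := hT j j.2 y
        exact ⟨n, by simpa using hn⟩
      obtain ⟨n, hn⟩ := Ideal.exists_pow_le_of_le_radical_of_fg hle
        (Submodule.fg_span (Set.finite_range f))
      exact ⟨n, (Submodule.mem_torsionBySet_iff _ _).2 fun a => by simpa using hn a.2⟩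
    · exact killed_pow M I (k + 1) h3 n _ (fun a ha y => Subtype.ext
        ((Submodule.mem_torsionBySet_iff _ _).1 y.2 ⟨a, ha⟩)) i hi
  | succ d ih =>
    intro k hk N _ _ hT i hi
    let g : A := f ⟨k, by lia⟩
    let N' := LocalizedModule (Submonoid.powers g) N
    have hV : ∀ i, TorV A M (i + 1) N' := fun i => by
      have : Module.Flat A (Localization.Away g) := IsLocalization.flat _ (Submonoid.powers g)
      have := h1 ⟨k, by lia⟩
      exact of_algebra M (Localization.Away g) (i + 1) (fun l _ => of_flat M l) i N' (Nat.lt_succ_self i)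
    let φ : N →ₗ[A] N' := LocalizedModule.mkLinearMap (Submonoid.powers g) N
    have hK : Tors f (k + 1) (LinearMap.ker φ) := by
      intro j hj y
      rcases Nat.lt_succ_iff_lt_or_eq.1 hj with h | h
      · obtain ⟨n, hn⟩ := hT j h y.1
        exact ⟨n, Subtype.ext hn⟩
      · obtain ⟨⟨_, n, rfl⟩, hs⟩ := (IsLocalizedModule.eq_zero_iff (Submonoid.powers g) φ).1 (LinearMap.mem_ker.1 y.2)
        refine ⟨n, Subtype.ext ?_⟩
        rw [show j = ⟨k, by lia⟩ from Fin.ext h]
        exact hs
    have hC : Tors f (k + 1) (N' ⧸ LinearMap.range φ) := by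
      intro j hj q
      obtain ⟨x, rfl⟩ := Submodule.Quotient.mk_surjective _ q
      obtain ⟨⟨y, ⟨s, n, rfl⟩⟩, hx⟩ := IsLocalizedModule.surj (Submonoid.powers g) φ x
      rcases Nat.lt_succ_iff_lt_or_eq.1 hj with h | h
      · obtain ⟨m, hm⟩ := hT j h y
        refine ⟨m, ?_⟩
        have h0 : g ^ n • (f j ^ m • x) = 0 := by
          rw [smul_comm, show g ^ n • x = φ y from hx, ← map_smul, hm, map_zero]
        rw [← Submodule.Quotient.mk_smul]
        rw [show f j ^ m • x = 0 from IsLocalizedModule.smul_injective φ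
          (⟨g ^ n, n, rfl⟩ : Submonoid.powers g) (h0.trans (smul_zero _).symm), Submodule.Quotient.mk_zero]
      · refine ⟨n, ?_⟩
        rw [← Submodule.Quotient.mk_smul, Submodule.Quotient.mk_eq_zero,
          show j = ⟨k, by lia⟩ from Fin.ext h]
        exact ⟨y, hx.symm⟩
    have hJ : TorV A M (i + 1) (LinearMap.range φ) :=
      left M (LinearMap.range φ).injective_subtype (LinearMap.range φ).mkQ_surjective
        (LinearMap.exact_subtype_mkQ _) (hV i) (ih (k + 1) (by lia) _ hC (i + 1) (by lia))
    exact middle M (LinearMap.ker φ).injective_subtype φ.surjective_rangeRestrict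
      (fun x => by
        constructor
        · intro hx
          exact ⟨⟨x, congrArg Subtype.val hx⟩, rfl⟩
        · rintro ⟨y, rfl⟩
          exact Subtype.ext y.2)
      (ih (k + 1) (by lia) _ hK i (by lia)) hJ

end Groth.Agent.S6377

namespace Groth.Agent.S6377

/-- Let A be a ring, M an A-module and I = (f_1, ..., f_r) an ideal generated by r ≥ 1 elements. If (1)
M_{f_i} is flat over A_{f_i} for each i, (2) M/IM is flat over A/I, and (3) Tor_i^A(M, A/I) = 0 for
i = 1, ..., r + 1, then M is flat over A. (The published statement adds the same with 'faithfully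
flat', whose proof it omits; that variant is not included.) -/
theorem result (A : Type u) [CommRing A] (M : Type u) [AddCommGroup M]
    [Module A M] {r : ℕ} (hr : 1 ≤ r) (f : Fin r → A)
    (h1 : ∀ i, Module.Flat (Localization.Away (f i)) (LocalizedModule (Submonoid.powers (f i)) M))
    (h2 : Module.Flat (A ⧸ Ideal.span (Set.range f)) ((A ⧸ Ideal.span (Set.range f)) ⊗[A] M))
    (h3 : ∀ i : ℕ, 1 ≤ i → i ≤ r + 1 →
      Limits.IsZero (((CategoryTheory.Tor (ModuleCat.{u} A) i).obj (ModuleCat.of A M)).obj (ModuleCat.of A (A ⧸ Ideal.span (Set.range f))))) :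
    Module.Flat A M := by
  have h1' : ∀ i, Module.Flat (Localization.Away (f i)) (Localization.Away (f i) ⊗[A] M) := fun i => by
    have := h1 i
    exact Module.Flat.of_linearEquiv
      (LocalizedModule.equivTensorProduct (Submonoid.powers (f i)) M).symm
  have h3' : ∀ i, i < r + 1 →
      Groth.Agent.CAlgH39.TorVanish.TorV A M (i + 1) (A ⧸ Ideal.span (Set.range f)) := fun i hi =>
    (h3 (i + 1) (Nat.le_add_left 1 i) hi).of_iso (H9Misc.TorBalance.torSymm _ _ (i + 1))
  rw [Module.Flat.iff_rTensor_injective']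
  intro J
  have hJ := descend M f h1' h2 h3' r 0 (Nat.zero_add r) (A ⧸ J)
    (fun j hj => absurd hj (Nat.not_lt_zero _)) 0 (Nat.zero_lt_one)
  have := (TorBridge.isZero_tor_one_iff M (A ⧸ J) (Submodule.mkQ J) (Submodule.mkQ_surjective J)).1 hJ
  rw [Submodule.ker_mkQ] at this
  exact this

end Groth.Agent.S6377
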