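import Groth.Statements.S6387
import Groth.Agent.CAlgH39.InjModMax
-- import your own Groth.Agent.* helpers here

set_option autoImplicit false
universe u
open CategoryTheory
open CAlg

namespace Groth.Agent.S6387

/-- Let R and S be Noetherian local rings, R → S a local ring map, and m the maximal ideal of R. Take a
bounded complex F_e → … → F_1 → F_0 of finitely generated S-modules, zero to the left of F_e (a
chain complex C with C_j = 0 for j > e) such that every F_j is flat over R and the complex 0 →
F_e/mF_e → … → F_0/mF_0 (C tensored over S with S/mS) is exact at F_e, …, F_1. Then 0 → F_e → … →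
F_0 is exact at F_e, …, F_1 and the cokernel of F_1 → F_0 (the homology of C in degree 0) is flat
over R. -/
theorem result {R S : Type u} [CommRing R] [CommRing S]
    [IsLocalRing R] [IsLocalRing S] [IsNoetherianRing R] [IsNoetherianRing S] [Algebra R S]
    [IsLocalHom (algebraMap R S)] (C : ChainComplex (ModuleCat.{u} S) ℕ) (e : ℕ)
    (hzero : ∀ j, e < j → Limits.IsZero (C.X j)) (hfin : ∀ j, Module.Finite S (C.X j))
    (hflat : ∀ j, Module.Flat R ((ModuleCat.restrictScalars (algebraMap R S)).obj (C.X j)))
    (hex : ∀ j, 1 ≤ j → j ≤ e →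
      (((MonoidalCategory.tensorLeft
          (ModuleCat.of S (S ⧸ (IsLocalRing.maximalIdeal R).map (algebraMap R S)))).mapHomologicalComplex
          (ComplexShape.down ℕ)).obj C).ExactAt j) :
    (∀ j, 1 ≤ j → j ≤ e → C.ExactAt j) ∧
      Module.Flat R ((ModuleCat.restrictScalars (algebraMap R S)).obj (C.homology 0)) := by
  set m := IsLocalRing.maximalIdeal R
  let mR : ∀ X : ModuleCat.{u} S, Module R X := fun X => Module.compHom X (algebraMap R S)
  have : ∀ X : ModuleCat.{u} S, IsScalarTower R S X := fun X =>
    IsScalarTower.of_algebraMap_smul fun _ _ => rfl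
  have hflat' : ∀ j, Module.Flat R (C.X j) := hflat
  let Q := fun j => (C.X j) ⧸ LinearMap.range (C.d (j + 1) j).hom
  have step : ∀ j, j + 1 ≤ e → Module.Flat R (Q (j + 1)) →
      C.ExactAt (j + 1) ∧ Module.Flat R (Q j) := by
    intro j hj hQ
    have hle : LinearMap.range (C.d (j + 1 + 1) (j + 1)).hom ≤ LinearMap.ker (C.d (j + 1) j).hom := by
      rintro _ ⟨z, rfl⟩
      exact congrArg (fun φ => φ.hom z) (C.d_comp_d (j + 1 + 1) (j + 1) j)
    set v : Q (j + 1) →ₗ[S] C.X j := Submodule.liftQ _ (C.d (j + 1) j).hom hle with hv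
    have := hfin (j + 1)
    have := hfin j
    have hx := hex (j + 1) (Nat.le_add_left 1 j) hj
    rw [HomologicalComplex.exactAt_iff' _ (j + 1 + 1) (j + 1) j (by simp) (by simp),
      ShortComplex.ShortExact.moduleCat_exact_iff_function_exact] at hx
    let A := S ⧸ m.map (algebraMap R S)
    change Function.Exact ((C.d (j + 1 + 1) (j + 1)).hom.lTensor A) ((C.d (j + 1) j).hom.lTensor A) at hx
    have hone : ∀ (X : ModuleCat.{u} S) (x : X),
        (1 : A) ⊗ₜ[S] x = 0 ↔ x ∈ m.map (algebraMap R S) • (⊤ : Submodule S X) := fun X x => by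
      rw [← (TensorProduct.quotTensorEquivQuotSMul X (m.map (algebraMap R S))).map_eq_zero_iff,
        Groth.Agent.CAlgH39.InjModMax.quotTensor_one, Submodule.Quotient.mk_eq_zero]
    obtain ⟨hvi, hvf⟩ := Groth.Agent.CAlgH39.InjModMax.injective_and_flat (R := R) v (by
      intro q hq
      obtain ⟨x, rfl⟩ := Submodule.Quotient.mk_surjective _ q
      rw [hv, Submodule.liftQ_apply] at hq
      obtain ⟨w, hw⟩ := (hx ((1 : A) ⊗ₜ[S] x)).1 (by rw [LinearMap.lTensor_tmul]; exact (hone _ _).2 hq)
      obtain ⟨y, rfl⟩ := TensorProduct.mk_surjective S (C.X (j + 1 + 1)) A Ideal.Quotient.mk_surjective w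
      have hxy : x - (C.d (j + 1 + 1) (j + 1)).hom y ∈ m.map (algebraMap R S) • (⊤ : Submodule S _) :=
        (hone _ _).1 (by
          rw [TensorProduct.tmul_sub, sub_eq_zero, ← hw]
          simp)
      have h3 := Submodule.mem_map_of_mem (f := (LinearMap.range (C.d (j + 1 + 1) (j + 1)).hom).mkQ) hxy
      rw [Submodule.map_smul'', map_sub, Submodule.mkQ_apply, Submodule.mkQ_apply] at h3
      rw [(Submodule.Quotient.mk_eq_zero _).2 (LinearMap.mem_range_self _ y), sub_zero] at h3
      exact Submodule.smul_mono le_rfl le_top h3)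
    refine ⟨?_, ?_⟩
    · rw [HomologicalComplex.exactAt_iff' _ (j + 1 + 1) (j + 1) j (by simp) (by simp),
        ShortComplex.ShortExact.moduleCat_exact_iff_function_exact]
      refine fun x => ⟨fun h => ?_, fun h => hle h⟩
      exact (Submodule.Quotient.mk_eq_zero _).1 (hvi (a₁ := Submodule.Quotient.mk x) (a₂ := 0) (by
        rw [map_zero]; exact h))
    · have : LinearMap.range v = LinearMap.range (C.d (j + 1) j).hom := Submodule.range_liftQ _ _ _
      exact Module.Flat.of_linearEquiv
        ((Submodule.quotEquivOfEq _ _ this).restrictScalars R).symm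
  have hQ : ∀ i j, e ≤ j + i → Module.Flat R (Q j) := by
    intro i
    induction i with
    | zero =>
      intro j hj
      rcases eq_or_lt_of_le hj with h | h
      · have hz : Subsingleton (C.X (j + 1)) :=
          ModuleCat.subsingleton_of_isZero (hzero _ (by lia))
        have hb : LinearMap.range (C.d (j + 1) j).hom = ⊥ := by
          rw [LinearMap.range_eq_bot]
          exact LinearMap.ext fun x => by rw [Subsingleton.elim x 0, map_zero, map_zero]
        exact Module.Flat.of_linearEquiv
          ((Submodule.quotEquivOfEqBot _ hb).restrictScalars R)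
      · have : Subsingleton (C.X j) := ModuleCat.subsingleton_of_isZero (hzero j h)
        have : Subsingleton (Q j) := (Submodule.Quotient.mk_surjective _).subsingleton
        infer_instance
    | succ i ih =>
      intro j hj
      rcases Nat.lt_or_ge j e with h | h
      · exact (step j h (ih (j + 1) (by lia))).2
      · exact ih j (by lia)
  refine ⟨fun j h1 h2 => ?_, ?_⟩
  · obtain ⟨j, rfl⟩ := Nat.exists_eq_add_of_le h1
    rw [add_comm]
    exact (step j (by lia) (hQ e _ (by lia))).1
  · have := hQ e 0 (by lia)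
    have hg : (C.sc' (0 + 1) 0 0).g = 0 := C.shape 0 0 (by simp)
    have := (C.sc' (0 + 1) 0 0).isIso_homologyι hg
    let e1 : C.homology 0 ≅ ModuleCat.of S (Q 0) := C.homologyIsoSc' (0 + 1) 0 0 (by simp) (by simp) ≪≫
      asIso (C.sc' (0 + 1) 0 0).homologyι ≪≫ (C.sc' (0 + 1) 0 0).moduleCatOpcyclesIso
    exact Module.Flat.of_linearEquiv (R := R) (M := Q 0)
      ((ModuleCat.restrictScalars (algebraMap R S)).mapIso e1).toLinearEquiv

end Groth.Agent.S6387
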