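import Groth.Statements.S6434
import Groth.Agent.S6433
import Mathlib.CategoryTheory.Limits.Preserves.Finite
import Mathlib.Data.Finite.Prod
import Mathlib.Data.Finite.Sigma

set_option autoImplicit false
open CategoryTheory
universe v u v' u'
open CatLoc

namespace Groth.Agent.S6434

open CategoryTheory.Limits in
theorem common_postcomp {C : Type u} [Category.{v} C] {D : Type u'} [Category.{v'} D] (W : MorphismProperty C) (L : C ⥤ D) [L.IsLocalization W] [W.HasLeftCalculusOfFractions]
    {ι : Type*} [Finite ι] (A : ι → C) (Y : C) (f g : ∀ i, A i ⟶ Y) (h : ∀ i, L.map (f i) = L.map (g i)) :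
    ∃ (Z : C) (u : Y ⟶ Z) (_ : W u), ∀ i, f i ≫ u = g i ≫ u := by
  classical
  cases nonempty_fintype ι
  suffices key : ∀ S : Finset ι, ∃ (Z : C) (u : Y ⟶ Z) (_ : W u), ∀ i ∈ S, f i ≫ u = g i ≫ u by
    obtain ⟨Z, u, hu, hi⟩ := key Finset.univ
    exact ⟨Z, u, hu, fun i => hi i (Finset.mem_univ i)⟩
  intro S
  induction S using Finset.induction with
  | empty => exact ⟨Y, 𝟙 Y, W.id_mem Y, by simp⟩
  | insert a S _ ih =>
    obtain ⟨Z, u, hu, hi⟩ := ih
    obtain ⟨Z', v, hv, hv'⟩ := (MorphismProperty.map_eq_iff_postcomp L W (f a ≫ u) (g a ≫ u)).1 (by rw [L.map_comp, L.map_comp, h a])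
    refine ⟨Z', u ≫ v, W.comp_mem _ _ hu hv, fun i hiS => ?_⟩
    rcases Finset.mem_insert.1 hiS with rfl | hiS
    · simpa using hv'
    · rw [reassoc_of% (hi i hiS)]

/-- The localization functor at a left multiplicative system commutes with finite colimits. -/
theorem result {C : Type u} [Category.{v} C] {D : Type u'} [Category.{v'} D] (W : MorphismProperty C) (L : C ⥤ D) [L.IsLocalization W] [W.HasLeftCalculusOfFractions] :
    Limits.PreservesFiniteColimits L := by
  refine ⟨fun J _ _ => ⟨fun {F} => ⟨fun {c} hc => ?_⟩⟩⟩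
  haveI := Localization.essSurj L W
  have hinv : ∀ {X Y : C} (w : X ⟶ Y), W w → IsIso (L.map w) := fun w hw => Localization.inverts L W w hw
  have uniq : ∀ (P : D) (m m' : L.obj c.pt ⟶ P), (∀ j, L.map (c.ι.app j) ≫ m = L.map (c.ι.app j) ≫ m') → m = m' := by
    intro P m m' h
    let e := L.objObjPreimageIso P
    obtain ⟨Y', s, hs, f, hf⟩ := S6433.result W L (fun _ : Bool => c.pt) (L.objPreimage P)
      (fun b => (bif b then m else m') ≫ e.inv)
    have h1 : m ≫ e.inv ≫ L.map s = L.map (f true) := by simpa using hf true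
    have h2 : m' ≫ e.inv ≫ L.map s = L.map (f false) := by simpa using hf false
    obtain ⟨Z, u, hu, hu'⟩ := common_postcomp W L (fun j => F.obj j) Y' (fun j => c.ι.app j ≫ f true)
      (fun j => c.ι.app j ≫ f false) (fun j => by rw [L.map_comp, L.map_comp, ← h1, ← h2, reassoc_of% (h j)])
    have h3 : f true ≫ u = f false ≫ u := hc.hom_ext fun j => by simpa using hu' j
    haveI := hinv s hs
    haveI := hinv u hu
    have h4 := congrArg L.map h3
    rw [L.map_comp, L.map_comp, cancel_mono, ← h1, ← h2] at h4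
    exact (cancel_mono (e.inv ≫ L.map s)).1 h4
  haveI : Fintype J := FinCategory.fintypeObj; haveI : ∀ p : J × J, Finite (p.1 ⟶ p.2) := fun p => @Finite.of_fintype _ (FinCategory.fintypeHom p.1 p.2)
  haveI : Finite (J × J) := inferInstance
  haveI : Finite (Σ p : J × J, p.1 ⟶ p.2) := inferInstance
  have lift : ∀ s : Limits.Cocone (F ⋙ L), ∃ m : L.obj c.pt ⟶ s.pt, ∀ j, L.map (c.ι.app j) ≫ m = s.ι.app j := by
    intro s
    let e := L.objObjPreimageIso s.pt
    obtain ⟨Y', t, ht, f, hf⟩ := S6433.result W L (fun j => F.obj j) (L.objPreimage s.pt)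
      (fun j => s.ι.app j ≫ e.inv)
    obtain ⟨Z, u, hu, hu'⟩ := common_postcomp W L (fun a : Σ p : J × J, p.1 ⟶ p.2 => F.obj a.1.1) Y'
      (fun a => F.map a.2 ≫ f a.1.2) (fun a => f a.1.1) (fun a => by
        have := s.w a.2
        simp only [Functor.comp_obj, Functor.comp_map] at this
        rw [L.map_comp, ← hf, ← hf, ← Category.assoc (L.map (F.map a.2)), ← Category.assoc (L.map (F.map a.2)), this])
    let s' : Limits.Cocone F := ⟨Z, ⟨fun j => f j ≫ u, fun j j' a => by
      simpa using hu' ⟨(j, j'), a⟩⟩⟩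
    haveI := hinv t ht
    haveI := hinv u hu
    refine ⟨L.map (hc.desc s') ≫ inv (L.map u) ≫ inv (L.map t) ≫ e.hom, fun j => ?_⟩
    rw [← Category.assoc, ← L.map_comp, hc.fac]
    simp [s', ← hf]
  exact ⟨{ desc := fun s => (lift s).choose
           fac := fun s j => (lift s).choose_spec j
           uniq := fun s m hm => uniq _ _ _ fun j => (hm j).trans ((lift s).choose_spec j).symm }⟩

end Groth.Agent.S6434
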