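import Groth.Statements.S6451
import Groth.Agent.IntMultLib.PullPrime

set_option autoImplicit false
universe u
open CategoryTheory CategoryTheory.Limits AlgebraicGeometry
attribute [local instance] HasDerivedCategory.standard
open IntMult

namespace Groth.Agent.S6451

open Groth.Agent

theorem pullFun_ne_zero {X Y : Scheme.{u}} {f : X ⟶ Y} {δX : X → ℤ} {δY : Y → ℤ} {r : ℤ} {α : Y → ℤ} {x : X}
    (h : Cyc.pullFun f δX δY r α x ≠ 0) : δX x = δY (f x) + r ∧ α (f x) ≠ 0 := by
  simp only [Cyc.pullFun, ne_eq, ite_eq_right_iff, not_forall] at h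
  exact ⟨h.1, fun h0 => h.2 (by rw [h0, zero_mul])⟩

theorem exists_finset_gen {Y : Scheme.{u}} (α : AlgebraicCycle Y ℤ) (y : Y) :
    ∃ A : Finset Y, ∀ a, a ∈ A ↔ a ⤳ y ∧ α a ≠ 0 := by
  obtain ⟨_, ⟨U, hU, rfl⟩, hy, -⟩ :=
    Y.isBasis_affineOpens.exists_subset_of_mem_open (Set.mem_univ y) isOpen_univ
  have hfin : {a : Y | a ⤳ y ∧ α a ≠ 0}.Finite := by
    refine (α.locallyFiniteSupport.finite_inter_support_of_isCompact
      (show IsAffineOpen U from hU).isCompact).subset ?_
    rintro a ⟨h1, h2⟩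
    exact ⟨h1.mem_open U.isOpen hy, h2⟩
  exact ⟨hfin.toFinset, fun a => hfin.mem_toFinset⟩

open Classical in
theorem pullFun_eq_sum {X Y : Scheme.{u}} (f : X ⟶ Y) (δX : X → ℤ) (δY : Y → ℤ) (r : ℤ) (α : Y → ℤ) (x : X)
    (A : Finset Y) (hA : ∀ a, a ∈ A ↔ a ⤳ f x ∧ α a ≠ 0) (ξ : X) (hξ : ξ ⤳ x) :
    Cyc.pullFun f δX δY r α ξ = ∑ a ∈ A, α a * Cyc.pullFun f δX δY r (Set.indicator {a} 1) ξ := by
  by_cases h : f ξ ∈ A
  · rw [Finset.sum_eq_single (f ξ)]
    · simp only [Cyc.pullFun, Set.indicator_of_mem (Set.mem_singleton (f ξ)), Pi.one_apply, one_mul]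
      split_ifs <;> simp
    · intro a _ hne
      simp [Cyc.pullFun, Set.indicator_of_notMem (show f ξ ∉ ({a} : Set Y) from fun e => hne e.symm)]
    · exact fun h' => absurd h h'
  · have h0 : α (f ξ) = 0 := by
      by_contra h0
      exact h ((hA _).2 ⟨hξ.map f.continuous, h0⟩)
    rw [Finset.sum_eq_zero fun a ha => ?_]
    · simp [Cyc.pullFun, h0]
    · simp [Cyc.pullFun, Set.indicator_of_notMem (show f ξ ∉ ({a} : Set Y) from fun e => h (e.symm ▸ ha))]

/-- For a flat morphism f : X → Y between nonsingular varieties, with e = dim X − dim Y (every fibre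
component has dimension e), and for cycles α ∈ Z_r(Y) and β ∈ Z_s(Y) meeting properly, the flat
pullbacks f^*α and f^*β again meet properly and pulling back commutes with the product: f^*(α · β) =
f^*α · f^*β, coefficientwise (flat pullback is Cyc.pullFun with relative dimension e). Here X is a
nonsingular variety over the algebraically closed field K (smooth, separated, quasi-compact,
integral) with dimension function δ (transcendence degree over K, recorded by Cyc.DeltaCompat to
Spec K with value 0, together with Cyc.IsSetup) and n = dim X = δ of the generic point; cycles are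
Mathlib AlgebraicCycles with Cyc.Zk membership, proper intersection is IntMult.IntersectProperly and
α · β is the Tor-formula intersection product on coefficient functions (IntMult.interProd). The same
holds for Y with δY and m = dim Y. -/
theorem result (K : Type u) [Field K] [IsAlgClosed K] (X Y : Scheme.{u}) (f : X ⟶ Y) (gX : X ⟶ Spec (CommRingCat.of K)) (gY : Y ⟶ Spec (CommRingCat.of K)) (hf : f ≫ gY = gX) [Smooth gX] [IsSeparated gX] [QuasiCompact gX] [IsIntegral X] [Smooth gY] [IsSeparated gY] [QuasiCompact gY] [IsIntegral Y] [Flat f] (δX : X → ℤ) (δY : Y → ℤ) (hX : Cyc.IsSetup X δX) (hY : Cyc.IsSetup Y δY) (hδX : Cyc.DeltaCompat gX δX (fun _ => 0)) (hδY : Cyc.DeltaCompat gY δY (fun _ => 0)) (hδ : Cyc.DeltaCompat f δX δY) (n m : ℤ) (hn : δX (genericPoint X) = n) (hm : δY (genericPoint Y) = m) (e : ℕ) (he : (e : ℤ) = n - m) (hrel : Cyc.HasRelDim f e) (r s : ℤ) (α β : AlgebraicCycle Y ℤ) (hα : α ∈ Cyc.Zk Y δY r) (hβ : β ∈ Cyc.Zk Y δY s) (hprop : IntMult.IntersectProperly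 δY m ⇑α ⇑β) : IntMult.IntersectProperly δX n (Cyc.pullFun f δX δY e ⇑α) (Cyc.pullFun f δX δY e ⇑β) ∧ Cyc.pullFun f δX δY e (IntMult.interProd δY m ⇑α ⇑β) = IntMult.interProd δX n (Cyc.pullFun f δX δY e ⇑α) (Cyc.pullFun f δX δY e ⇑β) := by
  classical
  haveI := hX.1
  haveI := hY.1
  haveI : LocallyOfFiniteType f := by
    haveI : LocallyOfFiniteType (f ≫ gY) := hf ▸ inferInstance
    exact locallyOfFiniteType_of_comp f gY
  have hle : ∀ x, δX x ≤ δY (f x) + e := H23.FlatShift.le_of_hasRelDim f hrel hδ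
  have hαr : ∀ a, α a ≠ 0 → δY a = r := fun a h => by_contra fun h' => h (hα a h')
  have hβs : ∀ a, β a ≠ 0 → δY a = s := fun a h => by_contra fun h' => h (hβ a h')
  have hprop' : IntMult.IntersectProperly δX n (Cyc.pullFun f δX δY e ⇑α) (Cyc.pullFun f δX δY e ⇑β) := by
    intro ξ η ζ h1 h2 hξ hη
    obtain ⟨e1, h1'⟩ := pullFun_ne_zero h1
    obtain ⟨e2, h2'⟩ := pullFun_ne_zero h2
    have := hprop (f ξ) (f η) (f ζ) h1' h2' (hξ.map f.continuous) (hη.map f.continuous)
    have := hle ζ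
    omega
  refine ⟨hprop', funext fun x => ?_⟩
  by_cases hx : δX x = δY (f x) + e
  swap
  · rw [Cyc.pullFun, if_neg hx, IntMult.interProd]
    refine (finsum_eq_zero_of_forall_eq_zero fun p => ?_).symm
    by_contra hne
    simp only [mul_eq_zero, not_or] at hne
    obtain ⟨e1, h1'⟩ := pullFun_ne_zero hne.1.1
    obtain ⟨e2, h2'⟩ := pullFun_ne_zero hne.1.2
    have := hprop (f p.1.1) (f p.1.2) (f x) h1' h2' (p.2.1.map f.continuous) (p.2.2.1.map f.continuous)
    have := p.2.2.2
    have := hle x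
    omega
  obtain ⟨A, hA⟩ := exists_finset_gen α (f x)
  obtain ⟨B, hB⟩ := exists_finset_gen β (f x)
  -- the pullback of a prime cycle is the cycle of `pullMod`
  have hsupp : ∀ {a : Y} (ha : a ⤳ f x) ξ (hξ : ξ ⤳ x),
      CDiv6.primeOf hξ ∈ Module.support (X.presheaf.stalk x) (IntMultLib.pullMod f ha) → δX ξ ≤ δY a + e := by
    intro a ha ξ hξ h
    have := IntMultLib.delta_le_of_specializes gY hδY ((IntMultLib.mem_support_pullMod f ha hξ).1 h)
    have := hle ξ
    omega
  have hval : ∀ {a : Y} (ha : a ⤳ f x) ξ (hξ : ξ ⤳ x),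
      Cyc.pullFun f δX δY e (Set.indicator {a} 1) ξ =
        if δX ξ = δY a + e then IntMultLib.locLen (CDiv6.primeOf hξ) (IntMultLib.pullMod f ha) else 0 := by
    intro a ha ξ hξ
    haveI := IntMultLib.isNoetherianRing_stalk gX x
    by_cases hd : δX ξ = δY a + e
    · rw [if_pos hd]
      by_cases hs : a ⤳ f ξ
      · have he' : f ξ = a := (IntMultLib.eq_of_specializes_of_delta_le gY hδY hs (by have := hle ξ; omega)).symm
        rw [Cyc.pullFun, if_pos (by rw [he']; exact hd), Set.indicator_of_mem (show f ξ ∈ ({a} : Set Y) from he'),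
          Pi.one_apply, one_mul, IntMultLib.locLen_pullMod f ha hξ he']
      · have h0 : IntMultLib.locLen (CDiv6.primeOf hξ) (IntMultLib.pullMod f ha) = 0 := by
          by_contra h
          exact hs ((IntMultLib.mem_support_pullMod f ha hξ).1 (IntMultLib.mem_support_of_locLen_ne_zero h))
        have hne : f ξ ∉ ({a} : Set Y) := fun h => hs (by rw [show f ξ = a from h])
        simp [Cyc.pullFun, h0, Set.indicator_of_notMem hne]
    · rw [if_neg hd]
      by_contra h
      obtain ⟨e1, h1⟩ := pullFun_ne_zero h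
      exact hd (by rw [e1, Set.eq_of_mem_singleton (Set.mem_of_indicator_ne_zero h1)])
  -- finitely many points in play
  choose T hT using fun a : {a : Y // a ⤳ f x} =>
    IntMultLib.exists_finset_top gX hδX (IntMultLib.pullMod f a.2) (fun ξ hξ h => hsupp a.2 ξ hξ h)
  have hmem : ∀ (C : Finset Y) (γ : Y → ℤ), (∀ a, a ∈ C ↔ a ⤳ f x ∧ γ a ≠ 0) → ∀ a ∈ C, ∀ ξ, ξ ⤳ x →
      Cyc.pullFun f δX δY e (Set.indicator {a} 1) ξ ≠ 0 →
        ξ ∈ C.biUnion fun a => if h : a ⤳ f x then (T ⟨a, h⟩).map (Function.Embedding.subtype _) else ∅ := by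
    intro C γ hC a ha ξ hξ hne
    haveI := IntMultLib.isNoetherianRing_stalk gX x
    have ha' := ((hC a).1 ha).1
    rw [hval ha' ξ hξ] at hne
    simp only [ne_eq, ite_eq_right_iff, not_forall] at hne
    obtain ⟨hd, hne⟩ := hne
    refine Finset.mem_biUnion.2 ⟨a, ha, ?_⟩
    rw [dif_pos ha']
    exact Finset.mem_map.2 ⟨⟨ξ, hξ⟩, hT ⟨a, ha'⟩ ⟨ξ, hξ⟩ hd (IntMultLib.mem_support_of_locLen_ne_zero hne), rfl⟩
  rw [IntMultLib.interProd_bilinear δX n x _ _ A B (fun a => α a) (fun b => β b)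
    (fun a => Cyc.pullFun f δX δY e (Set.indicator {a} 1)) (fun b => Cyc.pullFun f δX δY e (Set.indicator {b} 1))
    _ _ (hmem A _ hA) (hmem B _ hB) (pullFun_eq_sum f δX δY e _ x A hA) (pullFun_eq_sum f δX δY e _ x B hB),
    Cyc.pullFun, if_pos hx, IntMultLib.interProd_eq_sum δY m (⇑α) (⇑β) (f x) A B
      (fun a h h' => (hA a).2 ⟨h, h'⟩) (fun b h h' => (hB b).2 ⟨h, h'⟩), Finset.sum_mul]
  refine Finset.sum_congr rfl fun a ha => ?_
  rw [Finset.sum_mul]
  refine Finset.sum_congr rfl fun b hb => ?_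
  obtain ⟨ha', hane⟩ := (hA a).1 ha
  obtain ⟨hb', hbne⟩ := (hB b).1 hb
  by_cases hab : δY a + δY b - m = δY (f x)
  · rw [if_pos ⟨ha', hb', hab⟩]
    haveI := IntMultLib.isNoetherianRing_stalk gX x
    rw [IntMultLib.chi_stalk_eq_interProd gX hδX hn (IntMultLib.pullMod f ha') (IntMultLib.pullMod f hb')
      (r := δY a + e) (s := δY b + e) (by omega) (hsupp ha') (hsupp hb') ?_ _ _ (hval ha') (hval hb'),
      IntMultLib.chi_pullMod f ha' hb']
    · ring
    intro p hp hq
    obtain ⟨z, hz, hzp⟩ := H23.StalkPrimes.exists_point p.asIdeal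
    obtain rfl : CDiv6.primeOf hz = p := PrimeSpectrum.ext hzp
    have h1 := (IntMultLib.mem_support_pullMod f ha' hz).1 hp
    have h2 := (IntMultLib.mem_support_pullMod f hb' hz).1 hq
    have := hprop a b (f z) hane hbne h1 h2
    have := hle z
    obtain rfl : z = x := IntMultLib.eq_of_specializes_of_delta_le gX hδX hz (by omega)
    rw [H23.ZeroSec.primeOf_refl']
    exact IsLocalRing.maximalIdeal.isMaximal _
  · rw [if_neg (fun h => hab h.2.2), zero_mul]
    have h0 : IntMult.interProd δX n (Cyc.pullFun f δX δY e (Set.indicator {a} 1))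
        (Cyc.pullFun f δX δY e (Set.indicator {b} 1)) x = 0 := by
      refine finsum_eq_zero_of_forall_eq_zero fun p => ?_
      by_contra hne
      simp only [mul_eq_zero, not_or] at hne
      obtain ⟨e1, h1'⟩ := pullFun_ne_zero hne.1.1
      obtain ⟨e2, h2'⟩ := pullFun_ne_zero hne.1.2
      rw [Set.eq_of_mem_singleton (Set.mem_of_indicator_ne_zero h1')] at e1
      rw [Set.eq_of_mem_singleton (Set.mem_of_indicator_ne_zero h2')] at e2
      have := p.2.2.2
      omega
    rw [h0, mul_zero]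

end Groth.Agent.S6451
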