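import Groth.Statements.S6453
import Groth.Agent.IntMultLib.Proper
import Groth.Agent.IntMultLib.LocalAlg

set_option autoImplicit false
universe u
open CategoryTheory AlgebraicGeometry
attribute [local instance] HasDerivedCategory.standard
open IntMult

namespace Groth.Agent.S6453

/-- Suppose the ideal of V in O_{X,ξ} is generated by a single nonzerodivisor g (c = 1: V is an
effective Cartier divisor at ξ). Then e(X, V·W, Z) = length_{O_{X,ξ}}(O_{W,ξ}/g O_{W,ξ}), i.e. the
length of O_{X,ξ}/(I_{W,ξ} + (g)). Here X is a nonsingular variety over an algebraically closed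
field K (smooth, separated, quasi-compact, integral), V and W are closed subvarieties given by
quasi-coherent ideal sheaves with integral subschemes, of dimensions r and s with dim X = n,
intersecting properly, and ξ is the generic point of an irreducible component Z of V ∩ W (a point of
V ∩ W maximal under specialization); e(X, V·W, Z) = IntMult.mult is the alternating sum of lengths
of Tor over O_{X,ξ}, and O_{W,ξ} = O_{X,ξ}/I_{W,ξ}. -/
theorem result (K : Type u) [Field K] [IsAlgClosed K] (X : Scheme.{u}) (f : X ⟶ Spec (CommRingCat.of K)) [Smooth f] [IsSeparated f] [QuasiCompact f] [IsIntegral X] (IV IW : X.IdealSheafData) [IsIntegral IV.subscheme] [IsIntegral IW.subscheme] (n r s : ℕ) (hn : topologicalKrullDim X = n) (hr : topologicalKrullDim IV.support = r) (hs : topologicalKrullDim IW.support = s) (hprop : IntMult.ProperInt (IV.support : Set X) (IW.support : Set X) n r s) (ξ : X) (hξV : ξ ∈ IV.support) (hξW : ξ ∈ IW.support) (hmax : ∀ ξ' : X, ξ' ∈ IV.support → ξ' ∈ IW.support → ξ' ⤳ ξ → ξ' = ξ) (g : ↑(X.presheaf.stalk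 ξ)) (hg : IntMult.stalkIdeal IV ξ = Ideal.span {g}) (hreg : IsSMulRegular (↑(X.presheaf.stalk ξ)) g) : (IntMult.mult IV IW ξ : ℤ) = (Module.length (X.presheaf.stalk ξ) (↑(X.presheaf.stalk ξ) ⧸ (IntMult.stalkIdeal IW ξ ⊔ Ideal.span {g}))).toNat := by
  obtain ⟨hR, hpV, hpW, hrad, d, a, b, hd, ha, hb, hab⟩ :=
    IntMultLib.local_data f IV IW hn hr hs hprop hξV hξW hmax
  haveI := hR
  rw [hg] at ha hrad hpV
  let R : Type u := X.presheaf.stalk ξ
  have hgm : g ∈ IsLocalRing.maximalIdeal R :=
    hrad ▸ Ideal.le_radical (Ideal.mem_sup_left (Ideal.mem_span_singleton_self g))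
  have hlist : Ideal.ofList [g] = Ideal.span {g} := Ideal.ofList_singleton g
  have hr1 : RingTheory.Sequence.IsRegular R [g] := by
    refine ⟨(RingTheory.Sequence.isWeaklyRegular_singleton_iff R g).2 hreg, ?_⟩
    rw [hlist, smul_eq_mul, Ideal.mul_top]
    exact hpV.ne_top.symm
  have h := ringKrullDim_add_length_eq_ringKrullDim_of_isRegular _ hr1
  rw [ringKrullDim_eq_of_ringEquiv (Ideal.quotEquivOfEq hlist), ha, hd, List.length_singleton] at h
  have ha1 : a + 1 = d := by exact_mod_cast h
  have hgQ : g ∉ IntMult.stalkIdeal IW ξ := fun hc => by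
    rw [sup_eq_right.2 ((Ideal.span_singleton_le_iff_mem _).2 hc), hpW.radical] at hrad
    rw [hrad] at hb
    haveI : Subsingleton (PrimeSpectrum (R ⧸ IsLocalRing.maximalIdeal R)) := by
      letI := Ideal.Quotient.field (IsLocalRing.maximalIdeal R)
      infer_instance
    have : b = 0 := by
      letI := Ideal.Quotient.field (IsLocalRing.maximalIdeal R)
      rw [ringKrullDim_eq_zero_of_field] at hb
      exact_mod_cast hb.symm
    omega
  have hreg' : RingTheory.Sequence.IsWeaklyRegular (R ⧸ IntMult.stalkIdeal IW ξ) [g] := by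
    refine (RingTheory.Sequence.isWeaklyRegular_singleton_iff _ g).2 fun x y hxy => ?_
    obtain ⟨x, rfl⟩ := Ideal.Quotient.mk_surjective x
    obtain ⟨y, rfl⟩ := Ideal.Quotient.mk_surjective y
    have : g * (x - y) ∈ IntMult.stalkIdeal IW ξ := by
      rw [mul_sub]
      exact Ideal.Quotient.eq.1 hxy
    exact Ideal.Quotient.eq.2 ((hpW.mem_or_mem this).resolve_left hgQ)
  have hrange : Set.range (fun _ : Fin 1 => g) = {g} := Set.range_const
  haveI hpd : HasProjectiveDimensionLE (ModuleCat.of R (R ⧸ Ideal.span {g})) 1 :=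
    hrange ▸ IntMultLib.pdLE_quot_regular (fun _ : Fin 1 => g)
      ((RingTheory.Sequence.isWeaklyRegular_singleton_iff R g).2 hreg)
  rw [IntMult.mult, IntMultLib.chi_symm, hg, sup_comm]
  refine IntMultLib.chi_eq_length_of_vanish (A := R) _ _ fun i =>
    IntMultLib.subsingleton_tor_of_regular _ _ 1 [g] hreg' (fun x hx m => ?_) i (by simp)
  obtain rfl := List.mem_singleton.1 hx
  obtain ⟨m, rfl⟩ := Ideal.Quotient.mk_surjective m
  exact Ideal.Quotient.eq_zero_iff_mem.2 (Ideal.mul_mem_right _ _ (Ideal.mem_span_singleton_self _))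

end Groth.Agent.S6453
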