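import Groth.Statements.S6461
import Groth.Agent.DimFormula.Codim
import Groth.Agent.CycLib.Basic
import Groth.Agent.CycLib.Supp
import Groth.Agent.CAlgOdd.CMCatenary

set_option autoImplicit false
universe u
open CategoryTheory AlgebraicGeometry
open Cyc

namespace Groth.Agent.S6461

/-- If all local rings of X are Cohen–Macaulay then every x ∈ X has an open neighbourhood U and an
integer n with δ(ξ) = n for every generic point ξ of an irreducible component of U (every point of U
maximal under specialization). Here a pair (X, δ) with Cyc.IsSetup plays the role of a scheme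
locally of finite type over the base (S, δ) (X locally Noetherian with universally catenary local
rings, δ a dimension function). -/
theorem result (X : Scheme.{u}) (δ : X → ℤ) (hX : Cyc.IsSetup X δ) (hCM : ∀ x : X, LocCoh.IsCohenMacaulayLocalRing ↑(X.presheaf.stalk x)) (x : X) : ∃ (U : X.Opens) (n : ℤ), x ∈ U ∧ ∀ ξ : X, ξ ∈ U → (∀ ξ' : X, ξ' ⤳ ξ → ξ' = ξ) → δ ξ = n := by
  haveI := hX.1
  have hd := hX.2.2
  haveI : QuasiSober ↥(Set.univ : Set X) := isClosed_univ.isClosedEmbedding_subtypeVal.quasiSober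
  let P : Set (irreducibleComponents ↥(Set.univ : Set X)) :=
    {Z | x ∉ ((↑) '' (Z : Set ↥(Set.univ : Set X)) : Set X)}
  have hcl : IsClosed (⋃ Z : P, ((↑) '' ((Z : irreducibleComponents ↥(Set.univ : Set X)) :
      Set ↥(Set.univ : Set X)) : Set X)) :=
    ((Groth.Agent.CycLib.locallyFinite_components isClosed_univ).comp_injective
      Subtype.val_injective).isClosed_iUnion fun Z =>
      isClosed_univ.isClosedEmbedding_subtypeVal.isClosedMap _ (isClosed_of_mem_irreducibleComponents _ Z.1.2)
  refine ⟨⟨_, hcl.isOpen_compl⟩, δ x + Groth.Agent.DimFormula.codim x, fun hmem => ?_, fun ξ hξ hmax => ?_⟩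
  · obtain ⟨Z, hZ⟩ := Set.mem_iUnion.1 hmem
    exact Z.2 hZ
  let c : irreducibleComponents ↥(Set.univ : Set X) :=
    ⟨irreducibleComponent (⟨ξ, trivial⟩ : ↥(Set.univ : Set X)), irreducibleComponent_mem_irreducibleComponents _⟩
  have hxc : x ∈ ((↑) '' (c : Set ↥(Set.univ : Set X)) : Set X) := by
    by_contra hc
    exact hξ (Set.mem_iUnion.2 ⟨⟨c, hc⟩, ⟨ξ, trivial⟩, mem_irreducibleComponent, rfl⟩)
  obtain ⟨w, hw, hwx⟩ := hxc
  obtain ⟨η, hη⟩ := QuasiSober.sober c.2.1 (isClosed_of_mem_irreducibleComponents _ c.2)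
  have h1 : (η : X) = ξ := hmax _ ((hη.specializes (mem_irreducibleComponent :
    (⟨ξ, trivial⟩ : ↥(Set.univ : Set X)) ∈ c.1)).map continuous_subtype_val)
  have hξx : ξ ⤳ x := h1 ▸ hwx ▸ (hη.specializes hw).map continuous_subtype_val
  haveI := hCM x
  have hdim : ∀ p ∈ minimalPrimes (X.presheaf.stalk x),
      ringKrullDim (X.presheaf.stalk x ⧸ p) = ringKrullDim (X.presheaf.stalk x) := by
    intro p hp
    haveI := hp.1.1
    have hCM' : LocCoh.IsCohenMacaulayModule (X.presheaf.stalk x) (X.presheaf.stalk x) :=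
      LocCoh.IsCohenMacaulayLocalRing.supportDim_eq_depth
    have hsupp : Module.support (X.presheaf.stalk x) (X.presheaf.stalk x) = Set.univ := by
      refine Set.eq_univ_of_forall fun q => Module.mem_support_iff'.2 ⟨1, fun r hr e => hr ?_⟩
      rw [smul_eq_mul, mul_one] at e
      exact e ▸ q.asIdeal.zero_mem
    have h := Groth.Agent.CAlgOdd.CMCatenary.height_add_coheight _ hCM' hsupp ⟨p, hp.1.1⟩
    rw [Ideal.height_eq_zero_iff.2 hp,
      Groth.Agent.VarDim.coheight_eq_ringKrullDim_quotient] at h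
    simpa using h
  have hcd := (Groth.Agent.DimFormula.isEquidim_stalk_iff x).1 hdim ξ hξx hmax
  have h2 := Groth.Agent.CycLib.cd_eq hd hξx
  rw [hcd] at h2
  omega

end Groth.Agent.S6461
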