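import Groth.Statements.S6463
import Groth.Agent.H23.Rigid

set_option autoImplicit false
universe u
open CategoryTheory CategoryTheory.Limits AlgebraicGeometry
open PicF

namespace Groth.Agent.S6463

/-- For a field k and a smooth projective curve X over k that has a k-rational point σ, the conditions
under which the Picard functor is computed through the section are met: f : X → Spec k is flat,
proper and of finite presentation with a section, and O_T → f_{T,*} O_{X_T} is an isomorphism for
every scheme T over k. Only the last assertion is stated (the others are part of the hypotheses or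
immediate): for every t : T → Spec k, the sheaf map of the base change X ×_k T → T is an
isomorphism. Proper replaces projective (they agree for curves over a field). -/
theorem result (k : Type u) [Field k] (X : Scheme.{u}) (f : X ⟶ Spec (CommRingCat.of k)) (hX : Curve.IsSmoothProperCurve k X f) (σ : Spec (CommRingCat.of k) ⟶ X) (hσ : σ ≫ f = 𝟙 (Spec (CommRingCat.of k))) (T : Scheme.{u}) (t : T ⟶ Spec (CommRingCat.of k)) : IsIso (pullback.snd f t).c := by
  obtain ⟨hp, -, hint, -⟩ := hX
  haveI : IsDomain Γ(X, ⊤) := inferInstance
  have hF : IsField Γ(X, ⊤) := isField_of_universallyClosed k f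
  letI := hF.toField
  let ψ := σ.appTop ≫ (Scheme.ΓSpecIso (CommRingCat.of k)).hom
  have hψ : Function.Injective ψ.hom := RingHom.injective ψ.hom
  have hcomp : ∀ z, ψ (f.appTop z) = (Scheme.ΓSpecIso (CommRingCat.of k)).hom z := fun z => by
    have h := congrArg (fun m => (Scheme.Hom.appTop m) z) hσ
    simp only [Scheme.Hom.comp_appTop, Scheme.Hom.id_appTop] at h
    exact congrArg (Scheme.ΓSpecIso (CommRingCat.of k)).hom h
  have hb : Function.Bijective f.appTop := by
    refine ⟨fun a b h => (ConcreteCategory.bijective_of_isIso (Scheme.ΓSpecIso (CommRingCat.of k)).hom).1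
      (by rw [← hcomp, ← hcomp, h]), fun w => ⟨(Scheme.ΓSpecIso (CommRingCat.of k)).inv (ψ w), hψ ?_⟩⟩
    show ψ (f.appTop _) = ψ w
    rw [hcomp, Iso.inv_hom_id_apply]
  haveI : ∀ U, IsIso ((pullback.snd f t).c.app U) := fun U =>
    (ConcreteCategory.isIso_iff_bijective _).2
      (Groth.Agent.H23.Rigid.bijective_app_snd_of_bijective f t hb U.unop)
  exact NatIso.isIso_of_isIso_app _

end Groth.Agent.S6463
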