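import Groth.Statements.S6470
import Groth.Agent.IntMultLib.ChiSum

set_option autoImplicit false
universe u
open CategoryTheory CategoryTheory.Limits AlgebraicGeometry
attribute [local instance] HasDerivedCategory.standard
open IntMult

namespace Groth.Agent.S6470

open Groth.Agent

theorem eq_rs {X : Scheme.{u}} {δ : X → ℤ} {r : ℤ} {F : X.Modules} {x : X} (h : Cyc.sheafFun δ r F x ≠ 0) :
    δ x = r ∧ Nontrivial (F.presheaf.stalk x) := by
  simp only [Cyc.sheafFun, ne_eq, ite_eq_right_iff, not_forall] at h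
  obtain ⟨h1, h2⟩ := h
  refine ⟨h1, not_subsingleton_iff_nontrivial.1 fun hs => h2 ?_⟩
  simp [Module.length_eq_zero]

/-- Let X be a nonsingular variety of dimension n and F, G coherent O_X-modules. Suppose the support of
F has dimension at most r, the support of G has dimension at most s, and the two supports meet in a
set whose dimension does not exceed r + s − n. Then [F]_r and [G]_s intersect properly and [F]_r ·
[G]_s = Σ_p (−1)^p [Tor_p^{O_X}(F, G)]_{r+s−n}; the right side is written through stalks: its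
coefficient at ζ with δ(ζ) = r + s − n is Σ_p (−1)^p length_{O_{X,ζ}} Tor_p^{O_{X,ζ}}(F_ζ, G_ζ)
(IntMult.chi), the stalk of the Tor sheaf being the Tor of the stalks. Support bounds are phrased
through nontrivial stalks. Here X is a nonsingular variety over the algebraically closed field K
(smooth, separated, quasi-compact, integral) with dimension function δ (transcendence degree over K,
recorded by Cyc.DeltaCompat to Spec K with value 0, together with Cyc.IsSetup) and n = dim X = δ of
the generic point; cycles are coefficient functions X → ℤ, proper intersection is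
IntMult.IntersectProperly and α · β is the Tor-formula intersection product on coefficient functions
(IntMult.interProd). -/
theorem result (K : Type u) [Field K] [IsAlgClosed K] (X : Scheme.{u}) (f : X ⟶ Spec (CommRingCat.of K)) [Smooth f] [IsSeparated f] [QuasiCompact f] [IsIntegral X] (δ : X → ℤ) (hX : Cyc.IsSetup X δ) (hδ : Cyc.DeltaCompat f δ (fun _ => 0)) (n : ℤ) (hn : δ (genericPoint X) = n) (F G : X.Modules) (hF : Coh.IsCoh F) (hG : Coh.IsCoh G) (r s : ℤ) (hr : ∀ x : X, Nontrivial (F.presheaf.stalk x) → δ x ≤ r) (hs : ∀ x : X, Nontrivial (G.presheaf.stalk x) → δ x ≤ s) (hrs : ∀ x : X, Nontrivial (F.presheaf.stalk x) → Nontrivial (G.presheaf.stalk x) → δ x ≤ r + s - n) : IntMult.IntersectProperly δ n (Cyc.sheafFun δ r F) (Cyc.sheafFun δ s G) ∧ ∀ ζ : X, IntMult.interProd δ n (Cyc.sheafFun δ r F) (Cyc.sheafFun δ s G) ζ = if δ ζ = r + s - n then IntMult.chi ↑(X.presheaf.stalk ζ) ↑(F.presheaf.stalk ζ) ↑(G.presheaf.stalk ζ) else 0 := by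
  haveI := hX.1
  have hspec : ∀ {M : X.Modules}, Coh.IsCoh M → ∀ {z x : X}, z ⤳ x → Nontrivial (M.presheaf.stalk z) →
      Nontrivial (M.presheaf.stalk x) := fun {M} hM {z x} h hz => by
    obtain ⟨p, hp⟩ : ∃ p, p ∈ Module.support (X.presheaf.stalk x) (M.presheaf.stalk x) :=
      ⟨_, (IntMultLib.mem_support_stalk hM.1 h).2 hz⟩
    rw [← not_subsingleton_iff_nontrivial]
    intro hs
    rw [Module.support_eq_empty] at hp
    exact hp
  refine ⟨fun ξ η ζ hα hβ hξ hη => ?_, fun ζ => ?_⟩
  · obtain ⟨e1, h1⟩ := eq_rs hα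
    obtain ⟨e2, h2⟩ := eq_rs hβ
    rw [e1, e2]
    exact hrs ζ (hspec hF hξ h1) (hspec hG hη h2)
  split_ifs with hζ
  · haveI := QCoh.finite_stalk_of_isFT hF.1 hF.2 ζ
    haveI := QCoh.finite_stalk_of_isFT hG.1 hG.2 ζ
    have hval : ∀ {M : X.Modules}, Coh.IsCoh M → ∀ (t : ℤ) ξ (hξ : ξ ⤳ ζ), Cyc.sheafFun δ t M ξ =
        if δ ξ = t then IntMultLib.locLen (CDiv6.primeOf hξ) (M.presheaf.stalk ζ) else 0 := fun hM t ξ hξ => by
      simp only [Cyc.sheafFun, IntMultLib.locLen, IntMultLib.length_localized_stalk hM.1 hξ]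
    refine IntMultLib.chi_stalk_eq_interProd f hδ hn _ _ hζ
      (fun ξ hξ h => hr ξ ((IntMultLib.mem_support_stalk hF.1 hξ).1 h))
      (fun ξ hξ h => hs ξ ((IntMultLib.mem_support_stalk hG.1 hξ).1 h)) ?_ _ _ (hval hF r) (hval hG s)
    intro p hp hq
    obtain ⟨z, hz, hzp⟩ := H23.StalkPrimes.exists_point p.asIdeal
    obtain rfl : CDiv6.primeOf hz = p := PrimeSpectrum.ext hzp
    have h := hrs z ((IntMultLib.mem_support_stalk hF.1 hz).1 hp) ((IntMultLib.mem_support_stalk hG.1 hz).1 hq)
    obtain rfl : z = ζ := IntMultLib.eq_of_specializes_of_delta_le f hδ hz (by omega)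
    rw [H23.ZeroSec.primeOf_refl']
    exact IsLocalRing.maximalIdeal.isMaximal _
  · refine finsum_eq_zero_of_forall_eq_zero fun p => ?_
    by_contra h
    simp only [mul_eq_zero, not_or] at h
    obtain ⟨e1, -⟩ := eq_rs h.1.1
    obtain ⟨e2, -⟩ := eq_rs h.1.2
    have := p.2.2.2
    omega

end Groth.Agent.S6470
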