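import Groth.Statements.S6471
import Groth.Agent.IntMultLib.ChiFlat
import Groth.Agent.IntMultLib.ChiSum
import Groth.Agent.H23.FlatShift
import Groth.Agent.S6470
import Groth.Agent.IntMultLib.CohPullback

set_option autoImplicit false
universe u
open CategoryTheory CategoryTheory.Limits AlgebraicGeometry
attribute [local instance] HasDerivedCategory.standard
open IntMult

namespace Groth.Agent.S6471

open Groth.Agent
open scoped TensorProduct

theorem chi_stalk_pullback {X Y : Scheme.{u}} (f : X ⟶ Y) [Flat f] (F G : Y.Modules) (x : X) :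
    IntMult.chi (X.presheaf.stalk x) (((Scheme.Modules.pullback f).obj F).presheaf.stalk x)
        (((Scheme.Modules.pullback f).obj G).presheaf.stalk x) =
      IntMult.chi (Y.presheaf.stalk (f x)) (F.presheaf.stalk (f x)) (G.presheaf.stalk (f x)) *
        ((Module.length (X.presheaf.stalk x) (X.presheaf.stalk x ⧸ Ideal.map (f.stalkMap x).hom
          (IsLocalRing.maximalIdeal (Y.presheaf.stalk (f x))))).toNat : ℤ) := by
  have hflat : (f.stalkMap x).hom.Flat := Flat.stalkMap f x
  refine (IntMultLib.chi_congr ((KFlatLib.stalkPullbackIso f x).app F).toLinearEquiv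
    ((KFlatLib.stalkPullbackIso f x).app G).toLinearEquiv).trans ?_
  algebraize [(f.stalkMap x).hom]
  haveI : IsLocalHom (algebraMap (Y.presheaf.stalk (f x)) (X.presheaf.stalk x)) :=
    inferInstanceAs <| IsLocalHom (f.stalkMap x).hom
  exact IntMultLib.chi_baseChange (Y.presheaf.stalk (f x)) (X.presheaf.stalk x)
    ((DerSch.stalkFunctor Y (f x)).obj F) ((DerSch.stalkFunctor Y (f x)).obj G)

/-- For a flat morphism f : X → Y between nonsingular varieties, with e = dim X − dim Y (every fibre
component has dimension e), and coherent O_Y-modules F, G whose supports have dimension at most r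
and s and meet in dimension at most r + s − dim Y, the cycles of the pulled-back modules,
[f^*F]_{r+e} and [f^*G]_{s+e}, meet properly, and pulling back the product [F]_r · [G]_s along f
gives their product: f^*([F]_r · [G]_s) = [f^*F]_{r+e} · [f^*G]_{s+e}, coefficientwise (f^* on
cycles is Cyc.pullFun with relative dimension e, f^* on modules is Mathlib's
Scheme.Modules.pullback). Here X is a nonsingular variety over the algebraically closed field K
(smooth, separated, quasi-compact, integral) with dimension function δ (transcendence degree over K,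
recorded by Cyc.DeltaCompat to Spec K with value 0, together with Cyc.IsSetup) and n = dim X = δ of
the generic point; cycles are coefficient functions X → ℤ, proper intersection is
IntMult.IntersectProperly and α · β is the Tor-formula intersection product on coefficient functions
(IntMult.interProd). The same holds for Y with δY and m = dim Y. -/
theorem result (K : Type u) [Field K] [IsAlgClosed K] (X Y : Scheme.{u}) (f : X ⟶ Y) (gX : X ⟶ Spec (CommRingCat.of K)) (gY : Y ⟶ Spec (CommRingCat.of K)) (hf : f ≫ gY = gX) [Smooth gX] [IsSeparated gX] [QuasiCompact gX] [IsIntegral X] [Smooth gY] [IsSeparated gY] [QuasiCompact gY] [IsIntegral Y] [Flat f] (δX : X → ℤ) (δY : Y → ℤ) (hX : Cyc.IsSetup X δX) (hY : Cyc.IsSetup Y δY) (hδX : Cyc.DeltaCompat gX δX (fun _ => 0)) (hδY : Cyc.DeltaCompat gY δY (fun _ => 0)) (hδ : Cyc.DeltaCompat f δX δY) (n m : ℤ) (hn : δX (genericPoint X) = n) (hm : δY (genericPoint Y) = m) (e : ℕ) (he : (e : ℤ) = n - m) (hrel : Cyc.HasRelDim f e) (F G : Y.Modules) (hF : Coh.IsCoh F) (hG : Coh.IsCoh G) (r s : ℤ) (hr : ∀ y :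 Y, Nontrivial (F.presheaf.stalk y) → δY y ≤ r) (hs : ∀ y : Y, Nontrivial (G.presheaf.stalk y) → δY y ≤ s) (hrs : ∀ y : Y, Nontrivial (F.presheaf.stalk y) → Nontrivial (G.presheaf.stalk y) → δY y ≤ r + s - m) : IntMult.IntersectProperly δX n (Cyc.sheafFun δX (r + e) ((Scheme.Modules.pullback f).obj F)) (Cyc.sheafFun δX (s + e) ((Scheme.Modules.pullback f).obj G)) ∧ Cyc.pullFun f δX δY e (IntMult.interProd δY m (Cyc.sheafFun δY r F) (Cyc.sheafFun δY s G)) = IntMult.interProd δX n (Cyc.sheafFun δX (r + e) ((Scheme.Modules.pullback f).obj F)) (Cyc.sheafFun δX (s + e) ((Scheme.Modules.pullback f).obj G)) := by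
  haveI := hX.1
  haveI := hY.1
  haveI : LocallyOfFiniteType f := by
    haveI : LocallyOfFiniteType (f ≫ gY) := hf ▸ inferInstance
    exact locallyOfFiniteType_of_comp f gY
  have hle : ∀ x, δX x ≤ δY (f x) + e := H23.FlatShift.le_of_hasRelDim f hrel hδ
  obtain ⟨hr', eF⟩ := H23.FlatShift.sheafFun_pullback f δX δY hle r F hr
  obtain ⟨hs', eG⟩ := H23.FlatShift.sheafFun_pullback f δX δY hle s G hs
  have hrs' : ∀ x : X, Nontrivial (((Scheme.Modules.pullback f).obj F).presheaf.stalk x) →
      Nontrivial (((Scheme.Modules.pullback f).obj G).presheaf.stalk x) → δX x ≤ (r + e) + (s + e) - n := by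
    intro x h1 h2
    have := hrs (f x) (H23.FlatShift.nontrivial_of_pullback f F x h1) (H23.FlatShift.nontrivial_of_pullback f G x h2)
    have := hle x
    omega
  obtain ⟨hint, hprod⟩ := Groth.Agent.S6470.result K X gX δX hX hδX n hn ((Scheme.Modules.pullback f).obj F)
    ((Scheme.Modules.pullback f).obj G) (IntMultLib.isCoh_pullback f hF) (IntMultLib.isCoh_pullback f hG) (r + e) (s + e)
    hr' hs' hrs'
  obtain ⟨-, hprodY⟩ := Groth.Agent.S6470.result K Y gY δY hY hδY m hm F G hF hG r s hr hs hrs
  refine ⟨hint, funext fun x => ?_⟩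
  rw [hprod x, chi_stalk_pullback f F G x]
  simp only [Cyc.pullFun, hprodY (f x)]
  have h1 := hle x
  by_cases hx : δX x = r + e + (s + e) - n
  · rw [if_pos hx]
    by_cases hy : δY (f x) = r + s - m
    · rw [if_pos hy, if_pos (by omega)]
    · have h0 : IntMult.chi (Y.presheaf.stalk (f x)) (F.presheaf.stalk (f x)) (G.presheaf.stalk (f x)) = 0 := by
        haveI := IntMultLib.isRegularLocalRing_stalk gY (f x)
        haveI := QCoh.finite_stalk_of_isFT hF.1 hF.2 (f x)
        haveI := QCoh.finite_stalk_of_isFT hG.1 hG.2 (f x)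
        rcases subsingleton_or_nontrivial (F.presheaf.stalk (f x)) with h | h
        · exact IntMultLib.chi_eq_zero_of_subsingleton _ _
        rcases subsingleton_or_nontrivial (G.presheaf.stalk (f x)) with h' | h'
        · rw [IntMultLib.chi_symm]
          exact IntMultLib.chi_eq_zero_of_subsingleton _ _
        have := hrs (f x) h h'
        omega
      simp [h0, if_neg hy]
  · rw [if_neg hx]
    split_ifs with ha hb
    · omega
    · rw [zero_mul]
    · rfl

end Groth.Agent.S6471
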