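import Groth.Statements.S6473
import Groth.Agent.IntMultLib.DiagReg
import Groth.Agent.FDescent.MaxPoint

set_option autoImplicit false
universe u
open CategoryTheory CategoryTheory.Limits AlgebraicGeometry
open IntMult

namespace Groth.Agent.S6473

/-- Let f : X → Y be a morphism of varieties over K which is a regular immersion of codimension c, and Z
⊂ Y a closed subvariety of dimension d. Then each irreducible component T of f⁻¹(Z) = X ×_Y Z
satisfies dim T ≥ d − c; stated as d ≤ dim T + c. Varieties: integral, separated, of finite type
over the algebraically closed field K. (The published statement takes f to be a closed immersion,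
regular immersions being closed there; this row allows any immersion cut out, locally on Y where it
is closed, by a regular sequence of length c, the bound being local on Y. The published statement
also has a second part, for local complete intersection morphisms of a given relative dimension,
which this row does not state.) -/
theorem result (K : Type u) [Field K] [IsAlgClosed K] (X Y Z : Scheme.{u}) (gX : X ⟶ Spec (CommRingCat.of K)) (gY : Y ⟶ Spec (CommRingCat.of K)) [IsSeparated gX] [LocallyOfFiniteType gX] [QuasiCompact gX] [IsIntegral X] [IsSeparated gY] [LocallyOfFiniteType gY] [QuasiCompact gY] [IsIntegral Y] (f : X ⟶ Y) (hf : f ≫ gY = gX) (c : ℕ) (hreg : RegImm.IsRegularImmersionOfCodim RegImm.Kind.regular c f) (ι : Z ⟶ Y) [IsClosedImmersion ι] [IsIntegral Z] (d : ℕ) (hd : topologicalKrullDim Z = d) (T : Set ↥(pullback f ι)) (hT : T ∈ irreducibleComponents ↥(pullback f ι)) : ((d : ℕ) : WithBot ℕ∞) ≤ topologicalKrullDim ↥T + c := by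
  haveI := hreg.1
  haveI : LocallyOfFiniteType f := inferInstance
  haveI : LocallyOfFiniteType (pullback.snd f ι ≫ ι ≫ gY) := inferInstance
  obtain ⟨t, rfl, ht⟩ := FDescent.exists_maximal_of_mem_irreducibleComponents hT
  rw [VarDim.topologicalKrullDim_closure_singleton (pullback.snd f ι ≫ ι ≫ gY) t]
  have hd' := IntMultLib.deg_genericPoint_eq (ι ≫ gY) hd
  have h := IntMultLib.le_deg_add_of_regularImmersion f c hreg ι gY t ht (D := d) fun η hη => by
    rw [hη _ (genericPoint_specializes η) ] at hd'
    omega
  exact_mod_cast h

end Groth.Agent.S6473
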