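import Groth.Statements.S6494
import Groth.Agent.IntMultLib.FamilyFibre
import Groth.Agent.S6450

set_option linter.style.haveILetI false
set_option backward.isDefEq.respectTransparency.types false

set_option autoImplicit false
universe u
open CategoryTheory CategoryTheory.Limits AlgebraicGeometry
attribute [local instance] HasDerivedCategory.standard
open IntMult

namespace Groth.Agent.S6494

/-- Let X → P be a closed immersion of nonsingular varieties and C' ⊂ P × P^1 a closed subvariety of
dimension r + 1 with (1) the fibre C = C'_0 of dimension r (C' → P^1 dominant), (2) C' and X × P^1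
intersecting properly, (3) [C]_r and X intersecting properly. Then, with α = [C]_r · X and β = C' ·
(X × P^1), one has α = pr_{X,*}(β · (X × 0)). Stated on P × P^1: α = pr_*((C' · (X × P^1)) · (P ×
0)) as cycles on P. (The published statement takes the product of β with X × 0 on X × P^1 and pushes
it forward along X × P^1 → X; this row takes the product of C′ · (X × P^1) with P × 0 on P × P^1 and
pushes it forward along P × P^1 → P, which is the same cycle on P.) Encoding: P × P^1 =
CohB1.ProjSpaceOver 1 P with projection pr and zero section P1.sect P 0; dimension functions δP, δ'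
(transcendence degree); C'_0 is the pullback of C' along the zero section and [C]_r its r-cycle
(Cyc.subschemeFun); X × P^1 and P × 0 enter as the prime cycles of their generic points; products
are IntMult.interProd on P (dim N_P) and on P × P^1 (dim N_P + 1). Here P and X are nonsingular
varieties over the algebraically closed field K (smooth, separated, quasi-compact, integral), δP is
the dimension function on P (transcendence degree over K, recorded by Cyc.DeltaCompat to Spec K with
value 0, together with Cyc.IsSetup), N_P = δP of the generic point of P and n = δP of the generic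
point of X; proper intersection is IntMult.IntersectProperly / IntMult.ProperInt and products are
IntMult.interProd. -/
theorem result (K : Type u) [Field K] [IsAlgClosed K] (P : Scheme.{u}) (fP : P ⟶ Spec (CommRingCat.of K)) [Smooth fP] [IsSeparated fP] [QuasiCompact fP] [IsIntegral P] (δP : P → ℤ) (hP : Cyc.IsSetup P δP) (hδP : Cyc.DeltaCompat fP δP (fun _ => 0)) (NP : ℕ) (hNP : δP (genericPoint P) = NP) (δ' : ↥(CohB1.ProjSpaceOver 1 P) → ℤ) (hP' : Cyc.IsSetup (CohB1.ProjSpaceOver 1 P) δ') (hδ' : Cyc.DeltaCompat (CohB1.ProjSpaceOver.toBase 1 P) δ' δP) [QuasiCompact (CohB1.ProjSpaceOver.toBase 1 P)] (X : Scheme.{u}) (fX : X ⟶ Spec (CommRingCat.of K)) [Smooth fX] [IsSeparated fX] [QuasiCompact fX] [IsIntegral X] (ι : X ⟶ P) [IsClosedImmersion ι] (hι : ι ≫ fP = fX) (n : ℕ) (hn : δP (ι (genericPoint X)) = n) (ζX : ↥(CohB1.ProjSpaceOver 1 P)) (hζ1 : CohB1.ProjSpaceOver.toBase 1 P ζX = ι (genericPoint X)) (hζ2 : δ' ζX = n + 1) (C' : Scheme.{u}) [IsIntegral C'] (ι' : C' ⟶ CohB1.ProjSpaceOver 1 P)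 [IsClosedImmersion ι'] (r : ℕ) (hr : δ' (ι' (genericPoint C')) = r + 1) (hC0 : ∀ w : ↥(pullback ι' (P1.sect P 0)), δP (pullback.snd ι' (P1.sect P 0) w) ≤ r) (hC0ne : Nonempty ↥(pullback ι' (P1.sect P 0))) (h2 : IntMult.ProperInt (closure {ι' (genericPoint C')}) (⇑(CohB1.ProjSpaceOver.toBase 1 P) ⁻¹' Set.range ⇑ι) (NP + 1) (r + 1) (n + 1)) (h3 : IntMult.IntersectProperly δP NP (Cyc.subschemeFun δP r (pullback.snd ι' (P1.sect P 0))) (Set.indicator {ι (genericPoint X)} 1)) (B : AlgebraicCycle (CohB1.ProjSpaceOver 1 P) ℤ) (hB : ⇑B = IntMult.interProd δ' (NP + 1) (IntMult.interProd δ' (NP + 1) (Set.indicator {ι' (genericPoint C')} 1) (Set.indicator {ζX} 1)) (Set.indicator {P1.sect P 0 (genericPoint P)} 1)) : ⇑(AlgebraicCycle.map (CohB1.ProjSpaceOver.toBase 1 P) δ' δP B) = IntMult.interProd δP NP (Cyc.subschemeFun δP r (pullback.snd ι' (P1.sect P 0))) (Set.indicator {ι (genericPoint X)} 1) := by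
  classical
  let π := CohB1.ProjSpaceOver.toBase 1 P
  let s := P1.sect P 0
  let ξ := ι' (genericPoint C')
  let x0 := ι (genericPoint X)
  let D := s (genericPoint P)
  haveI := Groth.Agent.IntMultLib.smooth_p1Over P
  haveI : IsIntegral (CohB1.ProjSpaceOver 1 P) := Groth.Agent.IntMultLib.isIntegral_p1Over fP
  have hK : Cyc.DeltaCompat (π ≫ fP) δ' (fun _ => 0) := Groth.Agent.IntMultLib.deltaCompat_trans π fP hδ' hδP
  have hsect : ∀ y, δ' (s y) = δP y := fun y => Groth.Agent.H23.P1Fam.delta_sect hδ' 0 y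
  have hD : δ' D = NP := (hsect _).trans hNP
  have hgen : δ' (genericPoint ↥(CohB1.ProjSpaceOver 1 P)) = (NP : ℤ) + 1 := by
    obtain ⟨g, hg1, hg2, hg3⟩ := Groth.Agent.IntMultLib.exists_cylinder fP hδP hδ' (genericPoint P)
    have h : g = genericPoint ↥(CohB1.ProjSpaceOver 1 P) :=
      ((hg3 _ (genericPoint_specializes _)).fst.antisymm (genericPoint_specializes g)).eq
    rw [← h, hg2, hNP]
  -- the cylinder over the generic point of `X`
  obtain ⟨ζ, hζπ, hζδ, hcyl⟩ := Groth.Agent.IntMultLib.exists_cylinder fP hδP hδ' x0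
  obtain rfl : ζ = ζX := by
    refine Groth.Agent.IntMultLib.eq_of_specializes_of_delta_le (π ≫ fP) hK
      (hcyl ζX (specializes_of_eq hζ1.symm)).fst ?_
    rw [hζδ, hζ2, show δP x0 = n from hn]
  -- the fibre over zero
  have hwmem : ∀ x, ξ ⤳ s x → δP x ≤ r := fun x h => by
    obtain ⟨c, hc⟩ : s x ∈ Set.range ι' := h.mem_closed ι'.isClosedEmbedding.isClosed_range ⟨_, rfl⟩
    obtain ⟨w, -, hw⟩ := Scheme.Pullback.exists_preimage_pullback c x hc
    exact hw ▸ hC0 w
  have hnot : ξ ∉ Set.range s := by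
    rintro ⟨y, hy⟩
    have h1 := hwmem y (specializes_of_eq hy.symm)
    rw [← hsect y, hy] at h1
    have hξ : δ' ξ = (r : ℤ) + 1 := hr
    omega
  let F := IntMult.interProd δ' (NP + 1) (Set.indicator {ξ} 1) (Set.indicator {D} 1)
  let β := Cyc.subschemeFun δP r (pullback.snd ι' (P1.sect P 0))
  obtain ⟨hFs, hF0⟩ := Groth.Agent.IntMultLib.interProd_point_sect fP hδ' hNP (r : ℤ)
    (ξ := ξ) hr 0 hnot
  have hF : ∀ y, F (s y) = β y := fun y =>
    (hFs y).trans (Groth.Agent.IntMultLib.subschemeFun_fibre_congr hδ' (r : ℤ) ι' 0 y).symm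
  obtain ⟨hG, hG0⟩ := Groth.Agent.IntMultLib.interProd_sect_cylinder hδ' (NP : ℤ) 0 hζπ hζδ hcyl β F hF hF0
  -- the triple intersection
  have hx0 : ∀ {p}, ζ ⤳ p → x0 ⤳ π p := fun {p} h => by
    have := h.map π.continuous
    rwa [show π ζ = x0 from hζπ] at this
  have hmemD : ∀ {p}, D ⤳ p → ∃ x, s x = p := fun {p} h =>
    h.mem_closed s.isClosedEmbedding.isClosed_range ⟨_, rfl⟩
  have hζξ : IntMult.IntersectProperly δ' (NP + 1) (Set.indicator {ζ} 1) (Set.indicator {ξ} 1) := by
    intro a b z ha hb haz hbz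
    obtain rfl : a = ζ := by simpa using Set.mem_of_indicator_ne_zero ha
    obtain rfl : b = ξ := by simpa using Set.mem_of_indicator_ne_zero hb
    have := Groth.Agent.IntMultLib.delta_le_of_properInt (π ≫ fP) hK isClosed_closure
      (ι.isClosedEmbedding.isClosed_range.preimage π.continuous) h2 (z := z) (specializes_iff_mem_closure.1 hbz)
      ((hx0 haz).mem_closed ι.isClosedEmbedding.isClosed_range ⟨_, rfl⟩)
    push_cast at this
    rw [hζ2, show δ' ξ = (r : ℤ) + 1 from hr]
    omega
  have hξD : IntMult.IntersectProperly δ' (NP + 1) (Set.indicator {ξ} 1) (Set.indicator {D} 1) := by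
    intro a b z ha hb haz hbz
    obtain rfl : a = ξ := by simpa using Set.mem_of_indicator_ne_zero ha
    obtain rfl : b = D := by simpa using Set.mem_of_indicator_ne_zero hb
    obtain ⟨x, rfl⟩ := hmemD hbz
    have := hwmem x haz
    rw [show δ' ξ = (r : ℤ) + 1 from hr, hD, hsect]
    omega
  have hζD : IntMult.IntersectProperly δ' (NP + 1) (Set.indicator {ζ} 1) (Set.indicator {D} 1) := by
    intro a b z ha hb haz hbz
    obtain rfl : a = ζ := by simpa using Set.mem_of_indicator_ne_zero ha
    obtain rfl : b = D := by simpa using Set.mem_of_indicator_ne_zero hb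
    obtain ⟨x, rfl⟩ := hmemD hbz
    have h := hx0 haz
    rw [show π (s x) = x from Groth.Agent.IntMultLib.toBase_sect_apply 0 x] at h
    have h' := Groth.Agent.IntMultLib.delta_le_of_specializes fP hδP h
    rw [hζ2, hD, hsect]
    rw [show δP x0 = n from hn] at h'
    omega
  have htriple : ∀ z, ζ ⤳ z → ξ ⤳ z → D ⤳ z → δ' z ≤ δ' ζ + δ' ξ + δ' D - 2 * ((NP : ℤ) + 1) := by
    intro z hz1 hz2 hz3
    obtain ⟨x, rfl⟩ := hmemD hz3
    obtain ⟨w, hw, haw, hbw, hdw, hmax⟩ :=
      Groth.Agent.IntMultLib.exists_gen_expected (π ≫ fP) hK hgen hz2 hz3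
    obtain ⟨y, rfl⟩ := hmemD hbw
    have hy : y ⤳ x := s.isClosedEmbedding.isInducing.specializes_iff.1 hw
    have hyr := hwmem y haw
    rw [show δ' ξ = (r : ℤ) + 1 from hr, hD, hsect] at hdw
    have hpos := (Groth.Agent.IntMultLib.mult_pt_data (π ≫ fP) hK hgen haw hbw fun u h1 h2 h3 => hmax u h1 h2 h3).1
      (by rw [show δ' ξ = (r : ℤ) + 1 from hr, hD, hsect]; omega)
    have hne : β y ≠ 0 := by
      rw [← hF y]
      show IntMult.interProd δ' _ _ _ (s y) ≠ 0
      rw [Groth.Agent.IntMultLib.interProd_indicator,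
        if_pos ⟨haw, hbw, by rw [show δ' ξ = (r : ℤ) + 1 from hr, hD, hsect]; omega⟩]
      exact hpos.ne'
    have hx : x0 ⤳ x := by
      have h := hx0 hz1
      rwa [show π (s x) = x from Groth.Agent.IntMultLib.toBase_sect_apply 0 x] at h
    have := h3 y x0 x hne (by simp [x0]) hy hx
    rw [show δP x0 = n from hn] at this
    rw [hζ2, show δ' ξ = (r : ℤ) + 1 from hr, hD, hsect]
    omega
  have hBG : ⇑B = IntMult.interProd δ' (NP + 1) F (Set.indicator {ζ} 1) := by
    rw [hB, Groth.Agent.IntMultLib.interProd_comm δ' _ F,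
      Groth.Agent.IntMultLib.interProd_comm δ' _ (Set.indicator {ξ} 1) (Set.indicator {ζ} 1)]
    exact (Groth.Agent.S6450.result K (CohB1.ProjSpaceOver 1 P) (π ≫ fP) δ' hP' hK (NP + 1) hgen ζ ξ D
      hζξ hξD hζD htriple).symm
  funext x
  rw [Groth.Agent.CycLib.map_apply']
  exact ((finsum_mem_congr rfl fun p _ => by rw [congrFun hBG p]).trans
    (Groth.Agent.IntMultLib.finsum_fibre_sect hδ' 0 _ hG0 x)).trans (hG x)

end Groth.Agent.S6494
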