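import Groth.Statements.S6500
import Groth.Agent.S14414
import Groth.Agent.RegLoc6.Serre
import Groth.Agent.QCoh.Stalk
import Groth.Agent.IntMultLib.Deg

set_option autoImplicit false
universe u
open CategoryTheory CategoryTheory.Limits AlgebraicGeometry
attribute [local instance] HasDerivedCategory.standard
open IntMult

namespace Groth.Agent.S6500

/-- Let X be a nonsingular variety of dimension n and F, G coherent O_X-modules. The Tor sheaves
Tor_p^{O_X}(F, G), whose stalks are Tor_p^{O_{X,x}}(F_x, G_x), are nonzero only for p ∈ {0, …, n}: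
for every point x and every p > n, Tor_p^{O_{X,x}}(F_x, G_x) = 0. (Coherence of the Tor sheaves and
the support statement are not restated.) Nonsingular variety: X → Spec K smooth, separated,
quasi-compact, X integral, K algebraically closed; n = dim X. -/
theorem result (K : Type u) [Field K] [IsAlgClosed K] (X : Scheme.{u}) (f : X ⟶ Spec (CommRingCat.of K)) [Smooth f] [IsSeparated f] [QuasiCompact f] [IsIntegral X] (n : ℕ) (hn : topologicalKrullDim X = n) (F G : X.Modules) (hF : Coh.IsCoh F) (hG : Coh.IsCoh G) (x : X) (p : ℕ) (hp : n < p) : Subsingleton (DRing.Tor ↑(X.presheaf.stalk x) p ↑(F.presheaf.stalk x) ↑(G.presheaf.stalk x)) := by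
  haveI := IntMultLib.isRegularLocalRing_stalk f x
  haveI := QCoh.finite_stalk_of_isFT hG.1 hG.2 x
  obtain ⟨b, hb, hbn⟩ := IntMultLib.exists_dim_stalk_of_isIntegral f x
  rw [IntMultLib.deg_genericPoint_eq f hn] at hbn
  have hspan : (IsLocalRing.maximalIdeal (X.presheaf.stalk x)).spanFinrank = b := by
    have := IsRegularLocalRing.spanFinrank_maximalIdeal (R := X.presheaf.stalk x)
    rw [hb] at this
    exact_mod_cast this
  have hpd : RegLoc6.PdLE (X.presheaf.stalk x) b (G.presheaf.stalk x) :=
    hspan ▸ RegLoc6.pdLE_of_isRegularLocalRing _ _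
  haveI : HasProjectiveDimensionLE (ModuleCat.of (X.presheaf.stalk x) (G.presheaf.stalk x)) b := hpd
  exact ModuleCat.subsingleton_of_isZero (S14414.result _ _ _ b p (by omega))

end Groth.Agent.S6500
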