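import Groth.Statements.S6553
import Groth.Agent.NodeAlg15.Geom

set_option autoImplicit false
set_option backward.isDefEq.respectTransparency false
set_option backward.isDefEq.respectTransparency.types false
universe u
open CategoryTheory CategoryTheory.Limits AlgebraicGeometry
open Curves

namespace Groth.Agent.S6553

/-- Let k'/k be a finite separable extension of fields, X a scheme locally of finite type over k' of
dimension 1, and x ∈ X a closed point. Then x is a node of the k'-scheme X if and only if x is a
node of X viewed as a k-scheme via Spec k' → Spec k. -/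
theorem result (k : Type u) [Field k] (k' : Type u) [Field k'] [Algebra k k']
    [FiniteDimensional k k'] [Algebra.IsSeparable k k']
    (X : Scheme.{u}) [X.Over (Spec (CommRingCat.of k'))] [LocallyOfFiniteType (X ↘ (Spec (CommRingCat.of k')))] (hdim : topologicalKrullDim X = 1)
    (x : X) (hx : IsClosed ({x} : Set X)) :
    Curv2.IsNode k' X x ↔
      @Curv2.IsNode k _ X ⟨(X ↘ (Spec (CommRingCat.of k'))) ≫ Spec.map (CommRingCat.ofHom (algebraMap k k'))⟩ x := by
  haveI : IsFinite (Spec.map (CommRingCat.ofHom (algebraMap k k'))) :=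
    (IsFinite.SpecMap_iff _).2 (RingHom.finite_algebraMap.2 inferInstance)
  have hbase := Groth.Agent.CStk17.SchPt.sMap_base (algebraMap k k') (X ↘ Spec (CommRingCat.of k')) x
  letI : X.Over (Spec (CommRingCat.of k)) :=
    ⟨(X ↘ Spec (CommRingCat.of k')) ≫ Spec.map (CommRingCat.ofHom (algebraMap k k'))⟩
  haveI : LocallyOfFiniteType (X ↘ Spec (CommRingCat.of k)) := inferInstanceAs <|
    LocallyOfFiniteType ((X ↘ Spec (CommRingCat.of k')) ≫ Spec.map (CommRingCat.ofHom (algebraMap k k')))
  show _ ↔ Curv2.IsNode k X x
  rw [Groth.Agent.NodeAlg15.Geom.isNode_iff (k := k'), Groth.Agent.NodeAlg15.Geom.isNode_iff (k := k)]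
  letI := Curv2.stalkAlgebra k X x
  letI := Curv2.stalkAlgebra k' X x
  haveI : IsScalarTower k k' (X.presheaf.stalk x) := IsScalarTower.of_algebraMap_eq' hbase
  haveI : IsScalarTower k k' (IsLocalRing.ResidueField (X.presheaf.stalk x)) :=
    IsScalarTower.of_algebraMap_eq fun t => congrArg (IsLocalRing.residue _) (RingHom.congr_fun hbase t)
  refine and_congr_right fun _ => and_congr_left fun _ => ⟨fun h => ?_, fun h => ?_⟩
  · haveI := h
    exact Algebra.IsSeparable.trans k k' (IsLocalRing.ResidueField (X.presheaf.stalk x))
  · haveI := h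
    exact Algebra.isSeparable_tower_top_of_isSeparable k k' (IsLocalRing.ResidueField (X.presheaf.stalk x))

end Groth.Agent.S6553
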