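import Groth.Statements.S6587
import Groth.Agent.Der55.TriBasics

set_option autoImplicit false
universe v u
open CategoryTheory CategoryTheory.Limits Opposite
open CohDer

namespace Groth.Agent.S6587

open CategoryTheory.Pretriangulated in
/-- Let D be a triangulated category and let X_n → Y_n → Z_n → X_n⟦1⟧ be an inverse system of
distinguished triangles of D indexed by ℕ (levelwise maps f, g, h of inverse systems, each level
distinguished). If the inverse system (Z_n) is pro-zero, then the levelwise map f : (X_n) → (Y_n) is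
a pro-isomorphism. -/
theorem result {D : Type u} [Category.{v} D] [Preadditive D] [HasZeroObject D] [HasShift D ℤ]
    [∀ n : ℤ, (shiftFunctor D n).Additive] [Pretriangulated D] [IsTriangulated D]
    (X Y Z : ARSys.PS D) (f : X ⟶ Y) (g : Y ⟶ Z) (h : Z ⟶ X ⋙ shiftFunctor D (1 : ℤ))
    (hT : ∀ n : ℕ, Triangle.mk (f.app (op n)) (g.app (op n)) (h.app (op n)) ∈ distinguishedTriangles)
    (hZ : DerCA.IsProZero Z) :
    DerCA.IsProIso f := by
  intro n
  obtain ⟨k, hk, hk0⟩ := hZ n
  obtain ⟨m, hm, hm0⟩ := hZ k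
  have hc : ∃ c : Y.obj (op k) ⟶ X.obj (op n), f.app (op k) ≫ c = ARSys.tr X hk := by
    have hh : h.app (op k) ≫ (shiftFunctor D (1 : ℤ)).map (ARSys.tr X hk) = 0 :=
      (h.naturality (homOfLE hk).op).symm.trans (by
        change ARSys.tr Z hk ≫ _ = 0
        rw [hk0, zero_comp])
    exact Groth.Agent.Der55.exists_factor_mor₁ (hT k) (ARSys.tr X hk) hh
  have hb : ∃ b : Y.obj (op m) ⟶ X.obj (op k), b ≫ f.app (op k) = ARSys.tr Y hm := by
    obtain ⟨b, hb⟩ := Triangle.coyoneda_exact₂ _ (hT k) (ARSys.tr Y hm)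
      ((g.naturality (homOfLE hm).op).trans (by
        change _ ≫ ARSys.tr Z hm = 0
        rw [hm0, comp_zero]))
    exact ⟨b, hb.symm⟩
  obtain ⟨c, hc⟩ := hc
  obtain ⟨b, hb⟩ := hb
  have hX : ARSys.tr X (hk.trans hm) = ARSys.tr X hm ≫ ARSys.tr X hk := by
    simp only [ARSys.tr, ← Functor.map_comp]; rfl
  have hY : ARSys.tr Y (hk.trans hm) = ARSys.tr Y hm ≫ ARSys.tr Y hk := by
    simp only [ARSys.tr, ← Functor.map_comp]; rfl
  refine ⟨m, hk.trans hm, b ≫ ARSys.tr X hk, ?_, ?_⟩
  · have h1 : f.app (op m) ≫ ARSys.tr Y hm = ARSys.tr X hm ≫ f.app (op k) :=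
      (f.naturality (homOfLE hm).op).symm
    rw [hX]
    conv_lhs => rw [← hc, reassoc_of% hb, reassoc_of% h1, hc]
  · have h1 : ARSys.tr X hk ≫ f.app (op n) = f.app (op k) ≫ ARSys.tr Y hk :=
      f.naturality (homOfLE hk).op
    rw [hY, Category.assoc, h1, reassoc_of% hb]

end Groth.Agent.S6587
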