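import Groth.Statements.S6616
import Groth.Agent.Der55.SpecialSystem

set_option autoImplicit false
universe v u
open CategoryTheory CategoryTheory.Limits
open CohDer

namespace Groth.Agent.S6616

/-- Let I be a class of objects of an abelian category, closed under isomorphisms, containing 0, closed
under binary products, and such that every object is a subobject of an object of I. For any cochain
complex K there are bounded below complexes Iₙ (n ≥ 0) with terms in I, termwise injective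
quasi-isomorphisms πₙ : τ_{≥ -n}K ⟶ Iₙ and termwise split surjections pₙ : Iₙ₊₁ ⟶ Iₙ with termwise
kernels in I, such that K ⟶ τ_{≥ -(n+1)}K ⟶ Iₙ₊₁ ⟶ Iₙ equals K ⟶ τ_{≥ -n}K ⟶ Iₙ. (The published
system starts at τ_{≥ -1}K; this row starts at n = 0 with τ_{≥ 0}K. Closure of I under isomorphisms
is assumed so that closure under binary products has a meaning for a class of objects.) -/
theorem result {A : Type u} [Category.{v} A] [Abelian A] (I : ObjectProperty A) [I.IsClosedUnderIsomorphisms]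
    (hI0 : ∃ Z : A, IsZero Z ∧ I Z) (hIprod : ∀ X Y : A, I X → I Y → I (X ⊞ Y))
    (hI : ∀ X : A, ∃ (Y : A) (ι : X ⟶ Y), I Y ∧ Mono ι) (K : CochainComplex A ℤ) :
    ∃ (Q : ℕ → CochainComplex A ℤ) (p : ∀ n, Q (n + 1) ⟶ Q n) (π : ∀ n : ℕ, K.truncGE (-(n : ℤ)) ⟶ Q n),
      (∀ n, QuasiIso (π n) ∧ ∀ i, Mono ((π n).f i)) ∧
      (∀ n, ∃ a : ℤ, (Q n).IsStrictlyGE a) ∧ (∀ n i, I ((Q n).X i)) ∧
      (∀ n i, (∃ s : (Q n).X i ⟶ (Q (n + 1)).X i, s ≫ (p n).f i = 𝟙 _) ∧ I (kernel ((p n).f i))) ∧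
      (∀ n : ℕ, K.πTruncGE (-((n + 1 : ℕ) : ℤ)) ≫ π (n + 1) ≫ p n = K.πTruncGE (-(n : ℤ)) ≫ π n) := by
  obtain ⟨J, e, hJ0, hJ, he, hqe⟩ := Groth.Agent.TriCat.exists_quasiIso_resolution I hI0 hI
    (K.truncGE (-((0 : ℕ) : ℤ))) (-((0 : ℕ) : ℤ))
  let Good : ℕ → Type (max u v) := fun n =>
    { q : Σ Q : CochainComplex A ℤ, (K.truncGE (-(n : ℤ)) ⟶ Q) //
      QuasiIso q.2 ∧ (∀ i, Mono (q.2.f i)) ∧ (∃ a : ℤ, q.1.IsStrictlyGE a) ∧ ∀ i, I (q.1.X i) }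
  have step : ∀ (n : ℕ) (q : Good n), ∃ (q' : Good (n + 1)) (p : q'.1.1 ⟶ q.1.1),
      (∀ i, (∃ s : q.1.1.X i ⟶ q'.1.1.X i, s ≫ p.f i = 𝟙 _) ∧ I (kernel (p.f i))) ∧
      K.πTruncGE (-((n + 1 : ℕ) : ℤ)) ≫ q'.1.2 ≫ p = K.πTruncGE (-(n : ℤ)) ≫ q.1.2 := by
    intro n q
    obtain ⟨b, hb⟩ := q.2.2.2.1
    have : (K.truncGE (-(n : ℤ))).IsStrictlyGE (-((n + 1 : ℕ) : ℤ)) :=
      CochainComplex.isStrictlyGE_of_ge _ _ (-(n : ℤ)) (by omega)
    let r : K.truncGE (-((n + 1 : ℕ) : ℤ)) ⟶ K.truncGE (-(n : ℤ)) :=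
      CochainComplex.truncGEMap (K.πTruncGE (-(n : ℤ))) (-((n + 1 : ℕ) : ℤ)) ≫
        inv ((K.truncGE (-(n : ℤ))).πTruncGE (-((n + 1 : ℕ) : ℤ)))
    have hr : K.πTruncGE (-((n + 1 : ℕ) : ℤ)) ≫ r = K.πTruncGE (-(n : ℤ)) := by
      rw [← Category.assoc, IsIso.comp_inv_eq]
      exact CochainComplex.πTruncGE_naturality _ _
    obtain ⟨s⟩ := Groth.Agent.Der55.exists_rightStep I hI0 hIprod hI (r ≫ q.1.2)
      (-((n + 1 : ℕ) : ℤ)) b q.2.2.2.2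
    exact ⟨⟨⟨s.obj, s.π⟩, s.qis, s.mono, s.bdd, s.mem⟩, s.p, s.split,
      by dsimp only; rw [s.fac, ← Category.assoc, hr]⟩
  choose next p hp hfac using step
  let q : ∀ n, Good n := fun n => Nat.rec (motive := Good)
    ⟨⟨J, e⟩, hqe, he, ⟨_, hJ0⟩, hJ⟩ next n
  exact ⟨fun n => (q n).1.1, fun n => p n (q n), fun n => (q n).1.2,
    fun n => ⟨(q n).2.1, (q n).2.2.1⟩, fun n => (q n).2.2.2.1, fun n => (q n).2.2.2.2,
    fun n => hp n (q n), fun n => hfac n (q n)⟩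

end Groth.Agent.S6616
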