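import Groth.Statements.S6617
import Groth.Agent.Der55.TermSplit

set_option autoImplicit false
universe v u
open CategoryTheory CategoryTheory.Limits
open CohDer

namespace Groth.Agent.S6617

/-- Let A be an additive category and A₀ → A₁ → A₂ → … a sequence of composable morphisms of complexes.
There are complexes Bᵢ, homotopy equivalences Bᵢ ⟶ Aᵢ and termwise split injections Bᵢ ⟶ Bᵢ₊₁
forming a commutative ladder over the given sequence. Moreover if all Aᵢ are bounded below, resp.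
bounded above, then the Bᵢ may be chosen bounded below, resp. bounded above. (The published
statement is for finite sequences A₁ → … → A_n; this row takes a sequence indexed by ℕ, built by the
same step-by-step construction.) -/
theorem result {V : Type u} [Category.{v} V] [Preadditive V] [HasBinaryBiproducts V] [HasZeroObject V]
    (X : ℕ → CochainComplex V ℤ) (a : ∀ i, X i ⟶ X (i + 1)) :
    ∃ (B : ℕ → CochainComplex V ℤ) (b : ∀ i, B i ⟶ B (i + 1)) (e : ∀ i, HomotopyEquiv (B i) (X i)),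
      (∀ i, b i ≫ (e (i + 1)).hom = (e i).hom ≫ a i) ∧
      (∀ (i : ℕ) (n : ℤ), ∃ (C : V) (ε : (B (i + 1)).X n ≅ (B i).X n ⊞ C), (b i).f n ≫ ε.hom = biprod.inl) ∧
      ((∀ i, ∃ m : ℤ, (X i).IsStrictlyGE m) → ∀ i, ∃ m : ℤ, (B i).IsStrictlyGE m) ∧
      ((∀ i, ∃ m : ℤ, (X i).IsStrictlyLE m) → ∀ i, ∃ m : ℤ, (B i).IsStrictlyLE m) := by
  have step : ∀ (i : ℕ) (p : Σ B : CochainComplex V ℤ, HomotopyEquiv B (X i)),
      ∃ (q : Σ B : CochainComplex V ℤ, HomotopyEquiv B (X (i + 1))) (f : p.1 ⟶ q.1),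
        f ≫ q.2.hom = p.2.hom ≫ a i ∧
        (∀ n : ℤ, ∃ (C : V) (ε : q.1.X n ≅ p.1.X n ⊞ C), f.f n ≫ ε.hom = biprod.inl) ∧
        ((∃ m : ℤ, p.1.IsStrictlyGE m) → (∃ m : ℤ, (X (i + 1)).IsStrictlyGE m) →
          ∃ m : ℤ, q.1.IsStrictlyGE m) ∧
        ((∃ m : ℤ, p.1.IsStrictlyLE m) → (∃ m : ℤ, (X (i + 1)).IsStrictlyLE m) →
          ∃ m : ℤ, q.1.IsStrictlyLE m) := by
    intro i p
    obtain ⟨L', α', π, s, h₁, h₂, ⟨h₃⟩, h₄⟩ :=
      Groth.Agent.Der55.exists_split_injective_factorization (p.2.hom ≫ a i)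
    refine ⟨⟨L', ⟨π, s, h₃, Homotopy.ofEq h₂⟩⟩, α', h₁,
      fun n => ⟨_, (h₄ n).some.1, (h₄ n).some.2⟩, ?_, ?_⟩
    · rintro ⟨m, hm⟩ ⟨m', hm'⟩
      refine ⟨min m m' - 1,
        Groth.Agent.Der55.isStrictlyGE_of_split _ _ (fun n => (h₄ n).some.1) _ ?_ ?_⟩
      · intro n hn
        exact p.1.isZero_of_isStrictlyGE m n (by omega)
      · intro n hn
        exact (biprod_isZero_iff _ _).2 ⟨(X (i + 1)).isZero_of_isStrictlyGE m' n (by omega),
          p.1.isZero_of_isStrictlyGE m (n + 1) (by omega)⟩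
    · rintro ⟨m, hm⟩ ⟨m', hm'⟩
      refine ⟨max m m',
        Groth.Agent.Der55.isStrictlyLE_of_split _ _ (fun n => (h₄ n).some.1) _ ?_ ?_⟩
      · intro n hn
        exact p.1.isZero_of_isStrictlyLE m n (by omega)
      · intro n hn
        exact (biprod_isZero_iff _ _).2 ⟨(X (i + 1)).isZero_of_isStrictlyLE m' n (by omega),
          p.1.isZero_of_isStrictlyLE m (n + 1) (by omega)⟩
  choose q f hf hs hge hle using step
  let p : ∀ i, Σ B : CochainComplex V ℤ, HomotopyEquiv B (X i) :=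
    fun i => Nat.rec (motive := fun i => Σ B : CochainComplex V ℤ, HomotopyEquiv B (X i))
      ⟨X 0, HomotopyEquiv.refl _⟩ (fun i p => q i p) i
  refine ⟨fun i => (p i).1, fun i => f i (p i), fun i => (p i).2, fun i => hf i (p i),
    fun i n => hs i (p i) n, ?_, ?_⟩
  · intro h i
    induction i with
    | zero => exact h 0
    | succ i ih => exact hge i (p i) ih (h (i + 1))
  · intro h i
    induction i with
    | zero => exact h 0
    | succ i ih => exact hle i (p i) ih (h (i + 1))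

end Groth.Agent.S6617
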