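import Groth.Statements.S6643
import Groth.Agent.EtModLC71.Tensor

set_option autoImplicit false
open CategoryTheory CategoryTheory.Limits AlgebraicGeometry Opposite
universe u
open EtModW

namespace Groth.Agent.S6643

/-- On the small etale site of a scheme X, the tensor product over Λ of two finite type locally constant
sheaves of Λ-modules is finite type locally constant. (The published statement covers all locally
constant sheaves of Λ-modules; this row treats the finite type ones.) -/
theorem result (Λ : Type (u + 1)) [CommRing Λ] {X : Scheme.{u}} (F G : EtModW.Mod Λ X)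
    (hF : EtModW.IsFTLocConst Λ F) (hG : EtModW.IsFTLocConst Λ G) :
    EtModW.IsFTLocConst Λ (((EtModD.tensorBi Λ X).obj F).obj G) := by
  refine EtModLC71.isFTLocConst_of_constBy fun x => ?_
  obtain ⟨Ω, _, _, ξ, hξ⟩ := EtModLC71.exists_point x
  obtain ⟨U, u, M, hM, a, N, hN, b, ha, hb⟩ := EtModLC71.exists_common hF hG ξ
  refine ⟨U, _, _, ?_, _, (EtFound.base_of_point u).trans hξ, EtModLC71.constBy_tensorFam ha hb⟩
  exact Module.Finite.tensorProduct Λ M N

end Groth.Agent.S6643
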