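import Groth.Statements.S6655
import Groth.Agent.EtModLC71.Basic

set_option autoImplicit false
open CategoryTheory CategoryTheory.Limits AlgebraicGeometry Opposite
universe u
open EtModW

namespace Groth.Agent.S6655

/-- Part (3): with both sheaves of finite type: let Λ be a commutative ring and φ : F ⟶ G a map of
finite type locally constant sheaves of Λ-modules on the small etale site of a scheme X. Then on the
members of some etale covering of X the restriction of φ is, up to isomorphisms with constant
sheaves on both sides, the map of constant sheaves induced by a Λ-linear map. (The published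
statement allows G to be any locally constant sheaf of Λ-modules; this row assumes G of finite type
as well.) -/
theorem result (Λ : Type (u + 1)) [CommRing Λ] {X : Scheme.{u}} (F G : EtModW.Mod Λ X)
    (φ : F ⟶ G) (hF : EtModW.IsFTLocConst Λ F) (hG : EtModW.IsFTLocConst Λ G) :
    ∃ (ι : Type u) (U : ι → X.Etale), EtCoh.Covers U ∧ ∀ i, ∃ (M N : Type (u + 1)) (_ : AddCommGroup M) (_ : AddCommGroup N)
      (_ : Module Λ M) (_ : Module Λ N) (h : M →ₗ[Λ] N)
      (α : EtModW.restr Λ F (U i) ≅ (constantSheaf (X.smallEtaleTopology.over (U i)) (ModuleCat.{u + 1} Λ)).obj (ModuleCat.of Λ M))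
      (β : EtModW.restr Λ G (U i) ≅ (constantSheaf (X.smallEtaleTopology.over (U i)) (ModuleCat.{u + 1} Λ)).obj (ModuleCat.of Λ N)),
      (X.smallEtaleTopology.overPullback (ModuleCat.{u + 1} Λ) (U i)).map φ ≫ β.hom =
        α.hom ≫ (constantSheaf (X.smallEtaleTopology.over (U i)) (ModuleCat.{u + 1} Λ)).map (ModuleCat.ofHom h) := by
  have key : ∀ x : X, ∃ (W : X.Etale) (p : W.left), W.hom.base p = x ∧ ∃ (M N : ModuleCat.{u + 1} Λ)
      (φ' : M ⟶ F.obj.obj (op W)) (ψ' : N ⟶ G.obj.obj (op W)) (h : M ⟶ N),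
      EtFound.ConstBy F φ' ∧ EtFound.ConstBy G ψ' ∧ φ' ≫ φ.hom.app (op W) = h ≫ ψ' := by
    intro x
    obtain ⟨Ω, _, _, ξ, hξ⟩ := EtModLC71.exists_point x
    obtain ⟨U, u, M, hM, a, N, hN, b, ha, hb⟩ := EtModLC71.exists_common hF hG ξ
    obtain ⟨V, g, v, h, e⟩ := EtModLC71.exists_linearMap φ ξ u (φ := a) hb
    exact ⟨V, _, (EtFound.base_of_point v).trans hξ, M, N, _, _, h, ha.restrict g, hb.restrict g, e⟩
  choose W p hp M N a b h ha hb he using key
  refine ⟨X, W, fun x => ⟨x, p x, hp x⟩, fun x => ?_⟩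
  have := EtFound.isIso_constMap (ha x)
  have := EtFound.isIso_constMap (hb x)
  refine ⟨M x, N x, inferInstance, inferInstance, inferInstance, inferInstance, (h x).hom,
    (asIso (EtFound.constMap (a x))).symm, (asIso (EtFound.constMap (b x))).symm, ?_⟩
  rw [Iso.symm_hom, Iso.symm_hom, asIso_inv, asIso_inv, IsIso.eq_inv_comp, ← Category.assoc, IsIso.comp_inv_eq]
  exact EtFound.constMap_natural φ (h x) (he x)

end Groth.Agent.S6655
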