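import Groth.Statements.S6699
import Groth.Agent.EtShriekMod.CoverQcqs

set_option autoImplicit false
set_option backward.isDefEq.respectTransparency.types false
universe u
open CategoryTheory CategoryTheory.Limits AlgebraicGeometry Opposite
attribute [local instance] HasDerivedCategory.standard
open EtModD

namespace Groth.Agent.S6699

/-- Let X be a quasi-compact and quasi-separated scheme, Λ a Noetherian ring, K an object of D(X_et, Λ)
and b an integer such that the b-th cohomology sheaf of K is a constructible sheaf of Λ-modules.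
Then there exist finitely many affine schemes U_k with etale morphisms j_k : U_k → X and a morphism
φ : F[-b] → K in D(X_et, Λ), where F is the direct sum of the sheaves j_{k!} Λ (extension by zero of
the constant sheaf Λ on U_k) placed in degree b, such that the map induced by φ on b-th cohomology
sheaves is an epimorphism F → H^b(K). (Continuity of the functors V ↦ (V → U_k → X) between small
etale sites, true for every etale morphism, appears as an instance binder in front of the
extension-by-zero terms.) -/
theorem result (Λ : Type (u + 1)) [CommRing Λ] [IsNoetherianRing Λ] (X : Scheme.{u})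
    [CompactSpace X] [QuasiSeparatedSpace X] (K : EtModD.D Λ X) (b : ℤ)
    (hK : EtModW.IsConstructible Λ (EtModD.HD K b)) :
    ∃ (m : ℕ) (U : Fin m → Scheme.{u}) (j : ∀ k, U k ⟶ X) (_ : ∀ k, Etale (j k)) (_ : ∀ k, IsAffine (U k)),
      ∀ [∀ k, EtShriek.JCont (j k)],
        ∃ φ : (DerivedCategory.singleFunctor (EtModW.Mod Λ X) b).obj
              (∐ fun k => (EtSix.extZeroMod Λ (j k)).obj (EtSix.constΛ Λ (U k))) ⟶ K,
          Epi ((DerivedCategory.homologyFunctor (EtModW.Mod Λ X) b).map φ) := by
  let Qf : CochainComplex (EtModW.Mod Λ X) ℤ ⥤ EtModD.D Λ X := DerivedCategory.Q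
  let C : CochainComplex (EtModW.Mod Λ X) ℤ := Qf.objPreimage K
  let eC : Qf.obj C ≅ K := Qf.objObjPreimageIso K
  let eH : EtModD.HD K b ≅ C.homology b :=
    ((DerivedCategory.homologyFunctor (EtModW.Mod Λ X) b).mapIso eC).symm ≪≫
      (DerivedCategory.homologyFunctorFactors (EtModW.Mod Λ X) b).app C
  obtain ⟨m, U, j, hj, hU, hw⟩ := EtShriekMod.exists_cover_qcqs (C.homologyπ b) (EtModLC71.isConstructible_of_iso eH hK)
  refine ⟨m, U, j, hj, hU, ?_⟩
  intro hJ
  obtain ⟨w, hwe⟩ := hw
  let F := ∐ fun k => (EtSix.extZeroMod Λ (j k)).obj (EtSix.constΛ Λ (U k))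
  let f : (HomologicalComplex.single (EtModW.Mod Λ X) (ComplexShape.up ℤ) b).obj F ⟶ C :=
    HomologicalComplex.mkHomFromSingle (w ≫ C.iCycles b) (fun k _ => by simp)
  have hf : Epi (HomologicalComplex.homologyMap f b) := by
    have hc : HomologicalComplex.cyclesMap f b =
        (HomologicalComplex.singleObjCyclesSelfIso (ComplexShape.up ℤ) b F).hom ≫ w := by
      rw [← cancel_mono (C.iCycles b)]
      simp [f, HomologicalComplex.singleObjCyclesSelfIso_hom]
    have h2 : Epi (((HomologicalComplex.single _ _ b).obj F).homologyπ b ≫ HomologicalComplex.homologyMap f b) := by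
      rw [HomologicalComplex.homologyπ_naturality, hc, Category.assoc]
      infer_instance
    exact epi_of_epi (((HomologicalComplex.single _ _ b).obj F).homologyπ b) _
  refine ⟨(DerivedCategory.singleFunctorIsoCompQ _ b).hom.app F ≫ Qf.map f ≫ eC.hom, ?_⟩
  have h3 : Epi ((DerivedCategory.homologyFunctor (EtModW.Mod Λ X) b).map (Qf.map f)) := by
    have h := (DerivedCategory.homologyFunctorFactors (EtModW.Mod Λ X) b).hom.naturality f
    have : Epi ((DerivedCategory.homologyFunctor (EtModW.Mod Λ X) b).map (Qf.map f) ≫
        (DerivedCategory.homologyFunctorFactors (EtModW.Mod Λ X) b).hom.app C) := by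
      rw [show (DerivedCategory.homologyFunctor (EtModW.Mod Λ X) b).map (Qf.map f) ≫ _ = _ from h]
      have : Epi ((HomologicalComplex.homologyFunctor _ _ b).map f) := hf
      exact epi_comp _ _
    exact (CategoryTheory.MorphismProperty.cancel_right_of_respectsIso
      (CategoryTheory.MorphismProperty.epimorphisms _) _ _).1 this
  rw [Functor.map_comp, Functor.map_comp]
  have h4 : Epi ((DerivedCategory.homologyFunctor (EtModW.Mod Λ X) b).map eC.hom) :=
    inferInstanceAs (Epi ((DerivedCategory.homologyFunctor (EtModW.Mod Λ X) b).mapIso eC).hom)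
  have h5 : Epi ((DerivedCategory.homologyFunctor (EtModW.Mod Λ X) b).map
      ((DerivedCategory.singleFunctorIsoCompQ (EtModW.Mod Λ X) b).hom.app F)) :=
    inferInstanceAs (Epi ((DerivedCategory.homologyFunctor (EtModW.Mod Λ X) b).mapIso
      ((DerivedCategory.singleFunctorIsoCompQ (EtModW.Mod Λ X) b).app F)).hom)
  exact @epi_comp _ _ _ _ _ _ h5 _ (@epi_comp _ _ _ _ _ _ h3 _ h4)

end Groth.Agent.S6699
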