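import Groth.Statements.S6700
import Groth.Agent.EtShriekMod.CoverQcqs
import Groth.Agent.EtShriekMod.ExtZeroConstr
import Groth.Agent.EtModLC71.ConstrSerre
import Groth.Agent.EtFound.JContGen
import Groth.Agent.SGA4hExtZ.LeftRes

set_option autoImplicit false
set_option backward.isDefEq.respectTransparency.types false
universe u
open CategoryTheory CategoryTheory.Limits AlgebraicGeometry Opposite
attribute [local instance] HasDerivedCategory.standard
open EtModD

namespace Groth.Agent.S6700

open EtModLC71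

variable {Λ : Type (u + 1)} [CommRing Λ] {X : Scheme.{u}}

/-- being isomorphic to a finite sum of `j_! Λ` with `U` affine -/
def IsSum (A : EtModW.Mod Λ X) : Prop :=
  ∃ (m : ℕ) (U : Fin m → Scheme.{u}) (j : ∀ k, U k ⟶ X) (_ : ∀ k, Etale (j k))
    (_ : ∀ k, IsAffine (U k)),
    ∀ [∀ k, EtShriek.JCont (j k)],
      Nonempty (A ≅ ∐ fun k => (EtSix.extZeroMod Λ (j k)).obj (EtSix.constΛ Λ (U k)))

theorem isSum_of_isZero {A : EtModW.Mod Λ X} (h : IsZero A) : IsSum A := by
  refine ⟨0, Fin.elim0, fun k => Fin.elim0 k, fun k => Fin.elim0 k, fun k => Fin.elim0 k, fun {_} => ⟨h.iso ?_⟩⟩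
  exact (IsZero.iff_id_eq_zero _).2 (Sigma.hom_ext _ _ fun k => Fin.elim0 k)

theorem isSum_of_fintype {A : EtModW.Mod Λ X} {κ : Type} [Fintype κ] (U : κ → Scheme.{u})
    (j : ∀ k, U k ⟶ X) (hj : ∀ k, Etale (j k)) (hU : ∀ k, IsAffine (U k))
    (h : ∀ [∀ k, EtShriek.JCont (j k)],
      Nonempty (A ≅ ∐ fun k => (EtSix.extZeroMod Λ (j k)).obj (EtSix.constΛ Λ (U k)))) : IsSum A := by
  let ν := (Fintype.equivFin κ).symm
  refine ⟨Fintype.card κ, fun k => U (ν k), fun k => j (ν k), fun k => hj _, fun k => hU _, fun {hJ} => ?_⟩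
  have := fun k => EtFound.jCont (j k)
  exact ⟨(@h this).some ≪≫
    (Sigma.reindex ν fun k => (EtSix.extZeroMod Λ (j k)).obj (EtSix.constΛ Λ (U k))).symm⟩

/-- a coproduct over a sum of types is a biproduct -/
noncomputable def biprodSigmaIso {C : Type*} [Category C] [Preadditive C] [HasBinaryBiproducts C]
    {ι ι' : Type} (f : ι ⊕ ι' → C) [HasCoproduct f] [HasCoproduct fun i => f (Sum.inl i)]
    [HasCoproduct fun i => f (Sum.inr i)] :
    (∐ fun i => f (Sum.inl i)) ⊞ (∐ fun i => f (Sum.inr i)) ≅ ∐ f where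
  hom := biprod.desc (Sigma.desc fun k => Sigma.ι f (Sum.inl k)) (Sigma.desc fun k => Sigma.ι f (Sum.inr k))
  inv := Sigma.desc fun k => match k with
    | Sum.inl k => Sigma.ι (fun i => f (Sum.inl i)) k ≫ biprod.inl
    | Sum.inr k => Sigma.ι (fun i => f (Sum.inr i)) k ≫ biprod.inr
  hom_inv_id := by
    apply biprod.hom_ext' <;> exact Sigma.hom_ext _ _ fun k => by simp
  inv_hom_id := Sigma.hom_ext _ _ fun k => by rcases k with k | k <;> simp

theorem isSum_biprod {A B : EtModW.Mod Λ X} (hA : IsSum A) (hB : IsSum B) : IsSum (A ⊞ B) := by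
  obtain ⟨m, U, j, hj, hU, hA⟩ := hA
  obtain ⟨m', U', j', hj', hU', hB⟩ := hB
  refine isSum_of_fintype (Sum.elim U U') (fun k => Sum.rec j j' k) (fun k => Sum.rec hj hj' k)
    (fun k => Sum.rec hU hU' k) fun {hJ} => ?_
  have : ∀ k, EtShriek.JCont (j k) := fun k => hJ (Sum.inl k)
  have : ∀ k, EtShriek.JCont (j' k) := fun k => hJ (Sum.inr k)
  obtain ⟨eA⟩ := hA
  obtain ⟨eB⟩ := hB
  have : ∀ k, Etale (Sum.rec (motive := fun k => Sum.elim U U' k ⟶ X) j j' k) := fun k => Sum.rec hj hj' k
  exact ⟨biprod.mapIso eA eB ≪≫ biprodSigmaIso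
    (fun k => (EtSix.extZeroMod Λ (Sum.rec (motive := fun k => Sum.elim U U' k ⟶ X) j j' k)).obj
      (EtSix.constΛ Λ (Sum.elim U U' k)))⟩

theorem isConstructible_of_isSum [IsNoetherianRing Λ] [CompactSpace X] [QuasiSeparatedSpace X]
    {A : EtModW.Mod Λ X} (h : IsSum A) : EtModW.IsConstructible Λ A := by
  have : HasFiniteBiproducts (EtModW.Mod Λ X) := Abelian.hasFiniteBiproducts
  obtain ⟨m, U, j, hj, hU, h⟩ := h
  have := fun k => EtFound.jCont (j k)
  obtain ⟨e⟩ := @h this
  refine isConstructible_of_iso (e ≪≫ (biproduct.isoCoproduct _).symm ≪≫ biproduct.isoProduct _).symm ?_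
  refine (constrProp Λ X).prop_product fun k => ?_
  have : QuasiCompact (j k) := quasiCompact_of_compactSpace (j k)
  have : QuasiSeparated (j k) := QuasiSeparated.of_comp (j k) (terminal.from X)
  exact EtShriekMod.isConstructible_extZeroMod (j k)
    (isConstructible_of_isFTLocConst (SGA4hExtZ.isFTLocConst_constΛ (U k)))

theorem isConstructible_homology [IsNoetherianRing Λ] (C : CochainComplex (EtModW.Mod Λ X) ℤ)
    (hC : ∀ i, EtModW.IsConstructible Λ (C.X i)) (i : ℤ) : EtModW.IsConstructible Λ (C.homology i) := by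
  have hZ : ∀ i, EtModW.IsConstructible Λ (C.cycles i) := fun i =>
    isConstructible_of_iso ((kernelIsKernel (C.d i (i + 1))).conePointUniqueUpToIso
      (C.cyclesIsKernel i (i + 1) (by simp))) (isConstructible_kernel _ (hC _) (hC _))
  exact isConstructible_of_iso ((cokernelIsCokernel (C.toCycles (i - 1) i)).coconePointUniqueUpToIso
    (C.homologyIsCokernel (i - 1) i (by simp))) (isConstructible_cokernel _ (hC _) (hZ _))

/-- (1) ⇔ (2): let X be a quasi-compact and quasi-separated scheme, Λ a Noetherian ring and K an object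
of D(X_et, Λ) which is bounded above. Then every cohomology sheaf of K is a constructible sheaf of
Λ-modules if and only if K is isomorphic, in D(X_et, Λ), to the image of a bounded above complex of
sheaves of Λ-modules each of whose terms is isomorphic to a finite direct sum of sheaves j_! Λ,
extensions by zero of the constant sheaf Λ along etale morphisms j : U → X with U affine. (A third
equivalent condition, representability by a bounded above complex of flat constructible sheaves of
Λ-modules, is not included. Continuity of the functors V ↦ (V → U → X) between small etale sites,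
true for every etale morphism, appears as an instance binder in front of the extension-by-zero
terms.) -/
theorem result (Λ : Type (u + 1)) [CommRing Λ]
    [IsNoetherianRing Λ] (X : Scheme.{u}) [CompactSpace X] [QuasiSeparatedSpace X] (K : EtModD.D Λ X) (n : ℤ)
    [K.IsLE n] :
    (∀ i : ℤ, EtModW.IsConstructible Λ (EtModD.HD K i)) ↔
      ∃ (C : CochainComplex (EtModW.Mod Λ X) ℤ) (c : ℤ),
        (∀ i : ℤ, c < i → IsZero (C.X i)) ∧
        (∀ i : ℤ, ∃ (m : ℕ) (U : Fin m → Scheme.{u}) (j : ∀ k, U k ⟶ X) (_ : ∀ k, Etale (j k))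
            (_ : ∀ k, IsAffine (U k)),
            ∀ [∀ k, EtShriek.JCont (j k)],
              Nonempty (C.X i ≅ ∐ fun k => (EtSix.extZeroMod Λ (j k)).obj (EtSix.constΛ Λ (U k)))) ∧
        Nonempty (DerivedCategory.Q.obj C ≅ K) := by
  constructor
  · intro hH
    let D : SGA4hExtZ.LeftRes.Data (EtModW.Mod Λ X) :=
      { P := IsSum
        C := EtModW.IsConstructible Λ
        le := isConstructible_of_isSum
        zero := isSum_of_isZero
        sum := isSum_biprod
        iso := fun e ⟨m, U, j, hj, hU, h⟩ => ⟨m, U, j, hj, hU, fun {_} => ⟨e.symm ≪≫ h.some⟩⟩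
        isoC := fun e h => isConstructible_of_iso e h
        ker := fun f h h' => isConstructible_kernel f h h'
        cover := fun v hv hB => by
          obtain ⟨m, U, j, hj, hU, h⟩ := @EtShriekMod.exists_cover_qcqs _ _ _ _ _ _ _ _ v hv hB
          have := fun k => EtFound.jCont (j k)
          obtain ⟨w, hw⟩ := @h this
          exact ⟨_, w, ⟨m, U, j, hj, hU, fun {_} => ⟨Iso.refl _⟩⟩, hw⟩ }
    obtain ⟨C₀, ⟨e₀⟩⟩ : ∃ C₀, Nonempty (DerivedCategory.Q.obj C₀ ≅ K) :=
      ⟨_, ⟨DerivedCategory.Q.objObjPreimageIso K⟩⟩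
    let eH : ∀ i, HD K i ≅ C₀.homology i := fun i =>
      (DerivedCategory.homologyFunctor _ i).mapIso e₀.symm ≪≫
        (DerivedCategory.homologyFunctorFactors _ i).app C₀
    have hz : ∀ i, n + 1 ≤ i → IsZero (C₀.homology i) := fun i hi =>
      (DerivedCategory.isZero_of_isLE K n i (by omega)).of_iso (eH i).symm
    obtain ⟨Q, φ, hφ, hz', hP⟩ := SGA4hExtZ.LeftRes.exists_quasiIso (D := D) (K := C₀)
      (fun i => isConstructible_of_iso (eH i) (hH i)) (n + 1) hz
    exact ⟨Q, n + 1 + 1, hz', hP, ⟨asIso (DerivedCategory.Q.map φ) ≪≫ e₀⟩⟩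
  · rintro ⟨C, c, -, hP, ⟨e⟩⟩ i
    exact isConstructible_of_iso (((DerivedCategory.homologyFunctorFactors _ i).app C).symm ≪≫
      (DerivedCategory.homologyFunctor _ i).mapIso e)
      (isConstructible_homology C (fun i => isConstructible_of_isSum (hP i)) i)

end Groth.Agent.S6700
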