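import Groth.Statements.S6720
import Groth.Agent.DEqT.PointOrth
import Groth.Agent.QCoh.Support
import Groth.Agent.S1006

set_option autoImplicit false
universe u
open CategoryTheory AlgebraicGeometry
attribute [local instance] HasDerivedCategory.standard
open DEquiv

namespace Groth.Agent.S6720

/-- Let X be a scheme of finite type over a field k which is regular, x ∈ X a closed point, O_x the
skyscraper sheaf at x with value κ(x), and K a perfect object of D(O_X). If Hom(O_x, K⟦i⟧) = 0 for
all i ∈ ℤ, then K is zero on an open neighbourhood of x; likewise if Hom(K, O_x⟦i⟧) = 0 for all i ∈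
ℤ. (K zero on U is expressed as: no cohomology sheaf of K has a point of U in its support.) -/
theorem result
    (k : Type u) [Field k] (X : Scheme.{u}) [X.Over (Spec (.of k))]
    [LocallyOfFiniteType (X ↘ Spec (.of k))] [CompactSpace X]
    (hreg : Models.IsRegularScheme X) (x : X) (hx : IsClosed ({x} : Set X))
    (K : DCoh.D X) (hK : DCoh.IsPerfect K) :
    ((∀ (i : ℤ) (φ : DCoh.inD X ((Coh.push (X.fromSpecResidueField x)).obj (Coh.structureModule _)) ⟶ (shiftFunctor (DCoh.D X) i).obj K), φ = 0) →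
      ∃ U : X.Opens, x ∈ U ∧ ∀ (i : ℤ) (y : X), y ∈ U → y ∉ CohB1.support (DCoh.HD K i)) ∧
    ((∀ (i : ℤ) (φ : K ⟶ (shiftFunctor (DCoh.D X) i).obj (DCoh.inD X ((Coh.push (X.fromSpecResidueField x)).obj (Coh.structureModule _)))), φ = 0) →
      ∃ U : X.Opens, x ∈ U ∧ ∀ (i : ℤ) (y : X), y ∈ U → y ∉ CohB1.support (DCoh.HD K i)) := by
  haveI : IsLocallyNoetherian X := LocallyOfFiniteType.isLocallyNoetherian (X ↘ Spec (.of k))
  haveI : IsNoetherian X := {}
  obtain ⟨hc, a, b, ha, hb⟩ := Groth.Agent.S1006.result X K hK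
  have key : (∀ i : ℤ, x ∉ CohB1.support (DCoh.HD K i)) →
      ∃ U : X.Opens, x ∈ U ∧ ∀ (i : ℤ) (y : X), y ∈ U → y ∉ CohB1.support (DCoh.HD K i) := by
    intro hxi
    let S : Set X := ⋃ i ∈ Set.Icc a b, CohB1.support (DCoh.HD K i)
    have hS : IsClosed S := (Set.finite_Icc a b).isClosed_biUnion fun i _ =>
      QCoh.isClosed_support_of_isFT (hc i).1 (hc i).2
    refine ⟨⟨Sᶜ, hS.isOpen_compl⟩, ?_, fun i y hy hys => ?_⟩
    · intro hxS
      obtain ⟨i, -, hi⟩ := Set.mem_iUnion₂.1 hxS
      exact hxi i hi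
    · by_cases hi : i ∈ Set.Icc a b
      · exact hy (Set.mem_iUnion₂.2 ⟨i, hi, hys⟩)
      · rw [DEqT.mem_support_iff_not_isZero] at hys
        refine hys ((DerSch.stalkFunctor X y).map_isZero ?_)
        rcases not_and_or.1 hi with hi | hi
        · exact DerivedCategory.isZero_of_isGE K a i (not_le.1 hi)
        · exact DerivedCategory.isZero_of_isLE K b i (not_le.1 hi)
  refine ⟨fun h => key fun i => DEqT.notMem_support_of_orth hx K hc h i, fun h => key fun i => ?_⟩
  exact (DEqT.stalk_vanish_above_iff x K (fun j => by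
      haveI := (hc j).2
      exact FDescent.finite_stalk (DCoh.HD K j) x) b (i - 1)).2
    (fun j _ φ => h (-j) φ) i (by omega)

end Groth.Agent.S6720
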