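import Groth.Statements.S6733
import Groth.Agent.DEqT.PointDual
import Groth.Agent.DEqT.FibreRGamma
-- import your own Groth.Agent.* helpers here

set_option autoImplicit false
universe u
open CategoryTheory AlgebraicGeometry
attribute [local instance] HasDerivedCategory.standard
open DEquiv

namespace Groth.Agent.S6733

/-- Let X be a scheme of finite type over a field k which is regular, x ∈ X a closed point, O_x the
skyscraper sheaf at x with value κ(x), d = dim O_{X,x}, and K a perfect object of D(O_X); the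
derived functors - ⊗^L O_x and RΓ(X, -) are assumed to exist (instance binders). (5) If H^i(X, K ⊗^L
O_x) = 0 then H^i(K) vanishes on an open neighbourhood of x. (6) If H^i(X, K ⊗^L O_x) = 0 for all i
then every cohomology sheaf of K vanishes on an open neighbourhood of x. (1) If Hom(O_x, K⟦i⟧) = 0
then H^{i-d}(K) vanishes on an open neighbourhood of x. (Vanishing on U: no point of U lies in the
support.) -/
theorem result
    (k : Type u) [Field k] (X : Scheme.{u}) [X.Over (Spec (.of k))]
    [LocallyOfFiniteType (X ↘ Spec (.of k))] [CompactSpace X]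
    (hreg : Models.IsRegularScheme X) (x : X) (hx : IsClosed ({x} : Set X))
    (d : ℕ) (hd : ringKrullDim (X.presheaf.stalk x) = d)
    (K : DCoh.D X) (hK : DCoh.IsPerfect K)
    [DCoh.HasLTensorMod ((Coh.push (X.fromSpecResidueField x)).obj (Coh.structureModule _))] [DCoh.HasRΓ X] :
    (∀ i : ℤ, Limits.IsZero ((DerivedCategory.homologyFunctor AddCommGrpCat.{u} i).obj
          ((DCoh.RΓ X).obj ((DCoh.LTensorMod ((Coh.push (X.fromSpecResidueField x)).obj (Coh.structureModule _))).obj K))) →
      ∃ U : X.Opens, x ∈ U ∧ ∀ y : X, y ∈ U → y ∉ CohB1.support (DCoh.HD K i)) ∧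
    ((∀ i : ℤ, Limits.IsZero ((DerivedCategory.homologyFunctor AddCommGrpCat.{u} i).obj
          ((DCoh.RΓ X).obj ((DCoh.LTensorMod ((Coh.push (X.fromSpecResidueField x)).obj (Coh.structureModule _))).obj K)))) →
      ∃ U : X.Opens, x ∈ U ∧ ∀ (i : ℤ) (y : X), y ∈ U → y ∉ CohB1.support (DCoh.HD K i)) ∧
    (∀ i : ℤ, (∀ φ : DCoh.inD X ((Coh.push (X.fromSpecResidueField x)).obj (Coh.structureModule _)) ⟶ (shiftFunctor (DCoh.D X) i).obj K, φ = 0) →
      ∃ U : X.Opens, x ∈ U ∧ ∀ y : X, y ∈ U → y ∉ CohB1.support (DCoh.HD K (i - d))) := by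
  haveI := fun y : X => Groth.Agent.KFlatLib.hasLpull (X.fromSpecResidueField y)
  haveI := LocallyOfFiniteType.isLocallyNoetherian (X ↘ Spec (.of k))
  have h5 : ∀ i : ℤ, Limits.IsZero ((DerivedCategory.homologyFunctor AddCommGrpCat.{u} i).obj
          ((DCoh.RΓ X).obj ((DCoh.LTensorMod ((Coh.push (X.fromSpecResidueField x)).obj (Coh.structureModule _))).obj K))) →
      ∃ U : X.Opens, x ∈ U ∧ ∀ y : X, y ∈ U → y ∉ CohB1.support (DCoh.HD K i) := fun i h =>
    Groth.Agent.DEqT.exists_nhd_of_betti hK (Groth.Agent.DEqT.betti_eq_zero_of_fibre x hx K hK i h)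
  refine ⟨h5, fun h => ?_, fun i h => Groth.Agent.DEqT.exists_nhd_of_hom_point hreg x hx d hd K hK i h⟩
  obtain ⟨U, a, b, hxU, hU⟩ := Groth.Agent.DEqT.exists_nhd_bounded hK x
  choose V hxV hV using fun i => h5 i (h i)
  refine ⟨U ⊓ (Finset.Icc a b).inf V, ⟨hxU, ?_⟩, fun i y hy => ?_⟩
  · induction Finset.Icc a b using Finset.induction_on with
    | empty => simp
    | insert j s _ ih => rw [Finset.inf_insert]; exact ⟨hxV j, ih⟩
  · by_cases hi : a ≤ i ∧ i ≤ b
    · exact hV i y ((Finset.inf_le (Finset.mem_Icc.2 hi) : (Finset.Icc a b).inf V ≤ V i) hy.2)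
    · exact hU i (by omega) y hy.1

end Groth.Agent.S6733
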