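import Groth.Statements.S6842
import Groth.Agent.Der55.CoprodSections
import Groth.Agent.QcqsColim.Topos

set_option autoImplicit false
universe u
open CategoryTheory CategoryTheory.Limits TopologicalSpace
open ModSite

namespace Groth.Agent.S6842

/-- Let (X, O) be a ringed space, (F_i)_{i ∈ I} a family of O-modules and U ⊆ X a quasi-compact open.
Then the canonical map ⊕_i F_i(U) → (⊕_i F_i)(U) is bijective: every section of the direct sum over
U is a finite sum of images of sections of the F_i over U (surjectivity), and such a finite sum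
vanishes only if each term's section is zero (injectivity). -/
theorem result {X : TopCat.{u}} (O : TopCat.Sheaf CommRingCat.{u} X)
    {I : Type u} (F : I → ModSite.Mod O) [HasCoproduct F] (U : Opens X) (hU : IsCompact (U : Set X)) :
    (∀ s : ModSite.sect (∐ F) U, ∃ (S : Finset I) (t : ∀ i, ModSite.sect (F i) U),
        s = ∑ i ∈ S, ((Sigma.ι F i).val.app (Opposite.op U)).hom (t i)) ∧
      ∀ (S : Finset I) (t : ∀ i, ModSite.sect (F i) U),
        ∑ i ∈ S, ((Sigma.ι F i).val.app (Opposite.op U)).hom (t i) = 0 → ∀ i ∈ S, t i = 0 := by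
  classical
  have hq := Groth.Agent.Der55.isQcObject_of_isQCSite (Groth.Agent.QcqsColim.isQCSite_of_isCompact hU)
  let sec := fun M : ModSite.Mod O => Groth.Agent.SiteBase.secEquiv _ U (ModSite.toAb M)
  refine ⟨fun s => ?_, fun S t hsum j hj => ?_⟩
  · let φ := (Groth.Agent.Der55.freeOnAbEquiv O U (∐ F)).symm ((sec (∐ F)).symm s)
    obtain ⟨S, a, ha⟩ := Groth.Agent.Der55.finFactor_of_isQcObject F hq φ
    refine ⟨S, fun i => sec (F i) (Groth.Agent.Der55.freeOnAbEquiv O U (F i) (a i)), ?_⟩
    have hs : sec (∐ F) (Groth.Agent.Der55.freeOnAbEquiv O U (∐ F) φ) = s := by simp [φ]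
    refine hs.symm.trans ?_
    rw [ha, map_sum, map_sum]
    refine Finset.sum_congr rfl fun i _ => ?_
    rw [Groth.Agent.Der55.freeOnAbEquiv_comp]
    exact Groth.Agent.SiteBase.secEquiv_comp U _ _
  · have h := congrArg (((Groth.Agent.TriCat.coprodProj F j).val.app (Opposite.op U)).hom) hsum
    rw [map_zero, map_sum, Finset.sum_eq_single j] at h
    · have e := Groth.Agent.TriCat.ι_coprodProj_self (X := F) j
      exact (congrArg (fun ψ : F j ⟶ F j => (ψ.val.app (Opposite.op U)).hom (t j)) e).symm.trans h
    · intro i _ hij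
      exact congrArg (fun ψ : F i ⟶ F j => (ψ.val.app (Opposite.op U)).hom (t i))
        (Groth.Agent.TriCat.ι_coprodProj_ne (X := F) hij)
    · exact fun hn => absurd hj hn

end Groth.Agent.S6842
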