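import Groth.Statements.S6884
import Groth.Agent.CAlgH39.FlatDescend
-- import your own Groth.Agent.* helpers here

set_option autoImplicit false
universe u
open TensorProduct
open CAlg
open Groth.Agent.FlatModel Groth.Agent.CAlgH39.FlatModelBC

namespace Groth.Agent.S6884

/-- For an injective integral ring map `R → S` and `n ≥ 0`, let `M` be a module of finite presentation
over the polynomial ring `R[x_1, …, x_n]`. Then flatness of `S ⊗_R M` over `S` forces flatness of
`M` over `R`. -/
theorem result (R S : Type u) [CommRing R]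
    [CommRing S] [Algebra R S] [Algebra.IsIntegral R S] (hinj : Function.Injective (algebraMap R S)) (n : ℕ)
    (M : Type u) [AddCommGroup M] [Module (MvPolynomial (Fin n) R) M] [Module R M]
    [IsScalarTower R (MvPolynomial (Fin n) R) M] [Module.FinitePresentation (MvPolynomial (Fin n) R) M]
    [Module.Flat S (S ⊗[R] M)] : Module.Flat R M := by
  classical
  obtain ⟨a, K, e, hK⟩ := Module.FinitePresentation.exists_fin (MvPolynomial (Fin n) R) M
  obtain ⟨G, rfl⟩ := hK
  -- a noetherian ring of coefficients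
  let T₀ : Finset R := G.biUnion fun g => Finset.univ.biUnion fun i => (g i).coeffs
  let R₀ : Subalgebra ℤ R := Algebra.adjoin ℤ (T₀ : Set R)
  have : Algebra.FiniteType ℤ R₀ := (Subalgebra.fg_iff_finiteType R₀).1 ⟨T₀, rfl⟩
  have : IsNoetherianRing R₀ := Algebra.FiniteType.isNoetherianRing ℤ R₀
  have hlift : ∀ g ∈ G, ∃ w : V a n R₀, mapV (algebraMap R₀ R) w = g := by
    intro g hg
    have : ∀ i, ∃ p : MvPolynomial (Fin n) R₀, MvPolynomial.map (algebraMap R₀ R) p = g i := fun i => by
      refine MvPolynomial.mem_range_map_iff_coeffs_subset.2 fun c hc => ⟨⟨c, Algebra.subset_adjoin ?_⟩, rfl⟩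
      exact Finset.mem_biUnion.2 ⟨g, hg, Finset.mem_biUnion.2 ⟨i, Finset.mem_univ _, hc⟩⟩
    choose p hp using this
    exact ⟨p, funext hp⟩
  choose w hw using hlift
  let K₀ : Submodule (MvPolynomial (Fin n) R₀) (V a n R₀) :=
    Submodule.span _ (Set.range fun g : G => w g.1 g.2)
  have hKK : KK K₀ R = Submodule.span (MvPolynomial (Fin n) R) (G : Set (V a n R)) := by
    refine le_antisymm (Submodule.span_le.2 ?_) (Submodule.span_le.2 fun g hg => ?_)
    · rintro _ ⟨v, hv, rfl⟩
      refine Submodule.span_mono ?_ (mapV_mem_span (algebraMap R₀ R) hv)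
      rintro _ ⟨_, ⟨g, rfl⟩, rfl⟩
      rw [hw]; exact g.2
    · exact Submodule.subset_span ⟨w g hg, Submodule.subset_span ⟨⟨g, hg⟩, rfl⟩, hw g hg⟩
  let eM : M ≃ₗ[R] (V a n R ⧸ KK K₀ R) :=
    (e ≪≫ₗ Submodule.quotEquivOfEq _ _ hKK.symm).restrictScalars R
  -- flatness of the base change, in the form `FlatC`
  have hS : FlatC K₀ S := by
    obtain ⟨e'⟩ := nonempty_equiv K₀ R S
    exact (flatC_iff_flat K₀).2
      (Module.Flat.of_linearEquiv (TensorProduct.AlgebraTensorModule.congr (LinearEquiv.refl S S) eM ≪≫ₗ e').symm)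
  have := (flatC_iff_flat K₀).1 (flatC_descent_integral K₀ R S hinj hS)
  exact Module.Flat.of_linearEquiv eM


end Groth.Agent.S6884
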