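import Groth.Statements.S6886
import Mathlib
-- import your own Groth.Agent.* helpers here

set_option autoImplicit false
universe u
open TensorProduct
open CAlg

namespace Groth.Agent.S6886

/-- Let `R → S` be a finite ring map. One can find an extension `R ⊆ R'` of rings, with `R'` finite and
free as an `R`-module, for which the ring `S ⊗_R R'` arises as a quotient of `R'[T_1, …,
T_n]/(P_1(T_1), …, P_n(T_n))` with each `P_i(T) = ∏_j (T - α_{ij})` a product of linear factors over
`R'`. -/
theorem result (R S : Type u) [CommRing R] [CommRing S] [Algebra R S]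
    [Module.Finite R S] :
    ∃ (R' : Type u) (_ : CommRing R') (_ : Algebra R R'), Module.Finite R R' ∧ Module.Free R R' ∧
      Function.Injective (algebraMap R R') ∧
      ∃ (n : ℕ) (d : Fin n → ℕ) (α : (i : Fin n) → Fin (d i) → R')
        (φ : MvPolynomial (Fin n) R' →ₐ[R'] R' ⊗[R] S), Function.Surjective φ ∧
          ∀ i, φ (∏ j, (MvPolynomial.X i - MvPolynomial.C (α i j))) = 0 := by
  obtain ⟨G, hG⟩ := (Module.Finite.fg_top : (⊤ : Submodule R S).FG)
  let e := G.equivFin.symm
  let g : Fin G.card → S := fun i => (e i).1
  rcases subsingleton_or_nontrivial R with hR | hR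
  · have : Subsingleton (R ⊗[R] S) := Module.subsingleton R _
    refine ⟨R, inferInstance, inferInstance, inferInstance, inferInstance, fun a b h => h, 0, fun _ => 0,
      fun i => i.elim0, MvPolynomial.aeval (fun i => i.elim0), fun x => ⟨0, Subsingleton.elim _ _⟩,
      fun i => i.elim0⟩
  choose p hpm hp0 using fun i => Algebra.IsIntegral.isIntegral (R := R) (g i)
  have hPm : (∏ i, p i).Monic := Polynomial.monic_prod_of_monic _ _ fun i _ => hpm i
  obtain ⟨R', _, _, _, _, _, hR'⟩ := hPm.exists_splits_map
  obtain ⟨m, hm⟩ := Polynomial.splits_iff_exists_multiset'.1 hR'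
  rw [(hPm.map _).leadingCoeff, Polynomial.C_1, one_mul] at hm
  let l := m.toList
  let φ : MvPolynomial (Fin G.card) R' →ₐ[R'] R' ⊗[R] S :=
    MvPolynomial.aeval fun i => (1 : R') ⊗ₜ[R] g i
  refine ⟨R', inferInstance, inferInstance, inferInstance, inferInstance,
    FaithfulSMul.algebraMap_injective R R', G.card, fun _ => l.length, fun _ j => -l.get j, φ, ?_,
    fun i => ?_⟩
  · rw [← AlgHom.range_eq_top, eq_top_iff]
    intro x hx
    clear hx
    induction x with
    | zero => exact zero_mem _
    | add a b ha hb => exact add_mem ha hb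
    | tmul a b =>
      have hb : b ∈ Submodule.span R (G : Set S) := hG ▸ Submodule.mem_top
      induction hb using Submodule.span_induction with
      | mem y hy =>
        refine ⟨MvPolynomial.C a * MvPolynomial.X (e.symm ⟨y, hy⟩), ?_⟩
        simp [φ, g, Algebra.TensorProduct.algebraMap_apply]
      | zero => simp
      | add y z _ _ hy hz => rw [TensorProduct.tmul_add]; exact add_mem hy hz
      | smul r y _ hy =>
        rw [TensorProduct.tmul_smul, ← algebraMap_smul R' r]
        exact Subalgebra.smul_mem _ hy _
  · have key : ((∏ j, (Polynomial.X - Polynomial.C (-l.get j)) : Polynomial R').eval₂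
        (MvPolynomial.C) (MvPolynomial.X i : MvPolynomial (Fin G.card) R')) =
        ∏ j, (MvPolynomial.X i - MvPolynomial.C (-l.get j)) := by
      simp [Polynomial.eval₂_finsetProd]
    rw [← key]
    have h2 : (∏ j, (Polynomial.X - Polynomial.C (-l.get j)) : Polynomial R') =
        (∏ i, p i).map (algebraMap R R') := by
      rw [hm, ← Multiset.prod_map_toList]
      simp only [map_neg, sub_neg_eq_add]
      exact Fin.prod_univ_fun_getElem m.toList fun x => Polynomial.X + Polynomial.C x
    rw [h2]
    refine (Polynomial.hom_eval₂ _ _ φ.toRingHom _).trans ?_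
    simp only [AlgHom.toRingHom_eq_coe, RingHom.coe_coe]
    rw [show φ (MvPolynomial.X i) = (1 : R') ⊗ₜ[R] g i by simp [φ]]
    rw [Polynomial.eval₂_map]
    have hz : Polynomial.aeval (g i) (∏ i, p i) = 0 := by
      rw [map_prod]
      exact Finset.prod_eq_zero (Finset.mem_univ i) (hp0 i)
    have := congrArg (Algebra.TensorProduct.includeRight (R := R) (A := R') (B := S)) hz
    rw [← Polynomial.aeval_algHom_apply, map_zero, Polynomial.aeval_def] at this
    convert this using 2
    swap; · rfl
    ext r
    simp [φ, IsScalarTower.algebraMap_apply R R' (R' ⊗[R] S)]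


end Groth.Agent.S6886
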