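import Groth.Statements.S6924
import Groth.Agent.FittBlow95.Basic

set_option autoImplicit false
universe u
open TensorProduct
open Fitt

namespace Groth.Agent.S6924

/-- Let `M` be a finite `R`-module and `f ∈ R` such that every prime of `D(f)` has a basic open
neighbourhood `D(g) ⊆ D(f)` with `M_g` free of rank `r` (in other words `M_f` is, locally on `D(f)`,
free of rank `r`). Then there is a finitely generated ideal `I ⊆ R` with `V(I) = V(f)` such that for
every `a ∈ I` and (a copy `R₁` of) the affine blow-up algebra `R[I/a]`, the strict transform `(M ⊗_R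
R₁)/(a-power torsion)` is finite locally free of rank `r` over `R₁`. -/
theorem result {R : Type u} [CommRing R] (M : Type u) [AddCommGroup M]
    [Module R M] [Module.Finite R M] (f : R) (r : ℕ)
    (hf : ∀ (p : Ideal R) [p.IsPrime], f ∉ p → ∃ g : R, g ∉ p ∧ g ∈ (Ideal.span {f}).radical ∧
      Module.Free (Localization.Away g) (LocalizedModule (Submonoid.powers g) M) ∧
        Module.finrank (Localization.Away g) (LocalizedModule (Submonoid.powers g) M) = r) :
    ∃ I : Ideal R, I.FG ∧ I.radical = (Ideal.span {f}).radical ∧ ∀ a ∈ I, ∀ (R₁ : Type u) [CommRing R₁] [Algebra R R₁] (e : R₁ ≃ₐ[R] ↥(BlowUp.affineAlgebra R I a)),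
      ∀ (p' : Ideal R₁) [p'.IsPrime], ∃ g : R₁, g ∉ p' ∧
        Module.Free (Localization.Away g) (LocalizedModule (Submonoid.powers g) ((R₁ ⊗[R] M) ⧸ FlatCA.powTorsion R₁ (algebraMap R R₁ a) (R₁ ⊗[R] M))) ∧
        Module.finrank (Localization.Away g) (LocalizedModule (Submonoid.powers g) ((R₁ ⊗[R] M) ⧸ FlatCA.powTorsion R₁ (algebraMap R R₁ a) (R₁ ⊗[R] M))) = r := by
  have hb : ∀ p : Ideal R, p.IsPrime → f ∉ p → ∃ g : R, g ∉ p ∧
      Nonempty (Module.Basis (Fin r) (Localization.Away g) (LocalizedModule (Submonoid.powers g) M)) := by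
    intro p hp hfp
    obtain ⟨g, hg, -, hfree, hrk⟩ := hf p hfp
    haveI := hfree
    haveI : Module.Finite (Localization.Away g) (LocalizedModule (Submonoid.powers g) M) :=
      Module.Finite.of_isLocalizedModule (Submonoid.powers g) (LocalizedModule.mkLinearMap (Submonoid.powers g) M)
    haveI : Nontrivial (Localization.Away g) :=
      (IsLocalization.isPrime_of_isPrime_disjoint (Submonoid.powers g) (Localization.Away g) p
        hp (by rwa [Ideal.disjoint_powers_iff_notMem _ hp.isRadical])).ne_top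
          |> fun h => (not_subsingleton_iff_nontrivial.1 fun _ => h (Subsingleton.elim _ _))
    exact ⟨g, hg, ⟨(Module.finBasis _ _).reindex (finCongr hrk)⟩⟩
  have hrad : f ∈ (Fitt.ideal R M r).radical := by
    rw [Ideal.radical_eq_sInf]
    refine Submodule.mem_sInf.2 fun p ⟨hle, hp⟩ => ?_
    by_contra hfp
    obtain ⟨g, hg, ⟨b⟩⟩ := hb p hp hfp
    exact (@Groth.Agent.FittX.not_le_iff_away R _ M _ _ _ r p hp).2 ⟨g, hg, b, b.span_eq⟩ hle
  obtain ⟨M₀, _, _, _, π, hπ, hI⟩ := Groth.Agent.FittBlow95.exists_fg_le hrad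
  refine ⟨_, Groth.Agent.FittX.ideal_fg r, hI, fun a ha R₁ _ _ e => ?_⟩
  obtain ⟨h1, h2⟩ := Groth.Agent.FittBlow95.blowAlg_facts ha e
  have h3 : Fitt.ideal R₁ ((R₁ ⊗[R] M₀) ⧸ FlatCA.powTorsion R₁ (algebraMap R R₁ a) (R₁ ⊗[R] M₀)) r = ⊤ :=
    Groth.Agent.FittBlow95.ideal_quot_torsion_eq_top
      (by rw [Groth.Agent.FittX.ideal_baseChange (TensorProduct.isBaseChange R M₀ R₁) r, h2])
  have hle : FlatCA.powTorsion R₁ (algebraMap R R₁ a) (R₁ ⊗[R] M₀) ≤
      Submodule.comap (π.baseChange R₁) (FlatCA.powTorsion R₁ (algebraMap R R₁ a) (R₁ ⊗[R] M)) := by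
    intro y hy
    rw [Submodule.mem_comap, Groth.Agent.FittBlow95.mem_powTorsion]
    obtain ⟨n, hn⟩ := (Groth.Agent.FittBlow95.mem_powTorsion _ _).1 hy
    exact ⟨n, by rw [← map_smul, hn, map_zero]⟩
  have hsurj : Function.Surjective (Submodule.mapQ _ _ (π.baseChange R₁) hle) := by
    intro z
    obtain ⟨z, rfl⟩ := Submodule.Quotient.mk_surjective _ z
    obtain ⟨y, rfl⟩ := LinearMap.baseChange_surjective R₁ hπ z
    exact ⟨Submodule.Quotient.mk y, rfl⟩
  refine Groth.Agent.FittBlow95.locallyFree_strictTransform h1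
    (top_unique (h3 ▸ Groth.Agent.FittX.ideal_le_of_surjective _ hsurj r)) fun j hj x hx =>
    Groth.Agent.FittBlow95.pow_mul_eq_zero_of_free hj (fun p hp hap => ?_) hx
  have hfp : f ∉ p := fun hm => by
    have h4 : a ∈ (Ideal.span {f}).radical := hI ▸ Ideal.le_radical ha
    exact hap ((hp.radical_le_iff.2 ((Ideal.span_singleton_le_iff_mem _).2 hm)) h4)
  obtain ⟨g, hg, hb'⟩ := hb p hp hfp
  exact ⟨Submonoid.powers g, by rwa [Ideal.disjoint_powers_iff_notMem _ hp.isRadical], hb'⟩

end Groth.Agent.S6924
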