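import Groth.Statements.S6932
import Groth.Agent.CAlgH39.LocalFP
-- import your own Groth.Agent.* helpers here

set_option autoImplicit false
universe u
open CAlg
open Groth.Agent.CAlgH39.LocalFP

namespace Groth.Agent.S6932

/-- Let `R → S` be a ring map of finite type with `S` flat over `R`, such that `R → ∏_j R_{𝔭_j}` is
injective for some finite set of primes `𝔭_j` and each localization `S_𝔭` (at a prime `𝔭` of `R`) is
a finitely presented `R_𝔭`-algebra. Then `S` is a finitely presented `R`-algebra. -/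
theorem result {R S : Type u} [CommRing R] [CommRing S]
    [Algebra R S] [Algebra.FiniteType R S] [Module.Flat R S] (s : Finset (PrimeSpectrum R))
    (hs : Function.Injective fun r : R => fun p : s => algebraMap R (Localization.AtPrime p.1.asIdeal) r)
    (hloc : ∀ (p : Ideal R) [p.IsPrime],
      Algebra.FinitePresentation (Localization.AtPrime p) (Localization (Algebra.algebraMapSubmonoid S p.primeCompl))) :
    Algebra.FinitePresentation R S := by
  classical
  obtain ⟨n, π, hπ⟩ := Algebra.FiniteType.iff_quotient_mvPolynomial''.1 (‹Algebra.FiniteType R S›)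
  suffices h : (RingHom.ker π).FG from Algebra.FinitePresentation.of_surjective hπ h
  let ι : MvPolynomial (Fin n) R →ₗ[MvPolynomial (Fin n) R] (Fin 1 → MvPolynomial (Fin n) R) :=
    LinearMap.pi fun _ => LinearMap.id
  let K : Submodule (MvPolynomial (Fin n) R) (Fin 1 → MvPolynomial (Fin n) R) :=
    Submodule.comap (LinearMap.proj 0) (RingHom.ker π)
  have hsurj : Function.Surjective (π.toLinearMap ∘ₗ (LinearMap.proj (R := R) (0 : Fin 1))) :=
    hπ.comp fun x => ⟨fun _ => x, rfl⟩
  let eK : ((Fin 1 → MvPolynomial (Fin n) R) ⧸ K) ≃ₗ[R] S :=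
    (Submodule.Quotient.restrictScalarsEquiv R K).symm ≪≫ₗ
      Submodule.quotEquivOfEq _ _ (by ext x; rfl) ≪≫ₗ
      (π.toLinearMap ∘ₗ (LinearMap.proj (R := R) (0 : Fin 1))).quotKerEquivOfSurjective hsurj
  have : Module.Flat R ((Fin 1 → MvPolynomial (Fin n) R) ⧸ K) := Module.Flat.of_linearEquiv eK
  suffices hK : K.FG by
    have := hK.map (LinearMap.proj 0)
    rwa [Submodule.map_comap_eq_of_surjective (fun x => ⟨fun _ => x, rfl⟩)] at this
  refine fg_of_locally_fg K s hs fun p => ?_
  let M := p.asIdeal.primeCompl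
  let Rp := Localization.AtPrime p.asIdeal
  let Sp := Localization (Algebra.algebraMapSubmonoid S M)
  have := hloc p.asIdeal
  let πp : MvPolynomial (Fin n) Rp →ₐ[Rp] Sp := MvPolynomial.aeval fun i => algebraMap S Sp (π (MvPolynomial.X i))
  have hcomp : ∀ q, πp (MvPolynomial.map (algebraMap R Rp) q) = algebraMap S Sp (π q) := by
    intro q
    have : (πp.restrictScalars R).comp (MvPolynomial.mapAlgHom (Algebra.ofId R Rp)) =
        (IsScalarTower.toAlgHom R S Sp).comp π := MvPolynomial.algHom_ext fun i => by simp [πp]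
    exact AlgHom.congr_fun this q
  have hπp : Function.Surjective πp := by
    intro z
    obtain ⟨⟨x, _, r, hr, rfl⟩, hz⟩ := IsLocalization.surj (Algebra.algebraMapSubmonoid S M) z
    obtain ⟨q, rfl⟩ := hπ x
    have hu : IsUnit (algebraMap R Rp r) := IsLocalization.map_units Rp ⟨r, hr⟩
    refine ⟨(hu.unit⁻¹ : Rpˣ).val • MvPolynomial.map (algebraMap R Rp) q, ?_⟩
    rw [map_smul, hcomp, ← hz, Algebra.smul_def, ← IsScalarTower.algebraMap_apply R S Sp,
      IsScalarTower.algebraMap_apply R Rp Sp, mul_left_comm, ← map_mul, IsUnit.val_inv_mul, map_one, mul_one]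
  obtain ⟨G, hG⟩ := Algebra.FinitePresentation.ker_fG_of_surjective πp hπp
  let : Algebra (MvPolynomial (Fin n) R) (MvPolynomial (Fin n) Rp) := MvPolynomial.algebraMvPolynomial
  have : IsLocalization (Submonoid.map (MvPolynomial.C (σ := Fin n)) M) (MvPolynomial (Fin n) Rp) :=
    MvPolynomial.isLocalization M Rp
  have hG' : ∀ g ∈ G, ∃ y : MvPolynomial (Fin n) R, y ∈ RingHom.ker π ∧ ∃ c : Rp,
      g = c • MvPolynomial.map (algebraMap R Rp) y := by
    intro g hg
    obtain ⟨⟨y, _, r, hr, rfl⟩, hy⟩ := IsLocalization.surj (Submonoid.map (MvPolynomial.C (σ := Fin n)) M) g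
    rw [MvPolynomial.algebraMap_def, MvPolynomial.map_C] at hy
    have h0 : algebraMap S Sp (π y) = 0 := by
      rw [← hcomp, ← hy, map_mul, show πp g = 0 from hG.le (Submodule.subset_span hg), zero_mul]
    obtain ⟨⟨_, u, hu, rfl⟩, hu'⟩ := (IsLocalization.map_eq_zero_iff (Algebra.algebraMapSubmonoid S M) Sp _).1 h0
    refine ⟨MvPolynomial.C u * y, ?_, ?_⟩
    · rw [RingHom.mem_ker, map_mul]
      exact (congrArg (· * π y) (π.commutes u)).trans hu'
    · have hur : IsUnit (algebraMap R Rp (u * r)) := IsLocalization.map_units Rp ⟨u * r, mul_mem hu hr⟩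
      refine ⟨(hur.unit⁻¹ : Rpˣ).val, ?_⟩
      have hinv := IsUnit.val_inv_mul hur
      generalize (hur.unit⁻¹ : Rpˣ).val = w at hinv ⊢
      rw [map_mul, MvPolynomial.map_C, ← hy, MvPolynomial.smul_eq_C_mul]
      rw [map_mul (algebraMap R Rp)] at hinv
      calc g = g * MvPolynomial.C (w * (algebraMap R Rp u * algebraMap R Rp r)) := by
            rw [hinv, MvPolynomial.C_1, mul_one]
        _ = _ := by rw [MvPolynomial.C_mul, MvPolynomial.C_mul]; ring
  choose! y hyK c hy using hG'
  refine ⟨G.image fun g => ι (y g), fun z hz => ?_, fun x hx => ?_⟩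
  · obtain ⟨g, hg, rfl⟩ := Finset.mem_image.1 hz
    exact hyK g hg
  let I : Ideal (MvPolynomial (Fin n) R) := Ideal.span (y '' (G : Set _))
  have hx0 : MvPolynomial.map (algebraMap R Rp) (x 0) ∈ I.map (algebraMap (MvPolynomial (Fin n) R) (MvPolynomial (Fin n) Rp)) := by
    have h1 : MvPolynomial.map (algebraMap R Rp) (x 0) ∈ RingHom.ker πp := by
      rw [RingHom.mem_ker, hcomp, show π (x 0) = 0 from hx, map_zero]
    refine (Submodule.span_le.2 fun g hg => ?_ : Submodule.span _ (G : Set _) ≤ _) (hG.ge h1)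
    rw [SetLike.mem_coe, hy g hg, MvPolynomial.smul_eq_C_mul, ← MvPolynomial.algebraMap_def]
    exact Ideal.mul_mem_left _ _ (Ideal.mem_map_of_mem _ (Ideal.subset_span ⟨g, hg, rfl⟩))
  rw [← MvPolynomial.algebraMap_def] at hx0
  obtain ⟨_, ⟨r, hr, rfl⟩, hrx⟩ :=
    (IsLocalization.algebraMap_mem_map_algebraMap_iff (Submonoid.map (MvPolynomial.C (σ := Fin n)) M) _ I _).1 hx0
  refine ⟨r, hr, ?_⟩
  have hI : ∀ w ∈ I, ι w ∈ Submodule.span (MvPolynomial (Fin n) R)
      ((G.image fun g => ι (y g) : Finset _) : Set (Fin 1 → MvPolynomial (Fin n) R)) := by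
    intro w hw
    have := Submodule.apply_mem_span_image_of_mem_span ι hw
    rwa [Finset.coe_image, ← Set.image_image (g := ι) (f := y)]
  have e : r • x = ι (MvPolynomial.C r * x 0) := funext fun i => by
    rw [Pi.smul_apply, MvPolynomial.smul_eq_C_mul, Fin.fin_one_eq_zero i]; rfl
  rw [e]
  exact hI _ hrx


end Groth.Agent.S6932
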