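import Groth.Statements.S7161
import Groth.Agent.CAlgH39.TorZero
-- import your own Groth.Agent.* helpers here

set_option autoImplicit false
universe u
open CategoryTheory
open CAlg

namespace Groth.Agent.S7161

open Groth.Agent.CAlgH39.TorZero

variable {A : Type u} [CommRing A] [IsNoetherianRing A] {N : ModuleCat.{u} A}

/-- Some power `f^n • M` maps to zero on `Tor`, if `f` kills `N`. -/
theorem exists_range_torZero (M : Type u) [AddCommGroup M] [Module A M] [Module.Finite A M]
    {f : A} (hf : ∀ y : N, f • y = 0) :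
    ∃ (Y : Submodule A M) (n : ℕ), IsTorZero N Y.subtype ∧ ∀ x : M, f ^ n • x ∈ Y := by
  let mk : ℕ → Submodule A M := fun k => LinearMap.ker (f ^ k • (LinearMap.id : M →ₗ[A] M))
  have hmono : Monotone mk := monotone_nat_of_le_succ fun k x hx => by
    have hx' : f ^ k • x = 0 := by simpa [mk] using hx
    simp [mk, pow_succ', mul_smul, hx']
  obtain ⟨c, hc⟩ := monotone_stabilizes_iff_noetherian.mpr
    (inferInstance : IsNoetherian A M) ⟨mk, hmono⟩
  set Z : Submodule A M := LinearMap.range (f ^ c • (LinearMap.id : M →ₗ[A] M)) with hZ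
  have hinj : Function.Injective (Z.subtype ∘ₗ (f • LinearMap.id : Z →ₗ[A] Z)) := by
    rw [← LinearMap.ker_eq_bot, LinearMap.ker_eq_bot']
    rintro ⟨z, hz⟩ h0
    obtain ⟨x, rfl⟩ := LinearMap.mem_range.1 hz
    have h0' : f • f ^ c • x = 0 := by simpa using h0
    have hx : x ∈ mk (c + 1) := by simp [mk, pow_succ', mul_smul, h0']
    rw [show mk (c + 1) = mk c from (hc (c + 1) (Nat.le_succ c)).symm] at hx
    exact Subtype.ext (by simpa [mk] using hx)
  set φ := Z.subtype ∘ₗ (f • LinearMap.id : Z →ₗ[A] Z) with hφ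
  refine ⟨LinearMap.range φ, c + 1, ?_, fun x => ?_⟩
  · have h1 : IsTorZero N φ := comp_left (smul_id _ hf) _
    let e := LinearEquiv.ofInjective φ hinj
    have h2 : (LinearMap.range φ).subtype = φ ∘ₗ e.symm.toLinearMap := by
      refine LinearMap.ext fun y => ?_
      obtain ⟨z, rfl⟩ := e.surjective y
      simp [e]
    rw [h2]
    exact comp_right h1 _
  · exact ⟨⟨f ^ c • x, by simp [hZ]⟩, by simp [hφ, pow_succ', mul_smul]⟩

theorem key (I : Ideal A) (hN : ∀ a ∈ I, ∀ y : N, a • y = 0) (G : Finset A)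
    (hG : Ideal.span (G : Set A) = I) (s : Finset A) : s ⊆ G →
    ∀ (M : Type u) [AddCommGroup M] [Module A M] [Module.Finite A M],
      (∀ g ∈ G, g ∉ s → g ∈ (Module.annihilator A M).radical) →
      ∃ n : ℕ, IsTorZero N (I ^ n • ⊤ : Submodule A M).subtype := by
  classical
  induction s using Finset.induction with
  | empty =>
    intro _ M _ _ _ h
    have hI : I ≤ (Module.annihilator A M).radical := by
      rw [← hG, Ideal.span_le]
      exact fun g hg => h g hg (Finset.notMem_empty g)
    obtain ⟨n, hn⟩ := Ideal.exists_pow_le_of_le_radical_of_fg hI (IsNoetherian.noetherian I)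
    refine ⟨n, ?_⟩
    have h0 : (I ^ n • ⊤ : Submodule A M).subtype = 0 := by
      refine LinearMap.ext fun x => ?_
      have hb : (I ^ n • ⊤ : Submodule A M) ≤ ⊥ := Submodule.smul_le.2 fun r hr m _ =>
        (Submodule.mem_bot A).2 (Module.mem_annihilator.1 (hn hr) m)
      exact (Submodule.mem_bot A).1 (hb x.2)
    rw [h0]
    exact zero
  | insert f s hfs ih =>
    intro hs M _ _ _ h
    have hfG : f ∈ G := hs (Finset.mem_insert_self f s)
    obtain ⟨Y, n0, hY, hmem⟩ := exists_range_torZero (N := N) M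
      (hN f (hG ▸ Ideal.subset_span hfG))
    obtain ⟨n, hn⟩ := ih (fun x hx => hs (Finset.mem_insert_of_mem hx)) (M ⧸ Y) fun g hg hgs => by
      by_cases hgf : g = f
      · subst hgf
        refine ⟨n0, Module.mem_annihilator.2 fun q => ?_⟩
        obtain ⟨x, rfl⟩ := Submodule.Quotient.mk_surjective Y q
        rw [← Submodule.Quotient.mk_smul, Submodule.Quotient.mk_eq_zero]
        exact hmem x
      · refine Ideal.radical_mono ?_ (h g hg (by simp [hgf, hgs]))
        intro a ha
        refine Module.mem_annihilator.2 fun q => ?_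
        obtain ⟨x, rfl⟩ := Submodule.Quotient.mk_surjective Y q
        rw [← Submodule.Quotient.mk_smul, Module.mem_annihilator.1 ha x, Submodule.Quotient.mk_zero]
    refine ⟨n, fun p => ?_⟩
    have hmono := mono_of_torZero (ψ := Y.mkQ) Y.injective_subtype Y.mkQ_surjective
      (LinearMap.exact_subtype_mkQ Y) hY p
    have hle : (I ^ n • ⊤ : Submodule A M).map Y.mkQ ≤ (I ^ n • ⊤ : Submodule A (M ⧸ Y)) := by
      rw [Submodule.map_smul'']
      exact Submodule.smul_mono le_rfl le_top
    let r : (I ^ n • ⊤ : Submodule A M) →ₗ[A] (I ^ n • ⊤ : Submodule A (M ⧸ Y)) :=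
      (Y.mkQ ∘ₗ (I ^ n • ⊤ : Submodule A M).subtype).codRestrict _
        fun x => hle (Submodule.mem_map_of_mem x.2)
    have h2 : IsTorZero N (Y.mkQ ∘ₗ (I ^ n • ⊤ : Submodule A M).subtype) := by
      have : Y.mkQ ∘ₗ (I ^ n • ⊤ : Submodule A M).subtype =
          (I ^ n • ⊤ : Submodule A (M ⧸ Y)).subtype ∘ₗ r := rfl
      rw [this]
      exact comp_right hn r
    have h3 := h2 p
    rw [torMap_comp] at h3
    exact Limits.zero_of_comp_mono _ h3

end Groth.Agent.S7161

namespace Groth.Agent.S7161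

/-- Let A be a Noetherian ring, I an ideal, M a finite A-module and N an A-module annihilated by I. Then
there is an integer n > 0 such that the maps Tor_p^A(IⁿM, N) → Tor_p^A(M, N) induced by IⁿM ⊆ M are
zero for all p ≥ 0. -/
theorem result (A : Type u) [CommRing A] [IsNoetherianRing A] (I : Ideal A)
    (M N : Type u) [AddCommGroup M] [Module A M] [Module.Finite A M] [AddCommGroup N] [Module A N]
    (hN : ∀ a ∈ I, ∀ y : N, a • y = 0) :
    ∃ n : ℕ, 0 < n ∧ ∀ p : ℕ,
      ((CategoryTheory.Tor (ModuleCat.{u} A) p).map (ModuleCat.ofHom (I ^ n • ⊤ : Submodule A M).subtype)).app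
        (ModuleCat.of A N) = 0 := by
  obtain ⟨G, hG⟩ := IsNoetherian.noetherian I
  obtain ⟨n, hn⟩ := key (N := ModuleCat.of A N) I hN G hG G (Finset.Subset.refl _) M
    fun g hg hg' => absurd hg hg'
  refine ⟨n + 1, Nat.succ_pos n, ?_⟩
  have hle : (I ^ (n + 1) • ⊤ : Submodule A M) ≤ I ^ n • ⊤ :=
    Submodule.smul_mono_left (Ideal.pow_le_pow_right (Nat.le_succ n))
  exact Groth.Agent.CAlgH39.TorZero.comp_right hn (Submodule.inclusion hle)

end Groth.Agent.S7161
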