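import Groth.Statements.S7177
import Groth.Agent.FlatMor3.FlatDiag
-- import your own Groth.Agent.* helpers here

set_option autoImplicit false
universe u
open FlatMor

namespace Groth.Agent.S7177

open AlgebraicGeometry CategoryTheory Limits in
/-- Let f : X → Y have flat diagonal and let F be an O_X-module flat over Y. Then F is flat as an
O_X-module. -/
theorem result {X Y : Scheme.{u}} (f : X ⟶ Y) [Flat (pullback.diagonal f)] (F : X.Modules)
    (hF : FlatMod.IsFlatOver f F) : FlatMod.IsFlat F := by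
  intro x
  obtain ⟨V, hV, hxV, -⟩ := exists_isAffineOpen_mem_and_subset (X := Y) (x := f x) (U := ⊤) trivial
  obtain ⟨U, hU, hxU, hUV⟩ := exists_isAffineOpen_mem_and_subset (X := X) (x := x) (U := f ⁻¹ᵁ V) hxV
  let P : MorphismProperty Scheme.{u} := MorphismProperty.diagonal @Flat
  have hP1 : P (U.ι ≫ f) := by
    refine MorphismProperty.comp_mem P _ _ ?_ (show P f from ‹Flat (pullback.diagonal f)›)
    show Flat (pullback.diagonal U.ι)
    infer_instance
  have hP2 : P (Spec.map (f.appLE V U hUV)) := by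
    have h1 : P (Spec.map (f.appLE V U hUV) ≫ hV.fromSpec) := by
      rw [IsAffineOpen.SpecMap_appLE_fromSpec f hV hU hUV]
      refine MorphismProperty.comp_mem P _ _ ?_ (show P f from ‹Flat (pullback.diagonal f)›)
      show Flat (pullback.diagonal hU.fromSpec)
      infer_instance
    have sq : IsPullback (𝟙 _) (Spec.map (f.appLE V U hUV)) (Spec.map (f.appLE V U hUV) ≫ hV.fromSpec) hV.fromSpec :=
      ⟨⟨by simp⟩, ⟨PullbackCone.IsLimit.mk _ (fun s => s.fst) (fun s => Category.comp_id _)
        (fun s => by rw [← cancel_mono hV.fromSpec, Category.assoc, s.condition])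
        (fun s m h1 _ => by simpa using h1)⟩⟩
    exact MorphismProperty.of_isPullback sq h1
  letI := (f.appLE V U hUV).hom.toAlgebra
  have hμ : (Algebra.TensorProduct.lmul' Γ(Y, V) (S := Γ(X, U))).Flat := by
    have h3 : Flat (pullback.diagonal (Spec.map (CommRingCat.ofHom (algebraMap Γ(Y, V) Γ(X, U))))) := hP2
    rw [AlgebraicGeometry.diagonal_SpecMap, MorphismProperty.cancel_right_of_respectsIso (P := @Flat),
      HasRingHomProperty.Spec_iff (P := @Flat)] at h3
    exact h3
  let M := F.presheaf.stalk x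
  letI := TopCat.Presheaf.algebra_section_stalk Y.presheaf (⟨f x, hxV⟩ : V)
  letI := TopCat.Presheaf.algebra_section_stalk X.presheaf (⟨x, hxU⟩ : U)
  haveI := hV.isLocalization_stalk ⟨f x, hxV⟩
  haveI := hU.isLocalization_stalk ⟨x, hxU⟩
  letI : Module (Y.presheaf.stalk (f x)) M := FlatMod.moduleStalkOver f F x
  haveI : Module.Flat (Y.presheaf.stalk (f x)) M := hF x
  letI : Module Γ(X, U) M := Module.compHom M (algebraMap Γ(X, U) (X.presheaf.stalk x))
  letI : Module Γ(Y, V) M := Module.compHom M (algebraMap Γ(Y, V) (Y.presheaf.stalk (f x)))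
  haveI : IsScalarTower Γ(X, U) (X.presheaf.stalk x) M :=
    IsScalarTower.of_algebraMap_smul fun _ _ => rfl
  haveI : IsScalarTower Γ(Y, V) (Y.presheaf.stalk (f x)) M :=
    IsScalarTower.of_algebraMap_smul fun _ _ => rfl
  haveI : IsScalarTower Γ(Y, V) Γ(X, U) M := IsScalarTower.of_algebraMap_smul fun a m => by
    show (X.presheaf.germ U x hxU (f.appLE V U hUV a)) • m =
      (f.stalkMap x (Y.presheaf.germ V (f x) hxV a)) • m
    rw [Scheme.Hom.germ_stalkMap_apply f V x hxV, Scheme.Hom.appLE, CommRingCat.comp_apply,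
      X.presheaf.germ_res_apply]
  haveI : Module.Flat Γ(Y, V) (Y.presheaf.stalk (f x)) :=
    IsLocalization.flat _ (hV.primeIdealOf ⟨f x, hxV⟩).asIdeal.primeCompl
  haveI : Module.Flat Γ(Y, V) M := Module.Flat.trans Γ(Y, V) (Y.presheaf.stalk (f x)) M
  haveI : Module.Flat Γ(X, U) M := Groth.Agent.FlatMor3.flat_of_flat_diag hμ M
  exact (Module.flat_iff_of_isLocalization (X.presheaf.stalk x) (hU.primeIdealOf ⟨x, hxU⟩).asIdeal.primeCompl M).mpr inferInstance

end Groth.Agent.S7177
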