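import Groth.Statements.S7180
import Groth.Agent.WEtLib.Stalks
import Groth.Agent.EtStalk.Normal
-- import your own Groth.Agent.* helpers here

set_option autoImplicit false
universe u
open FlatMor

namespace Groth.Agent.S7180

open AlgebraicGeometry CategoryTheory Limits in
/-- The source of a weakly étale morphism with normal target (all local rings integrally closed domains)
is normal. -/
theorem result {X Y : Scheme.{u}} (f : X ⟶ Y) [WeaklyEtale f] (hY : Pi1.IsNormalScheme Y) :
    Pi1.IsNormalScheme X := by
  intro x
  obtain ⟨h1, h2⟩ := hY (f x)
  letI := (f.stalkMap x).hom.toAlgebra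
  haveI := (Groth.Agent.WEtLib.weaklyEtale_iff_stalkMap f).1 inferInstance x
  exact Groth.Agent.EtStalk.normal_of_weaklyEtale_local (Y.presheaf.stalk (f x)) (X.presheaf.stalk x)

end Groth.Agent.S7180
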