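import Groth.Statements.S7194
import Groth.Agent.FlatMor3.MorSRep
-- import your own Groth.Agent.* helpers here

set_option autoImplicit false
universe u
open CategoryTheory AlgebraicGeometry
open CategoryTheory CategoryTheory.Limits AlgebraicGeometry
open FlatMor

namespace Groth.Agent.S7194

/-- For a finite locally free morphism Z → S and an affine morphism X → S, the functor on S-schemes
sending T to the set of S-morphisms T ×_S Z → X is represented by an S-scheme W whose structure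
morphism W → S is affine. -/
theorem result {Z X S : Scheme.{u}} (g : Z ⟶ S) (f : X ⟶ S) (hg : Mor2.IsFinLocFree g) [IsAffineHom f] :
    ∃ W : Over S, IsAffineHom W.hom ∧ Nonempty ((Flatn.morS g f).RepresentableBy W) := by
  have hAF : ∀ (s : S) (F : Set X), F.Finite → (∀ x ∈ F, f x = s) → ∃ U : X.Opens, IsAffineOpen U ∧ F ⊆ U := by
    intro s F _ hFs
    obtain ⟨V, hV, hsV, -⟩ := exists_isAffineOpen_mem_and_subset (x := s) (U := ⊤) trivial
    exact ⟨f ⁻¹ᵁ V, hV.preimage f, fun x hx => show f x ∈ V by rw [hFs x hx]; exact hsV⟩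
  obtain ⟨W, u₀, hstr, huni, hrep⟩ := Groth.Agent.FlatMor3.MorSRep.exists_representableBy_of_AF hg hAF
  refine ⟨W, ?_, hrep⟩
  obtain ⟨_, _, _⟩ := hg
  refine ⟨fun V hV => ?_⟩
  obtain ⟨c, hcV, hcU, hcW⟩ := Groth.Agent.FlatMor3.MorSRep.exists_chart (g := g) (f := f) hV (hV.preimage f) le_rfl
  let ι := (W.hom ⁻¹ᵁ V).ι
  have hgood : (∀ t, (u₀.pull ι).str t ∈ c.V) ∧ ∀ z, (u₀.pull ι).b z ∈ c.U := by
    have h1 : ∀ t, (u₀.pull ι).str t ∈ V := fun t => by
      show u₀.str (ι t) ∈ V
      rw [hstr]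
      exact t.2
    refine ⟨fun t => hcV ▸ h1 t, fun z => ?_⟩
    rw [hcU]
    show f ((u₀.pull ι).b z) ∈ V
    have e := congrArg (fun k : pullback (u₀.pull ι).str g ⟶ S => k z) (u₀.pull ι).w
    have e' := congrArg (fun k : pullback (u₀.pull ι).str g ⟶ S => k z)
      (pullback.condition (f := (u₀.pull ι).str) (g := g))
    simp only [Scheme.Hom.comp_apply] at e e'
    rw [e, ← e']
    exact h1 _
  obtain ⟨n, hn, -⟩ := c.exists_unique (u₀.pull ι) hgood.1 hgood.2
  obtain ⟨m, hm, -⟩ := huni c.univ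
  have hmV : Set.range m ⊆ Set.range ι := by
    rintro _ ⟨w, rfl⟩
    simp only [ι, Scheme.Opens.range_ι]
    show W.hom (m w) ∈ V
    rw [← hstr]
    have := c.str_mem w
    rw [hcV, ← hm] at this
    exact this
  let m' := IsOpenImmersion.lift ι m hmV
  have hm' : m' ≫ ι = m := IsOpenImmersion.lift_fac _ _ _
  haveI : IsIso n := by
    refine ⟨⟨m', ?_, ?_⟩⟩
    · rw [← cancel_mono ι, Category.assoc, hm', Category.id_comp]
      refine (huni (u₀.pull ι)).unique ?_ rfl
      show u₀.pull (n ≫ m) = u₀.pull ι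
      rw [Groth.Agent.FlatMor3.MorSRep.Pt.pull_comp, hm, hn]
    · refine c.hom_ext ?_
      rw [Groth.Agent.FlatMor3.MorSRep.Pt.pull_comp, hn, ← Groth.Agent.FlatMor3.MorSRep.Pt.pull_comp, hm', hm,
        Groth.Agent.FlatMor3.MorSRep.Pt.pull_id]
  exact IsAffine.of_isIso n

end Groth.Agent.S7194
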