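import Groth.Statements.S7195
import Groth.Agent.FlatMor3.MorSRep
-- import your own Groth.Agent.* helpers here

set_option autoImplicit false
universe u
open CategoryTheory AlgebraicGeometry
open CategoryTheory CategoryTheory.Limits AlgebraicGeometry
open FlatMor

namespace Groth.Agent.S7195

/-- Let Z → S be finite locally free and X → S such that any finitely many points of X lying over a
common point of S are contained in some affine open of X. Then Mor_S(Z, X) is representable by a
scheme. -/
theorem result {Z X S : Scheme.{u}} (g : Z ⟶ S) (f : X ⟶ S) (hg : Mor2.IsFinLocFree g)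
    (hAF : ∀ (s : S) (d : ℕ) (x : Fin d → ↥X), (∀ k, f (x k) = s) → ∃ U : X.Opens, IsAffineOpen U ∧ ∀ k, x k ∈ U) :
    (Flatn.morS g f).IsRepresentable := by
  have hAF' : ∀ (s : S) (F : Set X), F.Finite → (∀ x ∈ F, f x = s) → ∃ U : X.Opens, IsAffineOpen U ∧ F ⊆ U := by
    intro s F hF hFs
    obtain ⟨d, e, -, rfl⟩ := hF.fin_param
    obtain ⟨U, hU, hUe⟩ := hAF s d e fun k => hFs _ ⟨k, rfl⟩
    exact ⟨U, hU, by rintro _ ⟨k, rfl⟩; exact hUe k⟩
  obtain ⟨W, u₀, -, -, ⟨hrep⟩⟩ := Groth.Agent.FlatMor3.MorSRep.exists_representableBy_of_AF hg hAF'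
  exact hrep.isRepresentable

end Groth.Agent.S7195
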