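import Groth.Statements.S7196
import Groth.Agent.FlatMor3.MorSRep
-- import your own Groth.Agent.* helpers here

set_option autoImplicit false
universe u
open CategoryTheory AlgebraicGeometry
open CategoryTheory CategoryTheory.Limits AlgebraicGeometry
open FlatMor

namespace Groth.Agent.S7196

/-- For Z → S finite locally free and X → S separated, locally of finite type and with discrete fibres
(locally quasi-finite), the functor T ↦ {S-morphisms T ×_S Z → X} on S-schemes is represented by
some S-scheme. -/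
theorem result {Z X S : Scheme.{u}} (g : Z ⟶ S) (f : X ⟶ S) (hg : Mor2.IsFinLocFree g)
    [IsSeparated f] [LocallyQuasiFinite f] [LocallyOfFiniteType f] :
    (Flatn.morS g f).IsRepresentable := by
  have hAF : ∀ (s : S) (F : Set X), F.Finite → (∀ x ∈ F, f x = s) → ∃ U : X.Opens, IsAffineOpen U ∧ F ⊆ U := by
    intro s F hF hFs
    obtain ⟨V, hV, hsV, -⟩ := exists_isAffineOpen_mem_and_subset (x := s) (U := ⊤) trivial
    haveI : Finite F := hF.to_subtype
    choose A hA hxA hAV using fun x : F => exists_isAffineOpen_mem_and_subset (x := x.1) (U := f ⁻¹ᵁ V)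
      (show f x.1 ∈ V by rw [hFs x.1 x.2]; exact hsV)
    let U₀ : X.Opens := ⨆ x, A x
    have hU₀ : IsCompact (U₀ : Set X) := by
      simp only [U₀, TopologicalSpace.Opens.coe_iSup]
      exact isCompact_iUnion fun x => (hA x).isCompact
    haveI : CompactSpace U₀ := isCompact_iff_compactSpace.1 hU₀
    haveI : IsAffine (V : Scheme) := hV
    have hle : U₀ ≤ f ⁻¹ᵁ V := iSup_le fun x => hAV x
    let q : (U₀ : Scheme) ⟶ V := IsOpenImmersion.lift V.ι (U₀.ι ≫ f) (by
      rintro _ ⟨z, rfl⟩
      simp only [Scheme.Opens.range_ι, Scheme.Hom.comp_apply]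
      exact hle z.2)
    have hq : q ≫ V.ι = U₀.ι ≫ f := IsOpenImmersion.lift_fac _ _ _
    haveI : IsSeparated (q ≫ V.ι) := by rw [hq]; infer_instance
    haveI : IsSeparated q := IsSeparated.of_comp q V.ι
    haveI : LocallyOfFiniteType (q ≫ V.ι) := by rw [hq]; infer_instance
    haveI : LocallyOfFiniteType q := locallyOfFiniteType_of_comp q V.ι
    haveI : LocallyQuasiFinite (q ≫ V.ι) := by rw [hq]; infer_instance
    haveI : LocallyQuasiFinite q := LocallyQuasiFinite.of_comp q V.ι
    haveI : QuasiCompact q := inferInstance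
    haveI : IsAffine q.normalization := isAffine_of_isAffineHom q.fromNormalization
    let j := q.toNormalization
    let F₀ : Set U₀.toScheme := Set.range fun x : F => (⟨x.1, le_iSup A x (hxA x)⟩ : U₀.toScheme)
    obtain ⟨B, hB, -, hBj, hFB⟩ := Groth.Agent.Grass60.exists_affine_le (isAffineOpen_top q.normalization)
      j.opensRange (j.base '' F₀) ((Set.finite_range _).image _) (fun _ _ => trivial)
      (by rintro _ ⟨x, -, rfl⟩; exact ⟨x, rfl⟩)
    have hpre : IsAffineOpen (j ⁻¹ᵁ B) := hB.preimage_of_isOpenImmersion j hBj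
    refine ⟨U₀.ι ''ᵁ (j ⁻¹ᵁ B), hpre.image_of_isOpenImmersion U₀.ι, fun x hx => ?_⟩
    exact ⟨⟨x, le_iSup A ⟨x, hx⟩ (hxA ⟨x, hx⟩)⟩, hFB ⟨_, ⟨⟨x, hx⟩, rfl⟩, rfl⟩, rfl⟩
  obtain ⟨W, u₀, -, -, ⟨hrep⟩⟩ := Groth.Agent.FlatMor3.MorSRep.exists_representableBy_of_AF hg hAF
  exact hrep.isRepresentable

end Groth.Agent.S7196
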