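import Groth.Statements.S7204
-- import your own Groth.Agent.* helpers here

set_option autoImplicit false
universe w u
open FlatMor

namespace Groth.Agent.S7204

open AlgebraicGeometry CategoryTheory Limits in
/-- Let (X_i)_{i ∈ I} be a diagram of schemes and (W, X_i → W) a cocone under it. If there is an fpqc
covering {W_a → W} such that each W_a is the colimit (in schemes) of the base-changed diagram (X_i
×_W W_a), and each W_a ×_W W_b is the colimit of (X_i ×_W W_a ×_W W_b), then W is the colimit of
(X_i) in the category of schemes. -/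
theorem result {J : Type u} [SmallCategory J] (D : J ⥤ Scheme.{u}) (c : Cocone D)
    (F : PreZeroHypercover.{w} c.pt) (hF : F.presieve₀ ∈ Scheme.fpqcPrecoverage c.pt)
    (h1 : ∀ a : F.I₀, Nonempty (IsColimit ((Over.forgetCocone (F.X a)).whisker
      (D.toOver c.pt (fun j => c.ι.app j) (fun g => c.w g) ⋙ Over.pullback (F.f a)))))
    (h2 : ∀ a b : F.I₀, Nonempty (IsColimit ((Over.forgetCocone (pullback (F.f a) (F.f b))).whisker
      (D.toOver c.pt (fun j => c.ι.app j) (fun g => c.w g) ⋙ Over.pullback (pullback.fst (F.f a) (F.f b) ≫ F.f a))))) :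
    Nonempty (IsColimit c) := by
  obtain hsheaf := fun T : Scheme.{u} =>
    (GrothendieckTopology.Subcanonical.isSheaf_of_isRepresentable (J := Scheme.fpqcTopology) (yoneda.obj T))
  have hgen : Sieve.generate F.presieve₀ ∈ Scheme.fpqcTopology c.pt :=
    Precoverage.generate_mem_toGrothendieck hF
  -- separatedness along the pulled back covers
  have ext₁ : ∀ {Z T : Scheme.{u}} (p : Z ⟶ c.pt) (m n : Z ⟶ T),
      (∀ a, pullback.fst p (F.f a) ≫ m = pullback.fst p (F.f a) ≫ n) → m = n := by
    intro Z T p m n h
    refine ((hsheaf T) _ (Scheme.fpqcTopology.pullback_stable p hgen)).isSeparatedFor.ext ?_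
    rintro V g ⟨Y', k, v, ⟨a⟩, hk⟩
    change g ≫ m = g ≫ n
    have e : pullback.lift g k hk.symm ≫ pullback.fst p (F.f a) = g := pullback.lift_fst _ _ _
    rw [← e, Category.assoc, Category.assoc, h a]
  -- the descended morphism
  have key : ∀ s : Cocone D, ∃ h : c.pt ⟶ s.pt, ∀ (a : F.I₀) (j : J),
      pullback.fst (c.ι.app j) (F.f a) ≫ s.ι.app j = pullback.snd (c.ι.app j) (F.f a) ≫ F.f a ≫ h := by
    intro s
    have ha : ∀ a : F.I₀, ∃ l : F.X a ⟶ s.pt, ∀ j,
        pullback.snd (c.ι.app j) (F.f a) ≫ l = pullback.fst (c.ι.app j) (F.f a) ≫ s.ι.app j := by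
      intro a
      obtain ⟨hc⟩ := h1 a
      let t : Cocone ((D.toOver c.pt (fun j => c.ι.app j) (fun g => c.w g) ⋙ Over.pullback (F.f a)) ⋙
          Over.forget (F.X a)) :=
        { pt := s.pt
          ι := { app := fun j => pullback.fst (c.ι.app j) (F.f a) ≫ s.ι.app j
                 naturality := fun i j g => by
                   dsimp
                   rw [Category.comp_id]
                   erw [pullback.lift_fst_assoc]
                   exact (Category.assoc _ _ _).trans (congrArg (pullback.fst (c.ι.app i) (F.f a) ≫ ·) (s.w g)) } }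
      exact ⟨hc.desc t, fun j => hc.fac t j⟩
    choose l hl using ha
    have compat : Presieve.Arrows.Compatible (yoneda.obj s.pt) F.f l := by
      intro a b Z ga gb hab
      change ga ≫ l a = gb ≫ l b
      obtain ⟨hc⟩ := h2 a b
      have heq : pullback.fst (F.f a) (F.f b) ≫ l a = pullback.snd (F.f a) (F.f b) ≫ l b := by
        refine hc.hom_ext fun j => ?_
        change pullback.snd (c.ι.app j) (pullback.fst (F.f a) (F.f b) ≫ F.f a) ≫ _ =
          pullback.snd (c.ι.app j) (pullback.fst (F.f a) (F.f b) ≫ F.f a) ≫ _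
        have ea := hl a j
        have eb := hl b j
        have ea' := congrArg (fun x => pullback.lift
          (pullback.fst (c.ι.app j) (pullback.fst (F.f a) (F.f b) ≫ F.f a))
          (pullback.snd (c.ι.app j) (pullback.fst (F.f a) (F.f b) ≫ F.f a) ≫ pullback.fst (F.f a) (F.f b))
          (by rw [Category.assoc]; exact pullback.condition) ≫ x) ea
        have eb' := congrArg (fun x => pullback.lift
          (pullback.fst (c.ι.app j) (pullback.fst (F.f a) (F.f b) ≫ F.f a))
          (pullback.snd (c.ι.app j) (pullback.fst (F.f a) (F.f b) ≫ F.f a) ≫ pullback.snd (F.f a) (F.f b))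
          (by rw [Category.assoc, ← pullback.condition (f := F.f a)]; exact pullback.condition) ≫ x) eb
        simp only [pullback.lift_fst_assoc, pullback.lift_snd_assoc, Category.assoc] at ea' eb'
        rw [ea', eb']
      have := congrArg (fun x => pullback.lift ga gb hab ≫ x) heq
      simp only [pullback.lift_fst_assoc, pullback.lift_snd_assoc] at this
      exact this
    obtain ⟨h, hh, -⟩ := (Presieve.isSheafFor_arrows_iff _ _).1
      ((Presieve.isSheafFor_iff_generate _).2 ((hsheaf s.pt) _ hgen)) l compat
    refine ⟨h, fun a j => ?_⟩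
    have e : F.f a ≫ h = l a := hh a
    rw [e, hl a j]
  choose h hh using key
  refine ⟨{ desc := h, fac := fun s j => ?_, uniq := fun s m hm => ?_ }⟩
  · refine ext₁ (c.ι.app j) _ _ fun a => ?_
    rw [hh s a j, ← Category.assoc, ← Category.assoc, pullback.condition]
  · refine ext₁ (𝟙 c.pt) _ _ fun a => ?_
    have e : F.f a ≫ m = F.f a ≫ h s := by
      obtain ⟨hc⟩ := h1 a
      refine hc.hom_ext fun j => ?_
      change pullback.snd (c.ι.app j) (F.f a) ≫ _ = pullback.snd (c.ι.app j) (F.f a) ≫ _
      rw [← hh s a j, ← hm j, ← Category.assoc, ← Category.assoc, pullback.condition]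
    have hc' : pullback.fst (𝟙 c.pt) (F.f a) = pullback.snd (𝟙 c.pt) (F.f a) ≫ F.f a := by
      simpa using pullback.condition (f := 𝟙 c.pt) (g := F.f a)
    rw [hc', Category.assoc, Category.assoc, e]

end Groth.Agent.S7204
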