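import Groth.Statements.S7210
import Groth.Agent.FlatMor3.RelPC.FinitePush
-- import your own Groth.Agent.* helpers here

set_option autoImplicit false
universe u
open CategoryTheory CategoryTheory.Limits AlgebraicGeometry Opposite TopologicalSpace
attribute [local instance] HasDerivedCategory.standard
open FlatMor

set_option backward.isDefEq.respectTransparency false
set_option linter.style.haveILetI false

namespace Groth.Agent.S7210

/-- Let p : X ⟶ S and q : Y ⟶ S be locally of finite type and π : X ⟶ Y a finite morphism over S (π ≫ q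
= p). Let E be an object of D(O_X) all of whose cohomology sheaves are quasi-coherent, and m an
integer. Then, Rπ_* being assumed to exist, relative m-pseudo-coherence of E with respect to p is
equivalent to relative m-pseudo-coherence of Rπ_* E with respect to q (chart form). -/
theorem result {X Y S : Scheme.{u}} (p : X ⟶ S) (q : Y ⟶ S)
    [LocallyOfFiniteType p] [LocallyOfFiniteType q] (π : X ⟶ Y) [IsFinite π] (w : π ≫ q = p)
    [DCoh.HasRpush π] (m : ℤ) (E : DCoh.D X) (hE : DCoh.IsQCohD E) :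
    DerSch.IsPseudoCoherentRel p m E ↔ DerSch.IsPseudoCoherentRel q m ((DCoh.Rpush π).obj E) := by
  open Groth.Agent.KSix54 Groth.Agent.KFlatLib Groth.Agent.FlatMor3.RelPC in
  subst w
  have key : ∀ (V : Y.Opens) (W : S.Opens), IsAffineOpen V → IsAffineOpen W → V ≤ q ⁻¹ᵁ W →
      (PCOn (π ≫ q) m E (π ⁻¹ᵁ V) W ↔ PCOn q m ((DCoh.Rpush π).obj E) V W) := by
    intro V W hV hW hVW
    have hU : IsAffineOpen (π ⁻¹ᵁ V) := hV.preimage π
    have hUW : π ⁻¹ᵁ V ≤ (π ≫ q) ⁻¹ᵁ W := π.preimage_mono hVW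
    obtain ⟨M, ⟨eU⟩, ⟨eV⟩⟩ := exists_sections_push π E hE hV
    obtain ⟨n, φ, hφ⟩ := exists_isPres (f := q) hV hW hVW
    obtain ⟨k, ψ, hψ⟩ := exists_isPres (f := π ≫ q) hU hW hUW
    letI : Algebra Γ(S, W) Γ(Y, V) := (q.appLE W V hVW).hom.toAlgebra
    letI : Algebra Γ(S, W) Γ(X, π ⁻¹ᵁ V) := ((π ≫ q).appLE W (π ⁻¹ᵁ V) hUW).hom.toAlgebra
    letI : Algebra Γ(Y, V) Γ(X, π ⁻¹ᵁ V) := (π.app V).hom.toAlgebra
    haveI : IsScalarTower Γ(S, W) Γ(Y, V) Γ(X, π ⁻¹ᵁ V) := IsScalarTower.of_algebraMap_eq fun r => by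
      change ((π ≫ q).appLE W (π ⁻¹ᵁ V) hUW) r = (q.appLE W V hVW ≫ π.app V) r
      rw [Scheme.Hom.app_eq_appLE, Scheme.Hom.appLE_comp_appLE]
    haveI : Algebra.FiniteType Γ(S, W) Γ(Y, V) := q.finiteType_appLE hW hV hVW
    haveI : Module.Finite Γ(Y, V) Γ(X, π ⁻¹ᵁ V) := RingHom.finite_algebraMap.1 (IsFinite.finite_app π V hV)
    have hfin := Groth.Agent.H9Misc.DRingRelPC.finite_iff (R := Γ(S, W)) (A := Γ(Y, V))
      (B := Γ(X, π ⁻¹ᵁ V)) M m
    rw [Groth.Agent.H9Misc.DRingRelPC.iff_via (R := Γ(S, W)) (A := Γ(X, π ⁻¹ᵁ V))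
        { ψ.hom with commutes' := hψ.2.2 } hψ.surjective M m,
      Groth.Agent.H9Misc.DRingRelPC.iff_via (R := Γ(S, W)) (A := Γ(Y, V))
        { φ.hom with commutes' := hφ.2.2 } hφ.surjective _ m] at hfin
    constructor
    · intro h
      exact ⟨hV, n, φ, hφ, (immPC_iff_restrictD' m _ hV φ hφ.surjective _ eV).2
        (hfin.1 ((immPC_iff_restrictD' m E hU ψ hψ.surjective M eU).1 (h.any hU ψ hψ)))⟩
    · intro h
      exact ⟨hU, k, ψ, hψ, (immPC_iff_restrictD' m E hU ψ hψ.surjective M eU).2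
        (hfin.2 ((immPC_iff_restrictD' m _ hV φ hφ.surjective _ eV).1 (h.any hV φ hφ)))⟩
  constructor
  · intro h
    refine isPseudoCoherentRel_of_locally fun y => ?_
    obtain ⟨W, hW, hyW, -⟩ :=
      exists_isAffineOpen_mem_and_subset (X := S) (x := q.base y) (U := ⊤) trivial
    obtain ⟨V, hV, hyV, hVW⟩ :=
      exists_isAffineOpen_mem_and_subset (X := Y) (x := y) (U := q ⁻¹ᵁ W) hyW
    exact ⟨V, W, hyV, hW, (key V W hV hW hVW).1
      ((isPseudoCoherentRel_iff.1 h).2 _ W (hV.preimage π) hW (π.preimage_mono hVW))⟩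
  · intro h
    refine isPseudoCoherentRel_of_locally fun x => ?_
    obtain ⟨W, hW, hyW, -⟩ :=
      exists_isAffineOpen_mem_and_subset (X := S) (x := q.base (π.base x)) (U := ⊤) trivial
    obtain ⟨V, hV, hyV, hVW⟩ :=
      exists_isAffineOpen_mem_and_subset (X := Y) (x := π.base x) (U := q ⁻¹ᵁ W) hyW
    exact ⟨π ⁻¹ᵁ V, W, hyV, hW, (key V W hV hW hVW).2 ((isPseudoCoherentRel_iff.1 h).2 V W hV hW hVW)⟩

end Groth.Agent.S7210
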