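import Groth.Statements.S7214
import Groth.Agent.KSix54.Rel.Basic
import Groth.Agent.KFlatLib.Perfect.Retract
-- import your own Groth.Agent.* helpers here

set_option autoImplicit false
universe u
open CategoryTheory CategoryTheory.Limits AlgebraicGeometry Opposite TopologicalSpace
attribute [local instance] HasDerivedCategory.standard
open FlatMor

set_option backward.isDefEq.respectTransparency false
set_option linter.style.haveILetI false

namespace Groth.Agent.S7214

/-- Let f : X ⟶ S be a morphism of schemes, m an integer, and E, K objects of D(O_X). If the direct sum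
E ⊕ K is m-pseudo-coherent relative to f (chart form; in particular f is locally of finite type),
then so are E and K. -/
theorem result {X S : Scheme.{u}} (f : X ⟶ S) (m : ℤ) (E K : DCoh.D X)
    [HasBinaryBiproduct E K] (h : DerSch.IsPseudoCoherentRel f m (E ⊞ K)) :
    DerSch.IsPseudoCoherentRel f m E ∧ DerSch.IsPseudoCoherentRel f m K := by
  open Groth.Agent.KSix54 Groth.Agent.KFlatLib in
  obtain ⟨hf, hEK⟩ := isPseudoCoherentRel_iff.1 h
  have key : ∀ (U : X.Opens) (V : S.Opens), IsAffineOpen U → IsAffineOpen V → U ≤ f ⁻¹ᵁ V →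
      PCOn f m E U V ∧ PCOn f m K U V := fun U V hU hV hUV => by
    obtain ⟨hU, n, φ, hφ, hP⟩ := hEK U V hU hV hUV
    haveI := isClosedImmersion_imm hU φ hφ.surjective
    let F := rho U.ι ⋙ pushD (imm U φ)
    haveI := preservesBinaryBiproducts_of_preservesBiproducts F
    have h2 := locPC_summand m (F.obj E) (F.obj K) (LocPC.of_iso (F.mapBiprod E K) hP)
    exact ⟨⟨hU, n, φ, hφ, h2.1⟩, ⟨hU, n, φ, hφ, h2.2⟩⟩
  exact ⟨isPseudoCoherentRel_iff.2 ⟨hf, fun U V a b c => (key U V a b c).1⟩,
    isPseudoCoherentRel_iff.2 ⟨hf, fun U V a b c => (key U V a b c).2⟩⟩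

end Groth.Agent.S7214
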