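import Groth.Statements.S7217
import Groth.Agent.FlatMor3.RelPC.Glue
-- import your own Groth.Agent.* helpers here

set_option autoImplicit false
universe u
open CategoryTheory CategoryTheory.Limits AlgebraicGeometry Opposite TopologicalSpace
attribute [local instance] HasDerivedCategory.standard
open FlatMor

namespace Groth.Agent.S7217

/-- Let f : X ⟶ S be a morphism of schemes, U ⊆ X and V ⊆ S affine opens with f(U) ⊆ V such that Γ(S, V)
→ Γ(X, U) is of finite type, E an object of D(O_X), m an integer, and g_1, …, g_k ∈ Γ(X, U) elements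
generating the unit ideal, so that the basic opens D(g_j) form a standard affine open covering of U.
Then the following are equivalent: for every j there is a surjection from a polynomial ring Γ(S,
V)[x_1, …, x_n] onto Γ(X, D(g_j)), compatible with f, along whose closed immersion into affine space
over V the direct image of E restricted to D(g_j) is m-pseudo-coherent; there is such a surjection
onto Γ(X, U) along whose closed immersion the direct image of E|_U is m-pseudo-coherent. -/
theorem result {X S : Scheme.{u}} (f : X ⟶ S) (U : X.affineOpens)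
    (V : S.affineOpens) (h : (U : X.Opens) ≤ f ⁻¹ᵁ (V : S.Opens))
    (hft : (f.appLE (V : S.Opens) (U : X.Opens) h).hom.FiniteType) (m : ℤ) (E : DCoh.D X)
    {k : ℕ} (g : Fin k → Γ(X, (U : X.Opens))) (hg : Ideal.span (Set.range g) = ⊤) :
    (∀ j : Fin k, ∃ (n : ℕ) (φ : MvPolynomial (Fin n) Γ(S, (V : S.Opens)) →+* Γ(X, X.basicOpen (g j))),
        DerSch.IsChart f (X.basicOpen (g j)) (V : S.Opens) ((X.basicOpen_le (g j)).trans h) φ ∧
          DerSch.ChartPC m E (X.basicOpen (g j)) (V : S.Opens) φ) ↔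
      ∃ (n : ℕ) (φ : MvPolynomial (Fin n) Γ(S, (V : S.Opens)) →+* Γ(X, (U : X.Opens))),
        DerSch.IsChart f (U : X.Opens) (V : S.Opens) h φ ∧ DerSch.ChartPC m E (U : X.Opens) (V : S.Opens) φ := by
  open Groth.Agent.KSix54 in
  constructor
  · intro H
    letI := (f.appLE (V : S.Opens) (U : X.Opens) h).hom.toAlgebra
    haveI : Algebra.FiniteType Γ(S, (V : S.Opens)) Γ(X, (U : X.Opens)) := hft
    obtain ⟨n, α, hα⟩ := Groth.Agent.H9Misc.DRingRelPC.exists_presentation Γ(S, (V : S.Opens)) Γ(X, (U : X.Opens))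
    have hφ : IsPres f (U : X.Opens) (V : S.Opens) (CommRingCat.ofHom α.toRingHom :
        CommRingCat.of (MvPolynomial (Fin n) Γ(S, (V : S.Opens))) ⟶ _) := ⟨h, hα, fun r => α.commutes r⟩
    refine ⟨n, α.toRingHom, hφ.isChart h, (chartPC_iff m E U.2 α.toRingHom hα).2 ?_⟩
    exact Groth.Agent.FlatMor3.RelPC.immPC_of_pcOn_cover U.2 _ hφ g hg fun j => by
      obtain ⟨k, ψ, hc, hP⟩ := H j
      exact ⟨U.2.basicOpen _, k, _, isPres_of_isChart hc, (chartPC_iff m E (U.2.basicOpen _) ψ hc.1).1 hP⟩
  · rintro ⟨n, φ, hc, hP⟩ j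
    have hU : PCOn f m E (U : X.Opens) (V : S.Opens) :=
      ⟨U.2, n, _, isPres_of_isChart hc, (chartPC_iff m E U.2 φ hc.1).1 hP⟩
    obtain ⟨hW, k, ψ, hψ, hQ⟩ := hU.basicOpen (g j)
    exact ⟨k, ψ.hom, hψ.isChart _, (chartPC_iff m E hW ψ.hom hψ.surjective).2 hQ⟩

end Groth.Agent.S7217
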