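import Groth.Statements.S7226
import Groth.Agent.KSix54.Rel.Smooth
-- import your own Groth.Agent.* helpers here

set_option autoImplicit false
universe u
open CategoryTheory CategoryTheory.Limits AlgebraicGeometry Opposite TopologicalSpace
attribute [local instance] HasDerivedCategory.standard
open FlatMor

set_option backward.isDefEq.respectTransparency false
set_option linter.style.haveILetI false

namespace Groth.Agent.S7226

/-- Suppose a : X ⟶ T is locally of finite type, and b : T ⟶ S is a flat morphism that is locally of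
finite presentation. Fix an integer m and an object E in D(O_X). Then m-pseudo-coherence of E
relative to a holds exactly when E is m-pseudo-coherent relative to the composite a ≫ b : X ⟶ S
(relative pseudo-coherence in chart form). -/
theorem result {X T S : Scheme.{u}}
    (a : X ⟶ T) (b : T ⟶ S) [LocallyOfFiniteType a] [Flat b] [LocallyOfFinitePresentation b]
    (m : ℤ) (E : DCoh.D X) :
    DerSch.IsPseudoCoherentRel (a ≫ b) m E ↔ DerSch.IsPseudoCoherentRel a m E := by
  open Groth.Agent.KSix54 Groth.Agent.KFlatLib in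
  have hb := fun t => isNPseudoCoherent_flat b t
  have key : ∀ x : X, ∃ (U : X.Opens) (V : T.Opens) (W : S.Opens), x ∈ U ∧ IsAffineOpen U ∧
      IsAffineOpen V ∧ IsAffineOpen W ∧ U ≤ a ⁻¹ᵁ V ∧ V ≤ b ⁻¹ᵁ W ∧
      (PCOn (a ≫ b) m E U W ↔ PCOn a m E U V) := fun x => by
    obtain ⟨U, V, W, hxU, hU, hV, hW, hUV, hVW⟩ := exists_affine_nhds a b x
    obtain ⟨k, φ, hφ⟩ := exists_isPres (f := a) hU hV hUV
    obtain ⟨n, ψ, hψ⟩ := exists_isPres (f := b) hV hW hVW
    haveI := isClosedImmersion_imm hU φ hφ.surjective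
    haveI := IsClosedImmersion.spec_of_surjective (stackψ k ψ) (stackψ_surjective k ψ hψ.surjective)
    refine ⟨U, V, W, hxU, hU, hV, hW, hUV, hVW, ?_⟩
    rw [pcOn_comp_iff hU φ hφ ψ hψ,
      locPC_push_iff (Spec.map (stackψ k ψ)) (fun t => pushPC_stack (hb t) hV hW k ψ hψ)]
    exact ⟨fun h => ⟨hU, k, φ, hφ, h⟩, fun h => h.any hU φ hφ⟩
  constructor
  · intro h
    refine isPseudoCoherentRel_of_locally fun x => ?_
    obtain ⟨U, V, W, hxU, hU, hV, hW, hUV, hVW, e⟩ := key x
    exact ⟨U, V, hxU, hV, e.1 ((isPseudoCoherentRel_iff.1 h).2 U W hU hW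
      (hUV.trans (a.preimage_mono hVW)))⟩
  · intro h
    refine isPseudoCoherentRel_of_locally fun x => ?_
    obtain ⟨U, V, W, hxU, hU, hV, hW, hUV, hVW, e⟩ := key x
    exact ⟨U, W, hxU, hW, e.2 ((isPseudoCoherentRel_iff.1 h).2 U V hU hV hUV)⟩

end Groth.Agent.S7226
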