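import Groth.Statements.S7228
import Groth.Agent.FlatMor3.RelPC.BaseDescent
import Mathlib.AlgebraicGeometry.Morphisms.UniversallyOpen
-- import your own Groth.Agent.* helpers here

set_option autoImplicit false
universe u
open CategoryTheory CategoryTheory.Limits AlgebraicGeometry Opposite TopologicalSpace
attribute [local instance] HasDerivedCategory.standard
open FlatMor

set_option backward.isDefEq.respectTransparency false
set_option linter.style.haveILetI false

namespace Groth.Agent.S7228

/-- Let f : X ⟶ S be locally of finite type and let (h_i : S_i ⟶ S) be an fppf covering of the base: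
every h_i is flat and locally of finite presentation and the h_i are jointly surjective. Write X_i =
X ×_S S_i with projections g_i : X_i ⟶ X and f_i : X_i ⟶ S_i, let E be an object of D(O_X) with
quasi-coherent cohomology sheaves, and let m be an integer. Then, the derived pullbacks Lg_i^* being
assumed to exist, E is m-pseudo-coherent relative to f if and only if for every i the object Lg_i^*
E is m-pseudo-coherent relative to f_i (chart form). -/
theorem result {X S : Scheme.{u}} (f : X ⟶ S)
    [LocallyOfFiniteType f] {ι : Type u} (Si : ι → Scheme.{u}) (h : ∀ i, Si i ⟶ S) [∀ i, Flat (h i)]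
    [∀ i, LocallyOfFinitePresentation (h i)] (hcov : ∀ s : S, ∃ (i : ι) (t : Si i), (h i).base t = s)
    [∀ i, DCoh.HasLpull (pullback.fst f (h i))] (m : ℤ) (E : DCoh.D X) (hE : DCoh.IsQCohD E) :
    DerSch.IsPseudoCoherentRel f m E ↔
      ∀ i, DerSch.IsPseudoCoherentRel (pullback.snd f (h i)) m ((DCoh.Lpull (pullback.fst f (h i))).obj E) := by
  open Groth.Agent.KSix54 Groth.Agent.FlatMor3.RelPC in
  constructor
  · intro hP i
    refine isPseudoCoherentRel_of_locally fun x => ?_
    have hc := IsPullback.of_hasPullback f (h i)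
    obtain ⟨V, hV, hxV, -⟩ := exists_isAffineOpen_mem_and_subset (X := S)
      (x := f.base ((pullback.fst f (h i)).base x)) (U := ⊤) trivial
    have hxV' : (h i).base ((pullback.snd f (h i)).base x) ∈ V := by
      rw [← Scheme.Hom.comp_apply, ← hc.w, Scheme.Hom.comp_apply]
      exact hxV
    obtain ⟨V', hV', hxV'', hV'V⟩ := exists_isAffineOpen_mem_and_subset (X := Si i)
      (x := (pullback.snd f (h i)).base x) (U := (h i) ⁻¹ᵁ V) hxV'
    obtain ⟨U, hU, hxU, hUV⟩ := exists_isAffineOpen_mem_and_subset (X := X)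
      (x := (pullback.fst f (h i)).base x) (U := f ⁻¹ᵁ V) hxV
    exact ⟨pullback.fst f (h i) ⁻¹ᵁ U ⊓ pullback.snd f (h i) ⁻¹ᵁ V', V', ⟨hxU, hxV''⟩, hV', (pcOn_baseChange hc hE hU hV hV' hUV hV'V).1
      ((isPseudoCoherentRel_iff.1 hP).2 U V hU hV hUV)⟩
  · intro hP
    refine isPseudoCoherentRel_of_locally fun x => ?_
    obtain ⟨i, t, hts⟩ := hcov (f.base x)
    obtain ⟨V₀, hV₀, hxV₀, -⟩ := exists_isAffineOpen_mem_and_subset (X := S)
      (x := f.base x) (U := ⊤) trivial
    obtain ⟨W, hW, htW, hWV⟩ := exists_isAffineOpen_mem_and_subset (X := Si i)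
      (x := t) (U := (h i) ⁻¹ᵁ V₀) (show (h i).base t ∈ V₀ from hts ▸ hxV₀)
    let O : S.Opens := ⟨(h i).base '' (W : Set (Si i)), (h i).isOpenMap _ W.2⟩
    obtain ⟨r, hrO, hxr⟩ := hV₀.exists_basicOpen_le (V := O) ⟨f.base x, show f.base x ∈ O from ⟨t, htW, hts⟩⟩ hxV₀
    have hW' : IsAffineOpen (W ⊓ (h i) ⁻¹ᵁ S.basicOpen r) := by
      rw [← Scheme.basicOpen_appLE (h i) W V₀ hWV r]
      exact hW.basicOpen _
    obtain ⟨U, hU, hxU, hUV⟩ := exists_isAffineOpen_mem_and_subset (X := X)
      (x := x) (U := f ⁻¹ᵁ S.basicOpen r) hxr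
    have hc := IsPullback.of_hasPullback f (h i)
    refine ⟨U, S.basicOpen r, hxU, hV₀.basicOpen r,
      (pcOn_baseChange hc hE hU (hV₀.basicOpen r) hW' hUV inf_le_right).2 (fun s hs => ?_) ?_⟩
    · obtain ⟨w, hw, rfl⟩ := hrO hs
      exact ⟨w, ⟨hw, hs⟩, rfl⟩
    · refine (isPseudoCoherentRel_iff.1 (hP i)).2 _ _ ?_ hW' inf_le_right
      haveI : IsAffine _ := hU
      haveI : IsAffine _ := hV₀.basicOpen r
      haveI : IsAffine _ := hW'
      exact .of_isIso (Scheme.Hom.isPullback_resLE hc inf_le_right hUV rfl).isoPullback.hom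

end Groth.Agent.S7228
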