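import Groth.Statements.S7234
import Groth.Agent.FlatMor3.RelPC.AffineTest
import Groth.Agent.KSix54.Rel.Basic
-- import your own Groth.Agent.* helpers here

set_option autoImplicit false
universe u
open CategoryTheory CategoryTheory.Limits AlgebraicGeometry Opposite TopologicalSpace
attribute [local instance] HasDerivedCategory.standard
open FlatMor

set_option backward.isDefEq.respectTransparency false
set_option linter.style.haveILetI false

namespace Groth.Agent.S7234

/-- (1) ⇔ (3): let f : X ⟶ S be locally of finite type, E an object of D(O_X) all of whose cohomology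
sheaves are quasi-coherent, and m an integer. Then E is m-pseudo-coherent relative to f (chart form)
if and only if for every affine open U of X mapping into an affine open V of S the complex RΓ(U, E),
viewed in D(Γ(X, U)), is m-pseudo-coherent relative to Γ(S, V) in the ring-level sense. Here RΓ(U,
E) is expressed through the equivalence of D(Γ(X, U)) with the quasi-coherent derived category of
the affine scheme U: the condition is asked of every object M of D(Γ(X, U)) whose associated complex
of modules on Spec Γ(X, U) is isomorphic to E|_U carried along U ≅ Spec Γ(X, U) (the functor M ↦ M~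
being assumed left exact, which it is). -/
theorem result {X S : Scheme.{u}} (f : X ⟶ S)
    [LocallyOfFiniteType f] [∀ U : X.affineOpens, PreservesFiniteLimits (tilde.functor (X.presheaf.obj (op (U : X.Opens))))]
    (E : DCoh.D X) (hE : DCoh.IsQCohD E) (m : ℤ) :
    DerSch.IsPseudoCoherentRel f m E ↔
      ∀ (U : X.affineOpens) (V : S.affineOpens) (h : (U : X.Opens) ≤ f ⁻¹ᵁ (V : S.Opens))
        (G : CochainComplex X.Modules ℤ), Nonempty (DCoh.toD X G ≅ E) →
        ∀ M : Dual.D Γ(X, (U : X.Opens)),
          Nonempty ((DCoh.tildeD (X.presheaf.obj (op (U : X.Opens)))).obj M ≅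
            DCoh.toD _ ((DerSch.pushCx U.2.isoSpec.hom).obj ((DCoh.restrictCx (U : X.Opens)).obj G))) →
          letI := (f.appLE (V : S.Opens) (U : X.Opens) h).hom.toAlgebra
          DerCA.IsRelPseudoCoherent Γ(S, (V : S.Opens)) Γ(X, (U : X.Opens)) m M := by
  open Groth.Agent.KSix54 Groth.Agent.KFlatLib Groth.Agent.FlatMor3.RelPC in
  constructor
  · rintro hf U V h G ⟨eG⟩ M ⟨eM⟩
    letI := (f.appLE (V : S.Opens) (U : X.Opens) h).hom.toAlgebra
    obtain ⟨hU, n, φ, hφ, hP⟩ := (isPseudoCoherentRel_iff.1 hf).2 U V U.2 V.2 h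
    exact ⟨n, { φ.hom with commutes' := hφ.2.2 }, hφ.surjective,
      (immPC_iff_restrictD m E U.2 φ hφ.surjective G eG M eM).1 hP⟩
  · intro H
    refine isPseudoCoherentRel_iff.2 ⟨inferInstance, fun U V hU hV hUV => ?_⟩
    obtain ⟨n, φ, hφ⟩ := exists_isPres (f := f) hU hV hUV
    obtain ⟨M, ⟨eM⟩⟩ := exists_sections E hE hU (DerivedCategory.Q.objPreimage E) (repIso E)
    have h1 := H ⟨U, hU⟩ ⟨V, hV⟩ hUV _ ⟨repIso E⟩ M ⟨eM⟩
    letI := (f.appLE V U hUV).hom.toAlgebra
    refine ⟨hU, n, φ, hφ, (immPC_iff_restrictD m E hU φ hφ.surjective _ (repIso E) M eM).2 ?_⟩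
    exact (Groth.Agent.H9Misc.DRingRelPC.iff_via (R := Γ(S, V)) (A := Γ(X, U))
      { φ.hom with commutes' := hφ.2.2 } hφ.surjective M m).1 h1

end Groth.Agent.S7234
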