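import Groth.Statements.S7251
import Groth.Agent.KFlatLib.Scheme.QCohDerived

set_option autoImplicit false
universe u
open CategoryTheory CategoryTheory.Limits AlgebraicGeometry
attribute [local instance] HasDerivedCategory.standard
open Perf

namespace Groth.Agent.S7251

/-- Let f : X ⟶ Y be a quasi-compact and quasi-separated morphism of schemes. Assume Rf_* exists and
sends D_QCoh(O_X) into D_QCoh(O_Y), let an adjunction Lf^* ⊣ Rf_* be given as data, and assume the
inclusion functors D_QCoh ⥤ D have (chosen) right adjoints DQ_X and DQ_Y. Then Rf_* ∘ DQ_X = DQ_Y ∘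
Rf_*: for every K ∈ D(O_X) the comparison map Rf_*(DQ_X K) ⟶ DQ_Y(Rf_* K) in D_QCoh(O_Y),
corresponding under the adjunction to Rf_* applied to the counit DQ_X K ⟶ K, is an isomorphism. -/
theorem result {X Y : Scheme.{u}} (f : X ⟶ Y) [QuasiCompact f] [QuasiSeparated f]
    [DCoh.HasRpush f] (h : DCoh.RpushPreservesQCoh f) [DCoh.HasLpull f] (adj : DCoh.Lpull f ⊣ DCoh.Rpush f)
    [(ObjectProperty.ι (DCoh.IsQCohD (X := X))).IsLeftAdjoint] [(ObjectProperty.ι (DCoh.IsQCohD (X := Y))).IsLeftAdjoint]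
    (K : DCoh.D X) :
    IsIso ((Adjunction.ofIsLeftAdjoint (ObjectProperty.ι (DCoh.IsQCohD (X := Y)))).homEquiv
      (⟨(DCoh.Rpush f).obj (((ObjectProperty.ι (DCoh.IsQCohD (X := X))).rightAdjoint.obj K).obj),
        h _ (((ObjectProperty.ι (DCoh.IsQCohD (X := X))).rightAdjoint.obj K).property)⟩ : DCoh.DQCoh Y)
      ((DCoh.Rpush f).obj K)
      ((DCoh.Rpush f).map ((Adjunction.ofIsLeftAdjoint (ObjectProperty.ι (DCoh.IsQCohD (X := X)))).counit.app K))) := by
  let adjX := Adjunction.ofIsLeftAdjoint (ObjectProperty.ι (DCoh.IsQCohD (X := X)))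
  let adjY := Adjunction.ofIsLeftAdjoint (ObjectProperty.ι (DCoh.IsQCohD (X := Y)))
  let D := (ObjectProperty.ι (DCoh.IsQCohD (X := X))).rightAdjoint.obj K
  let ε : D.obj ⟶ K := adjX.counit.app K
  refine isIso_of_yoneda_map_bijective _ fun M => ?_
  let L : DCoh.DQCoh X := ⟨(DCoh.Lpull f).obj M.obj, Groth.Agent.KFlatLib.isQCohD_lpull f M.property⟩
  -- maps into `DQ_X K` from the pullback
  have h1 : Function.Bijective (fun k : L.obj ⟶ D.obj => k ≫ ε) := by
    have e : (fun k : L.obj ⟶ D.obj => k ≫ ε) = fun k => (adjX.homEquiv L K).symm (ObjectProperty.homMk k) := by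
      funext k
      exact (adjX.homEquiv_counit L K (ObjectProperty.homMk k)).symm
    rw [e]
    exact (adjX.homEquiv L K).symm.bijective.comp ⟨fun a b hab => congrArg (fun t => t.hom) hab, fun k => ⟨k.hom, rfl⟩⟩
  -- transposed
  have h2 : Function.Bijective (fun k : M.obj ⟶ (DCoh.Rpush f).obj D.obj => k ≫ (DCoh.Rpush f).map ε) := by
    have e : (fun k : M.obj ⟶ (DCoh.Rpush f).obj D.obj => k ≫ (DCoh.Rpush f).map ε) =
        adj.homEquiv M.obj K ∘ (fun k : L.obj ⟶ D.obj => k ≫ ε) ∘ (adj.homEquiv M.obj D.obj).symm := by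
      funext k
      simp only [Function.comp]
      rw [Adjunction.homEquiv_naturality_right, Equiv.apply_symm_apply]
    rw [e]
    exact (adj.homEquiv M.obj K).bijective.comp (h1.comp (adj.homEquiv M.obj D.obj).symm.bijective)
  let O : DCoh.DQCoh Y := ⟨(DCoh.Rpush f).obj D.obj, h _ D.property⟩
  have e3 : (fun g : M ⟶ O => g ≫ adjY.homEquiv O ((DCoh.Rpush f).obj K) ((DCoh.Rpush f).map ε)) =
      adjY.homEquiv M ((DCoh.Rpush f).obj K) ∘
        (fun k : M.obj ⟶ (DCoh.Rpush f).obj D.obj => k ≫ (DCoh.Rpush f).map ε) ∘ fun g => g.hom := by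
    funext g
    exact (adjY.homEquiv_naturality_left g _).symm
  change Function.Bijective (fun g : M ⟶ O => g ≫ adjY.homEquiv O ((DCoh.Rpush f).obj K) ((DCoh.Rpush f).map ε))
  rw [e3]
  exact (adjY.homEquiv _ _).bijective.comp (h2.comp
    ⟨fun a b hab => ObjectProperty.hom_ext _ hab, fun k => ⟨ObjectProperty.homMk k, rfl⟩⟩)

end Groth.Agent.S7251
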