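import Groth.Statements.S7282
import Groth.Agent.ProSec71.Main

set_option autoImplicit false
open CategoryTheory CategoryTheory.Limits AlgebraicGeometry Opposite
universe u
open ProEtS

namespace Groth.Agent.S7282

/-- Let X be a scheme and F an abelian sheaf on the small etale site of X. Let (Y_i) be a cofiltered
system of objects of the small pro-etale site of X, each quasi-compact and quasi-separated, with
affine transition morphisms, and let Y be a cone over it which is a limit of the Y_i as schemes.
Then the restriction maps exhibit the sections of the pro-etale pullback of F over Y as the colimit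
of its sections over the Y_i. (Continuity of the inclusion of the etale site into the pro-etale site
is carried as a binder.) -/
theorem result (X : Scheme.{u}) [ProEtS.EpsCont X]
    {I : Type u} [SmallCategory I] [IsCofiltered I] (D : I ⥤ X.ProEt)
    [∀ (i j : I) (a : i ⟶ j), IsAffineHom (D.map a).left]
    [∀ i, CompactSpace ↥(D.obj i).left] [∀ i, QuasiSeparatedSpace ↥(D.obj i).left]
    (c : Cone D) (hc : IsLimit ((Scheme.ProEt.forget X ⋙ Over.forget X).mapCone c))
    (F : EtCoh.Ab X) :
    Nonempty (IsColimit (((ProEtS.epsPull X).obj F).obj.mapCocone c.op)) := by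
  have := ProEtLib.repFlat_eps (X := X)
  let Q := SitePullUnit.pulled (ProEtS.eps X) (Scheme.ProEt.topology X) F
  let e : ((ProEtS.epsPull X).obj F).obj ≅ Q :=
    (sheafToPresheaf _ _).mapIso ((ProEtLib.epsPullIso X).app F)
  suffices h : IsColimit (Q.mapCocone c.op) from ⟨IsColimit.mapCoconeEquiv e.symm h⟩
  have : PreservesFilteredColimitsOfSize.{u, u} (forget AddCommGrpCat.{u + 1}) :=
    preservesFilteredColimitsOfSize_of_univLE.{u + 1, u + 1, u, u} _
  have : PreservesColimitsOfShape Iᵒᵖ (forget AddCommGrpCat.{u + 1}) :=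
    PreservesFilteredColimitsOfSize.preserves_filtered_colimits _
  have : ReflectsColimit (D.op ⋙ Q) (forget AddCommGrpCat.{u + 1}) :=
    reflectsColimit_of_reflectsIsomorphisms _ _
  refine isColimitOfReflects (forget AddCommGrpCat.{u + 1}) (Types.FilteredColimit.isColimitOf _ _ (fun s => ?_) fun i j xi xj h => ?_)
  · obtain ⟨α, _, _, _, F₀, _⟩ := IsFiltered.exists_directed Iᵒᵖ
    let P : ProSec71.PTower X α :=
      { D := F₀.leftOp ⋙ D
        c := c.whisker F₀.leftOp
        hc := (Functor.Initial.isLimitWhiskerEquiv F₀.leftOp ((Scheme.ProEt.forget X ⋙ Over.forget X).mapCone c)).symm hc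
        haff := fun _ _ g => inferInstanceAs (IsAffineHom (D.map (F₀.leftOp.map g)).left)
        hqc := fun a => inferInstanceAs (CompactSpace ↥(D.obj (F₀.leftOp.obj a)).left)
        hqs := fun a => inferInstanceAs (QuasiSeparatedSpace ↥(D.obj (F₀.leftOp.obj a)).left) }
    obtain ⟨k, u, hu⟩ := ProSec71.exists_stage (P := P) F s
    exact ⟨op (F₀.leftOp.obj (op k)), u, hu.symm⟩
  · let k := IsCofiltered.min i.unop j.unop
    let a : k ⟶ i.unop := IsCofiltered.minToLeft _ _
    let b : k ⟶ j.unop := IsCofiltered.minToRight _ _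
    let d := Q.map (D.map a).op xi - Q.map (D.map b).op xj
    let h' : Q.map (c.π.app i.unop).op xi = Q.map (c.π.app j.unop).op xj := h
    have hd : Q.map (c.π.app k).op d = 0 := by
      rw [map_sub, sub_eq_zero, ProSec71.map_map, ProSec71.map_map, c.w, c.w]
      exact h'
    let O : (D.obj k).left.Opens := ⟨ProSec71.zeroSet F d, ProSec71.isOpen_zeroSet F d⟩
    have hO := (ProSec71.map_eq_zero_iff F d (c.π.app k)).1 hd
    let D₀ := D ⋙ Scheme.ProEt.forget X ⋙ Over.forget X
    have : ∀ {p q : I} (g : p ⟶ q), IsAffineHom (D₀.map g) := fun g =>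
      inferInstanceAs (IsAffineHom (D.map g).left)
    have : ∀ p, CompactSpace ↥(D₀.obj p) := fun p => inferInstanceAs (CompactSpace ↥(D.obj p).left)
    obtain ⟨l, g, hl⟩ := exists_map_eq_top D₀ ((Scheme.ProEt.forget X ⋙ Over.forget X).mapCone c) hc (i := k) O
      (top_unique fun z _ => hO ⟨z, rfl⟩)
    have h0 : Q.map (D.map g).op d = 0 := (ProSec71.map_eq_zero_iff F d (D.map g)).2 (by
      rintro _ ⟨z, rfl⟩
      exact hl.ge (Set.mem_univ z))
    refine ⟨op l, (g ≫ a).op, (g ≫ b).op, ?_⟩
    show Q.map (D.map (g ≫ a)).op xi = Q.map (D.map (g ≫ b)).op xj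
    rw [map_sub, sub_eq_zero, ProSec71.map_map, ProSec71.map_map, ← D.map_comp, ← D.map_comp] at h0
    exact h0

end Groth.Agent.S7282
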