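import Groth.Statements.S7287
import Groth.Agent.FibDim.Minimal
import Groth.Agent.FibDim.Comp
import Groth.Agent.VarDim.Fibre
import Mathlib.AlgebraicGeometry.Morphisms.Preimmersion

set_option autoImplicit false
open CategoryTheory CategoryTheory.Limits AlgebraicGeometry Opposite
universe u
open RelCyc

namespace Groth.Agent.S7287

/-- Let f from X to S be locally of finite type, r a natural number and g from S' to S a surjective
morphism. Let S'' be the fibre product of S' with itself over S (projections p, q), X' the base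
change of X along g (structure map f', projection g' to X), and X'' the base change of X along S''
with structure map f'' and the two projections p', q' to X' lying over p and q and compatible with
the projections to X. Let x be a point of X whose residue field has transcendence degree r over that
of f(x). If x1 and x2 are points of X' mapping to x whose residue fields have transcendence degree r
over those of their images in S', then there is a point of X'' whose residue field has transcendence
degree r over that of its image in S'' and whose two projections are x1 and x2. -/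
theorem result {X S S' S'' X' X'' : Scheme.{u}}
    (f : X ⟶ S) [LocallyOfFiniteType f] (r : ℕ) (g : S' ⟶ S) [Surjective g]
    (p q : S'' ⟶ S') (hS : IsPullback p q g g)
    (f' : X' ⟶ S') (g' : X' ⟶ X) (hX : IsPullback g' f' f g)
    (f'' : X'' ⟶ S'') (p' q' : X'' ⟶ X') (hp : IsPullback p' f'' f' p) (hq : IsPullback q' f'' f' q)
    (hpq : p' ≫ g' = q' ≫ g')
    (x : ↥X) (hx : Dual3.resTrdeg f x = r)
    (x₁ x₂ : ↥X') (h₁ : g'.base x₁ = x) (h₂ : g'.base x₂ = x)
    (hx₁ : Dual3.resTrdeg f' x₁ = r) (hx₂ : Dual3.resTrdeg f' x₂ = r) :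
    ∃ x'' : ↥X'', Dual3.resTrdeg f'' x'' = r ∧ p'.base x'' = x₁ ∧ q'.base x'' = x₂ := by
  haveI : LocallyOfFiniteType f' := MorphismProperty.of_isPullback (P := @LocallyOfFiniteType) hX inferInstance
  haveI : LocallyOfFiniteType f'' := MorphismProperty.of_isPullback (P := @LocallyOfFiniteType) hp inferInstance
  -- relative degrees
  have hrd : ∀ {A B : Scheme.{u}} (φ : A ⟶ B) [LocallyOfFiniteType φ] (a : A),
      Dual3.resTrdeg φ a = (FibDim.rd φ a : Cardinal) := fun φ _ a => (FibDim.rd_eq_rdeg φ a).symm
  rw [hrd f] at hx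
  rw [hrd f'] at hx₁ hx₂
  -- points of the fibre product over `x` of maximal relative degree are maximal in their fibres
  have hmax : ∀ (y w : X'), g'.base y = x → (FibDim.rd f' y : Cardinal.{u}) = r → w ⤳ y → g'.base w = x →
      f' w = f' y → w = y := by
    intro y w hy hry hwy hw hfw
    by_contra hne
    have h3 := FibDim.rd_lt f' hwy hne hfw
    have h4 := FibDim.rd_baseChange_le hX w
    have hry' : FibDim.rd f' y = r := by exact_mod_cast hry
    have hx' : FibDim.rd f x = r := by exact_mod_cast hx
    rw [show g' w = x from hw, hx'] at h4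
    omega
  -- `X'' = X' ×_X X'`
  have hP : IsPullback p' q' g' g' := by
    have h0 := hp.paste_vert hS
    rw [← hq.w, ← hX.w] at h0
    exact h0.of_bot hpq hX
  obtain ⟨z₀, hz₁, hz₂⟩ := Scheme.exists_preimage_of_isPullback hP x₁ x₂ (h₁.trans h₂.symm)
  -- the points over `(x₁, x₂)` form the underlying space of a preimmersed scheme
  let j₁ := Limits.pullback.fst p' (X'.fromSpecResidueField x₁)
  let j := Limits.pullback.fst (j₁ ≫ q') (X'.fromSpecResidueField x₂) ≫ j₁
  have hrange : Set.range j = {w | p' w = x₁ ∧ q' w = x₂} := by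
    ext w
    simp only [j, Scheme.Hom.comp_base, TopCat.coe_comp, Set.range_comp, Scheme.Pullback.range_fst,
      Scheme.range_fromSpecResidueField, Set.mem_image, Set.mem_preimage, Set.mem_singleton_iff,
      Set.mem_ofPred_eq, Function.comp_apply]
    constructor
    · rintro ⟨a, ha, rfl⟩
      refine ⟨?_, ha⟩
      have : j₁ a ∈ Set.range j₁ := ⟨a, rfl⟩
      rw [Scheme.Pullback.range_fst, Scheme.range_fromSpecResidueField] at this
      exact this
    · rintro ⟨h1, h2⟩
      obtain ⟨a, rfl⟩ : w ∈ Set.range j₁ := by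
        rw [Scheme.Pullback.range_fst, Scheme.range_fromSpecResidueField]; exact h1
      exact ⟨a, h2, rfl⟩
  obtain ⟨a₀, ha₀⟩ : z₀ ∈ Set.range j := hrange.ge ⟨hz₁, hz₂⟩
  obtain ⟨a, -, hamax⟩ := FibDim.exists_maximal_generization a₀
  obtain ⟨hza₁, hza₂⟩ := hrange.le ⟨a, rfl⟩
  refine ⟨j a, ?_, hza₁, hza₂⟩
  rw [hrd f'']
  have hkey : FibDim.rd f'' (j a) = FibDim.rd f' (p' (j a)) := by
    refine FibDim.rd_baseChange_eq_of_minimal hp (j a) fun w hw hpw hfw => ?_
    have hqw : q' w = x₂ := by
      refine hmax x₂ (q' w) h₂ hx₂ (hza₂ ▸ hw.map q'.continuous) ?_ ?_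
      · show (q' ≫ g') w = x
        rw [← hpq, Scheme.Hom.comp_apply, hpw, hza₁]
        exact h₁
      · show (q' ≫ f') w = _
        rw [← hza₂, hq.w, Scheme.Hom.comp_apply, hfw]
        show (f'' ≫ q) (j a) = (q' ≫ f') (j a)
        rw [hq.w]
    obtain ⟨b, rfl⟩ : w ∈ Set.range j := hrange.ge ⟨hpw.trans hza₁, hqw⟩
    rw [hamax b (j.isEmbedding.isInducing.specializes_iff.1 hw)]
  rw [hkey, hza₁]
  exact hx₁

end Groth.Agent.S7287
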