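import Groth.Statements.S7288
import Groth.Agent.EtModLC71.EpsMod

set_option autoImplicit false
open CategoryTheory CategoryTheory.Limits AlgebraicGeometry Opposite
universe u
open EtModW

namespace Groth.Agent.S7288

/-- Let X be a scheme and Λ a ring. The essential image of the pullback functor from sheaves of
Λ-modules on the small etale site of X to sheaves of Λ-modules on the small pro-etale site is a weak
Serre subcategory: the kernel and the cokernel of a morphism between objects of the essential image
lie in it, and an extension of two objects of the essential image lies in it. (Continuity of the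
inclusion of the etale site into the pro-etale site is carried as a binder.) -/
theorem result (Λ : Type (u + 1)) [CommRing Λ] (X : Scheme.{u})
    [ProEtS.EpsCont X] :
    (∀ (F G : EtModW.ModP Λ X) (φ : F ⟶ G), (EtModW.epsPullMod Λ X).essImage F →
      (EtModW.epsPullMod Λ X).essImage G →
        (EtModW.epsPullMod Λ X).essImage (kernel φ) ∧ (EtModW.epsPullMod Λ X).essImage (cokernel φ)) ∧
    ∀ (T : ShortComplex (EtModW.ModP Λ X)), T.ShortExact →
      (EtModW.epsPullMod Λ X).essImage T.X₁ → (EtModW.epsPullMod Λ X).essImage T.X₃ →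
        (EtModW.epsPullMod Λ X).essImage T.X₂ := by
  have e : (fun F : EtModW.ModP Λ X => ∃ G : EtModW.Mod Λ X, (⊤ : ObjectProperty (EtModW.Mod Λ X)) G ∧
      Nonempty ((EtModW.epsPullMod Λ X).obj G ≅ F)) = (EtModW.epsPullMod Λ X).essImage := by
    funext F
    exact propext ⟨fun ⟨G, _, i⟩ => ⟨G, i⟩, fun ⟨G, i⟩ => ⟨G, trivial, i⟩⟩
  have h := EtModLC71.isWeakSerre_epsImage (Λ := Λ) (X := X) ⊤
  rw [e] at h
  exact ⟨fun F G φ hF hG => ⟨ObjectProperty.prop_kernel _ φ hF hG, ObjectProperty.prop_cokernel _ φ hF hG⟩,
    fun T hT h₁ h₃ => ObjectProperty.prop_X₂_of_shortExact _ hT h₁ h₃⟩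

end Groth.Agent.S7288
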