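import Groth.Statements.S7304
import Groth.Agent.BlowUpLib.Glue
import Groth.Agent.FormalFib6.Cplt
import Mathlib.RingTheory.AdicCompletion.AsTensorProduct
import Mathlib.RingTheory.AdicCompletion.Completeness

set_option autoImplicit false
set_option backward.isDefEq.respectTransparency false
set_option backward.isDefEq.respectTransparency.types false
set_option linter.style.haveILetI false
universe u
open CategoryTheory CategoryTheory.Limits AlgebraicGeometry
open Resolve

namespace Groth.Agent.S7304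

variable {A : Type u} [CommRing A] [IsLocalRing A] [IsNoetherianRing A]

local notation "𝔪" => IsLocalRing.maximalIdeal A
local notation "φ" => algebraMap A (Curv2.cpl A)

/-- Every element of the completion is congruent to an element of `A` modulo `m^n`. -/
theorem exists_sub_mem (n : ℕ) (x : Curv2.cpl A) :
    ∃ a : A, x - φ a ∈ (𝔪 ^ n).map φ := by
  obtain ⟨a, ha⟩ := Submodule.Quotient.mk_surjective _ (AdicCompletion.eval 𝔪 A n x)
  refine ⟨a, ?_⟩
  have h : x - φ a ∈ (AdicCompletion.eval 𝔪 A n).ker := by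
    rw [LinearMap.mem_ker, map_sub, sub_eq_zero, ← ha]
    rfl
  rw [← AdicCompletion.pow_smul_top_eq_ker_eval (IsLocalRing.maximalIdeal A).fg_of_isNoetherianRing,
    Ideal.smul_top_eq_map] at h
  exact h

/-- An ideal of the completion containing a power of `m` comes from `A`. -/
theorem map_comap_eq {J : Ideal (Curv2.cpl A)} {n : ℕ} (hn : (𝔪 ^ n).map φ ≤ J) :
    (J.comap φ).map φ = J := by
  refine le_antisymm Ideal.map_comap_le fun x hx => ?_
  obtain ⟨a, ha⟩ := exists_sub_mem n x
  have haJ : a ∈ J.comap φ := by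
    rw [Ideal.mem_comap]
    simpa using J.sub_mem hx (hn ha)
  have h1 : x - φ a ∈ (J.comap φ).map φ :=
    Ideal.map_mono (Ideal.map_le_iff_le_comap.1 hn) ha
  simpa using add_mem h1 (Ideal.mem_map_of_mem φ haJ)

/-- An admissible centre on the completed spectrum is an ideal containing a power of `m`. -/
theorem exists_pow_le {J : Ideal (Curv2.cpl A)}
    (hJ : ∀ p : PrimeSpectrum (Curv2.cpl A), J ≤ p.asIdeal → p = IsLocalRing.closedPoint _) :
    ∃ n, (𝔪 ^ n).map φ ≤ J := by
  have hne : (𝔪).map φ ≠ ⊤ := fun h => by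
    have h1 : (1 : Curv2.cpl A) ∈ (𝔪 ^ 1).map φ := by
      rw [pow_one, h]; exact Submodule.mem_top
    have h2 : (1 : Curv2.cpl A) ∈ (AdicCompletion.eval 𝔪 A 1).ker := by
      rw [← AdicCompletion.pow_smul_top_eq_ker_eval (IsLocalRing.maximalIdeal A).fg_of_isNoetherianRing,
        Ideal.smul_top_eq_map]
      exact h1
    rw [LinearMap.mem_ker] at h2
    have h3 : Submodule.Quotient.mk (p := (𝔪 ^ 1 • ⊤ : Submodule A A)) (1 : A) = 0 := h2
    rw [Submodule.Quotient.mk_eq_zero, smul_eq_mul, Ideal.mul_top, pow_one] at h3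
    exact one_notMem _ h3
  have h : (𝔪).map φ ≤ J.radical := by
    rw [Ideal.radical_eq_sInf]
    refine le_sInf fun p hp => ?_
    haveI := hp.2
    have := congrArg PrimeSpectrum.asIdeal (hJ ⟨p, hp.2⟩ hp.1)
    rw [show p = IsLocalRing.maximalIdeal (Curv2.cpl A) from this]
    exact IsLocalRing.le_maximalIdeal hne
  obtain ⟨n, hn⟩ := Ideal.exists_pow_le_of_le_radical_of_fg h
    ((IsLocalRing.maximalIdeal A).fg_of_isNoetherianRing.map φ)
  exact ⟨n, by rwa [Ideal.map_pow]⟩
where
  one_notMem (I : Ideal A) [hI : I.IsPrime] : (1 : A) ∉ I := fun h =>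
    hI.ne_top ((Ideal.eq_top_iff_one I).2 h)

omit [IsLocalRing A] [IsNoetherianRing A] in
/-- Support of the centre sheaf. -/
theorem coe_support_centre (I : Ideal A) :
    ((BlowUpLib.centre I).support : Set (Spec (CommRingCat.of A))) =
      PrimeSpectrum.zeroLocus (I : Set A) := by
  rw [Scheme.IdealSheafData.coe_support_ofIdealTop, Spec_zeroLocus]
  have h : (I.map (Scheme.ΓSpecIso (CommRingCat.of A)).inv.hom).comap
      (Scheme.ΓSpecIso (CommRingCat.of A)).inv.hom = I :=
    Ideal.comap_map_of_bijective _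
      (Scheme.ΓSpecIso (CommRingCat.of A)).symm.commRingCatIsoToRingEquiv.bijective
  exact congrArg (fun K : Ideal A => PrimeSpectrum.zeroLocus (K : Set A)) h

omit [IsLocalRing A] [IsNoetherianRing A] in
/-- An ideal sheaf on `Spec A` is the centre of an ideal. -/
theorem exists_eq_centre (J : (Spec (CommRingCat.of A)).IdealSheafData) :
    ∃ I : Ideal A, J = BlowUpLib.centre I := by
  refine ⟨(J.ideal ⟨⊤, isAffineOpen_top _⟩).map (Scheme.ΓSpecIso (CommRingCat.of A)).hom.hom, ?_⟩
  refine Scheme.IdealSheafData.ext_of_isAffine ?_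
  rw [BlowUpLib.centre_top, Ideal.map_map, ← CommRingCat.hom_comp, Iso.hom_inv_id]
  exact (Ideal.map_id _).symm

omit [IsLocalRing A] [IsNoetherianRing A] in
/-- Pulling back a centre. -/
theorem comap_centre {B : Type u} [CommRing B] (f : A →+* B) (I : Ideal A) :
    (BlowUpLib.centre I).comap (Spec.map (CommRingCat.ofHom f)) = BlowUpLib.centre (I.map f) := by
  refine Scheme.IdealSheafData.ext_of_isAffine ?_
  rw [BlowUpLib.ideal_comap_centre, BlowUpLib.centre_top, Ideal.map_map]
  congr 1
  simp only [BlowUpLib.strHom]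
  change ((Scheme.ΓSpecIso (CommRingCat.of A)).inv ≫ (Spec.map (CommRingCat.ofHom f)).appLE ⊤
    ((Spec.map (CommRingCat.ofHom f)) ⁻¹ᵁ ⊤) le_rfl).hom = _
  rw [← Scheme.Hom.app_eq_appLE]
  exact congrArg CommRingCat.Hom.hom (Scheme.ΓSpecIso_inv_naturality (CommRingCat.ofHom f)).symm

/-- Admissible blowing ups of the completion descend. -/
theorem result (A : Type u) [CommRing A] [IsLocalRing A] [IsNoetherianRing A]
    (Y : Scheme.{u}) (c : Y ⟶ Spec (CommRingCat.of (Curv2.cpl A)))
    (J : (Spec (CommRingCat.of (Curv2.cpl A))).IdealSheafData)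
    (hJ : BlowUp.IsAdmissibleFor (FEt.puncturedSpec (Curv2.cpl A)) J) (hc : BlowUp.IsBlowUp c J) :
    ∃ (I : (Spec (CommRingCat.of A)).IdealSheafData) (X : Scheme.{u}) (b : X ⟶ Spec (CommRingCat.of A)),
      BlowUp.IsAdmissibleFor (FEt.puncturedSpec A) I ∧ BlowUp.IsBlowUp b I ∧
      ∃ e : Y ≅ Curv2.bcCpl A b, e.hom ≫ Curv2.bcCplSnd A b = c := by
  obtain ⟨J₀, rfl⟩ := exists_eq_centre J
  obtain ⟨n, hn⟩ := exists_pow_le (A := A) (J := J₀) fun p hp => by
    by_contra hne
    exact Set.disjoint_left.1 hJ.2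
      (by rw [coe_support_centre]; exact hp) hne
  let I₀ := J₀.comap (algebraMap A (Curv2.cpl A))
  have hI : BlowUp.IsAdmissibleFor (FEt.puncturedSpec A) (BlowUpLib.centre I₀) := by
    refine ⟨fun U => ?_, ?_⟩
    · rw [Scheme.IdealSheafData.ofIdealTop_ideal]
      exact (I₀.fg_of_isNoetherianRing.map _).map _
    · rw [coe_support_centre, Set.disjoint_left]
      intro p hp hne
      refine hne (Set.mem_singleton_iff.2 (PrimeSpectrum.ext ?_))
      haveI : p.asIdeal.IsPrime := p.2
      have hle : IsLocalRing.maximalIdeal A ^ n ≤ p.asIdeal :=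
        (Ideal.map_le_iff_le_comap.1 hn).trans hp
      exact ((IsLocalRing.maximalIdeal.isMaximal A).eq_of_le p.2.ne_top
        (Ideal.IsPrime.le_of_pow_le hle)).symm
  obtain ⟨X, b, hb⟩ := BlowUpLib.exists_blowUp (BlowUpLib.centre I₀)
  haveI : Module.Flat A (Curv2.cpl A) := AdicCompletion.flat_of_isNoetherian _
  haveI : Flat (Spec.map (CommRingCat.ofHom (algebraMap A (Curv2.cpl A)))) := by
    rw [HasRingHomProperty.Spec_iff (P := @Flat)]
    exact RingHom.flat_algebraMap_iff.mpr inferInstance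
  have h := BlowUpLib.isBlowUp_of_isPullback
    (IsPullback.of_hasPullback b (Spec.map (CommRingCat.ofHom (algebraMap A (Curv2.cpl A))))).flip hb
  rw [comap_centre, map_comap_eq hn] at h
  obtain ⟨e, he⟩ := BlowUpLib.exists_iso hc h
  exact ⟨_, X, b, hI, hb, e, he⟩

end Groth.Agent.S7304
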