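import Groth.Statements.S7340
import Mathlib.RingTheory.AdjoinRoot
import Mathlib.RingTheory.Kaehler.Basic
import Mathlib.Algebra.CharP.Lemmas
import Mathlib.Data.Nat.Choose.Dvd
import Mathlib.Algebra.Field.ZMod

set_option linter.style.haveILetI false

set_option autoImplicit false
universe u
open Polynomial
open Resolve

namespace Groth.Agent.S7340

open Finset

variable {R : Type u} [CommRing R] {S : Type u} [CommRing S] [Algebra R S]

theorem D_mem_span (x : S) (hx : Algebra.adjoin R {x} = ⊤) (t : S) :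
    ∃ q : R[X], t = aeval x q ∧ KaehlerDifferential.D R S t =
      aeval x (derivative q) • KaehlerDifferential.D R S x := by
  have : t ∈ Algebra.adjoin R {x} := hx ▸ Algebra.mem_top
  rw [Algebra.adjoin_singleton_eq_range_aeval] at this
  obtain ⟨q, rfl⟩ := this
  exact ⟨q, rfl, (KaehlerDifferential.D R S).map_aeval q x⟩

/-- `(u+v)^(p-1) d(u+v) - u^(p-1) du - v^(p-1) dv` is exact. -/
theorem exact_add {M : Type u} [AddCommGroup M] [Module R M] [Module S M] [IsScalarTower R S M]
    (D : Derivation R S M) (p : ℕ) (hp : p.Prime) (u v : S) :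
    ∃ w : S, (u + v) ^ (p - 1) • D (u + v) - u ^ (p - 1) • D u - v ^ (p - 1) • D v = D w := by
  obtain ⟨n, rfl⟩ : ∃ n, p = n + 1 := ⟨p - 1, by have := hp.one_lt; omega⟩
  simp only [Nat.add_sub_cancel]
  refine ⟨∑ k ∈ range n, ((((n + 1).choose (k + 1)) / (n + 1) : ℕ) : S) * (u ^ (k + 1) * v ^ (n - k)), ?_⟩
  have hdiv : ∀ k < n, (n + 1) ∣ (n + 1).choose (k + 1) := fun k hk =>
    hp.dvd_choose_self (by omega) (by omega)
  have h1 : ∀ k < n, (n + 1).choose (k + 1) / (n + 1) * (k + 1) = n.choose k := by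
    intro k hk
    obtain ⟨c, hc⟩ := hdiv k hk
    rw [hc, Nat.mul_div_cancel_left c (Nat.succ_pos _)]
    have h2 := Nat.add_one_mul_choose_eq n k
    rw [hc, mul_assoc] at h2
    exact (Nat.eq_of_mul_eq_mul_left (Nat.succ_pos _) h2).symm
  have h2 : ∀ k < n, (n + 1).choose (k + 1) / (n + 1) * (n - k) = n.choose (k + 1) := by
    intro k hk
    obtain ⟨c, hc⟩ := hdiv k hk
    rw [hc, Nat.mul_div_cancel_left c (Nat.succ_pos _)]
    have h3 := Nat.choose_mul_succ_eq n (k + 1)
    rw [hc, show n + 1 - (k + 1) = n - k by omega, mul_assoc, mul_comm (n.choose (k + 1))] at h3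
    exact (Nat.eq_of_mul_eq_mul_left (Nat.succ_pos _) h3).symm
  have hD : D (∑ k ∈ range n, ((((n + 1).choose (k + 1)) / (n + 1) : ℕ) : S) * (u ^ (k + 1) * v ^ (n - k))) =
      (∑ k ∈ range n, (n.choose k : S) * (u ^ k * v ^ (n - k))) • D u +
        (∑ k ∈ range n, (n.choose (k + 1) : S) * (u ^ (k + 1) * v ^ (n - (k + 1)))) • D v := by
    rw [map_sum, Finset.sum_smul, Finset.sum_smul, ← Finset.sum_add_distrib]
    refine Finset.sum_congr rfl fun k hk => ?_
    rw [Finset.mem_range] at hk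
    rw [D.leibniz, D.map_natCast, smul_zero, add_zero, D.leibniz, D.leibniz_pow, D.leibniz_pow,
      ← h1 k hk, ← h2 k hk, show n - (k + 1) = n - k - 1 by omega, Nat.add_sub_cancel]
    push_cast [← Nat.cast_smul_eq_nsmul S, smul_smul, smul_add]
    match_scalars <;> ring
  rw [hD]
  have e1 : (u + v) ^ n = (∑ k ∈ range n, (n.choose k : S) * (u ^ k * v ^ (n - k))) + u ^ n := by
    rw [add_pow, Finset.sum_range_succ, Nat.choose_self, Nat.sub_self]
    simp only [pow_zero, mul_one, Nat.cast_one]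
    congr 1
    exact Finset.sum_congr rfl fun k _ => by ring
  have e2 : (u + v) ^ n = (∑ k ∈ range n, (n.choose (k + 1) : S) * (u ^ (k + 1) * v ^ (n - (k + 1)))) + v ^ n := by
    rw [add_pow, Finset.sum_range_succ']
    simp only [pow_zero, one_mul, Nat.choose_zero_right, Nat.cast_one, mul_one, Nat.sub_zero]
    congr 1
    exact Finset.sum_congr rfl fun k _ => by ring
  rw [map_add, smul_add]
  conv_lhs => enter [1, 1, 1]; rw [e1]
  conv_lhs => enter [1, 1, 2]; rw [e2]
  rw [add_smul, add_smul]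
  abel

section Trace

variable (p : ℕ) [Fact p.Prime] [CharP R p] {b : R}
  (Ty : Ω[AdjoinRoot (X ^ p - C b : R[X])⁄R] →ₗ[R] Ω[R⁄ℤ])
  (hTy : ∀ i : ℕ, i + 2 ≤ p →
    Ty (AdjoinRoot.root (X ^ p - C b) ^ i • KaehlerDifferential.D R _ (AdjoinRoot.root (X ^ p - C b))) = 0)
  (hTy' : Ty (AdjoinRoot.root (X ^ p - C b) ^ (p - 1) •
    KaehlerDifferential.D R _ (AdjoinRoot.root (X ^ p - C b))) = KaehlerDifferential.D ℤ R b)

local notation "Sb" => AdjoinRoot (X ^ p - C b : R[X])
local notation "y" => AdjoinRoot.root (X ^ p - C b : R[X])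

theorem root_pow : y ^ p = algebraMap R Sb b := by
  have h := AdjoinRoot.eval₂_root (X ^ p - C b : R[X])
  rw [eval₂_sub, eval₂_pow, eval₂_X, eval₂_C, sub_eq_zero] at h
  exact h

include hTy in
theorem Ty_pow (m : ℕ) (hm : m % p + 1 ≠ p) :
    Ty (y ^ m • KaehlerDifferential.D R _ y) = 0 := by
  have hp := (Fact.out : p.Prime).pos
  conv_lhs => rw [← Nat.mod_add_div m p, pow_add, pow_mul, root_pow, ← map_pow, mul_comm, ← smul_smul,
    IsScalarTower.algebraMap_smul, map_smul]
  rw [hTy _ (by have := Nat.mod_lt m hp; omega), smul_zero]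

include hTy' in
theorem Ty_pow' (k : ℕ) :
    Ty (y ^ (p * k + (p - 1)) • KaehlerDifferential.D R _ y) = b ^ k • KaehlerDifferential.D ℤ R b := by
  rw [pow_add, pow_mul, root_pow, ← map_pow, ← smul_smul, IsScalarTower.algebraMap_smul, map_smul, hTy']

include hTy in
theorem Ty_exact (z : Sb) : Ty (KaehlerDifferential.D R _ z) = 0 := by
  obtain ⟨q, rfl⟩ := AdjoinRoot.mk_surjective z
  induction q using Polynomial.induction_on' with
  | add f g hf hg => rw [map_add, map_add, map_add, hf, hg, add_zero]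
  | monomial n c =>
    rw [show AdjoinRoot.mk (X ^ p - C b) (monomial n c) = algebraMap R Sb c * y ^ n by
      rw [← C_mul_X_pow_eq_monomial, map_mul, map_pow, AdjoinRoot.mk_C, AdjoinRoot.mk_X]; rfl]
    rw [Derivation.leibniz, Derivation.map_algebraMap, smul_zero, add_zero, IsScalarTower.algebraMap_smul,
      map_smul, Derivation.leibniz_pow, map_nsmul]
    rcases n.eq_zero_or_pos with rfl | hn
    · simp
    by_cases h : (n - 1) % p + 1 = p
    · have hdvd : p ∣ n := by
        refine Nat.dvd_iff_mod_eq_zero.mpr ?_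
        have e : n = (n - 1) + 1 := by omega
        rw [e, Nat.add_mod, show (n - 1) % p = p - 1 by omega]
        have h1 := (Fact.out : p.Prime).one_lt
        rw [Nat.mod_eq_of_lt h1, Nat.sub_add_cancel (by omega), Nat.mod_self]
      rw [← Nat.cast_smul_eq_nsmul R, (CharP.cast_eq_zero_iff R p n).mpr hdvd, zero_smul, smul_zero]
    · rw [Ty_pow p Ty hTy _ h, smul_zero, smul_zero]

include hTy hTy' in
theorem Ty_frob (u : Sb) : ∃ r : R, u ^ p = algebraMap R Sb r ∧
    Ty (u ^ (p - 1) • KaehlerDifferential.D R _ u) = KaehlerDifferential.D ℤ R r := by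
  obtain ⟨q, rfl⟩ := AdjoinRoot.mk_surjective u
  induction q using Polynomial.induction_on' with
  | add f g hf hg =>
    obtain ⟨r, hr, hr'⟩ := hf
    obtain ⟨s, hs, hs'⟩ := hg
    refine ⟨r + s, ?_, ?_⟩
    · have hz : (p : Sb) = 0 := by
        rw [← map_natCast (algebraMap R Sb), CharP.cast_eq_zero, map_zero]
      obtain ⟨c, hc⟩ := exists_add_pow_prime_eq (Fact.out : p.Prime)
        (AdjoinRoot.mk (X ^ p - C b) f) (AdjoinRoot.mk (X ^ p - C b) g)
      rw [map_add, hc, hz, hr, hs, map_add]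
      ring
    · obtain ⟨w, hw⟩ := exact_add (KaehlerDifferential.D R Sb) p (Fact.out : p.Prime)
        (AdjoinRoot.mk (X ^ p - C b) f) (AdjoinRoot.mk (X ^ p - C b) g)
      have := congrArg Ty hw
      rw [map_sub, map_sub, Ty_exact p Ty hTy w, hr', hs', sub_sub, sub_eq_zero] at this
      rw [map_add (AdjoinRoot.mk (X ^ p - C b)), this, map_add]
  | monomial n c =>
    rw [show AdjoinRoot.mk (X ^ p - C b) (monomial n c) = algebraMap R Sb c * y ^ n by
      rw [← C_mul_X_pow_eq_monomial, map_mul, map_pow, AdjoinRoot.mk_C, AdjoinRoot.mk_X]; rfl]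
    refine ⟨c ^ p * b ^ n, by rw [mul_pow, ← pow_mul, mul_comm n p, pow_mul, root_pow, map_mul, map_pow,
      map_pow], ?_⟩
    have h1 : 1 ≤ p := (Fact.out : p.Prime).one_le
    rw [Derivation.leibniz _ (c ^ p), Derivation.leibniz_pow, Derivation.leibniz_pow,
      ← Nat.cast_smul_eq_nsmul R p, CharP.cast_eq_zero, zero_smul, smul_zero, add_zero,
      Derivation.leibniz, Derivation.map_algebraMap, smul_zero, add_zero, mul_pow, Derivation.leibniz_pow,
      ← map_pow (algebraMap R Sb)]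
    rcases n.eq_zero_or_pos with rfl | hn
    · simp
    obtain ⟨j, rfl⟩ : ∃ j, n = j + 1 := ⟨n - 1, by omega⟩
    rw [Nat.add_sub_cancel]
    have e : y ^ j * (y ^ (j + 1)) ^ (p - 1) = y ^ (p * j + (p - 1)) := by
      rw [← pow_mul, ← pow_add]
      congr 1
      obtain ⟨k, rfl⟩ : ∃ k, p = k + 1 := ⟨p - 1, by omega⟩
      simp only [Nat.add_sub_cancel]; ring
    have e' : c ^ (p - 1) * c = c ^ p := by rw [← pow_succ, Nat.sub_add_cancel h1]
    rw [← Nat.cast_smul_eq_nsmul R (j + 1), ← Nat.cast_smul_eq_nsmul R (j + 1)]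
    simp only [← smul_smul, IsScalarTower.algebraMap_smul]
    simp only [smul_comm ((y ^ (j + 1)) ^ (p - 1) : Sb) _]
    simp only [smul_smul, e, map_smul, Ty_pow' p Ty hTy', smul_smul]
    congr 1
    rw [← e']
    ring

end Trace

/-- Let p be a prime number and R an F_p-algebra, a, b ∈ R, S_a = R[x]/(x^p - a) and S_b = R[y]/(y^p -
b). The trace Tr_x : Ω_{S_a/R} → Ω_R is the R-linear map with x^i dx ↦ 0 for 0 ≤ i ≤ p - 2 and
x^{p-1} dx ↦ da (these determine it, Ω_{S_a/R} being free over R on the x^i dx), and similarly Tr_y.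
Then for every R-algebra homomorphism φ : S_a → S_b one has Tr_x = Tr_y ∘ φ_*: for all s, t ∈ S_a,
Tr_x(s dt) = Tr_y(φ(s) dφ(t)). Here Ω_R is the module of absolute differentials Ω_{R/Z}. -/
theorem result (p : ℕ) [Fact p.Prime] (R : Type u) [CommRing R] [CharP R p] (a b : R)
    (φ : AdjoinRoot (X ^ p - C a : R[X]) →ₐ[R] AdjoinRoot (X ^ p - C b : R[X]))
    (Tx : Ω[AdjoinRoot (X ^ p - C a : R[X])⁄R] →ₗ[R] Ω[R⁄ℤ])
    (Ty : Ω[AdjoinRoot (X ^ p - C b : R[X])⁄R] →ₗ[R] Ω[R⁄ℤ])
    (hTx : ∀ i : ℕ, i + 2 ≤ p →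
      Tx (AdjoinRoot.root (X ^ p - C a) ^ i • KaehlerDifferential.D R _ (AdjoinRoot.root (X ^ p - C a))) = 0)
    (hTx' : Tx (AdjoinRoot.root (X ^ p - C a) ^ (p - 1) • KaehlerDifferential.D R _ (AdjoinRoot.root (X ^ p - C a))) =
      KaehlerDifferential.D ℤ R a)
    (hTy : ∀ i : ℕ, i + 2 ≤ p →
      Ty (AdjoinRoot.root (X ^ p - C b) ^ i • KaehlerDifferential.D R _ (AdjoinRoot.root (X ^ p - C b))) = 0)
    (hTy' : Ty (AdjoinRoot.root (X ^ p - C b) ^ (p - 1) • KaehlerDifferential.D R _ (AdjoinRoot.root (X ^ p - C b))) =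
      KaehlerDifferential.D ℤ R b)
    (s t : AdjoinRoot (X ^ p - C a : R[X])) :
    Tx (s • KaehlerDifferential.D R _ t) = Ty (φ s • KaehlerDifferential.D R _ (φ t)) := by
  obtain ⟨ps, rfl⟩ := AdjoinRoot.mk_surjective s
  obtain ⟨q, rfl, hq⟩ := D_mem_span (AdjoinRoot.root (X ^ p - C a)) (AdjoinRoot.adjoinRoot_eq_top) t
  set x := AdjoinRoot.root (X ^ p - C a : R[X])
  have key : ∀ m : ℕ, Tx (x ^ m • KaehlerDifferential.D R _ x) =
      Ty (φ x ^ m • KaehlerDifferential.D R _ (φ x)) := by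
    intro m
    have hp := (Fact.out : p.Prime).pos
    have hφ : φ x ^ p = algebraMap R _ a := by rw [← map_pow, root_pow, AlgHom.commutes]
    have hlow : ∀ i, i + 2 ≤ p → Ty (φ x ^ i • KaehlerDifferential.D R _ (φ x)) = 0 := by
      intro i hi
      have hu : IsUnit ((i + 1 : ℕ) : R) := by
        obtain ⟨c, hc⟩ : ∃ c : ZMod p, ((i + 1 : ℕ) : ZMod p) * c = 1 := by
          refine (IsUnit.mk0 ((i + 1 : ℕ) : ZMod p) ?_).exists_right_inv
          rw [Ne, ZMod.natCast_eq_zero_iff]
          exact fun h => absurd (Nat.le_of_dvd (Nat.succ_pos _) h) (by omega)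
        exact IsUnit.of_mul_eq_one (ZMod.castHom dvd_rfl R c)
          (by rw [← map_natCast (ZMod.castHom dvd_rfl R), ← map_mul, hc, map_one])
      refine hu.smul_eq_zero.mp ?_
      have e := Derivation.leibniz_pow (KaehlerDifferential.D R _) (φ x) (i + 1)
      rw [Nat.add_sub_cancel] at e
      rw [← map_smul, Nat.cast_smul_eq_nsmul, ← e]
      exact Ty_exact p Ty hTy _
    conv_lhs => rw [← Nat.mod_add_div m p, pow_add, pow_mul, root_pow, ← map_pow, mul_comm, ← smul_smul,
      IsScalarTower.algebraMap_smul, map_smul]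
    conv_rhs => rw [← Nat.mod_add_div m p, pow_add, pow_mul, hφ, ← map_pow (algebraMap R _), mul_comm, ← smul_smul,
      IsScalarTower.algebraMap_smul, map_smul]
    congr 1
    rcases eq_or_ne (m % p + 1) p with h | h
    · obtain ⟨r, hr, hr'⟩ := Ty_frob p Ty hTy hTy' (φ x)
      rw [show m % p = p - 1 by omega, hTx', hr']
      congr 1
      rw [hφ] at hr
      haveI := CharP.nontrivial_of_char_ne_one (R := R) (Fact.out : p.Prime).ne_one
      rw [AdjoinRoot.algebraMap_eq, ← AdjoinRoot.mk_C, ← AdjoinRoot.mk_C, AdjoinRoot.mk_eq_mk,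
        ← C_sub] at hr
      by_contra hne
      have := (monic_X_pow_sub_C b hp.ne').not_dvd_of_degree_lt
        (C_ne_zero.mpr (sub_ne_zero.mpr hne))
        (by rw [degree_X_pow_sub_C hp]; exact degree_C_le.trans_lt (by exact_mod_cast hp))
      exact this hr
    · have := Nat.mod_lt m hp
      rw [hTx _ (by omega), hlow _ (by omega)]
  have key2 : ∀ Q : R[X], Tx (aeval x Q • KaehlerDifferential.D R _ x) =
      Ty (φ (aeval x Q) • KaehlerDifferential.D R _ (φ x)) := by
    intro Q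
    induction Q using Polynomial.induction_on' with
    | add f g hf hg => simp only [map_add, add_smul, hf, hg]
    | monomial n c =>
      simp only [aeval_monomial, map_mul, map_pow, AlgHom.commutes, ← smul_smul,
        IsScalarTower.algebraMap_smul, map_smul, key n]
  rw [hq, ← aeval_algHom_apply, (KaehlerDifferential.D R _).map_aeval q (φ x), aeval_algHom_apply,
    ← AdjoinRoot.aeval_eq, smul_smul, smul_smul, ← map_mul φ]
  simpa only [map_mul] using key2 (ps * derivative q)

end Groth.Agent.S7340
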