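import Groth.Statements.S7357
import Mathlib.RingTheory.AdjoinRoot
import Mathlib.RingTheory.Kaehler.Basic
import Mathlib.RingTheory.TensorProduct.Basic
import Mathlib.Algebra.TrivSqZeroExt.Basic
import Mathlib.LinearAlgebra.ExteriorPower.Basic
import Mathlib.LinearAlgebra.ExteriorAlgebra.Grading
import Mathlib.LinearAlgebra.TensorProduct.Tower

set_option linter.style.haveILetI false

set_option autoImplicit false
universe u
open Polynomial
open Resolve

namespace Groth.Agent.S7357

open TensorProduct

section

variable {R : Type u} [CommRing R] {M : Type u} [AddCommGroup M] [Module R M] (α : M)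


/-- The left ideal of multiples of `α`. -/
def L : Submodule R (ExteriorAlgebra R M) := LinearMap.range (LinearMap.mulRight R (ExteriorAlgebra.ι R α))

theorem mem_L {z : ExteriorAlgebra R M} : z ∈ L (R := R) α ↔ ∃ w, w * ExteriorAlgebra.ι R α = z := LinearMap.mem_range

/-- Left multiplication by `ExteriorAlgebra.ι R v` on `L (R := R) α`. -/
noncomputable def lmul : M →ₗ[R] Module.End R (L (R := R) α) where
  toFun v :=
    { toFun := fun z => ⟨ExteriorAlgebra.ι R v * z.1, by
        obtain ⟨w, hw⟩ := (mem_L α).1 z.2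
        exact (mem_L α).2 ⟨ExteriorAlgebra.ι R v * w, by rw [mul_assoc, hw]⟩⟩
      map_add' := fun a b => Subtype.ext (mul_add _ _ _)
      map_smul' := fun r a => Subtype.ext (mul_smul_comm r _ _) }
  map_add' u v := LinearMap.ext fun z => Subtype.ext (by simp [add_mul])
  map_smul' r v := LinearMap.ext fun z => Subtype.ext (by simp [smul_mul_assoc])

@[simp] theorem lmul_apply (v : M) (z : L (R := R) α) : (lmul α v z : ExteriorAlgebra R M) = ExteriorAlgebra.ι R v * z.1 := rfl

theorem lmul_sq (v : M) (z : L (R := R) α) : lmul α v (lmul α v z) = 0 :=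
  Subtype.ext (by simp [← mul_assoc, ExteriorAlgebra.ι_sq_zero])

theorem ι_anticomm (u v : M) : ExteriorAlgebra.ι R u * ExteriorAlgebra.ι R v = - (ExteriorAlgebra.ι R v * ExteriorAlgebra.ι R u) :=
  eq_neg_of_add_eq_zero_left (ExteriorAlgebra.ι_add_mul_swap u v)

theorem ι_α_mul_comm (w : ExteriorAlgebra R M) : ExteriorAlgebra.ι R α * w * ExteriorAlgebra.ι R α = 0 := by
  induction w using ExteriorAlgebra.induction with
  | algebraMap r => rw [← Algebra.commutes, mul_assoc, ExteriorAlgebra.ι_sq_zero, mul_zero]
  | ι x => rw [ι_anticomm, neg_mul, mul_assoc, ExteriorAlgebra.ι_sq_zero, mul_zero, neg_zero]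
  | add a b ha hb => rw [mul_add, add_mul, ha, hb, add_zero]
  | mul a b ha hb =>
    -- move `ExteriorAlgebra.ι R α` through `a`
    have key : ∀ a : ExteriorAlgebra R M, ExteriorAlgebra.ι R α * a = CliffordAlgebra.involute a * ExteriorAlgebra.ι R α := fun a => by
      induction a using ExteriorAlgebra.induction with
      | algebraMap r =>
        exact (Algebra.commutes r (ExteriorAlgebra.ι R α)).symm.trans (congrArg (· * ExteriorAlgebra.ι R α)
          ((CliffordAlgebra.involute (Q := (0 : QuadraticForm R M))).commutes r).symm)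
      | ι x =>
        erw [CliffordAlgebra.involute_ι]
        rw [neg_mul]
        exact ι_anticomm α x
      | add a b ha hb => rw [mul_add, ha, hb, map_add, add_mul]
      | mul a b ha hb => rw [← mul_assoc, ha, mul_assoc, hb, ← mul_assoc, map_mul]
    rw [key, mul_assoc, ExteriorAlgebra.ι_sq_zero, mul_zero]

theorem lmul_α : lmul (R := R) α α = 0 := LinearMap.ext fun z => Subtype.ext (by
  obtain ⟨w, hw⟩ := (mem_L α).1 z.2
  simp only [lmul_apply, LinearMap.zero_apply, ZeroMemClass.coe_zero]
  rw [← hw, ← mul_assoc, ι_α_mul_comm])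

/-- States: `(products not yet contracted, contracted products)`. -/
abbrev W := ↥(L (R := R) α) × ↥(L (R := R) α)

/-- The action of `ω + r e`. -/
noncomputable def act : M × R →ₗ[R] Module.End R (W (R := R) α) where
  toFun m :=
    { toFun := fun z => (lmul α m.1 z.1, m.2 • z.1 - lmul α m.1 z.2)
      map_add' := fun a b => Prod.ext (by simp) (by simp; abel)
      map_smul' := fun r a => Prod.ext (by simp) (by simp [smul_sub, smul_comm m.2 r]) }
  map_add' a b := LinearMap.ext fun z => Prod.ext (by simp) (by simp [add_smul]; abel)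
  map_smul' r a := LinearMap.ext fun z => Prod.ext (by simp) (by simp [mul_smul, smul_sub])

theorem act_apply (m : M × R) (z : W (R := R) α) :
    act (R := R) α m z = (lmul (R := R) α m.1 z.1, m.2 • z.1 - lmul (R := R) α m.1 z.2) := rfl

theorem act_sq (m : M × R) : act α m * act α m = 0 := LinearMap.ext fun z => by
  simp only [Module.End.mul_apply, act_apply, map_sub, map_smul, lmul_sq, LinearMap.zero_apply, sub_zero,
    sub_self]
  rfl

theorem act_α : act (R := R) α (α, 0) = 0 := LinearMap.ext fun z => by
  simp only [act_apply, lmul_α, LinearMap.zero_apply, zero_smul, sub_self]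
  rfl

theorem prod_act_zero_snd (v : List M) (z : W (R := R) α) (hz : z.2 = 0) :
    ((v.map fun ω => act (R := R) α (ω, 0)).prod z).2 = 0 := by
  induction v with
  | nil => simpa using hz
  | cons a v ih => simp [Module.End.mul_apply, act_apply, ih]

theorem prod_act_snd (v : List M) (z : W (R := R) α) :
    ((((v.map fun ω => act (R := R) α (ω, 0)).prod z).2 : L (R := R) α) : ExteriorAlgebra R M) =
      (-1) ^ v.length * (v.map (ExteriorAlgebra.ι R)).prod * z.2 := by
  induction v with
  | nil => simp
  | cons a v ih =>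
    simp only [List.map_cons, List.prod_cons, Module.End.mul_apply, List.length_cons]
    simp only [act_apply, zero_smul, zero_sub, Submodule.coe_neg, lmul_apply]
    rw [ih, pow_succ']
    have hc : ExteriorAlgebra.ι R a * (-1 : ExteriorAlgebra R M) ^ v.length = (-1) ^ v.length * ExteriorAlgebra.ι R a :=
      (Commute.neg_one_right (ExteriorAlgebra.ι R a)).pow_right _
    simp only [← mul_assoc, hc, neg_mul, one_mul]

section BaseChange

variable (S : Type u) [CommRing S] [Algebra R S]

/-- Endomorphisms of `S ⊗ W`. -/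
abbrev A := Module.End S (S ⊗[R] W (R := R) α)

/-- `act`, base changed. -/
noncomputable def actS (m : M × R) : A (R := R) α S := (act α m).baseChange S

theorem actS_add (a b : M × R) : actS α S (a + b) = actS α S a + actS α S b := by
  rw [actS, map_add, LinearMap.baseChange_add]; rfl

theorem actS_smul (r : R) (a : M × R) : actS α S (r • a) = r • actS α S a := by
  rw [actS, map_smul, LinearMap.baseChange_smul]; rfl

/-- The span of the base changed action. -/
noncomputable def V : Submodule S (A (R := R) α S) := Submodule.span S (Set.range (actS α S))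

theorem sq_zero_of_mem {v : A (R := R) α S} (hv : v ∈ V (R := R) α S) : v * v = 0 := by
  suffices ∀ v ∈ V (R := R) α S, v * v = 0 ∧ ∀ m, v * actS α S m + actS α S m * v = 0 from (this v hv).1
  have h0 : ∀ m : M × R, actS α S m * actS α S m = 0 := fun m => by
    rw [actS, ← LinearMap.baseChange_mul, act_sq, LinearMap.baseChange_zero]
  have h1 : ∀ m n : M × R, actS α S m * actS α S n + actS α S n * actS α S m = 0 := fun m n => by
    have h := h0 (m + n)
    rw [actS_add, add_mul, mul_add, mul_add, h0, h0, zero_add, add_zero] at h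
    exact h
  intro v hv
  induction hv using Submodule.span_induction with
  | mem x hx => obtain ⟨m, rfl⟩ := hx; exact ⟨h0 m, fun n => h1 m n⟩
  | zero => simp
  | add x z hx hz ihx ihz =>
    have hzx : ∀ x' ∈ V (R := R) α S, (∀ m, x' * actS α S m + actS α S m * x' = 0) → x' * z + z * x' = 0 := by
      intro x' _ hx'
      clear ihz ihx
      induction hz using Submodule.span_induction with
      | mem z hz => obtain ⟨m, rfl⟩ := hz; exact hx' m
      | zero => simp
      | add a b _ _ iha ihb =>
        rw [mul_add, add_mul, add_add_add_comm]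
        rw [show x' * a + a * x' = 0 from iha,
          show x' * b + b * x' = 0 from ihb, add_zero]
      | smul c a _ iha =>
        rw [mul_smul_comm, smul_mul_assoc, ← smul_add,
          show x' * a + a * x' = 0 from iha, smul_zero]
    refine ⟨?_, fun m => ?_⟩
    · rw [add_mul, mul_add, mul_add, ihx.1, ihz.1, zero_add, add_zero, hzx x hx ihx.2]
    · rw [add_mul, mul_add, add_add_add_comm, ihx.2, ihz.2, add_zero]
  | smul c x _ ih =>
    refine ⟨?_, fun m => ?_⟩
    · rw [smul_mul_assoc, mul_smul_comm, ih.1, smul_zero, smul_zero]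
    · rw [smul_mul_assoc, mul_smul_comm, ← smul_add, ih.2, smul_zero]

theorem prod_baseChange (v : List (M × R)) :
    (v.map (actS α S)).prod = ((v.map (act α)).prod).baseChange S := by
  induction v with
  | nil => simp [LinearMap.baseChange_one]
  | cons a v ih => simp [ih, actS, LinearMap.baseChange_mul]

end BaseChange

end

section Lift

variable (Λ : Type u) [CommRing Λ] {R : Type u} [CommRing R] [Algebra Λ R] (p : ℕ) (a : R)

local notation "S" => AdjoinRoot (Polynomial.X ^ p - Polynomial.C a : Polynomial R)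
local notation "da" => KaehlerDifferential.D Λ R a

set_option maxHeartbeats 1000000 in
theorem exists_derivation [CharP R p] :
    ∃ δ : Derivation Λ S (A (R := R) (M := Ω[R⁄Λ]) da S),
      (∀ r, δ (algebraMap R S r) = actS da S (KaehlerDifferential.D Λ R r, 0)) ∧
      δ (AdjoinRoot.root _) = actS da S (0, 1) ∧ ∀ s, δ s ∈ V (R := R) da S := by
  let A' := A (R := R) (M := Ω[R⁄Λ]) da S
  let f : R →+* TrivSqZeroExt S A' :=
    { toFun := fun r => (algebraMap R S r, actS da S (KaehlerDifferential.D Λ R r, 0))
      map_one' := TrivSqZeroExt.ext (map_one _) (by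
        show actS da S _ = 0
        rw [Derivation.map_one_eq_zero, show ((0, 0) : Ω[R⁄Λ] × R) = 0 from rfl, actS, map_zero,
          LinearMap.baseChange_zero])
      map_zero' := TrivSqZeroExt.ext (map_zero _) (by
        show actS da S _ = 0
        rw [map_zero, show ((0, 0) : Ω[R⁄Λ] × R) = 0 from rfl, actS, map_zero, LinearMap.baseChange_zero])
      map_add' := fun r s => TrivSqZeroExt.ext (map_add _ _ _) (by
        show actS da S _ = actS da S _ + actS da S _
        rw [← actS_add, map_add, Prod.mk_add_mk, add_zero])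
      map_mul' := fun r s => TrivSqZeroExt.ext (map_mul _ _ _) (by
        show actS (R := R) da S _ = algebraMap R S r • actS (R := R) da S _ +
          MulOpposite.op (algebraMap R S s) • actS (R := R) da S _
        rw [op_smul_eq_smul, IsScalarTower.algebraMap_smul S r, IsScalarTower.algebraMap_smul S s, ← actS_smul, ← actS_smul,
          ← actS_add, Derivation.leibniz, Prod.smul_mk, Prod.smul_mk, Prod.mk_add_mk, smul_zero, smul_zero,
          add_zero]) }
  let ξ : TrivSqZeroExt S A' := (AdjoinRoot.root _, actS da S (0, 1))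
  have hξ : Polynomial.eval₂ f ξ (Polynomial.X ^ p - Polynomial.C a) = 0 := by
    rw [← Polynomial.coe_eval₂RingHom, map_sub, map_pow, Polynomial.coe_eval₂RingHom, Polynomial.eval₂_X,
      Polynomial.eval₂_C]
    apply TrivSqZeroExt.ext
    · rw [TrivSqZeroExt.fst_sub, TrivSqZeroExt.fst_pow, TrivSqZeroExt.fst_zero]
      have h := AdjoinRoot.eval₂_root (Polynomial.X ^ p - Polynomial.C a)
      rwa [Polynomial.eval₂_sub, Polynomial.eval₂_pow, Polynomial.eval₂_X, Polynomial.eval₂_C] at h
    · rw [TrivSqZeroExt.snd_sub, TrivSqZeroExt.snd_pow, TrivSqZeroExt.snd_zero,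
        ← Nat.cast_smul_eq_nsmul R, CharP.cast_eq_zero, zero_smul]
      have h0 : actS da S (da, (0 : R)) = 0 := by rw [actS, act_α, LinearMap.baseChange_zero]
      show (0 : A') - actS da S (da, (0 : R)) = 0
      rw [h0]
      exact sub_zero (0 : A')
  let F : S →+* TrivSqZeroExt S A' := AdjoinRoot.lift f ξ hξ
  have hfst : ∀ s, (F s).fst = s := by
    intro s
    have : (TrivSqZeroExt.fstHom S S A').toRingHom.comp F = RingHom.id S := by
      apply AdjoinRoot.ringHom_ext
      · refine RingHom.ext fun r => ?_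
        show (F (AdjoinRoot.of _ r)).fst = _
        rw [AdjoinRoot.lift_of]; rfl
      · show (F (AdjoinRoot.root _)).fst = _
        rw [AdjoinRoot.lift_root]; rfl
    exact congrArg (fun g : S →+* S => g s) this
  have hR : ∀ r, (F (algebraMap R S r)).snd = actS da S (KaehlerDifferential.D Λ R r, 0) := fun r => by
    rw [AdjoinRoot.algebraMap_eq, show F (AdjoinRoot.of _ r) = f r from AdjoinRoot.lift_of _]
    rfl
  let δ : Derivation Λ S A' :=
    { toFun := fun s => (F s).snd
      map_add' := fun x y => by rw [map_add]; rfl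
      map_smul' := fun l s => by
        dsimp only [RingHom.id_apply]
        rw [Algebra.smul_def, map_mul, TrivSqZeroExt.snd_mul, hfst, hfst, op_smul_eq_smul,
          IsScalarTower.algebraMap_apply Λ R S, hR, Derivation.map_algebraMap,
          show ((0, 0) : Ω[R⁄Λ] × R) = 0 from rfl, actS, map_zero, LinearMap.baseChange_zero,
          smul_zero, add_zero, ← IsScalarTower.algebraMap_apply Λ R S, IsScalarTower.algebraMap_smul]
      map_one_eq_zero' := by
        show (F 1).snd = 0
        rw [map_one]; rfl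
      leibniz' := fun x y => by
        show (F (x * y)).snd = x • (F y).snd + y • (F x).snd
        rw [map_mul, TrivSqZeroExt.snd_mul, hfst, hfst, op_smul_eq_smul] }
  have hmul : ∀ x z, δ (x * z) = x • δ z + z • δ x := fun x z => δ.leibniz x z
  refine ⟨δ, hR, ?_, ?_⟩
  · show (F (AdjoinRoot.root _)).snd = _
    rw [AdjoinRoot.lift_root]; rfl
  · intro s
    obtain ⟨q, rfl⟩ := AdjoinRoot.mk_surjective s
    induction q using Polynomial.induction_on with
    | C r =>
      rw [AdjoinRoot.mk_C, ← AdjoinRoot.algebraMap_eq]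
      show (F (algebraMap R S r)).snd ∈ _
      rw [hR r]
      exact Submodule.subset_span ⟨_, rfl⟩
    | add f g hf hg => rw [map_add, map_add]; exact Submodule.add_mem _ hf hg
    | monomial n r ih =>
      rw [pow_succ, ← mul_assoc, map_mul, AdjoinRoot.mk_X]
      rw [hmul]
      refine Submodule.add_mem _ (Submodule.smul_mem _ _ ?_) (Submodule.smul_mem _ _ ih)
      show (F (AdjoinRoot.root _)).snd ∈ _
      rw [AdjoinRoot.lift_root]
      exact Submodule.subset_span ⟨_, rfl⟩

end Lift

set_option maxHeartbeats 4000000 in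
/-- Let p be a prime number, Λ → R a ring map with R of characteristic p, a ∈ R and S = R[x]/(x^p - a).
For every t ≥ 0 there is a canonical R-linear map Tr : Ω^{t+1}_{S/Λ} → Ω^{t+1}_{R/Λ} with η_1 ∧ … ∧
η_t ∧ x^i dx ↦ 0 for 0 ≤ i ≤ p - 2 and η_1 ∧ … ∧ η_t ∧ x^{p-1} dx ↦ η_1 ∧ … ∧ η_t ∧ da (η_j ∈
Ω_{R/Λ}, pulled back to Ω_{S/Λ}), and Tr annihilates the image of S ⊗_R Ω^{t+1}_{R/Λ} →
Ω^{t+1}_{S/Λ}. (Existence of such a map is asserted; R-linearity is written through the R-action on
S.) -/
theorem result (p : ℕ) [Fact p.Prime] (Λ R : Type u) [CommRing Λ] [CommRing R] [Algebra Λ R]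
    [CharP Λ p] [CharP R p] (a : R) (t : ℕ) :
    ∃ Tr : (⋀[AdjoinRoot (X ^ p - C a : R[X])]^(t + 1) (Ω[AdjoinRoot (X ^ p - C a : R[X])⁄Λ])) →+ (⋀[R]^(t + 1) (Ω[R⁄Λ])),
      (∀ (r : R) (ω : ⋀[AdjoinRoot (X ^ p - C a : R[X])]^(t + 1) (Ω[AdjoinRoot (X ^ p - C a : R[X])⁄Λ])),
        Tr (algebraMap R (AdjoinRoot (X ^ p - C a : R[X])) r • ω) = r • Tr ω) ∧
      (∀ (η : Fin t → Ω[R⁄Λ]) (i : ℕ), i + 2 ≤ p →
        Tr (exteriorPower.ιMulti _ (t + 1) (Fin.snoc (fun j => KaehlerDifferential.map Λ Λ R (AdjoinRoot (X ^ p - C a : R[X])) (η j))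
          (AdjoinRoot.root (X ^ p - C a) ^ i • KaehlerDifferential.D Λ _ (AdjoinRoot.root (X ^ p - C a))))) = 0) ∧
      (∀ (η : Fin t → Ω[R⁄Λ]),
        Tr (exteriorPower.ιMulti _ (t + 1) (Fin.snoc (fun j => KaehlerDifferential.map Λ Λ R (AdjoinRoot (X ^ p - C a : R[X])) (η j))
          (AdjoinRoot.root (X ^ p - C a) ^ (p - 1) • KaehlerDifferential.D Λ _ (AdjoinRoot.root (X ^ p - C a))))) =
          exteriorPower.ιMulti R (t + 1) (Fin.snoc η (KaehlerDifferential.D Λ R a))) ∧
      (∀ (s : AdjoinRoot (X ^ p - C a : R[X])) (η : Fin (t + 1) → Ω[R⁄Λ]),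
        Tr (s • exteriorPower.ιMulti _ (t + 1) (fun j => KaehlerDifferential.map Λ Λ R (AdjoinRoot (X ^ p - C a : R[X])) (η j))) = 0) := by
  classical
  let M := Ω[R⁄Λ]
  let S := AdjoinRoot (X ^ p - C a : R[X])
  have hp := (Fact.out : p.Prime).pos
  haveI := CharP.nontrivial_of_char_ne_one (R := R) (Fact.out : p.Prime).ne_one
  let α : M := KaehlerDifferential.D Λ R a
  obtain ⟨δ, hδR, hδx, hδV⟩ := exists_derivation Λ p a
  let f : Ω[S⁄Λ] →ₗ[S] A (R := R) α S := Derivation.liftKaehlerDifferential (R := Λ) (S := S) (M := A (R := R) α S) δ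
  have hfR : ∀ η : M, f (KaehlerDifferential.map Λ Λ R S η) = actS α S (η, 0) := by
    intro η
    have hη : η ∈ Submodule.span R (Set.range (KaehlerDifferential.D Λ R)) := by
      rw [KaehlerDifferential.span_range_derivation]; trivial
    induction hη using Submodule.span_induction with
    | mem z hz =>
      obtain ⟨r, rfl⟩ := hz
      rw [KaehlerDifferential.map_D, Derivation.liftKaehlerDifferential_comp_D, hδR]
    | zero =>
      rw [map_zero, map_zero, show ((0, 0) : M × R) = 0 from rfl, actS, map_zero, LinearMap.baseChange_zero]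
    | add x z _ _ hx hz => rw [map_add, map_add, hx, hz, ← actS_add, Prod.mk_add_mk, add_zero]
    | smul r x _ hx =>
      rw [map_smul, ← IsScalarTower.algebraMap_smul S r, map_smul, hx, IsScalarTower.algebraMap_smul,
        ← actS_smul, Prod.smul_mk, smul_zero]
  have hfV : ∀ ω, f ω ∈ V (R := R) α S := by
    intro ω
    have hω : ω ∈ Submodule.span S (Set.range (KaehlerDifferential.D Λ S)) := by
      rw [KaehlerDifferential.span_range_derivation]; trivial
    induction hω using Submodule.span_induction with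
    | mem z hz =>
      obtain ⟨s, rfl⟩ := hz
      rw [Derivation.liftKaehlerDifferential_comp_D]
      exact hδV s
    | zero => rw [map_zero]; exact Submodule.zero_mem _
    | add x z _ _ hx hz => rw [map_add]; exact Submodule.add_mem _ hx hz
    | smul r x _ hx => rw [map_smul]; exact Submodule.smul_mem _ _ hx
  let Φ : ExteriorAlgebra S Ω[S⁄Λ] →ₐ[S] A (R := R) α S :=
    ExteriorAlgebra.lift S ⟨f, fun m => sq_zero_of_mem α S (hfV m)⟩
  have hΦ : ∀ {n : ℕ} (v : Fin n → Ω[S⁄Λ]),
      Φ (exteriorPower.ιMulti S n v).1 = (List.ofFn fun i => f (v i)).prod := by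
    intro n v
    rw [exteriorPower.ιMulti_apply_coe, ExteriorAlgebra.ιMulti_apply, map_list_prod, List.map_ofFn]
    congr 2
    ext i : 1
    exact ExteriorAlgebra.lift_ι_apply ..
  let g := monic_X_pow_sub_C a hp.ne'
  let co : S →ₗ[R] R := (Polynomial.lcoeff R (p - 1)).comp (AdjoinRoot.modByMonicHom g)
  have hco : ∀ i, i < p → co (AdjoinRoot.root (X ^ p - C a : R[X]) ^ i) = if i = p - 1 then 1 else 0 := by
    intro i hi
    show ((AdjoinRoot.modByMonicHom g) (AdjoinRoot.root (X ^ p - C a : R[X]) ^ i)).coeff (p - 1) = _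
    rw [← AdjoinRoot.mk_X, ← map_pow, AdjoinRoot.modByMonicHom_mk,
      (Polynomial.modByMonic_eq_self_iff g).mpr (by
        rw [degree_X_pow_sub_C hp, degree_X_pow]; exact_mod_cast hi), Polynomial.coeff_X_pow]
    exact if_congr eq_comm rfl rfl
  let ψ : S ⊗[R] W (R := R) α →ₗ[R] W (R := R) α :=
    TensorProduct.lift ((LinearMap.lsmul R (W (R := R) α)).comp co)
  let z₀ : W (R := R) α := (⟨ExteriorAlgebra.ι R α, (mem_L α).2 ⟨1, one_mul _⟩⟩, 0)
  let π : ExteriorAlgebra R M →ₗ[R] ⋀[R]^(t + 1) M :=
    ((DirectSum.component R ℕ (fun i => ⋀[R]^i M) (t + 1))).comp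
      (DirectSum.decomposeLinearEquiv (fun i => ⋀[R]^i M)).toLinearMap
  have hπ : ∀ z : ⋀[R]^(t + 1) M, π z.1 = z := fun z => by
    show (DirectSum.decompose (fun i => ⋀[R]^i M) z.1) (t + 1) = z
    rw [DirectSum.decompose_coe, DirectSum.of_eq_same]
  let out : A (R := R) α S → ⋀[R]^(t + 1) M :=
    fun Y => (-1 : R) ^ t • π (ψ (Y ((1 : S) ⊗ₜ[R] z₀))).2.1
  have out_add : ∀ Y Z, out (Y + Z) = out Y + out Z := fun Y Z => by
    simp only [out, LinearMap.add_apply, map_add, Prod.snd_add, Submodule.coe_add, smul_add]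
  have out_smul : ∀ (r : R) Y, out (r • Y) = r • out Y := fun r Y => by
    simp only [out, LinearMap.smul_apply, map_smul, Prod.smul_snd, Submodule.coe_smul, smul_comm r]
  refine ⟨AddMonoidHom.mk' (fun ω => out (Φ ω.1)) (fun x z => by
    rw [Submodule.coe_add, map_add, out_add]), ?_, ?_, ?_, ?_⟩
  · intro r ω
    show out (Φ _) = r • out _
    rw [Submodule.coe_smul, map_smul, IsScalarTower.algebraMap_smul, out_smul]
  all_goals
    have main : ∀ (η : Fin t → M) (i : ℕ), i < p →
        out (Φ (exteriorPower.ιMulti S (t + 1) (Fin.snoc (fun j => KaehlerDifferential.map Λ Λ R S (η j))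
          (AdjoinRoot.root (X ^ p - C a : R[X]) ^ i • KaehlerDifferential.D Λ _ (AdjoinRoot.root (X ^ p - C a : R[X]))))).1) =
        (if i = p - 1 then (1 : R) else 0) • exteriorPower.ιMulti R (t + 1) (Fin.snoc η α) := by
      intro η i hi
      have e1 : (List.ofFn fun j => f ((Fin.snoc (fun j => KaehlerDifferential.map Λ Λ R S (η j))
          (AdjoinRoot.root (X ^ p - C a : R[X]) ^ i • KaehlerDifferential.D Λ S (AdjoinRoot.root (X ^ p - C a : R[X]))) : Fin (t + 1) → Ω[S⁄Λ]) j)) =
          ((List.ofFn η).map fun v => (v, (0 : R))).map (actS α S) ++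
            [AdjoinRoot.root (X ^ p - C a : R[X]) ^ i • actS α S ((0 : M), (1 : R))] := by
        rw [List.ofFn_succ', List.concat_eq_append, Fin.snoc_last, map_smul,
          Derivation.liftKaehlerDifferential_comp_D, hδx, List.map_ofFn, List.map_ofFn]
        congr 2
        ext j : 1
        rw [Fin.snoc_castSucc, hfR]; rfl
      rw [hΦ, e1, List.prod_append, List.prod_singleton, prod_baseChange]
      simp only [out, Module.End.mul_apply, LinearMap.smul_apply, actS, LinearMap.baseChange_tmul,
        TensorProduct.smul_tmul', smul_eq_mul, mul_one]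
      have e2 : act α ((0 : M), (1 : R)) z₀ = (0, z₀.1) := by
        rw [act_apply]; simp [z₀]
      simp only [e2, ψ, TensorProduct.lift.tmul, LinearMap.comp_apply, LinearMap.lsmul_apply, hco i hi,
        List.map_map, Function.comp_def, Prod.smul_snd, Submodule.coe_smul, map_smul, prod_act_snd]
      rw [List.length_ofFn, smul_comm]
      congr 1
      have e3 : ((-1 : ExteriorAlgebra R M) ^ t * ((List.ofFn η).map (ExteriorAlgebra.ι R)).prod) * z₀.1.1 =
          (-1 : R) ^ t • (exteriorPower.ιMulti R (t + 1) (Fin.snoc η α)).1 := by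
        rw [exteriorPower.ιMulti_apply_coe, ExteriorAlgebra.ιMulti_apply, List.ofFn_succ',
          List.concat_eq_append, List.prod_append, List.prod_singleton, Fin.snoc_last, Algebra.smul_def,
          map_pow, map_neg, map_one, List.map_ofFn, mul_assoc]
        congr 3
        congr 1
        ext j : 1
        rw [Fin.snoc_castSucc]; rfl
      rw [e3, map_smul, smul_smul, ← mul_pow, neg_one_mul, neg_neg, one_pow, one_smul]
      exact hπ _
  · intro η i hi
    refine (main η i (by omega)).trans ?_
    rw [if_neg (by omega), zero_smul]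
  · intro η
    refine (main η (p - 1) (by omega)).trans ?_
    rw [if_pos rfl, one_smul]
  · intro s η
    show out (Φ _) = 0
    rw [Submodule.coe_smul, map_smul, hΦ, funext fun j => hfR (η j),
      show (List.ofFn fun j => actS α S (η j, 0)) = ((List.ofFn η).map fun v => (v, (0 : R))).map (actS α S)
        by rw [List.map_ofFn, List.map_ofFn]; rfl, prod_baseChange]
    simp only [out, LinearMap.smul_apply, LinearMap.baseChange_tmul, TensorProduct.smul_tmul', ψ,
      TensorProduct.lift.tmul, LinearMap.comp_apply, LinearMap.lsmul_apply, Prod.smul_snd, List.map_map,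
      Function.comp_def]
    rw [prod_act_zero_snd α _ z₀ rfl, smul_zero, Submodule.coe_zero, map_zero, smul_zero]

end Groth.Agent.S7357
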