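import Groth.Statements.S7359
import Groth.Agent.ResolveLib.Modif
import Groth.Agent.BlowUpLib.Glue

set_option autoImplicit false
set_option backward.isDefEq.respectTransparency false
set_option backward.isDefEq.respectTransparency.types false
universe u
open CategoryTheory CategoryTheory.Limits AlgebraicGeometry
open Resolve

namespace Groth.Agent.S7359

/-- Nagata coordinate rings pass to schemes locally of finite type. -/
theorem isNagata_affine {X Y : Scheme.{u}} (f : Y ⟶ X) [LocallyOfFiniteType f]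
    (hN : ∀ U : X.affineOpens, CAlg.IsNagata Γ(X, U.1)) (V : Y.affineOpens) :
    CAlg.IsNagata Γ(Y, V.1) := by
  let ι := {p : X.affineOpens × Y.affineOpens // p.2.1 ≤ f ⁻¹ᵁ p.1.1}
  have hcov : iSup (fun p : ι => p.1.2.1) = ⊤ := by
    ext y
    simp only [TopologicalSpace.Opens.coe_iSup, Set.mem_iUnion, SetLike.mem_coe,
      TopologicalSpace.Opens.coe_top, Set.mem_univ, iff_true]
    obtain ⟨_, ⟨U, hU, rfl⟩, hy, -⟩ :=
      X.isBasis_affineOpens.exists_subset_of_mem_open (Set.mem_univ (f y)) isOpen_univ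
    obtain ⟨_, ⟨W, hW, rfl⟩, hyW, hWU⟩ :=
      Y.isBasis_affineOpens.exists_subset_of_mem_open (show y ∈ f ⁻¹ᵁ U from hy) (f ⁻¹ᵁ U).isOpen
    exact ⟨⟨(⟨U, hU⟩, ⟨W, hW⟩), hWU⟩, hyW⟩
  refine Groth.Agent.S9833.result Y (fun p : ι => p.1.2.1) hcov (fun p => p.1.2.2) (fun p => ?_)
    V.1 V.2
  letI := (f.appLE p.1.1.1 p.1.2.1 p.2).hom.toAlgebra
  haveI : Algebra.FiniteType Γ(X, p.1.1.1) Γ(Y, p.1.2.1) :=
    f.finiteType_appLE p.1.1.2 p.1.2.2 p.2
  exact Groth.Agent.S0566.result _ (hN p.1.1) _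

/-- The normalized blow-up of a closed point of a Nagata scheme is normal, Nagata and proper. -/
theorem result (X : Scheme.{u}) [IsIntegral X] [IsLocallyNoetherian X]
    (hN : ∀ U : X.affineOpens, CAlg.IsNagata Γ(X, U.1)) (x : X) (hx : IsClosed ({x} : Set X))
    (X' : Scheme.{u}) (b : X' ⟶ X) (hb : BlowUp.IsBlowUp b (Scheme.IdealSheafData.vanishingIdeal ⟨{x}, hx⟩)) [IsIntegral X']
    [QuasiCompact (X'.fromSpecStalk (genericPoint X'))] [QuasiSeparated (X'.fromSpecStalk (genericPoint X'))] :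
    Pi1.IsNormalScheme (Curv2.normalization X') ∧
      (∀ U : (Curv2.normalization X').affineOpens, CAlg.IsNagata Γ(Curv2.normalization X', U.1)) ∧
      IsProper (Curv2.normalizationι X' ≫ b) := by
  have hfg : BlowUp.IsFiniteTypeIdeal (Scheme.IdealSheafData.vanishingIdeal ⟨{x}, hx⟩) := fun U => by
    haveI := IsLocallyNoetherian.component_noetherian U
    exact IsNoetherian.noetherian _
  haveI := Groth.Agent.BlowUpLib.isProper_of_isBlowUp _ hb hfg
  have hN' := fun V => isNagata_affine b hN V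
  haveI := NormCurve.isFinite_normalizationι X' hN'
  exact ⟨NormCurve.isNormalScheme_normalization X',
    fun V => isNagata_affine (Curv2.normalizationι X' ≫ b) hN V, inferInstance⟩

end Groth.Agent.S7359
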