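import Groth.Statements.S7380
import Groth.Agent.LimitsH94.Approx.Closed
-- import your own Groth.Agent.* helpers here

set_option autoImplicit false
universe u
open CategoryTheory AlgebraicGeometry
open Lim

namespace Groth.Agent.S7380

/-- Let `f : X → S` be locally of finite type with `X` quasi-compact and quasi-separated and `S`
quasi-separated. Then, in the category of schemes over `S`, `X` is the limit of a nonempty directed
inverse system of schemes `X_i → S` of finite presentation (locally of finite presentation,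
quasi-compact and quasi-separated), each `X_i` being a quasi-compact and quasi-separated scheme,
whose transition morphisms are closed immersions. -/
theorem result {X S : Scheme.{u}}
    (f : X ⟶ S) [LocallyOfFiniteType f] [CompactSpace X] [QuasiSeparatedSpace X] [QuasiSeparatedSpace S] :
    ∃ (I : Type u) (_ : Preorder I) (_ : IsDirected I (fun a b => a ≤ b)) (_ : Nonempty I)
      (D : Iᵒᵖ ⥤ Over S) (c : Limits.Cone D) (_ : Limits.IsLimit c),
      (∀ i, LocallyOfFinitePresentation (D.obj i).hom ∧ QuasiCompact (D.obj i).hom ∧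
        QuasiSeparated (D.obj i).hom ∧ CompactSpace (D.obj i).left ∧ QuasiSeparatedSpace (D.obj i).left) ∧
      (∀ (i j : Iᵒᵖ) (a : i ⟶ j), IsClosedImmersion (D.map a).left) ∧
      Nonempty (c.pt ≅ Over.mk f) := by
  obtain ⟨P, i, p, -, hp, hpc, hpq, -, hcl, hip⟩ := Groth.Agent.LimitsH94.Approx.exists_factor f
  haveI := hcl inferInstance
  obtain ⟨U, hUc, hUf⟩ : ∃ U : S.Opens, IsCompact (U : Set S) ∧ Set.range f ⊆ (U : Set S) := by
    obtain ⟨t, ht⟩ := (isCompact_range f.continuous).elim_finite_subcover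
      (fun U : S.affineOpens => (U.1 : Set S)) (fun U => U.1.2) fun x _ => by
        obtain ⟨U, hU, hxU, -⟩ := exists_isAffineOpen_mem_and_subset (x := x) (U := (⊤ : S.Opens)) trivial
        exact Set.mem_iUnion.2 ⟨⟨U, hU⟩, hxU⟩
    exact ⟨⟨⋃ U ∈ t, (U.1 : Set S), isOpen_biUnion fun U _ => U.1.2⟩,
      t.isCompact_biUnion fun U _ => U.2.isCompact, ht⟩
  haveI : CompactSpace (p ⁻¹ᵁ U : P.Opens) :=
    isCompact_iff_compactSpace.mp (p.isCompact_preimage hUc)
  haveI : QuasiSeparatedSpace P := quasiSeparatedSpace_of_quasiSeparated p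
  haveI : QuasiSeparatedSpace (p ⁻¹ᵁ U : P.Opens) := quasiSeparatedSpace_of_quasiSeparated (p ⁻¹ᵁ U).ι
  have hr : Set.range i ⊆ Set.range (p ⁻¹ᵁ U).ι := by
    rw [Scheme.Opens.range_ι]
    rintro _ ⟨x, rfl⟩
    exact hUf ⟨x, by rw [← hip]; rfl⟩
  let i' : X ⟶ (p ⁻¹ᵁ U : P.Opens) := IsOpenImmersion.lift (p ⁻¹ᵁ U).ι i hr
  haveI : IsClosedImmersion (i' ≫ (p ⁻¹ᵁ U).ι) := by rw [IsOpenImmersion.lift_fac]; infer_instance
  haveI : IsClosedImmersion i' := IsClosedImmersion.of_comp i' (p ⁻¹ᵁ U).ι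
  haveI : QuasiCompact (p ⁻¹ᵁ U).ι := AlgebraicGeometry.quasiCompact_of_compactSpace _
  obtain ⟨J, _, _, _, D, π, hlim, hD, -, htr⟩ := Groth.Agent.LimitsH94.Approx.exists_closed_system i' ((p ⁻¹ᵁ U).ι ≫ p) f
    (by rw [IsOpenImmersion.lift_fac_assoc, hip])
  refine ⟨J, inferInstance, inferInstance, inferInstance, D, _, hlim, fun k => ?_, htr, ⟨Iso.refl _⟩⟩
  obtain ⟨z, hz, hzf, hzp, -, -⟩ := hD k
  rw [← hzp]
  exact ⟨inferInstance, inferInstance, inferInstance, QuasiCompact.compactSpace_of_compactSpace z,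
    quasiSeparatedSpace_of_quasiSeparated z⟩

end Groth.Agent.S7380
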