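import Groth.Statements.S7413
import Groth.Agent.MorLib.ProjSections
import Groth.Agent.QCoh.PullbackBC
-- import your own Groth.Agent.* helpers here

set_option autoImplicit false
universe u
open CategoryTheory AlgebraicGeometry
open Opposite
open Mor

namespace Groth.Agent.S7413

/-- Let `f : X → Y` be a morphism of schemes and `G` a quasi-coherent, locally projective `O_Y`-module
(projective sections over every affine open). Then `f^* G` is locally projective on `X`. -/
theorem result {X Y : Scheme.{u}} (f : X ⟶ Y) (G : Y.Modules) [Coh.IsQCoh G]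
    (hG : ∀ V : Y.Opens, IsAffineOpen V → Module.Projective (Y.ringCatSheaf.obj.obj (op V)) (G.val.obj (op V)))
    (U : X.Opens) (hU : IsAffineOpen U) :
    Module.Projective (X.ringCatSheaf.obj.obj (op U)) (((Scheme.Modules.pullback f).obj G).val.obj (op U)) := by
  refine MorLib.projective_sections_of_cover (QCoh.isQCoh_pullback f ‹_›)
    (fun p : {p : Y.affineOpens × X.affineOpens // p.2.1 ≤ f ⁻¹ᵁ p.1.1} => p.1.2.1) ?_ (fun p => p.1.2.2) ?_ hU
  · refine eq_top_iff.2 fun x _ => ?_
    obtain ⟨V, hV, hxV, -⟩ := exists_isAffineOpen_mem_and_subset (x := f x) (U := ⊤) trivial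
    obtain ⟨W, hW, hxW, hWV⟩ := exists_isAffineOpen_mem_and_subset (x := x) (U := f ⁻¹ᵁ V) hxV
    exact TopologicalSpace.Opens.mem_iSup.2 ⟨⟨(⟨V, hV⟩, ⟨W, hW⟩), hWV⟩, hxW⟩
  · rintro ⟨⟨⟨V, hV⟩, W, hW⟩, hle⟩
    letI := (f.appLE V W hle).hom.toAlgebra
    letI : Module Γ(Y, V) Γ((Scheme.Modules.pullback f).obj G, W) := Module.compHom _ (f.appLE V W hle).hom
    haveI : IsScalarTower Γ(Y, V) Γ(X, W) Γ((Scheme.Modules.pullback f).obj G, W) :=
      IsScalarTower.of_algebraMap_smul fun _ _ => rfl
    let l : Γ(G, V) →ₗ[Γ(Y, V)] Γ((Scheme.Modules.pullback f).obj G, W) :=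
      { toFun := QCoh.pullSec f G hle
        map_add' := QCoh.pullSec_add f G hle
        map_smul' := fun r x => QCoh.pullSec_smul f G hle r x }
    haveI : Module.Projective Γ(Y, V) Γ(G, V) := hG V hV
    exact Module.Projective.of_equiv
      (QCoh.isBaseChange_pullback hV f hW ‹_› hle (fun _ => rfl) l fun _ => rfl).equiv


end Groth.Agent.S7413
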