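import Groth.Statements.S7446
import Groth.Agent.MorLib.BddFib
import Groth.Agent.H23.FiniteFibreSum
-- import your own Groth.Agent.* helpers here

set_option autoImplicit false
universe u
open CategoryTheory AlgebraicGeometry
open BddFib

open Groth.Agent
namespace Groth.Agent.S7446

/-- When every fibre of `f : X → Y` has degree at most `n`, then for every field `k` and every `Spec k →
Y`, writing `X_k = {x_1, …, x_t}`, one has `Σ_i [κ(x_i) : k] ≤ n`. (Residue degrees are taken along
`X_k → Spec k`; `X_k` is finite, so the sum is a finite sum.) -/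
theorem result {X Y : Scheme.{u}} (f : X ⟶ Y) (n : ℕ) (hf : BddFib.FibreDegLE f n)
    (k : Type u) [Field k] (g : Spec (CommRingCat.of k) ⟶ Y) :
    Finite ↥(Limits.pullback f g) ∧
      ∑ᶠ x : ↥(Limits.pullback f g), (Limits.pullback.snd f g).residueDegree x ≤ n := by
  haveI := (MorLib.BF.natCard_pullback_le hf k g).1
  refine ⟨inferInstance, ?_⟩
  obtain ⟨hT, hfin, hrk⟩ := (MorLib.BF.fibreDegLE_iff f n).mp hf k g
  set p := Limits.pullback.snd f g
  set φ := (Scheme.ΓSpecIso (CommRingCat.of k)).inv ≫ p.appTop
  have hflat : φ.hom.Flat := by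
    letI := φ.hom.toAlgebra
    exact RingHom.flat_algebraMap_iff.2 (Module.Flat.of_free (R := k))
  set e := (Limits.pullback f g).isoSpec
  haveI : IsArtinianRing (CommRingCat.of k) := inferInstanceAs (IsArtinianRing k)
  haveI : IsLocalRing (CommRingCat.of k) := inferInstanceAs (IsLocalRing k)
  haveI : Finite ↥(Spec Γ(Limits.pullback f g, ⊤)) :=
    Finite.of_equiv _ (Scheme.homeoOfIso e).toEquiv
  letI := Fintype.ofFinite ↥(Spec Γ(Limits.pullback f g, ⊤))
  letI := Fintype.ofFinite ↥(Limits.pullback f g)
  have hdeg : ∀ x, p.residueDegree x = (Spec.map φ).residueDegree (e.hom x) := fun x => by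
    rw [H23.FiniteFibreSum.residueDegree_congr' (MorLib.BF.eq_isoSpec_hom_comp p),
      CycLib.residueDegree_comp, CycLib.residueDegree_preimmersion (Limits.pullback f g).isoSpec.hom, mul_one]
  have key := H23.FiniteFibreSum.sum_length φ hfin hflat
  have hlen : Module.length k k = 1 := by
    rw [H23.FiniteFibreSum.length_eq_finrank, Module.finrank_self, Nat.cast_one]
  rw [show Module.length (CommRingCat.of k) (CommRingCat.of k) = 1 from hlen, mul_one] at key
  rw [finsum_eq_sum_of_fintype]
  refine le_trans ?_ hrk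
  rw [← ENat.natCast_le_natCast]
  refine le_trans ?_ (ge_of_eq key)
  rw [Nat.cast_sum, ← Equiv.sum_comp (Scheme.homeoOfIso e).toEquiv]
  refine Finset.sum_le_sum fun x _ => ?_
  rw [show (Scheme.homeoOfIso e).toEquiv x = e.hom x from rfl, ← hdeg]
  exact le_mul_of_one_le_left zero_le (Order.one_le_iff_pos.2 Module.length_pos)

end Groth.Agent.S7446
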