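import Groth.Statements.S7447
import Groth.Agent.LimitsH94.Approx.Main
-- import your own Groth.Agent.* helpers here

set_option autoImplicit false
universe u
open CategoryTheory AlgebraicGeometry
open Opposite
open Lim

namespace Groth.Agent.S7447

/-- Noetherian approximation relative to a quasi-compact open: let `S` be quasi-compact and
quasi-separated, `V ⊆ S` a quasi-compact open, and `V = lim V_i` the limit of an inverse system,
over a nonempty directed set `I`, of schemes of finite type over `ℤ` with affine transition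
morphisms. Then there are a nonempty directed set `J`, an inverse system `(S_j)` of schemes of
finite type over `ℤ` with affine transition morphisms and `S = lim S_j`, an order preserving map `α
: J → I`, opens `V'_j ⊆ S_j` and isomorphisms `V'_j ≅ V_{α(j)}` such that: the transition maps
satisfy `g_{jj'}⁻¹(V'_{j'}) = V'_j`; `V` is the inverse image of each `V'_j` under `S → S_j` (which
identifies `V` with `lim V'_j`); the composite `V → V'_j → V_{α(j)}` is the projection; and the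
squares `V'_j → V_{α(j)} → V_{α(j')}`, `V'_j → V'_{j'} → V_{α(j')}` commute. -/
theorem result (S : Scheme.{u}) [CompactSpace S] [QuasiSeparatedSpace S]
    (V : S.Opens) (hV : IsCompact (V : Set S)) (I : Type u) [Preorder I] [IsDirected I (fun a b => a ≤ b)] [Nonempty I]
    (DV : Iᵒᵖ ⥤ Scheme.{u}) (haff : ∀ (i i' : Iᵒᵖ) (a : i ⟶ i'), IsAffineHom (DV.map a))
    (hft : ∀ i, CompactSpace (DV.obj i) ∧ LocallyOfFiniteType (Limits.IsTerminal.from specULiftZIsTerminal (DV.obj i)))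
    (cV : Limits.Cone DV) (hcV : Limits.IsLimit cV) (eV : cV.pt ≅ (V : Scheme.{u})) :
    ∃ (J : Type u) (_ : Preorder J) (_ : IsDirected J (fun a b => a ≤ b)) (_ : Nonempty J)
      (DS : Jᵒᵖ ⥤ Scheme.{u}) (cS : Limits.Cone DS) (_ : Limits.IsLimit cS) (eS : cS.pt ≅ S)
      (α : J →o I) (V' : ∀ j : J, (DS.obj (op j)).Opens)
      (φ : ∀ j : J, (V' j : Scheme.{u}) ≅ DV.obj (op (α j))),
      (∀ (j j' : Jᵒᵖ) (a : j ⟶ j'), IsAffineHom (DS.map a)) ∧
      (∀ j, CompactSpace (DS.obj j) ∧ LocallyOfFiniteType (Limits.IsTerminal.from specULiftZIsTerminal (DS.obj j))) ∧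
      (∀ (j j' : J) (h : j' ≤ j), (DS.map (homOfLE h).op) ⁻¹ᵁ (V' j') = V' j) ∧
      (∀ j : J, (eS.inv ≫ cS.π.app (op j)) ⁻¹ᵁ (V' j) = V) ∧
      (∀ j : J, ∃ ρ : (V : Scheme.{u}) ⟶ (V' j : Scheme.{u}),
        ρ ≫ (V' j).ι = V.ι ≫ eS.inv ≫ cS.π.app (op j) ∧ ρ ≫ (φ j).hom = eV.inv ≫ cV.π.app (op (α j))) ∧
      (∀ (j j' : J) (h : j' ≤ j), ∃ τ : (V' j : Scheme.{u}) ⟶ (V' j' : Scheme.{u}),
        τ ≫ (V' j').ι = (V' j).ι ≫ DS.map (homOfLE h).op ∧
        (φ j).hom ≫ DV.map (homOfLE (α.mono h)).op = τ ≫ (φ j').hom) := by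
  haveI : CompactSpace (V : Scheme.{u}) := isCompact_iff_compactSpace.mp hV
  let A : Groth.Agent.LimitsH94.Approx.Appr (V : Scheme.{u}) :=
    { I := I
      D := DV
      aff := haff
      ftz := hft
      π := (CategoryTheory.Functor.const _).map eV.inv ≫ cV.π
      lim := CategoryTheory.Limits.IsLimit.ofIsoLimit hcV (CategoryTheory.Limits.Cone.ext eV fun a => by
        show cV.π.app a = eV.hom ≫ eV.inv ≫ cV.π.app a
        rw [Iso.hom_inv_id_assoc]) }
  obtain ⟨B, ⟨r⟩⟩ := Groth.Agent.LimitsH94.Approx.exists_relative V.ι A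
  refine ⟨B.I, B.pre, B.dir, B.ne, B.D, ⟨S, B.π⟩, B.lim, Iso.refl _, r.α, fun j => (r.ι j).opensRange,
    fun j => (r.ι j).isoOpensRange.symm, B.aff, B.ftz, fun j j' h => ?_, fun j => ?_, fun j => ?_, fun j j' h => ?_⟩
  · refine TopologicalSpace.Opens.ext (Set.ext fun x => ⟨fun hx => ?_, ?_⟩)
    · exact Groth.Agent.LimitsH94.Approx.mem_range_of_isPullback (r.sq j' j h) hx
    · rintro ⟨y, rfl⟩
      exact ⟨A.tr (r.α.mono h) y, by rw [← Scheme.Hom.comp_apply, r.w h]; rfl⟩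
  · refine TopologicalSpace.Opens.ext (Set.ext fun x => ⟨fun hx => ?_, fun hx => ?_⟩)
    · obtain ⟨v, rfl⟩ := Groth.Agent.LimitsH94.Approx.mem_range_of_isPullback (r.sqπ j) hx
      exact v.2
    · exact ⟨A.pr (r.α j) ⟨x, hx⟩, by rw [← Scheme.Hom.comp_apply, r.wπ j]; rfl⟩
  · refine ⟨A.pr (r.α j) ≫ (r.ι j).isoOpensRange.hom, ?_, ?_⟩
    · rw [Category.assoc, Scheme.Hom.isoOpensRange_hom_ι, r.wπ]
      simp
    · simp only [Iso.symm_hom, Category.assoc, Iso.hom_inv_id, Category.comp_id]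
      rfl
  · refine ⟨(r.ι j).isoOpensRange.inv ≫ A.tr (r.α.mono h) ≫ (r.ι j').isoOpensRange.hom, ?_, ?_⟩
    · simp only [Category.assoc, Scheme.Hom.isoOpensRange_hom_ι, r.w h, Scheme.Hom.isoOpensRange_inv_comp_assoc]
    · simp only [Iso.symm_hom, Category.assoc, Iso.hom_inv_id, Category.comp_id]
      rfl

end Groth.Agent.S7447
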