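import Groth.Statements.S7489
import Groth.Agent.GrpdField29.ProfiniteRange
import Groth.Agent.GrpSchLib.AntiAffineHom

set_option autoImplicit false
set_option backward.isDefEq.respectTransparency false
set_option backward.isDefEq.respectTransparency.types false
universe u
open CategoryTheory MonoidalCategory CartesianMonoidalCategory MonObj GrpObj AlgebraicGeometry
open GrpSch

namespace Groth.Agent.S7489

/-- Let k be an algebraically closed field and G a group scheme over k such that the underlying space of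
G is Jacobson and every closed point of G is k-rational (the image of a section of G -> Spec k). Let
A be a k-algebra such that every finite subset of A is contained in a k-subalgebra isomorphic to a
finite product of copies of k (A is a directed colimit of such algebras), and f : Spec A -> G a
morphism over k. Then there is an affine open U of G containing the image of f. -/
theorem result (k : Type u) [Field k] [IsAlgClosed k] (G : Over (Spec (CommRingCat.of k))) [GrpObj G] [JacobsonSpace G.left] (hrat : ∀ g : G.left, IsClosed ({g} : Set G.left) → ∃ x : Spec (CommRingCat.of k) ⟶ G.left, x ≫ G.hom = 𝟙 _ ∧ x (IsLocalRing.closedPoint k) = g) (A : Type u) [CommRing A] [Algebra k A] (hA : ∀ s : Finset A, ∃ (B : Subalgebra k A) (n : ℕ), (↑s : Set A) ⊆ (B : Set A) ∧ Nonempty (B ≃ₐ[k] (Fin n → k))) (f : Spec (CommRingCat.of A) ⟶ G.left) (hf : f ≫ G.hom = Spec.map (CommRingCat.ofHom (algebraMap k A))) : ∃ U : G.left.Opens, IsAffineOpen U ∧ Set.range ⇑f ⊆ (U : Set G.left) := by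
  have : IsSeparated G.hom := Groth.Agent.GrpSchLib.AntiAffine.isSeparated_grp G
  have : G.left.IsSeparated := ⟨by
    rw [← Limits.terminal.comp_from G.hom]; infer_instance⟩
  -- left translations by rational points
  have hcancel : ∀ (g g' : 𝟙_ (Over (Spec (CommRingCat.of k))) ⟶ G), g * g' = 1 →
      ((toUnit G ≫ g) * 𝟙 G) ≫ ((toUnit G ≫ g') * 𝟙 G) = (toUnit G ≫ (g' * g)) * 𝟙 G := fun g g' _ => by
    rw [MonObj.comp_mul, ← Category.assoc, comp_toUnit, Category.comp_id, MonObj.comp_mul, _root_.mul_assoc]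
  have hiso : ∀ g : 𝟙_ (Over (Spec (CommRingCat.of k))) ⟶ G, IsIso ((toUnit G ≫ g) * 𝟙 G) := fun g =>
    ⟨(toUnit G ≫ g⁻¹) * 𝟙 G, by
      rw [hcancel g g⁻¹ (mul_inv_cancel g), inv_mul_cancel, MonObj.comp_one, _root_.one_mul], by
      rw [hcancel g⁻¹ g (inv_mul_cancel g), mul_inv_cancel, MonObj.comp_one, _root_.one_mul]⟩
  -- a maximal point
  obtain ⟨ζ, hζ⟩ : ∃ ζ : G.left, ∀ x, x ⤳ ζ → x = ζ := by
    let p₀ : G.left := η[G].left (IsLocalRing.closedPoint k)
    obtain ⟨ζ, hζ⟩ := QuasiSober.sober (isIrreducible_irreducibleComponent (x := p₀)) isClosed_irreducibleComponent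
    refine ⟨ζ, fun x hx => ?_⟩
    have h2 : irreducibleComponent p₀ ⊆ closure {x} := by
      rw [← hζ.def]
      exact isClosed_closure.closure_subset_iff.mpr (Set.singleton_subset_iff.mpr hx.mem_closure)
    have h1 : closure ({x} : Set G.left) = irreducibleComponent p₀ :=
      eq_irreducibleComponent isIrreducible_singleton.closure.2 h2
    exact IsGenericPoint.eq h1 hζ
  let K := G.left.residueField ζ
  let E : Over (Spec (CommRingCat.of k)) := Over.mk (G.left.fromSpecResidueField ζ ≫ G.hom)
  let ζ' : E ⟶ G := Over.homMk (G.left.fromSpecResidueField ζ) rfl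
  have hζ' : ∀ z : E.left, ζ'.left z = ζ := fun z =>
    (G.left.range_fromSpecResidueField ζ).subset ⟨z, rfl⟩
  let T : Over (Spec (CommRingCat.of k)) := Over.mk (Spec.map (CommRingCat.ofHom (algebraMap k A)))
  let f' : T ⟶ G := Over.homMk f hf
  have hAint : Algebra.IsIntegral k A := ⟨fun a => by
    obtain ⟨B, n, hB, ⟨e⟩⟩ := hA {a}
    have : Module.Finite k B := Module.Finite.equiv e.symm.toLinearEquiv
    exact (Algebra.IsIntegral.isIntegral (⟨a, hB (by simp)⟩ : B)).map B.val⟩
  have : IsIntegralHom T.hom := by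
    show IsIntegralHom (Spec.map _)
    rw [IsIntegralHom.SpecMap_iff]
    exact hAint.1
  -- rational points of T
  have hpts : ∀ t : T.left, ∃ x : 𝟙_ (Over (Spec (CommRingCat.of k))) ⟶ T, Set.range x.left = {t} := fun t => by
    let I : Ideal A := (show PrimeSpectrum A from t).asIdeal
    have : I.IsPrime := (show PrimeSpectrum A from t).isPrime
    have : Algebra.IsIntegral k (A ⧸ I) := ⟨fun y => by
      obtain ⟨a, rfl⟩ := Ideal.Quotient.mk_surjective y
      exact (hAint.1 a).map (Ideal.Quotient.mkₐ k I)⟩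
    let e := RingEquiv.ofBijective (algebraMap k (A ⧸ I)) IsAlgClosed.algebraMap_bijective_of_isIntegral
    let χ : A →+* k := e.symm.toRingHom.comp (Ideal.Quotient.mk I)
    have hχ : χ.comp (algebraMap k A) = RingHom.id k := RingHom.ext fun c => e.symm_apply_apply c
    refine ⟨Over.homMk (Spec.map (CommRingCat.ofHom χ)) (by
      show Spec.map _ ≫ Spec.map _ = 𝟙 _
      rw [← Spec.map_comp, ← CommRingCat.ofHom_comp, hχ]
      exact Spec.map_id _), ?_⟩
    ext y
    constructor
    · rintro ⟨z, rfl⟩
      show Spec.map (CommRingCat.ofHom χ) z = t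
      refine PrimeSpectrum.ext ?_
      show Ideal.comap χ (show PrimeSpectrum k from z).asIdeal = I
      rw [((show PrimeSpectrum k from z).asIdeal.eq_bot_or_top).resolve_right (show PrimeSpectrum k from z).isPrime.ne_top]
      ext a
      simp [χ, Ideal.Quotient.eq_zero_iff_mem]
    · rintro rfl
      refine ⟨IsLocalRing.closedPoint k, ?_⟩
      show Spec.map (CommRingCat.ofHom χ) _ = y
      refine PrimeSpectrum.ext ?_
      show Ideal.comap χ (IsLocalRing.maximalIdeal k) = I
      rw [IsLocalRing.maximalIdeal_eq_bot]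
      ext a
      simp [χ, Ideal.Quotient.eq_zero_iff_mem]
  choose pt hpt using hpts
  let h : T ⊗ E ⟶ G := (fst T E ≫ f') * (snd T E ≫ ζ')
  have hmax : ∀ p, ∀ x, x ⤳ h.left p → x = h.left p := by
    intro p
    obtain ⟨w, hw⟩ : ∃ w, (pt ((fst T E).left p) ▷ E).left w = p := by
      have hsq : IsPullback (fst (𝟙_ _) E) (pt ((fst T E).left p) ▷ E) (pt ((fst T E).left p)) (fst T E) :=
        IsPullback.of_isLimit (Limits.PullbackCone.IsLimit.mk (by simp)
          (fun c => lift c.fst (c.snd ≫ snd T E)) (fun c => lift_fst _ _)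
          (fun c => by
            rw [lift_whiskerRight]
            apply CartesianMonoidalCategory.hom_ext
            · rw [lift_fst]; exact c.condition
            · rw [lift_snd])
          (fun c m h1 h2 => by
            apply CartesianMonoidalCategory.hom_ext
            · rw [lift_fst]; exact h1
            · rw [lift_snd, ← h2, Category.assoc, whiskerRight_snd]))
      have hsq' : IsPullback (fst (𝟙_ _) E).left (pt ((fst T E).left p) ▷ E).left (pt ((fst T E).left p)).left
          (fst T E).left := hsq.map (Over.forget _)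
      have hr : p ∈ Set.range (Limits.pullback.snd (pt ((fst T E).left p)).left (fst T E).left) := by
        rw [Scheme.Pullback.range_snd, Set.mem_preimage, hpt]
        rfl
      obtain ⟨w, hw⟩ := hr
      exact ⟨hsq'.isoPullback.inv w, by
        rw [← Scheme.Hom.comp_apply, hsq'.isoPullback_inv_snd, hw]⟩
    let L := (toUnit G ≫ pt ((fst T E).left p) ≫ f') * 𝟙 G
    have := hiso (pt ((fst T E).left p) ≫ f')
    have hL : (pt ((fst T E).left p) ▷ E) ≫ h = (snd _ E ≫ ζ') ≫ L := by
      simp only [h, L, MonObj.comp_mul, whiskerRight_fst_assoc, whiskerRight_snd_assoc, Category.comp_id]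
      rw [← Category.assoc (snd _ E ≫ ζ'), comp_toUnit]
      rw [toUnit_unique (fst (𝟙_ (Over (Spec (CommRingCat.of k)))) E) (toUnit _)]
    intro x hx
    rw [← hw, ← Scheme.Hom.comp_apply, ← Over.comp_left, hL, Over.comp_left, Scheme.Hom.comp_apply,
      Over.comp_left, Scheme.Hom.comp_apply, hζ'] at hx ⊢
    have h1 : (inv L).left x ⤳ (inv L).left (L.left ζ) := hx.map (inv L).left.continuous
    rw [← Scheme.Hom.comp_apply L.left, ← Over.comp_left, IsIso.hom_inv_id] at h1
    have h2 : (inv L).left x = ζ := hζ _ h1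
    rw [← h2, ← Scheme.Hom.comp_apply, ← Over.comp_left, IsIso.inv_hom_id]
    rfl
  -- an affine neighbourhood of the translates of the maximal point
  obtain ⟨V, hV, hVr⟩ : ∃ V : G.left.Opens, IsAffineOpen V ∧ Set.range h.left ⊆ (V : Set G.left) := by
    have : IsAffine (T ⊗ E).left :=
      inferInstanceAs (IsAffine (Limits.pullback (Spec.map (CommRingCat.ofHom (algebraMap k A)))
        (G.left.fromSpecResidueField ζ ≫ G.hom)))
    have hs : IsIntegralHom (snd T E).left := inferInstanceAs (IsIntegralHom (Limits.pullback.snd T.hom E.hom))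
    have : IsAffine E.left := inferInstanceAs (IsAffine (Spec K))
    let κ : ↑K →+* Γ((T ⊗ E).left, ⊤) := ((Scheme.ΓSpecIso K).inv ≫ (snd T E).left.appTop).hom
    have hκ : κ.IsIntegral := RingHom.IsIntegral.trans _ _
      (RingHom.isIntegral_of_surjective _ (Scheme.ΓSpecIso K).symm.commRingCatIsoToRingEquiv.surjective)
      ((HasAffineProperty.iff_of_isAffine (P := @IsIntegralHom)).mp hs).2
    let φ : k →+* ↑K := ((Scheme.ΓSpecIso (CommRingCat.of k)).inv ≫ E.hom.appTop ≫ (Scheme.ΓSpecIso K).hom).hom
    let γ : k →+* Γ(G.left, ⊤) := ((Scheme.ΓSpecIso (CommRingCat.of k)).inv ≫ G.hom.appTop).hom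
    refine Groth.Agent.GrpdField29.exists_affine_of_maximal_range φ κ hκ γ h.left (fun c => ?_) hmax
    have e1 : (Scheme.ΓSpecIso (CommRingCat.of k)).inv ≫ G.hom.appTop ≫ h.left.appTop =
        ((Scheme.ΓSpecIso (CommRingCat.of k)).inv ≫ E.hom.appTop ≫ (Scheme.ΓSpecIso K).hom) ≫
          (Scheme.ΓSpecIso K).inv ≫ (snd T E).left.appTop := by
      rw [← Scheme.Hom.comp_appTop, Over.w h]
      simp only [Category.assoc]
      erw [Iso.hom_inv_id_assoc]
      rw [← Scheme.Hom.comp_appTop, Over.w (snd T E)]
    exact ConcreteCategory.congr_hom e1 c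
  -- a rational point translating the image into it
  let M : T ⊗ G ⟶ G := (fst T G ≫ f') * snd T G
  let C : Set G.left := (snd T G).left '' (M.left ⁻¹' (V : Set G.left)ᶜ)
  have hC : IsClosed C := by
    have : IsIntegralHom (snd T G).left := inferInstanceAs (IsIntegralHom (Limits.pullback.snd T.hom G.hom))
    exact (snd T G).left.isClosedMap _ (V.isOpen.isClosed_compl.preimage M.left.continuous)
  have hζC : ζ ∉ C := by
    rintro ⟨q, hq, hqζ⟩
    have hsq : IsPullback (snd T E) (T ◁ ζ') ζ' (snd T G) :=
      IsPullback.of_isLimit (Limits.PullbackCone.IsLimit.mk (by simp)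
        (fun c => lift (c.snd ≫ fst T G) c.fst) (fun c => lift_snd _ _)
        (fun c => by
          rw [lift_whiskerLeft]
          apply CartesianMonoidalCategory.hom_ext
          · rw [lift_fst]
          · rw [lift_snd]; exact c.condition)
        (fun c m h1 h2 => by
          apply CartesianMonoidalCategory.hom_ext
          · rw [lift_fst, ← h2, Category.assoc, whiskerLeft_fst]
          · rw [lift_snd]; exact h1))
    have hsq' : IsPullback (snd T E).left (T ◁ ζ').left ζ'.left (snd T G).left := hsq.map (Over.forget _)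
    have hr : q ∈ Set.range (Limits.pullback.snd ζ'.left (snd T G).left) := by
      rw [Scheme.Pullback.range_snd, Set.mem_preimage, hqζ]
      exact (G.left.range_fromSpecResidueField ζ).symm.subset rfl
    obtain ⟨w, rfl⟩ := hr
    refine hq ?_
    have h1 : (T ◁ ζ') ≫ M = h := by
      simp only [M, h, MonObj.comp_mul, whiskerLeft_fst_assoc, whiskerLeft_snd]
    show M.left _ ∈ V
    rw [← hsq'.isoPullback_inv_snd, Scheme.Hom.comp_apply, ← Scheme.Hom.comp_apply _ M.left, ← Over.comp_left, h1]
    exact hVr ⟨_, rfl⟩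
  obtain ⟨g₀, hg₀C, hg₀⟩ := nonempty_inter_closedPoints (Z := Cᶜ) ⟨ζ, hζC⟩ hC.isOpen_compl.isLocallyClosed
  obtain ⟨x, hx, hxg⟩ := hrat g₀ hg₀
  let x' : 𝟙_ (Over (Spec (CommRingCat.of k))) ⟶ G := Over.homMk x hx
  let R := 𝟙 G * (toUnit G ≫ x')
  have : IsIso R := ⟨𝟙 G * (toUnit G ≫ x'⁻¹), by
    simp only [R, MonObj.comp_mul, Category.comp_id, ← Category.assoc, comp_toUnit]
    rw [_root_.mul_assoc, ← MonObj.comp_mul, mul_inv_cancel, MonObj.comp_one, _root_.mul_one], by
    simp only [R, MonObj.comp_mul, Category.comp_id, ← Category.assoc, comp_toUnit]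
    rw [_root_.mul_assoc, ← MonObj.comp_mul, inv_mul_cancel, MonObj.comp_one, _root_.mul_one]⟩
  refine ⟨R.left ⁻¹ᵁ V, hV.preimage_of_isIso _, ?_⟩
  rintro _ ⟨t, rfl⟩
  show R.left (f'.left t) ∈ V
  have h1 : f' ≫ R = lift (𝟙 T) (toUnit T ≫ x') ≫ M := by
    simp only [R, M, MonObj.comp_mul, Category.comp_id, ← Category.assoc, comp_toUnit, lift_fst, lift_snd,
      Category.id_comp]
  rw [← Scheme.Hom.comp_apply, ← Over.comp_left, h1, Over.comp_left, Scheme.Hom.comp_apply]
  by_contra hn
  refine hg₀C ⟨_, hn, ?_⟩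
  rw [← Scheme.Hom.comp_apply, ← Over.comp_left, lift_snd, Over.comp_left, Scheme.Hom.comp_apply]
  refine (congrArg x'.left ?_).trans hxg
  exact Subsingleton.elim (α := PrimeSpectrum k) _ _

end Groth.Agent.S7489
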