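import Groth.Statements.S7493
import Mathlib

set_option autoImplicit false
universe u
open CategoryTheory CategoryTheory.Limits AlgebraicGeometry
open Grpd

namespace Groth.Agent.S7493

open AlgebraicGeometry CategoryTheory Limits Algebra

/-- Algebraically closed extensions with equipotent transcendence bases are isomorphic over the base. -/
lemma exists_equiv {R K L : Type u} [Field R] [Field K] [Field L] {A₁ : Algebra R K} {A₂ : Algebra R L}
    [IsAlgClosed K] [IsAlgClosed L] {v : Set K} {w : Set L} (e : v ≃ w)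
    (hv : IsTranscendenceBasis R ((↑) : v → K)) (hw : IsTranscendenceBasis R ((↑) : w → L)) :
    ∃ σ : K ≃+* L, ∀ r : R, σ (algebraMap R K r) = algebraMap R L r := by
  let := IsAlgClosed.isAlgClosure_of_transcendence_basis _ hv
  let := IsAlgClosed.isAlgClosure_of_transcendence_basis _ hw
  let f := (hv.1.aevalEquiv.symm.trans (MvPolynomial.renameEquiv R e)).trans hw.1.aevalEquiv
  refine ⟨IsAlgClosure.equivOfEquiv K L f.toRingEquiv, fun r => ?_⟩
  rw [IsScalarTower.algebraMap_apply R (Algebra.adjoin R (Set.range ((↑) : v → K))) K,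
    IsAlgClosure.equivOfEquiv_algebraMap, IsScalarTower.algebraMap_apply R (Algebra.adjoin R (Set.range ((↑) : w → L))) L]
  exact congrArg _ (f.commutes r)

/-- A large algebraically closed extension. -/
lemma exists_big (κ : Type u) [Field κ] : ∃ (Ω : Type u) (_ : Field Ω) (_ : IsAlgClosed Ω) (_ : Algebra κ Ω),
    Algebra.trdeg κ Ω = Cardinal.mk (κ ⊕ ℕ) := by
  let F := FractionRing (MvPolynomial (κ ⊕ ℕ) κ)
  have : Algebra.IsAlgebraic (MvPolynomial (κ ⊕ ℕ) κ) F :=
    IsLocalization.isAlgebraic F (nonZeroDivisors (MvPolynomial (κ ⊕ ℕ) κ))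
  refine ⟨AlgebraicClosure F, inferInstance, inferInstance, inferInstance, ?_⟩
  rw [← trdeg_add_eq κ F, trdeg_eq_zero (R := F), add_zero, ← trdeg_add_eq κ (MvPolynomial (κ ⊕ ℕ) κ),
    trdeg_eq_zero (R := MvPolynomial (κ ⊕ ℕ) κ), add_zero, MvPolynomial.trdeg_of_isDomain, Cardinal.lift_id]

/-- Two algebra structures of the same transcendence degree on an algebraically closed field are conjugate. -/
lemma exists_conj {k Ω : Type u} [Field k] [Field Ω] [IsAlgClosed Ω] (A₁ A₂ : Algebra k Ω)
    (h : @Algebra.trdeg k Ω _ _ A₁ = @Algebra.trdeg k Ω _ _ A₂) :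
    ∃ σ : Ω ≃+* Ω, ∀ r, σ (@algebraMap k Ω _ _ A₁ r) = @algebraMap k Ω _ _ A₂ r := by
  obtain ⟨v, hv⟩ := (let := A₁; exists_isTranscendenceBasis k Ω)
  obtain ⟨w, hw⟩ := (let := A₂; exists_isTranscendenceBasis k Ω)
  have hv' := (let := A₁; hv.cardinalMk_eq_trdeg)
  have hw' := (let := A₂; hw.cardinalMk_eq_trdeg)
  exact exists_equiv (A₁ := A₁) (A₂ := A₂) (Cardinal.eq.1 (hv'.trans (h.trans hw'.symm))).some hv hw

open Cardinal in
/-- Two embeddings of a field become conjugate in a large algebraically closed field. -/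
lemma exists_aut {k κ : Type u} [Field k] [Field κ] (g₁ g₂ : k →+* κ) :
    ∃ (Ω : Type u) (_ : Field Ω) (_ : IsAlgClosed Ω) (ψ : κ →+* Ω) (σ : Ω ≃+* Ω),
      (σ.toRingHom.comp (ψ.comp g₁)) = ψ.comp g₂ := by
  obtain ⟨Ω, _, _, _, hΩ⟩ := exists_big κ
  have key : ∀ g : k →+* κ, @Algebra.trdeg k Ω _ _ ((algebraMap κ Ω).comp g).toAlgebra = #(κ ⊕ ℕ) := by
    intro g
    let : Algebra k κ := g.toAlgebra
    let : Algebra k Ω := ((algebraMap κ Ω).comp g).toAlgebra
    have : IsScalarTower k κ Ω := IsScalarTower.of_algebraMap_eq fun x => rfl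
    rw [← trdeg_add_eq k κ, hΩ]
    obtain ⟨s, hs⟩ := exists_isTranscendenceBasis k κ
    refine Cardinal.add_eq_right (Cardinal.aleph0_le_mk _) ?_
    rw [← hs.cardinalMk_eq_trdeg]
    exact (Cardinal.mk_set_le s).trans ⟨⟨Sum.inl, Sum.inl_injective⟩⟩
  obtain ⟨σ, hσ⟩ := exists_conj _ _ ((key g₁).trans (key g₂).symm)
  exact ⟨Ω, inferInstance, inferInstance, algebraMap κ Ω, σ, RingHom.ext hσ⟩

/-- If the composite of a field-valued point with a morphism is an isomorphism, that morphism induces an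
isomorphism on the residue fields at the point. -/
lemma isIso_residueFieldMap {X Y : Scheme.{u}} (q : X ⟶ Y) {Ω : Type u} [Field Ω]
    (P : Spec (CommRingCat.of Ω) ⟶ X) [IsIso (P ≫ q)] (pt : Spec (CommRingCat.of Ω)) :
    IsIso (q.residueFieldMap (P pt)) := by
  have h := Scheme.residueFieldMap_comp P q pt
  have hiso : IsIso ((P ≫ q).residueFieldMap pt) := inferInstance
  rw [h] at hiso
  haveI : IsIso (Y := (Spec (CommRingCat.of Ω)).residueField pt) (q.residueFieldMap (P pt) ≫ P.residueFieldMap pt) := hiso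
  have hc := ConcreteCategory.bijective_of_isIso (q.residueFieldMap (P pt) ≫ P.residueFieldMap pt)
  have : IsIso (P.residueFieldMap pt) := by
    refine (ConcreteCategory.isIso_iff_bijective _).2 ⟨RingHom.injective (P.residueFieldMap pt).hom, fun y => ?_⟩
    obtain ⟨x, hx⟩ := hc.2 y
    exact ⟨_, hx⟩
  exact IsIso.of_isIso_comp_right _ (P.residueFieldMap pt)

/-- Let (U, R, s, t, c) be a groupoid scheme over S with U = Spec k for a field k, and let r be a point
of R. Then there exist a field extension k -> k' with k' algebraically closed and a point r' of the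
restriction R' of R along g : U' = Spec k' -> U, that is R' = (U' x_(g,U,t) R) x_(s pr, U, g) U'
with t' the projection to the first factor U' and s' the projection to the last factor U', such that
r' maps to r under R' -> R and both s' and t' induce isomorphisms on residue fields at r' (k' ->
κ(r') bijective). (A groupoid scheme carries U, R, s, t, c, e, i over S with the groupoid axioms on
T-points; c is defined on the fibre product of s and t and sends a pair (a, b) with s(a) = t(b) to a
composed with b.) -/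
theorem result (S : Scheme.{u}) (G : Grpd.GroupoidScheme S) (k : Type u) [Field k] (eU : G.U ≅ Spec (CommRingCat.of k)) (r : G.R) : ∃ (k' : Type u) (_ : Field k') (_ : IsAlgClosed k') (_ : Algebra k k'), ∃ r' : ↑(pullback (pullback.snd (Spec.map (CommRingCat.ofHom (algebraMap k k')) ≫ eU.inv) G.t ≫ G.s) (Spec.map (CommRingCat.ofHom (algebraMap k k')) ≫ eU.inv)), (pullback.fst (pullback.snd (Spec.map (CommRingCat.ofHom (algebraMap k k')) ≫ eU.inv) G.t ≫ G.s) (Spec.map (CommRingCat.ofHom (algebraMap k k')) ≫ eU.inv) ≫ pullback.snd (Spec.map (CommRingCat.ofHom (algebraMap k k')) ≫ eU.inv) G.t) r' = r ∧ IsIso ((pullback.snd (pullback.snd (Spec.map (CommRingCat.ofHom (algebraMap k k')) ≫ eU.inv) G.t ≫ G.s) (Spec.map (CommRingCat.ofHom (algebraMap k k')) ≫ eU.inv)).residueFieldMap r') ∧ IsIso ((pullback.fst (pullback.snd (Spec.map (CommRingCat.ofHom (algebraMap k k')) ≫ eU.inv) G.t ≫ G.s) (Spec.map (CommRingCat.ofHom (algebraMap k k')) ≫ eU.inv) ≫ pullback.fst (Spec.map (CommRingCat.ofHom (algebraMap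 k k')) ≫ eU.inv) G.t).residueFieldMap r') := by
  let κ : Type u := G.R.residueField r
  obtain ⟨τ, hτ⟩ : ∃ τ : CommRingCat.of k ⟶ G.R.residueField r, Spec.map τ = G.R.fromSpecResidueField r ≫ G.t ≫ eU.hom :=
    ⟨_, Spec.map_preimage _⟩
  obtain ⟨ς, hς⟩ : ∃ ς : CommRingCat.of k ⟶ G.R.residueField r, Spec.map ς = G.R.fromSpecResidueField r ≫ G.s ≫ eU.hom :=
    ⟨_, Spec.map_preimage _⟩
  obtain ⟨Ω, _, _, ψ, σ, h⟩ := exists_aut τ.hom ς.hom
  let A : Algebra k Ω := (ψ.comp τ.hom).toAlgebra
  let g : CommRingCat.of k ⟶ CommRingCat.of Ω := CommRingCat.ofHom (algebraMap k Ω)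
  let ψ' : G.R.residueField r ⟶ CommRingCat.of Ω := CommRingCat.ofHom ψ
  let p : Spec (CommRingCat.of Ω) ⟶ G.R := Spec.map ψ' ≫ G.R.fromSpecResidueField r
  let σ' : CommRingCat.of Ω ⟶ CommRingCat.of Ω := CommRingCat.ofHom σ.toRingHom
  have : IsIso σ' := (ConcreteCategory.isIso_iff_bijective _).2 σ.bijective
  have ht : 𝟙 _ ≫ (Spec.map g ≫ eU.inv) = p ≫ G.t := by
    rw [Category.id_comp, ← cancel_mono eU.hom, Category.assoc, eU.inv_hom_id, Category.comp_id, Category.assoc,
      Category.assoc, ← hτ, ← Spec.map_comp]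
    rfl
  have hs : (pullback.lift (𝟙 _) p ht ≫ pullback.snd (Spec.map g ≫ eU.inv) G.t ≫ G.s) =
      Spec.map σ' ≫ (Spec.map g ≫ eU.inv) := by
    rw [pullback.lift_snd_assoc, ← cancel_mono eU.hom, Category.assoc, Category.assoc, ← hς, ← Spec.map_comp,
      Category.assoc, Category.assoc, eU.inv_hom_id, Category.comp_id, ← Spec.map_comp]
    exact congrArg Spec.map (CommRingCat.hom_ext h.symm)
  let P := pullback.lift (pullback.lift (𝟙 _) p ht) (Spec.map σ') hs
  refine ⟨Ω, inferInstance, inferInstance, A, P (IsLocalRing.closedPoint Ω), ?_, ?_, ?_⟩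
  · have e : P ≫ pullback.fst _ _ ≫ pullback.snd (Spec.map g ≫ eU.inv) G.t = p := by
      rw [pullback.lift_fst_assoc, pullback.lift_snd]
    have e2 : p (IsLocalRing.closedPoint Ω) = r := by
      show (Spec.map ψ' ≫ G.R.fromSpecResidueField r) (IsLocalRing.closedPoint Ω) = r
      exact (Scheme.Hom.comp_apply _ _ _).trans (G.R.fromSpecResidueField_apply r _)
    rw [← e] at e2
    exact e2
  · have : IsIso (P ≫ pullback.snd _ _) := by
      rw [pullback.lift_snd]; infer_instance
    exact isIso_residueFieldMap _ P _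
  · have : IsIso (P ≫ pullback.fst _ _ ≫ pullback.fst (Spec.map g ≫ eU.inv) G.t) := by
      rw [pullback.lift_fst_assoc, pullback.lift_fst]; infer_instance
    exact isIso_residueFieldMap _ P _

end Groth.Agent.S7493
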