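import Groth.Statements.S7503
import Groth.Agent.GrpdField29.ClosureSub

set_option autoImplicit false
universe u
open CategoryTheory CategoryTheory.Limits AlgebraicGeometry
open Grpd

set_option backward.isDefEq.respectTransparency false
set_option backward.isDefEq.respectTransparency.types false

namespace Groth.Agent.S7503

/-- Let (U, R, s, t, c) be a groupoid scheme over S with U the spectrum of a perfect field and let Z be
the reduced closed subscheme of U x_S U whose underlying set is the closure of the image of j = (t,
s). Then (U, Z, pr_0|_Z, pr_1|_Z, pr_02) is a groupoid scheme over S; stated as: there are a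
groupoid scheme G' over S with G'.R reduced and an isomorphism of schemes over S from G'.U to U such
that j' = (t', s') : G'.R -> G'.U x_S G'.U is a closed immersion and the image of j' followed by the
induced isomorphism G'.U x_S G'.U -> U x_S U is the closure of the image of j. (No morphism from (U,
R, s, t, c) to G' is asserted: when R is not reduced, j need not factor through the reduced
subscheme Z.) (A groupoid scheme carries U, R, s, t, c, e, i over S with the groupoid axioms on
T-points; c is defined on the fibre product of s and t and sends a pair (a, b) with s(a) = t(b) to a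
composed with b.) -/
theorem result (S : Scheme.{u}) (G : Grpd.GroupoidScheme S) (k : Type u) [Field k] [PerfectField k] (eU : G.U ≅ Spec (CommRingCat.of k)) : ∃ (G' : Grpd.GroupoidScheme S) (ψ : G'.U ≅ G.U) (hψ : ψ.hom ≫ G.pU = G'.pU), IsReduced G'.R ∧ IsClosedImmersion G'.j ∧ Set.range ⇑(G'.j ≫ pullback.map G'.pU G'.pU G.pU G.pU ψ.hom ψ.hom (𝟙 S) ((Category.comp_id _).trans hψ.symm) ((Category.comp_id _).trans hψ.symm)) = closure (Set.range ⇑G.j) := by
  have : IsIso (Groth.Agent.GrpdField29.toPair G).fU := (inferInstance : IsIso (𝟙 G.U))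
  obtain ⟨G', φ, h₁, h₂, h₃, h₄⟩ :=
    Groth.Agent.GrpdField29.exists_closure_groupoid (Groth.Agent.GrpdField29.toPair G) k eU
  have hψ : φ.fU ≫ G.pU = G'.pU := φ.fU_over
  refine ⟨G', @asIso _ _ _ _ φ.fU h₁, hψ, h₃, ?_⟩
  have hM : G'.j ≫ pullback.map G'.pU G'.pU G.pU G.pU φ.fU φ.fU (𝟙 S) ((Category.comp_id _).trans hψ.symm)
      ((Category.comp_id _).trans hψ.symm) = φ.fR := by
    apply pullback.hom_ext <;> simp only [GroupoidScheme.j, Category.assoc, pullback.lift_fst, pullback.lift_snd,
      pullback.lift_fst_assoc, pullback.lift_snd_assoc]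
    · exact φ.comm_t.symm
    · exact φ.comm_s.symm
  refine ⟨?_, Eq.trans ?_ h₄⟩
  rotate_left
  · exact congrArg (fun (m : G'.R ⟶ pullback G.pU G.pU) => Set.range ⇑m) hM
  have : IsIso φ.fU := h₁
  have : IsIso (pullback.map G'.pU G'.pU G.pU G.pU φ.fU φ.fU (𝟙 S) ((Category.comp_id _).trans hψ.symm)
      ((Category.comp_id _).trans hψ.symm)) := inferInstance
  exact (MorphismProperty.cancel_right_of_respectsIso @IsClosedImmersion G'.j _).mp (hM ▸ h₂)

end Groth.Agent.S7503
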