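import Groth.Statements.S7509
import Groth.Agent.GrpdField29.PairGrpd

set_option autoImplicit false
universe u
open CategoryTheory CategoryTheory.Limits AlgebraicGeometry
open Grpd

set_option backward.isDefEq.respectTransparency false
set_option backward.isDefEq.respectTransparency.types false

namespace Groth.Agent.S7509

/-- Let (U, R, s, t, c) be a groupoid scheme over S with U the spectrum of a field and R quasi-compact
(equivalently s, t quasi-compact), and let Z be the scheme-theoretic image of j = (t, s) : R -> U
x_S U. Then (U, Z, pr_0|_Z, pr_1|_Z, pr_02) is a groupoid scheme over S; stated as: there are a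
groupoid scheme G' over S and a morphism of groupoid schemes φ : (U, R, s, t, c) -> G' which is an
isomorphism on object schemes, such that j' : G'.R -> G'.U x_S G'.U is a closed immersion whose
kernel ideal sheaf equals the kernel ideal sheaf of j followed by the induced isomorphism U x_S U ->
G'.U x_S G'.U (so G'.R is the scheme-theoretic image of j, transported). (A groupoid scheme carries
U, R, s, t, c, e, i over S with the groupoid axioms on T-points; c is defined on the fibre product
of s and t and sends a pair (a, b) with s(a) = t(b) to a composed with b.) -/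
theorem result (S : Scheme.{u}) (G : Grpd.GroupoidScheme S) (k : Type u) [Field k] (eU : G.U ≅ Spec (CommRingCat.of k)) [CompactSpace G.R] : ∃ (G' : Grpd.GroupoidScheme S) (φ : Grpd.GroupoidScheme.Hom G G'), IsIso φ.fU ∧ IsClosedImmersion G'.j ∧ G'.j.ker = (G.j ≫ pullback.map G.pU G.pU G'.pU G'.pU φ.fU φ.fU (𝟙 S) ((Category.comp_id _).trans φ.fU_over.symm) ((Category.comp_id _).trans φ.fU_over.symm)).ker := by
  have : IsSeparated G.pU := by
    have : IsAffine G.U := IsAffine.of_isIso eU.hom
    exact IsSeparated.of_comp G.pU (Limits.terminal.from S)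
  have : (pullback G.pU G.pU).IsSeparated := ⟨by
    have : IsAffine G.U := IsAffine.of_isIso eU.hom
    rw [← terminal.comp_from (pullback.snd G.pU G.pU)]
    infer_instance⟩
  have : QuasiSeparatedSpace ↥(pullback G.pU G.pU) := quasiSeparatedSpace_of_quasiSeparated (terminal.from _)
  have : QuasiCompact G.j := by exact quasiCompact_of_compactSpace _
  let f := Groth.Agent.GrpdField29.toPair G
  have : IsIso f.fU := (inferInstance : IsIso (𝟙 G.U))
  have : QuasiCompact f.fR := (inferInstance : QuasiCompact G.j)
  obtain ⟨G', ψ, ε, h₁, h₂⟩ := Groth.Agent.GrpdField29.exists_image_groupoid f k eU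
  have e : ψ.fR = ε.inv ≫ G.j.imageι := (Iso.eq_inv_comp ε).mpr h₂
  have : IsClosedImmersion ψ.fR := by rw [e]; infer_instance
  let φ : GroupoidScheme.Hom G G' :=
    { fU := inv ψ.fU
      fR := G.j.toImage ≫ ε.hom
      fU_over := by rw [IsIso.inv_comp_eq]; exact ψ.fU_over.symm
      comm_s := by
        rw [← cancel_mono ψ.fU]
        simp only [Category.assoc, ← ψ.comm_s, e, Iso.hom_inv_id_assoc, IsIso.inv_hom_id, Category.comp_id,
          Scheme.Hom.toImage_imageι_assoc]
        exact pullback.lift_snd _ _ _
      comm_t := by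
        rw [← cancel_mono ψ.fU]
        simp only [Category.assoc, ← ψ.comm_t, e, Iso.hom_inv_id_assoc, IsIso.inv_hom_id, Category.comp_id,
          Scheme.Hom.toImage_imageι_assoc]
        exact pullback.lift_fst _ _ _
      comm_c := fun α β h => by
        have he : (G.j.toImage ≫ ε.hom) ≫ ψ.fR = G.j := by simp [e, Scheme.Hom.toImage_imageι]
        rw [← cancel_mono ψ.fR, Category.assoc, he, ψ.comm_c]
        refine (f.comm_c α β h).trans ?_
        exact Groth.Agent.GrpdLib.c_congr _ _ (by simp [f, Groth.Agent.GrpdField29.toPair, he]) (by simp [f, Groth.Agent.GrpdField29.toPair, he]) }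
  have hN : G'.j = ψ.fR ≫ pullback.map G.pU G.pU G'.pU G'.pU φ.fU φ.fU (𝟙 S)
      ((Category.comp_id _).trans φ.fU_over.symm) ((Category.comp_id _).trans φ.fU_over.symm) := by
    apply pullback.hom_ext <;> simp only [GroupoidScheme.j, Category.assoc, pullback.lift_fst, pullback.lift_snd]
    · rw [← Category.assoc, IsIso.eq_comp_inv]
      exact ψ.comm_t.symm
    · rw [← Category.assoc, IsIso.eq_comp_inv]
      exact ψ.comm_s.symm
  refine ⟨G', φ, (inferInstance : IsIso (inv ψ.fU)), ?_, ?_⟩
  · rw [hN]
    have : IsIso φ.fU := (inferInstance : IsIso (inv ψ.fU))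
    infer_instance
  · rw [hN, Scheme.Hom.ker_comp, Scheme.Hom.ker_comp G.j, e, Scheme.Hom.ker_comp_of_isIso]
    congr 1
    exact Scheme.IdealSheafData.ker_subschemeι _

end Groth.Agent.S7509
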