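import Groth.Statements.S7624
import Groth.Agent.FibDim.RelDim
import Groth.Agent.FibDim.BaseField
import Groth.Agent.FibDim.Open
import Groth.Agent.DimFormula.Fibre
-- import your own Groth.Agent.* helpers here

set_option autoImplicit false
set_option backward.isDefEq.respectTransparency.types false
universe u
open CategoryTheory CategoryTheory.Limits AlgebraicGeometry
open Variety

namespace Groth.Agent.S7624

/-- Let R be a valuation ring, X an irreducible scheme and f : X → Spec R a surjective morphism locally
of finite type. Then each irreducible component of the fibre of f over the closed point of Spec R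
has Krull dimension equal to that of the fibre of f over the generic point. -/
theorem result (R : Type u) [CommRing R] [IsDomain R] [ValuationRing R]
    (X : Scheme.{u}) [IrreducibleSpace ↥X] (f : X ⟶ Spec (CommRingCat.of R)) [LocallyOfFiniteType f] [Surjective f]
    (Z : Set ↥(f.fiber (IsLocalRing.closedPoint R))) (hZ : Z ∈ irreducibleComponents ↥(f.fiber (IsLocalRing.closedPoint R))) :
    topologicalKrullDim ↥Z = topologicalKrullDim ↥(f.fiber (⟨⊥, Ideal.bot_prime⟩ : PrimeSpectrum R)) := by
  let b : PrimeSpectrum R := ⟨⊥, Ideal.bot_prime⟩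
  let η : X := genericPoint X
  have hb : ∀ y : ↥(Spec (CommRingCat.of R)), b ⤳ y := fun y =>
    (PrimeSpectrum.le_iff_specializes b y).1 (bot_le : (⊥ : Ideal R) ≤ _)
  have hη : f η = b := by
    obtain ⟨x, hx⟩ := f.surjective b
    have h1 : f η ⤳ b := hx ▸ (genericPoint_specializes x).map f.continuous
    exact (h1.antisymm (hb _)).eq
  have hmax : Groth.Agent.FibDim.FibMax f η := Groth.Agent.FibDim.fibMax_of_maximal f fun z hz =>
    (hz.antisymm (genericPoint_specializes z)).eq
  have hG : topologicalKrullDim ↥(f.fiber b) = ((Groth.Agent.FibDim.rd f η : ℕ∞) : WithBot ℕ∞) := by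
    haveI : Subsingleton ↥(Spec (CommRingCat.of ((Spec (CommRingCat.of R)).residueField b))) :=
      inferInstanceAs (Subsingleton (PrimeSpectrum ((Spec (CommRingCat.of R)).residueField b)))
    rw [Groth.Agent.FibDim.topologicalKrullDim_eq_iSup_rd
      (Y := Spec (CommRingCat.of ((Spec (CommRingCat.of R)).residueField b))) (f.fiberToSpecResidueField b)]
    refine le_antisymm (iSup_le fun w => ?_) ?_
    · rw [Groth.Agent.DimFormula.rd_fiberToSpec]
      have h := Groth.Agent.FibDim.rd_le_of_specializes f (genericPoint_specializes (f.fiberι b w))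
        (hη.trans (Groth.Agent.FibDim.fiber_apply_fiberι f w).symm)
      exact_mod_cast h
    · obtain ⟨w, hw⟩ : η ∈ Set.range (f.fiberι b) := by rw [Scheme.Hom.range_fiberι]; exact hη
      refine le_iSup_of_le w ?_
      rw [Groth.Agent.DimFormula.rd_fiberToSpec, hw]
  let c : ↥(Spec (CommRingCat.of R)) := IsLocalRing.closedPoint R
  obtain ⟨a, rfl, hamax⟩ := Groth.Agent.VarDim.exists_generic_of_component hZ
  haveI : Subsingleton ↥(Spec (CommRingCat.of ((Spec (CommRingCat.of R)).residueField c))) :=
    inferInstanceAs (Subsingleton (PrimeSpectrum ((Spec (CommRingCat.of R)).residueField c)))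
  refine Eq.trans ?_ hG.symm
  rw [Groth.Agent.FibDim.topologicalKrullDim_closure
      (Y := Spec (CommRingCat.of ((Spec (CommRingCat.of R)).residueField c))) (f.fiberToSpecResidueField c) a,
    Groth.Agent.DimFormula.rd_fiberToSpec]
  have h1 := Groth.Agent.FibDim.rd_le_of_valuationRing f (genericPoint_specializes (f.fiberι c a))
    (fun y => hη ▸ hb y)
  have h2 := Groth.Agent.FibDim.fibreDimAt_ge_rd f (genericPoint_specializes (f.fiberι c a))
  rw [Groth.Agent.FibDim.fibreDimAt_eq_rd f ((Groth.Agent.FibDim.fibMax_fiberι_iff f a).2 hamax)] at h2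
  exact le_antisymm (by exact_mod_cast h1) h2

end Groth.Agent.S7624
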