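import Groth.Statements.S7626
import Groth.Agent.VarHyper.RatAvoid

set_option autoImplicit false
universe u
open CategoryTheory CategoryTheory.Limits AlgebraicGeometry
open Variety

set_option backward.isDefEq.respectTransparency false
set_option backward.isDefEq.respectTransparency.types false
set_option maxHeartbeats 800000

open Groth.Agent Groth.Agent.VarHyper

namespace Groth.Agent.S7626

/-- Let k be an infinite field, X a scheme of finite type over k, L a very ample invertible O_X-module
on X over k, n ≥ 0, x a k-rational point of X and x_1, …, x_n points of X with x_i ≠ x. Then there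
is a global section s of L which vanishes at x (x is not in the open where s generates L) but does
not vanish at any x_i. -/
theorem result (k : Type u) [Field k] (X : Scheme.{u}) [X.Over (Spec (CommRingCat.of k))] [Infinite k]
    [LocallyOfFiniteType (X ↘ (Spec (CommRingCat.of k)))] [QuasiCompact (X ↘ (Spec (CommRingCat.of k)))]
    (L : X.Modules) (hL : RelAmple.IsRelVeryAmplePn (X ↘ (Spec (CommRingCat.of k))) L)
    (x : ↥X) (hx : Function.Surjective (Curv2.resMap k X x)) (n : ℕ) (pts : Fin n → ↥X) (hne : ∀ i, pts i ≠ x) :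
    ∃ s : Coh.structureModule X ⟶ L, x ∉ CohB1.genLocus L s ∧ ∀ i, pts i ∈ CohB1.genLocus L s := by
  obtain ⟨m, i, hi, hif, ⟨eL⟩⟩ := hL
  let h := KRRLib.PnBC.affineIso m k
  let r := i ≫ h.inv
  have hr : r ≫ CohB1.ProjSpace.toSpec m k = X ↘ (Spec (CommRingCat.of k)) := by
    rw [← KRRLib.PnBC.affineIso_hom_pr, Category.assoc, Iso.inv_hom_id_assoc]
    exact hif
  haveI : IsImmersion r := MorphismProperty.comp_mem (W := @IsImmersion) i h.inv hi inferInstance
  have hinj : Function.Injective r := r.isEmbedding.injective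
  let e : L ≅ (Scheme.Modules.pullback r).obj (Twist.twist (CohB1.polyGrading m k) 1) :=
    eL ≪≫ (Scheme.Modules.pullbackCongr (show i = r ≫ h.hom by simp [r])).app _ ≪≫
      ((Scheme.Modules.pullbackComp r h.hom).app _).symm ≪≫
      (Scheme.Modules.pullback r).mapIso (KRRLib.PnBC.twistOverIso m k 1)
  obtain ⟨c, a, ha⟩ := exists_coords r hr x hx
  obtain ⟨f, hf, hfx, hfz⟩ := exists_linear_through ha (Set.finite_range fun j => r (pts j))
    (by rintro ⟨j, hj⟩; exact hne j (hinj hj))
  let t : Γ(L, ⊤) := e.inv.app ⊤ (InvX.pullElt r (U := ⊤) (ProjUPX.sec (CohB1.polyGrading m k)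
    (show f ∈ CohB1.polyGrading m k 1 from hf)))
  refine ⟨InvX.ofSect t, ?_⟩
  have hinv : PicF.IsInvertible (Twist.twist (CohB1.polyGrading m k) 1) :=
    isInvertible_twist 1
  have hloc : CohB1.genLocus L (InvX.ofSect t) = r ⁻¹ᵁ Proj.basicOpen (CohB1.polyGrading m k) f := by
    rw [← AmpleX.genLocus_sec (CohB1.polyGrading m k) (fun l : Fin (m + 1) => MvPolynomial.X l)
      (fun l => ZetaLib.X_mem_one m k l) ?_ (show f ∈ CohB1.polyGrading m k 1 from hf),
      AmpleX.genLocus_eq_locus, AmpleX.genLocus_eq_locus, InvX.one_ofSect, InvX.one_ofSect,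
      ← AmpleX.locus_pullElt hinv]
    · exact AmpleX.locus_iso e.symm _
    · exact Proj.iSup_basicOpen_eq_top _ _ (SegreX.irrelevant_le_span m k)
  rw [hloc]
  exact ⟨fun hx' => hx' hfx, fun j => hfz _ ⟨j, rfl⟩⟩

end Groth.Agent.S7626
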