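import Groth.Statements.S7647
import Groth.Agent.VarInt.Main
-- import your own Groth.Agent.* helpers here

set_option autoImplicit false
universe u
open CategoryTheory CategoryTheory.Limits AlgebraicGeometry
open Variety

namespace Groth.Agent.S7647

/-- Let X be proper over a field k, Z ⊆ X a closed subscheme of dimension ≤ 1 and L an invertible
module. Then the intersection number (L · Z), i.e. the coefficient of n in the polynomial computing
χ(X, O_Z ⊗ L^{⊗n}), equals the degree of L|_Z on Z. -/
theorem result (k : Type u) [Field k] (X : Scheme.{u}) [X.Over (Spec (CommRingCat.of k))] [IsProper (X ↘ (Spec (CommRingCat.of k)))]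
    (D : X.IdealSheafData) (hD : topologicalKrullDim (D.support : Set X) ≤ 1)
    (L : X.Modules) (hL : PicF.IsInvertible L) (P : MvPolynomial (Fin 1) ℚ)
    (hP : ∀ n : Fin 1 → ℕ, (Curv2.euler k X (Curv2.tensorPows (ClSub.quotMod D) 1 (fun _ => L) n) : ℚ) = MvPolynomial.eval (fun i => (n i : ℚ)) P) :
    MvPolynomial.coeff (Finsupp.equivFunOnFinite.symm fun _ : Fin 1 => 1) P =
      (@Curv2.deg k _ D.subscheme ⟨D.subschemeι ≫ (X ↘ (Spec (CommRingCat.of k)))⟩
        ((Scheme.Modules.pullback D.subschemeι).obj L) 1 : ℚ) := by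
  haveI := Groth.Agent.CurveCohLib.isNoetherian_of_proper (k := k) (X := X)
  letI : D.subscheme.Over (Spec (CommRingCat.of k)) := ⟨D.subschemeι ≫ (X ↘ (Spec (CommRingCat.of k)))⟩
  have hL' : ∀ j : Fin 1, PicF.IsInvertible ((fun _ : Fin 1 => L) j) := fun _ => hL
  obtain ⟨P', hP', hP'n⟩ := Groth.Agent.Snapper.exists_mpoly k hL' (Groth.Agent.ParShLib.isCoh_quotMod D)
    (d := 1) ((Groth.Agent.VarInt.dim_support_quotMod_le D).trans hD)
  obtain rfl : P = P' := Groth.Agent.VarInt.eq_of_eval_natCast fun n => (hP n).symm.trans (hP'n n)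
  have hval : ∀ m : ℕ, MvPolynomial.eval (fun _ => (m : ℚ)) P = (Curv2.euler k D.subscheme
      (CohB1.tensorMod (Coh.structureModule D.subscheme)
        (CohB1.tensorPow ((Scheme.Modules.pullback D.subschemeι).obj L) m)) : ℚ) := fun m => by
    rw [← hP (fun _ => m)]
    exact congrArg Int.cast (Groth.Agent.VarInt.euler_push_tensorPows k D.subschemeι rfl
      Groth.Agent.QCoh.isQCoh_structureModule hL' (fun _ => m))
  show MvPolynomial.coeff (Groth.Agent.VarInt.ones 1) P = _
  rw [Groth.Agent.VarInt.coeff_ones_eq_sum (Groth.Agent.Snapper.degLt_of_totalDegree (Nat.lt_succ_of_le hP')),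
    show ((Finset.univ : Finset (Fin 1)).powerset) = {∅, Finset.univ} from by decide]
  rw [Finset.sum_pair (by decide)]
  have h0 : (fun i : Fin 1 => if i ∈ (∅ : Finset (Fin 1)) then (1 : ℚ) else 0) = fun _ => ((0 : ℕ) : ℚ) := by
    funext i; simp
  have h1 : (fun i : Fin 1 => if i ∈ (Finset.univ : Finset (Fin 1)) then (1 : ℚ) else 0) = fun _ => ((1 : ℕ) : ℚ) := by
    funext i; simp [Subsingleton.elim i 0]
  rw [h0, h1, hval, hval]
  have e0 := Groth.Agent.CurveCohLib.euler_congr (k := k)
    (Groth.Agent.H23.PicMul.unit (Coh.structureModule D.subscheme)).some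
  have e1 := Groth.Agent.CurveCohLib.euler_congr (k := k)
    ((Groth.Agent.CurveTensor.structureTensorIso (CohB1.tensorMod (Coh.structureModule D.subscheme)
      ((Scheme.Modules.pullback D.subschemeι).obj L))) ≪≫ (Groth.Agent.CurveTensor.structureTensorIso _))
  simp only [Curv2.deg]
  rw [show Curv2.euler k D.subscheme (CohB1.tensorMod (Coh.structureModule D.subscheme)
      (CohB1.tensorPow ((Scheme.Modules.pullback D.subschemeι).obj L) 0)) = _ from e0,
    show Curv2.euler k D.subscheme (CohB1.tensorMod (Coh.structureModule D.subscheme)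
      (CohB1.tensorPow ((Scheme.Modules.pullback D.subschemeι).obj L) 1)) = _ from e1]
  push_cast
  simp
  ring

end Groth.Agent.S7647
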