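import Groth.Statements.S7677
import Groth.Agent.Lib.RegDescent
-- import your own Groth.Agent.* helpers here

set_option autoImplicit false
universe u
open CategoryTheory CategoryTheory.Limits AlgebraicGeometry
open Variety

set_option backward.isDefEq.respectTransparency false
set_option backward.isDefEq.respectTransparency.types false

namespace Groth.Agent.S7677

open Groth.Agent.RegEpi Groth.Agent.ProjRegular

noncomputable instance projOver (k : Type u) [Field k] (n : ℕ) :
    (Proj (CohB1.polyGrading n k)).Over (Spec (CommRingCat.of k)) :=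
  inferInstanceAs ((CohB1.ProjSpace n k).Over (Spec (CommRingCat.of k)))

theorem exists_vanishing_pos (k : Type u) [Field k] (n : ℕ) (F : (Proj (CohB1.polyGrading n k)).Modules)
    (hF : Coh.IsCoh F) : ∃ d₀ : ℤ, ∀ d, d₀ ≤ d → ∀ i : ℕ, 0 < i →
      Subsingleton (Coh.HH (Proj (CohB1.polyGrading n k)) ((twF d).obj F) i) := by
  classical
  choose d hd using fun (i : ℕ) (hi : 0 < i) => RegDescent.exists_vanishing_twF (k := k) hF i hi
  refine ⟨∑ i : Fin n, |d (i.val + 1) (Nat.succ_pos _)|, fun e he i hi => ?_⟩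
  rcases le_or_gt i n with h | h
  · refine hd i hi _ ?_
    obtain ⟨j, rfl⟩ : ∃ j, i = j + 1 := ⟨i - 1, by omega⟩
    have h2 := Finset.single_le_sum (f := fun i : Fin n => |d (i.val + 1) (Nat.succ_pos _)|)
      (fun _ _ => abs_nonneg _) (Finset.mem_univ (⟨j, h⟩ : Fin n))
    simp only at h2
    exact (le_abs_self _).trans (h2.trans he)
  · exact ProjRegular.subsingleton_HH_high (k := k) (n := n) hF _ i h

/-- Let k be a field, n ≥ 0 and F a coherent module on P^n_k with Hilbert polynomial P, i.e. χ(P^n_k,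
F(d)) = P(d) for all d. Then P(d) = dim_k H^0(P^n_k, F(d)) for all d ≫ 0. -/
theorem result (k : Type u) [Field k] (n : ℕ)
    (F : (CohB1.ProjSpace n k).Modules) (hF : Coh.IsCoh F) (P : Polynomial ℚ)
    (hP : ∀ d : ℤ, (Curv2.euler k (CohB1.ProjSpace n k)
      (CohB1.tensorMod F (Twist.twistProjSpace n k d)) : ℚ) = P.eval (d : ℚ)) :
    ∃ d₀ : ℤ, ∀ d : ℤ, d₀ ≤ d →
      P.eval (d : ℚ) = (Module.finrank k (Coh.HH (CohB1.ProjSpace n k)
        (CohB1.tensorMod F (Twist.twistProjSpace n k d)) 0) : ℚ) := by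
  obtain ⟨d₀, hd⟩ := exists_vanishing_pos k n F hF
  refine ⟨d₀, fun d hd' => ?_⟩
  rw [← hP d, Curv2.euler, finsum_eq_single _ 0 fun i hi => ?_]
  · simp
  · haveI : Subsingleton (Coh.HH (CohB1.ProjSpace n k) (CohB1.tensorMod F (Twist.twistProjSpace n k d)) i) :=
      hd d hd' i (Nat.pos_of_ne_zero hi)
    simp only [Module.finrank_zero_of_subsingleton, Nat.cast_zero, mul_zero]

end Groth.Agent.S7677
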