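import Groth.Statements.S7681
import Groth.Agent.VarDepth.ConnZero

set_option autoImplicit false
universe u
open CategoryTheory CategoryTheory.Limits AlgebraicGeometry
open Variety

namespace Groth.Agent.S7681

/-- Let X be proper over a field k, L ample invertible and s ∈ Γ(X, L) a regular section; assume
depth(O_{X,x}) ≥ 2 for every closed point x and X connected. Then the zero scheme Z(s) is connected. -/
theorem result (k : Type u) [Field k] (X : Scheme.{u}) [X.Over (Spec (CommRingCat.of k))] [IsProper (X ↘ (Spec (CommRingCat.of k)))]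
    [ConnectedSpace X] (L : X.Modules) (hL : CohB1.IsAmple L)
    (s : Coh.structureModule X ⟶ L) (hs : Mono s)
    (hdepth : ∀ x : X, IsClosed ({x} : Set X) → 2 ≤ LocCoh.depth (X.presheaf.stalk x) (X.presheaf.stalk x)) :
    ConnectedSpace ↥(PicF2.zeroScheme L s).subscheme := by
  have hc := Groth.Agent.VarDepth.connected_zeroScheme (L := L) k hL s hdepth
  rw [← Groth.Agent.VarDepth.support_zeroScheme_eq hL.1 s] at hc
  let ι := (PicF2.zeroScheme L s).subschemeι
  have hemb : Topology.IsEmbedding (fun z => ι z) := ι.isClosedEmbedding.isEmbedding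
  rw [connectedSpace_iff_univ]
  have himg : (fun z => ι z) '' Set.univ = ((PicF2.zeroScheme L s).support : Set X) := by
    rw [Set.image_univ]
    exact (PicF2.zeroScheme L s).range_subschemeι
  refine ⟨?_, hemb.isInducing.isPreconnected_image.1 (himg ▸ hc.2)⟩
  exact Set.image_nonempty.1 (himg ▸ hc.1)

end Groth.Agent.S7681
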