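import Groth.Statements.S7690
import Groth.Agent.Lib.ProjRegularPn
import Groth.Agent.S0034
-- import your own Groth.Agent.* helpers here

set_option autoImplicit false
universe u
open CategoryTheory CategoryTheory.Limits AlgebraicGeometry
open Variety

set_option backward.isDefEq.respectTransparency false
set_option backward.isDefEq.respectTransparency.types false

namespace Groth.Agent.S7690

theorem subsingleton_baseChange_iff (k K V : Type u) [Field k] [Field K] [Algebra k K] [AddCommGroup V] [Module k V] :
    Subsingleton (TensorProduct k K V) ↔ Subsingleton V := by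
  constructor
  · intro h
    exact (Module.FaithfullyFlat.subsingleton_tensorProduct_iff_right k K (N := V)).1 h
  · intro h
    infer_instance

/-- Let k'/k be a field extension (k' in the universe of k), n ≥ 0, F a coherent module on P^n_k with
pullback F' to P^n_{k'}. For every integer m, F is m-regular exactly when F' is. Here P^n_{k'} is
taken as the base change P^n_k ×_k Spec k' and the m-regularity of F' is spelled out as the
vanishing of H^i(P^n_{k'}, (F(m − i))') for 1 ≤ i ≤ n, (F(m − i))' being the pullback of F ⊗ O(m −
i). -/
theorem result (k : Type u) [Field k] (n : ℕ)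
    (k' : Type u) [Field k'] [Algebra k k'] (F : (CohB1.ProjSpace n k).Modules) (hF : Coh.IsCoh F) (m : ℤ) :
    Curv2.IsMRegular k n F m ↔
      ∀ i : ℕ, 1 ≤ i → i ≤ n →
        Subsingleton (Coh.HH (Curv2.bc k (CohB1.ProjSpace n k) k')
          ((Scheme.Modules.pullback (Curv2.bcFst k (CohB1.ProjSpace n k) k')).obj
            (CohB1.tensorMod F (Twist.twistProjSpace n k (m - i)))) i) := by
  haveI : IsNoetherian (CohB1.ProjSpace n k) := Proj16.isNoetherian_proj _
  letI : (Curv2.bc k (CohB1.ProjSpace n k) k').Over (Spec (CommRingCat.of k')) :=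
    ⟨Curv2.bcSnd k (CohB1.ProjSpace n k) k'⟩
  refine forall_congr' fun i => forall_congr' fun _ => forall_congr' fun _ => ?_
  haveI : Coh.IsQCoh (CohB1.tensorMod F (Twist.twistProjSpace n k (m - i))) :=
    (ProjRegular.isCoh_twistBy hF (m - i)).1
  obtain ⟨e⟩ := S0034.result k k' (CohB1.ProjSpace n k) (Curv2.bc k (CohB1.ProjSpace n k) k')
    (Curv2.bcFst k (CohB1.ProjSpace n k) k') (IsPullback.of_hasPullback _ _)
    (CohB1.tensorMod F (Twist.twistProjSpace n k (m - i))) i
  rw [← subsingleton_baseChange_iff k k']
  exact e.toEquiv.subsingleton_congr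

end Groth.Agent.S7690
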