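import Groth.Statements.S8291
import Groth.Agent.EgaQ.BC

set_option autoImplicit false
universe u
open CategoryTheory CategoryTheory.Limits AlgebraicGeometry Opposite TopologicalSpace
open scoped HomogeneousIdeal
noncomputable section
open EGA2

namespace Groth.Agent.S8291

/-- Let ψ : Y' → Y be a morphism, 𝒮 a quasi-coherent positively graded O_Y-algebra and 𝒮' = ψ^*𝒮,
presented as a quasi-coherent graded O_{Y'}-algebra with a graded ψ-morphism u : 𝒮 → ψ_*𝒮' whose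
squares O_Y(U) → O_{Y'}(U'), 𝒮(U) → 𝒮'(U') over affine opens U' ⊆ ψ⁻¹(U) are pushouts of rings. If g
: Proj(𝒮') → Proj(𝒮) is chartwise the morphism of homogeneous spectra induced by 𝒮(U) → 𝒮'(U'), then
Proj(𝒮') together with g and its structure morphism is the fibre product Proj(𝒮) ×_Y Y'. -/
theorem result {Y Y' P P' : Scheme.{u}} (ψ : Y' ⟶ Y) (𝒮 : RelProj.QCGrAlg Y)
    (𝒮' : RelProj.QCGrAlg Y') (u : 𝒮.presheaf ⟶ ψ.base _* 𝒮'.presheaf)
    (hu : 𝒮.str ≫ u = ψ.c ≫ (TopCat.Presheaf.pushforward CommRingCat.{u} ψ.base).map 𝒮'.str)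
    (φ : ∀ (U : Y.Opens) (hU : IsAffineOpen U) (U' : Y'.Opens) (hU' : IsAffineOpen U') (_ : U' ≤ ψ ⁻¹ᵁ U),
      𝒮.deg U hU →+*ᵍ 𝒮'.deg U' hU')
    (hφ : ∀ (U : Y.Opens) (hU : IsAffineOpen U) (U' : Y'.Opens) (hU' : IsAffineOpen U') (hle : U' ≤ ψ ⁻¹ᵁ U),
      (φ U hU U' hU' hle).toRingHom =
        ((u.app (op U) : 𝒮.presheaf.obj (op U) ⟶ 𝒮'.presheaf.obj (op (ψ ⁻¹ᵁ U))) ≫
          𝒮'.presheaf.map (homOfLE hle).op).hom)
    (hpo : ∀ (U : Y.Opens) (hU : IsAffineOpen U) (U' : Y'.Opens) (hU' : IsAffineOpen U') (hle : U' ≤ ψ ⁻¹ᵁ U),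
      IsPushout (ψ.appLE U U' hle) (𝒮.str.app (op U)) (𝒮'.str.app (op U'))
        ((u.app (op U) : 𝒮.presheaf.obj (op U) ⟶ 𝒮'.presheaf.obj (op (ψ ⁻¹ᵁ U))) ≫
          𝒮'.presheaf.map (homOfLE hle).op))
    (hirr : ∀ (U : Y.Opens) (hU : IsAffineOpen U) (U' : Y'.Opens) (hU' : IsAffineOpen U') (hle : U' ≤ ψ ⁻¹ᵁ U),
      (𝒮'.deg U' hU')₊ ≤ ((𝒮.deg U hU)₊).map (φ U hU U' hU' hle))
    (p : P ⟶ Y)
    (chart : ∀ (U : Y.Opens) (hU : IsAffineOpen U), (((p ⁻¹ᵁ U : P.Opens) : Scheme.{u}) ≅ Proj (𝒮.deg U hU)))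
    (hP : RelProj.IsRelProj 𝒮 p chart) (p' : P' ⟶ Y')
    (chart' : ∀ (U' : Y'.Opens) (hU' : IsAffineOpen U'), (((p' ⁻¹ᵁ U' : P'.Opens) : Scheme.{u}) ≅ Proj (𝒮'.deg U' hU')))
    (hP' : RelProj.IsRelProj 𝒮' p' chart') (g : P' ⟶ P)
    (hg : ∀ (U : Y.Opens) (hU : IsAffineOpen U) (U' : Y'.Opens) (hU' : IsAffineOpen U') (hle : U' ≤ ψ ⁻¹ᵁ U),
      (p' ⁻¹ᵁ U').ι ≫ g =
        (chart' U' hU').hom ≫ Proj.map (φ U hU U' hU' hle) (hirr U hU U' hU' hle) ≫ RelProj.emb p chart U hU) :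
    IsPullback g p' p ψ := by
  let v : RelSpec.QHom ψ 𝒮.toQCAlg 𝒮'.toQCAlg :=
    { app := fun U => u.app (op U)
      naturality := fun {U V} i => (u.naturality (homOfLE i).op).symm
      str_app := fun U => congr(($hu).app (op U)) }
  have hv : ∀ (U : Y.Opens) (hU : IsAffineOpen U) (U' : Y'.Opens) (hU' : IsAffineOpen U') (hle : U' ≤ ψ ⁻¹ᵁ U),
      (v.appLE U U' hle).hom = (φ U hU U' hU' hle).toRingHom := fun U hU U' hU' hle => (hφ U hU U' hU' hle).symm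
  let uq : RelProj.QGrHom ψ 𝒮 𝒮' :=
    { v with
      map_mem := fun U hU U' hU' hle {d x} hx => by
        have := (φ U hU U' hU' hle).map_mem hx
        exact (congr($(hv U hU U' hU' hle) x)).symm ▸ this }
  have hat : ∀ π : EgaQ.APair ψ, EgaQ.uAt uq π = φ π.U π.hU π.U' π.hU' π.le := fun π => by
    ext x
    exact congr($(hv π.U π.hU π.U' π.hU' π.le) x)
  have hbc : RelSpec.IsQBaseChange uq.toQHom := fun U hU U' hU' hle => hpo U hU U' hU' hle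
  refine EgaQ.isPullback_projQMap (u := uq) hbc hP hP'
    (h := g) ⟨EgaQ.domQ_eq_top_of_isQBaseChange hbc, fun U hU U' hU' hle d hd f hf => ?_⟩
  rw [RelProj.awayEmb, RelProj.emb, Category.assoc, Category.assoc, hg U hU U' hU' hle, Iso.inv_hom_id_assoc]
  have e : uq.gradedAt U hU U' hU' hle = φ U hU U' hU' hle := hat ⟨U, hU, U', hU', hle⟩
  have key : ∀ (w : 𝒮.deg U hU →+*ᵍ 𝒮'.deg U' hU') (hw : (𝒮'.deg U' hU')₊ ≤ ((𝒮.deg U hU)₊).map w),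
      Proj.awayι (𝒮'.deg U' hU') (w f) (w.map_mem hf) hd ≫ Proj.map w hw ≫ RelProj.emb p chart U hU =
        Spec.map (CommRingCat.ofHom (HomogeneousLocalization.Away.map w f)) ≫
          Proj.awayι (𝒮.deg U hU) f hf hd ≫ RelProj.emb p chart U hU := fun w hw => by
    rw [← Category.assoc, Proj.awayι_comp_map w hw hd f hf, Category.assoc]
  have h1 := key (uq.gradedAt U hU U' hU' hle) (e.symm ▸ hirr U hU U' hU' hle)
  simpa only [e] using h1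

end Groth.Agent.S8291
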