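import Groth.Statements.S8292
import Groth.Agent.EgaQ.TN
import Groth.Agent.Proj16.RelMap
import Groth.Agent.RelTildeX.Props

set_option autoImplicit false
universe u
open CategoryTheory CategoryTheory.Limits AlgebraicGeometry Opposite TopologicalSpace
open scoped HomogeneousIdeal
set_option backward.isDefEq.respectTransparency false
noncomputable section
open EGA2

namespace Groth.Agent.S8292

/-- Let 𝒮 be a quasi-coherent positively graded O_Y-algebra generated by 𝒮_1, M a quasi-coherent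
O_Y-module and u : M → 𝒮_1 a surjective module map; let ū : Sym(M) → 𝒮 be the graded algebra
homomorphism extending u. Then the morphism Proj(𝒮) → P(M) = Proj(Sym(M)) induced by ū is a closed
immersion. -/
theorem result {Y PT PS : Scheme.{u}} (𝒮 𝒯 : RelProj.QCGrAlg Y)
    (hgen : 𝒮.IsGenDegOne) (M : Y.Modules) (hM : Coh.IsQCoh M)
    (u : M ⟶ 𝒮.toModule)
    (hu1 : ∀ (U : Y.Opens) (hU : IsAffineOpen U) (x : Γ(M, U)), (u.app U) x ∈ 𝒮.deg U hU 1)
    (husurj : ∀ (U : Y.Opens) (hU : IsAffineOpen U) (s : 𝒮.presheaf.obj (op U)), s ∈ 𝒮.deg U hU 1 →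
      ∃ x : Γ(M, U), (u.app U) x = s)
    (j : M ⟶ 𝒯.toModule) (hT : RelProj.IsGrSymAlg M 𝒯 j)
    (ubar : 𝒯.toQCAlg ⟶ 𝒮.toQCAlg) (hubar : RelProj.IsGradedHom ubar)
    (hju : j ≫ RelSpec.QCAlg.Hom.toModuleMap ubar = u)
    (hirr : ∀ (U : Y.Opens) (hU : IsAffineOpen U),
      (𝒮.deg U hU)₊ ≤ ((𝒯.deg U hU)₊).map (RelProj.gradedHomAt ubar hubar U hU))
    (pT : PT ⟶ Y) (pS : PS ⟶ Y)
    (chartT : ∀ (U : Y.Opens) (hU : IsAffineOpen U), (((pT ⁻¹ᵁ U : PT.Opens) : Scheme.{u}) ≅ Proj (𝒯.deg U hU)))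
    (chartS : ∀ (U : Y.Opens) (hU : IsAffineOpen U), (((pS ⁻¹ᵁ U : PS.Opens) : Scheme.{u}) ≅ Proj (𝒮.deg U hU)))
    (hPT : RelProj.IsRelProj 𝒯 pT chartT) (hPS : RelProj.IsRelProj 𝒮 pS chartS)
    (h : PS ⟶ PT) (hh : RelProj.IsRelProjMap ubar hubar hirr chartT chartS h) : IsClosedImmersion h := by
  refine Proj16.relProjMap_of_affineOpens hPT hPS hh @IsClosedImmersion fun U hU => ?_
  set φ := RelProj.gradedHomAt ubar hubar U hU
  have h1 : ∀ s ∈ 𝒮.deg U hU 1, s ∈ φ.toRingHom.range := fun s hs => by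
    obtain ⟨x, hx⟩ := husurj U hU s hs
    refine ⟨(j.app U) x, ?_⟩
    rw [← hju] at hx
    exact hx
  have hrange : ∀ k, ∀ y ∈ 𝒮.deg U hU (k + 1), y ∈ φ.toRingHom.range := by
    classical
    intro k
    induction k with
    | zero => exact h1
    | succ k ih =>
      intro y hy
      have hyI : y ∈ ((𝒮.deg U hU)₊).toIdeal :=
        HomogeneousIdeal.mem_irrelevant_of_mem _ (Nat.succ_pos _) hy
      rw [RelTildeX.irrelevant_eq_span_deg_one hgen U hU] at hyI
      have key : ∀ a, GradedRing.proj (𝒮.deg U hU) (k + 1 + 1) (a * y) ∈ φ.toRingHom.range := by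
        clear hy
        induction hyI using Submodule.span_induction with
        | mem s hs =>
          intro a
          rw [GradedRing.proj_apply, DirectSum.coe_decompose_mul_add_of_right_mem (𝒮.deg U hU) hs]
          exact mul_mem (ih _ (SetLike.coe_mem _)) (h1 s hs)
        | zero => intro a; rw [mul_zero, map_zero]; exact zero_mem _
        | add s t _ _ hs ht => intro a; rw [mul_add, map_add]; exact add_mem (hs a) (ht a)
        | smul c s _ hs => intro a; rw [smul_eq_mul, ← mul_assoc]; exact hs (a * c)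
      have := key 1
      rwa [one_mul, GradedRing.proj_apply, DirectSum.decompose_of_mem_same _ hy] at this
  refine Proj16.map_of_away (P := @IsClosedImmersion) φ (hirr U hU) fun d f hd hf =>
    IsClosedImmersion.spec_of_surjective _ (EgaQ.awayMap_surjective_of_surj φ (N := 1) ?_ hd hf)
  intro k hk y hy
  obtain ⟨k, rfl⟩ : ∃ m, k = m + 1 := ⟨k - 1, by omega⟩
  obtain ⟨x, hx⟩ := hrange k y hy
  refine ⟨GradedRing.proj (𝒯.deg U hU) (k + 1) x, SetLike.coe_mem _, ?_⟩
  rw [Proj16.proj_map_commutes, show φ x = y from hx, GradedRing.proj_apply,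
    DirectSum.decompose_of_mem_same _ hy]

end Groth.Agent.S8292
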