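import Groth.Statements.S8297
import Groth.Agent.EgaQ.ConeP
import Groth.Agent.Proj16.RelMap

set_option autoImplicit false
universe u
open CategoryTheory CategoryTheory.Limits AlgebraicGeometry Opposite TopologicalSpace
open scoped HomogeneousIdeal
set_option backward.isDefEq.respectTransparency false
noncomputable section
open EGA2

namespace Groth.Agent.S8297

/-- The relation i(C) = Ĉ − j(X): let 𝒮 be a quasi-coherent positively graded O_Y-algebra with 𝒮_0 =
O_Y, Ŝ = 𝒮[z] (given through a graded homomorphism ι : 𝒮 → Ŝ and a global section z of degree one,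
the map 𝒮(U)[X] → Ŝ(U), X ↦ z, being bijective over every affine open U), C = Spec(𝒮) the affine
cone, Ĉ = Proj(Ŝ) the projective cone and X = Proj(𝒮), each relative homogeneous spectrum given with
its charts; let i : C → Ĉ be the canonical open immersion (chartwise Spec of Ŝ(U)_(z) → 𝒮(U), z ↦ 1,
followed by the inclusion of D_+(z)), θ : Ŝ → 𝒮 the graded retraction of ι sending z to 0, and j : X
→ Ĉ the morphism chartwise induced by θ (the immersion of the locus at infinity). Then the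
underlying set of the image of i is the complement of the image of j. -/
theorem result {Y PC P : Scheme.{u}} (𝒮 𝒮h : RelProj.QCGrAlg Y) (h0 : RelCone.StrZeroBij 𝒮)
    (ι : 𝒮.toQCAlg ⟶ 𝒮h.toQCAlg) (z : 𝒮h.presheaf.obj (op ⊤)) (hz : RelCone.IsPolyOver 𝒮 𝒮h ι z)
    (pC : PC ⟶ Y)
    (chartC : ∀ (U : Y.Opens) (hU : IsAffineOpen U), (((pC ⁻¹ᵁ U : PC.Opens) : Scheme.{u}) ≅ Proj (𝒮h.deg U hU)))
    (hPC : RelProj.IsRelProj 𝒮h pC chartC)
    (i : 𝒮.toQCAlg.spec ⟶ PC) (hi : RelCone.IsConeImm 𝒮 hz pC chartC i)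
    (θ : 𝒮h.toQCAlg ⟶ 𝒮.toQCAlg) (hθ : RelProj.IsGradedHom θ) (hιθ : ι ≫ θ = 𝟙 _)
    (hθz : (θ.hom.app (op ⊤)).hom z = 0)
    (hirr : ∀ (U : Y.Opens) (hU : IsAffineOpen U),
      (𝒮.deg U hU)₊ ≤ ((𝒮h.deg U hU)₊).map (RelProj.gradedHomAt θ hθ U hU))
    (p : P ⟶ Y)
    (chart : ∀ (U : Y.Opens) (hU : IsAffineOpen U), (((p ⁻¹ᵁ U : P.Opens) : Scheme.{u}) ≅ Proj (𝒮.deg U hU)))
    (hP : RelProj.IsRelProj 𝒮 p chart) (j : P ⟶ PC) (hj : RelProj.IsRelProjMap θ hθ hirr chartC chart j) :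
    Set.range i.base = (Set.range j.base)ᶜ := by
  ext x
  obtain ⟨_, ⟨U, hU, rfl⟩, hy, -⟩ := Y.isBasis_affineOpens.exists_subset_of_mem_open
    (Set.mem_univ (pC x)) isOpen_univ
  obtain ⟨y, rfl⟩ := EgaQ.mem_range_emb (p := pC) (chart := chartC) U hU x hy
  rw [EgaQ.emb_mem_range_coneImm hz hi hPC, Set.mem_compl_iff]
  have hjc := Proj16.relProjMap_comp hPC hP hj
  have hjU : RelProj.emb p chart U hU ≫ j =
      Proj.map (RelProj.gradedHomAt θ hθ U hU) (hirr U hU) ≫ RelProj.emb pC chartC U hU := by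
    rw [RelProj.emb, RelProj.emb, Category.assoc, hj U hU, Iso.inv_hom_id_assoc]
  have key : RelProj.emb pC chartC U hU y ∈ Set.range j.base ↔
      y ∈ Set.range (Proj.map (RelProj.gradedHomAt θ hθ U hU) (hirr U hU)) := by
    constructor
    · rintro ⟨q, hq⟩
      have hqU : p q ∈ U := by
        rw [← hjc, Scheme.Hom.comp_apply, hq]
        exact hy
      obtain ⟨t, rfl⟩ := EgaQ.mem_range_emb (p := p) (chart := chart) U hU q hqU
      rw [← Scheme.Hom.comp_apply, hjU, Scheme.Hom.comp_apply] at hq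
      exact ⟨t, (RelProj.emb pC chartC U hU).isOpenEmbedding.injective hq⟩
    · rintro ⟨t, rfl⟩
      exact ⟨RelProj.emb p chart U hU t, by rw [← Scheme.Hom.comp_apply, hjU]; rfl⟩
  rw [key, (EgaQ.isPolyExt hz U hU).range_map (RelProj.gradedHomAt θ hθ U hU)
    (EgaQ.theta_ι hιθ U) (EgaQ.theta_z hθz U), Set.mem_compl_iff, not_not]
  rfl

end Groth.Agent.S8297
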