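import Groth.Statements.S8298
import Groth.Agent.EgaQ.ConeP

set_option autoImplicit false
universe u
open CategoryTheory CategoryTheory.Limits AlgebraicGeometry Opposite TopologicalSpace
open scoped HomogeneousIdeal
set_option backward.isDefEq.respectTransparency false
noncomputable section
open EGA2

namespace Groth.Agent.S8298

/-- The pointed projective cone: let 𝒮 be a quasi-coherent positively graded O_Y-algebra with 𝒮_0 = O_Y,
aug its augmentation and ε : Y → C = Spec(𝒮) the vertex section; let Ŝ = 𝒮[z] (given through a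
graded homomorphism ι : 𝒮 → Ŝ and a degree-one global section z, polynomial over every affine open),
Ĉ = Proj(Ŝ) its relative homogeneous spectrum with charts, and i : C → Ĉ the canonical open
immersion. Then the open subset of Ĉ which is the union, over the affine opens U of Y, of the chart
images of the opens of Proj Ŝ(U) where the morphism induced by ι(U) : 𝒮(U) → Ŝ(U) is defined (the
complement of V_+ of the ideal generated by ι(𝒮(U)_+)) has underlying set exactly the complement of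
i(ε(Y)): the pointed projective cone Ê is Ĉ minus its vertex section. -/
theorem result {Y PC : Scheme.{u}} (𝒮 𝒮h : RelProj.QCGrAlg Y) (h0 : RelCone.StrZeroBij 𝒮)
    (ι : 𝒮.toQCAlg ⟶ 𝒮h.toQCAlg) (z : 𝒮h.presheaf.obj (op ⊤)) (hz : RelCone.IsPolyOver 𝒮 𝒮h ι z)
    (pC : PC ⟶ Y)
    (chartC : ∀ (U : Y.Opens) (hU : IsAffineOpen U), (((pC ⁻¹ᵁ U : PC.Opens) : Scheme.{u}) ≅ Proj (𝒮h.deg U hU)))
    (hPC : RelProj.IsRelProj 𝒮h pC chartC)
    (aug : 𝒮.toQCAlg ⟶ RelSpec.QCAlg.unit Y) (haug : RelCone.IsAugmentation 𝒮 aug)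
    (ε : Y ⟶ 𝒮.toQCAlg.spec) (hε : RelCone.IsVertex 𝒮 aug ε)
    (i : 𝒮.toQCAlg.spec ⟶ PC) (hi : RelCone.IsConeImm 𝒮 hz pC chartC i) :
    ((RelCone.pointedProjCone 𝒮 hz pC chartC : PC.Opens) : Set PC) = (Set.range (ε ≫ i).base)ᶜ := by
  ext x
  obtain ⟨_, ⟨U, hU, rfl⟩, hy, -⟩ := Y.isBasis_affineOpens.exists_subset_of_mem_open
    (Set.mem_univ (pC x)) isOpen_univ
  obtain ⟨y, rfl⟩ := EgaQ.mem_range_emb (p := pC) (chart := chartC) U hU x hy
  have hvert := ConeX.pointedCone_eq 𝒮 aug h0 haug hε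
  rw [SetLike.mem_coe, EgaQ.emb_mem_pointedProjCone hz hPC, Set.mem_compl_iff]
  constructor
  · intro hd
    rintro ⟨t, ht⟩
    rw [Scheme.Hom.comp_apply] at ht
    have htU : 𝒮.toQCAlg.π (ε t) ∈ U := by
      rw [← EgaQ.coneImm_comp hz hi hPC, Scheme.Hom.comp_apply, ht]
      exact hy
    obtain ⟨w, hw⟩ := (𝒮.toQCAlg.π_preimage U hU).le htU
    have hmem : RelProj.emb pC chartC U hU y ∈ RelCone.pointedProjCone 𝒮 hz pC chartC :=
      (EgaQ.emb_mem_pointedProjCone hz hPC U hU y).mpr hd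
    rw [← ht, ← hw] at hmem
    have h2 := (ConeX.mem_pointedCone 𝒮 U hU w).mpr
      ((EgaQ.coneImm_mem_pointedProjCone hz hi hPC U hU w).mp hmem)
    rw [hw] at h2
    exact (hvert.le h2) ⟨t, rfl⟩
  · intro hne
    by_contra hd
    have hzy : y ∈ Proj.basicOpen (𝒮h.deg U hU) (RelCone.restrictTop 𝒮h z U) :=
      (EgaQ.isPolyExt hz U hU).not_mem_of_forall (x := y) fun a ha =>
        not_not.mp fun hax => hd ((RelCone.mem_domOpen _ y).mpr ⟨a, ha, hax⟩)
    obtain ⟨c, hc⟩ := (EgaQ.emb_mem_range_coneImm hz hi hPC U hU y).mpr hzy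
    have hcU : 𝒮.toQCAlg.π c ∈ U := by
      rw [← EgaQ.coneImm_comp hz hi hPC, Scheme.Hom.comp_apply, hc]
      exact hy
    obtain ⟨w, rfl⟩ := (𝒮.toQCAlg.π_preimage U hU).le hcU
    have hnot : 𝒮.toQCAlg.ι U hU w ∉ RelCone.pointedCone 𝒮 := fun h => hd
      ((EgaQ.emb_mem_pointedProjCone hz hPC U hU y).mp
        (hc ▸ (EgaQ.coneImm_mem_pointedProjCone hz hi hPC U hU w).mpr
          ((ConeX.mem_pointedCone 𝒮 U hU w).mp h)))
    have : 𝒮.toQCAlg.ι U hU w ∈ Set.range ε.base := by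
      by_contra h
      exact hnot (hvert.ge h)
    obtain ⟨t, ht⟩ := this
    exact hne ⟨t, by rw [Scheme.Hom.comp_apply, ht, hc]⟩

end Groth.Agent.S8298
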