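import Groth.Statements.S8340
import Groth.Agent.EgaQ.TwistZero
import Groth.Agent.EgaQ.PairRestrict

set_option autoImplicit false
universe u
open CategoryTheory CategoryTheory.Limits AlgebraicGeometry Opposite TopologicalSpace
open scoped HomogeneousIdeal
set_option backward.isDefEq.respectTransparency false
set_option linter.all false
set_option maxHeartbeats 1600000
noncomputable section
open EGA2

namespace Groth.Agent.S8340

/-- For a quasi-compact open U of X = Proj(𝒮), 𝒮 any quasi-coherent positively graded O_Y-algebra, there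
is d > 0 such that for every n divisible by d the module O_X(−n)|U is an inverse of O_X(n)|U: the
tensor product O_X(n)|U ⊗ O_X(−n)|U is isomorphic to O_U (existence of an isomorphism; the twisting
sheaves are given through their chartwise identifications). -/
theorem result {Y X : Scheme.{u}} (𝒮 : RelProj.QCGrAlg Y) (q : X ⟶ Y)
    (chart : ∀ (U : Y.Opens) (hU : IsAffineOpen U), (((q ⁻¹ᵁ U : X.Opens) : Scheme.{u}) ≅ Proj (𝒮.deg U hU)))
    (hX : RelProj.IsRelProj 𝒮 q chart) (U : X.Opens) (hU : IsCompact (U : Set X)) :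
    ∃ d : ℕ, 0 < d ∧ ∀ (n : ℤ), (d : ℤ) ∣ n →
      ∀ (L : X.Modules)
        (lam : ∀ (V : Y.Opens) (hV : IsAffineOpen V),
          L ⟶ (Scheme.Modules.pushforward (RelProj.emb q chart V hV)).obj (GrTwist.twist (𝒮.deg V hV) n)),
        RelProj.IsRelTwist 𝒮 q chart n L lam →
      ∀ (L' : X.Modules)
        (lam' : ∀ (V : Y.Opens) (hV : IsAffineOpen V),
          L' ⟶ (Scheme.Modules.pushforward (RelProj.emb q chart V hV)).obj (GrTwist.twist (𝒮.deg V hV) (-n))),
        RelProj.IsRelTwist 𝒮 q chart (-n) L' lam' →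
          Nonempty (CohB1.tensorMod (L.restrict U.ι) (L'.restrict U.ι) ≅ Coh.structureModule (U : Scheme.{u})) := by
  classical
  have hnhd : ∀ x : X, ∃ (V : Y.Opens) (hV : IsAffineOpen V) (f : 𝒮.presheaf.obj (op V)) (d : ℕ), 0 < d ∧
      f ∈ 𝒮.deg V hV d ∧ x ∈ RelProj.emb q chart V hV ''ᵁ Proj.basicOpen (𝒮.deg V hV) f ∧
      RelProj.emb q chart V hV ''ᵁ Proj.basicOpen (𝒮.deg V hV) f ≤ ⊤ := fun x =>
    RelTildeX.exists_chart_nhd (p := q) (chart := chart) (W := ⊤) trivial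
  choose V hV f d hd hf hx _ using hnhd
  obtain ⟨t, ht⟩ := hU.elim_finite_subcover
    (fun x : X => ((RelProj.emb q chart (V x) (hV x) ''ᵁ Proj.basicOpen (𝒮.deg (V x) (hV x)) (f x) : X.Opens) : Set X))
    (fun x => Opens.isOpen _) fun x _ => Set.mem_iUnion.2 ⟨x, hx x⟩
  refine ⟨t.prod d, Finset.prod_pos fun x _ => hd x, fun n hn L lam hL L' lam' hL' => ?_⟩
  let μ := EgaQ.RelPair.pairing (ℳ := EgaQ.RelPair.selfModule 𝒮) (m := n) (n := -n) (k := 0)
    (F := L) (L := L') (G := Coh.structureModule X) (lamF := lam) (lamL := lam') (lamG := EgaQ.TwistZero.lamO q chart)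
    hX (EgaQ.RelPair.isRelTilde_self hL) hL'
    (EgaQ.RelPair.isRelTilde_self (EgaQ.TwistZero.isRelTwist_lamO hX)) (add_neg_cancel n).symm
  have hiso : IsIso (μ.restrict U).hom := EgaQ.ModPairing.isIso_hom_restrict μ U fun x hxU => by
    obtain ⟨i, hit, hxi⟩ := Set.mem_iUnion₂.mp (ht hxU)
    let j := RelProj.emb q chart (V i) (hV i)
    let O : X.Opens := j ''ᵁ Proj.basicOpen (𝒮.deg (V i) (hV i)) (f i)
    have hO : O ≤ q ⁻¹ᵁ V i := (j.image_le_opensRange _).trans (RelTildeX.opensRange_emb q chart (V i) (hV i)).le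
    have hval : ∀ z : (j ⁻¹ᵁ O : (Proj (𝒮.deg (V i) (hV i))).Opens), f i ∉ z.1.asHomogeneousIdeal := fun z => by
      obtain ⟨z', hz', e⟩ := z.2
      obtain rfl := j.isOpenEmbedding.injective e
      exact hz'
    obtain ⟨c, hc⟩ := ((Int.natCast_dvd_natCast.2 (Finset.dvd_prod_of_mem d hit)).trans hn)
    let φ : GrTwistX.UnitFrac (𝒜 := 𝒮.deg (V i) (hV i)) ((-c) * (d i : ℕ)) (j ⁻¹ᵁ O) :=
      GrTwistX.powFrac (hf i) SetLike.GradedOne.one_mem (zero_add (d i)).symm (-c) hval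
        fun z h => z.1.isPrime.ne_top ((Ideal.eq_top_iff_one _).mpr h)
    let φn : GrTwistX.UnitFrac (𝒜 := 𝒮.deg (V i) (hV i)) (-n) (j ⁻¹ᵁ O) :=
      ⟨φ.i, φ.j, φ.num, φ.den, φ.num_mem, φ.den_mem, by have := φ.deg; rw [hc, this]; ring, φ.num_ne, φ.den_ne⟩
    obtain ⟨e, he⟩ := EgaQ.RelPair.exists_frame_bijective (ℳ := EgaQ.RelPair.selfModule 𝒮) (m := n) (n := -n) (k := 0)
      (F := L) (L := L') (G := Coh.structureModule X) (lamF := lam) (lamL := lam') (lamG := EgaQ.TwistZero.lamO q chart)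
      hX (EgaQ.RelPair.isRelTilde_self hL) hL'
      (EgaQ.RelPair.isRelTilde_self (EgaQ.TwistZero.isRelTwist_lamO hX)) (add_neg_cancel n).symm
      (V i) (hV i) hO φn
    exact ⟨O, hxi, e, he⟩
  haveI := hiso
  exact ⟨asIso (μ.restrict U).hom ≪≫ Scheme.Modules.restrictUnitIso U.ι⟩

end Groth.Agent.S8340
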