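import Groth.Statements.S8343
import Groth.Agent.RelTildeX.Glue
import Groth.Agent.RelTildeX.Invertible
import Groth.Agent.GrTwistX.Triv
import Groth.Agent.AModX.Res

set_option autoImplicit false
set_option backward.isDefEq.respectTransparency false
set_option linter.all false
set_option maxHeartbeats 1600000
universe u
open CategoryTheory CategoryTheory.Limits AlgebraicGeometry Opposite TopologicalSpace
open scoped HomogeneousIdeal
noncomputable section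
open EGA2

namespace Groth.Agent.S8343

lemma loc_transport {A σ : Type u} [CommRing A] [SetLike σ A] [AddSubgroupClass σ A] {𝒜 : ℕ → σ} [GradedRing 𝒜]
    {V : Opens (ProjectiveSpectrum.top 𝒜)} (s : ∀ x : V, GrTwist.Loc 𝒜 x.1) {x1 x2 : V} (e : x1 = x2) (a : A)
    (b : x1.1.asHomogeneousIdeal.toIdeal.primeCompl) (h : s x1 = Localization.mk a b) :
    s x2 = Localization.mk a ⟨b.1, e ▸ b.2⟩ := by
  subst e; exact h

lemma locMap_comm {A B C D σA σB σC σD : Type u} [CommRing A] [CommRing B] [CommRing C] [CommRing D]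
    [SetLike σA A] [AddSubgroupClass σA A] {𝒜 : ℕ → σA} [GradedRing 𝒜]
    [SetLike σB B] [AddSubgroupClass σB B] {ℬ : ℕ → σB} [GradedRing ℬ]
    [SetLike σC C] [AddSubgroupClass σC C] {𝒞 : ℕ → σC} [GradedRing 𝒞]
    [SetLike σD D] [AddSubgroupClass σD D] {𝒟 : ℕ → σD} [GradedRing 𝒟]
    (α : 𝒜 →+*ᵍ ℬ) (hα : ℬ₊ ≤ (𝒜₊).map α) (β : ℬ →+*ᵍ 𝒟) (hβ : 𝒟₊ ≤ (ℬ₊).map β)
    (γ : 𝒜 →+*ᵍ 𝒞) (hγ : 𝒞₊ ≤ (𝒜₊).map γ) (δ : 𝒞 →+*ᵍ 𝒟) (hδ : 𝒟₊ ≤ (𝒞₊).map δ)
    (h : ∀ a, β (α a) = δ (γ a)) (y : ProjectiveSpectrum 𝒟)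
    {V : Opens (ProjectiveSpectrum.top 𝒜)} (s : ∀ x : V, GrTwist.Loc 𝒜 x.1)
    (h1 : ProjectiveSpectrum.comap α hα (ProjectiveSpectrum.comap β hβ y) ∈ V)
    (h2 : ProjectiveSpectrum.comap γ hγ (ProjectiveSpectrum.comap δ hδ y) ∈ V) :
    GrTwist.locMap β hβ y (GrTwist.locMap α hα _ (s ⟨_, h1⟩)) =
      GrTwist.locMap δ hδ y (GrTwist.locMap γ hγ _ (s ⟨_, h2⟩)) := by
  have e : (⟨_, h1⟩ : V) = ⟨_, h2⟩ := by
    refine Subtype.ext (ProjectiveSpectrum.ext (HomogeneousIdeal.ext (Ideal.ext fun a => ?_)))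
    show β (α a) ∈ y.asHomogeneousIdeal.toIdeal ↔ δ (γ a) ∈ y.asHomogeneousIdeal.toIdeal
    rw [h]
  induction hs : s ⟨_, h1⟩ using Localization.induction_on with
  | H ab =>
    obtain ⟨a, b⟩ := ab
    rw [loc_transport s e a b hs]
    simp only [GrTwist.locMap_mk]
    rw [Localization.mk_eq_mk_iff, Localization.r_iff_exists]
    exact ⟨1, by simp only [h]⟩

lemma app_val_congr {A σ : Type u} [CommRing A] [SetLike σ A] [AddSubgroupClass σ A] {𝒜 : ℕ → σ} [GradedRing 𝒜]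
    {Z : Scheme.{u}} {f g : Proj 𝒜 ⟶ Z} (e : f = g) (W : Z.Opens) (c : Γ(Z, W)) (y : ProjectiveSpectrum 𝒜)
    (hf : y ∈ f ⁻¹ᵁ W) (hg : y ∈ g ⁻¹ᵁ W) :
    ((show GrTwist.O (𝒜 := 𝒜) (op (f ⁻¹ᵁ W)) from f.app W c).1 ⟨y, hf⟩).val =
      ((show GrTwist.O (𝒜 := 𝒜) (op (g ⁻¹ᵁ W)) from g.app W c).1 ⟨y, hg⟩).val := by
  subst e; rfl

variable {Y PA PB : Scheme.{u}} {𝒜 ℬ : RelProj.QCGrAlg Y}
    {φ : 𝒜.toQCAlg ⟶ ℬ.toQCAlg} {hφ : RelProj.IsGradedHom φ}
    {hirr : ∀ (U : Y.Opens) (hU : IsAffineOpen U),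
      (ℬ.deg U hU)₊ ≤ ((𝒜.deg U hU)₊).map (RelProj.gradedHomAt φ hφ U hU)}
    {pA : PA ⟶ Y} {pB : PB ⟶ Y}
    {chartA : ∀ (U : Y.Opens) (hU : IsAffineOpen U), (((pA ⁻¹ᵁ U : PA.Opens) : Scheme.{u}) ≅ Proj (𝒜.deg U hU))}
    {chartB : ∀ (U : Y.Opens) (hU : IsAffineOpen U), (((pB ⁻¹ᵁ U : PB.Opens) : Scheme.{u}) ≅ Proj (ℬ.deg U hU))}
    {h : PB ⟶ PA} (hh : RelProj.IsRelProjMap φ hφ hirr chartA chartB h)

include hh in
lemma emb_h (U : Y.Opens) (hU : IsAffineOpen U) :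
    RelProj.emb pB chartB U hU ≫ h =
      Proj.map (RelProj.gradedHomAt φ hφ U hU) (hirr U hU) ≫ RelProj.emb pA chartA U hU := by
  rw [RelProj.emb, RelProj.emb, Category.assoc, hh U hU, Iso.inv_hom_id_assoc]

include hh in
lemma mem_A (U : Y.Opens) (hU : IsAffineOpen U) {W : PA.Opens} {y : ProjectiveSpectrum (ℬ.deg U hU)}
    (hy : (RelProj.emb pB chartB U hU).base y ∈ h ⁻¹ᵁ W) :
    (RelProj.emb pA chartA U hU).base
      (ProjectiveSpectrum.comap (RelProj.gradedHomAt φ hφ U hU) (hirr U hU) y) ∈ W := by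
  have e := congrArg (fun ψ : Proj (ℬ.deg U hU) ⟶ PA => ψ.base y) (emb_h hh U hU)
  exact (show h.base ((RelProj.emb pB chartB U hU).base y) = _ from e) ▸ hy

variable {n : ℤ} {LA : PA.Modules}
    {lamA : ∀ (U : Y.Opens) (hU : IsAffineOpen U),
      LA ⟶ (Scheme.Modules.pushforward (RelProj.emb pA chartA U hU)).obj (GrTwist.twist (𝒜.deg U hU) n)}
    {LB : PB.Modules}
    {lamB : ∀ (U : Y.Opens) (hU : IsAffineOpen U),
      LB ⟶ (Scheme.Modules.pushforward (RelProj.emb pB chartB U hU)).obj (GrTwist.twist (ℬ.deg U hU) n)}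

variable (hirr lamA lamB) in
/-- `t` is the image of `s` in the chart over `U`. -/
def RelAt (U : Y.Opens) (hU : IsAffineOpen U) {W : PA.Opens} (s : Γ(LA, W)) {O : PB.Opens}
    (t : Γ(LB, O)) : Prop :=
  ∀ (y : ProjectiveSpectrum (ℬ.deg U hU)) (hy : (RelProj.emb pB chartB U hU).base y ∈ O)
    (hy' : (RelProj.emb pA chartA U hU).base
      (ProjectiveSpectrum.comap (RelProj.gradedHomAt φ hφ U hU) (hirr U hU) y) ∈ W),
    GrTwist.val (V := RelProj.emb pB chartB U hU ⁻¹ᵁ O) ((lamB U hU).app O t) ⟨y, hy⟩ =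
      GrTwist.locMap (RelProj.gradedHomAt φ hφ U hU) (hirr U hU) y
        (GrTwist.val (V := RelProj.emb pA chartA U hU ⁻¹ᵁ W) ((lamA U hU).app W s) ⟨_, hy'⟩)

lemma val_app_res (U : Y.Opens) (hU : IsAffineOpen U) {O O' : PB.Opens} (i : O' ≤ O) (t : Γ(LB, O))
    (y : ProjectiveSpectrum (ℬ.deg U hU)) (hy : (RelProj.emb pB chartB U hU).base y ∈ O') :
    GrTwist.val (V := RelProj.emb pB chartB U hU ⁻¹ᵁ O') ((lamB U hU).app O' (AModX.res LB i t)) ⟨y, hy⟩ =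
      GrTwist.val (V := RelProj.emb pB chartB U hU ⁻¹ᵁ O) ((lamB U hU).app O t) ⟨y, i hy⟩ :=
  congrArg (fun z => GrTwist.val (V := RelProj.emb pB chartB U hU ⁻¹ᵁ O') z ⟨y, hy⟩)
    (AModX.app_res (lamB U hU) i t)

lemma RelAt.res {U : Y.Opens} {hU : IsAffineOpen U} {W : PA.Opens} {s : Γ(LA, W)} {O O' : PB.Opens} (i : O' ≤ O)
    {t : Γ(LB, O)} (ht : RelAt hirr lamA lamB U hU s t) :
    RelAt hirr lamA lamB U hU s (AModX.res LB i t) :=
  fun y hy hy' => (val_app_res U hU i t y hy).trans (ht y (i hy) hy')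

lemma val_ext (hLB : RelProj.IsRelTwist ℬ pB chartB n LB lamB) {U : Y.Opens} {hU : IsAffineOpen U}
    {O : PB.Opens} (hO : O ≤ pB ⁻¹ᵁ U) {t t' : Γ(LB, O)}
    (he : ∀ (y : ProjectiveSpectrum (ℬ.deg U hU)) (hy : (RelProj.emb pB chartB U hU).base y ∈ O),
      GrTwist.val (V := RelProj.emb pB chartB U hU ⁻¹ᵁ O) ((lamB U hU).app O t) ⟨y, hy⟩ =
        GrTwist.val (V := RelProj.emb pB chartB U hU ⁻¹ᵁ O) ((lamB U hU).app O t') ⟨y, hy⟩) : t = t' :=
  (hLB.bijective U hU O hO).1 (Subtype.ext (funext fun y => Subtype.ext (he y.1 y.2)))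

include hh in
lemma rel_unique (hLB : RelProj.IsRelTwist ℬ pB chartB n LB lamB) {W : PA.Opens} {s : Γ(LA, W)} {O : PB.Opens}
    (hO : O ≤ h ⁻¹ᵁ W) {t t' : Γ(LB, O)}
    (ht : ∀ U hU, RelAt hirr lamA lamB U hU s t) (ht' : ∀ U hU, RelAt hirr lamA lamB U hU s t') : t = t' := by
  refine TopCat.Sheaf.eq_of_locally_eq' ⟨LB.presheaf, LB.isSheaf⟩
    (fun U : Y.affineOpens => O ⊓ pB ⁻¹ᵁ U.1) O (fun _ => homOfLE inf_le_left) (fun x hx => ?_) _ _ fun U => ?_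
  · obtain ⟨_, ⟨U, hU, rfl⟩, hxU, -⟩ := Y.isBasis_affineOpens.exists_subset_of_mem_open
      (Set.mem_univ (pB x)) isOpen_univ
    exact Opens.mem_iSup.2 ⟨⟨U, hU⟩, hx, hxU⟩
  · refine val_ext hLB (hU := U.2) inf_le_right fun y hy => ?_
    exact (RelAt.res inf_le_left (ht U.1 U.2) y hy (mem_A hh U.1 U.2 (hO hy.1))).trans
      (RelAt.res inf_le_left (ht' U.1 U.2) y hy (mem_A hh U.1 U.2 (hO hy.1))).symm

include hh in
/-- A section over part of a chart exists. -/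
lemma exists_relAt (hLB : RelProj.IsRelTwist ℬ pB chartB n LB lamB) (U : Y.Opens) (hU : IsAffineOpen U)
    {W : PA.Opens} (s : Γ(LA, W)) {O : PB.Opens} (hOW : O ≤ h ⁻¹ᵁ W) (hO : O ≤ pB ⁻¹ᵁ U) :
    ∃ t : Γ(LB, O), RelAt hirr lamA lamB U hU s t := by
  obtain ⟨t, ht⟩ := (hLB.bijective U hU O hO).2
    (GrTwist.comapApp (RelProj.gradedHomAt φ hφ U hU) (hirr U hU) n (RelProj.emb pA chartA U hU ⁻¹ᵁ W)
      (RelProj.emb pB chartB U hU ⁻¹ᵁ O) (fun y hy => mem_A hh U hU (hOW hy)) ((lamA U hU).app W s))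
  exact ⟨t, fun y hy hy' => congrArg (fun z => GrTwist.val (V := RelProj.emb pB chartB U hU ⁻¹ᵁ O) z ⟨y, hy⟩) ht⟩

variable (hA : RelProj.IsRelProj 𝒜 pA chartA) (hB : RelProj.IsRelProj ℬ pB chartB)
  (hLA : RelProj.IsRelTwist 𝒜 pA chartA n LA lamA) (hLB : RelProj.IsRelTwist ℬ pB chartB n LB lamB)

include hA hB hLA hLB

lemma RelAt.down {U : Y.Opens} {hU : IsAffineOpen U} (r : Γ(Y, U)) {D : Y.Opens} (hD : IsAffineOpen D)
    (e : D = Y.basicOpen r) {W : PA.Opens} {s : Γ(LA, W)} {O : PB.Opens} {t : Γ(LB, O)}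
    (ht : RelAt hirr lamA lamB U hU s t) : RelAt hirr lamA lamB D hD s t := by
  subst e
  intro z hz hz'
  let ψA := 𝒜.res hU (hU.basicOpen r) (Y.basicOpen_le r)
  let ψB := ℬ.res hU (hU.basicOpen r) (Y.basicOpen_le r)
  have hy : (RelProj.emb pB chartB U hU).base
      (ProjectiveSpectrum.comap ψB (ℬ.irrelevant_le_map U hU r) z) ∈ O := by
    have h2 := congrArg (fun ψ : Proj (ℬ.deg (Y.basicOpen r) (hU.basicOpen r)) ⟶ PB => ψ.base z)
      (RelProj.map_res_emb hB U hU r)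
    exact (show _ = _ from h2).symm ▸ hz
  have hnat : ∀ a : 𝒜.presheaf.obj (op U),
      ψB (RelProj.gradedHomAt φ hφ U hU a) = RelProj.gradedHomAt φ hφ (Y.basicOpen r) (hU.basicOpen r) (ψA a) :=
    fun a => (ConcreteCategory.congr_hom (φ.hom.naturality (homOfLE (Y.basicOpen_le r)).op) a).symm
  have e1 : ProjectiveSpectrum.comap ψA (𝒜.irrelevant_le_map U hU r)
      (ProjectiveSpectrum.comap (RelProj.gradedHomAt φ hφ _ (hU.basicOpen r)) (hirr _ (hU.basicOpen r)) z) =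
      ProjectiveSpectrum.comap (RelProj.gradedHomAt φ hφ U hU) (hirr U hU)
        (ProjectiveSpectrum.comap ψB (ℬ.irrelevant_le_map U hU r) z) := by
    refine ProjectiveSpectrum.ext (HomogeneousIdeal.ext (Ideal.ext fun a => ?_))
    show RelProj.gradedHomAt φ hφ _ (hU.basicOpen r) (ψA a) ∈ z.asHomogeneousIdeal.toIdeal ↔
      ψB (RelProj.gradedHomAt φ hφ U hU a) ∈ z.asHomogeneousIdeal.toIdeal
    rw [hnat]
  have hx1 : (RelProj.emb pA chartA U hU).base (ProjectiveSpectrum.comap ψA (𝒜.irrelevant_le_map U hU r)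
      (ProjectiveSpectrum.comap (RelProj.gradedHomAt φ hφ _ (hU.basicOpen r)) (hirr _ (hU.basicOpen r)) z)) ∈ W := by
    have h2 := congrArg (fun ψ : Proj (𝒜.deg (Y.basicOpen r) (hU.basicOpen r)) ⟶ PA => ψ.base
      (ProjectiveSpectrum.comap (RelProj.gradedHomAt φ hφ _ (hU.basicOpen r)) (hirr _ (hU.basicOpen r)) z))
      (RelProj.map_res_emb hA U hU r)
    exact (show _ = _ from h2).symm ▸ hz'
  have hx2 : (RelProj.emb pA chartA U hU).base (ProjectiveSpectrum.comap (RelProj.gradedHomAt φ hφ U hU)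
      (hirr U hU) (ProjectiveSpectrum.comap ψB (ℬ.irrelevant_le_map U hU r) z)) ∈ W := e1 ▸ hx1
  rw [hLB.compat U hU r O t z hz hy, ht _ hy hx2, hLA.compat U hU r W s _ hz' hx1]
  exact locMap_comm (RelProj.gradedHomAt φ hφ U hU) (hirr U hU) ψB (ℬ.irrelevant_le_map U hU r) ψA
    (𝒜.irrelevant_le_map U hU r) (RelProj.gradedHomAt φ hφ _ (hU.basicOpen r)) (hirr _ (hU.basicOpen r))
    hnat z (V := RelProj.emb pA chartA U hU ⁻¹ᵁ W)
    (fun x => GrTwist.val (V := RelProj.emb pA chartA U hU ⁻¹ᵁ W) ((lamA U hU).app W s) x) hx2 hx1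

include hh

lemma rel_of_relAt {U : Y.Opens} {hU : IsAffineOpen U} {W : PA.Opens} {s : Γ(LA, W)} {O : PB.Opens}
    (hOW : O ≤ h ⁻¹ᵁ W) (hO : O ≤ pB ⁻¹ᵁ U) {t : Γ(LB, O)} (ht : RelAt hirr lamA lamB U hU s t) :
    ∀ V hV, RelAt hirr lamA lamB V hV s t := by
  intro V hV y hy hy'
  let x : PB := (RelProj.emb pB chartB V hV).base y
  have hxV : x ∈ pB ⁻¹ᵁ V := by rw [← RelTildeX.opensRange_emb pB chartB V hV]; exact ⟨y, rfl⟩
  obtain ⟨r, r', e, hxr⟩ := exists_basicOpen_le_affine_inter hU hV (pB.base x) ⟨hO hy, hxV⟩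
  have hi : O ⊓ pB ⁻¹ᵁ Y.basicOpen r ≤ O := inf_le_left
  have hiV : O ⊓ pB ⁻¹ᵁ Y.basicOpen r ≤ pB ⁻¹ᵁ V :=
    inf_le_right.trans (pB.preimage_mono (e.le.trans (Y.basicOpen_le r')))
  obtain ⟨t'', ht''⟩ := exists_relAt hh hLB V hV s (hi.trans hOW) hiV
  have h1 : RelAt hirr lamA lamB _ (hU.basicOpen r) s (AModX.res LB hi t) :=
    RelAt.down hA hB hLA hLB r (hU.basicOpen r) rfl (ht.res hi)
  have h2 : RelAt hirr lamA lamB _ (hU.basicOpen r) s t'' := RelAt.down hA hB hLA hLB r' (hU.basicOpen r) e ht''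
  have heq : t'' = AModX.res LB hi t := val_ext hLB (hU := hU.basicOpen r) inf_le_right fun z hz =>
    (h2 z hz (mem_A hh _ _ (hOW hz.1))).trans (h1 z hz (mem_A hh _ _ (hOW hz.1))).symm
  rw [heq] at ht''
  exact (val_app_res V hV hi t y ⟨hy, hxr⟩).symm.trans (ht'' y ⟨hy, hxr⟩ hy')

lemma exists_rel (W : PA.Opens) (s : Γ(LA, W)) :
    ∃ t : Γ(LB, h ⁻¹ᵁ W), ∀ U hU, RelAt hirr lamA lamB U hU s t := by
  have hloc : ∀ U : Y.affineOpens, ∃ t : Γ(LB, h ⁻¹ᵁ W ⊓ pB ⁻¹ᵁ U.1),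
      ∀ V hV, RelAt hirr lamA lamB V hV s t := fun U => by
    obtain ⟨t, ht⟩ := exists_relAt hh hLB U.1 U.2 s (O := h ⁻¹ᵁ W ⊓ pB ⁻¹ᵁ U.1) inf_le_left inf_le_right
    exact ⟨t, rel_of_relAt hh hA hB hLA hLB inf_le_left inf_le_right ht⟩
  choose t ht using hloc
  obtain ⟨T, hT, -⟩ := TopCat.Sheaf.existsUnique_gluing' ⟨LB.presheaf, LB.isSheaf⟩
    (fun U : Y.affineOpens => h ⁻¹ᵁ W ⊓ pB ⁻¹ᵁ U.1) (h ⁻¹ᵁ W) (fun _ => homOfLE inf_le_left)
    (fun x hx => by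
      obtain ⟨_, ⟨U, hU, rfl⟩, hxU, -⟩ := Y.isBasis_affineOpens.exists_subset_of_mem_open
        (Set.mem_univ (pB x)) isOpen_univ
      exact Opens.mem_iSup.2 ⟨⟨U, hU⟩, hx, hxU⟩) t
    (fun U V => rel_unique hh hLB (inf_le_left.trans inf_le_left)
      (fun A hA' => (ht U A hA').res _) fun A hA' => (ht V A hA').res _)
  refine ⟨T, fun V hV y hy hy' => ?_⟩
  obtain ⟨_, ⟨U, hU, rfl⟩, hxU, -⟩ := Y.isBasis_affineOpens.exists_subset_of_mem_open
    (Set.mem_univ (pB.base ((RelProj.emb pB chartB V hV).base y))) isOpen_univ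
  have h1 := ht ⟨U, hU⟩ V hV y ⟨hy, hxU⟩ hy'
  rw [show t ⟨U, hU⟩ = AModX.res LB inf_le_left T from (hT ⟨U, hU⟩).symm] at h1
  exact (val_app_res V hV inf_le_left T y ⟨hy, hxU⟩).symm.trans h1

omit hA hB hLA hLB in
lemma RelAt.smul {U : Y.Opens} {hU : IsAffineOpen U} {W : PA.Opens} {s : Γ(LA, W)}
    {t : Γ(LB, h ⁻¹ᵁ W)} (c : Γ(PA, W)) (ht : RelAt hirr lamA lamB U hU s t) :
    RelAt hirr lamA lamB U hU (c • s) (h.app W c • t) := by
  intro y hy hy'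
  let jA := RelProj.emb pA chartA U hU
  let jB := RelProj.emb pB chartB U hU
  let ψ := RelProj.gradedHomAt φ hφ U hU
  have el := congrArg (fun z => GrTwist.val (V := jB ⁻¹ᵁ (h ⁻¹ᵁ W)) z ⟨y, hy⟩)
    ((Scheme.Modules.Hom.app_smul (lamB U hU) (h.app W c) t))
  have er := congrArg (fun z => GrTwist.val (V := jA ⁻¹ᵁ W) z ⟨_, hy'⟩)
    ((Scheme.Modules.Hom.app_smul (lamA U hU) c s))
  refine el.trans (Eq.trans ?_ (congrArg (GrTwist.locMap ψ (hirr U hU) y) er).symm)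
  refine (GrTwist.coe_smul_val n y _ _).trans ?_
  refine Eq.trans ?_ (congrArg (GrTwist.locMap ψ (hirr U hU) y) (GrTwist.coe_smul_val n _ _ _)).symm
  rw [map_mul]
  refine congr_arg₂ (· * ·) ?_ (ht y hy hy')
  refine (app_val_congr (emb_h hh U hU) W c y hy hy').trans ?_
  refine (congrArg HomogeneousLocalization.val
    (GrTwist.comapStructureSheaf_apply ψ (hirr U hU) (jA ⁻¹ᵁ W) (Proj.map ψ (hirr U hU) ⁻¹ᵁ (jA ⁻¹ᵁ W))
      Set.Subset.rfl (jA.app W c) ⟨y, hy'⟩)).trans ?_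
  rw [HomogeneousLocalization.val_localRingHom]
  rfl

lemma chooseRel_add {W : PA.Opens} (s s' : Γ(LA, W)) :
    (exists_rel hh hA hB hLA hLB W (s + s')).choose =
      (exists_rel hh hA hB hLA hLB W s).choose + (exists_rel hh hA hB hLA hLB W s').choose :=
  rel_unique hh hLB le_rfl (exists_rel hh hA hB hLA hLB W (s + s')).choose_spec fun U hU y hy hy' => by
    have h1 := (exists_rel hh hA hB hLA hLB W s).choose_spec U hU y hy hy'
    have h2 := (exists_rel hh hA hB hLA hLB W s').choose_spec U hU y hy hy'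
    rw [map_add, map_add]
    exact (congr_arg₂ (· + ·) h1 h2).trans (map_add _ _ _).symm

lemma chooseRel_smul {W : PA.Opens} (c : Γ(PA, W)) (s : Γ(LA, W)) :
    (exists_rel hh hA hB hLA hLB W (c • s)).choose = h.app W c • (exists_rel hh hA hB hLA hLB W s).choose :=
  rel_unique hh hLB le_rfl (exists_rel hh hA hB hLA hLB W (c • s)).choose_spec fun U hU =>
    RelAt.smul hh c ((exists_rel hh hA hB hLA hLB W s).choose_spec U hU)

/-- The glued comparison. -/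
def theta : LA ⟶ (Scheme.Modules.pushforward h).obj LB where
  val := PresheafOfModules.homMk
    { app := fun W => AddCommGrpCat.ofHom (AddMonoidHom.mk'
        (fun s => (show Γ((Scheme.Modules.pushforward h).obj LB, W.unop) from
          (exists_rel hh hA hB hLA hLB W.unop s).choose)) fun s s' => chooseRel_add hh hA hB hLA hLB s s')
      naturality := fun V W i => by
        ext s
        refine rel_unique hh hLB le_rfl
          (exists_rel hh hA hB hLA hLB W.unop (LA.presheaf.map i s)).choose_spec fun U hU y hy hy' => ?_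
        refine ((RelAt.res (h.preimage_mono i.unop.le)
          ((exists_rel hh hA hB hLA hLB V.unop s).choose_spec U hU)) y hy (i.unop.le hy')).trans ?_
        exact congrArg _ (congrArg (fun z => GrTwist.val (V := RelProj.emb pA chartA U hU ⁻¹ᵁ W.unop) z ⟨_, hy'⟩)
          (AModX.app_res (lamA U hU) i.unop.le s)).symm }
    fun W c s => chooseRel_smul hh hA hB hLA hLB c s

omit hh hA hB hLA hLB

/-- For a graded homomorphism φ : 𝒜 → ℬ of quasi-coherent positively graded O_Y-algebras whose induced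
morphism h : Proj(ℬ) → Proj(𝒜) is everywhere defined (irrelevant ideals generated by the image,
affine-locally), and every integer n, there is exactly one module map O_{Proj(𝒜)}(n) →
h_*(O_{Proj(ℬ)}(n)) which over every affine open U of Y is, valuewise under the chartwise
identifications of both twisting sheaves, the comparison a/f ↦ φ(a)/φ(f) of the twisting sheaves of
𝒜(U) and ℬ(U). (The published statement works over the open where the induced morphism is defined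
and phrases the map as h^*(O(n)) → O(n); the hypothesis on irrelevant ideals used here makes that
open everything.) -/
theorem result {Y PA PB : Scheme.{u}} {𝒜 ℬ : RelProj.QCGrAlg Y}
    (φ : 𝒜.toQCAlg ⟶ ℬ.toQCAlg) (hφ : RelProj.IsGradedHom φ)
    (hirr : ∀ (U : Y.Opens) (hU : IsAffineOpen U),
      (ℬ.deg U hU)₊ ≤ ((𝒜.deg U hU)₊).map (RelProj.gradedHomAt φ hφ U hU))
    (pA : PA ⟶ Y) (pB : PB ⟶ Y)
    (chartA : ∀ (U : Y.Opens) (hU : IsAffineOpen U), (((pA ⁻¹ᵁ U : PA.Opens) : Scheme.{u}) ≅ Proj (𝒜.deg U hU)))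
    (chartB : ∀ (U : Y.Opens) (hU : IsAffineOpen U), (((pB ⁻¹ᵁ U : PB.Opens) : Scheme.{u}) ≅ Proj (ℬ.deg U hU)))
    (hA : RelProj.IsRelProj 𝒜 pA chartA) (hB : RelProj.IsRelProj ℬ pB chartB)
    (h : PB ⟶ PA) (hh : RelProj.IsRelProjMap φ hφ hirr chartA chartB h) (n : ℤ)
    (LA : PA.Modules)
    (lamA : ∀ (U : Y.Opens) (hU : IsAffineOpen U),
      LA ⟶ (Scheme.Modules.pushforward (RelProj.emb pA chartA U hU)).obj (GrTwist.twist (𝒜.deg U hU) n))
    (hLA : RelProj.IsRelTwist 𝒜 pA chartA n LA lamA)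
    (LB : PB.Modules)
    (lamB : ∀ (U : Y.Opens) (hU : IsAffineOpen U),
      LB ⟶ (Scheme.Modules.pushforward (RelProj.emb pB chartB U hU)).obj (GrTwist.twist (ℬ.deg U hU) n))
    (hLB : RelProj.IsRelTwist ℬ pB chartB n LB lamB) :
    ∃! θ : LA ⟶ (Scheme.Modules.pushforward h).obj LB,
      ∀ (U : Y.Opens) (hU : IsAffineOpen U) (W : PA.Opens) (s : Γ(LA, W))
        (y : ProjectiveSpectrum (ℬ.deg U hU))
        (hy : (RelProj.emb pB chartB U hU).base y ∈ h ⁻¹ᵁ W)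
        (hy' : (RelProj.emb pA chartA U hU).base
          (ProjectiveSpectrum.comap (RelProj.gradedHomAt φ hφ U hU) (hirr U hU) y) ∈ W),
        GrTwist.val (V := RelProj.emb pB chartB U hU ⁻¹ᵁ (h ⁻¹ᵁ W)) ((lamB U hU).app (h ⁻¹ᵁ W) (θ.app W s)) ⟨y, hy⟩ =
          GrTwist.locMap (RelProj.gradedHomAt φ hφ U hU) (hirr U hU) y
            (GrTwist.val (V := RelProj.emb pA chartA U hU ⁻¹ᵁ W) ((lamA U hU).app W s) ⟨_, hy'⟩) := by
  refine ⟨theta hh hA hB hLA hLB, fun U hU W s y hy hy' =>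
    (exists_rel hh hA hB hLA hLB W s).choose_spec U hU y hy hy', fun θ' hθ' => ?_⟩
  refine Scheme.Modules.hom_ext _ _ fun W => ?_
  ext s
  exact rel_unique hh hLB le_rfl (fun U hU y hy hy' => hθ' U hU W s y hy hy')
    (exists_rel hh hA hB hLA hLB W s).choose_spec

end Groth.Agent.S8343
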