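import Groth.Statements.S8347
import Groth.Agent.S8355

set_option autoImplicit false
universe v u
open CategoryTheory CategoryTheory.Limits
open SpSeq

namespace Groth.Agent.S8347

theorem stat_iso {C : Type u} [Category.{v} C] [Abelian C] {r₀ : ℤ}
    (E : CohomologicalSpectralSequence C r₀) (pq : ℤ × ℤ) (r : ℤ) (hst : SpSeq.StationaryAt E pq r)
    (k : ℤ) (hk : r ≤ k) : Nonempty ((E.page r hst.1).X pq ≅ (E.page k (hst.1.trans hk)).X pq) := by
  induction k, hk using Int.le_induction with
  | base => exact ⟨Iso.refl _⟩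
  | succ k hk ih =>
    obtain ⟨e⟩ := ih
    have h0 := hst.1.trans hk
    obtain ⟨hd1, hd2⟩ := hst.2 k h0 hk
    have hprev : (ComplexShape.up' (⟨k, 1 - k⟩ : ℤ × ℤ)).prev pq = pq - (k, 1 - k) :=
      ComplexShape.prev_eq' _ (by simp)
    have hnext : (ComplexShape.up' (⟨k, 1 - k⟩ : ℤ × ℤ)).next pq = pq + (k, 1 - k) :=
      ComplexShape.next_eq' _ (by simp)
    have hf : ((E.page k h0).sc pq).f = 0 := by
      change (E.page k h0).d _ pq = 0
      rw [hprev]; exact hd1
    have hg : ((E.page k h0).sc pq).g = 0 := by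
      change (E.page k h0).d pq _ = 0
      rw [hnext]; exact hd2
    exact ⟨e ≪≫ (ShortComplex.HomologyData.ofZeros _ hf hg).left.homologyIso.symm ≪≫
      E.iso k (k + 1) pq rfl h0⟩

theorem eq_of_isZero_grPiece {C : Type u} [Category.{v} C] [Abelian C] {X : C} (F : ℤ → Subobject X)
    (hF : Antitone F) (p : ℤ) (h : Limits.IsZero (SpSeq.grPiece F hF p)) : F (p + 1) = F p := by
  have hle : F (p + 1) ≤ F p := hF (Int.le_add_one le_rfl)
  haveI : Epi ((F (p + 1)).ofLE (F p) hle) :=
    Abelian.epi_of_cokernel_π_eq_zero _ (h.eq_of_tgt _ _)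
  haveI : IsIso ((F (p + 1)).ofLE (F p) hle) := isIso_of_mono_of_epi _
  exact le_antisymm hle (Subobject.le_of_comm (inv ((F (p + 1)).ofLE (F p) hle)) (by simp))

theorem iso_grPiece {C : Type u} [Category.{v} C] [Abelian C] {X : C} (F : ℤ → Subobject X)
    (hF : Antitone F) (p : ℤ) (h0 : F p = ⊤) (h1 : F (p + 1) = ⊥) :
    Nonempty (X ≅ SpSeq.grPiece F hF p) := by
  have hz : Limits.IsZero ((F (p + 1) : Subobject X) : C) := by
    rw [h1]
    open ZeroObject in exact (Limits.isZero_zero C).of_iso Subobject.botCoeIsoZero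
  haveI : IsIso (F p).arrow := by rw [h0]; infer_instance
  exact ⟨(asIso (F p).arrow).symm ≪≫ Limits.cokernelZeroIsoTarget.symm ≪≫
    Limits.cokernelIsoOfEq (hz.eq_of_src _ _)⟩

/-- Let E be a spectral sequence in an abelian category with abutment data (H^m), and suppose that for
some page r and every total degree m there is an integer q(m) such that E_r^{m-q,q} = 0 for every q
other than q(m). Let n be a total degree such that the filtration of H^n is discrete (some step is
zero) and exhaustive (H^n is the supremum of the steps), and such that the position (n - q(n), q(n))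
is stationary from page r on. Then H^n is isomorphic to E_r^{n-q(n), q(n)}. (The published statement
asserts this without any condition on the differentials at the surviving positions; that version
fails when a differential d_r links the surviving terms of two consecutive total degrees, for
instance a spectral sequence whose only nonzero page-2 terms are E_2^{0,1} and E_2^{2,0} with d_2 an
isomorphism between them and zero abutment. The stationarity assumed here is automatic when q(m)
does not depend on m and r ≥ 2.) -/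
theorem result {C : Type u} [Category.{v} C] [Abelian C] {r₀ : ℤ}
    (E : CohomologicalSpectralSequence C r₀) {H : ℤ → C} (a : SpSeq.Abutment E H)
    (r : ℤ) (hr : r₀ ≤ r) (q : ℤ → ℤ)
    (hdeg : ∀ m q' : ℤ, q' ≠ q m → IsZero ((E.page r hr).X (m - q', q')))
    (n : ℤ) (hdisc : (a.filObj n).IsDiscrete) (hexh : a.IsExhaustive n)
    (hst : SpSeq.StationaryAt E (n - q n, q n) r) :
    Nonempty (H n ≅ (E.page r hr).X (n - q n, q n)) := by
  have key : ∀ p : ℤ, p ≠ n - q n → IsZero (SpSeq.grPiece (a.fil n) (a.anti n) p) := by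
    intro p hp
    have hz := hdeg n (n - p) (by omega)
    rw [show n - (n - p) = p by omega] at hz
    have := (S8355.result E r hr (p, n - p) hz).2 H a
    have gen : ∀ m, m = n → IsZero (SpSeq.grPiece (a.fil m) (a.anti m) p) →
        IsZero (SpSeq.grPiece (a.fil n) (a.anti n) p) := fun m hm => by subst hm; exact id
    exact gen _ (by simp) this
  have heq : ∀ p, p ≠ n - q n → a.fil n (p + 1) = a.fil n p := fun p hp =>
    eq_of_isZero_grPiece _ (a.anti n) p (key p hp)
  obtain ⟨b, hb⟩ := hdisc
  change a.fil n b = ⊥ at hb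
  set p0 := n - q n with hp0
  have hup : ∀ p, p0 + 1 ≤ p → a.fil n p = a.fil n (p0 + 1) := by
    intro p hp
    induction p, hp using Int.le_induction with
    | base => rfl
    | succ p hp ih => rw [heq p (by omega), ih]
  have hdown : ∀ p, p ≤ p0 → a.fil n p = a.fil n p0 := by
    intro p hp
    induction p, hp using Int.le_induction_down with
    | base => rfl
    | pred p hp ih =>
      have := heq (p - 1) (by omega)
      rw [Int.sub_add_cancel] at this
      rw [← this, ih]
  have hbot : a.fil n (p0 + 1) = ⊥ := by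
    rcases le_or_gt (p0 + 1) b with hb' | hb'
    · rw [← hup b hb', hb]
    · exact le_bot_iff.1 ((a.anti n hb'.le).trans hb.le)
  have htop : a.fil n p0 = ⊤ := by
    refine top_le_iff.1 (hexh.2 ?_)
    rintro _ ⟨p, rfl⟩
    rcases le_or_gt p p0 with hp | hp
    · exact (hdown p hp).le
    · exact a.anti n hp.le
  obtain ⟨e1⟩ := iso_grPiece _ (a.anti n) p0 htop hbot
  obtain ⟨e2⟩ := stat_iso E (p0, q n) r hst (max r (a.rk (p0, q n))) (le_max_left _ _)
  obtain ⟨e3⟩ := stat_iso E (p0, q n) _ (a.stat (p0, q n)) (max r (a.rk (p0, q n))) (le_max_right _ _)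
  have gen : ∀ m, m = n → ((E.page (a.rk (p0, q n)) (a.stat (p0, q n)).1).X (p0, q n) ≅
      SpSeq.grPiece (a.fil m) (a.anti m) p0) → Nonempty ((E.page (a.rk (p0, q n)) (a.stat (p0, q n)).1).X (p0, q n) ≅
      SpSeq.grPiece (a.fil n) (a.anti n) p0) := fun m hm e => by subst hm; exact ⟨e⟩
  obtain ⟨e4⟩ := gen _ (by simp [p0]) (a.β (p0, q n))
  exact ⟨e1 ≪≫ e4.symm ≪≫ e3 ≪≫ e2.symm⟩

end Groth.Agent.S8347
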