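import Groth.Statements.S8386
import Groth.Agent.Sga3xB.MonoHom
import Groth.Agent.Sga3xB.MultTypeSpec
import Groth.Agent.MultTransp18.SubgroupLift
import Groth.Agent.UnramMisc.QFSmooth

set_option autoImplicit false
set_option linter.style.haveILetI false
universe u
open CategoryTheory MonoidalCategory CartesianMonoidalCategory MonObj GrpObj AlgebraicGeometry
open SGA3x

namespace Groth.Agent.S8386

open CategoryTheory.Limits TensorProduct Groth.Agent.GrpSchLib.AffineHopf Groth.Agent.MultTransp18 in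
/-- The abstract lift of the group. -/
theorem exists_lift (A : Type u) [CommRing A] (J : Ideal A) (hJ : ∀ x ∈ J, IsNilpotent x)
    (H₀ : Over (Spec (CommRingCat.of (A ⧸ J)))) [GrpObj H₀] (hm₀ : SGA3x.IsMultTypeFT H₀) :
    ∃ (B : Type u) (_ : CommRing B) (_ : HopfAlgebra A B), SGA3x.IsMultTypeFT (sp A B) ∧
      Nonempty (Grp.mk (Red.bc (qMap J) (sp A B)) ≅ Grp.mk H₀) := by
  have hH₀ := locDiag_of_multTypeFT hm₀
  haveI : IsAffineHom H₀.hom := isAffineHom_of_locDiag hH₀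
  haveI : IsAffine H₀.left := isAffine_of_isAffineHom H₀.hom
  obtain ⟨A₀, _, _, ⟨e0⟩⟩ := exists_hopf H₀
  haveI : IsIso e0.hom.hom.hom.left :=
    ⟨e0.inv.hom.hom.left, congrArg (fun h => h.hom.hom.left) e0.hom_inv_id,
      congrArg (fun h => h.hom.hom.left) e0.inv_hom_id⟩
  haveI : LocallyOfFiniteType H₀.hom := GrpSchLib.MultTypeLft.lft hm₀
  haveI : LocallyOfFiniteType (sp (A ⧸ J) A₀).hom := by rw [← Over.w e0.hom.hom.hom]; infer_instance
  have hft : Algebra.FiniteType (A ⧸ J) A₀ := RingHom.finiteType_algebraMap.mp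
    ((HasRingHomProperty.Spec_iff (P := @LocallyOfFiniteType)
      (φ := CommRingCat.ofHom (algebraMap (A ⧸ J) A₀))).mp ‹_›)
  obtain ⟨B, _, _, hB, ⟨b⟩⟩ := MultTypeLib.exists_quasiIsotrivial_lift J hJ A₀
    (MultTypeLib.isQuasiIsotrivial_of_isMultType hft (isMultType_of_locDiag e0 hH₀))
  obtain ⟨e, -⟩ := exists_bc_sp_iso J B
  refine ⟨B, inferInstance, inferInstance, Sga3xB.isMultTypeFT_sp (isMultType_of_quasiIsotrivial hB) ?_,
    ⟨e ≪≫ spIso b.symm ≪≫ e0⟩⟩
  intro C _ _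
  have hker : ∀ x ∈ J, algebraMap A C x = 0 := fun x hx => ((hJ x hx).map (algebraMap A C)).eq_zero
  letI : Algebra (A ⧸ J) C := (Ideal.Quotient.lift J (algebraMap A C) hker).toAlgebra
  haveI : IsScalarTower A (A ⧸ J) C := IsScalarTower.of_algebraMap_eq fun r => (Ideal.Quotient.lift_mk J _ hker).symm
  haveI := hft
  haveI : Algebra.FiniteType (A ⧸ J) ((A ⧸ J) ⊗[A] B) := hft.equiv (b : (A ⧸ J) ⊗[A] B ≃ₐ[A ⧸ J] A₀).symm
  exact (inferInstance : Algebra.FiniteType C (C ⊗[A ⧸ J] ((A ⧸ J) ⊗[A] B))).equiv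
    (Algebra.TensorProduct.cancelBaseChange A (A ⧸ J) C C B)

set_option backward.isDefEq.respectTransparency false in
set_option maxHeartbeats 800000 in
set_option synthInstance.maxHeartbeats 400000 in
/-- Over an affine base: let A be a ring, J an ideal of A all of whose elements are nilpotent, S = Spec
A, S₀ = Spec(A/J), G an S-group scheme flat and of finite presentation over S, and H₀ a subgroup
scheme of G₀ = G ×_S S₀ which is smooth and finite over S₀, of multiplicative type and central in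
G₀. Then there is a subgroup scheme H of G of multiplicative type with H ×_S S₀ = H₀ as subgroups of
G₀; it is unique (any two such are isomorphic over G); and H is central in G. -/
theorem result (A : Type u) [CommRing A] (J : Ideal A)
    (hJ : ∀ x ∈ J, IsNilpotent x) (G : Over (Spec (CommRingCat.of A))) [GrpObj G] [Flat G.hom] [QuasiCompact G.hom]
    [QuasiSeparated G.hom] [LocallyOfFinitePresentation G.hom]
    (H₀ : Over (Spec (CommRingCat.of (A ⧸ J)))) [GrpObj H₀] (j₀ : H₀ ⟶ Red.bc (Spec.map (CommRingCat.ofHom (Ideal.Quotient.mk J))) G) [IsMonHom j₀] [Mono j₀]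
    [Smooth H₀.hom] [IsFinite H₀.hom] (hm₀ : SGA3x.IsMultTypeFT H₀)
    (hc₀ : (∀ (X : Over _) (x : X ⟶ _) (g : X ⟶ Red.bc (Spec.map (CommRingCat.ofHom (Ideal.Quotient.mk J))) G), (x ≫ j₀) * g = g * (x ≫ j₀))) :
    (∃ (H : Over (Spec (CommRingCat.of A))) (_ : GrpObj H) (j : H ⟶ G), IsMonHom j ∧ Mono j ∧ SGA3x.IsMultTypeFT H ∧
      (∃ e : Red.bc (Spec.map (CommRingCat.ofHom (Ideal.Quotient.mk J))) H ≅ H₀, e.hom ≫ j₀ = (Over.pullback (Spec.map (CommRingCat.ofHom (Ideal.Quotient.mk J)))).map j) ∧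
      (∀ (X : Over _) (x : X ⟶ _) (g : X ⟶ G), (x ≫ j) * g = g * (x ≫ j)) ∧
      ∀ (H' : Over (Spec (CommRingCat.of A))) [GrpObj H'] (j' : H' ⟶ G) [IsMonHom j'] [Mono j'], SGA3x.IsMultTypeFT H' →
        (∃ e' : Red.bc (Spec.map (CommRingCat.ofHom (Ideal.Quotient.mk J))) H' ≅ H₀, e'.hom ≫ j₀ = (Over.pullback (Spec.map (CommRingCat.ofHom (Ideal.Quotient.mk J)))).map j') →
        ∃ φ : H' ≅ H, φ.hom ≫ j = j') := by
  let π := Spec.map (CommRingCat.ofHom (Ideal.Quotient.mk J))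
  haveI : IsClosedImmersion π := IsClosedImmersion.spec_of_surjective _ Ideal.Quotient.mk_surjective
  haveI : Surjective π := ⟨fun p => by
    have hle : J ≤ p.asIdeal := fun x hx => by
      obtain ⟨n, hn⟩ := hJ x hx
      exact p.isPrime.mem_of_pow_mem n (hn ▸ p.asIdeal.zero_mem)
    have h := _root_.range_comap_of_surjective _ (Ideal.Quotient.mk J) Ideal.Quotient.mk_surjective
    rw [Ideal.mk_ker] at h
    exact (h.symm ▸ (hle : p ∈ PrimeSpectrum.zeroLocus J) : p ∈ Set.range (PrimeSpectrum.comap (Ideal.Quotient.mk J)))⟩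
  obtain ⟨B, iB, iB', hH, ⟨i0⟩⟩ := exists_lift A J hJ H₀ hm₀
  let H := GrpSchLib.AffineHopf.sp A B
  haveI : Etale H₀.hom := UnramMisc.etale_of_smooth_of_locallyQuasiFinite H₀.hom
  have hk₀ : Sga3xB.LocKilled H₀ := Sga3xB.exists_killed_nhd hm₀
  have hk : Sga3xB.LocKilled H := Sga3xB.locKilled_of_red π hH (Sga3xB.locKilled_of_iso _ _ i0 hk₀)
  let e : Red.bc π H ≅ H₀ := (Grp.forget _).mapIso i0
  haveI : IsMonHom e.hom := i0.hom.hom.isMonHom_hom
  haveI : IsMonHom e.inv := inferInstance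
  obtain ⟨j, hj, hj0, hjc, -⟩ := Sga3xB.exists_central_lift π (e.hom ≫ j₀)
    (fun X x g => by rw [← Category.assoc]; exact hc₀ X _ g) hk
  haveI := hj
  haveI : Mono ((Over.pullback π).map j) := by rw [hj0]; infer_instance
  refine ⟨H, inferInstance, j, hj, Sga3xB.mono_of_mono_red π hH hk j, hH, ⟨e, hj0.symm⟩, hjc,
    fun H' _ j' _ _ hH' ⟨e', he'⟩ => ?_⟩
  haveI : IsMonHom e'.hom := Sga3xB.isMonHom_of_comp_mono e'.hom j₀ (by rw [he']; infer_instance)
  have hk' : Sga3xB.LocKilled H' := Sga3xB.locKilled_of_red π hH'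
    (Sga3xB.locKilled_of_iso _ _ (Grp.mkIso' e') hk₀)
  haveI : IsMonHom (e' ≪≫ e.symm).hom := inferInstanceAs (IsMonHom (e'.hom ≫ e.inv))
  obtain ⟨φ, hφ, hφ0⟩ := Sga3xB.exists_iso_lift π hH' hH hk' hk (e' ≪≫ e.symm)
  haveI := hφ
  obtain ⟨w, -, -, -, hw⟩ := Sga3xB.exists_central_lift π ((Over.pullback π).map j')
    (fun X x g => by rw [← he', ← Category.assoc]; exact hc₀ X _ g) hk'
  refine ⟨φ, ?_⟩
  rw [hw (φ.hom ≫ j) inferInstance ?_, hw j' inferInstance rfl]
  rw [Functor.map_comp, hφ0, hj0, Iso.trans_hom, Iso.symm_hom, Category.assoc, Iso.inv_hom_id_assoc, he']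

end Groth.Agent.S8386
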