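import Groth.Statements.S8395
import Groth.Agent.GrpSchLib.PowEtale

set_option autoImplicit false
universe u
open CategoryTheory MonoidalCategory CartesianMonoidalCategory MonObj GrpObj AlgebraicGeometry
open SGA3x

namespace Groth.Agent.S8395

open Groth.Agent.GrpSchLib

/-- Let k be a field, G a k-group scheme locally of finite type, n an integer invertible in k, and u : G
→ G the n-th power morphism. Then u is etale at every point of G lying in the centre of G; here
stated at a k-rational point g of G which is central (commutes with all points of G): u is etale on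
some open neighbourhood of g. (The published statement is for any point of the centre; its proof
reduces to rational points by extending the base field.) -/
theorem result (k : Type u) [Field k]
    (G : Over (Spec (CommRingCat.of k))) [GrpObj G] [LocallyOfFiniteType G.hom] (n : ℕ) (hn : (n : k) ≠ 0)
    (g : 𝟙_ (Over (Spec (CommRingCat.of k))) ⟶ G)
    (hg : ∀ (X : Over (Spec (CommRingCat.of k))) (x : X ⟶ G), (toUnit X ≫ g) * x = x * (toUnit X ≫ g)) :
    ∃ U : G.left.Opens, Set.range g.left.base ⊆ (U : Set ↥G.left) ∧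
      Etale (U.ι ≫ ((𝟙 G : G ⟶ G) ^ n).left) := by
  let a : G ⟶ G := toUnit G ≫ g
  have hcomm : ∀ {X : Over (Spec (CommRingCat.of k))} (x : X ⟶ G), Commute (toUnit X ≫ g) x :=
    fun {X} x => hg X x
  -- translation by a point
  have hc : ∀ {X : Over (Spec (CommRingCat.of k))} (x : X ⟶ G), x ≫ a = toUnit X ≫ g := fun {X} x => by
    simp only [a, ← Category.assoc, toUnit_unique (x ≫ toUnit G) (toUnit X)]
  let τ : G ≅ G := ⟨a⁻¹ * 𝟙 G, a * 𝟙 G, by
      rw [MonObj.comp_mul, hc, Category.comp_id]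
      exact mul_inv_cancel_left a (𝟙 G), by
      rw [MonObj.comp_mul, GrpObj.comp_inv, hc, Category.comp_id]
      exact inv_mul_cancel_left a (𝟙 G)⟩
  let p : G ⟶ G := 𝟙 G ^ n
  let b : G ⟶ G := a ^ n
  have hb : ∀ {X : Over (Spec (CommRingCat.of k))} (x : X ⟶ G), x ≫ b = (toUnit X ≫ g) ^ n := fun {X} x => by
    simp only [b, MonObj.comp_pow, hc]
  let σ : G ≅ G := ⟨b * 𝟙 G, b⁻¹ * 𝟙 G, by
      rw [MonObj.comp_mul, GrpObj.comp_inv, hb, Category.comp_id]
      exact inv_mul_cancel_left b (𝟙 G), by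
      rw [MonObj.comp_mul, hb, Category.comp_id]
      exact mul_inv_cancel_left b (𝟙 G)⟩
  have hdec : τ.hom ≫ p ≫ σ.hom = p := by
    simp only [p, σ, MonObj.comp_mul, hb, Category.comp_id, MonObj.comp_pow, τ]
    have h1 : Commute a⁻¹ (𝟙 G) := (hcomm (𝟙 G)).inv_left
    rw [h1.mul_pow, inv_pow] at *
    rw [show (a⁻¹ * 𝟙 G) ≫ toUnit G ≫ g = a from hc _]
    exact mul_inv_cancel_left _ _
  obtain ⟨U, hU, hUe⟩ := PowEtale.loc_etale (X := G) n hn
  haveI : Etale (U.ι ≫ p.left) := hUe
  refine ⟨τ.hom.left ⁻¹ᵁ U, ?_, ?_⟩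
  · rintro _ ⟨q, rfl⟩
    show (g.left ≫ τ.hom.left) q ∈ U
    rw [← Over.comp_left]
    have h1 : g ≫ τ.hom = η[G] := by
      simp only [τ, MonObj.comp_mul, GrpObj.comp_inv, hc, Category.comp_id]
      rw [toUnit_unique (toUnit (𝟙_ _)) (𝟙 _), Category.id_comp, inv_mul_cancel, Hom.one_def,
        toUnit_unique (toUnit (𝟙_ _)) (𝟙 _), Category.id_comp]
    rw [h1]
    convert hU using 1
    exact congrArg η[G].left (Subsingleton.elim (α := PrimeSpectrum k) _ _)
  · show Etale ((τ.hom.left ⁻¹ᵁ U).ι ≫ p.left)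
    rw [show p.left = τ.hom.left ≫ p.left ≫ σ.hom.left by rw [← Over.comp_left, ← Over.comp_left, hdec],
      ← morphismRestrict_ι_assoc]
    haveI : IsIso τ.hom.left := ((Over.forget _).mapIso τ).isIso_hom
    haveI : IsIso σ.hom.left := ((Over.forget _).mapIso σ).isIso_hom
    rw [← Category.assoc U.ι]
    infer_instance

end Groth.Agent.S8395
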