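import Groth.Statements.S8389
import Groth.Agent.Sga3xB.CompleteLift
import Groth.Agent.Sga3xB.EtaleKilled
import Groth.Agent.UnramMisc.QFSmooth

set_option autoImplicit false
universe u
open CategoryTheory MonoidalCategory CartesianMonoidalCategory MonObj GrpObj AlgebraicGeometry
open SGA3x

namespace Groth.Agent.S8389

/-- Let A be a complete Noetherian local ring with residue field k, S = Spec A, S₀ = Spec k the closed
point, M an S-group scheme of multiplicative type which is smooth and finite over S, G an S-group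
scheme flat and of finite type over S, and u₀ : M₀ → G₀ a central homomorphism between the closed
fibres. Then u₀ is the restriction of exactly one homomorphism u : M → G; and u is central when the
fibres of G are connected. -/
theorem result (A : Type u) [CommRing A]
    [IsLocalRing A] [IsNoetherianRing A] [IsAdicComplete (IsLocalRing.maximalIdeal A) A]
    (M : Over (Spec (CommRingCat.of A))) [GrpObj M] [IsFinite M.hom] [Smooth M.hom] (hM : SGA3x.IsMultTypeFT M)
    (G : Over (Spec (CommRingCat.of A))) [GrpObj G] [Flat G.hom] [QuasiCompact G.hom] [LocallyOfFiniteType G.hom]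
    (u₀ : Red.bc (Spec.map (CommRingCat.ofHom (Ideal.Quotient.mk (IsLocalRing.maximalIdeal A)))) M ⟶ Red.bc (Spec.map (CommRingCat.ofHom (Ideal.Quotient.mk (IsLocalRing.maximalIdeal A)))) G) [IsMonHom u₀]
    (hc₀ : ∀ (X : Over _) (x : X ⟶ Red.bc (Spec.map (CommRingCat.ofHom (Ideal.Quotient.mk (IsLocalRing.maximalIdeal A)))) M) (g : X ⟶ Red.bc (Spec.map (CommRingCat.ofHom (Ideal.Quotient.mk (IsLocalRing.maximalIdeal A)))) G), (x ≫ u₀) * g = g * (x ≫ u₀)) :
    (∃ u : M ⟶ G, IsMonHom u ∧ (Over.pullback (Spec.map (CommRingCat.ofHom (Ideal.Quotient.mk (IsLocalRing.maximalIdeal A))))).map u = u₀ ∧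
      ∀ u' : M ⟶ G, IsMonHom u' → (Over.pullback (Spec.map (CommRingCat.ofHom (Ideal.Quotient.mk (IsLocalRing.maximalIdeal A))))).map u' = u₀ → u' = u) ∧
    ((∀ s : (Spec (CommRingCat.of A)), _root_.IsConnected (G.hom.base ⁻¹' {s})) →
      ∀ u : M ⟶ G, IsMonHom u → (Over.pullback (Spec.map (CommRingCat.ofHom (Ideal.Quotient.mk (IsLocalRing.maximalIdeal A))))).map u = u₀ →
        ∀ (X : Over (Spec (CommRingCat.of A))) (x : X ⟶ M) (g : X ⟶ G), (x ≫ u) * g = g * (x ≫ u)) := by
  haveI : LocallyOfFinitePresentation G.hom := inferInstance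
  haveI : HenselianLocalRing A := Hensel.henselianLocalRing_of_henselianRing A
  haveI : Etale M.hom := UnramMisc.etale_of_smooth_of_locallyQuasiFinite M.hom
  obtain ⟨V, N, hV, hN, hkill⟩ := Sga3xB.exists_killed_nhd hM (IsLocalRing.closedPoint A)
  have htop : ∀ s : ↥(Spec (CommRingCat.of A)), s ∈ V := fun s =>
    (IsLocalRing.specializes_closedPoint s).mem_open V.2 hV
  have hN' : (N : A ⧸ IsLocalRing.maximalIdeal A) ≠ 0 := fun h0 => hN _ hV (by
    let s₀ : ↥(Spec (CommRingCat.of A)) := IsLocalRing.closedPoint A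
    let K : Type u := (Spec (CommRingCat.of A)).residueField s₀
    obtain ⟨φ, hφ⟩ := Spec.map_surjective ((Spec (CommRingCat.of A)).fromSpecResidueField s₀)
    have h1 : (N : A) ∈ IsLocalRing.maximalIdeal A := by
      rwa [← Ideal.Quotient.eq_zero_iff_mem, map_natCast]
    have h2 := (Spec (CommRingCat.of A)).fromSpecResidueField_apply s₀ (IsLocalRing.closedPoint K)
    rw [← hφ] at h2
    have h5 : φ.hom (N : A) ∈ IsLocalRing.maximalIdeal K := by
      have h4 : (N : A) ∈ (Spec.map φ (IsLocalRing.closedPoint K)).asIdeal := by rw [h2]; exact h1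
      exact h4
    have h3 : φ.hom (N : A) = 0 := by
      rwa [IsLocalRing.mem_maximalIdeal, mem_nonunits_iff, isUnit_iff_ne_zero, not_not] at h5
    rwa [map_natCast] at h3)
  obtain ⟨u, hu, hu₀, huniq, hc⟩ := Sga3xB.CompleteLift.exists_lift u₀ hc₀ hN'
    (fun X x => hkill X x (fun s _ => htop s))
  exact ⟨⟨u, hu, hu₀, huniq⟩, fun hconn u' hu' h0 => huniq u' hu' h0 ▸ hc hconn⟩

end Groth.Agent.S8389
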