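import Groth.Statements.S8431
import Groth.Agent.S8197
import Groth.Agent.GrpSchLib.CharZeroPts

set_option autoImplicit false
set_option linter.style.haveILetI false
universe u
open CategoryTheory MonoidalCategory CartesianMonoidalCategory MonObj GrpObj AlgebraicGeometry
open SGA3x

namespace Groth.Agent.S8431

/-- Let G be an algebraic group over a field k and Z a central algebraic subgroup such that G′ = G/Z is
a torus. Then G is commutative. Here q : G → G′ is a homomorphism representing the fppf quotient of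
G by Z, and G′ is a k-torus. -/
theorem result (k : Type u) [Field k]
    (G : Over (Spec (CommRingCat.of k))) [GrpObj G] [QuasiCompact G.hom] [LocallyOfFiniteType G.hom]
    (Z : Over (Spec (CommRingCat.of k))) [GrpObj Z] (z : Z ⟶ G) [IsMonHom z] [Mono z]
    (hz : ∀ (X : Over (Spec (CommRingCat.of k))) (x : X ⟶ Z) (g : X ⟶ G), (x ≫ z) * g = g * (x ≫ z))
    (G' : Over (Spec (CommRingCat.of k))) [GrpObj G'] (q : G ⟶ G') [IsMonHom q] (hq : RedSub.IsQuotient z q) (hT : Red.IsTorus G') :
    ∀ (X : Over (Spec (CommRingCat.of k))) (g h : X ⟶ G), g * h = h * g := by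
  intro X g h
  obtain ⟨hsurj, hflat, hlfp, hpb⟩ := hq
  haveI := hsurj
  haveI := hflat
  haveI := hlfp
  haveI : IsSeparated G.hom := GrpSchLib.CharZeroPts.isSeparated_grp G
  haveI : ConnectedSpace ↥G'.left := S8197.connectedSpace_torus hT
  refine PRed28.comm_of_central q (FpqcDescLib.covers_of_isCovering (FpqcDescLib.isCovering_of_lfp q.left))
    (GrpSchLib.RankOne.isMultTypeFT_of_isTorus hT) (fun Y a ha b => ?_) g h
  obtain ⟨r, h1, h2⟩ := hpb.exists_lift (1 : Y ⟶ G) a (by rw [MonObj.one_comp, ha])
  have h3 : a = r ≫ snd G Z ≫ z := by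
    rw [← h2, show (G ◁ z) ≫ μ = fst G Z * (snd G Z ≫ z) by
      rw [Hom.mul_def]; congr 1, MonObj.comp_mul, h1,
      _root_.one_mul]
  rw [h3, ← Category.assoc]
  exact hz Y _ b

end Groth.Agent.S8431
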