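import Groth.Statements.S8453
import Groth.Agent.Red23Lib.RankOneHomExt
import Groth.Agent.GrpSchLib.RankOneTransfer
import Groth.Agent.GrpSchLib.RankOneBraid

set_option autoImplicit false
universe u
open CategoryTheory MonoidalCategory CartesianMonoidalCategory MonObj GrpObj AlgebraicGeometry CategoryTheory.Limits
open Red

namespace Groth.Agent.S8453

open Groth.Agent.GrpSchLib Groth.Agent.GrpSchLib.RankOne Groth.Agent.Red23Lib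

set_option maxHeartbeats 1000000

/-- Isomorphism thm for groups of semisimple rank 1: Let (G, T, α, p₊, p₋, α^*) and (G', T', α', p'₊,
p'₋, α'^*) be two rank-one systems over S: G reductive, i : T ⟶ G a maximal torus, α a character of
T non-trivial on every geometric fibre, p₊, p₋ : 𝔾_a ⟶ G monomorphisms normalised by T with
multipliers α, α⁻¹ whose cell map (y, t, x) ↦ p₋(y) i(t) p₊(x) is an open immersion, α^* : 𝔾_m ⟶ T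
with α ∘ α^* the squaring map and p₊(x) p₋(y) = p₋(y/(1+xy)) · i(α^*(1+xy)) · p₊(x/(1+xy)) whenever
1 + xy is invertible; likewise for the primed data. Let q > 0 be an integer such that x ↦ x^q is
additive on all functions of S-schemes. Let c be an S-point of 𝔾_m (a trivialisation of the
isomorphism (𝔤^α)^{⊗q} ≅ 𝔤'^{α'}) and f_T : T ⟶ T' a homomorphism with α' ∘ f_T = α^q and f_T ∘ α^*
= (α'^*)^q. Then there is exactly one homomorphism f : G ⟶ G' extending f_T (i ∘ f = f_T ∘ i') with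
f(p₊(x)) = p'₊(c x^q) for all points x of 𝔾_a; moreover every such f satisfies f(p₋(y)) = p'₋(c⁻¹
y^q) for all points y. -/
theorem result (S : Scheme.{u}) (G T : Over S) [GrpObj G] [GrpObj T] (i : T ⟶ G) [IsMonHom i] [Mono i] (hG : Red.IsReductive G) (hTm : Red.IsMaximalTorus i)
    (α : T ⟶ Red.Gm S) [IsMonHom α] (hα : ∀ s : S, (Over.pullback (Red.geomPt s)).map α ≠ 1)
    (pp pm : Red.Ga S ⟶ G) [IsMonHom pp] [Mono pp] [IsMonHom pm] [Mono pm]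
    (hpp : ∀ (X : Over S) (t : X ⟶ T) (x : X ⟶ Red.Ga S), ∃ x' : X ⟶ Red.Ga S,
      x' ≫ pp = (t ≫ i) * (x ≫ pp) * (t ≫ i)⁻¹ ∧ Red.gaFn x' = Red.gmFn (t ≫ α) * Red.gaFn x)
    (hpm : ∀ (X : Over S) (t : X ⟶ T) (y : X ⟶ Red.Ga S), ∃ y' : X ⟶ Red.Ga S,
      y' ≫ pm = (t ≫ i) * (y ≫ pm) * (t ≫ i)⁻¹ ∧ Red.gaFn y' * Red.gmFn (t ≫ α) = Red.gaFn y)
    (hΩ : IsOpenImmersion (((pm ⊗ₘ i) ⊗ₘ pp) ≫ (μ[G] ▷ G) ≫ μ[G]).left)
    (av : Red.Gm S ⟶ T) [IsMonHom av] (h2 : av ≫ α = (𝟙 (Red.Gm S)) ^ 2)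
    (hF : ∀ (X : Over S) (x y : X ⟶ Red.Ga S), IsUnit (1 + Red.gaFn x * Red.gaFn y) →
      ∃ (x' y' : X ⟶ Red.Ga S) (z : X ⟶ Red.Gm S), Red.gmFn z = 1 + Red.gaFn x * Red.gaFn y ∧
        Red.gaFn x' * Red.gmFn z = Red.gaFn x ∧ Red.gaFn y' * Red.gmFn z = Red.gaFn y ∧
        (x ≫ pp) * (y ≫ pm) = (y' ≫ pm) * (z ≫ av ≫ i) * (x' ≫ pp))
    (G' T' : Over S) [GrpObj G'] [GrpObj T'] (i' : T' ⟶ G') [IsMonHom i'] [Mono i'] (hG' : Red.IsReductive G') (hTm' : Red.IsMaximalTorus i')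
    (α' : T' ⟶ Red.Gm S) [IsMonHom α'] (hα' : ∀ s : S, (Over.pullback (Red.geomPt s)).map α' ≠ 1)
    (pp' pm' : Red.Ga S ⟶ G') [IsMonHom pp'] [Mono pp'] [IsMonHom pm'] [Mono pm']
    (hpp' : ∀ (X : Over S) (t : X ⟶ T') (x : X ⟶ Red.Ga S), ∃ x' : X ⟶ Red.Ga S,
      x' ≫ pp' = (t ≫ i') * (x ≫ pp') * (t ≫ i')⁻¹ ∧ Red.gaFn x' = Red.gmFn (t ≫ α') * Red.gaFn x)
    (hpm' : ∀ (X : Over S) (t : X ⟶ T') (y : X ⟶ Red.Ga S), ∃ y' : X ⟶ Red.Ga S,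
      y' ≫ pm' = (t ≫ i') * (y ≫ pm') * (t ≫ i')⁻¹ ∧ Red.gaFn y' * Red.gmFn (t ≫ α') = Red.gaFn y)
    (hΩ' : IsOpenImmersion (((pm' ⊗ₘ i') ⊗ₘ pp') ≫ (μ[G'] ▷ G') ≫ μ[G']).left)
    (av' : Red.Gm S ⟶ T') [IsMonHom av'] (h2' : av' ≫ α' = (𝟙 (Red.Gm S)) ^ 2)
    (hF' : ∀ (X : Over S) (x y : X ⟶ Red.Ga S), IsUnit (1 + Red.gaFn x * Red.gaFn y) →
      ∃ (x' y' : X ⟶ Red.Ga S) (z : X ⟶ Red.Gm S), Red.gmFn z = 1 + Red.gaFn x * Red.gaFn y ∧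
        Red.gaFn x' * Red.gmFn z = Red.gaFn x ∧ Red.gaFn y' * Red.gmFn z = Red.gaFn y ∧
        (x ≫ pp') * (y ≫ pm') = (y' ≫ pm') * (z ≫ av' ≫ i') * (x' ≫ pp'))
    (q : ℕ) (hq0 : 0 < q) (hq : ∀ (X : Over S) (a b : Γ(X.left, ⊤)), (a + b) ^ q = a ^ q + b ^ q) (c : 𝟙_ (Over S) ⟶ Red.Gm S) (fT : T ⟶ T') [IsMonHom fT]
    (hfTα : fT ≫ α' = α ^ q) (hfTav : av ≫ fT = av' ^ q) :
    (∃! f : G ⟶ G', IsMonHom f ∧ i ≫ f = fT ≫ i' ∧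
        ∀ (X : Over S) (x y : X ⟶ Red.Ga S), Red.gaFn y = Red.gmFn (toUnit X ≫ c) * Red.gaFn x ^ q →
          (x ≫ pp) ≫ f = y ≫ pp') ∧
      ∀ f : G ⟶ G', IsMonHom f → i ≫ f = fT ≫ i' →
        (∀ (X : Over S) (x y : X ⟶ Red.Ga S), Red.gaFn y = Red.gmFn (toUnit X ≫ c) * Red.gaFn x ^ q →
          (x ≫ pp) ≫ f = y ≫ pp') →
        ∀ (X : Over S) (x y : X ⟶ Red.Ga S), Red.gaFn y * Red.gmFn (toUnit X ≫ c) = Red.gaFn x ^ q →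
          (x ≫ pm) ≫ f = y ≫ pm' := by
  haveI : IsAffineHom G'.hom := hG'.1
  let cu : ∀ X : Over S, (Γ(X.left, ⊤))ˣ := fun X => GmPts.unitOfPt (toUnit X ≫ c)
  have hcu : ∀ {X X' : Over S} (g : X' ⟶ X), g.left.appTop (cu X : Γ(X.left, ⊤)) = (cu X' : Γ(X'.left, ⊤)) := fun g => by
    simp only [cu, GmPts.val_unitOfPt, ← GmPts.gmFn_comp, ← Category.assoc, comp_toUnit]
  have hcui : ∀ {X X' : Over S} (g : X' ⟶ X),
      g.left.appTop (((cu X)⁻¹ : _ˣ) : Γ(X.left, ⊤)) = (((cu X')⁻¹ : _ˣ) : Γ(X'.left, ⊤)) := fun {X X'} g => by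
    rw [← hcu g |> fun e => (Units.ext e : Units.map g.left.appTop.hom.toMonoidHom (cu X) = cu X'), ← map_inv]
    rfl
  let fα : Red.Ga S ⟶ G' :=
    GaPts.ptOfFn ((cu (Red.Ga S) : Γ((Red.Ga S).left, ⊤)) * Red.gaFn (𝟙 (Red.Ga S)) ^ q) ≫ pp'
  let fm : Red.Ga S ⟶ G' :=
    GaPts.ptOfFn ((((cu (Red.Ga S))⁻¹ : _ˣ) : Γ((Red.Ga S).left, ⊤)) * Red.gaFn (𝟙 (Red.Ga S)) ^ q) ≫ pm'
  have hfα : ∀ {X : Over S} (x : X ⟶ Red.Ga S),
      x ≫ fα = GaPts.ptOfFn ((cu X : Γ(X.left, ⊤)) * Red.gaFn x ^ q) ≫ pp' := fun x => by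
    simp only [fα, ← Category.assoc, map_gaFn_ptOfFn, map_mul, map_pow, ← GaPts.gaFn_comp, Category.comp_id, hcu]
  have hfm : ∀ {X : Over S} (x : X ⟶ Red.Ga S),
      x ≫ fm = GaPts.ptOfFn ((((cu X)⁻¹ : _ˣ) : Γ(X.left, ⊤)) * Red.gaFn x ^ q) ≫ pm' := fun x => by
    simp only [fm, ← Category.assoc, map_gaFn_ptOfFn, map_mul, map_pow, ← GaPts.gaFn_comp, Category.comp_id, hcui]
  let Φ' := fun X : Over S => sys i' α' pp' pm' hpp' hpm' av' h2' hF' X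
  haveI : IsMonHom fα := isMonHom_of_comp fα fun X x x' => by
    rw [hfα, hfα, hfα, GaPts.gaFn_mul, hq, _root_.mul_add]
    exact (Φ' X).p_add _ _
  haveI : IsMonHom fm := isMonHom_of_comp fm fun X x x' => by
    rw [hfm, hfm, hfm, GaPts.gaFn_mul, hq, _root_.mul_add]
    exact (Φ' X).m_add _ _
  have ha : ∀ (X : Over S) (t : X ⟶ T), (Φ' X).a (t ≫ fT) = GmPts.unitOfPt (t ≫ α) ^ q := fun X t => by
    show GmPts.unitOfPt ((t ≫ fT) ≫ α') = _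
    rw [Category.assoc, hfTα, MonObj.comp_pow]
    exact map_pow (GmPts.equiv X) (t ≫ α) q
  have hI : ∀ (X : Over S) (z : (Γ(X.left, ⊤))ˣ),
      GmPts.ptOfUnit z ≫ av ≫ fT = GmPts.ptOfUnit (z ^ q) ≫ av' := fun X z => by
    rw [hfTav, ← ptOfUnit_comp_pow, Category.assoc, MonObj.pow_comp, Category.id_comp]
  have hpα : ∀ (X : Over S) (t : X ⟶ T) (x : X ⟶ Red.Ga S), ∃ x' : X ⟶ Red.Ga S,
      x' ≫ fα = (t ≫ fT ≫ i') * (x ≫ fα) * (t ≫ fT ≫ i')⁻¹ ∧ Red.gaFn x' = Red.gmFn (t ≫ α) * Red.gaFn x :=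
    fun X t x => ⟨GaPts.ptOfFn (Red.gmFn (t ≫ α) * Red.gaFn x), by
      rw [hfα, hfα, GaPts.gaFn_ptOfFn, ← Category.assoc]
      refine Eq.trans ?_ ((Φ' X).conj_p (t ≫ fT) _).symm
      refine congrArg (fun v => GaPts.ptOfFn v ≫ pp') ?_
      simp only [ha, Units.val_pow_eq_pow_val, GmPts.val_unitOfPt, mul_pow]
      ring, GaPts.gaFn_ptOfFn _⟩
  have hmα : ∀ (X : Over S) (t : X ⟶ T) (y : X ⟶ Red.Ga S), ∃ y' : X ⟶ Red.Ga S,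
      y' ≫ fm = (t ≫ fT ≫ i') * (y ≫ fm) * (t ≫ fT ≫ i')⁻¹ ∧ Red.gaFn y' * Red.gmFn (t ≫ α) = Red.gaFn y :=
    fun X t y => ⟨GaPts.ptOfFn ((((GmPts.unitOfPt (t ≫ α))⁻¹ : _ˣ) : Γ(X.left, ⊤)) * Red.gaFn y), by
      rw [hfm, hfm, GaPts.gaFn_ptOfFn, ← Category.assoc]
      refine Eq.trans ?_ ((Φ' X).conj_m (t ≫ fT) _).symm
      refine congrArg (fun v => GaPts.ptOfFn v ≫ pm') ?_
      rw [ha, ← inv_pow, Units.val_pow_eq_pow_val, mul_pow]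
      ring, by
      rw [GaPts.gaFn_ptOfFn, ← GmPts.val_unitOfPt]
      linear_combination Red.gaFn y * (GmPts.unitOfPt (t ≫ α)).inv_mul⟩
  have hFH : ∀ (X : Over S) (x y : X ⟶ Red.Ga S), IsUnit (1 + Red.gaFn x * Red.gaFn y) →
      ∃ (x' y' : X ⟶ Red.Ga S) (z : X ⟶ Red.Gm S), Red.gmFn z = 1 + Red.gaFn x * Red.gaFn y ∧
        Red.gaFn x' * Red.gmFn z = Red.gaFn x ∧ Red.gaFn y' * Red.gmFn z = Red.gaFn y ∧
        (x ≫ fα) * (y ≫ fm) = (y' ≫ fm) * (z ≫ av ≫ fT ≫ i') * (x' ≫ fα) := fun X x y hu =>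
    ⟨GaPts.ptOfFn (((hu.unit⁻¹ : _ˣ) : Γ(X.left, ⊤)) * Red.gaFn x),
      GaPts.ptOfFn (((hu.unit⁻¹ : _ˣ) : Γ(X.left, ⊤)) * Red.gaFn y), GmPts.ptOfUnit hu.unit, by
        rw [GmPts.gmFn_ptOfUnit, IsUnit.unit_spec], by
        rw [GaPts.gaFn_ptOfFn, GmPts.gmFn_ptOfUnit]; linear_combination Red.gaFn x * hu.unit.inv_mul, by
        rw [GaPts.gaFn_ptOfFn, GmPts.gmFn_ptOfUnit]; linear_combination Red.gaFn y * hu.unit.inv_mul, by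
        have hr := (Φ' X).rule ((cu X : Γ(X.left, ⊤)) * Red.gaFn x ^ q)
          ((((cu X)⁻¹ : _ˣ) : Γ(X.left, ⊤)) * Red.gaFn y ^ q) (hu.unit ^ q) (by
            rw [Units.val_pow_eq_pow_val, IsUnit.unit_spec, hq, one_pow, mul_pow]
            linear_combination (-(Red.gaFn x ^ q * Red.gaFn y ^ q)) * (cu X).mul_inv)
        rw [hfα, hfm, hfα, hfm, GaPts.gaFn_ptOfFn, GaPts.gaFn_ptOfFn, mul_pow, mul_pow,
          show GmPts.ptOfUnit hu.unit ≫ av ≫ fT ≫ i' = (GmPts.ptOfUnit (hu.unit ^ q) ≫ av') ≫ i' by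
            rw [← hI]; simp only [Category.assoc]]
        refine hr.trans ?_
        rw [← inv_pow, Units.val_pow_eq_pow_val, mul_left_comm _ (cu X : Γ(X.left, ⊤)),
          mul_left_comm _ (((cu X)⁻¹ : _ˣ) : Γ(X.left, ⊤))]
        rfl⟩
  have hscale : ∀ f : G ⟶ G', IsMonHom f → i ≫ f = fT ≫ i' →
      (∀ (X : Over S) (x y : X ⟶ Red.Ga S), Red.gaFn y = Red.gmFn (toUnit X ≫ c) * Red.gaFn x ^ q →
        (x ≫ pp) ≫ f = y ≫ pp') → pp ≫ f = fα ∧ pm ≫ f = fm := by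
    intro f hf hfi hfp
    haveI := hf
    have hI' : ∀ (X : Over S) (z : (Γ(X.left, ⊤))ˣ),
        (GmPts.ptOfUnit z ≫ av ≫ i) ≫ f = GmPts.ptOfUnit (z ^ q) ≫ av' ≫ i' := fun X z => by
      rw [Category.assoc, Category.assoc, hfi, ← Category.assoc (GmPts.ptOfUnit (z ^ q)), ← hI]
      simp only [Category.assoc]
    obtain ⟨a, ha'⟩ := exists_pm_coeff f q hpm h2 hTm'.2.2.1 hpp' hpm' hΩ' h2' hq0 hI'
    have hone := coeff_mul_eq_one f q (fun X => sys i α pp pm hpp hpm av h2 hF X) Φ'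
      (fun _ _ => rfl) (fun _ _ => rfl) (fun _ _ => rfl) (fun _ _ => rfl) (fun _ _ => rfl) hΩ' hq0 hq
      (fun X z => by
        refine Eq.trans ?_ ((hI' X z).trans (Category.assoc (GmPts.ptOfUnit (z ^ q)) av' i').symm)
        exact congrArg (· ≫ f) (Category.assoc (GmPts.ptOfUnit z) av i))
      (GaPts.ptOfFn (Red.gmFn c)) a
      (fun X v => by
        rw [exists_unit_const X]
        exact (Category.assoc _ _ _).symm.trans (hfp X _ _ (by simp only [GaPts.gaFn_ptOfFn]))) ha'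
    constructor
    · have h := hfp (Red.Ga S) (𝟙 _) (GaPts.ptOfFn ((cu (Red.Ga S) : Γ((Red.Ga S).left, ⊤)) * Red.gaFn (𝟙 _) ^ q))
        (by rw [GaPts.gaFn_ptOfFn]; rfl)
      rwa [Category.id_comp] at h
    · have h := ha' (Red.Ga S) (Red.gaFn (𝟙 _))
      rw [← ga_eq_ptOfFn, Category.id_comp] at h
      rw [h]
      refine congrArg (fun v => GaPts.ptOfFn v ≫ pm') ?_
      have h2 := hone (Red.Ga S)
      rw [exists_unit_const] at h2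
      congr 1
      exact (cu (Red.Ga S)).inv_eq_of_mul_eq_one_right h2 |>.symm
  obtain ⟨f, ⟨hf, hfi, hfp, hfm'⟩, huniq⟩ :=
    existsUnique_hom hG hTm.2.2.1 hpp hpm hΩ h2 hF (fT ≫ i') fα fm hpα hmα hFH
  have hfp' : ∀ (X : Over S) (x y : X ⟶ Red.Ga S), Red.gaFn y = Red.gmFn (toUnit X ≫ c) * Red.gaFn x ^ q →
      (x ≫ pp) ≫ f = y ≫ pp' := fun X x y hy => by
    rw [Category.assoc, hfp, hfα]
    refine congrArg (· ≫ pp') (GaPts.gaFn_injective ?_)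
    simp only [GaPts.gaFn_ptOfFn, hy]
    rfl
  refine ⟨⟨f, ⟨hf, hfi, hfp'⟩, fun g ⟨hg, hgi, hgp⟩ => huniq g ⟨hg, hgi, (hscale g hg hgi hgp).1,
    (hscale g hg hgi hgp).2⟩⟩, fun g hg hgi hgp X x y hy => ?_⟩
  rw [Category.assoc, (hscale g hg hgi hgp).2, hfm]
  refine congrArg (· ≫ pm') (GaPts.gaFn_injective ?_)
  simp only [GaPts.gaFn_ptOfFn]
  rw [← hy, ← GmPts.val_unitOfPt]
  linear_combination Red.gaFn y * (cu X).inv_mul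

end Groth.Agent.S8453
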