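import Groth.Statements.S8456
import Groth.Agent.Red23Lib.Rule.ClosedMain

set_option autoImplicit false
universe u
open CategoryTheory MonoidalCategory CartesianMonoidalCategory MonObj GrpObj AlgebraicGeometry CategoryTheory.Limits
open Red

namespace Groth.Agent.S8456

open Groth.Agent.GrpSchLib Groth.Agent.GrpSchLib.RankOne Groth.Agent.Red23Lib.Rule

/-- Let G be a reductive S-group, i : T ⟶ G a maximal torus, α a character of T non-trivial on every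
geometric fibre, and p₊, p₋ : 𝔾_a ⟶ G monomorphisms of groups normalised by T with multipliers α and
α⁻¹ such that 𝔾_a ×_S T ×_S 𝔾_a ⟶ G, (y, t, x) ↦ p₋(y) i(t) p₊(x), is an open immersion (a rank-one
system: G has semisimple rank 1 and p₊, p₋ trivialise the root groups of α and -α). Then the
subgroups U_α = im p₊, U_{-α} = im p₋, T·U_α and T·U_{-α} are closed in G: p₊ and p₋ are closed
immersions, and so are the morphisms T ×_S 𝔾_a ⟶ G, (t, x) ↦ i(t) p₊(x) and (t, y) ↦ i(t) p₋(y). -/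
theorem result (S : Scheme.{u}) (G T : Over S) [GrpObj G] [GrpObj T] (i : T ⟶ G) [IsMonHom i] [Mono i] (hG : Red.IsReductive G) (hTm : Red.IsMaximalTorus i)
    (α : T ⟶ Red.Gm S) [IsMonHom α] (hα : ∀ s : S, (Over.pullback (Red.geomPt s)).map α ≠ 1)
    (pp pm : Red.Ga S ⟶ G) [IsMonHom pp] [Mono pp] [IsMonHom pm] [Mono pm]
    (hpp : ∀ (X : Over S) (t : X ⟶ T) (x : X ⟶ Red.Ga S), ∃ x' : X ⟶ Red.Ga S,
      x' ≫ pp = (t ≫ i) * (x ≫ pp) * (t ≫ i)⁻¹ ∧ Red.gaFn x' = Red.gmFn (t ≫ α) * Red.gaFn x)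
    (hpm : ∀ (X : Over S) (t : X ⟶ T) (y : X ⟶ Red.Ga S), ∃ y' : X ⟶ Red.Ga S,
      y' ≫ pm = (t ≫ i) * (y ≫ pm) * (t ≫ i)⁻¹ ∧ Red.gaFn y' * Red.gmFn (t ≫ α) = Red.gaFn y)
    (hΩ : IsOpenImmersion (((pm ⊗ₘ i) ⊗ₘ pp) ≫ (μ[G] ▷ G) ≫ μ[G]).left) :
    IsClosedImmersion pp.left ∧ IsClosedImmersion pm.left ∧
      IsClosedImmersion ((i ⊗ₘ pp) ≫ μ[G]).left ∧ IsClosedImmersion ((i ⊗ₘ pm) ≫ μ[G]).left := by
  haveI : IsAffineHom G.hom := hG.1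
  let D : RSys G T :=
    { i := i, α := α, pp := pp, pm := pm, hT := hTm.2.2.1, hα := hα, hpp := hpp, hpm := hpm, hΩ := hΩ }
  haveI : Mono D.i := ‹Mono i›
  haveI : Mono D.pp := ‹Mono pp›
  haveI : Mono D.pm := ‹Mono pm›
  have hnc : D.NonComm := exists_not_commute (T := T) (i := i) (α := α) (pp := pp) (pm := pm) hG hΩ hpp
  obtain ⟨av, hav, h2, hr⟩ := D.exists_cochar hnc
  haveI := hav
  have hrule : D.Rule av := fun A _ b z x y hz => by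
    rw [hr A b z x y hz, ← Category.assoc]
    rfl
  haveI hP : IsClosedImmersion D.pp.left := D.isClosedImmersion_pp av hnc h2 hrule
  haveI hM : IsClosedImmersion D.pm.left := D.isClosedImmersion_pm av hnc h2 hrule
  haveI : Mono ((D.i ⊗ₘ D.pp) ≫ μ[G]) := ⟨fun {Z} u v huv => by
    have e : ∀ w : Z ⟶ T ⊗ Red.Ga S, w ≫ (D.i ⊗ₘ D.pp) ≫ μ[G] =
        ((1 : Z ⟶ Red.Ga S) ≫ pm) * ((w ≫ fst _ _) ≫ i) * ((w ≫ snd _ _) ≫ pp) := fun w => by
      rw [MonObj.one_comp, _root_.one_mul, ← Category.assoc]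
      conv_lhs => rw [← lift_comp_fst_snd w, lift_map]
      rfl
    rw [e u, e v] at huv
    obtain ⟨-, h1, h3⟩ := cell_ext hΩ huv
    exact hom_ext _ _ h1 h3⟩
  haveI : Mono ((D.i ⊗ₘ D.pm) ≫ μ[G]) := ⟨fun {Z} u v huv => by
    have e : ∀ w : Z ⟶ T ⊗ Red.Ga S, ∃ y : Z ⟶ Red.Ga S,
        y ≫ pm = ((w ≫ fst _ _) ≫ i) * ((w ≫ snd _ _) ≫ pm) * ((w ≫ fst _ _) ≫ i)⁻¹ ∧
        w ≫ (D.i ⊗ₘ D.pm) ≫ μ[G] = (y ≫ pm) * ((w ≫ fst _ _) ≫ i) * ((1 : Z ⟶ Red.Ga S) ≫ pp) := fun w => by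
      obtain ⟨y, hy, -⟩ := hpm Z (w ≫ fst _ _) (w ≫ snd _ _)
      refine ⟨y, hy, ?_⟩
      rw [hy, inv_mul_cancel_right, MonObj.one_comp, _root_.mul_one, ← Category.assoc]
      conv_lhs => rw [← lift_comp_fst_snd w, lift_map]
      rfl
    obtain ⟨y, hy, eu⟩ := e u
    obtain ⟨y', hy', ev⟩ := e v
    rw [eu, ev] at huv
    obtain ⟨h1, h3, -⟩ := cell_ext hΩ huv
    rw [h1, hy', h3] at hy
    have h4 : (v ≫ snd _ _) ≫ pm = (u ≫ snd _ _) ≫ pm := mul_left_cancel (mul_right_cancel hy)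
    exact hom_ext _ _ h3 ((cancel_mono pm).1 h4.symm)⟩
  refine ⟨hP, hM, D.isClosedImmersion_mul av D.pp (fun A _ b t => D.cv b t) (fun A _ b t x => D.conj_P b t x)
    (Or.inl fun A _ b w => D.cv_avPt av h2 b w), ?_⟩
  exact D.isClosedImmersion_mul av D.pm (fun A _ b t => (D.cv b t)⁻¹) (fun A _ b t x => D.conj_M b t x)
    (Or.inr fun A _ b w => by rw [D.cv_avPt av h2 b w])

end Groth.Agent.S8456
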