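import Groth.Statements.S8457
import Groth.Agent.Red23Lib.RankOneRelG

set_option autoImplicit false
universe u
open CategoryTheory MonoidalCategory CartesianMonoidalCategory MonObj GrpObj AlgebraicGeometry CategoryTheory.Limits
open Red

namespace Groth.Agent.S8457

open Groth.Agent.GrpSchLib Groth.Agent.GrpSchLib.RankOne Groth.Agent.Red23Lib

set_option maxHeartbeats 1000000

/-- Generators and relations for a group of semisimple rank 1: for H an S-group scheme. Let G be a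
reductive S-group, i : T ⟶ G a maximal torus, α a character of T non-trivial on every geometric
fibre, p₊, p₋ : 𝔾_a ⟶ G monomorphisms of groups normalised by T with multipliers α and α⁻¹ whose
cell map (y, t, x) ↦ p₋(y) i(t) p₊(x) is an open immersion 𝔾_a ×_S T ×_S 𝔾_a ⟶ G, and α^* : 𝔾_m ⟶ T
the coroot: α ∘ α^* is the squaring map and p₊(x) p₋(y) = p₋(y/(1+xy)) · i(α^*(1+xy)) · p₊(x/(1+xy))
whenever 1 + xy is invertible (so p₊ and p₋ are dual to each other). Let e₁, em be the S-points of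
𝔾_a with coordinates 1, -1 and m the S-point of 𝔾_m with coordinate -1; put u = p₊(e₁) and w =
p₊(e₁) p₋(em) p₊(e₁). Let H be an S-group scheme, f_T : T ⟶ H and f_α : 𝔾_a ⟶ H homomorphisms and h
an S-point of H. Then there is exactly one homomorphism f : G ⟶ H with f ∘ i = f_T, f ∘ p₊ = f_α and
f(w) = h if and only if: (1) f_T(t) f_α(x) f_T(t)⁻¹ = f_α(α(t) x) for all points t of T and x of
𝔾_a; (2) h f_T(t) h⁻¹ = f_T(t · α^*(α(t))⁻¹) for all points t of T; (3) h² = f_T(α^*(m)); (4) (h ·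
f_α(e₁))³ = e. (The published statement allows H to be any fppf sheaf of groups.) -/
theorem result (S : Scheme.{u}) (G T : Over S) [GrpObj G] [GrpObj T] (i : T ⟶ G) [IsMonHom i] [Mono i] (hG : Red.IsReductive G) (hTm : Red.IsMaximalTorus i)
    (α : T ⟶ Red.Gm S) [IsMonHom α] (hα : ∀ s : S, (Over.pullback (Red.geomPt s)).map α ≠ 1)
    (pp pm : Red.Ga S ⟶ G) [IsMonHom pp] [Mono pp] [IsMonHom pm] [Mono pm]
    (hpp : ∀ (X : Over S) (t : X ⟶ T) (x : X ⟶ Red.Ga S), ∃ x' : X ⟶ Red.Ga S,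
      x' ≫ pp = (t ≫ i) * (x ≫ pp) * (t ≫ i)⁻¹ ∧ Red.gaFn x' = Red.gmFn (t ≫ α) * Red.gaFn x)
    (hpm : ∀ (X : Over S) (t : X ⟶ T) (y : X ⟶ Red.Ga S), ∃ y' : X ⟶ Red.Ga S,
      y' ≫ pm = (t ≫ i) * (y ≫ pm) * (t ≫ i)⁻¹ ∧ Red.gaFn y' * Red.gmFn (t ≫ α) = Red.gaFn y)
    (hΩ : IsOpenImmersion (((pm ⊗ₘ i) ⊗ₘ pp) ≫ (μ[G] ▷ G) ≫ μ[G]).left)
    (av : Red.Gm S ⟶ T) [IsMonHom av] (h2 : av ≫ α = (𝟙 (Red.Gm S)) ^ 2)
    (hF : ∀ (X : Over S) (x y : X ⟶ Red.Ga S), IsUnit (1 + Red.gaFn x * Red.gaFn y) →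
      ∃ (x' y' : X ⟶ Red.Ga S) (z : X ⟶ Red.Gm S), Red.gmFn z = 1 + Red.gaFn x * Red.gaFn y ∧
        Red.gaFn x' * Red.gmFn z = Red.gaFn x ∧ Red.gaFn y' * Red.gmFn z = Red.gaFn y ∧
        (x ≫ pp) * (y ≫ pm) = (y' ≫ pm) * (z ≫ av ≫ i) * (x' ≫ pp))
    (e₁ em : 𝟙_ (Over S) ⟶ Red.Ga S) (he₁ : Red.gaFn e₁ = 1) (hem : Red.gaFn em = -1)
    (m : 𝟙_ (Over S) ⟶ Red.Gm S) (hm : Red.gmFn m = -1)
    (H : Over S) [GrpObj H] (fT : T ⟶ H) [IsMonHom fT] (fα : Red.Ga S ⟶ H) [IsMonHom fα] (h : 𝟙_ (Over S) ⟶ H) :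
    (∃! f : G ⟶ H, IsMonHom f ∧ i ≫ f = fT ∧ pp ≫ f = fα ∧ ((e₁ ≫ pp) * (em ≫ pm) * (e₁ ≫ pp)) ≫ f = h) ↔
      ((∀ (X : Over S) (t : X ⟶ T) (x x' : X ⟶ Red.Ga S), Red.gaFn x' = Red.gmFn (t ≫ α) * Red.gaFn x →
          (t ≫ fT) * (x ≫ fα) * (t ≫ fT)⁻¹ = x' ≫ fα) ∧
        (∀ (X : Over S) (t : X ⟶ T), (toUnit X ≫ h) * (t ≫ fT) * (toUnit X ≫ h)⁻¹ = (t * (t ≫ α ≫ av)⁻¹) ≫ fT) ∧
        h ^ 2 = m ≫ av ≫ fT ∧ (h * (e₁ ≫ fα)) ^ 3 = 1) := by
  have hW : ∀ X : Over S, toUnit X ≫ ((e₁ ≫ pp) * (em ≫ pm) * (e₁ ≫ pp)) =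
      (sys i α pp pm hpp hpm av h2 hF X).w 1 := Rel.weyl_eq hpp hpm h2 hF he₁ hem
  have hWc := Rel.weyl_conj hpp hpm h2 hF he₁ hem
  have hpt : ∀ (X : Over S), toUnit X ≫ e₁ = GaPts.ptOfFn 1 := fun X => by
    simpa using Rel.toUnit_e X e₁ 1 (by simpa using he₁)
  constructor
  · rintro ⟨f, ⟨hf, hfi, hfp, hfw⟩, -⟩
    haveI := hf
    let w₀ : 𝟙_ (Over S) ⟶ G := (e₁ ≫ pp) * (em ≫ pm) * (e₁ ≫ pp)
    have hh : ∀ X : Over S, toUnit X ≫ h = (sys i α pp pm hpp hpm av h2 hF X).w 1 ≫ f := fun X => by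
      rw [← hW, Category.assoc, hfw]
    refine ⟨fun X t x x' hx => ?_, fun X t => ?_, ?_, ?_⟩
    · obtain ⟨x'', h', hx''⟩ := hpp X t x
      obtain rfl : x'' = x' := GaPts.gaFn_injective (hx''.trans hx.symm)
      have h'' := congrArg (· ≫ f) h'
      simp only [MonObj.mul_comp, GrpObj.inv_comp, Category.assoc, hfi, hfp] at h''
      exact h''.symm
    · have h' := congrArg (· ≫ f) ((sys i α pp pm hpp hpm av h2 hF X).w_conj 1 t)
      simp only [MonObj.mul_comp, GrpObj.inv_comp, ← hh] at h'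
      simp only [sys, MonoidHom.coe_mk, OneHom.coe_mk, MonoidHom.mk'_apply, GmPts.ptOfUnit_unitOfPt, Category.assoc,
        hfi] at h'
      rw [h', ← torus_mul_comm hTm.2.2.1, MonObj.mul_comp, GrpObj.inv_comp]
      simp only [Category.assoc]
    · have h' := congrArg (· ≫ f) ((sys i α pp pm hpp hpm av h2 hF (𝟙_ (Over S))).w_sq 1)
      simp only [pow_two, MonObj.mul_comp, ← hh, toUnit_unit, Category.id_comp] at h'
      rw [pow_two, h', show m = GmPts.ptOfUnit (-1) by simpa using Rel.toUnit_m (𝟙_ (Over S)) m hm]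
      simp [sys, hfi]
    · have h' := congrArg (· ≫ f) (Rel.weyl_cube hpp hpm h2 hF he₁ hem (𝟙_ (Over S)))
      simp only [pow_succ, pow_zero, _root_.one_mul, MonObj.mul_comp, MonObj.one_comp, ← hh, toUnit_unit,
        Category.id_comp] at h' ⊢
      rw [show e₁ ≫ fα = (sys i α pp pm hpp hpm av h2 hF (𝟙_ (Over S))).p 1 ≫ f by
        show e₁ ≫ fα = (GaPts.ptOfFn 1 ≫ pp) ≫ f
        rw [Category.assoc, hfp, ← hpt, toUnit_unit, Category.id_comp]]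
      exact h'
  · rintro ⟨r1, r2, r3, r4⟩
    have hR : Rel.Relations α av fT fα h :=
      { h2 := h2, hT := hTm.2.2.1, rel1 := r1, rel2 := r2
        rel3 := fun X => by
          rw [pow_two, ← MonObj.comp_mul, ← pow_two, r3, ← Category.assoc, Rel.toUnit_m X m hm]
        rel4 := fun X => by
          rw [← hpt X, Category.assoc, ← MonObj.comp_mul]
          simp only [pow_succ, pow_zero, _root_.one_mul] at r4 ⊢
          rw [← MonObj.comp_mul, ← MonObj.comp_mul, r4, MonObj.comp_one] }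
    let fm : Red.Ga S ⟶ H := (toUnit (Red.Ga S) ≫ h) * fα⁻¹ * (toUnit (Red.Ga S) ≫ h)⁻¹
    have hfm : ∀ {X : Over S} (x : X ⟶ Red.Ga S), x ≫ fm = (Rel.pre hR X).m (Red.gaFn x) := fun {X} x => by
      simp only [fm, MonObj.comp_mul, GrpObj.comp_inv, ← Category.assoc, comp_toUnit]
      show _ = (toUnit X ≫ h) * (GaPts.ptOfFn (Red.gaFn x) ≫ fα)⁻¹ * (toUnit X ≫ h)⁻¹
      rw [← ga_eq_ptOfFn x]
    haveI : IsMonHom fm := isMonHom_of_comp fm fun X x x' => by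
      rw [hfm, hfm, hfm, GaPts.gaFn_mul, Rel.Pre.m_add]
    obtain ⟨f, ⟨hf, hfi, hfp, hfm'⟩, huniq⟩ := existsUnique_hom hG hTm.2.2.1 hpp hpm hΩ h2 hF fT fα fm
      (fun X t x => ⟨GaPts.ptOfFn (Red.gmFn (t ≫ α) * Red.gaFn x),
        (r1 X t x _ (GaPts.gaFn_ptOfFn _)).symm, GaPts.gaFn_ptOfFn _⟩)
      (fun X t y => ⟨GaPts.ptOfFn ((((GmPts.unitOfPt (t ≫ α))⁻¹ : _ˣ) : Γ(X.left, ⊤)) * Red.gaFn y), by
          rw [hfm, hfm, GaPts.gaFn_ptOfFn]
          exact ((Rel.pre hR X).conj_m t (Red.gaFn y)).symm, by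
          rw [GaPts.gaFn_ptOfFn, ← GmPts.val_unitOfPt]
          linear_combination Red.gaFn y * (GmPts.unitOfPt (t ≫ α)).inv_mul⟩)
      (fun X x y hu => ⟨GaPts.ptOfFn (((hu.unit⁻¹ : _ˣ) : Γ(X.left, ⊤)) * Red.gaFn x),
        GaPts.ptOfFn (((hu.unit⁻¹ : _ˣ) : Γ(X.left, ⊤)) * Red.gaFn y), GmPts.ptOfUnit hu.unit, by
          rw [GmPts.gmFn_ptOfUnit, IsUnit.unit_spec], by
          rw [GaPts.gaFn_ptOfFn, GmPts.gmFn_ptOfUnit]; linear_combination Red.gaFn x * hu.unit.inv_mul, by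
          rw [GaPts.gaFn_ptOfFn, GmPts.gmFn_ptOfUnit]; linear_combination Red.gaFn y * hu.unit.inv_mul, by
          have hr := Rel.rule hR X (Red.gaFn x) (Red.gaFn y) hu.unit hu.unit_spec
          rw [hfm, hfm, GaPts.gaFn_ptOfFn]
          conv_lhs => rw [ga_eq_ptOfFn x]
          rw [← Category.assoc (GmPts.ptOfUnit hu.unit)]
          exact hr⟩)
    haveI := hf
    have hw : ((e₁ ≫ pp) * (em ≫ pm) * (e₁ ≫ pp)) ≫ f = h := by
      have hneg : Red.gaFn em = -1 := hem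
      have he : e₁ = GaPts.ptOfFn 1 := by rw [← hpt (𝟙_ (Over S)), toUnit_unit, Category.id_comp]
      rw [MonObj.mul_comp, MonObj.mul_comp, Category.assoc, Category.assoc, hfp, hfm', hfm, hneg]
      show _ * ((toUnit (𝟙_ (Over S)) ≫ h) * ((Rel.pre hR (𝟙_ (Over S))).p (-1))⁻¹ * (toUnit (𝟙_ (Over S)) ≫ h)⁻¹) * _ = _
      rw [toUnit_unit, Category.id_comp, Rel.Pre.p_neg, _root_.inv_inv]
      show _ * (h * (GaPts.ptOfFn 1 ≫ fα) * h⁻¹) * _ = h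
      rw [← he]
      have h2' : h ^ 2 * h ^ 2 = 1 := by
        have := (Rel.pre hR (𝟙_ (Over S))).h_pow_four
        simpa [Rel.pre, toUnit_unit] using this
      have hc : h ^ 2 * (e₁ ≫ fα) = (e₁ ≫ fα) * h ^ 2 := by
        let Q := Rel.pre hR (𝟙_ (Over S))
        have hQh : Q.h = h := by
          show toUnit (𝟙_ (Over S)) ≫ h = h
          rw [toUnit_unit, Category.id_comp]
        have := Q.I_mul_p (Q.av (-1)) 1
        rw [Q.a_av, neg_one_sq, Units.val_one, _root_.mul_one, ← Q.h_sq, hQh,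
          show Q.p 1 = e₁ ≫ fα from by show GaPts.ptOfFn 1 ≫ fα = _; rw [← he]] at this
        exact this
      generalize e₁ ≫ fα = p at r4 hc ⊢
      calc p * (h * p * h⁻¹) * p = h⁻¹ * ((h * p) ^ 3) * (h * p)⁻¹ * h⁻¹ * p := by
            simp only [pow_succ, pow_zero, _root_.one_mul]; group
        _ = h⁻¹ * p⁻¹ * ((h ^ 2)⁻¹ * p) := by rw [r4]; group
        _ = (h ^ 3)⁻¹ := by
          rw [show (h ^ 2)⁻¹ * p = p * (h ^ 2)⁻¹ by
            rw [inv_mul_eq_iff_eq_mul, ← _root_.mul_assoc, hc, mul_inv_cancel_right]]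
          group
        _ = h := by
          rw [inv_eq_iff_mul_eq_one]
          calc h ^ 3 * h = h ^ 2 * h ^ 2 := by group
            _ = 1 := h2'
    refine ⟨f, ⟨hf, hfi, hfp, hw⟩, fun g ⟨hg, hgi, hgp, hgw⟩ => huniq g ⟨hg, hgi, hgp, ?_⟩⟩
    haveI := hg
    have h' := congrArg (· ≫ g) (hWc (Red.Ga S) (-Red.gaFn (𝟙 (Red.Ga S))))
    simp only [MonObj.mul_comp, GrpObj.inv_comp, ← hW, Category.assoc, hgw, neg_neg] at h'
    have hid : ∀ q : Red.Ga S ⟶ G, GaPts.ptOfFn (Red.gaFn (𝟙 (Red.Ga S))) ≫ q = q := fun q => by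
      rw [← ga_eq_ptOfFn, Category.id_comp]
    simp only [sys, Category.assoc] at h'
    rw [← Category.assoc _ pm g, hid, hgp] at h'
    rw [← h']
    simp only [fm]
    congr 2
    show (Rel.pre hR (Red.Ga S)).p (-Red.gaFn (𝟙 (Red.Ga S))) = _
    rw [Rel.Pre.p_neg]
    show (GaPts.ptOfFn (Red.gaFn (𝟙 (Red.Ga S))) ≫ fα)⁻¹ = fα⁻¹
    rw [← ga_eq_ptOfFn, Category.id_comp]

end Groth.Agent.S8457
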