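import Groth.Statements.S8472
import Groth.Agent.Red23Lib.Pinned.Ax
import Groth.Agent.Red23Lib.Pinned.Chevalley

set_option autoImplicit false
universe u
open CategoryTheory MonoidalCategory CartesianMonoidalCategory MonObj GrpObj AlgebraicGeometry CategoryTheory.Limits
open Red
open Groth.Agent.Red23Lib.Pinned Groth.Agent.GrpSchLib

namespace Groth.Agent.S8472

/-- Existence of a Chevalley system extending a pinning: at the level of root groups. Let G be a pinned
reductive S-group: a splitting D (maximal torus T ≅ D_S(M), root datum with root homomorphisms u_c :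
𝔾_a ⟶ G for all roots c, system of simple roots Δ) such that for every simple root a the root
homomorphisms of a and -a are dual to each other: u_a(x) u_{-a}(y) = u_{-a}(y/(1+xy)) · a^∨(1+xy) ·
u_a(x/(1+xy)) whenever 1 + xy is invertible, where a^∨ : 𝔾_m ⟶ T is the coroot of a read through the
splitting. For a root a put w_a = u_a(1) u_{-a}(-1) u_a(1) (an S-point of G). Then the pinning
extends to a Chevalley system: there is a family (v_c)_{c} of root homomorphisms v_c : 𝔾_a ⟶ G, one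
for each root c, normalised by T through the character of c, with v_a = u_a for every simple root a,
such that every v_c admits a dual root homomorphism v_c⁻ (v_c(x) v_c⁻(y) = v_c⁻(y/(1+xy)) c^∨(1+xy)
v_c(x/(1+xy)) for 1 + xy invertible) for which, writing n_c = v_c(1) v_c⁻(1)⁻¹ v_c(1), one has for
every root b a sign ε ∈ {1, -1} with n_c v_b(x) n_c⁻¹ = v_{s_c(b)}(ε x) for all points x of 𝔾_a. -/
theorem result (S : Scheme.{u}) (e₁ : 𝟙_ (Over S) ⟶ Red.Ga S) (he₁ : Red.gaFn e₁ = 1)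
    (G : Over S) [GrpObj G] (D : Red.Pinning G)
    (avc : D.idx → (Red.Gm S ⟶ D.T))
    (havc : ∀ a, avc a = Red.DSmap S (D.P.coroot a).toAddMonoidHom ≫ D.split.inv.hom.hom)
    (hpair : ∀ a ∈ D.base.support, ∀ (X : Over S) (x y : X ⟶ Red.Ga S), IsUnit (1 + Red.gaFn x * Red.gaFn y) →
        ∃ (x' y' : X ⟶ Red.Ga S) (z : X ⟶ Red.Gm S), Red.gmFn z = 1 + Red.gaFn x * Red.gaFn y ∧
          Red.gaFn x' * Red.gmFn z = Red.gaFn x ∧ Red.gaFn y' * Red.gmFn z = Red.gaFn y ∧
          (x ≫ D.u a) * (y ≫ D.u (D.P.reflectionPerm a a)) = (y' ≫ D.u (D.P.reflectionPerm a a)) * (z ≫ avc a ≫ D.i) * (x' ≫ D.u a)) :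
    ∃ v : D.idx → (Red.Ga S ⟶ G),
      (∀ c, Red.IsRootHom D.i (D.split.hom.hom.hom ≫ Red.chi S (D.P.root c)) (v c)) ∧
      (∀ a ∈ D.base.support, v a = D.u a) ∧
      ∀ c, ∃ vd : Red.Ga S ⟶ G, IsMonHom vd ∧
        (∀ (X : Over S) (x y : X ⟶ Red.Ga S), IsUnit (1 + Red.gaFn x * Red.gaFn y) →
        ∃ (x' y' : X ⟶ Red.Ga S) (z : X ⟶ Red.Gm S), Red.gmFn z = 1 + Red.gaFn x * Red.gaFn y ∧
          Red.gaFn x' * Red.gmFn z = Red.gaFn x ∧ Red.gaFn y' * Red.gmFn z = Red.gaFn y ∧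
          (x ≫ v c) * (y ≫ vd) = (y' ≫ vd) * (z ≫ avc c ≫ D.i) * (x' ≫ v c)) ∧
        ∀ b, ∃ ε : ℤ, (ε = 1 ∨ ε = -1) ∧ ∀ (X : Over S) (x y : X ⟶ Red.Ga S), Red.gaFn y = (ε : Γ(X.left, ⊤)) * Red.gaFn x →
          (toUnit X ≫ ((e₁ ≫ v c) * (e₁ ≫ vd)⁻¹ * (e₁ ≫ v c))) * (x ≫ v b) *
              (toUnit X ≫ ((e₁ ≫ v c) * (e₁ ≫ vd)⁻¹ * (e₁ ≫ v c)))⁻¹ = y ≫ v (D.P.reflectionPerm c b) := by
  have hd := duals_of D avc havc hpair
  have hax := cellAx D.toSplitRed D.base
  refine ⟨fun c => transport D (wordOf D c) (simpleOf D c), fun c => ?_, fun a ha => ?_, fun c => ?_⟩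
  · obtain ⟨hl, -, he, -⟩ := wordOf_spec D c
    have h := isRootHom_transport hd hl (simpleOf D c)
    rwa [he] at h
  · obtain ⟨-, -, -, h⟩ := wordOf_spec D a
    obtain ⟨h1, h2⟩ := h ha
    simp [h1, h2, transport, WW]
  obtain ⟨hl, ha, he, -⟩ := wordOf_spec D c
  set l := wordOf D c
  set a := simpleOf D c
  refine ⟨transport D l (neg D.toSplitRed a), isMonHom_transport _ _, fun X x y h => ?_, fun b => ?_⟩
  · obtain ⟨x', y', z, h1, h2, h3, h4⟩ := transport_duals hd hl ha X x y h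
    refine ⟨x', y', z, h1, h2, h3, ?_⟩
    rw [h4, he, havc]
    rfl
  have hn : (e₁ ≫ transport D l a) * (e₁ ≫ transport D l (neg D.toSplitRed a))⁻¹ * (e₁ ≫ transport D l a) =
      WW D.toSplitRed l (𝟙_ (Over S)) * W D.toSplitRed a (𝟙_ (Over S)) * (WW D.toSplitRed l (𝟙_ (Over S)))⁻¹ := by
    rw [comp_transport, comp_transport, he₁, W, weylElt, (isParam_up D.toSplitRed _ _).neg]
    group
  rw [hn]
  have hlift := ((IsLift.word (D := D) hl).mul hd (IsLift.word (D := D) (l := [a]) (by simpa using ha))).mul hd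
    ((IsLift.word (D := D) hl).inv hd hax)
  have hW : WW D.toSplitRed [a] (𝟙_ (Over S)) = W D.toSplitRed a (𝟙_ (Over S)) := by simp [WW]
  rw [hW] at hlift
  refine hlift.transport hd hax ?_
  have hw : Groth.Agent.RootData.word D.P [a] = RootPairing.Equiv.reflection D.P a := by
    simp [Groth.Agent.RootData.word]
  rw [Groth.Agent.RootData.word_append, Groth.Agent.RootData.word_append, word_reverse, hw,
    Groth.Agent.RootData.conj_refl, he, Groth.Agent.RootData.refl_smul_idx]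

end Groth.Agent.S8472
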