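import Groth.Statements.S8473
import Groth.Agent.S8197
import Groth.Agent.Red23Lib.RankOneHomExt
import Mathlib.AlgebraicGeometry.AlgClosed.Basic
import Mathlib.AlgebraicGeometry.Morphisms.Etale
import Mathlib.AlgebraicGeometry.Morphisms.FlatMono

set_option autoImplicit false
universe u
open CategoryTheory MonoidalCategory CartesianMonoidalCategory MonObj GrpObj AlgebraicGeometry CategoryTheory.Limits
open Red

namespace Groth.Agent.S8473

open Groth.Agent.GrpSchLib Groth.Agent.GrpSchLib.RankOne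

set_option linter.style.haveILetI false

set_option backward.isDefEq.respectTransparency.types false in
/-- Maps from a connected scheme into a separated unramified one agreeing at a point agree. -/
theorem eq_of_connected {S : Scheme.{u}} {X N : Over S} [ConnectedSpace ↥X.left] [FormallyUnramified N.hom]
    [LocallyOfFiniteType N.hom] [IsSeparated N.hom] (f g : X ⟶ N) {W : Over S} (p : W ⟶ X) [Nonempty ↥W.left]
    (h : p ≫ f = p ≫ g) : f = g := by
  let l : X.left ⟶ pullback N.hom N.hom := pullback.lift f.left g.left (by rw [Over.w, Over.w])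
  have hl1 : l ≫ pullback.fst N.hom N.hom = f.left := pullback.lift_fst _ _ _
  have hl2 : l ≫ pullback.snd N.hom N.hom = g.left := pullback.lift_snd _ _ _
  let e := pullback.fst l (pullback.diagonal N.hom)
  haveI : IsOpenImmersion e := MorphismProperty.pullback_fst (P := @IsOpenImmersion) _ _ inferInstance
  haveI : IsClosedImmersion e := MorphismProperty.pullback_fst (P := @IsClosedImmersion) _ _ inferInstance
  let q : W.left ⟶ pullback l (pullback.diagonal N.hom) := pullback.lift p.left (p.left ≫ f.left) (by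
    apply pullback.hom_ext
    · simp only [Category.assoc, hl1, pullback.diagonal_fst, Category.comp_id]
    · simp only [Category.assoc, hl2, pullback.diagonal_snd, Category.comp_id]
      exact (congrArg CommaMorphism.left h).symm)
  have hclop : IsClopen (Set.range e) := ⟨e.isClosedEmbedding.isClosed_range, e.isOpenEmbedding.isOpen_range⟩
  rcases isClopen_iff.1 hclop with h0 | h1
  · exact absurd h0 (Set.nonempty_iff_ne_empty.1 ⟨e (q (Classical.arbitrary _)), ⟨_, rfl⟩⟩)
  haveI : Surjective e := ⟨Set.range_eq_univ.1 h1⟩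
  haveI : IsIso e := (isIso_iff_isOpenImmersion_and_epi_base e).2
    ⟨inferInstance, (TopCat.epi_iff_surjective _).2 (Set.range_eq_univ.1 h1)⟩
  ext1
  rw [← cancel_epi e]
  have hl : e ≫ l = pullback.snd l (pullback.diagonal N.hom) ≫ pullback.diagonal N.hom := pullback.condition
  have h1' := congrArg (· ≫ pullback.fst N.hom N.hom) hl
  have h2' := congrArg (· ≫ pullback.snd N.hom N.hom) hl
  simp only [Category.assoc, hl1, hl2, pullback.diagonal_fst, pullback.diagonal_snd, Category.comp_id] at h1' h2'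
  exact h1'.trans h2'.symm


/-- Let k be an algebraically closed field, T a k-torus, α : T ⟶ 𝔾_m a non-trivial character and P the
semi-direct product T ⋉_α 𝔾_a, given as a k-group P with homomorphisms j_T : T ⟶ P and j_U : 𝔾_a ⟶ P
such that (t, x) ↦ j_T(t) j_U(x) is an isomorphism of schemes T × 𝔾_a ≅ P and j_T(t) j_U(x) j_T(t)⁻¹
= j_U(α(t) x). Let n : N ⟶ P be a normal subgroup scheme which is étale over k and such that N ∩ T
is trivial (a point of N whose image is in j_T(T) is the unit). Then N is the trivial group. -/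
theorem result (K : Type u) [Field K] [IsAlgClosed K]
    (T P N : Over (Spec (CommRingCat.of K))) [GrpObj T] [GrpObj P] [GrpObj N] (hT : Red.IsTorus T)
    (α : T ⟶ Red.Gm (Spec (CommRingCat.of K))) [IsMonHom α] (hα : α ≠ 1)
    (jT : T ⟶ P) [IsMonHom jT] (jU : Red.Ga (Spec (CommRingCat.of K)) ⟶ P) [IsMonHom jU] (hiso : IsIso ((jT ⊗ₘ jU) ≫ μ[P]))
    (hconj : ∀ (X : Over (Spec (CommRingCat.of K))) (t : X ⟶ T) (x x' : X ⟶ Red.Ga (Spec (CommRingCat.of K))), Red.gaFn x' = Red.gmFn (t ≫ α) * Red.gaFn x →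
      (t ≫ jT) * (x ≫ jU) * (t ≫ jT)⁻¹ = x' ≫ jU)
    (n : N ⟶ P) [IsMonHom n] [Mono n] (hn : AlgGrp.IsNormalHom n) (het : Etale N.hom)
    (hNT : ∀ (X : Over (Spec (CommRingCat.of K))) (t : X ⟶ T) (m : X ⟶ N), t ≫ jT = m ≫ n → m = 1) :
    Red.IsTrivialGrp N := by
  let B : Scheme.{u} := Spec (CommRingCat.of K)
  haveI : Nonempty ↥(𝟙_ (Over B)).left := inferInstanceAs (Nonempty (PrimeSpectrum K))
  haveI : Subsingleton ↥(𝟙_ (Over B)).left := inferInstanceAs (Subsingleton (PrimeSpectrum K))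
  haveI : ConnectedSpace ↥T.left := S8197.connectedSpace_torus hT
  haveI : IsAffineHom T.hom := Sga3xB.isAffineHom_of_isMultTypeFT (isMultTypeFT_of_isTorus hT)
  haveI := Red23Lib.isAffineHom_Ga B
  haveI : IsAffineHom (T ⊗ Red.Ga B).hom := Red23Lib.isAffineHom_tensor _ _
  haveI := hiso
  haveI : IsAffineHom P.hom := by
    rw [← Over.w (inv ((jT ⊗ₘ jU) ≫ μ[P]))]
    haveI : IsIso (inv ((jT ⊗ₘ jU) ≫ μ[P])).left :=
      inferInstanceAs (IsIso ((Over.forget _).map (inv ((jT ⊗ₘ jU) ≫ μ[P]))))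
    infer_instance
  haveI := het
  haveI : IsSeparated N.hom := by
    haveI : Mono n.left := inferInstanceAs (Mono ((Over.forget _).map n))
    haveI : IsSeparated (n.left ≫ P.hom) := inferInstance
    rw [← Over.w n]
    infer_instance
  -- rational points are trivial
  have hpt : ∀ z : 𝟙_ (Over B) ⟶ N, z = 1 := by
    intro z
    obtain ⟨c, hc⟩ := hn T jT (toUnit T ≫ z)
    have hconst : c = toUnit T ≫ z := eq_of_connected c (toUnit T ≫ z) (1 : 𝟙_ (Over B) ⟶ T) (by
      rw [← cancel_mono n, Category.assoc, ← hc, MonObj.comp_mul, MonObj.comp_mul, GrpObj.comp_inv,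
        MonObj.one_comp, inv_one, _root_.one_mul, _root_.mul_one]
      simp only [Category.assoc])
    rw [hconst] at hc
    let J := (jT ⊗ₘ jU) ≫ μ[P]
    obtain ⟨t, x, hz⟩ : ∃ (t : 𝟙_ (Over B) ⟶ T) (x : 𝟙_ (Over B) ⟶ Red.Ga B), z ≫ n = (t ≫ jT) * (x ≫ jU) := by
      refine ⟨(z ≫ n ≫ inv J) ≫ fst _ _, (z ≫ n ≫ inv J) ≫ snd _ _, ?_⟩
      rw [Hom.mul_def, ← lift_map, Category.assoc (lift _ _), lift_comp_fst_snd]
      simp [J]
    have hx' : toUnit T ≫ x = GaPts.ptOfFn (Red.gmFn α * Red.gaFn (toUnit T ≫ x)) := by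
      have h' : ((toUnit T ≫ t) ≫ jT) * ((toUnit T ≫ x) ≫ jU) = ((toUnit T ≫ t) ≫ jT) *
          ((GaPts.ptOfFn (Red.gmFn α * Red.gaFn (toUnit T ≫ x))) ≫ jU) := by
        conv_rhs => rw [← hconj T (𝟙 T) (toUnit T ≫ x) _ (by rw [GaPts.gaFn_ptOfFn, Category.id_comp])]
        have hz' : (toUnit T ≫ z) ≫ n = ((toUnit T ≫ t) ≫ jT) * ((toUnit T ≫ x) ≫ jU) := by
          rw [Category.assoc, hz, MonObj.comp_mul, Category.assoc, Category.assoc]
        rw [← hz', Category.id_comp]
        refine hc.symm.trans ?_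
        rw [hz', ← _root_.mul_assoc, ← _root_.mul_assoc, ← _root_.mul_assoc]
        refine congrArg (· * _) (congrArg (· * _) ?_)
        have hcm := congrArg (· ≫ jT) (torus_mul_comm hT T (𝟙 T) (toUnit T ≫ t))
        simpa only [MonObj.mul_comp, Category.id_comp] using hcm
      have hJ : lift (toUnit T ≫ t) (toUnit T ≫ x) ≫ J =
          lift (toUnit T ≫ t) (GaPts.ptOfFn (Red.gmFn α * Red.gaFn (toUnit T ≫ x))) ≫ J := by
        simp only [J, ← Category.assoc, lift_map, ← Hom.mul_def]
        exact h'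
      simpa using congrArg (fun m => m ≫ snd _ _) ((cancel_mono J).1 hJ)
    have hfn : Red.gaFn (toUnit T ≫ x) = Red.gmFn α * Red.gaFn (toUnit T ≫ x) := by
      conv_lhs => rw [hx', GaPts.gaFn_ptOfFn]
    have hx0 : x = 1 := by
      by_contra hne
      have hv : IsUnit (Red.gaFn x) := by
        have h0 : Red.gaFn x ≠ 0 := fun h => hne (GaPts.gaFn_injective (h.trans GaPts.gaFn_one.symm))
        let e : Γ((𝟙_ (Over B)).left, ⊤) ≃+* K := (Scheme.ΓSpecIso (CommRingCat.of K)).commRingCatIsoToRingEquiv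
        rw [← isUnit_map_iff e]
        exact isUnit_iff_ne_zero.2 fun h => h0 (e.injective (h.trans (map_zero e).symm))
      refine hα (GmPts.gmFn_injective ?_)
      show Red.gmFn α = Red.gmFn (1 : T ⟶ Red.Gm B)
      rw [GmPts.gmFn_one]
      refine (hv.map (toUnit T).left.appTop.hom).mul_right_cancel ?_
      rw [_root_.one_mul]
      exact (GaPts.gaFn_comp (toUnit T) x ▸ hfn).symm
    rw [hx0, MonObj.one_comp, _root_.mul_one] at hz
    exact hNT _ t z hz.symm
  -- hence the unit is everything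
  haveI : LocallyOfFiniteType N.hom := inferInstance
  haveI : JacobsonSpace ↥N.left := LocallyOfFiniteType.jacobsonSpace N.hom
  have hu : (1 : 𝟙_ (Over B) ⟶ N).left ≫ N.hom = 𝟙 _ := Over.w _
  haveI : IsClosedImmersion (1 : 𝟙_ (Over B) ⟶ N).left := isClosedImmersion_of_comp_eq_id _ _ hu
  haveI : IsOpenImmersion (1 : 𝟙_ (Over B) ⟶ N).left := by
    haveI : Etale ((1 : 𝟙_ (Over B) ⟶ N).left ≫ N.hom) := by rw [hu]; infer_instance
    haveI : Etale (1 : 𝟙_ (Over B) ⟶ N).left := Etale.of_comp _ N.hom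
    exact IsOpenImmersion.of_flat_of_mono _
  have hs : Function.Surjective (1 : 𝟙_ (Over B) ⟶ N).left := by
    rw [← Set.range_eq_univ]
    by_contra hne
    obtain ⟨x, hx, hxc⟩ := nonempty_inter_closedPoints (Set.nonempty_compl.2 hne)
      (1 : 𝟙_ (Over B) ⟶ N).left.isClosedEmbedding.isClosed_range.isOpen_compl.isLocallyClosed
    let z : 𝟙_ (Over B) ⟶ N := Over.homMk (pointOfClosedPoint N.hom x hxc) (pointOfClosedPoint_comp _ _ _)
    refine hx ⟨IsLocalRing.closedPoint K, ?_⟩
    rw [← hpt z]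
    exact pointOfClosedPoint_apply _ _ _ _
  haveI : IsIso (1 : 𝟙_ (Over B) ⟶ N).left :=
    (isIso_iff_isOpenImmersion_and_epi_base _).2 ⟨inferInstance, (TopCat.epi_iff_surjective _).2 hs⟩
  show IsIso N.hom
  rw [← IsIso.eq_inv_of_hom_inv_id hu |>.symm]
  infer_instance

end Groth.Agent.S8473
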