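import Groth.Statements.S8477
import Groth.Agent.Red23Lib.Pinned.Ax
import Groth.Agent.Red23Lib.Pinned.WeylLift

set_option autoImplicit false
universe u
open CategoryTheory MonoidalCategory CartesianMonoidalCategory MonObj GrpObj AlgebraicGeometry CategoryTheory.Limits
open Red
open Groth.Agent.Red23Lib.Pinned Groth.Agent.RootData RootD

namespace Groth.Agent.S8477

theorem word_smul {κ R M N : Type*} [CommRing R] [IsDomain R] [CharZero R] [AddCommGroup M] [Module R M] [AddCommGroup N] [Module R N]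
    [Finite κ] (P : RootPairing κ R M N) [P.IsCrystallographic] (l : List κ) (a : κ) :
    word P l • a = (l.map P.reflectionPerm).prod a := by
  induction l with
  | nil => simp [word]
  | cons c t ih => rw [word_cons, mul_smul, ih, refl_smul_idx, List.map_cons, List.prod_cons, Equiv.Perm.mul_apply]

/-- At the level of root groups: Let G be a pinned reductive S-group: a splitting D (maximal torus T ≅
D_S(M), root datum with root homomorphisms u_c : 𝔾_a ⟶ G for all roots c, system of simple roots Δ)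
such that for every simple root a the root homomorphisms of a and -a are dual to each other: u_a(x)
u_{-a}(y) = u_{-a}(y/(1+xy)) · a^∨(1+xy) · u_a(x/(1+xy)) whenever 1 + xy is invertible, where a^∨ :
𝔾_m ⟶ T is the coroot of a read through the splitting. For a root a put w_a = u_a(1) u_{-a}(-1)
u_a(1) (an S-point of G). Let l = (a₁, …, aₙ) be a list of simple roots and a, a₀ simple roots with
s_{a₁} ∘ ⋯ ∘ s_{aₙ} (a) = a₀ (as a permutation of the roots). Then there is a sign ε ∈ {1, -1} such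
that (w_{a₁} ⋯ w_{aₙ}) u_a(x) (w_{a₁} ⋯ w_{aₙ})⁻¹ = u_{a₀}(ε x) for all points x of 𝔾_a. -/
theorem result (S : Scheme.{u}) (e₁ : 𝟙_ (Over S) ⟶ Red.Ga S) (he₁ : Red.gaFn e₁ = 1)
    (G : Over S) [GrpObj G] (D : Red.Pinning G)
    (avc : D.idx → (Red.Gm S ⟶ D.T))
    (havc : ∀ a, avc a = Red.DSmap S (D.P.coroot a).toAddMonoidHom ≫ D.split.inv.hom.hom)
    (hpair : ∀ a ∈ D.base.support, ∀ (X : Over S) (x y : X ⟶ Red.Ga S), IsUnit (1 + Red.gaFn x * Red.gaFn y) →
        ∃ (x' y' : X ⟶ Red.Ga S) (z : X ⟶ Red.Gm S), Red.gmFn z = 1 + Red.gaFn x * Red.gaFn y ∧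
          Red.gaFn x' * Red.gmFn z = Red.gaFn x ∧ Red.gaFn y' * Red.gmFn z = Red.gaFn y ∧
          (x ≫ D.u a) * (y ≫ D.u (D.P.reflectionPerm a a)) = (y' ≫ D.u (D.P.reflectionPerm a a)) * (z ≫ avc a ≫ D.i) * (x' ≫ D.u a))
    (w : D.idx → (𝟙_ (Over S) ⟶ G))
    (hw : ∀ a, w a = (e₁ ≫ D.u a) * (e₁ ≫ D.u (D.P.reflectionPerm a a))⁻¹ * (e₁ ≫ D.u a))
    (l : List D.idx) (hl : ∀ c ∈ l, c ∈ D.base.support) (a a₀ : D.idx) (ha : a ∈ D.base.support) (ha₀ : a₀ ∈ D.base.support)
    (hw₀ : (l.map D.P.reflectionPerm).prod a = a₀) :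
    ∃ ε : ℤ, (ε = 1 ∨ ε = -1) ∧ ∀ (X : Over S) (x y : X ⟶ Red.Ga S), Red.gaFn y = (ε : Γ(X.left, ⊤)) * Red.gaFn x →
      (toUnit X ≫ (l.map w).prod) * (x ≫ D.u a) * (toUnit X ≫ (l.map w).prod)⁻¹ = y ≫ D.u a₀ := by
  have hd := duals_of D avc havc hpair
  have hax := cellAx D.toSplitRed D.base
  obtain ⟨ε, hε, h⟩ := signConj_word hd hax hl ha ha₀ ((word_smul D.P l a).trans hw₀)
  refine ⟨ε, hε, fun X x y hy => ?_⟩
  have e : toUnit X ≫ (l.map w).prod = toUnit X ≫ WW D.toSplitRed l (𝟙_ (Over S)) := by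
    rw [comp_WW]
    clear hl hw₀ h
    induction l with
    | nil => simp [WW, MonObj.comp_one]
    | cons c t ih =>
      rw [List.map_cons, List.prod_cons, MonObj.comp_mul, ih, toUnit_w D e₁ he₁ w hw]
      simp [WW]
  rw [e, up_eq D.toSplitRed a x, up_eq D.toSplitRed a₀ y, hy]
  exact h X (Red.gaFn x)

end Groth.Agent.S8477
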