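import Groth.Statements.S8504
import Groth.Agent.DynX.ParRoots.Main
-- import your own Groth.Agent.* helpers here

set_option autoImplicit false
open CategoryTheory MonoidalCategory CartesianMonoidalCategory MonObj GrpObj AlgebraicGeometry
universe u
open Par

namespace Groth.Agent.S8504

/-- (i) ⟹ (iii): Let S be a connected scheme, G a split reductive S-group with splitting D (maximal
torus T, roots indexed by D.idx, root homomorphisms u_a) and R' a set of roots. Suppose there is a
parabolic subgroup P of G containing T such that, for every root a, the root homomorphism u_a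
factors through P exactly when a ∈ R'. Then R' is a closed set of roots and every root lies in R' or
in −R'. (The published statement assumes S non-empty and phrases the hypothesis through the Lie
algebra of P; here S is taken connected and the hypothesis is phrased through the root subgroups
contained in P.) -/
theorem result {S : Scheme.{u}} [ConnectedSpace S]
    {G P : Over S} [GrpObj G] [GrpObj P] (D : Red.SplitRed G) (R' : Set D.idx) (p : P ⟶ G)
    (hP : Red.IsParabolic p) (tP : D.T ⟶ P) (htP : tP ≫ p = D.i)
    (hR' : ∀ a : D.idx, (∃ v : Red.Ga S ⟶ P, v ≫ p = D.u a) ↔ a ∈ R') :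
    (∀ a b c : D.idx, a ∈ R' → b ∈ R' → D.P.root a + D.P.root b = D.P.root c → c ∈ R') ∧
    (∀ a b : D.idx, D.P.root b = -D.P.root a → a ∈ R' ∨ b ∈ R') := by
  obtain ⟨R, f, hpar, hred, hR⟩ := Groth.Agent.DynX.ParRoots.exists_roots D p hP tP htP
  obtain rfl : R = R' := Set.ext fun a => (hR a).symm.trans (hR' a)
  haveI := hred
  refine ⟨fun a b c ha hb hc => hpar.closed ha hb hc, fun a b h => ?_⟩
  have hb : b = D.P.reflectionPerm a a :=
    D.P.root.injective (h.trans (Groth.Agent.RootData.root_neg D.P a).symm)
  rw [hb]
  exact hpar.mem_or_neg a

end Groth.Agent.S8504
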