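import Groth.Statements.S8513
import Mathlib

set_option autoImplicit false
open CategoryTheory MonoidalCategory CartesianMonoidalCategory MonObj GrpObj AlgebraicGeometry
universe u
open Par

namespace Groth.Agent.S8513

open CategoryTheory MonoidalCategory CartesianMonoidalCategory MonObj GrpObj AlgebraicGeometry

/-- Let G be a reductive S-group and P, Q two parabolic subgroups of G in transversal position (the
multiplication morphism P ×_S Q ⟶ G is smooth). Then P ∩ Q (a fibre product of P and Q over G) is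
smooth over S. -/
theorem result {S : Scheme.{u}} {G P Q I : Over S} [GrpObj G] [GrpObj P] [GrpObj Q]
    (hG : Red.IsReductive G) (p : P ⟶ G) (q : Q ⟶ G) (hP : Red.IsParabolic p) (hQ : Red.IsParabolic q)
    (htr : Smooth ((p ⊗ₘ q) ≫ μ[G]).left) (m : I ⟶ P) (m' : I ⟶ Q) (hI : IsPullback m m' p q) :
    Smooth I.hom := by
  haveI := hQ.1
  have hpb : IsPullback (lift m (m' ≫ ι[Q])) (toUnit I) ((p ⊗ₘ q) ≫ μ[G]) η[G] := by
    have hw : ∀ {X : Over S} (a : X ⟶ P) (b : X ⟶ Q),
        lift a b ≫ (p ⊗ₘ q) ≫ μ[G] = (a ≫ p) * (b ≫ q) := by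
      intro X a b
      rw [lift_map_assoc]
      rfl
    have h1 : ∀ {X : Over S}, toUnit X ≫ η[G] = (1 : X ⟶ G) := fun {X} => rfl
    refine IsPullback.of_isLimit' ⟨?_⟩ (Limits.PullbackCone.IsLimit.mk _ (fun c => hI.lift (c.fst ≫ fst P Q)
      (c.fst ≫ snd P Q)⁻¹ ?_) (fun c => ?_) (fun c => toUnit_unique _ _) (fun c f hf _ => ?_))
    · rw [hw, h1, hI.w, GrpObj.inv_eq_inv (G := Q), Category.assoc, GrpObj.inv_comp, Category.id_comp, GrpObj.comp_inv,
        mul_inv_cancel]
    · have := c.condition
      rw [show c.snd = toUnit _ from toUnit_unique _ _, h1, show c.fst = lift (c.fst ≫ fst P Q) (c.fst ≫ snd P Q) by simp, hw] at this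
      rw [GrpObj.inv_comp]
      exact eq_inv_of_mul_eq_one_left this
    · apply CartesianMonoidalCategory.hom_ext
      · rw [Category.assoc, lift_fst, hI.lift_fst]
      · rw [Category.assoc, lift_snd, hI.lift_snd_assoc, GrpObj.inv_eq_inv (G := Q), GrpObj.comp_inv,
          Category.comp_id, _root_.inv_inv]
    · apply hI.hom_ext
      · rw [hI.lift_fst, ← hf, Category.assoc, lift_fst]
      · rw [hI.lift_snd, ← hf, Category.assoc, lift_snd, GrpObj.inv_eq_inv (G := Q), GrpObj.comp_inv,
          GrpObj.comp_inv, Category.comp_id, _root_.inv_inv]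
  have h := hpb.map (Over.forget S)
  have : Smooth (toUnit I).left := MorphismProperty.of_isPullback (P := @Smooth) h htr
  simpa using this

end Groth.Agent.S8513
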