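import Groth.Statements.S8532
import Groth.Agent.EtDual68.FTrace
import Groth.Agent.EtDerLib.TruncLeray
import Groth.Agent.EtDerLib.Classes
import Groth.Agent.S0071
import Groth.Agent.S8525
import Groth.Agent.EtMVLib.HpullApply
-- import your own Groth.Agent.* helpers here

set_option autoImplicit false
universe u
open CategoryTheory CategoryTheory.Limits AlgebraicGeometry Opposite
open EtAcyc

namespace Groth.Agent.S8532

set_option linter.style.haveILetI false
set_option backward.isDefEq.respectTransparency.types false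

/-- Let f : X' → X be finite etale of constant degree d (every geometric fibre has exactly d points), L
a set of primes such that no prime in L divides d, F an abelian L-torsion sheaf on the small etale
site of X, and q a natural number. If H^q(X', f⁻¹F) = 0, then H^q(X, F) = 0. -/
theorem result {X X' : Scheme.{u}} (f : X' ⟶ X) [IsFinite f] [Etale f]
    (d : ℕ) (hd : ∀ (Ω : Type u) [Field Ω] [IsSepClosed Ω] (ξ : Spec (CommRingCat.of Ω) ⟶ X),
      Nat.card ↥(pullback f ξ) = d)
    (L : Set ℕ) (hL : ∀ p : ℕ, p.Prime → p ∈ L → ¬ p ∣ d) (F : EtCoh.Ab X) (hF : EtAcyc.IsLTorsion L F)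
    [PreservesFiniteLimits (EtCoh.pull f)] (q : ℕ)
    (h : Subsingleton (EtCoh.H X' ((EtCoh.pull f).obj F) q)) :
    Subsingleton (EtCoh.H X F q) := by
  have hrk : ∀ s : X, f.finrank s = d := fun s => by
    let Ω : Type u := AlgebraicClosure (X.residueField s)
    let η : Spec (CommRingCat.of Ω) ⟶ X :=
      Spec.map (CommRingCat.ofHom (algebraMap (X.residueField s) Ω)) ≫ X.fromSpecResidueField s
    have hη : η.base (default : Spec (CommRingCat.of Ω)) = s :=
      (Scheme.Hom.comp_apply _ _ _).trans (X.fromSpecResidueField_apply s _)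
    haveI := EtFound.finite_points f η
    letI := Fintype.ofFinite {ξ : Spec (CommRingCat.of Ω) ⟶ X' // ξ ≫ f = η}
    have h1 := EtDual68.FibreMult.sum_mult f (η := η)
    rw [hη] at h1
    rw [← h1, Finset.sum_congr rfl (fun z _ => EtDual68.FibreMult.mult_eq_one f z), Finset.sum_const, smul_eq_mul,
      mul_one, Finset.card_univ, ← Nat.card_eq_fintype_card, ← hd Ω η]
    exact Nat.card_congr (Equiv.ofBijective _
      ⟨EtDual68.FibreMult.pt_injective f, EtDual68.FibreMult.pt_surjective f⟩)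
  have hT := EtDual68.FTrace.unit_tr f d hrk F
  haveI hiso : IsIso (d • 𝟙 F : F ⟶ F) := by
    refine EtFound.isIso_of_stalks _ fun k _ _ ξ => ?_
    have hk := (S8525.result L F).1 hF k ξ
    have e : ∀ p : (EtCoh.stalk ξ).obj F, (EtCoh.stalk ξ).map (d • 𝟙 F) p = d • p := fun p => by
      haveI : (EtCoh.stalk ξ).Additive := Functor.additive_of_preserves_binary_products _
      rw [Functor.map_nsmul, CategoryTheory.Functor.map_id]
      rw [show (d • 𝟙 ((EtCoh.stalk ξ).obj F) : _ ⟶ _) p = (d • (𝟙 ((EtCoh.stalk ξ).obj F) : _ ⟶ _)).hom p from rfl,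
        AddCommGrpCat.hom_nsmul]
      rfl
    have hco : ∀ p : (EtCoh.stalk ξ).obj F, ∃ m : ℕ, m.Coprime d ∧ m • p = 0 := fun p => by
      obtain ⟨m, hm, h0⟩ := hk p
      refine ⟨m, Nat.coprime_of_dvd fun q hq hqm hqd => hL q hq (hm.2 q hq hqm) hqd, h0⟩
    have hb : Function.Bijective ((EtCoh.stalk ξ).map (d • 𝟙 F)) := by
      refine ⟨(injective_iff_map_eq_zero ((EtCoh.stalk ξ).map (d • 𝟙 F)).hom).2 fun p hp => ?_, fun p => ?_⟩
      · obtain ⟨m, hm, h0⟩ := hco p
        have hp' : d • p = 0 := (e p).symm.trans hp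
        have h1 : addOrderOf p ∣ Nat.gcd m d :=
          Nat.dvd_gcd (addOrderOf_dvd_of_nsmul_eq_zero h0) (addOrderOf_dvd_of_nsmul_eq_zero hp')
        rw [hm] at h1
        exact AddMonoid.addOrderOf_eq_one_iff.1 (Nat.dvd_one.1 h1)
      · obtain ⟨m, hm, h0⟩ := hco p
        obtain ⟨a, b, hab⟩ := Int.isCoprime_iff_nat_coprime.2 (show Nat.Coprime (Int.natAbs (m : ℤ)) (Int.natAbs (d : ℤ)) by simpa using hm)
        refine ⟨b • p, (e _).trans ?_⟩
        have : ((a * m + b * d : ℤ)) • p = p := by rw [hab, one_zsmul]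
        rw [add_zsmul, mul_zsmul, natCast_zsmul, h0, zsmul_zero, zero_add] at this
        rw [← natCast_zsmul, smul_smul, mul_comm]
        exact this
    exact hb
  haveI : (EtCoh.pull f).Additive := (EtCoh.pullPushAdj f).left_adjoint_additive
  haveI : (EtCoh.pull f).IsLeftAdjoint := (EtCoh.pullPushAdj f).isLeftAdjoint
  haveI : (EtCoh.push f).IsRightAdjoint := (EtCoh.pullPushAdj f).isRightAdjoint
  refine ⟨fun x y => ?_⟩
  suffices key : ∀ x : EtCoh.H X F q, x = 0 from (key x).trans (key y).symm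
  intro x
  have h0 : EtCore.Hpull f F q x = 0 := h.elim _ _
  have h1 : x.comp (Abelian.Ext.mk₀ ((EtCoh.pullPushAdj f).unit.app F)) (add_zero q) = 0 := by
    refine (BigSiteLib.HofBij.hof_bijective (EtCoh.pullPushAdj f) (EtCore.pullConst f ℤ).inv inferInstance q
      ((EtCoh.pull f).obj F) (fun i hi => S0071.result f _ i hi)).1 ?_
    exact ((EtDerLib.hof_unit (EtCoh.pullPushAdj f) (EtCore.pullConst f ℤ).inv F q x).trans h0).trans
      (EtDerLib.hof_zero _ _ _ _).symm
  have h2 : x.comp (Abelian.Ext.mk₀ (d • 𝟙 F : F ⟶ F)) (add_zero q) = 0 := by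
    rw [← hT, ← Abelian.Ext.mk₀_comp_mk₀, ← Abelian.Ext.comp_assoc_of_second_deg_zero, h1]
    exact Abelian.Ext.zero_comp _ _ _ _ _
  exact (EtDerLib.bijective_comp_mk₀ (asIso (d • 𝟙 F : F ⟶ F)) _ q).1
    (h2.trans (Abelian.Ext.zero_comp _ _ _ _ _).symm)

end Groth.Agent.S8532
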