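import Groth.Statements.S8534
import Groth.Agent.EtDerLib.GeomFibre
-- import your own Groth.Agent.* helpers here

set_option autoImplicit false
universe u
open CategoryTheory CategoryTheory.Limits AlgebraicGeometry Opposite
open EtAcyc

namespace Groth.Agent.S8534

/-- Let g : X → Y be quasi-compact and quasi-separated, L a set of primes containing at least one prime,
and n a natural number, and suppose g is n-acyclic for L. Then for every point y of Y and every
separably closed field Ω algebraic over κ(y), the geometric fibre X ×_Y Spec Ω is an n-acyclic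
scheme for L (nonempty, connected, with H^q(-, Z/ℓ) = 0 for ℓ ∈ L and 1 ≤ q ≤ n). (The published
statement allows L empty, for which every morphism is n-acyclic while geometric fibres may be empty;
this row assumes L contains a prime.) -/
theorem result {X Y : Scheme.{u}} (g : X ⟶ Y) [QuasiCompact g] [QuasiSeparated g]
    (L : Set ℕ) (hL : ∃ ℓ ∈ L, ℓ.Prime) (n : ℕ) (hg : EtAcyc.IsAcyclicN g L n) :
    EtAcyc.GeomFibresAcyclicN L n g := by
  intro y Ω _ _ _ _
  obtain ⟨U, hU, hy, -⟩ := exists_isAffineOpen_mem_and_subset (TopologicalSpace.Opens.mem_top y)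
  let ev : Γ(Y, U) ⟶ Y.residueField y := Y.presheaf.germ U y hy ≫ Y.residue y
  letI : Algebra Γ(Y, U) (Y.residueField y) := ev.hom.toAlgebra
  letI : Algebra Γ(Y, U) Ω := ((algebraMap (Y.residueField y) Ω).comp ev.hom).toAlgebra
  haveI : IsScalarTower Γ(Y, U) (Y.residueField y) Ω := IsScalarTower.of_algebraMap_eq fun _ => rfl
  have heq : EtAcyc.geomPt Y y Ω = Spec.map (CommRingCat.ofHom (algebraMap Γ(Y, U) Ω)) ≫ hU.fromSpec := by
    show Spec.map _ ≫ Spec.map (Y.residue y) ≫ Y.fromSpecStalk y = _
    rw [← hU.fromSpecStalk_eq_fromSpecStalk hy, IsAffineOpen.fromSpecStalk, ← Spec.map_comp_assoc,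
      ← Spec.map_comp_assoc]
    rfl
  -- every element of the residue field is a fraction
  have hfrac : ∀ c : Y.residueField y, ∃ a b : Γ(Y, U), ev a ≠ 0 ∧ c * ev a = ev b := by
    intro c
    obtain ⟨t, rfl⟩ := Y.residue_surjective y c
    letI := TopCat.Presheaf.algebra_section_stalk Y.presheaf (⟨y, hy⟩ : U)
    haveI := hU.isLocalization_stalk ⟨y, hy⟩
    obtain ⟨⟨b, a⟩, hab⟩ := IsLocalization.surj (hU.primeIdealOf ⟨y, hy⟩).asIdeal.primeCompl t
    have ha : IsUnit (Y.presheaf.germ U y hy a.1) := IsLocalization.map_units (Y.presheaf.stalk y) a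
    exact ⟨a.1, b, ((ha.map (Y.residue y).hom)).ne_zero,
      (map_mul (Y.residue y).hom _ _).symm.trans (congrArg (Y.residue y) hab)⟩
  have hgen : ∀ w : Ω, ∃ a : Γ(Y, U), algebraMap Γ(Y, U) Ω a ≠ 0 ∧
      IsIntegral Γ(Y, U) (algebraMap Γ(Y, U) Ω a * w) := by
    intro w
    classical
    have hw : IsIntegral (Y.residueField y) w := (Algebra.IsAlgebraic.isAlgebraic w).isIntegral
    let p := minpoly (Y.residueField y) w
    choose num den hnum hden using fun i => hfrac (p.coeff i)
    refine ⟨∏ i ∈ Finset.range (p.natDegree + 1), num i, ?_, ?_⟩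
    · rw [map_prod]
      exact Finset.prod_ne_zero_iff.2 fun i _ h0 =>
        hnum i ((algebraMap (Y.residueField y) Ω).injective (h0.trans (map_zero _).symm))
    set a := ∏ i ∈ Finset.range (p.natDegree + 1), num i with ha
    have hm : (p.scaleRoots (ev a)).Monic := (Polynomial.monic_scaleRoots_iff _).2 (minpoly.monic hw)
    have hl : p.scaleRoots (ev a) ∈ Polynomial.lifts ev.hom := by
      rw [Polynomial.lifts_iff_coeff_lifts]
      intro i
      rw [Polynomial.coeff_scaleRoots]
      rcases lt_trichotomy i p.natDegree with h | h | h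
      · obtain ⟨k, hk⟩ := Nat.exists_eq_add_of_lt h
        have hk' : p.natDegree - i = k + 1 := by omega
        refine ⟨den i * (∏ j ∈ (Finset.range (p.natDegree + 1)).erase i, num j) * a ^ k, ?_⟩
        have hai : ev (num i) * ev (∏ j ∈ (Finset.range (p.natDegree + 1)).erase i, num j) = ev a := by
          rw [← map_mul, Finset.mul_prod_erase _ num (Finset.mem_range.2 (Nat.lt_succ_of_lt h)), ← ha]
        rw [hk', pow_succ', map_mul, map_mul, map_pow, ← hden i, mul_assoc (p.coeff i)]
        exact (congrArg (fun z => p.coeff i * z * ev a ^ k) hai).trans (mul_assoc _ _ _)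
      · subst h
        rw [Nat.sub_self, pow_zero, mul_one, (minpoly.monic hw).coeff_natDegree]
        exact ⟨1, map_one _⟩
      · rw [Polynomial.coeff_eq_zero_of_natDegree_lt h, zero_mul]
        exact ⟨0, map_zero _⟩
    obtain ⟨P, hP, -, hPm⟩ := Polynomial.lifts_and_natDegree_eq_and_monic hl hm
    refine ⟨P, hPm, ?_⟩
    have h0 : Polynomial.aeval (algebraMap Γ(Y, U) Ω a * w) (p.scaleRoots (ev a)) = 0 :=
      Polynomial.scaleRoots_aeval_eq_zero (r := ev a) (minpoly.aeval _ w)
    rw [← hP] at h0
    rw [← Polynomial.aeval_def]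
    exact (Polynomial.aeval_map_algebraMap (Y.residueField y) _ P).symm.trans h0
  suffices h : ∀ j, EtAcyc.geomPt Y y Ω = j → EtAcyc.IsAcyclicSchemeN L n (pullback g j) from h _ rfl
  intro j hj
  obtain rfl := hj.symm.trans heq
  exact EtDerLib.GeomFibre.isAcyclicScheme_fibre g hU.fromSpec hL hg hgen

end Groth.Agent.S8534
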