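import Groth.Statements.S8536
import Groth.Agent.EtDerLib.Torsion

set_option autoImplicit false
universe u
open CategoryTheory CategoryTheory.Limits AlgebraicGeometry Opposite
open EtAcyc

namespace Groth.Agent.S8536

/-- Let h : Y → X be a morphism of quasi-compact quasi-separated schemes, L a set of primes and n a
natural number, and suppose that for every abelian L-torsion sheaf on X the pullback map on etale
cohomology along h is bijective in degrees ≤ n and injective in degree n + 1. Let u : F → G be a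
monomorphism of abelian L-torsion sheaves on X and ξ a class in H^{n+1}(Y, h⁻¹F) whose image in
H^{n+1}(Y, h⁻¹G) comes from H^{n+1}(X, G). Then ξ comes from H^{n+1}(X, F). -/
theorem result {X Y : Scheme.{u}} [CompactSpace X] [QuasiSeparatedSpace X]
    [CompactSpace Y] [QuasiSeparatedSpace Y] (h : Y ⟶ X) (L : Set ℕ) (n : ℕ) (hc : EtAcyc.CompN h L n)
    [PreservesFiniteLimits (EtCoh.pull h)] {F G : EtCoh.Ab X} (u : F ⟶ G) [Mono u]
    (hF : EtAcyc.IsLTorsion L F) (hG : EtAcyc.IsLTorsion L G)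
    (ξ : EtCoh.H Y ((EtCoh.pull h).obj F) (n + 1))
    (hξ : (EtCoh.HF Y (n + 1)).map ((EtCoh.pull h).map u) ξ ∈ Set.range (EtCore.Hpull h G (n + 1))) :
    ξ ∈ Set.range (EtCore.Hpull h F (n + 1)) := by
  have hS : (ShortComplex.mk u (cokernel.π u) (cokernel.condition u)).ShortExact :=
    { exact := ShortComplex.exact_of_g_is_cokernel _ (cokernelIsCokernel u) }
  have hQ := EtDerLib.isLTorsion_of_epi (cokernel.π u) hG
  have hS' := hS.map_of_exact (EtCoh.pull h)
  obtain ⟨η, hη⟩ := hξ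
  rw [EtDerLib.HF_map_apply] at hη
  have h0 : EtCore.Hpull h (cokernel u) (n + 1)
      (η.comp (Abelian.Ext.mk₀ (cokernel.π u)) (add_zero _)) = 0 := by
    rw [EtDerLib.Hpull_natural, hη, Abelian.Ext.comp_assoc_of_second_deg_zero, Abelian.Ext.mk₀_comp_mk₀,
      ← Functor.map_comp, cokernel.condition, Functor.map_zero, Abelian.Ext.mk₀_zero, Abelian.Ext.comp_zero]
  have h1 : η.comp (Abelian.Ext.mk₀ (cokernel.π u)) (add_zero _) = 0 :=
    (hc (cokernel u) hQ).2 (h0.trans (map_zero _).symm)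
  obtain ⟨ζ, hζ⟩ := Abelian.Ext.covariant_sequence_exact₂ _ hS η h1
  have h2 : (ξ - EtCore.Hpull h F (n + 1) ζ).comp (Abelian.Ext.mk₀ ((EtCoh.pull h).map u)) (add_zero _) = 0 := by
    rw [sub_eq_add_neg, Abelian.Ext.add_comp, Abelian.Ext.neg_comp, ← EtDerLib.Hpull_natural, ← hη,
      ← sub_eq_add_neg]
    exact sub_eq_zero.2 (congrArg _ hζ.symm)
  obtain ⟨y, hy⟩ := Abelian.Ext.covariant_sequence_exact₁ _ hS' _ h2 (n₀ := n) rfl
  obtain ⟨w, hw⟩ := ((hc (cokernel u) hQ).1 n le_rfl).2 y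
  refine ⟨ζ + w.comp hS.extClass rfl, ?_⟩
  refine (map_add _ _ _).trans ((congrArg (_ + ·) ((EtDerLib.Hpull_δ h hS rfl w).trans ?_)).trans
    (add_sub_cancel (EtCore.Hpull h F (n + 1) ζ) ξ))
  exact (congrArg (fun t => Abelian.Ext.comp t hS'.extClass rfl) hw).trans hy

end Groth.Agent.S8536
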