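import Groth.Statements.S8540
import Groth.Agent.EtPBC63.ConstrColim
import Groth.Agent.EtFound.NoethACC
import Mathlib.CategoryTheory.Subobject.NoetherianObject
-- import your own Groth.Agent.* helpers here

set_option autoImplicit false
universe u
open CategoryTheory CategoryTheory.Limits AlgebraicGeometry Opposite
open EtPBC

namespace Groth.Agent.S8540

/-- Let X be a Noetherian scheme and F a torsion abelian sheaf on the small etale site of X. Then F is
constructible if and only if F is a Noetherian object of the category of abelian etale sheaves on X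
(ascending chain condition on subsheaves). -/
theorem result (X : Scheme.{u}) [IsNoetherian X] (F : EtCoh.Ab X)
    (hF : EtCoh.IsTorsion F) :
    EtPBC.IsConstructible F ↔ IsNoetherianObject F := by
  refine ⟨fun h => (isNoetherianObject_iff_monotone_chain_condition F).2 fun c => ?_, fun h => ?_⟩
  · obtain ⟨N, hN⟩ := EtFound.subobject_chain_stabilises h c
    exact ⟨N, fun m hm => (hN m hm).symm⟩
  · obtain ⟨J, _, _, D, c, hc, ⟨e⟩, hD⟩ := EtPBC63.exists_colimit_constructible F hF
    let p : ∀ j, D.obj j ⟶ F := fun j => c.ι.app j ≫ e.hom
    let im : J → Subobject F := fun j => Limits.imageSubobject (p j)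
    haveI := h
    have hne : (Set.range im).Nonempty := ⟨_, ⟨IsFiltered.nonempty.some, rfl⟩⟩
    obtain ⟨-, ⟨j₀, rfl⟩, hmax⟩ := (wellFounded_gt : WellFounded ((· > ·) : Subobject F → Subobject F → Prop)).has_min _ hne
    have mono_im : ∀ {a b : J} (f : a ⟶ b), im a ≤ im b := fun {a b} f => by
      have he : p a = D.map f ≫ p b := by simp [p, c.w_assoc]
      change Limits.imageSubobject (p a) ≤ Limits.imageSubobject (p b)
      exact Limits.imageSubobject_le (p a) (D.map f ≫ Limits.factorThruImageSubobject (p b))
        (by rw [Category.assoc, Limits.imageSubobject_arrow_comp]; exact he.symm)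
    have le_j₀ : ∀ j, im j ≤ im j₀ := fun j => by
      have h1 : im j₀ ≤ im (IsFiltered.max j j₀) := mono_im (IsFiltered.rightToMax j j₀)
      rw [eq_of_le_of_not_lt h1 (hmax _ ⟨_, rfl⟩)]
      exact mono_im (IsFiltered.leftToMax j j₀)
    have hz : ∀ j, p j ≫ cokernel.π (p j₀) = 0 := fun j => by
      have h0 : (im j₀).arrow ≫ cokernel.π (p j₀) = 0 := by
        rw [← cancel_epi (Limits.factorThruImageSubobject (p j₀)), Limits.imageSubobject_arrow_comp_assoc,
          cokernel.condition, comp_zero]
      rw [← Limits.imageSubobject_arrow_comp (p j), Category.assoc, ← Subobject.ofLE_arrow (le_j₀ j), Category.assoc,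
        h0, comp_zero, comp_zero]
    have : Epi (p j₀) := by
      refine Preadditive.epi_of_cokernel_zero ?_
      rw [← cancel_epi e.hom, comp_zero]
      exact hc.hom_ext fun j => by rw [comp_zero, ← Category.assoc]; exact hz j
    exact EtFound.isConstructible_of_epi (hD j₀) (p j₀)

end Groth.Agent.S8540
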