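import Groth.Statements.S8567
import Groth.Agent.CTopNbd.Unit

set_option autoImplicit false
open CategoryTheory TopologicalSpace Opposite
universe u
open CohTop

namespace Groth.Agent.S8567

/-- Let X be a topological space, K ⊆ X a compact subset such that any two distinct points of K have
disjoint neighbourhoods in X, and F a flasque abelian sheaf on X. Then the inverse image F|K of F on
the subspace K is a soft sheaf: for every closed subset A of K, every section of (F|K)|A over A is
the restriction of a section of F|K over K (the restriction map is the unit of the inverse image /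
direct image adjunction for the inclusion A → K, taken on global sections). -/
theorem result {X : TopCat.{u}} {K : Set X} (hK : IsCompact K)
    (hsep : ∀ x ∈ K, ∀ y ∈ K, x ≠ y → ∃ U V : Set X, IsOpen U ∧ IsOpen V ∧ x ∈ U ∧ y ∈ V ∧ Disjoint U V)
    (F : CohTop.Ab X) [TopCat.Sheaf.IsFlasque F] {A : Set K} (hA : IsClosed A) :
    Function.Surjective
      ((((TopCat.Sheaf.pullbackPushforwardAdjunction AddCommGrpCat.{u}
        (TopCat.ofHom ⟨((↑) : A → K), continuous_subtype_val⟩ : TopCat.of A ⟶ TopCat.of K)).unit.app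
        ((CohTop.pull (TopCat.ofHom ⟨((↑) : K → X), continuous_subtype_val⟩ : TopCat.of K ⟶ X)).obj F)).hom.app
        (op ⊤)).hom) := by
  let ι : TopCat.of K ⟶ X := TopCat.ofHom ⟨((↑) : K → X), continuous_subtype_val⟩
  let j : TopCat.of A ⟶ TopCat.of K := TopCat.ofHom ⟨((↑) : A → K), continuous_subtype_val⟩
  haveI : CompactSpace K := isCompact_iff_compactSpace.mp hK
  haveI : CompactSpace A := isCompact_iff_compactSpace.mp hA.isCompact
  have hi : Topology.IsEmbedding (j ≫ ι) := Topology.IsEmbedding.subtypeVal.comp Topology.IsEmbedding.subtypeVal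
  have hc := Groth.Agent.CTopNbd.ctx_compact (X := X) (i := (j ≫ ι : TopCat.of A ⟶ X)) hi.isInducing
    fun a b hab => Groth.Agent.CTopNbd.disjoint_nhds_of_sep
      (hsep _ a.1.2 _ b.1.2 fun e => hab (hi.injective e))
  let adjι : CohTop.pull ι ⊣ CohTop.push ι := TopCat.Sheaf.pullbackPushforwardAdjunction AddCommGrpCat.{u} ι
  let adjj : CohTop.pull j ⊣ CohTop.push j := TopCat.Sheaf.pullbackPushforwardAdjunction AddCommGrpCat.{u} j
  let adj : CohTop.pull ι ⋙ CohTop.pull j ⊣ CohTop.push (j ≫ ι) := adjι.comp adjj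
  intro t
  obtain ⟨U, hU, hAU, f, hf⟩ := Groth.Agent.CTopNbd.lift_near hc (adj.unit.app F)
    (Groth.Agent.CTopNbd.locSurj_unit hi.isInducing adj F)
    ((Groth.Agent.CTopNbd.locInj_unit hi.isInducing adj F).kerExt _) isClosed_univ (U₀ := ⊤)
    (fun a _ => trivial) t
  have hA' : ∀ a, (j ≫ ι) a ∈ U := fun a => hAU (Set.mem_univ a)
  obtain ⟨g, hg⟩ := (AddCommGrpCat.epi_iff_surjective _).1
    ((inferInstance : TopCat.Sheaf.IsFlasque F).epi (homOfLE hU).op) f
  refine ⟨(adjι.unit.app F).hom.app (op ⊤) g, ?_⟩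
  refine Groth.Agent.CTopNbd.rs_push_injective (i := j ≫ ι) _ hU hA' ?_
  refine Eq.trans ?_ hf
  exact (Groth.Agent.CTopNbd.sa_rs (adj.unit.app F) hU g).symm.trans (congrArg _ hg)

end Groth.Agent.S8567
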