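import Groth.Statements.S8618
import Groth.Agent.SGA4hPLin.Basic
-- import your own Groth.Agent.* helpers here

set_option autoImplicit false
universe u
open SGA4h

namespace Groth.Agent.S8618

open TensorProduct in
/-- Let k be a finite field with q = p^f elements, F₀ ⊂ k its prime field, K an algebraically closed
extension of k, V a finite-dimensional k-vector space and φ a p-linear endomorphism of V (φ(λx) =
λ^p φ(x)); let F = φ^f, a k-linear endomorphism, F_K its K-linear extension to K ⊗_k V and φ_K the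
p-linear extension of φ (φ_K(μ ⊗ v) = μ^p ⊗ φ(v)). Then F_K preserves the F₀-subspace W = Ker(φ_K -
1) of K ⊗_k V, W is finite-dimensional over F₀, and the trace of F_K on W (an element of F₀) equals
the trace of F on V. -/
theorem result {p : ℕ} [Fact p.Prime] (k : Type u) [Field k] [Fintype k]
    [CharP k p] (f : ℕ) (hq : Fintype.card k = p ^ f) (K : Type u) [Field K] [Algebra k K] [IsAlgClosed K]
    (V : Type u) [AddCommGroup V] [Module k V] [FiniteDimensional k V]
    (φ : V →ₛₗ[frobenius k p] V) (F : V →ₗ[k] V) (hF : ∀ x, F x = (⇑φ)^[f] x)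
    (φK : K ⊗[k] V →+ K ⊗[k] V) (hφK : ∀ (μ : K) (v : V), φK (μ ⊗ₜ[k] v) = (μ ^ p) ⊗ₜ[k] φ v)
    (W : Submodule (↥(⊥ : Subfield k)) (K ⊗[k] V)) (hW : ∀ y, y ∈ W ↔ φK y = y) :
    (∀ y, φK y = y → φK (F.baseChange K y) = F.baseChange K y) ∧
    Module.Finite (↥(⊥ : Subfield k)) ↥W ∧
    ∀ (G : ↥W →ₗ[↥(⊥ : Subfield k)] ↥W), (∀ y : ↥W, (↑(G y) : K ⊗[k] V) = F.baseChange K ↑y) →
      algebraMap k K (algebraMap (↥(⊥ : Subfield k)) k (LinearMap.trace (↥(⊥ : Subfield k)) ↥W G)) =
        algebraMap k K (LinearMap.trace k V F) := by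
  classical
  haveI : CharP K p := charP_of_injective_algebraMap (algebraMap k K).injective p
  have hψ : ∀ (c : K) (v : K ⊗[k] V), φK (c • v) = c ^ p • φK v := by
    intro c v
    induction v using TensorProduct.induction_on with
    | zero => simp
    | tmul μ v => rw [smul_tmul', hφK, hφK, smul_tmul', smul_eq_mul, smul_eq_mul, mul_pow]
    | add x y hx hy => simp [hx, hy]
  have hcomm : ∀ y, φK (F.baseChange K y) = F.baseChange K (φK y) := by
    intro y
    induction y using TensorProduct.induction_on with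
    | zero => simp
    | tmul μ v =>
      rw [LinearMap.baseChange_tmul, hφK, hφK, LinearMap.baseChange_tmul, hF, hF,
        ← Function.iterate_succ_apply, Function.iterate_succ_apply']
    | add x y hx hy => simp [hx, hy]
  have hinv : ∀ y, φK y = y → φK (F.baseChange K y) = F.baseChange K y := fun y hy => by
    rw [hcomm, hy]
  -- the span of the fixed vectors and a basis of it by fixed vectors
  obtain ⟨b, hb, hspan, hli⟩ := exists_linearIndependent K {y : K ⊗[k] V | φK y = y}
  haveI : Finite b := hli.finite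
  haveI := Fintype.ofFinite b
  let F₀ : Subfield k := ⊥
  have hfixed : ∀ c : K, c ^ p = c → ∃ r : F₀, algebraMap k K r = c := by
    intro c hc
    have h1 : c ∈ ((⊥ : Subfield k).map (algebraMap k K)) := by
      rw [Subfield.map_bot]
      exact (Subfield.mem_bot_iff_pow_eq_self _ p).2 hc
    obtain ⟨r, hr, hr'⟩ := Subfield.mem_map.1 h1
    exact ⟨⟨r, hr⟩, hr'⟩
  have hF₀ : ∀ r : F₀, (algebraMap k K r) ^ p = algebraMap k K r := fun r => by
    rw [← map_pow, (Subfield.mem_bot_iff_pow_eq_self _ p).1 r.2]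
  have hsmul : ∀ (r : F₀) (y : K ⊗[k] V), r • y = algebraMap k K r • y := fun r y => by
    rw [algebraMap_smul]; rfl
  have hbW : ∀ i : b, (i : K ⊗[k] V) ∈ W := fun i => (hW _).2 (hb i.2)
  let w : b → W := fun i => ⟨i, hbW i⟩
  have hU : ∀ y, φK y = y → y ∈ Submodule.span K (Set.range ((↑) : b → K ⊗[k] V)) := fun y hy => by
    rw [Subtype.range_coe, hspan]; exact Submodule.subset_span hy
  have hwli : LinearIndependent F₀ w := by
    refine (Fintype.linearIndependent_iff (R := F₀) (v := w)).2 ?_
    intro c hc i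
    have h1 : ∑ j, algebraMap k K (c j) • (j : K ⊗[k] V) = 0 := by
      have h2 := congrArg Subtype.val hc
      simpa [w, ← hsmul] using h2
    have h3 := Fintype.linearIndependent_iff.1 hli _ h1 i
    rw [map_eq_zero] at h3
    exact Subtype.ext h3
  have hwsp : ⊤ ≤ Submodule.span F₀ (Set.range w) := by
    rintro ⟨y, hy⟩ -
    obtain ⟨c, hc⟩ := (Submodule.mem_span_range_iff_exists_fun K).1 (hU y ((hW y).1 hy))
    have h1 : ∑ i : b, c i ^ p • (i : K ⊗[k] V) = ∑ i : b, c i • (i : K ⊗[k] V) := by
      rw [hc]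
      conv_rhs => rw [← (hW y).1 hy]
      rw [← hc, map_sum]
      exact Finset.sum_congr rfl fun i _ => by rw [hψ, show φK (i : K ⊗[k] V) = i from hb i.2]
    rw [← sub_eq_zero, ← Finset.sum_sub_distrib] at h1
    rw [Finset.sum_congr rfl fun i _ => (sub_smul (c i ^ p) (c i) (i : K ⊗[k] V)).symm] at h1
    choose r hr using fun i => hfixed (c i) (sub_eq_zero.1 (Fintype.linearIndependent_iff.1 hli _ h1 i))
    refine (Submodule.mem_span_range_iff_exists_fun F₀).2 ⟨r, Subtype.ext ?_⟩
    simp only [w, AddSubmonoidClass.coe_finsetSum, Submodule.coe_smul, hsmul, hr, hc]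
  let B := Module.Basis.mk hwli hwsp
  refine ⟨hinv, Module.Finite.of_basis B, fun G hG => ?_⟩
  -- the span of the fixed vectors
  let U' : Submodule K (K ⊗[k] V) := Submodule.span K (Set.range ((↑) : b → K ⊗[k] V))
  let B' : Module.Basis b K U' := Module.Basis.span hli
  have hUψ : ∀ y ∈ U', φK y ∈ U' := by
    intro y hy
    induction hy using Submodule.span_induction with
    | mem z hz =>
      obtain ⟨i, rfl⟩ := hz
      rw [show φK (i : K ⊗[k] V) = i from hb i.2]
      exact Submodule.subset_span ⟨i, rfl⟩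
    | zero => simp
    | add z z' _ _ h h' => rw [map_add]; exact U'.add_mem h h'
    | smul c z _ h => rw [hψ]; exact U'.smul_mem _ h
  have hFU : ∀ y ∈ U', F.baseChange K y ∈ U' := by
    intro y hy
    induction hy using Submodule.span_induction with
    | mem z hz =>
      obtain ⟨i, rfl⟩ := hz
      exact hU _ (hinv _ (hb i.2))
    | zero => simp
    | add z z' _ _ h h' => rw [map_add]; exact U'.add_mem h h'
    | smul c z _ h => rw [map_smul]; exact U'.smul_mem _ h
  -- the quotient has no nonzero fixed vector, hence is nilpotent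
  let ψs : K ⊗[k] V →ₛₗ[frobenius K p] K ⊗[k] V :=
    { φK with map_smul' := fun c v => hψ c v }
  let ψq := U'.mapQ U' ψs hUψ
  obtain ⟨r, hr⟩ : ∃ r, ∀ v, ψq.toAddMonoidHom^[r] v = 0 := by
    by_contra! h
    obtain ⟨v, hv0, hv⟩ := SGA4hPLin.exists_fixed_ne_zero p ψq.toAddMonoidHom
      (fun c v => ψq.map_smulₛₗ c v) h
    obtain ⟨x, rfl⟩ := Submodule.Quotient.mk_surjective U' v
    have hx : φK x - x ∈ U' := (Submodule.Quotient.eq U').1 hv
    let χ : U' →+ U' := AddMonoidHom.mk' (fun y => ⟨φK y, hUψ y y.2⟩) fun a b => Subtype.ext (map_add φK _ _)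
    obtain ⟨y, hy⟩ := LangLib.exists_sub_eq p χ (fun c y => Subtype.ext (hψ c y)) ⟨_, hx⟩
    have hy' : φK y - y = φK x - x := congrArg Subtype.val hy
    apply hv0
    rw [Submodule.Quotient.mk_eq_zero]
    have h1 : x - y ∈ U' := hU _ (by
      rw [map_sub, sub_eq_sub_iff_sub_eq_sub, hy'])
    simpa using U'.add_mem h1 y.2
  have hrU : ∀ x, φK^[r] x ∈ U' := by
    intro x
    rw [← Submodule.Quotient.mk_eq_zero]
    have h1 := Function.Semiconj.iterate_right (f := (Submodule.Quotient.mk : K ⊗[k] V → _ ⧸ U'))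
      (ga := φK) (gb := ψq.toAddMonoidHom) (fun z => rfl) r x
    exact h1.trans (hr _)
  have hrU' : ∀ j x, φK^[r + j] x ∈ U' := fun j x => by
    rw [Function.iterate_add_apply]; exact hrU _
  -- iterates
  have hit : ∀ (j : ℕ) (v : V), φK^[j] ((1 : K) ⊗ₜ[k] v) = (1 : K) ⊗ₜ[k] (⇑φ)^[j] v := by
    intro j
    induction j with
    | zero => simp
    | succ j ih =>
      intro v
      rw [Function.iterate_succ_apply', ih, hφK, one_pow, Function.iterate_succ_apply']
  have hFm : ∀ (m : ℕ) (v : V), ((F.baseChange K) ^ m) ((1 : K) ⊗ₜ[k] v) = (1 : K) ⊗ₜ[k] (⇑φ)^[f * m] v := by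
    intro m
    induction m with
    | zero => simp
    | succ m ih =>
      intro v
      rw [pow_succ', Module.End.mul_apply, ih, LinearMap.baseChange_tmul, hF,
        ← Function.iterate_add_apply, Nat.mul_succ, add_comm]
  have hf1 : 1 ≤ f := by
    rcases Nat.eq_zero_or_pos f with h | h
    · rw [h, pow_zero] at hq
      exact absurd hq (Fintype.one_lt_card).ne'
    · exact h
  have hm : ∀ x, ((F.baseChange K) ^ r) x ∈ U' := by
    intro x
    induction x using TensorProduct.induction_on with
    | zero => simp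
    | tmul μ v =>
      have hμ : μ ⊗ₜ[k] v = μ • ((1 : K) ⊗ₜ[k] v) := by rw [smul_tmul', smul_eq_mul, mul_one]
      rw [hμ, map_smul]
      refine U'.smul_mem _ ?_
      rw [hFm, ← hit]
      obtain ⟨j, hj⟩ := Nat.le.dest (Nat.le_mul_of_pos_left r hf1)
      rw [← hj]
      exact hrU' j _
    | add x y hx hy => rw [map_add]; exact U'.add_mem hx hy
  rw [← LinearMap.trace_baseChange, SGA4hPLin.trace_eq_trace_restrict (F.baseChange K) U' hFU r hm,
    LinearMap.trace_eq_matrix_trace K B', LinearMap.trace_eq_matrix_trace F₀ B]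
  simp only [Matrix.trace, Matrix.diag_apply, map_sum, LinearMap.toMatrix_apply]
  refine Finset.sum_congr rfl fun i _ => ?_
  have key : (F.baseChange K).restrict hFU (B' i) =
      ∑ j, algebraMap k K (B.repr (G (B i)) j) • B' j := by
    apply Subtype.ext
    have h1 := congrArg Subtype.val (B.sum_repr (G (B i)))
    simp only [AddSubmonoidClass.coe_finsetSum, Submodule.coe_smul, hsmul, hG, B, Module.Basis.mk_apply, w] at h1
    have hB' : ∀ i, (B' i : K ⊗[k] V) = i := fun i => Module.Basis.coe_span_apply hli i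
    simp only [LinearMap.coe_restrict_apply, AddSubmonoidClass.coe_finsetSum, Submodule.coe_smul,
      hB', B, Module.Basis.mk_apply, w]
    exact h1.symm
  rw [key, B'.repr_sum_self]
  rfl

end Groth.Agent.S8618
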