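import Groth.Statements.S8619
import Groth.Agent.SGA4hExtZ.Cover
import Groth.Agent.SGA4hExtZ.LeftRes
-- import your own Groth.Agent.* helpers here

set_option autoImplicit false
universe u
open CategoryTheory CategoryTheory.Limits AlgebraicGeometry
open SGA4h

namespace Groth.Agent.S8619

/-- Let X be a Noetherian scheme, Λ a commutative Noetherian ring and K a cochain complex of etale
sheaves of Λ-modules on X whose cohomology sheaves are constructible and vanish in large degrees.
Then there are a cochain complex K', zero in large degrees, whose components are constructible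
sheaves of Λ-modules with flat geometric stalks, and a quasi-isomorphism K' → K. (The published
statement allows a left-Noetherian, possibly non-commutative Λ.) -/
theorem result {Λ : Type (u + 1)} [CommRing Λ]
    [IsNoetherianRing Λ] {X : Scheme.{u}} [IsNoetherian X]
    (K : CochainComplex (EtModW.Mod Λ X) ℤ)
    (hK : ∀ i : ℤ, EtModW.IsConstructible Λ (K.homology i))
    (hb : ∃ m : ℤ, ∀ i : ℤ, m ≤ i → IsZero (K.homology i)) :
    ∃ (K' : CochainComplex (EtModW.Mod Λ X) ℤ) (φ : K' ⟶ K), QuasiIso φ ∧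
      (∃ m : ℤ, ∀ i : ℤ, m ≤ i → IsZero (K'.X i)) ∧
      (∀ i : ℤ, EtModW.IsConstructible Λ (K'.X i)) ∧
      ∀ (i : ℤ) (Ω : Type u) [Field Ω] [IsSepClosed Ω] (ξ : Spec (CommRingCat.of Ω) ⟶ X),
        Module.Flat Λ ((EtModW.stalk Λ ξ).obj (K'.X i)) := by
  let D : SGA4hExtZ.LeftRes.Data (EtModW.Mod Λ X) :=
    { P := SGA4hExtZ.IsFlatConstructible
      C := EtModW.IsConstructible Λ
      le := fun h => h.1
      zero := SGA4hExtZ.isFlatConstructible_of_isZero
      sum := SGA4hExtZ.isFlatConstructible_biprod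
      iso := fun e h => ⟨SGA4hExtZ.isConstructible_of_iso e h.1, fun Ω _ _ ξ =>
        haveI := h.2 Ω ξ
        Module.Flat.of_linearEquiv ((EtModW.stalk Λ ξ).mapIso e).toLinearEquiv.symm⟩
      isoC := fun e h => SGA4hExtZ.isConstructible_of_iso e h
      ker := fun f h h' => EtModLC71.isConstructible_kernel f h h'
      cover := fun v hv hB => @SGA4hExtZ.exists_cover _ _ _ _ _ _ _ v hv hB }
  obtain ⟨m, hm⟩ := hb
  obtain ⟨Q, φ, hφ, hz, hP⟩ := SGA4hExtZ.LeftRes.exists_quasiIso (D := D) hK m hm
  exact ⟨Q, φ, hφ, ⟨m + 2, fun i hi => hz i (by omega)⟩, fun i => (hP i).1, fun i Ω _ _ ξ => (hP i).2 Ω ξ⟩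

end Groth.Agent.S8619
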