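import Groth.Statements.S8673
import Groth.Agent.KRRLib.Ample
-- import your own Groth.Agent.* helpers here

set_option autoImplicit false
universe v u
open CategoryTheory CategoryTheory.Limits AlgebraicGeometry
attribute [local instance] HasDerivedCategory.standard
open scoped TensorProduct
open KRR

namespace Groth.Agent.S8673

/-- Let X be a connected quasi-compact scheme with an ample invertible O_X-module, (K, P, φ) a model of
the λ-ring K(X) of finite locally free modules (augmentation ε = rank), and A a commutative ring.
Then y ∈ A ⊗_ℤ K(X) is invertible if and only if (id ⊗ ε)(y) ∈ A ⊗_ℤ ℤ is invertible; in particular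
the class of a nowhere-zero bundle is invertible in K(X) ⊗ ℚ. (The published statement allows X
disconnected, with ε valued in H^0(X, ℤ); this row takes X connected, as the model requires.) -/
theorem result (X : Scheme.{u}) [ConnectedSpace ↥X] (L : X.Modules) (hL : CohB1.IsAmple L)
    (K : Type v) [CommRing K] [LambdaRing.LambdaOps K] (P : LambdaRing.PosStructure K) (φ : SGA6.Kvb X →+ K) (hK : KRR.IsModel X K P φ)
    (A : Type v) [CommRing A] (y : A ⊗[ℤ] K) :
    IsUnit y ↔ IsUnit (Algebra.TensorProduct.map (AlgHom.id ℤ A) P.aug.toIntAlgHom y) := by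
  have key : ∀ z : A ⊗[ℤ] K, IsNilpotent (z - Algebra.TensorProduct.map (AlgHom.id ℤ A)
      (Int.castRingHom K).toIntAlgHom (Algebra.TensorProduct.map (AlgHom.id ℤ A) P.aug.toIntAlgHom z)) := by
    intro z
    induction z using TensorProduct.induction_on with
    | zero => simp
    | tmul a k =>
      have h : IsNilpotent (k - ((P.aug k : ℤ) : K)) :=
        KRRLib.isNilpotent_of_aug_eq_zero hK hL (by simp)
      have h' := h.map (Algebra.TensorProduct.includeRight : K →ₐ[ℤ] A ⊗[ℤ] K)
      have h'' := (Commute.all (a ⊗ₜ[ℤ] (1 : K)) _).isNilpotent_mul_left h'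
      simpa [TensorProduct.tmul_sub, Algebra.TensorProduct.includeRight_apply, mul_sub, Algebra.TensorProduct.tmul_mul_tmul] using h''
    | add z w hz hw =>
      have h := (Commute.all _ _).isNilpotent_add hz hw
      simpa [map_add, add_sub_add_comm] using h
  constructor
  · intro h; exact h.map _
  · intro h
    have h2 := h.map (Algebra.TensorProduct.map (AlgHom.id ℤ A) (Int.castRingHom K).toIntAlgHom)
    have h3 := IsNilpotent.isUnit_add_left_of_commute (key y) h2 (Commute.all _ _)
    simpa using h3

end Groth.Agent.S8673
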