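import Groth.Statements.S8705
import Groth.Agent.SGA7X.SymCocycle

set_option autoImplicit false
universe u
open SGA7

namespace Groth.Agent.S8705

/-- In the case of the punctual topos (ordinary abelian groups): let P be an abelian group and consider
the complex of free abelian groups Z[P × P × P] ⊕ Z[P × P] → Z[P × P] → Z[P], augmented to P by [p]
↦ p, with d₀[p, q] = [p + q] − [p] − [q], with d₁ on the first summand given by [p, q, r] ↦ [p + q,
r] − [p, q + r] + [p, q] − [q, r] and on the second summand by [p, q] ↦ [p, q] − [q, p]. Then the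
augmentation is surjective with kernel the image of d₀ (so H₀ is P), and the kernel of d₀ is the sum
of the images of the two components of d₁ (so H₁ vanishes). (The published statement is for abelian
sheaves on an arbitrary topos; this row is its case of a one-point space.) -/
theorem result (P : Type u) [AddCommGroup P] :
    letI ε : (P →₀ ℤ) →ₗ[ℤ] P := Finsupp.linearCombination ℤ (fun p : P => p)
    letI d₀ : (P × P →₀ ℤ) →ₗ[ℤ] (P →₀ ℤ) := Finsupp.linearCombination ℤ
      (fun pq : P × P => Finsupp.single (pq.1 + pq.2) 1 - Finsupp.single pq.1 1 - Finsupp.single pq.2 1)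
    letI d₁ : (P × P × P →₀ ℤ) →ₗ[ℤ] (P × P →₀ ℤ) := Finsupp.linearCombination ℤ
      (fun t : P × P × P => Finsupp.single (t.1 + t.2.1, t.2.2) 1 - Finsupp.single (t.1, t.2.1 + t.2.2) 1
        + Finsupp.single (t.1, t.2.1) 1 - Finsupp.single (t.2.1, t.2.2) 1)
    letI d₁' : (P × P →₀ ℤ) →ₗ[ℤ] (P × P →₀ ℤ) := Finsupp.linearCombination ℤ
      (fun pq : P × P => Finsupp.single pq 1 - Finsupp.single (pq.2, pq.1) 1)
    Function.Surjective ε ∧ LinearMap.ker ε = LinearMap.range d₀ ∧
      LinearMap.ker d₀ = LinearMap.range d₁ ⊔ LinearMap.range d₁' := by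
  classical

  set ε : (P →₀ ℤ) →ₗ[ℤ] P := Finsupp.linearCombination ℤ (fun p : P => p) with hε
  set d₀ : (P × P →₀ ℤ) →ₗ[ℤ] (P →₀ ℤ) := Finsupp.linearCombination ℤ
      (fun pq : P × P => Finsupp.single (pq.1 + pq.2) 1 - Finsupp.single pq.1 1 - Finsupp.single pq.2 1) with hd₀
  set d₁ : (P × P × P →₀ ℤ) →ₗ[ℤ] (P × P →₀ ℤ) := Finsupp.linearCombination ℤ
      (fun t : P × P × P => Finsupp.single (t.1 + t.2.1, t.2.2) 1 - Finsupp.single (t.1, t.2.1 + t.2.2) 1
        + Finsupp.single (t.1, t.2.1) 1 - Finsupp.single (t.2.1, t.2.2) 1) with hd₁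
  set d₁' : (P × P →₀ ℤ) →ₗ[ℤ] (P × P →₀ ℤ) := Finsupp.linearCombination ℤ
      (fun pq : P × P => Finsupp.single pq 1 - Finsupp.single (pq.2, pq.1) 1) with hd₁'
  refine ⟨fun p => ⟨Finsupp.single p 1, by simp [hε]⟩, ?_, ?_⟩
  · apply le_antisymm
    · intro x hx
      let g : P →+ (P →₀ ℤ) ⧸ LinearMap.range d₀ :=
        AddMonoidHom.mk' (fun p => Submodule.Quotient.mk (Finsupp.single p 1)) (fun p q => by
          rw [← Submodule.Quotient.mk_add, Submodule.Quotient.eq]
          exact ⟨Finsupp.single (p, q) 1, by simp [hd₀]; abel⟩)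
      have hg : g.toIntLinearMap ∘ₗ ε = (LinearMap.range d₀).mkQ := by
        apply Finsupp.lhom_ext'
        intro p
        apply LinearMap.ext_ring
        simp [hε, g]
      rw [← Submodule.ker_mkQ (LinearMap.range d₀), LinearMap.mem_ker, ← hg, LinearMap.comp_apply,
        LinearMap.mem_ker.mp hx, map_zero]
    · rw [LinearMap.range_le_ker_iff]
      apply Finsupp.lhom_ext'
      intro p
      apply LinearMap.ext_ring
      simp [hd₀, hε]
  · apply le_antisymm
    · intro x hx
      set J := LinearMap.range d₁ ⊔ LinearMap.range d₁' with hJ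
      have m1 : ∀ p q r : P, Finsupp.single (p + q, r) 1 - Finsupp.single (p, q + r) 1
          + Finsupp.single (p, q) 1 - Finsupp.single (q, r) (1:ℤ) ∈ J :=
        fun p q r => Submodule.mem_sup_left ⟨Finsupp.single (p, q, r) 1, by simp [hd₁]⟩
      have m2 : ∀ p q : P, Finsupp.single (p, q) 1 - Finsupp.single (q, p) (1:ℤ) ∈ J :=
        fun p q => Submodule.mem_sup_right ⟨Finsupp.single (p, q) 1, by simp [hd₁']⟩
      let c : SGA7X.SymCocycle P ((P × P →₀ ℤ) ⧸ J) :=
        { toFun := fun p q => Submodule.Quotient.mk (Finsupp.single (p, q) 1)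
          cocycle := fun p q r => by
            rw [← Submodule.Quotient.mk_add, ← Submodule.Quotient.mk_add, Submodule.Quotient.eq]
            convert m1 p q r using 1
            abel
          symm := fun p q => by
            rw [Submodule.Quotient.eq]; exact m2 p q }
      let h : (P →₀ ℤ) →ₗ[ℤ] SGA7X.SymCocycle.Carrier c :=
        Finsupp.linearCombination ℤ (fun p => (⟨0, p⟩ : SGA7X.SymCocycle.Carrier c))
      have key : h ∘ₗ d₀ = -((SGA7X.SymCocycle.incl c).toIntLinearMap ∘ₗ J.mkQ) := by
        apply Finsupp.lhom_ext'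
        intro pq
        apply LinearMap.ext_ring
        obtain ⟨p, q⟩ := pq
        have e := SGA7X.SymCocycle.sect_add c p q
        simp only [LinearMap.coe_comp, Function.comp_apply, Finsupp.lsingle_apply, LinearMap.neg_apply,
          hd₀, Finsupp.linearCombination_single, one_smul, map_sub, h, Submodule.mkQ_apply,
          AddMonoidHom.coe_toIntLinearMap]
        rw [sub_sub, e]
        show _ = -(SGA7X.SymCocycle.incl c) (c.toFun p q)
        abel
      have hx' := LinearMap.congr_fun key x
      rw [LinearMap.comp_apply, LinearMap.mem_ker.mp hx, map_zero] at hx'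
      have : J.mkQ x = 0 := SGA7X.SymCocycle.incl_injective c (by simpa using hx'.symm)
      simpa using this
    · rw [sup_le_iff, LinearMap.range_le_ker_iff, LinearMap.range_le_ker_iff]
      constructor
      · apply Finsupp.lhom_ext'
        intro t
        apply LinearMap.ext_ring
        simp [hd₀, hd₁, add_assoc]
        abel
      · apply Finsupp.lhom_ext'
        intro t
        apply LinearMap.ext_ring
        simp [hd₀, hd₁', add_comm t.1 t.2]
        abel

end Groth.Agent.S8705
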