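import Groth.Statements.S8706
import Groth.Agent.SGA7X.SheetOpen

set_option autoImplicit false
set_option linter.style.haveILetI false
universe u
open CategoryTheory CategoryTheory.Limits MonoidalCategory CartesianMonoidalCategory MonObj AlgebraicGeometry
open SGA7

namespace Groth.Agent.S8706
open Groth.Agent.SGA7X

/-- Let p : P → S be a smooth morphism of finite presentation (smooth, quasi-compact, quasi-separated)
with geometrically connected fibres, e : S → P a section of p, Z a group and G the constant P-group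
scheme Z_P (through the isomorphism eG), E a torsor under G over P for the fppf topology, and e' : S
→ E a section of E lying over e. Then E is trivial (has a section over P) if and only if for every
point s of S the torsor induced on the fibre P_s is trivial (E acquires a section over P_s → P); and
when E is trivial there is exactly one section g of E over P with g ∘ e = e'. -/
theorem result (S P : Scheme.{u}) (p : P ⟶ S)
    [Smooth p] [QuasiCompact p] [QuasiSeparated p] [GeometricallyConnected p]
    (e : S ⟶ P) (he : e ≫ p = 𝟙 S)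
    (Z : Type u) [Group Z] (G : Over P) [GrpObj G] (eG : G ≅ TwC.const P Z) (hG : TwC.IsConstGrp Z G eG)
    (E : NonAbH1.TorsorSch G Scheme.fppfPrecoverage)
    (e' : S ⟶ E.X.left) (he' : e' ≫ E.X.hom = e) :
    (NonAbH1.HasSectionOver E.X (𝟙 P) ↔
        ∀ s : ↥S, NonAbH1.HasSectionOver E.X (pullback.fst p (S.fromSpecResidueField s))) ∧
      (NonAbH1.HasSectionOver E.X (𝟙 P) →
        ∃! g : P ⟶ E.X.left, g ≫ E.X.hom = 𝟙 P ∧ e ≫ g = e') := by
  have huniq : ∀ g g' : P ⟶ E.X.left, g ≫ E.X.hom = 𝟙 P → e ≫ g = e' → g' ≫ E.X.hom = 𝟙 P →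
      e ≫ g' = e' → g = g' := by
    intro g g' hg hge hg' hge'
    obtain ⟨U, hU, hU1, hU2⟩ := Sheet.exists_coincidence E hG (𝟙 P) g g' hg hg'
    have hall : ∀ y, y ∈ U := fun y => (p.isConnected_preimage_singleton (p y)).isPreconnected.subset_isClopen hU
      ⟨e (p y), by rw [Set.mem_preimage, ← Scheme.Hom.comp_apply, he]; rfl, hU2 e _ (hge.trans hge'.symm)⟩ rfl
    simpa using hU1 (𝟙 P) fun y => hall y
  have hex : (∀ s : ↥S, NonAbH1.HasSectionOver E.X (pullback.fst p (S.fromSpecResidueField s))) →
      ∃ g : P ⟶ E.X.left, g ≫ E.X.hom = 𝟙 P ∧ e ≫ g = e' := by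
    intro h
    choose g hg hn using fun s => SheetOpen.exists_through p e he (eG := eG) E e' he' s (h s)
    have hW := SheetOpen.isOpen_sheet p e he hG E e' he' g hg hn
    haveI : Etale E.X.hom := Sheet.etale_hom (eG := eG) E
    let U : E.X.left.Opens := ⟨_, hW⟩
    let f : (U : Scheme.{u}) ⟶ P := U.ι ≫ E.X.hom
    haveI : Mono f := ⟨fun {T} u v huv => by
      rw [← cancel_mono U.ι]
      obtain ⟨C, -, hC1, hC2⟩ := Sheet.exists_coincidence E hG (u ≫ f) (u ≫ U.ι) (v ≫ U.ι)
        (Category.assoc _ _ _) ((Category.assoc _ _ _).trans huv.symm)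
      have hC : ∀ t, t ∈ C := fun t => by
        have := hC2 (T.fromSpecResidueField t) default (SheetOpen.sheet_inj p hG E g hg _ _ _
          ((Category.assoc _ _ _).trans ((congrArg (T.fromSpecResidueField t ≫ ·) (((Category.assoc _ _ _).trans huv).trans
            (Category.assoc _ _ _).symm)).trans (Category.assoc _ _ _).symm))
          (fun z => (u (T.fromSpecResidueField t z)).2) (fun z => (v (T.fromSpecResidueField t z)).2))
        rwa [Scheme.fromSpecResidueField_apply] at this
      simpa using hC1 (𝟙 T) fun t => hC t⟩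
    haveI : IsOpenImmersion f := IsOpenImmersion.of_flat_of_mono f
    haveI : Surjective f := ⟨fun y => by
      obtain ⟨z, hz⟩ := (p.range_fiberι (p y)).ge (rfl : p y = p y)
      refine ⟨⟨g _ z, _, z, rfl⟩, ?_⟩
      show E.X.hom (g _ z) = y
      rw [← Scheme.Hom.comp_apply, hg, hz]⟩
    haveI : IsIso f := isIso_iff_isOpenImmersion_and_surjective f |>.2 ⟨inferInstance, inferInstance⟩
    refine ⟨inv f ≫ U.ι, by rw [Category.assoc]; exact IsIso.inv_hom_id f, ?_⟩
    let el : S ⟶ U := IsOpenImmersion.lift U.ι e' (by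
      rintro _ ⟨s, rfl⟩
      rw [Scheme.Opens.range_ι]
      exact ⟨s, hn s⟩)
    have hel : el ≫ U.ι = e' := IsOpenImmersion.lift_fac _ _ _
    have h1 : e ≫ inv f = el := by
      rw [← cancel_mono f, Category.assoc, IsIso.inv_hom_id, Category.comp_id,
        show el ≫ f = e' ≫ E.X.hom by rw [← hel, Category.assoc], he']
    rw [← Category.assoc, h1, hel]
  have hfwd : NonAbH1.HasSectionOver E.X (𝟙 P) →
      ∀ s : ↥S, NonAbH1.HasSectionOver E.X (pullback.fst p (S.fromSpecResidueField s)) :=
    fun ⟨g, hg⟩ s => ⟨pullback.fst p _ ≫ g, by rw [Category.assoc, hg, Category.comp_id]⟩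
  refine ⟨⟨hfwd, fun h => ?_⟩, fun h => ?_⟩
  · obtain ⟨g, hg, -⟩ := hex h
    exact ⟨g, hg⟩
  · obtain ⟨g, hg, hge⟩ := hex (hfwd h)
    exact ⟨g, ⟨hg, hge⟩, fun g' hg' => huniq g' g hg'.1 hg'.2 hg hge⟩

end Groth.Agent.S8706
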