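import Groth.Statements.S8710
import Groth.Agent.SGA7X.TorSeq

set_option autoImplicit false
universe u
open CategoryTheory CategoryTheory.Limits
open SGA7

namespace Groth.Agent.S8710

/-- Let f : B' → B be a surjective map of R-algebras with B' flat over R, g : C → B a map of R-algebras,
P = B' ×_B C their fibre product (the equalizer of f ∘ pr₁ and g ∘ pr₂ in B' × C), S an R-algebra
and n a natural number. If Tor_i^R(C, S) = 0 for 0 < i < n and Tor_i^R(B, S) = 0 for 0 < i ≤ n, then
Tor_i^R(P, S) = 0 for 0 < i < n. Here Tor_i^R(M, S) is the i-th left derived functor of M ⊗_R − on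
R-modules, evaluated at S. (The published statement asks the vanishing for B only in degrees 0 < i <
n; the published proof and the corollary following it use it in degrees 0 < i ≤ n, which this row
assumes.) -/
theorem result (R B' B C S : Type u) [CommRing R] [CommRing B'] [CommRing B]
    [CommRing C] [CommRing S] [Algebra R B'] [Algebra R B] [Algebra R C] [Algebra R S]
    (f : B' →ₐ[R] B) (hf : Function.Surjective f) (g : C →ₐ[R] B) [Module.Flat R B'] (n : ℕ)
    (hC : ∀ i : ℕ, 0 < i → i < n →
      IsZero (((Tor (ModuleCat.{u} R) i).obj (ModuleCat.of R C)).obj (ModuleCat.of R S)))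
    (hB : ∀ i : ℕ, 0 < i → i ≤ n →
      IsZero (((Tor (ModuleCat.{u} R) i).obj (ModuleCat.of R B)).obj (ModuleCat.of R S))) :
    letI P := AlgHom.equalizer (f.comp (AlgHom.fst R B' C)) (g.comp (AlgHom.snd R B' C))
    ∀ i : ℕ, 0 < i → i < n →
      IsZero (((Tor (ModuleCat.{u} R) i).obj (ModuleCat.of R ↥P)).obj (ModuleCat.of R S)) := by
  intro i hi hin
  set P := AlgHom.equalizer (f.comp (AlgHom.fst R B' C)) (g.comp (AlgHom.snd R B' C)) with hP
  let K : Submodule R B' := LinearMap.ker f.toLinearMap
  let Sb : ShortComplex (ModuleCat.{u} R) :=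
    ShortComplex.mk (ModuleCat.ofHom K.subtype) (ModuleCat.ofHom f.toLinearMap)
      (ModuleCat.hom_ext (LinearMap.ext fun x => x.2))
  have hSb : Sb.ShortExact :=
    { exact := (ShortComplex.ShortExact.moduleCat_exact_iff_function_exact _).2
        (LinearMap.exact_subtype_ker_map f.toLinearMap)
      mono_f := (ModuleCat.mono_iff_injective _).2 K.injective_subtype
      epi_g := (ModuleCat.epi_iff_surjective _).2 hf }
  let jK : K →ₗ[R] P := LinearMap.codRestrict (Subalgebra.toSubmodule P)
    ((LinearMap.inl R B' C).comp K.subtype) (fun x => by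
      have : f (x : B') = 0 := x.2
      show f (x : B') = g 0
      rw [this, map_zero])
  let pC : P →ₗ[R] C := (LinearMap.snd R B' C).comp (Subalgebra.toSubmodule P).subtype
  let Sa : ShortComplex (ModuleCat.{u} R) :=
    ShortComplex.mk (ModuleCat.ofHom jK) (ModuleCat.ofHom pC)
      (ModuleCat.hom_ext (LinearMap.ext fun _ => rfl))
  have hSa : Sa.ShortExact :=
    { exact := (ShortComplex.ShortExact.moduleCat_exact_iff_function_exact _).2 (fun x => by
        constructor
        · intro hx
          obtain ⟨⟨b, c⟩, hbc⟩ := x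
          have hc : c = 0 := hx
          subst hc
          have hb : f b = 0 := (show f b = g 0 from hbc).trans (map_zero g)
          exact ⟨⟨b, hb⟩, rfl⟩
        · rintro ⟨y, rfl⟩; rfl)
      mono_f := (ModuleCat.mono_iff_injective _).2 (fun x y h => by
        have h' := congrArg (fun z : P => (z : B' × C).1) h
        exact Subtype.ext h')
      epi_g := (ModuleCat.epi_iff_surjective _).2 (fun c => by
        obtain ⟨b, hb⟩ := hf (g c)
        exact ⟨⟨(b, c), hb⟩, rfl⟩) }
  refine SGA7X.isZero_tor_middle hSa _ i ?_ (hC i hi hin)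
  refine SGA7X.isZero_tor_left hSb _ i ?_ (hB (i + 1) (by omega) (by omega))
  obtain ⟨j, rfl⟩ := Nat.exists_eq_succ_of_ne_zero hi.ne'
  exact SGA7X.isZero_tor_flat _ _ j

end Groth.Agent.S8710
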