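import Groth.Statements.S8712
import Groth.Agent.SGA7X.ExtConnected

set_option autoImplicit false
universe u
open CategoryTheory CategoryTheory.Limits MonoidalCategory CartesianMonoidalCategory MonObj AlgebraicGeometry
open SGA7

namespace Groth.Agent.S8712

/-- The vanishing of Ext¹(P, M) proved there: let S be a scheme, P a commutative S-group scheme which is
smooth and of finite presentation over S (smooth, quasi-compact, quasi-separated) with geometrically
connected fibres, M a commutative S-group scheme which is a twisted constant group with fibres Z^r: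
after a flat surjective base change S' → S which is an fpqc covering, Zariski-locally on S', M
becomes the constant group scheme of Z^r for some r (allowed to vary), and u : M → E, v : E → P
homomorphisms of commutative S-group schemes forming a sequence 1 → M → E → P → 1 exact for the fppf
topology. Then every homomorphism P → M is trivial, and the extension E of P by M is trivial: there
is a homomorphism s : P → E with s followed by v equal to the identity of P. -/
theorem result (S : Scheme.{u})
    (P E M : Over S) [GrpObj P] [GrpObj E] [GrpObj M] [IsCommMonObj P] [IsCommMonObj E] [IsCommMonObj M]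
    [Smooth P.hom] [QuasiCompact P.hom] [QuasiSeparated P.hom] [GeometricallyConnected P.hom]
    (hM : TwC.Locally S TwC.Topology.fpqc (fun S' f =>
      ∃ (r : ℕ) (e : Red.bc f M ≅ TwC.const S' (Multiplicative (Fin r → ℤ))),
        TwC.IsConstGrp (Multiplicative (Fin r → ℤ)) (Red.bc f M) e))
    (u : M ⟶ E) (v : E ⟶ P) (hex : NonAbH1.IsExactSeq Scheme.fppfPrecoverage u v) :
    (∀ φ : P ⟶ M, IsMonHom φ → φ = 1) ∧ ∃ s : P ⟶ E, IsMonHom s ∧ s ≫ v = 𝟙 P := by
  obtain ⟨I, U, g, hg, h⟩ := Groth.Agent.SGA7X.Transpose.exists_family hM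
  choose r eM heM using h
  have hZ : ∀ a, ∀ z : Multiplicative (Fin (r a) → ℤ), IsOfFinOrder z → z = 1 := fun a z hz => by
    obtain ⟨n, hn, hzn⟩ := isOfFinOrder_iff_pow_eq_one.1 hz
    have h0 : n • Multiplicative.toAdd z = 0 := by rw [← toAdd_pow, hzn, toAdd_one]
    refine Multiplicative.toAdd.injective ?_
    rw [toAdd_one]
    funext i
    have hi : (n : ℤ) * Multiplicative.toAdd z i = 0 := by simpa using congrFun h0 i
    rcases mul_eq_zero.1 hi with h1 | h1
    · omega
    · exact h1
  let Z : I → Type u := fun a => ULift.{u} (Multiplicative (Fin (r a) → ℤ))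
  let cI : ∀ a, TwC.const (U a) (Multiplicative (Fin (r a) → ℤ)) ≅ TwC.const (U a) (Z a) := fun a =>
    { hom := TwC.constMap (U a) ULift.up
      inv := TwC.constMap (U a) ULift.down
      hom_inv_id := Over.OverMorphism.ext (Sigma.hom_ext _ _ fun m => by simp [TwC.constMap])
      inv_hom_id := Over.OverMorphism.ext (Sigma.hom_ext _ _ fun m => by simp [TwC.constMap]; rfl) }
  let eM' : ∀ a, Red.bc (g a) M ≅ TwC.const (U a) (Z a) := fun a => eM a ≪≫ cI a
  have hpt : ∀ a (m : Z a), TwC.pt (U a) (Z a) m ≫ (eM' a).inv =
      TwC.pt (U a) (Multiplicative (Fin (r a) → ℤ)) m.down ≫ (eM a).inv := fun a m => by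
    have : TwC.pt (U a) (Z a) m ≫ (cI a).inv = TwC.pt (U a) (Multiplicative (Fin (r a) → ℤ)) m.down :=
      Over.OverMorphism.ext (by simp [cI, TwC.constMap, TwC.pt])
    simp only [eM', Iso.trans_inv, reassoc_of% this]
  have heM' : ∀ a, TwC.IsConstGrp (Z a) (Red.bc (g a) M) (eM' a) := fun a m n => by
    rw [hpt, hpt, hpt]
    exact heM a m.down n.down
  have hZ' : ∀ a, ∀ z : Z a, IsOfFinOrder z → z = 1 := fun a z hz =>
    ULift.down_injective (hZ a z.down ((MulEquiv.ulift (α := Multiplicative (Fin (r a) → ℤ))).toMonoidHom.isOfFinOrder hz))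
  refine ⟨fun φ hφ => ?_, ?_⟩
  · haveI := hφ
    exact Groth.Agent.SGA7X.ExtConnected.hom_eq_one eM' heM' hg φ
  · exact Groth.Agent.SGA7X.ExtConnected.exists_splitting eM' heM' hg hZ' hex

end Groth.Agent.S8712
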