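import Groth.Statements.S8727
import Groth.Agent.ArSurfX.Form
import Groth.Agent.ArSurfX.Arith

set_option autoImplicit false
universe u

set_option linter.style.haveILetI false
set_option backward.isDefEq.respectTransparency false
set_option backward.isDefEq.respectTransparency.types false
open CategoryTheory CategoryTheory.Limits AlgebraicGeometry
open ArSurf

namespace Groth.Agent.S8727

/-- The assertion on the kernel of the intersection form: let R be a discrete valuation ring, X an
arithmetic surface over Spec R (regular, integral, of dimension 2, flat and projective over R) whose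
special fibre is connected, Γ_1, ..., Γ_r pairwise distinct vertical prime divisors whose union is
the whole special fibre, n_i the multiplicity of Γ_i in the special fibre, i.e. the length of
O_{X,γ_i}/m_R O_{X,γ_i} for γ_i the generic point of Γ_i, and L_j invertible O_X-modules with L_j ⊗
I(Γ_j) ≅ O_X. Then for integers a_1, ..., a_r one has Σ_j a_j (Γ_i · Γ_j) = 0 for every i, where Γ_i
· Γ_j = deg(L_j|_{Γ_i}) over the residue field, if and only if (a_1, ..., a_r) is a rational
multiple of (n_1, ..., n_r): the kernel of the (negative semi-definite) intersection form on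
vertical divisors is spanned by the special fibre. -/
theorem result (R : Type u) [CommRing R] [IsDomain R] [IsDiscreteValuationRing R]
    (X : Over (Spec (CommRingCat.of R))) (hX : ArSurf.IsArithSurface R X)
    (hconn : _root_.IsConnected {x : ↥X.left | X.hom.base x = IsLocalRing.closedPoint R})
    {r : ℕ} (Γ : Fin r → ArSurf.VertComp R X)
    (hdist : Function.Injective fun i => Set.range (Γ i).ι.base)
    (hcov : ∀ x : ↥X.left, X.hom.base x = IsLocalRing.closedPoint R → ∃ i, x ∈ Set.range (Γ i).ι.base)
    (L : Fin r → X.left.Modules) (hL : ∀ j, ClSub.IsInverseOf (L j) (ClSub.idealMod ((Γ j).ι.ker)))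
    (a : Fin r → ℤ) :
    let γ : Fin r → ↥X.left := fun i => (Γ i).ι.base (genericPoint ↥(Γ i).curve.left)
    let ρ : ∀ i, R →+* ↑(X.left.presheaf.stalk (γ i)) := fun i =>
      (X.left.presheaf.germ ⊤ (γ i) trivial).hom.comp
        (X.hom.appTop.hom.comp (Scheme.ΓSpecIso (CommRingCat.of R)).inv.hom)
    let n : Fin r → ℕ := fun i => (Module.length ↑(X.left.presheaf.stalk (γ i))
      (↑(X.left.presheaf.stalk (γ i)) ⧸ (IsLocalRing.maximalIdeal R).map (ρ i))).toNat
    (∀ i, ∑ j, a j * ArSurf.inter R X (L j) (Γ i) = 0) ↔
      ∃ c : ℚ, ∀ i, (a i : ℚ) = c * (n i : ℚ) := by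
  intro γ ρ n
  classical
  have h := Groth.Agent.ArSurfX.IsSurf.of_isArithSurface hX
  have hn : ∀ i, n i = Models.mult R X (Γ i) := fun i => rfl
  have hΓ := h.isComponentList_of_cover Γ hdist hcov
  simp only [hn]
  constructor
  · intro ha
    have h0 : ∑ i, ∑ j, ArSurf.inter R X (L j) (Γ i) * (a i * a j) = 0 :=
      Finset.sum_eq_zero fun i _ => by
        rw [← mul_zero (a i), ← ha i, Finset.mul_sum]
        exact Finset.sum_congr rfl fun j _ => by ring
    have hedge := (h.form_nonpos hΓ hL a).2 h0
    rcases isEmpty_or_nonempty (Fin r) with hr | hr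
    · exact ⟨0, fun i => isEmptyElim i⟩
    refine ⟨(a (Classical.arbitrary _) : ℚ) / Models.mult R X (Γ (Classical.arbitrary _)), fun i => ?_⟩
    rw [Groth.Agent.NumType.const_of_connected (fun i j => ArSurf.inter R X (L j) (Γ i) ≠ 0)
      (h.connected_components hΓ hL hconn) (fun i => (a i : ℚ) / Models.mult R X (Γ i)) hedge
      (Classical.arbitrary _) i,
      div_mul_cancel₀ _ (Nat.cast_ne_zero.2 (h.mult_pos (Γ i)).ne')]
  · rintro ⟨c, hc⟩ i
    have hs := congrArg (fun z : ℤ => (z : ℚ)) (h.sum_mult_inter hΓ hL (Γ i))
    push_cast at hs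
    have : ((∑ j, a j * ArSurf.inter R X (L j) (Γ i) : ℤ) : ℚ) = 0 := by
      push_cast
      rw [← mul_zero c, ← hs, Finset.mul_sum]
      exact Finset.sum_congr rfl fun j _ => by rw [hc j]; ring
    exact_mod_cast this

end Groth.Agent.S8727
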