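import Groth.Statements.S8738
import Mathlib.RingTheory.Etale.Kaehler
import Mathlib.RingTheory.IntegralClosure.IsIntegral.AlmostIntegral

set_option autoImplicit false
universe u
open SGA7II

namespace Groth.Agent.S8738

/-- Let k be a field of characteristic zero and A a reduced Noetherian local k-algebra of Krull
dimension one, essentially of finite type over k (the local ring of a reduced curve over k at one of
its points), and let A' be the integral closure of A in its total ring of fractions (the
normalization). Then every k-derivation D of A extends to a k-derivation D' of A', i.e. D' agrees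
with D on the image of A. -/
theorem result (k : Type u) [Field k] [CharZero k] (A : Type u) [CommRing A]
    [Algebra k A] [IsReduced A] [IsNoetherianRing A] [IsLocalRing A] [Algebra.EssFiniteType k A]
    (hdim : ringKrullDim A = 1) (D : Derivation k A A) :
    ∃ D' : Derivation k ↥(integralClosure A (FractionRing A)) ↥(integralClosure A (FractionRing A)),
      ∀ a : A, (D' (algebraMap A ↥(integralClosure A (FractionRing A)) a) : FractionRing A) =
        algebraMap A (FractionRing A) (D a) := by
  classical
  have hbc : IsLocalizedModule (nonZeroDivisors A) (KaehlerDifferential.map k k A (FractionRing A)) := inferInstance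
  obtain ⟨δ, hδ⟩ : ∃ δ : Derivation k (FractionRing A) (FractionRing A), ∀ a : A, δ (algebraMap A (FractionRing A) a) = algebraMap A (FractionRing A) (D a) := by
    let L : Ω[A⁄k] →ₗ[A] (FractionRing A) := (Algebra.linearMap A (FractionRing A)).comp D.liftKaehlerDifferential
    have hu : ∀ x : nonZeroDivisors A, IsUnit ((algebraMap A (Module.End A (FractionRing A))) x) := by
      intro x
      rw [Module.End.isUnit_iff]
      have hx : IsUnit (algebraMap A (FractionRing A) x) := IsLocalization.map_units (FractionRing A) x
      refine ⟨fun a b hab => hx.mul_left_cancel ?_, fun b => ⟨↑(hx.unit⁻¹) * b, ?_⟩⟩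
      · simpa [Algebra.smul_def] using hab
      · simp [Algebra.smul_def, ← mul_assoc]
    let L' : Ω[(FractionRing A)⁄k] →ₗ[A] (FractionRing A) := IsLocalizedModule.lift (nonZeroDivisors A)
      (KaehlerDifferential.map k k A (FractionRing A)) L hu
    let L'' : Ω[(FractionRing A)⁄k] →ₗ[(FractionRing A)] (FractionRing A) := L'.extendScalarsOfIsLocalization (nonZeroDivisors A) (FractionRing A)
    refine ⟨L''.compDer (KaehlerDifferential.D k (FractionRing A)), fun a => ?_⟩
    show L' (KaehlerDifferential.D k (FractionRing A) (algebraMap A (FractionRing A) a)) = _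
    rw [← KaehlerDifferential.map_D k k A (FractionRing A) a, IsLocalizedModule.lift_apply]
    simp [L]
  let C := integralClosure A (FractionRing A)
  have hclosed : ∀ x : (FractionRing A), IsIntegral A x → IsIntegral A (δ x) := by
    intro x hx
    obtain ⟨r, hr, hr'⟩ := hx.isAlmostIntegral
    let R₀ := (algebraMap A (FractionRing A)).range
    let c : (FractionRing A) := algebraMap A (FractionRing A) r
    have hcx : ∀ i : ℕ, c * x ^ i ∈ R₀ := fun i => by
      obtain ⟨a, ha⟩ := hr' i
      exact ⟨a, ha.trans (Algebra.smul_def r _)⟩
    have hD : ∀ (y : (FractionRing A)), y ∈ R₀ → ∀ m : ℕ, (δ^[m]) y ∈ R₀ := by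
      intro y hy m
      induction m with
      | zero => exact hy
      | succ m ih =>
        obtain ⟨a, ha⟩ := ih
        exact ⟨D a, by rw [Function.iterate_succ_apply', ← ha, hδ]⟩
    let T : ℕ → ℕ → (FractionRing A) := fun n m => ∑ i ∈ Finset.range (n + 1),
      (n.choose i : (FractionRing A)) * ((-x) ^ (n - i) * (δ^[m]) (c * x ^ i))
    have hrec : ∀ n m : ℕ, T n (m + 1) = δ (T n m) + (n : (FractionRing A)) * δ x * T (n - 1) m := by
      intro n m
      rcases n with _ | n
      · simp [T, Function.iterate_succ_apply']
      have h2 : (↑(n + 1) : (FractionRing A)) * δ x * T n m = ∑ i ∈ Finset.range (n + 1 + 1),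
          ((n + 1).choose i : (FractionRing A)) * (((n + 1 - i : ℕ) : (FractionRing A)) * (-x) ^ (n + 1 - i - 1) * δ x *
            (δ^[m]) (c * x ^ i)) := by
        rw [Finset.sum_range_succ _ (n + 1)]
        simp only [tsub_self, Nat.cast_zero, zero_mul, mul_zero, add_zero, T]
        rw [Finset.mul_sum]
        refine Finset.sum_congr rfl fun i hi => ?_
        have hi' := Finset.mem_range.1 hi
        have he : ((n + 1).choose i : (FractionRing A)) * ((n + 1 - i : ℕ) : (FractionRing A)) = (↑(n + 1) : (FractionRing A)) * (n.choose i : (FractionRing A)) := by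
          have := Nat.choose_mul_succ_eq n i
          rw [← Nat.cast_mul, ← Nat.cast_mul]
          exact congrArg Nat.cast (this.symm.trans (Nat.mul_comm _ _))
        rw [show n + 1 - i - 1 = n - i by omega]
        calc (↑(n + 1) : (FractionRing A)) * δ x * ((n.choose i : (FractionRing A)) * ((-x) ^ (n - i) * (δ^[m]) (c * x ^ i)))
            = ((↑(n + 1) : (FractionRing A)) * (n.choose i : (FractionRing A))) * ((-x) ^ (n - i) * δ x * (δ^[m]) (c * x ^ i)) := by ring
          _ = _ := by rw [← he]; ring
      simp only [Nat.add_sub_cancel]
      rw [h2]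
      simp only [T, map_sum, ← Finset.sum_add_distrib]
      refine Finset.sum_congr rfl fun i _ => ?_
      have hnx : δ (-x) = -δ x := map_neg δ x
      simp only [Derivation.leibniz, Derivation.map_natCast, Derivation.leibniz_pow, hnx,
        smul_eq_mul, nsmul_eq_mul, Function.iterate_succ_apply']
      ring
    have hval : ∀ m n : ℕ, m ≤ n → T n m = if m = n then (n.factorial : (FractionRing A)) * c * δ x ^ n else 0 := by
      intro m
      induction m with
      | zero =>
        intro n _
        have : T n 0 = c * (x + -x) ^ n := by
          rw [add_pow, Finset.mul_sum]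
          simp only [T, Function.iterate_zero, id_eq]
          exact Finset.sum_congr rfl fun i _ => by ring
        rw [this, add_neg_cancel]
        rcases n with _ | n <;> simp
      | succ m ih =>
        intro n hn
        rw [hrec, ih n (by omega), if_neg (by omega), map_zero, zero_add, ih (n - 1) (by omega)]
        by_cases hmn : m + 1 = n
        · subst hmn
          simp only [Nat.add_sub_cancel, if_true, Nat.factorial_succ, pow_succ]
          push_cast
          ring
        · rw [if_neg (by omega), if_neg hmn, mul_zero]
    refine IsAlmostIntegral.isIntegral_of_nonZeroDivisors_le_comap ⟨r * r, mul_mem hr hr, fun n => ?_⟩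
      (fun a ha => (IsLocalization.map_units (FractionRing A) ⟨a, ha⟩).mem_nonZeroDivisors)
    have h3 : c * T n n ∈ R₀ := by
      simp only [T]
      rw [Finset.mul_sum]
      refine Subring.sum_mem _ fun i _ => ?_
      have h4 : c * (-x) ^ (n - i) ∈ R₀ := by
        rw [neg_pow, mul_left_comm]
        exact R₀.mul_mem (R₀.pow_mem (R₀.neg_mem R₀.one_mem) _) (hcx _)
      have := R₀.mul_mem (natCast_mem R₀ (n.choose i)) (R₀.mul_mem h4 (hD _ (hcx i) n))
      convert this using 1
      ring
    obtain ⟨a, ha⟩ := h3
    rw [hval n n le_rfl, if_pos rfl] at ha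
    obtain ⟨u, hu⟩ : IsUnit (algebraMap k A (n.factorial : k)) :=
      (Ne.isUnit (Nat.cast_ne_zero.2 n.factorial_ne_zero)).map _
    refine ⟨↑u⁻¹ * a, ?_⟩
    have hu' : algebraMap A (FractionRing A) ↑u⁻¹ * (n.factorial : (FractionRing A)) = 1 := by
      rw [← map_natCast (algebraMap A (FractionRing A)), ← map_natCast (algebraMap k A), ← hu, ← map_mul,
        Units.inv_mul, map_one]
    rw [map_mul, ha, Algebra.smul_def, map_mul]
    calc algebraMap A (FractionRing A) ↑u⁻¹ * (c * ((n.factorial : (FractionRing A)) * c * δ x ^ n))
        = (algebraMap A (FractionRing A) ↑u⁻¹ * (n.factorial : (FractionRing A))) * (c * c * δ x ^ n) := by ring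
      _ = _ := by rw [hu', one_mul]
  let D' : Derivation k C C := Derivation.mk'
    { toFun := fun x => ⟨δ x.1, hclosed _ x.2⟩
      map_add' := fun x y => Subtype.ext (by simp)
      map_smul' := fun t x => Subtype.ext (by simp) }
    (fun x y => Subtype.ext (by simp))
  exact ⟨D', fun a => hδ a⟩

end Groth.Agent.S8738
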