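import Groth.Statements.S8821
import Groth.Agent.PunctCoh79.SmulMod
import Mathlib.CategoryTheory.Abelian.Refinements

set_option autoImplicit false
universe u
open Formal2

namespace Groth.Agent.S8821

section
open CategoryTheory CategoryTheory.Limits AlgebraicGeometry

variable {A : Type u} [CommRing A] {X : Scheme.{u}} [X.Over (Spec (CommRingCat.of A))]
  (f : A) (F : X.Modules)

theorem smul_π (k : ℕ) :
    Formal.smulMod A F (f ^ k) ≫ Formal.modPowπ (Ideal.span ({f} : Set A)) k F = 0 := by
  have h : f ^ k ∈ Ideal.span ({f} : Set A) ^ k :=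
    Ideal.pow_mem_pow (Ideal.mem_span_singleton_self f) k
  have := congrArg (Sigma.ι (fun _ : ↥(Ideal.span ({f} : Set A) ^ k) => F) ⟨_, h⟩ ≫ ·)
    (cokernel.condition (Formal.smulFamily (Ideal.span ({f} : Set A) ^ k) F))
  simp only [comp_zero] at this
  rwa [← Category.assoc, Formal.smulFamily, Sigma.ι_desc] at this

/-- exactness of `F -f^k-> F -> F/f^kF` -/
theorem exact_π (k : ℕ) : (ShortComplex.mk (Formal.smulMod A F (f ^ k))
    (Formal.modPowπ (Ideal.span ({f} : Set A)) k F) (smul_π f F k)).Exact := by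
  refine ShortComplex.exact_of_g_is_cokernel _ (CokernelCofork.IsColimit.ofπ _ _
    (fun {Z} g hg => cokernel.desc _ g ?_) (fun g hg => cokernel.π_desc _ _ _)
    (fun g hg m hm => ?_))
  · refine Sigma.hom_ext _ _ fun a => ?_
    obtain ⟨c, hc⟩ := Ideal.mem_span_singleton'.1 (show (a : A) ∈ Ideal.span ({f ^ k} : Set A) by
      rw [← Ideal.span_singleton_pow]; exact a.2)
    rw [comp_zero, ← Category.assoc, Formal.smulFamily, Sigma.ι_desc, ← hc, mul_comm,
      PunctCoh79.smulMod_mul, Category.assoc]
    first | rw [hg, comp_zero] | (rw [← Category.assoc, PunctCoh79.smulMod_naturality, Category.assoc, hg, comp_zero])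
  · exact (cancel_epi (cokernel.π (Formal.smulFamily (Ideal.span ({f} : Set A) ^ k) F))).1
      (hm.trans (cokernel.π_desc _ _ _).symm)

theorem mono_pow (hF : Mono (Formal.smulMod A F f)) : ∀ k, Mono (Formal.smulMod A F (f ^ k))
  | 0 => by rw [pow_zero, PunctCoh79.smulMod_one]; infer_instance
  | k + 1 => by
    have := mono_pow hF k
    rw [pow_succ, PunctCoh79.smulMod_mul]
    exact mono_comp _ _

end

open CategoryTheory CategoryTheory.Limits AlgebraicGeometry in
/-- Implication (4) ⇒ (2), for an O_X-module over a base ring A and f ∈ A. Let X be a scheme over Spec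
A, f ∈ A and F an O_X-module on which multiplication by f is a monomorphism. Then for every n ≥ 1
there is a monomorphism i : F/fF → F/f^{n+1}F through which multiplication by f^n on F/f^{n+1}F
factors (projection to F/fF followed by i), and F/fF → F/f^{n+1}F → F/f^nF, with second map the
transition map, is a short exact sequence. (Stated for schemes; the published statement is for
ringed spaces.) -/
theorem result (A : Type u) [CommRing A] (X : Scheme.{u}) [X.Over (Spec (CommRingCat.of A))] (f : A) (F : X.Modules) (hF : Mono (Formal.smulMod A F f)) (n : ℕ) (hn : 1 ≤ n) : ∃ i : Formal.modPow (Ideal.span ({f} : Set A)) 1 F ⟶ Formal.modPow (Ideal.span ({f} : Set A)) (n + 1) F, Mono i ∧ Formal2.modPowLE (Ideal.span ({f} : Set A)) (Nat.le_add_left 1 n) F ≫ i = Formal.smulMod A (Formal.modPow (Ideal.span ({f} : Set A)) (n + 1) F) (f ^ n) ∧ ∃ w : i ≫ Formal.modPowTrans (Ideal.span ({f} : Set A)) n F = 0, (ShortComplex.mk i (Formal.modPowTrans (Ideal.span ({f} : Set A)) n F) w).ShortExact := by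
  let π : ∀ k, F ⟶ Formal.modPow (Ideal.span ({f} : Set A)) k F :=
    fun k => Formal.modPowπ (Ideal.span ({f} : Set A)) k F
  have hepi : ∀ k, Epi (π k) := fun k => coequalizer.π_epi
  have hsplit : Formal.smulMod A F (f ^ (n + 1)) = Formal.smulMod A F f ≫ Formal.smulMod A F (f ^ n) := by
    rw [pow_succ, PunctCoh79.smulMod_mul]
  obtain ⟨i, hi⟩ : ∃ i, π 1 ≫ i = Formal.smulMod A F (f ^ n) ≫ π (n + 1) := by
    have h0 : Formal.smulMod A F (f ^ 1) ≫ (Formal.smulMod A F (f ^ n) ≫ π (n + 1)) = 0 := by
      rw [pow_one, ← Category.assoc, ← hsplit]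
      exact smul_π f F (n + 1)
    haveI : Epi (ShortComplex.mk (Formal.smulMod A F (f ^ 1)) (Formal.modPowπ (Ideal.span ({f} : Set A)) 1 F)
      (smul_π f F 1)).g := hepi 1
    exact ⟨(exact_π f F 1).desc _ h0, (exact_π f F 1).g_desc _ h0⟩
  have hw : i ≫ Formal.modPowTrans (Ideal.span ({f} : Set A)) n F = 0 := by
    have := hepi 1
    rw [← cancel_epi (π 1), ← Category.assoc, hi, Category.assoc, comp_zero]
    show Formal.smulMod A F (f ^ n) ≫ Formal.modPowπ _ (n + 1) F ≫ Formal.modPowTrans _ n F = 0
    rw [Formal.modPowπ_trans]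
    exact smul_π f F n
  have hmono : Mono i := by
    rw [Preadditive.mono_iff_cancel_zero]
    intro T x hx
    have := hepi 1
    obtain ⟨T', q, hq, a, ha⟩ := surjective_up_to_refinements_of_epi (π 1) x
    obtain ⟨T'', q', hq', b, hb⟩ := (exact_π f F (n + 1)).exact_up_to_refinements (a ≫ Formal.smulMod A F (f ^ n)) (by
      show (a ≫ _) ≫ π (n + 1) = 0
      rw [Category.assoc, ← hi, ← Category.assoc, ← ha, Category.assoc, hx, comp_zero])
    have := mono_pow f F hF n
    have hab : q' ≫ a = b ≫ Formal.smulMod A F f := by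
      rw [← cancel_mono (Formal.smulMod A F (f ^ n)), Category.assoc, Category.assoc, ← hsplit]
      exact hb
    rw [← cancel_epi q, ← cancel_epi q', comp_zero, comp_zero, ha, ← Category.assoc, hab, Category.assoc]
    show b ≫ Formal.smulMod A F f ≫ Formal.modPowπ _ 1 F = 0
    have h1 := smul_π f F 1
    rw [pow_one] at h1
    rw [h1, comp_zero]
  refine ⟨i, hmono, ?_, hw, ?_⟩
  · have := hepi (n + 1)
    rw [← cancel_epi (π (n + 1)), ← Category.assoc]
    show (Formal.modPowπ _ (n + 1) F ≫ _) ≫ i = _
    rw [Formal2.modPowπ_modPowLE]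
    exact hi.trans (PunctCoh79.smulMod_naturality (π (n + 1)) (f ^ n))
  · refine { exact := ?_, mono_f := hmono, epi_g := ?_ }
    · rw [ShortComplex.exact_iff_exact_up_to_refinements]
      intro T x hx
      have := hepi (n + 1)
      obtain ⟨T', q, hq, a, ha⟩ := surjective_up_to_refinements_of_epi (π (n + 1)) x
      obtain ⟨T'', q', hq', b, hb⟩ := (exact_π f F n).exact_up_to_refinements a (by
        show a ≫ Formal.modPowπ _ n F = 0
        rw [← Formal.modPowπ_trans, ← Category.assoc, ← ha, Category.assoc, hx, comp_zero])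
      refine ⟨T'', q' ≫ q, epi_comp _ _, b ≫ π 1, ?_⟩
      show (q' ≫ q) ≫ x = (b ≫ π 1) ≫ i
      rw [Category.assoc, ha, ← Category.assoc, hb, Category.assoc, Category.assoc, hi]
    · have : Epi (π (n + 1) ≫ Formal.modPowTrans (Ideal.span ({f} : Set A)) n F) := by
        show Epi (Formal.modPowπ _ (n + 1) F ≫ _)
        rw [Formal.modPowπ_trans]; exact hepi n
      exact epi_of_epi (π (n + 1)) _

end Groth.Agent.S8821
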