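import Groth.Statements.S8830
import Groth.Agent.PunctCoh79.LimQuot
import Groth.Agent.Algz7.Completion
-- import your own Groth.Agent.* helpers here

set_option autoImplicit false
universe u
open CategoryTheory AlgebraicGeometry Opposite
open Formal2
open CategoryTheory.Limits

namespace Groth.Agent.S8830

/-- Implication (1) ⇒ (4) for quasi-coherent systems on a scheme, with f taken in a base ring A over
which X lives. Let (F_n)_{n ≥ 1} be an inverse system of quasi-coherent O_X-modules, indexed here so
that position n holds F_{n+1}. Assume (1): for every n ≥ 1, multiplication by f on F_{n+1} factors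
as the transition map F_{n+1} → F_n followed by a monomorphism i : F_n → F_{n+1}, and F_n → F_{n+1}
→ F_1 (second map the transition map to the first term) is short exact. Then (4): there is an
O_X-module F on which multiplication by f is a monomorphism and whose system of quotients
(F/f^nF)_{n ≥ 1} is isomorphic to (F_n) as an inverse system (existence of an isomorphism). -/
theorem result (A : Type u) [CommRing A] (X : Scheme.{u}) [X.Over (Spec (CommRingCat.of A))] (f : A) (G : ℕᵒᵖ ⥤ X.Modules) (hqc : ∀ n : ℕᵒᵖ, Coh.IsQCoh (G.obj n)) (h1 : ∀ n : ℕ, ∃ i : G.obj (op n) ⟶ G.obj (op (n + 1)), Mono i ∧ G.map (homOfLE (Nat.le_succ n)).op ≫ i = Formal.smulMod A (G.obj (op (n + 1))) f ∧ ∃ w : i ≫ G.map (homOfLE (Nat.zero_le (n + 1))).op = 0, (ShortComplex.mk i (G.map (homOfLE (Nat.zero_le (n + 1))).op) w).ShortExact) : ∃ F : X.Modules, Mono (Formal.smulMod A F f) ∧ Nonempty (Formal.completion (Ideal.span ({f} : Set A)) F ≅ G) := by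
  choose i hi hfi w hw using h1
  let t : ∀ n, G.obj (op (n + 1)) ⟶ G.obj (op n) := fun n => G.map (homOfLE (Nat.le_succ n)).op
  let s : ∀ n, G.obj (op n) ⟶ G.obj (op 0) := fun n => G.map (homOfLE (Nat.zero_le n)).op
  have hts : ∀ n, t n ≫ s n = s (n + 1) := fun n => (G.map_comp _ _).symm.trans (congrArg G.map rfl)
  have hs0 : s 0 = 𝟙 _ := G.map_id _
  have hsepi : ∀ n, Epi (s (n + 1)) := fun n => (hw n).epi_g
  have hti : ∀ n, t n ≫ i n = Formal.smulMod A (G.obj (op (n + 1))) f := hfi
  have ht0 : Epi (t 0) := by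
    have := hsepi 0
    rw [← hts 0, hs0, Category.comp_id] at this
    exact this
  have hkill : ∀ n, Formal.smulMod A (G.obj (op n)) (f ^ (n + 1)) = 0 := by
    intro n
    induction n with
    | zero =>
      have h0 : i 0 ≫ t 0 = 0 := by
        have : i 0 ≫ s 1 = 0 := w 0
        rwa [← hts 0, hs0, Category.comp_id] at this
      rw [zero_add, pow_one, ← cancel_epi (t 0), comp_zero, ← PunctCoh79.smulMod_naturality, ← hti,
        Category.assoc, h0, comp_zero]
    | succ n ih =>
      rw [pow_succ, PunctCoh79.smulMod_mul, ← hti, Category.assoc, ← PunctCoh79.smulMod_naturality, ih,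
        zero_comp, comp_zero]
  have hKB : ∀ n, Formal.KilledBy (Ideal.span ({f} : Set A) ^ (n + 1)) (G.obj (op n)) := by
    intro n a ha
    rw [Ideal.span_singleton_pow] at ha
    obtain ⟨c, rfl⟩ := Ideal.mem_span_singleton'.1 ha
    rw [PunctCoh79.smulMod_mul, hkill, zero_comp]
  have htepi : ∀ n, Epi (t n) := by
    intro n
    induction n with
    | zero => exact ht0
    | succ n ih =>
      have key : ∀ {Z : X.Modules} (φ : G.obj (op (n + 1)) ⟶ Z), t (n + 1) ≫ φ = 0 →
          Formal.smulMod A (G.obj (op (n + 1))) f ≫ φ = 0 → φ = 0 := by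
        intro Z φ h₁ h₂
        have h3 : i n ≫ φ = 0 := by
          rw [← cancel_epi (t n), ← Category.assoc, hti, h₂, comp_zero]
        haveI := (hw n).epi_g
        have e : s (n + 1) ≫ (hw n).exact.desc φ h3 = φ := (hw n).exact.g_desc φ h3
        have := hsepi (n + 1)
        have h4 : (hw n).exact.desc φ h3 = 0 := by
          rw [← cancel_epi (s (n + 1 + 1)), comp_zero, ← hts (n + 1), Category.assoc, e, h₁]
        rw [← e, h4]
        exact comp_zero
      let π := cokernel.π (t (n + 1))
      have hπ : Formal.smulMod A _ f ≫ π = π ≫ Formal.smulMod A _ f := PunctCoh79.smulMod_naturality π f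
      haveI : Epi (Formal.smulMod A (cokernel (t (n + 1))) f) := Preadditive.epi_of_cancel_zero _ fun {Z} q hq => by
        rw [← cancel_epi π, comp_zero]
        refine key _ ?_ ?_
        · rw [← Category.assoc, cokernel.condition, zero_comp]
        · rw [← Category.assoc, hπ, Category.assoc, hq, comp_zero]
      have hpow : ∀ k, Epi (Formal.smulMod A (cokernel (t (n + 1))) (f ^ k)) := by
        intro k
        induction k with
        | zero => rw [pow_zero, PunctCoh79.smulMod_one]; infer_instance
        | succ k ihk => rw [pow_succ, PunctCoh79.smulMod_mul]; exact epi_comp _ _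
      refine Preadditive.epi_of_cancel_zero _ fun {Z} φ hφ => ?_
      have := hpow (n + 1 + 1)
      have e0 : π ≫ Formal.smulMod A (cokernel (t (n + 1))) (f ^ (n + 1 + 1)) = 0 := by
        rw [← PunctCoh79.smulMod_naturality, hkill, zero_comp]
      have hπ0 : π = 0 := by
        have h5 : Formal.smulMod A (cokernel (t (n + 1))) (f ^ (n + 1 + 1)) = 0 := by
          rw [← cancel_epi π, e0, comp_zero]
        have h6 : 𝟙 (cokernel (t (n + 1))) = 0 := by
          rw [← cancel_epi (Formal.smulMod A (cokernel (t (n + 1))) (f ^ (n + 1 + 1))), h5, zero_comp, comp_zero]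
        rw [← Category.comp_id π, h6, comp_zero]
      rw [← cokernel.π_desc (t (n + 1)) φ hφ, show cokernel.π (t (n + 1)) = 0 from hπ0, zero_comp]
  have hex : ∀ n {P : X.Modules} (φ : G.obj (op (n + 1)) ⟶ P),
      Formal.smulMod A (G.obj (op (n + 1))) (f ^ (n + 1)) ≫ φ = 0 → kernel.ι (t n) ≫ φ = 0 := by
    intro n
    induction n with
    | zero =>
      intro P φ hφ
      have hk : kernel.ι (t 0) ≫ s 1 = 0 := by rw [← hts 0, ← Category.assoc, kernel.condition, zero_comp]
      haveI := hi 0
      haveI : Mono (ShortComplex.mk (i 0) (G.map (homOfLE (Nat.zero_le (0 + 1))).op) (w 0)).f := hi 0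
      rw [← show (hw 0).exact.lift _ hk ≫ i 0 = kernel.ι (t 0) from (hw 0).exact.lift_f _ _, Category.assoc]
      have : i 0 ≫ φ = 0 := by
        rw [← cancel_epi (t 0), ← Category.assoc, hti, comp_zero]
        simpa using hφ
      rw [this, comp_zero]
    | succ n ih =>
      intro P φ hφ
      have := htepi n
      have hk : kernel.ι (t (n + 1)) ≫ s (n + 1 + 1) = 0 := by
        rw [← hts (n + 1), ← Category.assoc, kernel.condition, zero_comp]
      haveI := hi (n + 1)
      haveI := hi n
      haveI : Mono (ShortComplex.mk (i (n + 1)) (G.map (homOfLE (Nat.zero_le (n + 1 + 1))).op) (w (n + 1))).f := hi (n + 1)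
      let y : kernel (t (n + 1)) ⟶ G.obj (op (n + 1)) := (hw (n + 1)).exact.lift _ hk
      have hy : y ≫ i (n + 1) = kernel.ι (t (n + 1)) := (hw (n + 1)).exact.lift_f _ _
      have hcomm : i (n + 1) ≫ t (n + 1) = t n ≫ i n := by
        have := htepi (n + 1)
        rw [← cancel_epi (t (n + 1)), ← Category.assoc, hti, hti, PunctCoh79.smulMod_naturality]
      have hy0 : y ≫ t n = 0 := by
        rw [← cancel_mono (i n), zero_comp, Category.assoc, ← hcomm, ← Category.assoc, hy, kernel.condition]
      have h' : Formal.smulMod A (G.obj (op (n + 1))) (f ^ (n + 1)) ≫ (i (n + 1) ≫ φ) = 0 := by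
        have := htepi (n + 1)
        rw [← cancel_epi (t (n + 1)), comp_zero, ← Category.assoc, ← PunctCoh79.smulMod_naturality, Category.assoc,
          ← Category.assoc (t (n + 1)), hti]
        rw [pow_succ', PunctCoh79.smulMod_mul, Category.assoc] at hφ
        exact hφ
      rw [← hy, Category.assoc, ← kernel.lift_ι (t n) y hy0, Category.assoc, ih _ h', comp_zero]
  have hG : Formal2.IsQCohFormal (Ideal.span ({f} : Set A)) G := by
    refine ⟨fun n => hqc _, hKB, fun n => ?_⟩
    have h0 : Formal.smulFamily (Ideal.span ({f} : Set A) ^ (n + 1)) (G.obj (op (n + 1))) ≫ t n = 0 := by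
      refine Sigma.hom_ext _ _ fun a => ?_
      rw [comp_zero, ← Category.assoc, Formal.smulFamily, Sigma.ι_desc, PunctCoh79.smulMod_naturality,
        hKB n a.1 a.2, comp_zero]
    refine ⟨h0, ?_⟩
    let q := cokernel.π (Formal.smulFamily (Ideal.span ({f} : Set A) ^ (n + 1)) (G.obj (op (n + 1))))
    have hq : Formal.smulMod A (G.obj (op (n + 1))) (f ^ (n + 1)) ≫ q = 0 := by
      have := congrArg (Sigma.ι (fun _ : ↥(Ideal.span ({f} : Set A) ^ (n + 1)) => G.obj (op (n + 1)))
        ⟨f ^ (n + 1), Ideal.pow_mem_pow (Ideal.mem_span_singleton_self f) _⟩ ≫ ·)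
        (cokernel.condition (Formal.smulFamily (Ideal.span ({f} : Set A) ^ (n + 1)) (G.obj (op (n + 1)))))
      simp only [comp_zero] at this
      rwa [← Category.assoc, Formal.smulFamily, Sigma.ι_desc] at this
    have hS : (ShortComplex.mk (kernel.ι (t n)) (t n) (kernel.condition _)).Exact :=
      ShortComplex.exact_of_f_is_kernel _ (kernelIsKernel _)
    haveI := htepi n
    haveI : Epi (ShortComplex.mk (kernel.ι (t n)) (t n) (kernel.condition _)).g := htepi n
    have hψ : t n ≫ hS.desc q (hex n q hq) = q := hS.g_desc q (hex n q hq)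
    refine ⟨hS.desc q (hex n q hq), ?_, ?_⟩
    · rw [← cancel_epi q, ← Category.assoc, cokernel.π_desc, hψ, Category.comp_id]
    · rw [← cancel_epi (t n), ← Category.assoc, hψ, Category.comp_id]
      exact cokernel.π_desc _ _ _
  have hπt : ∀ n, limit.π G (op (n + 1)) ≫ t n = limit.π G (op n) := fun n => limit.w G _
  refine ⟨limit G, Preadditive.mono_of_cancel_zero _ fun {Z} x hx => limit.hom_ext fun n => ?_, ?_⟩
  · haveI := hi n.unop
    have h0 : x ≫ limit.π G (op (n.unop + 1)) ≫ Formal.smulMod A (G.obj (op (n.unop + 1))) f = 0 := by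
      rw [← PunctCoh79.smulMod_naturality, ← Category.assoc, hx, zero_comp]
    rw [← hti, ← Category.assoc (limit.π G _), hπt, ← Category.assoc] at h0
    rw [zero_comp]
    exact (cancel_mono (i n.unop)).1 (h0.trans zero_comp.symm)
  · exact Algz7.nonempty_iso_of_isQuot (P := Formal.completion (Ideal.span ({f} : Set A)) (limit G)) (Q := G)
      (Iso.refl _) (fun n => Formal.modPowπ (Ideal.span ({f} : Set A)) (n + 1) (limit G))
      (fun n => limit.π G (op n)) (fun n => Algz7.isQuot_modPowπ _ (n + 1) _)
      (fun n => PunctCoh79.isQuot_limit_π (Submodule.fg_span_singleton f) hG n)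
      (fun n => by rw [Algz7.completion_map_succ]; exact Formal.modPowπ_trans _ (n + 1) _) hπt

end Groth.Agent.S8830
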