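import Groth.Statements.S8847
import Groth.Statements.S8847
import Groth.Agent.Div86.FlatCartier.Sch

set_option autoImplicit false
universe u
open CategoryTheory CategoryTheory.Limits AlgebraicGeometry TopologicalSpace
open SDiv

namespace Groth.Agent.S8847

/-- Let φ : X ⟶ S be flat and locally of finite presentation and let 𝓘 be a quasi-coherent ideal sheaf
on X whose closed subscheme Z is flat and locally of finite presentation over S. If for every point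
s of S the inverse image ideal of 𝓘 on the scheme-theoretic fibre X_s is the ideal sheaf of an
effective Cartier divisor of X_s, then 𝓘 is the ideal sheaf of an effective Cartier divisor of X;
together with the flatness of Z over S this says Z is a relative effective Cartier divisor. -/
theorem result {X S : Scheme.{u}} (φ : X ⟶ S) [Flat φ] [LocallyOfFinitePresentation φ]
    (𝓘 : X.IdealSheafData) [Flat (𝓘.subschemeι ≫ φ)] [LocallyOfFinitePresentation (𝓘.subschemeι ≫ φ)]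
    (hfib : ∀ s : ↥S, BlowUp.IsEffCartierIdeal (𝓘.comap (φ.fiberι s))) :
    BlowUp.IsEffCartierIdeal 𝓘 := by
  refine (Div86.FlatCartier.isEffCartier_and_flat_of_charts φ 𝓘 fun x hx => ?_).1
  obtain ⟨s, w, rfl⟩ : ∃ s w, φ.fiberι s w = x := ⟨φ x, φ.asFiber x, φ.fiberι_asFiber x⟩
  obtain ⟨h, hh, hreg, hle⟩ := Div86.FlatCartier.exists_fibre_gen φ 𝓘 s w (hfib s)
  obtain ⟨V, hxV⟩ := FlatX.exists_chart φ (φ.fiberι s w)
  obtain ⟨U₀, hU₀, hx₀, e⟩ :=
    exists_isAffineOpen_mem_and_subset (x := φ.fiberι s w) (U := φ ⁻¹ᵁ V.1) hxV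
  have hfg : (𝓘.ideal ⟨U₀, hU₀⟩).FG := by
    have h1 := HasRingHomProperty.appLE @LocallyOfFinitePresentation φ inferInstance V ⟨U₀, hU₀⟩ e
    have h2 := HasRingHomProperty.appLE @LocallyOfFinitePresentation (𝓘.subschemeι ≫ φ) inferInstance
      V ⟨_, hU₀.preimage 𝓘.subschemeι⟩ (fun _ hy => e hy)
    have hc : ((𝓘.subschemeι ≫ φ).appLE V.1 (𝓘.subschemeι ⁻¹ᵁ U₀) (fun _ hy => e hy)).hom =
        (𝓘.subschemeι.app U₀).hom.comp (φ.appLE V.1 U₀ e).hom := by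
      rw [← CommRingCat.hom_comp, Scheme.Hom.app_eq_appLE, Scheme.Hom.appLE_comp_appLE]
    letI := (φ.appLE V.1 U₀ e).hom.toAlgebra
    letI := ((𝓘.subschemeι ≫ φ).appLE V.1 (𝓘.subschemeι ⁻¹ᵁ U₀) (fun _ hy => e hy)).hom.toAlgebra
    haveI : Algebra.FinitePresentation Γ(S, V.1) Γ(X, U₀) := h1
    haveI : Algebra.FinitePresentation Γ(S, V.1) Γ(𝓘.subscheme, 𝓘.subschemeι ⁻¹ᵁ U₀) := h2
    rw [← 𝓘.ker_subschemeι_app ⟨U₀, hU₀⟩]
    exact Algebra.FinitePresentation.ker_fG_of_surjective (R := Γ(S, V.1))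
      (⟨(𝓘.subschemeι.app U₀).hom, fun r => (RingHom.congr_fun hc r).symm⟩ :
        Γ(X, U₀) →ₐ[Γ(S, V.1)] Γ(𝓘.subscheme, 𝓘.subschemeι ⁻¹ᵁ U₀))
      (𝓘.subschemeι_app_surjective ⟨U₀, hU₀⟩)
  have hst := Div86.Descend.stI_eq 𝓘 ⟨U₀, hU₀⟩ hx₀
  refine Div86.FlatCartier.exists_chart_of_gen φ 𝓘 _ ⟨U₀, hU₀⟩ hx₀ hfg h
    (Div86.FlatCartier.stI_le_maximal 𝓘 hx hh) ?_ hreg
  exact Div86.FlatCartier.eq_span_of_fibre φ 𝓘 _ (hst ▸ hfg.map _) hh hle

end Groth.Agent.S8847
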