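import Groth.Statements.S8848
import Groth.Statements.S8848
import Groth.Agent.Div86.FlatCartier.Sch

set_option autoImplicit false
universe u
open CategoryTheory CategoryTheory.Limits AlgebraicGeometry TopologicalSpace
open SDiv

namespace Groth.Agent.S8848

/-- Let φ : X ⟶ S be flat and locally of finite presentation and let 𝓘 be a quasi-coherent ideal sheaf
on X which is locally principal (generated by one section on some affine open neighbourhood of each
point of its support). If for every point s of S the inverse image ideal of 𝓘 on the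
scheme-theoretic fibre X_s is the ideal sheaf of an effective Cartier divisor of X_s, then 𝓘 is the
ideal sheaf of an effective Cartier divisor of X and its closed subscheme is flat over S (a relative
effective Cartier divisor). -/
theorem result {X S : Scheme.{u}} (φ : X ⟶ S) [Flat φ] [LocallyOfFinitePresentation φ]
    (𝓘 : X.IdealSheafData) (hZ : Curv2.IsLocPrincipal 𝓘)
    (hfib : ∀ s : ↥S, BlowUp.IsEffCartierIdeal (𝓘.comap (φ.fiberι s))) :
    BlowUp.IsEffCartierIdeal 𝓘 ∧ Flat (𝓘.subschemeι ≫ φ) := by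
  refine Div86.FlatCartier.isEffCartier_and_flat_of_charts φ 𝓘 fun x hx => ?_
  obtain ⟨U₀, hx₀, f₀, hf₀⟩ := hZ x hx
  obtain ⟨s, w, rfl⟩ : ∃ s w, φ.fiberι s w = x := ⟨φ x, φ.asFiber x, φ.fiberι_asFiber x⟩
  have hgen := Div86.Descend.stI_eq_span 𝓘 U₀ hx₀ hf₀
  obtain ⟨h, hh, hreg, -⟩ := Div86.FlatCartier.exists_fibre_gen φ 𝓘 s w (hfib s)
  obtain ⟨c, hc⟩ := Ideal.mem_span_singleton.1 (hgen.le hh)
  refine Div86.FlatCartier.exists_chart_of_gen φ 𝓘 _ U₀ hx₀ (hf₀ ▸ Submodule.fg_span_singleton f₀) _
    (Div86.FlatCartier.stI_le_maximal 𝓘 hx (hgen.ge (Ideal.mem_span_singleton_self _))) hgen ?_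
  rw [hc, map_mul] at hreg
  exact (mul_mem_nonZeroDivisors.1 hreg).1

end Groth.Agent.S8848
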