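import Groth.Statements.S8861
import Groth.Agent.MeroX.EffCartier
import Groth.Agent.Div86.MeroFrac
-- import your own Groth.Agent.* helpers here

set_option autoImplicit false
universe u
open CategoryTheory CategoryTheory.Limits AlgebraicGeometry TopologicalSpace
open SDiv

namespace Groth.Agent.S8861

/-- Let f : X ⟶ Y be a morphism of schemes and 𝓘 the ideal sheaf of an effective Cartier divisor D ⊆ Y.
If f x ∉ D for every weakly associated point x of X (weakly associated point of the structure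
sheaf), then the inverse image ideal sheaf of 𝓘 on X is the ideal of an effective Cartier divisor,
i.e. the pullback of D by f is defined. -/
theorem result {X Y : Scheme.{u}} (f : X ⟶ Y) (𝓘 : Y.IdealSheafData)
    (hD : BlowUp.IsEffCartierIdeal 𝓘)
    (h : ∀ x : ↥X, Curv2.IsWeakAssPoint (Coh.structureModule X) x → f x ∉ 𝓘.support) :
    BlowUp.IsEffCartierIdeal (𝓘.comap f) := by
  intro x
  obtain ⟨U, hU, a, ha, hIa⟩ := hD (f x)
  obtain ⟨V, hV, hxV, hVU⟩ := exists_isAffineOpen_mem_and_subset (U := f ⁻¹ᵁ U.1) hU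
  have hVU' : V ≤ f ⁻¹ᵁ U.1 := hVU
  refine ⟨⟨V, hV⟩, hxV, f.appLE U.1 V hVU' a, ?_, ?_⟩
  · refine Div86.mem_nonZeroDivisors_of_wAss _ fun z hz hw => IsUnit.mem_nonZeroDivisors ?_
    have hu : IsUnit (Y.presheaf.germ U.1 (f z) (hVU' hz) a) := by
      refine (Y.mem_basicOpen a (f z) (hVU' hz)).1 ?_
      by_contra hn
      refine h z hw ((Scheme.IdealSheafData.mem_support_iff_of_mem (I := 𝓘) (U := U) (hVU' hz)).2 ?_)
      rw [hIa, Scheme.zeroLocus_span]
      refine (Y.mem_zeroLocus_iff _ _).2 ?_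
      rintro r rfl
      exact hn
    have h1 := hu.map (f.stalkMap z).hom
    replace h1 : IsUnit (X.presheaf.germ (f ⁻¹ᵁ U.1) z (hVU' hz) (f.app U.1 a)) :=
      (Scheme.Hom.germ_stalkMap_apply f U.1 z (hVU' hz) a).symm ▸ h1
    rw [Scheme.Hom.appLE]
    erw [CommRingCat.comp_apply, X.presheaf.germ_res_apply]
    exact h1
  · rw [ModPairLib.ideal_comap 𝓘 f U ⟨V, hV⟩ hVU', hIa, Ideal.map_span, Set.image_singleton]

end Groth.Agent.S8861
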