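import Groth.Statements.S8865
import Groth.Agent.Div86.MeroGen
-- import your own Groth.Agent.* helpers here

set_option autoImplicit false
universe u
open CategoryTheory CategoryTheory.Limits AlgebraicGeometry TopologicalSpace
open SDiv

namespace Groth.Agent.S8865

/-- Let X be a quasi-compact scheme, h a global section of O_X and f a global section of the sheaf of
meromorphic functions K_X whose restriction to the open X_h where h is invertible vanishes. Then h^n
f = 0 in K_X(X) for some natural number n. -/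
theorem result (X : Scheme.{u}) [CompactSpace ↥X] (h : Γ(X, ⊤))
    (f : Γ(Mero.kmod X, ⊤)) (hf : (Mero.kmod X).presheaf.map (homOfLE (le_top : X.basicOpen h ≤ ⊤)).op f = 0) :
    ∃ n : ℕ, Mero.toK X ⊤ h ^ n * f = 0 := by
  have hloc : ∀ x : X, ∃ (W : X.Opens) (_ : x ∈ W) (n : ℕ), ∀ y : W,
      (Mero.toK X ⊤ h).1 ⟨y.1, trivial⟩ ^ n * f.1 ⟨y.1, trivial⟩ = 0 := by
    intro x
    obtain ⟨W₀, hxW₀, i, a₀, b₀, hab⟩ := f.2 ⟨x, trivial⟩
    obtain ⟨W, hW, hxW, hWW⟩ := exists_isAffineOpen_mem_and_subset hxW₀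
    have hWW' : W ≤ W₀ := hWW
    let a : Γ(X, W) := X.presheaf.map (homOfLE hWW').op a₀
    let R : Γ(X, ⊤) →+* Γ(X, W) := (X.presheaf.map (homOfLE le_top).op).hom
    haveI := hW.isLocalization_basicOpen (R h)
    have hz : algebraMap Γ(X, W) Γ(X, X.basicOpen (R h)) a = 0 := by
      refine TopCat.Presheaf.section_ext X.sheaf _ _ 0 fun y hy => ?_
      have hyW : y ∈ W := X.basicOpen_le _ hy
      have hyh : y ∈ X.basicOpen h :=
        ((show X.basicOpen (R h) = _ from X.basicOpen_res _ _).le hy).2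
      refine Eq.trans (X.presheaf.germ_res_apply _ y hy a) ?_
      refine Eq.trans (X.presheaf.germ_res_apply _ y hyW a₀) ?_
      refine Eq.trans ?_ (map_zero _).symm
      apply Mero.algebraMap_KStalk_injective y
      refine Eq.trans ?_ (map_zero _).symm
      rw [← Div86.mk_mul_algebraMap (X.presheaf.germ W₀ y (hWW' hyW) a₀)
        (Mero.regGerm ⟨y, hWW' hyW⟩ b₀)]
      refine mul_eq_zero_of_left ((hab ⟨y, hWW' hyW⟩).symm.trans ?_) _
      exact congrArg (fun t : Γ(Mero.kmod X, X.basicOpen h) => t.1 ⟨y, hyh⟩) hf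
    obtain ⟨⟨_, n, rfl⟩, hn⟩ := (IsLocalization.map_eq_zero_iff (Submonoid.powers (R h)) _ a).1 hz
    refine ⟨W, hxW, n, fun y => ?_⟩
    have h1 := congrArg (fun r => algebraMap (X.presheaf.stalk y.1) (Mero.KStalk X y.1)
      (X.presheaf.germ W y.1 y.2 r)) hn
    simp only [R, a, map_mul, map_pow, map_zero, TopCat.Presheaf.germ_res_apply] at h1
    refine (IsLocalization.map_units (Mero.KStalk X y.1)
      (Mero.regGerm ⟨y.1, hWW' y.2⟩ b₀)).mul_left_eq_zero.1 ?_
    rw [mul_assoc]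
    refine Eq.trans (congrArg (_ * ·) ?_) h1
    exact (congrArg (· * _) (hab ⟨y.1, hWW' y.2⟩)).trans (Div86.mk_mul_algebraMap _ _)
  choose W hxW n hn using hloc
  obtain ⟨S, hS⟩ := isCompact_univ.elim_finite_subcover (fun x : X => (W x : Set X)) (fun x => (W x).2)
    (fun x _ => Set.mem_iUnion.2 ⟨x, hxW x⟩)
  refine ⟨S.sup n, Subtype.ext (funext fun y => ?_)⟩
  obtain ⟨x, hx, hyx⟩ := Set.mem_iUnion₂.1 (hS (Set.mem_univ y.1))
  refine (map_mul (Mero.evalK X ⊤ y) _ f).trans ?_
  rw [map_pow, ← Nat.sub_add_cancel (Finset.le_sup (f := n) hx), pow_add, mul_assoc]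
  refine Eq.trans (congrArg (_ * ·) (hn x ⟨y.1, hyx⟩)) ?_
  exact mul_zero _

end Groth.Agent.S8865
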