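import Groth.Statements.S8891
import Groth.Agent.Div86.IsoDepth
-- import your own Groth.Agent.* helpers here

set_option autoImplicit false
set_option backward.isDefEq.respectTransparency false
set_option backward.isDefEq.respectTransparency.types false
universe u
open CategoryTheory CategoryTheory.Limits AlgebraicGeometry TopologicalSpace
open SDiv

namespace Groth.Agent.S8891

/-- Let X be an integral locally Noetherian scheme and φ : F ⟶ G a morphism of quasi-coherent
O_X-modules with F coherent and G torsion free. Assume that for every point x either the stalk map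
F_x → G_x is an isomorphism, or depth(F_x) ≥ 2 and x is not the generic point of X. Then φ is an
isomorphism. (The published statement allows the second alternative at the generic point as well;
since the zero module has infinite depth, F = 0 and G = O_X then satisfy every hypothesis while 0 →
O_X is not an isomorphism. The general criterion this is a special case of requires x not to be
associated to G, which for torsion-free G ≠ 0 fails exactly at the generic point; so the generic
point is excluded from the second alternative here.) -/
theorem result (X : Scheme.{u}) [IsIntegral X] [IsLocallyNoetherian X] {F G : X.Modules}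
    (φ : F ⟶ G) (hF : Coh.IsCoh F) (hG : Coh.IsQCoh G)
    (htf : ∀ x : ↥X, NoZeroSMulDivisors ↑(X.presheaf.stalk x) ↑(G.presheaf.stalk x))
    (h : ∀ x : ↥X, Function.Bijective ((TopCat.Presheaf.stalkFunctor AddCommGrpCat.{u} x).map (Scheme.Modules.Hom.mapPresheaf φ)) ∨
      ((2 : ℕ∞) ≤ LocCoh.depth (X.presheaf.stalk x) (F.presheaf.stalk x) ∧ x ≠ genericPoint ↥X)) :
    IsIso φ := by
  refine Div86.isIso_of_depth_two φ hF hG fun x => (h x).imp id fun hx => ⟨hx.1, fun hass => ?_⟩
  obtain ⟨-, c, hc⟩ := isAssociatedPrime_iff.1 hass
  haveI := htf x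
  have hm : IsLocalRing.maximalIdeal (X.presheaf.stalk x) = ⊥ := eq_bot_iff.2 fun r hr => by
    have h1 := Submodule.mem_colon_singleton.1 (hc ▸ hr)
    rw [Submodule.mem_bot] at h1
    refine Ideal.mem_bot.2 ((smul_eq_zero.1 h1).resolve_right fun hc0 => ?_)
    refine (IsLocalRing.maximalIdeal.isMaximal (X.presheaf.stalk x)).ne_top (hc.trans ?_)
    exact top_unique fun r _ => Submodule.mem_colon_singleton.2 (by rw [hc0, smul_zero]; exact zero_mem _)
  refine hx.2 ?_
  obtain ⟨V, hV, hxV, -⟩ := exists_isAffineOpen_mem_and_subset (x := x) (U := ⊤) trivial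
  have hgx : genericPoint X ⤳ x := genericPoint_specializes x
  have hgV : genericPoint X ∈ V := hgx.mem_open V.2 hxV
  haveI : Nonempty V := ⟨⟨x, hxV⟩⟩
  letI := QCoh.stalkAlg (X := X) hxV
  haveI := QCoh.isLocalization_stalk' hV hxV
  have hP : (hV.primeIdealOf ⟨x, hxV⟩).asIdeal ≤ (hV.primeIdealOf ⟨genericPoint X, hgV⟩).asIdeal := by
    intro r hr
    rw [← IsLocalization.AtPrime.comap_maximalIdeal (X.presheaf.stalk x) (hV.primeIdealOf ⟨x, hxV⟩).asIdeal,
      hm] at hr
    have h0 : X.presheaf.germ V x hxV r = 0 := hr
    have : r = 0 := germ_injective_of_isIntegral X x hxV (h0.trans (map_zero _).symm)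
    rw [this]
    exact zero_mem _
  exact (((AssPtX.primeIdealOf_le_iff hV hxV hgV).1 hP).antisymm hgx).eq

end Groth.Agent.S8891
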