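import Groth.Statements.S8906
import Groth.Statements.S8906
import Groth.Agent.AlgSpC7.RegImmLocal

set_option autoImplicit false
universe u
open CategoryTheory CategoryTheory.Limits AlgebraicGeometry TopologicalSpace
open SDiv

namespace Groth.Agent.S8906

/-- Let i : Z ⟶ X be an immersion which is regular of one of the four kinds (regular, Koszul-regular,
H_1-regular or quasi-regular) and g : X' ⟶ X a flat morphism. Then the base change Z ×_X X' ⟶ X' of
i is a regular immersion of the same kind. -/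
theorem result {Z X X' : Scheme.{u}} (i : Z ⟶ X) (k : RegImm.Kind)
    (hi : RegImm.IsRegularImmersion k i) (g : X' ⟶ X) [Flat g] :
    RegImm.IsRegularImmersion k (pullback.snd i g) := by
  have hsq : IsPullback (pullback.fst i g) (pullback.snd i g) i g := IsPullback.of_hasPullback i g
  by_cases hk : k = .koszul ∨ k = .h1 ∨ k = .quasi
  · obtain ⟨K⟩ := AlgSpC7.nonempty_seqKind.{u} hk
    exact K.baseChange hsq hi
  obtain rfl : k = .regular := by
    cases k with
    | regular => rfl
    | koszul => exact absurd (Or.inl rfl) hk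
    | h1 => exact absurd (Or.inr (Or.inl rfl)) hk
    | quasi => exact absurd (Or.inr (Or.inr rfl)) hk
  haveI := hi.1
  refine ⟨MorphismProperty.of_isPullback (P := @IsImmersion) hsq hi.1, fun z' => ?_⟩
  obtain ⟨⟨U, hU⟩, hzU, hci, rs, hrs, hker⟩ := hi.2 (pullback.fst i g z')
  have hx : g (pullback.snd i g z') ∈ U := by
    have h1 : g (pullback.snd i g z') = i (pullback.fst i g z') :=
      (congrArg (fun φ : pullback i g ⟶ X => φ z') hsq.w).symm
    rw [h1]
    exact hzU
  obtain ⟨U', hU', hzU', hle⟩ :=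
    exists_isAffineOpen_mem_and_subset (U := g ⁻¹ᵁ U) (x := pullback.snd i g z') hx
  obtain ⟨hUY, hUs⟩ := Synt29.surjective_app_of_isClosedImmersion_restrict i U hU
  have hUY' : (pullback.snd i g) ⁻¹ᵁ U' =
      (pullback.fst i g) ⁻¹ᵁ (i ⁻¹ᵁ U) ⊓ (pullback.snd i g) ⁻¹ᵁ U' := by
    refine (inf_eq_right.2 fun y hy => ?_).symm
    show i (pullback.fst i g y) ∈ U
    have h1 : i (pullback.fst i g y) = g (pullback.snd i g y) :=
      congrArg (fun φ : pullback i g ⟶ X => φ y) hsq.w
    rw [h1]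
    exact hle hy
  have hpo := (isIso_pushoutSection_iff hsq hle le_rfl hUY').1
    (isIso_pushoutSection_of_isAffineOpen hsq hle le_rfl hUY' hU hU' hUY)
  have hs : Function.Surjective (i.appLE U (i ⁻¹ᵁ U) le_rfl) := by
    rw [← Scheme.Hom.app_eq_appLE]
    exact hUs
  have hk' := RegImmLib.ker_of_isPushout hpo hs
  rw [← Scheme.Hom.app_eq_appLE, ← Scheme.Hom.app_eq_appLE] at hk'
  letI : Algebra Γ(X, U) Γ(X', U') := (g.appLE U U' hle).hom.toAlgebra
  haveI : Module.Flat Γ(X, U) Γ(X', U') := g.flat_appLE hU hU' hle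
  have hI' : RingHom.ker ((pullback.snd i g).app U').hom = Ideal.ofList (rs.map (algebraMap Γ(X, U) Γ(X', U'))) := by
    rw [hk', hker, Ideal.map_ofList]
    rfl
  refine ⟨⟨U', hU'⟩, hzU', ?_, rs.map (algebraMap Γ(X, U) Γ(X', U')), ⟨?_, ?_⟩, hI'⟩
  · have h2 := Scheme.Hom.isPullback_resLE hsq hle le_rfl hUY'
    have h3 : IsClosedImmersion (i.resLE U (i ⁻¹ᵁ U) le_rfl) := by
      rw [Scheme.Hom.resLE_eq_morphismRestrict]
      exact hci
    rw [← Scheme.Hom.resLE_eq_morphismRestrict]
    exact MorphismProperty.of_isPullback (P := @IsClosedImmersion) h2 h3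
  · exact hrs.toIsWeaklyRegular.of_flat (S := Γ(X', U'))
  · rw [smul_eq_mul, Ideal.mul_top, ← hI']
    intro h
    have h1 : (1 : Γ(X', U')) ∈ RingHom.ker ((pullback.snd i g).app U').hom := h.le trivial
    rw [RingHom.mem_ker, map_one] at h1
    haveI : Subsingleton Γ(pullback i g, (pullback.snd i g) ⁻¹ᵁ U') := subsingleton_of_zero_eq_one h1.symm
    haveI : Nonempty ↥((pullback.snd i g) ⁻¹ᵁ U') := ⟨⟨z', hzU'⟩⟩
    exact false_of_nontrivial_of_subsingleton Γ(pullback i g, (pullback.snd i g) ⁻¹ᵁ U')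

end Groth.Agent.S8906
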