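import Groth.Statements.S8909
import Groth.Agent.Div86.DivPart

set_option autoImplicit false
set_option linter.style.haveILetI false
set_option backward.isDefEq.respectTransparency false
set_option backward.isDefEq.respectTransparency.types false
universe u
open CategoryTheory CategoryTheory.Limits AlgebraicGeometry TopologicalSpace
open SDiv

namespace Groth.Agent.S8909

theorem coheight_succ_le {X : Scheme.{u}} {y z : X} (h : y ⤳ z) (hne : y ≠ z) :
    Order.coheight y + 1 ≤ Order.coheight z :=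
  Order.coheight_add_one_le (show z < y from lt_of_le_not_ge h fun h' => hne (Specializes.antisymm h h').eq)

/-- Let X be a Noetherian scheme and Z ⊆ X a closed subscheme with ideal sheaf 𝓩. Suppose given a family
of integral effective Cartier divisors D_i ⊆ X (ideal sheaves 𝓓_i, i ∈ I) and a closed subset Z' ⊆ X
whose irreducible components all have codimension at least 2 in X (the local ring of X at each
maximal point of Z' has dimension ≥ 2), such that Z ⊆ Z' ∪ ⋃ D_i set-theoretically. Then there are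
integers a_i ≥ 0, almost all zero, such that the effective Cartier divisor D = Σ a_i D_i (with ideal
sheaf the product of the 𝓓_i^{a_i}) is contained in Z as a closed subscheme and the inclusion D → Z
is an isomorphism outside codimension 2: for some open U ⊆ X the ideal sheaves of D and Z agree on U
and every irreducible component of Z ∖ U has codimension ≥ 2 in X. The published statement also
asserts that such D_i and Z' exist when Z is nowhere dense in X and either every local ring of X at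
a point of Z is factorial or X is regular; this row does not. -/
theorem result (X : Scheme.{u}) [IsNoetherian X] (𝓩 : X.IdealSheafData)
    {I : Type u} (𝓓 : I → X.IdealSheafData) (hD : ∀ i, BlowUp.IsEffCartierIdeal (𝓓 i)) (hDint : ∀ i, IsIntegral (𝓓 i).subscheme)
    (Z' : Set ↥X) (hZ' : IsClosed Z')
    (hcodim : ∀ z ∈ Z', (∀ y ∈ Z', y ⤳ z → y = z) → (2 : WithBot ℕ∞) ≤ ringKrullDim ↑(X.presheaf.stalk z))
    (hcover : (𝓩.support : Set ↥X) ⊆ Z' ∪ ⋃ i, ((𝓓 i).support : Set ↥X)) :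
    ∃ a : I →₀ ℕ, 𝓩 ≤ a.prod (fun i n => 𝓓 i ^ n) ∧
      ∃ U : X.Opens, (a.prod (fun i n => 𝓓 i ^ n)).comap U.ι = 𝓩.comap U.ι ∧
        ∀ z ∈ (𝓩.support : Set ↥X) \ (U : Set ↥X), (∀ y ∈ (𝓩.support : Set ↥X) \ (U : Set ↥X), y ⤳ z → y = z) →
          (2 : WithBot ℕ∞) ≤ ringKrullDim ↑(X.presheaf.stalk z) := by
  open Groth.Agent.Div86.DivPart Groth.Agent in
  classical
  haveI := hDint
  -- points of `Z` are not maximal
  have hdim1 : ∀ z ∈ 𝓩.support, (1 : WithBot ℕ∞) ≤ ringKrullDim ↑(X.presheaf.stalk z) := by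
    intro z hz
    by_contra hlt
    have h0 : Order.coheight z = 0 := by
      rw [ringKrullDim_stalk_eq_coheight, show (1 : WithBot ℕ∞) = ((1 : ℕ∞) : WithBot ℕ∞) from rfl,
        WithBot.coe_le_coe, not_le, Order.lt_one_iff] at hlt
      exact hlt
    have hmax : ∀ y : X, y ⤳ z → y = z := fun y hy => by
      by_contra hne
      have := coheight_succ_le hy hne
      rw [h0] at this
      simp at this
    rcases hcover hz with h | h
    · exact hlt ((by decide : (1 : WithBot ℕ∞) ≤ 2).trans (hcodim z h fun y _ hy => hmax y hy))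
    · obtain ⟨i, hi⟩ := Set.mem_iUnion.1 h
      exact hlt (one_le_dim_of_mem_support (hD i) hi)
  -- finitely many divisors meet the maximal points of `Z`
  let ξ : I → X := fun i => gpt (𝓓 i)
  have hξd : ∀ i, ringKrullDim ↑(X.presheaf.stalk (ξ i)) ≤ 1 := fun i => (exists_uniformizer (hD i)).1
  have heq : ∀ (i : I) (y : X), y ∈ 𝓩.support → y ⤳ ξ i → y = ξ i := by
    intro i y hy hyx
    by_contra hne
    have h1 := hdim1 y hy
    have h2 := hξd i
    rw [ringKrullDim_stalk_eq_coheight] at h1 h2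
    have h5 : Order.coheight y + 1 ≤ 1 := (coheight_succ_le hyx hne).trans (WithBot.coe_le_coe.1 h2)
    exact absurd ((add_le_add (WithBot.coe_le_coe.1 h1) le_rfl).trans h5) (by decide)
  let S : Set X := {x | x ∈ 𝓩.support ∧ ∃ i, ξ i = x}
  have hS : S.Finite := by
    obtain ⟨t, ht, htop⟩ := isCompact_iff_finite_and_eq_biUnion_affineOpens.mp
      (show IsCompact ((⊤ : X.Opens) : Set X) from isCompact_univ)
    have hsub : S ⊆ ⋃ V ∈ t, S ∩ (V.1 : Set X) := fun x hx => by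
      have hx' : x ∈ ⨆ (V : X.affineOpens) (_ : V ∈ t), (V : X.Opens) := htop ▸ trivial
      simp only [Opens.mem_iSup] at hx'
      obtain ⟨V, hV, hxV⟩ := hx'
      exact Set.mem_iUnion₂.2 ⟨V, hV, hx, hxV⟩
    refine (ht.biUnion fun V _ => ?_).subset hsub
    haveI := IsLocallyNoetherian.component_noetherian (X := X) V
    refine Set.Finite.of_finite_image (f := fun x => if h : x ∈ V.1 then (V.2.primeIdealOf ⟨x, h⟩).asIdeal else ⊥)
      (((𝓩.ideal V).finite_minimalPrimes_of_isNoetherianRing).subset ?_) ?_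
    · rintro _ ⟨x, ⟨⟨hxZ, i, rfl⟩, hxV⟩, rfl⟩
      dsimp only
      rw [dif_pos (show ξ i ∈ V.1 from hxV)]
      refine ⟨⟨inferInstance, ideal_le_prime 𝓩 V.2 hxV hxZ⟩, fun q hq hle => ?_⟩
      obtain ⟨y, hy, hyq⟩ := QCoh.exists_point V.2 ⟨q, hq.1⟩
      have hy' : (V.2.primeIdealOf ⟨y, hy⟩).asIdeal = q := congrArg PrimeSpectrum.asIdeal hyq
      have hyx := (AssPtX.primeIdealOf_le_iff V.2 hy hxV).1 (hy'.le.trans hle)
      obtain rfl := heq i y (mem_support_of_le_prime 𝓩 V.2 hy (hq.2.trans hy'.ge)) hyx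
      exact hy'.le
    · rintro x ⟨-, hx⟩ y ⟨-, hy⟩ hxy
      have hx' : x ∈ V.1 := hx
      have hy' : y ∈ V.1 := hy
      simp only [dif_pos hx', dif_pos hy'] at hxy
      exact (Specializes.antisymm ((AssPtX.primeIdealOf_le_iff V.2 hx' hy').1 hxy.le)
        ((AssPtX.primeIdealOf_le_iff V.2 hy' hx').1 hxy.ge)).eq
  -- multiplicities
  have hmult : ∀ i, ξ i ∈ 𝓩.support → ∃ n : ℕ, ∀ (V : X.Opens) (hV : IsAffineOpen V) (hξ : ξ i ∈ V),
      (𝓩.ideal ⟨V, hV⟩).map (X.presheaf.germ V (ξ i) hξ).hom =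
        IsLocalRing.maximalIdeal (X.presheaf.stalk (ξ i)) ^ n := by
    intro i hi
    have hindep : ∀ (V V' : X.Opens) (hV : IsAffineOpen V) (hV' : IsAffineOpen V') (h : V' ≤ V) (hξ : ξ i ∈ V'),
        (𝓩.ideal ⟨V, hV⟩).map (X.presheaf.germ V (ξ i) (h hξ)).hom =
          (𝓩.ideal ⟨V', hV'⟩).map (X.presheaf.germ V' (ξ i) hξ).hom := fun V V' hV hV' h hξ => by
      rw [← 𝓩.map_ideal (U := ⟨V', hV'⟩) (V := ⟨V, hV⟩) h, Ideal.map_map, ← CommRingCat.hom_comp]
      exact congrArg (fun φ : Γ(X, V) ⟶ X.presheaf.stalk (ξ i) => (𝓩.ideal ⟨V, hV⟩).map φ.hom)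
        (X.presheaf.germ_res (homOfLE h) (ξ i) hξ).symm
    obtain ⟨U, hξU, f, hf, hDf⟩ := hD i (ξ i)
    have hπ := (exists_uniformizer (hD i)).2 U.1 U.2 hξU f hDf
    have hne : (𝓩.ideal U).map (X.presheaf.germ U.1 (ξ i) hξU).hom ≠ ⊥ := by
      intro hbot
      letI := QCoh.stalkAlg (X := X) hξU
      haveI := QCoh.isLocalization_stalk' U.2 hξU
      obtain ⟨q, hq, hqle⟩ := Ideal.exists_le_maximal (⊥ : Ideal (X.presheaf.stalk (ξ i))) bot_ne_top
      obtain ⟨P, hP, hPq⟩ := Ideal.exists_minimalPrimes_le (I := (⊥ : Ideal (X.presheaf.stalk (ξ i)))) (J := q)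
        bot_le
      haveI := hP.1.1
      obtain ⟨y, hy, hyq⟩ := QCoh.exists_point U.2 ⟨P.comap (X.presheaf.germ U.1 (ξ i) hξU).hom, Ideal.comap_isPrime _ _⟩
      have hy' : (U.2.primeIdealOf ⟨y, hy⟩).asIdeal = P.comap (X.presheaf.germ U.1 (ξ i) hξU).hom :=
        congrArg PrimeSpectrum.asIdeal hyq
      have hyZ : y ∈ 𝓩.support := mem_support_of_le_prime 𝓩 U.2 hy fun g hg => by
        have h1 : X.presheaf.germ U.1 (ξ i) hξU g ∈ (⊥ : Ideal (X.presheaf.stalk (ξ i))) :=
          hbot.le (Ideal.mem_map_of_mem _ hg)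
        rw [hy', Ideal.mem_comap]
        exact bot_le (a := P) h1
      have hyx : y ⤳ ξ i := (AssPtX.primeIdealOf_le_iff U.2 hy hξU).1 (by
        rw [hy', ← IsLocalization.AtPrime.under_maximalIdeal (X.presheaf.stalk (ξ i))
          (U.2.primeIdealOf ⟨ξ i, hξU⟩).asIdeal]
        exact Ideal.comap_mono (IsLocalRing.le_maximalIdeal hP.1.1.ne_top))
      obtain rfl := heq i y hyZ hyx
      have hfP : X.presheaf.germ U.1 (ξ i) hξU f ∈ P := by
        show f ∈ P.comap _
        rw [← hy', prime_eq (𝓓 i) U.2 hξU, hDf]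
        exact Ideal.mem_span_singleton_self f
      exact Set.disjoint_left.1 (Ideal.disjoint_nonZeroDivisors_of_mem_minimalPrimes hP).symm
        (germ_mem_nonZeroDivisors U.2 hf hξU) hfP
    obtain ⟨n, hn⟩ := exists_eq_pow hπ _ hne
    refine ⟨n, fun V hV hξ => ?_⟩
    obtain ⟨W, hW, hξW, hle⟩ := exists_isAffineOpen_mem_and_subset (x := ξ i) (U := U.1 ⊓ V) ⟨hξU, hξ⟩
    rw [hindep V W hV hW (fun y hy => (hle hy).2) hξW, ← hindep U.1 W U.2 hW (fun y hy => (hle hy).1) hξW]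
    exact hn
  choose! n hn using hmult
  choose rep hrep using fun x : S => x.2.2
  haveI := hS.fintype
  let T : Finset I := Finset.univ.image rep
  have hT : ∀ i ∈ T, ξ i ∈ 𝓩.support ∧ ∃ x : S, x.1 = ξ i ∧ rep x = i := by
    intro i hi
    obtain ⟨x, -, rfl⟩ := Finset.mem_image.1 hi
    exact ⟨(hrep x).symm ▸ x.2.1, x, (hrep x).symm, rfl⟩
  have hinj : ∀ i ∈ T, ∀ j ∈ T, ξ i = ξ j → i = j := fun i hi j hj h => by
    obtain ⟨-, x, hx, rfl⟩ := hT i hi
    obtain ⟨-, y, hy, rfl⟩ := hT j hj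
    rw [Subtype.ext (a1 := x) (a2 := y) (hx.trans (h.trans hy.symm))]
  let a : I →₀ ℕ := Finsupp.indicator T fun i _ => n i
  have hprod : a.prod (fun i n => 𝓓 i ^ n) = ∏ i ∈ T, 𝓓 i ^ n i := by
    rw [Finsupp.prod_of_support_subset a (Finsupp.support_indicator_subset T _) _ fun i _ => pow_zero _]
    exact Finset.prod_congr rfl fun i hi => by simp [a, hi]
  have hideal : ∀ V, (∏ i ∈ T, 𝓓 i ^ n i).ideal V = ∏ i ∈ T, (𝓓 i).ideal V ^ n i := fun V => by
    induction T using Finset.induction_on with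
    | empty => simp [Ideal.one_eq_top]
    | insert j t hj ih => rw [Finset.prod_insert hj, Finset.prod_insert hj, ← ih]; rfl
  -- charts on which the relevant divisors are principal
  have hchart : ∀ x : X, ∃ (W : X.Opens) (hW : IsAffineOpen W) (_ : x ∈ W) (g : I → Γ(X, W)),
      ∀ i ∈ T, g i ∈ nonZeroDivisors Γ(X, W) ∧ (𝓓 i).ideal ⟨W, hW⟩ = Ideal.span {g i} := by
    intro x
    choose U hxU f hf hDf using fun i => hD i x
    have hx : x ∈ T.inf (fun i => (U i).1) := Finset.inf_induction (p := fun V : X.Opens => x ∈ V) trivial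
      (fun _ ha _ hb => ⟨ha, hb⟩) (fun i _ => hxU i)
    obtain ⟨W, hW, hxW, hle⟩ := exists_isAffineOpen_mem_and_subset (x := x) (U := T.inf (fun i => (U i).1)) hx
    refine ⟨W, hW, hxW, fun i => if h : W ≤ (U i).1 then AModX.resR h (f i) else 1, fun i hi => ?_⟩
    have h : W ≤ (U i).1 := fun y hy => Finset.inf_le (f := fun i => (U i).1) hi (hle hy)
    simp only [dif_pos h]
    refine ⟨res_mem_nonZeroDivisors (U i).2 h (hf i), ?_⟩
    rw [← (𝓓 i).map_ideal (U := ⟨W, hW⟩) (V := U i) h, hDf i, Ideal.map_span, Set.image_singleton]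
    rfl
  have hle : ∀ (W : X.Opens) (hW : IsAffineOpen W) (g : I → Γ(X, W)),
      (∀ i ∈ T, g i ∈ nonZeroDivisors Γ(X, W) ∧ (𝓓 i).ideal ⟨W, hW⟩ = Ideal.span {g i}) →
      𝓩.ideal ⟨W, hW⟩ ≤ (∏ i ∈ T, 𝓓 i ^ n i).ideal ⟨W, hW⟩ := by
    intro W hW g hg f hf
    rw [hideal, ← Finset.prod_filter_mul_prod_filter_not T (fun i => ξ i ∈ W),
      Finset.prod_eq_one (s := T.filter fun i => ¬ ξ i ∈ W) fun i hi => ?_, mul_one]
    swap
    · rw [eq_top_of_disjoint (𝓓 i) hW fun y hy hys =>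
        (Finset.mem_filter.1 hi).2 ((gpt_specializes (𝓓 i) hys).mem_open W.2 hy), ← Ideal.one_eq_top, one_pow]
    rw [Finset.prod_congr rfl fun i hi => show (𝓓 i).ideal ⟨W, hW⟩ ^ n i = Ideal.span {g i ^ n i} by
      rw [(hg i (Finset.mem_filter.1 hi).1).2, Ideal.span_singleton_pow], Ideal.prod_span_singleton]
    have hp : ∀ i ∈ T.filter (fun i => ξ i ∈ W), ∃ h : ξ i ∈ W,
        (hW.primeIdealOf ⟨ξ i, h⟩).asIdeal = Ideal.span {g i} := fun i hi =>
      ⟨(Finset.mem_filter.1 hi).2, (prime_eq (𝓓 i) hW _).trans (hg i (Finset.mem_filter.1 hi).1).2⟩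
    refine mem_span_prod _ _ _ (fun i hi => (hg i (Finset.mem_filter.1 hi).1).1) (fun i hi => ?_) (fun i hi j hj hij hmem => ?_)
      f fun i hi => ?_
    · obtain ⟨h, he⟩ := hp i hi
      rw [← he]
      infer_instance
    · obtain ⟨h, he⟩ := hp i hi
      obtain ⟨h', he'⟩ := hp j hj
      have hsp := (AssPtX.primeIdealOf_le_iff hW h h').1 (by
        rw [he, he', Ideal.span_singleton_le_iff_mem]; exact hmem)
      exact hij (hinj i (Finset.mem_filter.1 hi).1 j (Finset.mem_filter.1 hj).1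
        (heq j _ (hT i (Finset.mem_filter.1 hi).1).1 hsp))
    · obtain ⟨h, he⟩ := hp i hi
      letI := QCoh.stalkAlg (X := X) h
      haveI := QCoh.isLocalization_stalk' hW h
      have h1 : algebraMap Γ(X, W) (X.presheaf.stalk (ξ i)) f ∈
          (Ideal.span {g i ^ n i}).map (algebraMap Γ(X, W) (X.presheaf.stalk (ξ i))) := by
        rw [Ideal.map_span, Set.image_singleton, map_pow, ← Ideal.span_singleton_pow]
        refine Eq.mp ?_ (Ideal.mem_map_of_mem (X.presheaf.germ W (ξ i) h).hom hf)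
        rw [hn i (hT i (Finset.mem_filter.1 hi).1).1 W hW h, (exists_uniformizer (hD i)).2 W hW h (g i)
          (hg i (Finset.mem_filter.1 hi).1).2]
        rfl
      obtain ⟨t, ht, htf⟩ := (IsLocalization.algebraMap_mem_map_algebraMap_iff
        (hW.primeIdealOf ⟨ξ i, h⟩).asIdeal.primeCompl (X.presheaf.stalk (ξ i)) _ _).1 h1
      exact ⟨t, he ▸ ht, htf⟩
  choose W hW hxW g hg using hchart
  have hZle : 𝓩 ≤ a.prod (fun i n => 𝓓 i ^ n) := by
    rw [hprod]
    exact Scheme.IdealSheafData.le_of_iSup_eq_top (fun x : X => ⟨W x, hW x⟩)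
      (top_le_iff.1 fun x _ => Opens.mem_iSup.2 ⟨x, hxW x⟩) fun x => hle _ (hW x) (g x) (hg x)
  refine ⟨a, hZle, ⨆ (V : X.affineOpens) (_ : (a.prod (fun i n => 𝓓 i ^ n)).ideal V = 𝓩.ideal V), V.1, ?_, ?_⟩
  · set U : X.Opens := ⨆ (V : X.affineOpens) (_ : (a.prod (fun i n => 𝓓 i ^ n)).ideal V = 𝓩.ideal V), V.1
    let J := {W' : (U : Scheme.{u}).affineOpens // ∃ V : X.affineOpens,
      (a.prod (fun i n => 𝓓 i ^ n)).ideal V = 𝓩.ideal V ∧ U.ι ''ᵁ W'.1 ≤ V.1}
    refine Scheme.IdealSheafData.ext_of_iSup_eq_top (fun W' : J => W'.1) ?_ ?_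
    · refine top_le_iff.1 fun x _ => ?_
      have hx : (x.1 : X) ∈ U := x.2
      simp only [U, Opens.mem_iSup] at hx
      obtain ⟨V, hV, hxV⟩ := hx
      obtain ⟨W', hW', hxW', hle'⟩ := exists_isAffineOpen_mem_and_subset (x := x) (U := U.ι ⁻¹ᵁ V.1) hxV
      exact Opens.mem_iSup.2 ⟨⟨⟨W', hW'⟩, V, hV, by
        rintro y ⟨z, hz, rfl⟩
        exact hle' hz⟩, hxW'⟩
    · rintro ⟨W', V, hV, hle'⟩
      rw [Scheme.IdealSheafData.ideal_comap_of_isOpenImmersion, Scheme.IdealSheafData.ideal_comap_of_isOpenImmersion]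
      exact congrArg _ (((a.prod (fun i n => 𝓓 i ^ n)).map_ideal (U := ⟨U.ι ''ᵁ W'.1, W'.2.image_of_isOpenImmersion _⟩)
        (V := V) hle').symm.trans ((congrArg (Ideal.map _) hV).trans (𝓩.map_ideal _)))
  · rintro z ⟨hzZ, hzU⟩ hzmax
    by_contra hlt
    have hd : ringKrullDim ↑(X.presheaf.stalk z) ≤ 1 := by
      rw [ringKrullDim_stalk_eq_coheight, show (2 : WithBot ℕ∞) = ((2 : ℕ∞) : WithBot ℕ∞) from rfl,
        WithBot.coe_le_coe, not_le] at hlt
      rw [ringKrullDim_stalk_eq_coheight]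
      exact WithBot.coe_le_coe.2 (Order.le_of_lt_succ (α := ℕ∞) (lt_of_lt_of_le hlt (by decide)))
    obtain ⟨i, rfl⟩ : ∃ i, ξ i = z := by
      rcases hcover hzZ with h | h
      · refine absurd (hcodim z h fun y hy hyz => ?_) hlt
        by_contra hne
        have hy0 : Order.coheight y = 0 := by
          have h1 := coheight_succ_le hyz hne
          rw [ringKrullDim_stalk_eq_coheight] at hd
          have h2 : Order.coheight y + 1 ≤ 1 := h1.trans (WithBot.coe_le_coe.1 hd)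
          exact Order.lt_one_iff.1 ((Order.add_one_le_iff_of_not_isMax (by
            rw [isMax_iff_eq_top]; exact fun hh => by rw [hh] at h2; exact absurd h2 (by decide))).1 h2)
        have hmax : ∀ w : X, w ⤳ y → w = y := fun w hw => by
          by_contra hne'
          have := coheight_succ_le hw hne'
          rw [hy0] at this
          simp at this
        have h2 := hcodim y hy fun w _ hw => hmax w hw
        rw [ringKrullDim_stalk_eq_coheight, hy0] at h2
        exact absurd h2 (by decide)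
      · obtain ⟨i, hi⟩ := Set.mem_iUnion.1 h
        exact ⟨i, eq_gpt (hD i) hi hd⟩
    refine hzU ?_
    have hzS : ξ i ∈ S := ⟨hzZ, i, rfl⟩
    set j := rep ⟨ξ i, hzS⟩
    have hjξ : ξ j = ξ i := hrep ⟨ξ i, hzS⟩
    have hjT : j ∈ T := Finset.mem_image.2 ⟨⟨ξ i, hzS⟩, Finset.mem_univ _, rfl⟩
    have hjW : ξ j ∈ W (ξ i) := by rw [hjξ]; exact hxW _
    letI := QCoh.stalkAlg (X := X) hjW
    haveI := QCoh.isLocalization_stalk' (hW (ξ i)) hjW
    let P := ∏ k ∈ T, g (ξ i) k ^ n k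
    have hP : (a.prod (fun i n => 𝓓 i ^ n)).ideal ⟨W (ξ i), hW _⟩ = Ideal.span {P} := by
      rw [hprod, hideal, Finset.prod_congr rfl fun k hk => show (𝓓 k).ideal ⟨W (ξ i), hW _⟩ ^ n k = _ by
        rw [(hg _ k hk).2, Ideal.span_singleton_pow], Ideal.prod_span_singleton]
    have h1 : algebraMap Γ(X, W (ξ i)) (X.presheaf.stalk (ξ j)) P ∈
        (𝓩.ideal ⟨W (ξ i), hW _⟩).map (algebraMap Γ(X, W (ξ i)) (X.presheaf.stalk (ξ j))) := by
      show _ ∈ Ideal.map (X.presheaf.germ (W (ξ i)) (ξ j) hjW).hom _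
      rw [hn j (hT j hjT).1 _ (hW _) hjW, (exists_uniformizer (hD j)).2 _ (hW _) hjW (g _ j) (hg _ j hjT).2,
        Ideal.span_singleton_pow, Ideal.mem_span_singleton, ← map_pow]
      exact map_dvd (X.presheaf.germ (W (ξ i)) (ξ j) hjW).hom (Finset.dvd_prod_of_mem (fun k => g (ξ i) k ^ n k) hjT)
    obtain ⟨t, ht, htP⟩ := (IsLocalization.algebraMap_mem_map_algebraMap_iff
      ((hW (ξ i)).primeIdealOf ⟨ξ j, hjW⟩).asIdeal.primeCompl (X.presheaf.stalk (ξ j)) _ _).1 h1
    have hjt : ξ j ∈ X.basicOpen t := (QCoh.mem_basicOpen_iff_notMem (hW _) hjW t).2 ht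
    refine Opens.mem_iSup.2 ⟨X.affineBasicOpen (U := ⟨W (ξ i), hW _⟩) t,
      Opens.mem_iSup.2 ⟨le_antisymm ?_ (hZle _), (congrArg (fun p => p ∈ X.basicOpen t) hjξ).mp hjt⟩⟩
    rw [← (a.prod (fun i n => 𝓓 i ^ n)).map_ideal_basicOpen, ← 𝓩.map_ideal_basicOpen, hP, Ideal.map_span,
      Set.image_singleton, Ideal.span_singleton_le_iff_mem]
    haveI := (hW (ξ i)).isLocalization_basicOpen t
    have hu : IsUnit ((X.presheaf.map (homOfLE (X.basicOpen_le t)).op).hom t) :=
      IsLocalization.map_units Γ(X, X.basicOpen t) (⟨t, Submonoid.mem_powers t⟩ : Submonoid.powers t)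
    have h2 := Ideal.mem_map_of_mem (X.presheaf.map (homOfLE (X.basicOpen_le t)).op).hom htP
    rw [map_mul] at h2
    exact (Ideal.unit_mul_mem_iff_mem _ hu).1 h2

end Groth.Agent.S8909
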