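import Groth.Statements.S8928
import Groth.Agent.Disc93.FracFlat
-- import your own Groth.Agent.* helpers here

set_option autoImplicit false
universe u
open scoped TensorProduct
open Disc

namespace Groth.Agent.S8928

/-- Let A → B be a map of Noetherian rings such that nonzerodivisors of A map to nonzerodivisors of B
and Q(A) ⊗_A B is flat over the total ring of fractions Q(A). Then B_q is flat over A for every
associated prime q of B and for every prime q of B lying over an associated prime of A. -/
theorem result (A B : Type u) [CommRing A] [CommRing B] [IsNoetherianRing A] [IsNoetherianRing B] [Algebra A B] (h1 : nonZeroDivisors A ≤ (nonZeroDivisors B).comap (algebraMap A B)) (h2 : Module.Flat (FractionRing A) (FractionRing A ⊗[A] B)) : (∀ (q : Ideal B) [q.IsPrime], IsAssociatedPrime q B → Module.Flat A (Localization.AtPrime q)) ∧ (∀ (q : Ideal B) [q.IsPrime], IsAssociatedPrime (q.comap (algebraMap A B)) A → Module.Flat A (Localization.AtPrime q)) := by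
  constructor
  · intro q _ hq
    refine Groth.Agent.Disc93.flat_atPrime_of_flat_fractionRing A B h2 q (Set.disjoint_left.2 fun a ha hmem => ?_)
    have hz : algebraMap A B a ∈ (nonZeroDivisors B : Set B)ᶜ := by
      rw [← biUnion_associatedPrimes_eq_compl_nonZeroDivisors]
      exact Set.mem_biUnion (hq : q ∈ associatedPrimes B B) hmem
    exact hz (h1 ha)
  · intro q _ hq
    refine Groth.Agent.Disc93.flat_atPrime_of_flat_fractionRing A B h2 q (Set.disjoint_left.2 fun a ha hmem => ?_)
    have hz : a ∈ (nonZeroDivisors A : Set A)ᶜ := by
      rw [← biUnion_associatedPrimes_eq_compl_nonZeroDivisors]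
      exact Set.mem_biUnion (hq : q.comap (algebraMap A B) ∈ associatedPrimes A A) hmem
    exact hz ha

end Groth.Agent.S8928
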