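import Groth.Statements.S8930
import Groth.Agent.AlgSpLib.ClosedImmDesc
import Mathlib

set_option autoImplicit false
universe u
open AlgebraicGeometry CategoryTheory
open Disc

namespace Groth.Agent.S8930

/-- Given two factorizations A → B' → B and A → B'' → B of a ring map with A → B' and A → B'' finite and
Spec(B) → Spec(B'), Spec(B) → Spec(B'') open immersions, there is an A-subalgebra C of B which is
finite over A, contains the images of B' and B'', and is such that Spec(B) → Spec(C) is an open
immersion. (Such an A → B is quasi-finite; that hypothesis of the published statement is implied by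
the factorizations and is not repeated.) -/
theorem result (A B B' B'' : Type u) [CommRing A] [CommRing B] [CommRing B'] [CommRing B''] [Algebra A B] [Algebra A B'] [Algebra A B''] [Algebra B' B] [Algebra B'' B] [IsScalarTower A B' B] [IsScalarTower A B'' B] [Module.Finite A B'] [Module.Finite A B''] (h' : IsOpenImmersion (Spec.map (CommRingCat.ofHom (algebraMap B' B)))) (h'' : IsOpenImmersion (Spec.map (CommRingCat.ofHom (algebraMap B'' B)))) : ∃ C : Subalgebra A B, Module.Finite A C ∧ Set.range (algebraMap B' B) ⊆ (C : Set B) ∧ Set.range (algebraMap B'' B) ⊆ (C : Set B) ∧ IsOpenImmersion (Spec.map (CommRingCat.ofHom C.val.toRingHom)) := by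
  let φ : TensorProduct A B' B'' →ₐ[A] B :=
    Algebra.TensorProduct.productMap (IsScalarTower.toAlgHom A B' B) (IsScalarTower.toAlgHom A B'' B)
  have h1 : ∀ x : B', algebraMap B' B x ∈ φ.range := fun x => ⟨TensorProduct.tmul A x 1, by simp [φ]⟩
  have h2 : ∀ x : B'', algebraMap B'' B x ∈ φ.range := fun x => ⟨TensorProduct.tmul A 1 x, by simp [φ]⟩
  refine ⟨φ.range, Module.Finite.of_surjective φ.rangeRestrict.toLinearMap (AlgHom.rangeRestrict_surjective φ),
    Set.range_subset_iff.mpr h1, Set.range_subset_iff.mpr h2, ?_⟩
  let g : B' →+* φ.range := (algebraMap B' B).codRestrict φ.range h1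
  have hcomp : Spec.map (CommRingCat.ofHom φ.range.val.toRingHom) ≫ Spec.map (CommRingCat.ofHom g) =
      Spec.map (CommRingCat.ofHom (algebraMap B' B)) := by
    rw [← Spec.map_comp]
    rfl
  haveI := h'
  haveI : IsImmersion (Spec.map (CommRingCat.ofHom φ.range.val.toRingHom) ≫ Spec.map (CommRingCat.ofHom g)) := by
    rw [hcomp]; infer_instance
  haveI := IsImmersion.of_comp (Spec.map (CommRingCat.ofHom φ.range.val.toRingHom)) (Spec.map (CommRingCat.ofHom g))
  refine Groth.Agent.AlgSpLib.isOpenImmersion_of_ker_eq_bot _ ?_
  have hinj : RingHom.ker (Spec.map (CommRingCat.ofHom φ.range.val.toRingHom)).appTop.hom = ⊥ := by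
    rw [← RingHom.injective_iff_ker_eq_bot]
    intro x y hxy
    apply (Scheme.ΓSpecIso (CommRingCat.of φ.range)).commRingCatIsoToRingEquiv.injective
    apply Subtype.val_injective
    have e := congrArg (fun k => (k.hom x, k.hom y)) (Scheme.ΓSpecIso_naturality (CommRingCat.ofHom φ.range.val.toRingHom))
    simp only [Prod.mk.injEq] at e
    exact e.1.symm.trans ((congrArg _ hxy).trans e.2)
  rw [Scheme.ker_of_isAffine, hinj]
  exact Scheme.IdealSheafData.ext_of_isAffine (by simp)

end Groth.Agent.S8930
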