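import Groth.Statements.S8944
import Groth.Agent.QFD.FibreFlat
import Mathlib

set_option autoImplicit false
universe u
open AlgebraicGeometry
open scoped TensorProduct
open TensorProduct
open Disc

namespace Groth.Agent.S8944

/-- Let A → B be a flat homomorphism of Noetherian rings, and suppose it factors through a ring B′ as A
→ B′ → B, where B′ is finite over A and the induced map of spectra Spec(B) → Spec(B′) is an open
immersion, so that the relative dualizing module is ω_{B/A} = Hom_A(B′, A) ⊗_{B′} B (B′ acting on
Hom_A(B′, A) through the argument). Then ω_{B/A} is a flat A-module. -/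
theorem result (A B B' : Type u) [CommRing A] [CommRing B] [CommRing B'] [IsNoetherianRing A] [IsNoetherianRing B] [Algebra A B] [Module.Flat A B] [Algebra A B'] [Algebra B' B] [IsScalarTower A B' B] [Module.Finite A B'] (hopen : IsOpenImmersion (Spec.map (CommRingCat.ofHom (algebraMap B' B)))) : Module.Flat A (B ⊗[B'] Disc.Omega A B') := by
  have hf : QFDual.IsQFFactor A B' B := ⟨inferInstance, hopen⟩
  let f : ∀ (Q : Ideal B) [Q.IsMaximal], (B ⊗[B'] Disc.Omega A B') →ₗ[B] (Localization.AtPrime Q ⊗[B'] Disc.Omega A B') :=
    fun Q _ => ((AlgebraTensorModule.cancelBaseChange B' B B (Localization.AtPrime Q) (Disc.Omega A B')).toLinearMap).comp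
      (TensorProduct.mk B (Localization.AtPrime Q) (B ⊗[B'] Disc.Omega A B') 1)
  haveI : ∀ (Q : Ideal B) [Q.IsMaximal], IsLocalizedModule.AtPrime Q (f Q) := fun Q _ =>
    haveI : IsLocalizedModule Q.primeCompl (TensorProduct.mk B (Localization.AtPrime Q) (B ⊗[B'] Disc.Omega A B') 1) :=
      (isLocalizedModule_iff_isBaseChange _ (Localization.AtPrime Q) _).mpr (TensorProduct.isBaseChange _ _ _)
    IsLocalizedModule.of_linearEquiv Q.primeCompl _ _
  exact Module.flat_of_isLocalized_maximal (R := A) B (B ⊗[B'] Disc.Omega A B') _ f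
    (fun Q _ => Groth.Agent.QFD.flat_omega_atPrime hf Q)

end Groth.Agent.S8944
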