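import Groth.Statements.S9000
import Groth.Agent.FlatMor3.PurityBC
import Groth.Agent.Hensel.EtaleLift
import Groth.Agent.Hensel.HenselizationProps
import Groth.Agent.Hensel.Henselization
import Groth.Agent.WEtLib.Basic
-- import your own Groth.Agent.* helpers here

set_option autoImplicit false
universe u
open FlatMor

namespace Groth.Agent.S9000

open IsLocalRing in
/-- For Spec B → Spec A of finite type, a finite B-module N and a prime p of A, an impurity of N above p
over an elementary etale neighbourhood of (A, p) yields an impurity of N above p over the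
henselization of the local ring of A at p, based at its closed point. (The other implications of the
published equivalence are separate results: from the henselization to an elementary etale
neighbourhood, and between elementary etale neighbourhoods and base rings quasi-finite at the
point.) -/
theorem result {A B : Type u} [CommRing A] [CommRing B] [Algebra A B] [Algebra.FiniteType A B] (N : Type u) [AddCommGroup N] [Module B N] [Module.Finite B N] (p : Ideal A) [p.IsPrime] (h : FlatCA.HasImpurity A B N p (fun A' _ _ t => ∃ _ : t.IsPrime, FlatCA.IsEtaleNhd A A' p t)) : FlatCA.HasImpurity A B N p (fun A' _ _ t => ∃ (_ : IsLocalRing A') (_ : Algebra (Localization.AtPrime p) A') (_ : IsScalarTower A (Localization.AtPrime p) A') (_ : IsLocalHom (algebraMap (Localization.AtPrime p) A')), Hensel.IsHenselization (Localization.AtPrime p) A' ∧ t = maximalIdeal A') := by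
  obtain ⟨A', B', N', _, _, _, _, _, _, _, _, _, _, _, _, _, _, f, t', t, _, _, P, _, himp, _, het⟩ := h
  obtain ⟨_, htp, hbij⟩ := het
  haveI := htp
  let Ah := Groth.Agent.Hensel.LocalHenz (Localization.AtPrime p)
  have hAh : Hensel.IsHenselization (Localization.AtPrime p) Ah :=
    Groth.Agent.Hensel.isHenselization_localHenz _
  haveI := hAh
  haveI : HenselianLocalRing Ah := hAh.henselian
  letI : Algebra A Ah := ((algebraMap (Localization.AtPrime p) Ah).comp (algebraMap A _)).toAlgebra
  haveI : IsScalarTower A (Localization.AtPrime p) Ah := .of_algebraMap_eq fun _ => rfl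
  let e := RingEquiv.ofBijective _ hbij
  let τ : t.ResidueField →+* IsLocalRing.ResidueField Ah :=
    (IsLocalRing.ResidueField.map (algebraMap (Localization.AtPrime p) Ah)).comp e.symm.toRingHom
  have hτ : τ.comp (algebraMap A t.ResidueField) = (IsLocalRing.residue Ah).comp (algebraMap A Ah) := by
    refine RingHom.ext fun a => ?_
    have h1 : e.symm (algebraMap A t.ResidueField a) = algebraMap A p.ResidueField a := by
      rw [RingEquiv.symm_apply_eq]
      exact ((Ideal.ResidueField.mapₐ p t (Algebra.ofId A A') htp.over).commutes a).symm
    show IsLocalRing.ResidueField.map _ (e.symm (algebraMap A t.ResidueField a)) = _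
    rw [h1]
    rfl
  obtain ⟨φ, ⟨hφt, -⟩, -⟩ := Groth.Agent.Hensel.existsUnique_algHom_of_residueField A Ah A' t τ hτ
  letI : Algebra A' Ah := φ.toRingHom.toAlgebra
  haveI : IsScalarTower A A' Ah := .of_algebraMap_eq fun a => (φ.commutes a).symm
  haveI : Module.Flat A (Localization.AtPrime p) := IsLocalization.flat _ p.primeCompl
  haveI := Groth.Agent.Hensel.faithfullyFlat_of_isHenselization (R := Localization.AtPrime p) (S := Ah)
  haveI : Module.Flat A Ah := Module.Flat.trans A (Localization.AtPrime p) Ah
  haveI : Module.Flat A' Ah := Groth.Agent.WEtLib.flat_of_flat (A := A) Ah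
  haveI : (IsLocalRing.maximalIdeal Ah).LiesOver t := ⟨hφt.symm⟩
  obtain ⟨u', hu'le, hu'p, hu'⟩ := Ideal.exists_ideal_le_liesOver_of_le (R := A') (p := t') (q := t) (IsLocalRing.maximalIdeal Ah)
    himp.2.2.1
  haveI := hu'p
  haveI := hu'
  obtain ⟨B'', N'', _, _, _, _, _, _, _, _, _, _, _, _, g, Q, hQ, hI⟩ :=
    Groth.Agent.FlatMor3.exists_impurity_baseChange N p f t' t P himp (A'' := Ah) u' (IsLocalRing.maximalIdeal Ah) hu'le
  exact ⟨Ah, B'', N'', inferInstance, inferInstance, inferInstance, inferInstance, inferInstance, inferInstance,
    inferInstance, inferInstance, inferInstance, inferInstance, inferInstance, inferInstance, inferInstance,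
    inferInstance, g, u', _, inferInstance, inferInstance, Q, hQ, hI, inferInstance, inferInstance, inferInstance,
    inferInstance, hAh, rfl⟩

end Groth.Agent.S9000
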