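import Groth.Statements.S9002
import Groth.Agent.FlatFun4.RelAssFlat

set_option autoImplicit false
set_option backward.isDefEq.respectTransparency false
set_option backward.isDefEq.respectTransparency.types false
universe u
open FlatMor

namespace Groth.Agent.S9002

open AlgebraicGeometry CategoryTheory in
/-- Flatness over the base is stable under generization. -/
theorem isFlatOverAt_of_specializes {X S : Scheme.{u}} (f : X ⟶ S) {F : X.Modules}
    (hF : Coh.IsQCoh F) {y x : X} (hyx : y ⤳ x) (h : FlatMod.IsFlatOverAt f F x) :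
    FlatMod.IsFlatOverAt f F y := by
  obtain ⟨V, hV, hsV, -⟩ := exists_isAffineOpen_mem_and_subset (x := f x) (U := ⊤) trivial
  obtain ⟨U, hU, hxU, hle⟩ := exists_isAffineOpen_mem_and_subset (x := x) (U := f ⁻¹ᵁ V) hsV
  have hyU : y ∈ U := hyx.mem_open U.2 hxU
  letI := (f.appLE V U hle).hom.toAlgebra
  letI : Module Γ(S, V) Γ(F, U) := Module.compHom _ (f.appLE V U hle).hom
  haveI : IsScalarTower Γ(S, V) Γ(X, U) Γ(F, U) := .of_algebraMap_smul fun _ _ => rfl
  have hx : FlatCA.FlatAt Γ(S, V) (hU.primeIdealOf ⟨x, hxU⟩).asIdeal Γ(F, U) :=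
    (FlatFun4.RelAss.isFlatOverAt_iff_flatAt f hF hV hU hle hxU).1 h
  refine (FlatFun4.RelAss.isFlatOverAt_iff_flatAt f hF hV hU hle hyU).2 ?_
  have hS : (hU.primeIdealOf ⟨x, hxU⟩).asIdeal.primeCompl ≤
      (hU.primeIdealOf ⟨y, hyU⟩).asIdeal.primeCompl := fun a ha hay =>
    ha ((AssPtX.primeIdealOf_le_iff hU hyU hxU).2 hyx hay)
  haveI : Module.Flat Γ(S, V)
      (LocalizedModule (hU.primeIdealOf ⟨x, hxU⟩).asIdeal.primeCompl Γ(F, U)) := hx
  exact QCoh.flat_base_of_isLocalizedModule (hU.primeIdealOf ⟨y, hyU⟩).asIdeal.primeCompl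
    (LocalizedModule.liftOfLE (hU.primeIdealOf ⟨x, hxU⟩).asIdeal.primeCompl
      (hU.primeIdealOf ⟨y, hyU⟩).asIdeal.primeCompl hS (M := Γ(F, U)))

open AlgebraicGeometry CategoryTheory Limits in
/-- Over the spectrum of a local ring, a finite type quasi-coherent module on a scheme locally of finite
type, all of whose relative associated points specialize into the closed fibre and which is flat
over the base at every point of the closed fibre, is flat over the base. -/
theorem result {R : Type u} [CommRing R] [IsLocalRing R] {X : Scheme.{u}} (f : X ⟶ Spec (CommRingCat.of R)) [LocallyOfFiniteType f] (F : X.Modules) [Coh.IsQCoh F] (hF : CohB1.IsFT F) (h₁ : ∀ x ∈ MoreMor.relAss f F, ∃ x' : X, x ⤳ x' ∧ f.base x' = IsLocalRing.closedPoint R) (h₂ : ∀ x : X, f.base x = IsLocalRing.closedPoint R → FlatMod.IsFlatOverAt f F x) : FlatMod.IsFlatOver f F := by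
  intro x
  by_contra h
  obtain ⟨y, -, -, hy, hyn⟩ := FlatFun4.RelAss.exists_relAss_not_flat f ‹Coh.IsQCoh F› hF h
  obtain ⟨x', hyx', hx'⟩ := h₁ y hy
  exact hyn (isFlatOverAt_of_specializes f ‹Coh.IsQCoh F› hyx' (h₂ x' hx'))

end Groth.Agent.S9002
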