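import Groth.Statements.S9008
import Groth.Agent.FlatFun4.PurityProj
-- import your own Groth.Agent.* helpers here

set_option autoImplicit false
set_option linter.style.haveILetI false
set_option backward.isDefEq.respectTransparency false
set_option backward.isDefEq.respectTransparency.types false
universe u
open FlatMor

namespace Groth.Agent.S9008

/-- For Spec B → Spec A affine of finite type: a finite B-module is universally pure along the fibre
over a prime p of A exactly when every base change of it along a ring map A → A' is pure along the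
fibre over every prime of A' above p. -/
theorem result {A B : Type u} [CommRing A] [CommRing B] [Algebra A B] [Algebra.FiniteType A B] (N : Type u) [AddCommGroup N] [Module B N] [Module.Finite B N] (p : Ideal A) [p.IsPrime] : FlatCA.IsUnivPureAlong A B N p ↔ ∀ (A' B' N' : Type u) [CommRing A'] [CommRing B'] [Algebra A A'] [Algebra B B'] [Algebra A' B'] [Algebra A B'] [IsScalarTower A B B'] [IsScalarTower A A' B'] [Algebra.IsPushout A B A' B'] [AddCommGroup N'] [Module B' N'] [Module B N'] [IsScalarTower B B' N'] (g : N →ₗ[B] N'), IsBaseChange B' g → ∀ (p' : Ideal A') [p'.IsPrime], p'.LiesOver p → FlatCA.IsPureAlong A' B' N' p' := by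
  constructor
  · intro h A' B' N' _ _ _ _ _ _ _ _ hpush _ _ _ _ g hg p' _ hp'
    intro A'' B'' N'' _ _ _ _ _ _ _ _ _ _ _ _ _ _ f t' t _ _ P _ _ ⟨hpush', hf, hle, htp, hPt, hass, hno⟩
    letI : Algebra A A'' := ((algebraMap A' A'').comp (algebraMap A A')).toAlgebra
    haveI : IsScalarTower A A' A'' := .of_algebraMap_eq fun _ => rfl
    letI : Algebra A B'' := ((algebraMap A' B'').comp (algebraMap A A')).toAlgebra
    haveI : IsScalarTower A A' B'' := .of_algebraMap_eq fun _ => rfl
    haveI : IsScalarTower A A'' B'' := .of_algebraMap_eq fun a => IsScalarTower.algebraMap_apply A' A'' B'' _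
    letI : Algebra B B'' := ((algebraMap B' B'').comp (algebraMap B B')).toAlgebra
    haveI : IsScalarTower B B' B'' := .of_algebraMap_eq fun _ => rfl
    haveI : IsScalarTower A B' B'' := .of_algebraMap_eq fun a => by
      show algebraMap A' B'' (algebraMap A A' a) = _
      rw [IsScalarTower.algebraMap_apply A A' B', IsScalarTower.algebraMap_apply A' B' B'']
    haveI : IsScalarTower A B B'' := .of_algebraMap_eq fun a => by
      show _ = algebraMap B' B'' (algebraMap B B' (algebraMap A B a))
      rw [← IsScalarTower.algebraMap_apply A B B', ← IsScalarTower.algebraMap_apply A B' B'']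
    letI : Module B N'' := Module.compHom N'' (algebraMap B B')
    haveI : IsScalarTower B B' N'' := .of_algebraMap_smul fun _ _ => rfl
    haveI : IsScalarTower B B'' N'' := .of_algebraMap_smul fun b x => by
      show algebraMap B' B'' (algebraMap B B' b) • x = algebraMap B B' b • x
      rw [algebraMap_smul]
    haveI := hp'
    haveI := htp
    haveI : Algebra.IsPushout A A' B B' := hpush.symm
    haveI : Algebra.IsPushout A' A'' B' B'' := hpush'.symm
    haveI : Algebra.IsPushout A A'' B B'' :=
      (Algebra.IsPushout.comp_iff A A' B (S' := B') (T := A'') (T' := B'')).2 inferInstance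
    exact h A'' B'' N'' ((f.restrictScalars B).comp g) t' t P
      ⟨Algebra.IsPushout.symm inferInstance, hg.comp hf, hle, Ideal.LiesOver.trans t p' p, hPt, hass, hno⟩
  · intro h A' B' N' _ _ _ _ _ _ _ _ _ _ _ _ _ _ g t' t _ _ P _ ⟨hpush, hg, hle, htp, hPt, hass, hno⟩
    haveI := hpush
    haveI : Algebra.IsPushout A' B' A' B' := Algebra.IsPushout.symm inferInstance
    refine h A' B' N' g hg t htp A' B' N' LinearMap.id t' t P ⟨inferInstance, ?_⟩
      ⟨inferInstance, IsBaseChange.of_equiv (TensorProduct.lid B' N') (fun x => one_smul _ x), hle, ⟨rfl⟩, hPt, hass, hno⟩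
    refine ⟨⟨rfl⟩, ?_⟩
    rw [show Ideal.ResidueField.mapₐ t t (Algebra.ofId A' A') _ = AlgHom.id _ _ from Ideal.ResidueField.algHom_ext (by
      ext)]
    exact Function.bijective_id

end Groth.Agent.S9008
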