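import Groth.Statements.S9009
import Groth.Agent.FlatFun4.FibreFlatOpen
import Groth.Agent.FlatFun4.FlatDimLim
-- import your own Groth.Agent.* helpers here

set_option autoImplicit false
set_option linter.style.haveILetI false
set_option backward.isDefEq.respectTransparency false
set_option backward.isDefEq.respectTransparency.types false
universe u
open FlatMor

namespace Groth.Agent.S9009

open CategoryTheory CategoryTheory.Limits AlgebraicGeometry in
/-- For f : X → S locally of finite type and a finite type quasi-coherent O_X-module F, the non-flat
locus of F in every fibre has dimension less than n if and only if every point where F is not flat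
over S has residue field of transcendence degree less than n over the residue field of its image.
(The non-flat locus of the fibre over s is taken with the subspace topology from X, which is that of
the fibre. The published statement adds that when these conditions hold they continue to hold after
any base change S' → S; this row states only the equivalence.) -/
theorem result {X S : Scheme.{u}} (f : X ⟶ S) [LocallyOfFiniteType f] (F : X.Modules) [Coh.IsQCoh F] (hF : CohB1.IsFT F) (n : ℕ) : (∀ s : S, topologicalKrullDim {x : X // f.base x = s ∧ ¬ FlatMod.IsFlatOverAt f F x} < n) ↔ ∀ x : X, ¬ FlatMod.IsFlatOverAt f F x → ∀ [Algebra (S.residueField (f.base x)) (X.residueField x)], algebraMap (S.residueField (f.base x)) (X.residueField x) = (f.residueFieldMap x).hom → Algebra.trdeg (S.residueField (f.base x)) (X.residueField x) < n := by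
  have hFq : Coh.IsQCoh F := ‹_›
  have key : ∀ x : X, ((FibDim.rd f x : Cardinal.{u}) < n ↔
      ∀ [Algebra (S.residueField (f.base x)) (X.residueField x)],
        algebraMap (S.residueField (f.base x)) (X.residueField x) = (f.residueFieldMap x).hom →
        Algebra.trdeg (S.residueField (f.base x)) (X.residueField x) < n) := fun x => by
    rw [← FlatFun4.resTr_eq_rd]
    constructor
    · intro h i hi
      obtain rfl : i = (f.residueFieldMap x).hom.toAlgebra := Algebra.algebra_ext _ _ (RingHom.congr_fun hi)
      exact h
    · intro h
      exact @h (f.residueFieldMap x).hom.toAlgebra rfl
  constructor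
  · intro h x hx
    refine (key x).1 ?_
    exact_mod_cast (FlatFun4.RelAss.dim_nonflat_fibre_lt_iff f hFq hF n (f x)).1 (h _) x rfl hx
  · intro h s
    refine (FlatFun4.RelAss.dim_nonflat_fibre_lt_iff f hFq hF n s).2 fun x _ hx => ?_
    exact_mod_cast (key x).2 (@h x hx)

end Groth.Agent.S9009
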