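import Groth.Statements.S9012
import Groth.Agent.FlatFun4.SheafConds
-- import your own Groth.Agent.* helpers here

set_option autoImplicit false
set_option backward.isDefEq.respectTransparency false
set_option backward.isDefEq.respectTransparency.types false
universe u
open FlatMor

namespace Groth.Agent.S9012
open Groth.Agent.FlatFun4

open CategoryTheory CategoryTheory.Limits AlgebraicGeometry Opposite in
/-- For f : X → S and a quasi-coherent O_X-module F, the functor F_flat on schemes over S (one point on
T when the base change F_T on X_T = X ×_S T is flat over T, empty otherwise; written as the
subfunctor of the final functor generated by that condition, which agrees with it because flatness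
is preserved by base change) satisfies the sheaf condition for the fpqc topology. -/
theorem result {X S : Scheme.{u}} (f : X ⟶ S) (F : X.Modules) [Coh.IsQCoh F] :
    Presheaf.IsSheaf (QuotSh.J Scheme.fpqcPrecoverage S)
      (FlatFun.genPSp S (fun T => FlatMod.IsFlatOver (PicF.XTproj f T) (FGA.ET f F T))) :=
  isSheaf_genPSp _ (fun _ _ g h x => isFlatOverAt_of_hom f g F x (h _))
    fun T _ Ti g hg hsurj h x => by
      obtain ⟨i, x', rfl⟩ := XTmap_jointly_surjective f g hsurj x
      haveI := hg i
      exact isFlatOverAt_descend f (g i) F x' (h i x')


end Groth.Agent.S9012
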