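import Groth.Statements.S9016
import Groth.Agent.FlatFun4.SheafConds
-- import your own Groth.Agent.* helpers here

set_option autoImplicit false
set_option backward.isDefEq.respectTransparency false
set_option backward.isDefEq.respectTransparency.types false
universe u
open FlatMor

namespace Groth.Agent.S9016
open Groth.Agent.FlatFun4

open CategoryTheory CategoryTheory.Limits AlgebraicGeometry Opposite in
/-- For f : X → S and a homomorphism u : F → G of quasi-coherent O_X-modules, the functor on schemes
over S with one point on T when the base change u_T on X_T = X ×_S T is zero and empty otherwise,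
written as the subfunctor of the final functor generated by that condition, satisfies the sheaf
condition for the fpqc topology. -/
theorem result {X S : Scheme.{u}} (f : X ⟶ S) {F G : X.Modules} [Coh.IsQCoh F] [Coh.IsQCoh G] (u : F ⟶ G) :
    Presheaf.IsSheaf (QuotSh.J Scheme.fpqcPrecoverage S)
      (FlatFun.genPSp S (fun T => ((Scheme.Modules.pullback (pullback.fst f T.hom)).map u) = 0)) :=
  isSheaf_genPSp _ (fun _ _ g h => uT_eq_zero_of_hom f g u h)
    fun T _ Ti g hg hsurj h =>
      haveI := fun i => (haveI := hg i; flat_XTmap f (g i))
      eq_zero_of_family _ (fun i => PicF.XTmap f (g i)) (XTmap_jointly_surjective f g hsurj)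
        fun i => (map_fst_eq_zero_iff f (g i) u).mp (h i)


end Groth.Agent.S9016
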