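import Groth.Statements.S9028
import Groth.Agent.FlatFun4.RelAssFlat
import Groth.Agent.FlatFun4.EtalePull
import Groth.Agent.FlatFun4.FlatDimLim
import Groth.Agent.FlatFun4.StalkFlat
import Groth.Agent.DimFormula.Fibre
import Groth.Agent.FlatFun4.LocSplit
-- import your own Groth.Agent.* helpers here

set_option autoImplicit false
set_option linter.style.haveILetI false
set_option backward.isDefEq.respectTransparency false
set_option backward.isDefEq.respectTransparency.types false
universe u
open FlatMor

namespace Groth.Agent.S9028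

open CategoryTheory CategoryTheory.Limits AlgebraicGeometry Opposite in
/-- For f : X → S locally of finite type, F a quasi-coherent O_X-module of finite type, an etale
morphism h : X' → X whose image contains every point of the relative assassin of F over S, and n ≥
0, the functors F_n of F and of h^*F agree: for every scheme T over S, if the base change of h^*F on
X' ×_S T is flat over T in dimensions ≥ n then so is the base change F_T on X ×_S T (the other
implication holds without the hypothesis on the image). -/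
theorem result {X X' S : Scheme.{u}} (f : X ⟶ S) [LocallyOfFiniteType f] (F : X.Modules) [Coh.IsQCoh F] (hF : CohB1.IsFT F)
    (h : X' ⟶ X) [Etale h] (hAss : MoreMor.relAss f F ⊆ Set.range h.base) (n : ℕ) (T : Over S)
    (hT : FlatFun.DimFibresLT n (PicF.XTproj (h ≫ f) T)
        {x | ¬ FlatMod.IsFlatOverAt (PicF.XTproj (h ≫ f) T) (FGA.ET (h ≫ f) ((Scheme.Modules.pullback h).obj F) T) x}) :
    FlatFun.DimFibresLT n (PicF.XTproj f T)
        {x | ¬ FlatMod.IsFlatOverAt (PicF.XTproj f T) (FGA.ET f F T) x} := by
  intro x hx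
  haveI : LocallyOfFiniteType (PicF.XTproj f T) := MorphismProperty.pullback_snd _ _ inferInstance
  have hF' : Coh.IsQCoh (FGA.ET f F T) := QCoh.isQCoh_pullback _ ‹_›
  have hFt' : CohB1.IsFT (FGA.ET f F T) := FlatFun4.LocSplit.isFT_pull _ ‹_› hF
  obtain ⟨y, hyx, hys, hyass, hynf⟩ := FlatFun4.RelAss.exists_relAss_not_flat _ hF' hFt' hx
  obtain ⟨z, hz⟩ := hAss (FlatFun4.RelAss.mem_relAss_of_baseChange (IsPullback.of_hasPullback f T.hom) ‹_› hyass)
  obtain ⟨w, hw, -⟩ := Scheme.Pullback.exists_preimage_pullback (f := pullback.fst f T.hom) (g := h) y z hz.symm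
  let y' := (FlatFun4.isPullback_srcMap f h T).isoPullback.inv w
  have hy' : FlatFun4.srcMap f h T y' = y := by
    rw [← Scheme.Hom.comp_apply, IsPullback.isoPullback_inv_fst, hw]
  haveI := FlatFun4.etale_srcMap f h T
  have hnf : ¬ FlatMod.IsFlatOverAt (PicF.XTproj (h ≫ f) T)
      (FGA.ET (h ≫ f) ((Scheme.Modules.pullback h).obj F) T) y' := fun hfl => by
    have h2 := GrFlat5.isFlatOverAt_of_iso _ (FlatFun4.srcIso f h T F).symm y' hfl
    have h3 := FlatFun4.isFlatOverAt_of_pullback (PicF.XTproj f T) (PicF.XTproj (h ≫ f) T) (FlatFun4.srcMap f h T)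
      (𝟙 T.left) ((FlatFun4.srcMap_proj f h T).trans (Category.comp_id _).symm) _ y' h2
    rw [hy'] at h3
    exact hynf h3
  have h1 : FlatFun4.resTr (PicF.XTproj (h ≫ f) T) y' < (n : Cardinal.{u}) := hT y' hnf
  rw [FlatFun4.resTr_src, hy', FlatFun4.resTr_eq_rd] at h1
  show FlatFun4.resTr (PicF.XTproj f T) x < (n : Cardinal.{u})
  rw [FlatFun4.resTr_eq_rd]
  refine lt_of_le_of_lt ?_ h1
  exact_mod_cast Nat.le.intro ((add_comm _ _).trans (DimFormula.cd_add_rd_of_fibre (PicF.XTproj f T) hyx hys))

end Groth.Agent.S9028
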