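import Groth.Statements.S9036
import Groth.Agent.Der55.CompactRetract
import Groth.Agent.Der55.QcSections

set_option autoImplicit false
universe u
open CategoryTheory CategoryTheory.Limits Opposite
open ModSite

namespace Groth.Agent.S9036

/-- Let (C, O) be a ringed site in which every object has a covering by quasi-compact objects (an object
U is called quasi-compact here when the sheaf h_U^# is a quasi-compact object of the topos, which is
equivalent to the site-level definition). Then every compact object of D(O) is a retract in D(O) of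
the image of a bounded complex whose terms are finite direct sums of modules of the form j_{U!} O_U
with U quasi-compact. The derived category of O-modules, direct sums in it and finite biproducts of
O-modules (automatic) are instance hypotheses. -/
theorem result
    {C : Type u} [SmallCategory C] {J : GrothendieckTopology C} (O : Sheaf J CommRingCat.{u})
    [HasFiniteBiproducts (ModSite.Mod O)]
    [HasDerivedCategory.{u} (ModSite.Mod O)] [HasCoproducts.{u} (DerivedCategory (ModSite.Mod O))]
    (hC : ∀ V : C, ∃ R ∈ J V, ∀ ⦃W : C⦄ (g : W ⟶ V), R g →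
      ∃ (U : C) (a : W ⟶ U) (b : U ⟶ V), CohCx.IsQcObject ((presheafToSheaf J (Type u)).obj (yoneda.obj U)) ∧ a ≫ b = g)
    (K : DerivedCategory (ModSite.Mod O)) (hK : CohDer.IsCompactObject K) :
    ∃ (L : CochainComplex (ModSite.Mod O) ℤ) (a b : ℤ),
      (∀ i : ℤ, i < a ∨ b < i → IsZero (L.X i)) ∧
      (∀ i : ℤ, ∃ (n : ℕ) (U : Fin n → C),
        (∀ j, CohCx.IsQcObject ((presheafToSheaf J (Type u)).obj (yoneda.obj (U j)))) ∧
        Nonempty (L.X i ≅ ⨁ fun j => ModSite.freeOn O (U j))) ∧
      Nonempty (Retract K (DerivedCategory.Q.obj L)) := by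
  classical
  let G : Set C := {U | CohCx.IsQcObject ((presheafToSheaf J (Type u)).obj (yoneda.obj U))}
  have hG : ∀ X : C, ∃ (ι : Type u) (Y : ι → C) (f : ∀ i, Y i ⟶ X),
      Sieve.ofArrows Y f ∈ J X ∧ ∀ i, Y i ∈ G := fun X => by
    obtain ⟨R, hR, hR'⟩ := hC X
    choose U a b hU hab using hR'
    let ι := Σ W : C, {g : W ⟶ X // R g}
    refine ⟨ι, fun i => U i.2.1 i.2.2, fun i => b i.2.1 i.2.2, J.superset_covering ?_ hR,
      fun i => hU i.2.1 i.2.2⟩
    exact fun W g hg => ⟨_, a g hg, b g hg, Presieve.ofArrows.mk (⟨W, g, hg⟩ : ι), hab g hg⟩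
  let S : Set (ModSite.Mod O) := {X | ∃ U ∈ G, X = ModSite.freeOn O U}
  obtain ⟨L, a, b, hz, hfin, hr⟩ := Groth.Agent.Der55.exists_retract_bounded S
    (fun X => by
      let ι := Σ U : G, (ModSite.freeOn O (U : C) ⟶ X)
      refine ⟨ι, fun j => ModSite.freeOn O (j.1 : C), Sigma.desc fun j => j.2,
        fun j => ⟨_, j.1.2, rfl⟩, ⟨fun {Z} g h w => ?_⟩⟩
      refine Groth.Agent.ModTensor.isSeparating_freeOn (O := O) G hG _ _ ?_
      rintro _ ⟨U⟩ p
      simpa using Sigma.ι (fun j : ι => ModSite.freeOn O (j.1 : C)) ⟨U, p⟩ ≫= w)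
    (by
      rintro _ ⟨U, hU, rfl⟩ κ F g
      exact Groth.Agent.Der55.finFactor_of_isQcObject F hU g)
    K hK
  refine ⟨L, a, b, hz, fun i => ?_, hr⟩
  obtain ⟨ι, _, F, hF, ⟨e⟩⟩ := hfin i
  choose U hU hFU using hF
  obtain ⟨n, ⟨v⟩⟩ := Finite.exists_equiv_fin ι
  exact ⟨n, fun j => U (v.symm j), fun j => hU _,
    ⟨e ≪≫ (Sigma.whiskerEquiv v.symm (fun j => eqToIso (hFU (v.symm j)))).symm ≪≫
      (biproduct.isoCoproduct _).symm⟩⟩

end Groth.Agent.S9036
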