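import Groth.Statements.S9071
import Groth.Agent.SiteCmpC.EpsLib

set_option autoImplicit false
universe u
open CategoryTheory CategoryTheory.Limits Opposite
attribute [local instance] HasDerivedCategory.standard
open SiteCmp Groth.Agent.SiteCmpC

namespace Groth.Agent.S9071

/-- Let τ' be a coarser topology than τ on a category C, O a τ-sheaf of rings and ε the comparison
morphism from (C_τ, O) to (C_τ', O). Let B be a set of objects and A a full subcategory of
presheaves of O-modules such that (1) every object of A is a τ-sheaf, (2) A forms a weak Serre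
subcategory inside Mod(O_τ), (3) each object of C admits a τ'-covering by members of B, and (4)
H^p_τ(U, F) = 0 for U ∈ B, F ∈ A, p > 0. Then the essential image of A under ε_* forms a weak Serre
subcategory inside Mod(O_τ') and ε^*, Rε_* are quasi-inverse equivalences between D_A(O_τ') and
D_A(O_τ): on objects with cohomology sheaves in the respective subcategory, ε^* and Rε_* preserve
that condition and the unit and counit are isomorphisms. In the order of topologies used here the
finer topology τ is the larger one, J, and τ' is J' ≤ J; A is given as a property of τ-sheaves of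
modules (condition (1) built in); flatness of ε, existence of the unbounded Rε_* and an adjunction
ε^* ⊣ Rε_* are hypotheses. -/
theorem result
    {C : Type u} [SmallCategory C] {J J' : GrothendieckTopology C} (h : J' ≤ J) (O : Sheaf J CommRingCat.{u})
    [PreservesFiniteLimits (SiteCmp.eps h O).pull] [SiteCmp.HasRpushD (SiteCmp.eps h O)]
    (adj : SiteCmp.pullD (SiteCmp.eps h O) ⊣ SiteCmp.RpushD (SiteCmp.eps h O))
    (A : ObjectProperty (ModSite.Mod O)) [WSerre.IsWeakSerre A] (B : Set C)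
    (h3 : ∀ U : C, ∃ (ι : Type u) (Y : ι → C) (g : ∀ i, Y i ⟶ U), Sieve.ofArrows Y g ∈ J' U ∧ ∀ i, Y i ∈ B)
    (h4 : ∀ U ∈ B, ∀ F : ModSite.Mod O, A F → ∀ p : ℕ, 0 < p → Subsingleton (ModSite.HU O F p U)) :
    WSerre.IsWeakSerre (A.map (SiteCmp.eps h O).push) ∧
    (∀ Y : DerivedCategory (ModSite.Mod (SiteCmp.epsRing h O)), WSerre.cohIn (A.map (SiteCmp.eps h O).push) Y →
      WSerre.cohIn A ((SiteCmp.pullD (SiteCmp.eps h O)).obj Y) ∧ IsIso (adj.unit.app Y)) ∧
    (∀ X : DerivedCategory (ModSite.Mod O), WSerre.cohIn A X →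
      WSerre.cohIn (A.map (SiteCmp.eps h O).push) ((SiteCmp.RpushD (SiteCmp.eps h O)).obj X) ∧
      IsIso (adj.counit.app X)) := by
  haveI := full_push h O
  haveI := faithful_push h O
  have hB' : DLim.IsCoveredBy J' B := h3
  have hv : ∀ F, A F → ∀ p : ℕ, 0 < p → IsZero (((SiteCmp.eps h O).Rpush p).obj F) := fun F hF =>
    isZero_Rpush (SiteCmp.eps h O) hB' (fun V hV p hp => h4 V hV F hF p hp)
  haveI hW : WSerre.IsWeakSerre (A.map (SiteCmp.eps h O).push) :=
    isWeakSerre_map (SiteCmp.eps h O).adj A fun S hS hS1 =>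
      epi_push_map (SiteCmp.eps h O) hS hB' (fun V hV => h4 V hV _ hS1 1 Nat.one_pos)
  have h2a : ∀ F', A.map (SiteCmp.eps h O).push F' → A ((SiteCmp.eps h O).pull.obj F') := by
    rintro F' ⟨M, hM, ⟨e⟩⟩
    exact A.prop_of_iso ((asIso ((SiteCmp.eps h O).adj.counit.app M)).symm ≪≫ (SiteCmp.eps h O).pull.mapIso e) hM
  have h2c : ∀ F, A F → ∃ F', A.map (SiteCmp.eps h O).push F' ∧ Nonempty ((SiteCmp.eps h O).pull.obj F' ≅ F) :=
    fun F hF => ⟨_, A.prop_map_obj _ hF, ⟨asIso ((SiteCmp.eps h O).adj.counit.app F)⟩⟩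
  have h3' : ∀ F', A.map (SiteCmp.eps h O).push F' → IsIso (adj.unit.app (SiteCmp.inD _ F')) := by
    intro F' hF'
    refine isIso_unit_single (SiteCmp.eps h O) adj F' ?_ (hv _ (h2a F' hF'))
    obtain ⟨M, _, ⟨e⟩⟩ := hF'
    exact (SiteCmp.eps h O).adj.isIso_unit_app_of_iso e.symm
  have hcov : ∀ (X : DerivedCategory (ModSite.Mod O)), WSerre.cohIn A X → ∀ V, ∀ T : Sieve V, T ∈ J' V →
      ∃ (ι : Type u) (Y : ι → C) (g : ∀ i, Y i ⟶ V), (∀ i, T.arrows (g i)) ∧ Sieve.ofArrows Y g ∈ J' V ∧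
        ∀ i, ∀ q : ℤ, VanishAbove (freeAt O (Y i)) ((DerivedCategory.homologyFunctor _ q).obj X) 0 :=
    fun X hX V T hT => refines_of_isCoveredBy hB'
      (fun Y hY q => vanishAbove_of_subsingleton Y _ 0 (h4 Y hY _ (hX q))) V T hT
  refine ⟨hW, equivalence_cohIn (SiteCmp.eps h O) adj A _ h2a h2c h3' Set.univ B (fun X hX => ⟨?_, ?_⟩) hB'
    (fun X hX V _ => ⟨0, fun T hT => hcov X hX V T hT⟩)⟩
  · intro U
    obtain ⟨ι, Y, g, hc, -⟩ := h3 U
    exact ⟨ι, Y, g, h U hc, fun i => trivial⟩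
  · exact fun V _ => ⟨0, fun T hT => refines_of_isCoveredBy (J := J) (B := B)
      (fun U => (h3 U).imp fun ι => fun ⟨Y, g, hc, hY⟩ => ⟨Y, g, h U hc, hY⟩)
      (fun Y hY q => vanishAbove_of_subsingleton Y _ 0 (h4 Y hY _ (hX q))) V T hT⟩

end Groth.Agent.S9071
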