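import Groth.Statements.S9074
import Groth.Agent.SiteCmpC.Cmp.Induction

set_option autoImplicit false
universe u
open CategoryTheory CategoryTheory.Limits Opposite
open SiteCmp Groth.Agent.SiteCmpC.Cmp

namespace Groth.Agent.S9074

/-- Setting (two topologies τ' coarser than τ on a category C, rendered as J' ≤ J with J the finer one;
for each object X the comparison morphism ε_X between the localised sites C_τ/X and C_τ'/X, whose
direct image ε_{X,*} regards a τ-sheaf as a τ'-sheaf): P is a class of arrows of C and for every X a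
weak Serre subcategory A'_X of the abelian τ'-sheaves on C/X is given, such that (1) arrows of P
admit all base changes and these stay in P; (2) restriction along any f : X → Y sends A'_Y into
A'_X; (3) members of A'_X satisfy the sheaf condition for τ; (4) for f : X → Y in P the higher
direct images R^i f_{τ',*} (right derived functors of the relocalisation pushforward on τ'-sheaves)
send A'_X into A'_Y for all i ≥ 0; (5) every τ-covering of any U is refined by a family obtained
from a τ'-covering {V_j → U}, single arrows W_j → V_j in P that are τ-coverings, and τ'-coverings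
{W_jk → W_j}. Write A_X for the abelian τ-sheaves F on C/X with ε_{X,*}F in A'_X. Then for every X
the subcategory A_X of the abelian τ-sheaves on C/X is a weak Serre subcategory. (The published
lemma also asserts that Rε_{X,*} is an equivalence from the bounded below derived category with
cohomology in A_X to that with cohomology in A'_X, with quasi-inverse ε_X^{-1}; that part is not
stated here.) -/
theorem result
    {C : Type u} [SmallCategory C] {J J' : GrothendieckTopology C} (h : J' ≤ J)
    (P : MorphismProperty C)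
    (A' : ∀ X : C, ObjectProperty (Sheaf (J'.over X) AddCommGrpCat.{u})) [∀ X : C, WSerre.IsWeakSerre (A' X)]
    (h1 : ∀ ⦃X Y : C⦄ (f : X ⟶ Y), P f → ∀ ⦃Y' : C⦄ (g : Y' ⟶ Y),
      ∃ (W : C) (p : W ⟶ Y') (q : W ⟶ X), IsPullback p q g f ∧ P p)
    (h2 : ∀ ⦃X Y : C⦄ (f : X ⟶ Y) (F' : Sheaf (J'.over Y) AddCommGrpCat.{u}), A' Y F' →
      A' X ((CohSite.push (J'.over Y) (J'.over X) (Over.map f)).obj F'))
    (h3 : ∀ (X : C) (F' : Sheaf (J'.over X) AddCommGrpCat.{u}), A' X F' → Presheaf.IsSheaf (J.over X) F'.obj)
    (h4 : ∀ ⦃X Y : C⦄ (f : X ⟶ Y)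
      [((Over.map f).sheafPushforwardCocontinuous AddCommGrpCat.{u} (J'.over X) (J'.over Y)).Additive],
      P f → ∀ (F' : Sheaf (J'.over X) AddCommGrpCat.{u}), A' X F' → ∀ i : ℕ,
        A' Y ((((Over.map f).sheafPushforwardCocontinuous AddCommGrpCat.{u} (J'.over X) (J'.over Y)).rightDerived i).obj F'))
    (h5 : ∀ (U : C) (S : Sieve U), S ∈ J U → ∃ (ι : Type u) (V : ι → C) (v : ∀ j, V j ⟶ U),
      Sieve.ofArrows V v ∈ J' U ∧ ∀ j, ∃ (W : C) (w : W ⟶ V j), P w ∧
        Sieve.ofArrows (fun _ : PUnit.{u + 1} => W) (fun _ => w) ∈ J (V j) ∧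
        ∃ (κ : Type u) (Wk : κ → C) (wk : ∀ k, Wk k ⟶ W), Sieve.ofArrows Wk wk ∈ J' W ∧
          ∀ k, S.arrows (wk k ≫ w ≫ v j))
    (X : C) :
    WSerre.IsWeakSerre ((A' X).inverseImage (SiteCmp.epsSh (SiteCmp.over_le h X) AddCommGrpCat.{u})) := by
  haveI := additive_eps (SiteCmp.over_le h X)
  haveI := preservesFiniteLimits_eps (SiteCmp.over_le h X)
  let G := epsX h X
  have hP' : ∀ M, A' X M → IsIso ((shfAdj (SiteCmp.over_le h X)).unit.app M) := fun M hM =>
    isIso_unit_of_isSheaf _ M (h3 X M hM)
  exact
  { exists_zero := by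
      refine ⟨_, isZero_zero _, ?_⟩
      exact (A' X).prop_of_isZero (G.map_isZero (isZero_zero _))
    kernels_le := by
      rintro _ ⟨f, k, hk, hf⟩
      exact (A' X).prop_of_isLimit_kernelFork (KernelFork.mapIsLimit _ hk G) hf.1 hf.2
    cokernels_le := by
      rintro _ ⟨f, k, hk, hf⟩
      have w : G.map f ≫ G.map (Cofork.π k) = 0 := by rw [← G.map_comp, CokernelCofork.condition k, G.map_zero]
      have := isIso_of_cokernel (shfAdj (SiteCmp.over_le h X)) f (Cofork.π k) (w := CokernelCofork.condition k) (G := G)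
        (IsColimit.ofIsoColimit hk (Cofork.isoCoforkOfπ k)) (cokernel.π (G.map f)) inferInstance
        (cokernel.condition _) (cokernel.desc _ _ w) (cokernel.π_desc _ _ _)
        (hP' _ ((A' X).prop_cokernel _ hf.1 hf.2))
      exact (A' X).prop_of_iso (asIso (cokernel.desc _ _ w)) ((A' X).prop_cokernel _ hf.1 hf.2)
    prop_X₂_of_shortExact := fun {S} hS h₁ h₃ => by
      have hepi := epi_map_of_vanish G hS (vanishEps h A' h2 h3 P h4 h5 1 X S.X₁ h₁ 1 le_rfl le_rfl)
      have hS' : (S.map G).ShortExact := ShortComplex.ShortExact.mk'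
        ((hS.exact.map_of_mono_of_preservesKernel G hS.mono_f) inferInstance) (by have := hS.mono_f; exact G.map_mono S.f) hepi
      exact (A' X).prop_X₂_of_shortExact hS' h₁ h₃ }

end Groth.Agent.S9074
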