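import Groth.Statements.S9075
import Groth.Agent.SiteCmpC.Cmp.PullPush
import Groth.Agent.SiteBase.Kill

set_option autoImplicit false
universe u
open CategoryTheory CategoryTheory.Limits Opposite
open SiteCmp Groth.Agent.SiteCmpC.Cmp Groth.Agent.SiteBase

namespace Groth.Agent.S9075

/-- Setting (two topologies τ' coarser than τ on a category C, rendered as J' ≤ J with J the finer one;
for each object X the comparison morphism ε_X between the localised sites C_τ/X and C_τ'/X, whose
direct image ε_{X,*} regards a τ-sheaf as a τ'-sheaf): P is a class of arrows of C and for every X a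
weak Serre subcategory A'_X of the abelian τ'-sheaves on C/X is given, such that (1) arrows of P
admit all base changes and these stay in P; (2) restriction along any f : X → Y sends A'_Y into
A'_X; (3) members of A'_X satisfy the sheaf condition for τ; (4) for f : X → Y in P the higher
direct images R^i f_{τ',*} (right derived functors of the relocalisation pushforward on τ'-sheaves)
send A'_X into A'_Y for all i ≥ 0; (5) every τ-covering of any U is refined by a family obtained
from a τ'-covering {V_j → U}, single arrows W_j → V_j in P that are τ-coverings, and τ'-coverings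
{W_jk → W_j}. Write A_X for the abelian τ-sheaves F on C/X with ε_{X,*}F in A'_X. Let f : X → Y be
in P such that {X → Y} is a τ-covering, F' in A'_Y, n ≥ 0, and θ ∈ H^{n+1}_{τ'}(X, F') a class whose
two restrictions to X ×_Y X coincide. Then there is a τ'-covering {Y_i → Y} such that θ restricts to
zero in H^{n+1}_{τ'}(Y_i ×_Y X, F') for every i. Cohomology over an object Z → Y of C/Y is that of
the τ'-sheaf F' on the localised site at that object; fibre products are expressed through pullback
squares. -/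
theorem result
    {C : Type u} [SmallCategory C] {J J' : GrothendieckTopology C} (h : J' ≤ J)
    (P : MorphismProperty C)
    (A' : ∀ X : C, ObjectProperty (Sheaf (J'.over X) AddCommGrpCat.{u})) [∀ X : C, WSerre.IsWeakSerre (A' X)]
    (h1 : ∀ ⦃X Y : C⦄ (f : X ⟶ Y), P f → ∀ ⦃Y' : C⦄ (g : Y' ⟶ Y),
      ∃ (W : C) (p : W ⟶ Y') (q : W ⟶ X), IsPullback p q g f ∧ P p)
    (h2 : ∀ ⦃X Y : C⦄ (f : X ⟶ Y) (F' : Sheaf (J'.over Y) AddCommGrpCat.{u}), A' Y F' →
      A' X ((CohSite.push (J'.over Y) (J'.over X) (Over.map f)).obj F'))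
    (h3 : ∀ (X : C) (F' : Sheaf (J'.over X) AddCommGrpCat.{u}), A' X F' → Presheaf.IsSheaf (J.over X) F'.obj)
    (h4 : ∀ ⦃X Y : C⦄ (f : X ⟶ Y)
      [((Over.map f).sheafPushforwardCocontinuous AddCommGrpCat.{u} (J'.over X) (J'.over Y)).Additive],
      P f → ∀ (F' : Sheaf (J'.over X) AddCommGrpCat.{u}), A' X F' → ∀ i : ℕ,
        A' Y ((((Over.map f).sheafPushforwardCocontinuous AddCommGrpCat.{u} (J'.over X) (J'.over Y)).rightDerived i).obj F'))
    (h5 : ∀ (U : C) (S : Sieve U), S ∈ J U → ∃ (ι : Type u) (V : ι → C) (v : ∀ j, V j ⟶ U),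
      Sieve.ofArrows V v ∈ J' U ∧ ∀ j, ∃ (W : C) (w : W ⟶ V j), P w ∧
        Sieve.ofArrows (fun _ : PUnit.{u + 1} => W) (fun _ => w) ∈ J (V j) ∧
        ∃ (κ : Type u) (Wk : κ → C) (wk : ∀ k, Wk k ⟶ W), Sieve.ofArrows Wk wk ∈ J' W ∧
          ∀ k, S.arrows (wk k ≫ w ≫ v j))
    {X Y : C} (f : X ⟶ Y) (hf : P f) (hcov : Sieve.ofArrows (fun _ : PUnit.{u + 1} => X) (fun _ => f) ∈ J Y)
    (F' : Sheaf (J'.over Y) AddCommGrpCat.{u}) (hF' : A' Y F') (n : ℕ)
    (θ : CohSite.HU F' (n + 1) (Over.mk f))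
    (hθ : ∀ (W : C) (p q : W ⟶ X) (hW : IsPullback p q f f),
      CohSite.res F' (n + 1) (Over.homMk p rfl : Over.mk (p ≫ f) ⟶ Over.mk f) θ =
        CohSite.res F' (n + 1) (Over.homMk q hW.w.symm : Over.mk (p ≫ f) ⟶ Over.mk f) θ) :
    ∃ (ι : Type u) (Z : ι → C) (g : ∀ i, Z i ⟶ Y), Sieve.ofArrows Z g ∈ J' Y ∧
      ∀ (i : ι) (W : C) (p : W ⟶ Z i) (q : W ⟶ X), IsPullback p q (g i) f →
        CohSite.res F' (n + 1) (Over.homMk q rfl : Over.mk (q ≫ f) ⟶ Over.mk f) θ = 0 := by
  haveI : HasPullbacksAlong f := fun {Z} g => by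
    obtain ⟨W, p, q, hW, -⟩ := h1 f hf g
    exact hW.hasPullback
  haveI := additive_pushCo J' f
  let Pp := (bcFun f).op ⋙ Sheaf.cohomologyPresheaf.{u} F' (n + 1)
  let M := (presheafToSheaf (J'.over Y) AddCommGrpCat.{u}).obj Pp
  have hM : Presheaf.IsSheaf (J.over Y) M.obj := by
    obtain ⟨e⟩ := nonempty_rightDerived_pushCo J' f F' (n + 1)
    exact h3 Y M ((A' Y).prop_of_iso e (h4 f hf _ (h2 f F' hF') (n + 1)))
  let top : Over Y := Over.mk (𝟙 Y)
  let θ' : Pp.obj (op top) := CohSite.res F' (n + 1) (bcProj f top) θ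
  let η := toSheafify (J'.over Y) Pp
  let σ : M.obj.obj (op top) := (η.app (op top)).hom θ'
  let t : Over.mk f ⟶ top := Over.homMk f (Category.comp_id _)
  have hres : ∀ {A B D : Over Y} (a : B ⟶ A) (b : D ⟶ B) (x : CohSite.HU F' (n + 1) A),
      CohSite.res F' (n + 1) b (CohSite.res F' (n + 1) a x) = CohSite.res F' (n + 1) (b ≫ a) x := fun a b x => by
    show _ = ((Sheaf.cohomologyPresheaf.{u} F' (n + 1)).map (b ≫ a).op).hom x
    rw [op_comp, CategoryTheory.Functor.map_comp]
    rfl
  have hmap : ∀ {Z Z' : Over Y} (g : Z' ⟶ Z) (x : CohSite.HU F' (n + 1) (Over.mk f)),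
      (Pp.map g.op).hom (CohSite.res F' (n + 1) (bcProj f Z) x) = CohSite.res F' (n + 1) (bcProj f Z') x :=
    fun g x => by
      refine (hres _ ((bcFun f).map g) x).trans ?_
      rw [bcProj_natural]
  -- over `X` the class is the pullback by the first projection, hence locally zero
  have hX : (M.obj.map t.op).hom σ = 0 := by
    obtain ⟨S, hS, hSθ⟩ := exists_cover_res_eq_zero F' (Over.mk f) n θ
    refine (Presheaf.IsSheaf.isSeparated M.property) (Over.mk f) S hS _ _ fun V g hg => ?_
    show (M.obj.map g.op).hom ((M.obj.map t.op).hom σ) = (M.obj.map g.op).hom 0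
    rw [map_zero]
    have h0 : (Pp.map g.op).hom ((Pp.map t.op).hom θ') = 0 := by
      rw [hmap t θ]
      let W := pullback f f
      let i : (bcFun f).obj (Over.mk f) ⟶ Over.mk (pullback.fst f f ≫ f) :=
        Over.homMk (𝟙 W) ((Category.id_comp _).trans pullback.condition)
      have e : bcProj f (Over.mk f) = i ≫ (Over.homMk (pullback.snd f f) pullback.condition.symm :
          Over.mk (pullback.fst f f ≫ f) ⟶ Over.mk f) :=
        Over.OverMorphism.ext (Category.id_comp _).symm
      rw [e, ← hres, ← hθ W (pullback.fst f f) (pullback.snd f f) (IsPullback.of_hasPullback f f), hres]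
      refine (hres _ ((bcFun f).map g) θ).trans ?_
      let pV : (bcFun f).obj V ⟶ V := Over.homMk (pullback.fst V.hom f) pullback.condition
      have e' : (bcFun f).map g ≫ i ≫ (Over.homMk (pullback.fst f f) rfl : Over.mk (pullback.fst f f ≫ f) ⟶ Over.mk f) = pV ≫ g := by
        apply Over.OverMorphism.ext
        simp [i, pV, W, bcFun]; exact pullback.lift_fst _ _ _
      rw [e', ← hres, hSθ V g hg, map_zero]
    have hn : ∀ {Z Z' : Over Y} (a : Z' ⟶ Z) (x : Pp.obj (op Z)),
        (M.obj.map a.op).hom ((η.app (op Z)).hom x) = (η.app (op Z')).hom ((Pp.map a.op).hom x) :=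
      fun a x => (ConcreteCategory.congr_hom (η.naturality a.op) x).symm
    rw [hn t θ', hn g, h0, map_zero]
  have hσ : σ = 0 := by
    refine (Presheaf.IsSheaf.isSeparated hM) top ((Sieve.overEquiv top).symm (Sieve.ofArrows (fun _ : PUnit.{u + 1} => X) (fun _ => f)))
      (J.overEquiv_symm_mem_over _ _ hcov) _ _ fun V g hg => ?_
    rw [Sieve.overEquiv_symm_iff] at hg
    obtain ⟨_, r, _, ⟨_⟩, hk⟩ := hg
    show (M.obj.map g.op).hom σ = (M.obj.map g.op).hom 0
    rw [map_zero]
    let b : V ⟶ Over.mk f := Over.homMk r (by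
      refine Eq.trans ?_ (Over.w g)
      exact hk.trans (Category.comp_id g.left).symm)
    have e : g = b ≫ t := Over.OverMorphism.ext hk.symm
    rw [e, op_comp, M.obj.map_comp]
    exact (congrArg (M.obj.map b.op).hom hX).trans (map_zero (M.obj.map b.op).hom)
  let S := Presheaf.equalizerSieve θ' 0
  have hS : S ∈ (J'.over Y) top := Presheaf.equalizerSieve_mem (J'.over Y) η θ' 0
    (hσ.trans (map_zero (η.app (op top)).hom).symm)
  let ι := Σ V : Over Y, { g : V ⟶ top // S g }
  refine ⟨ι, fun i => i.1.left, fun i => i.1.hom, ?_, ?_⟩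
  · refine J'.superset_covering ?_ ((GrothendieckTopology.mem_over_iff _ _).1 hS)
    intro Z g hg
    let V : Over Y := Over.mk g
    have hg' : S (Over.homMk g (Category.comp_id _) : V ⟶ top) := by
      have := (Sieve.overEquiv_iff S g).1 hg
      let a : V ⟶ Over.mk (g ≫ top.hom) := Over.homMk (𝟙 Z) (by show 𝟙 Z ≫ g ≫ 𝟙 Y = g; simp)
      have e : (Over.homMk g (Category.comp_id _) : V ⟶ top) = a ≫ (Over.homMk g rfl : Over.mk (g ≫ top.hom) ⟶ top) := by
        apply Over.OverMorphism.ext
        exact (Category.id_comp _).symm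
      rw [e]
      exact S.downward_closed this a
    exact Sieve.ofArrows_mk (fun i : ι => i.1.left) (fun i => i.1.hom) ⟨V, _, hg'⟩
  · rintro ⟨V, g, hg⟩ W p q hW
    let m : Over.mk (q ≫ f) ⟶ (bcFun f).obj V := Over.homMk (pullback.lift p q hW.w) (by
      show pullback.lift p q hW.w ≫ pullback.snd V.hom f ≫ f = q ≫ f
      rw [pullback.lift_snd_assoc])
    have e : (Over.homMk q rfl : Over.mk (q ≫ f) ⟶ Over.mk f) = m ≫ bcProj f V :=
      Over.OverMorphism.ext (pullback.lift_snd _ _ _).symm
    rw [e, ← hres]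
    have h0 : (Pp.map g.op).hom θ' = 0 := (show (Pp.map g.op).hom θ' = (Pp.map g.op).hom 0 from hg).trans (map_zero _)
    rw [hmap g θ] at h0
    rw [h0, map_zero]

end Groth.Agent.S9075
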