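import Groth.Statements.S9077
import Groth.Agent.SiteCmpC.Cmp.Induction
import Groth.Agent.SiteBase.LerayDegen
import Groth.Agent.SiteBase.Sections
import Groth.Agent.SiteBase.Horseshoe

set_option autoImplicit false
universe u
open CategoryTheory CategoryTheory.Limits Opposite
open SiteCmp Groth.Agent.SiteCmpC.Cmp Groth.Agent.SiteBase

namespace Groth.Agent.S9077

/-- Setting (two topologies τ' coarser than τ on a category C, rendered as J' ≤ J with J the finer one;
for each object X the comparison morphism ε_X between the localised sites C_τ/X and C_τ'/X, whose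
direct image ε_{X,*} regards a τ-sheaf as a τ'-sheaf): P is a class of arrows of C and for every X a
weak Serre subcategory A'_X of the abelian τ'-sheaves on C/X is given, such that (1) arrows of P
admit all base changes and these stay in P; (2) restriction along any f : X → Y sends A'_Y into
A'_X; (3) members of A'_X satisfy the sheaf condition for τ; (4) for f : X → Y in P the higher
direct images R^i f_{τ',*} (right derived functors of the relocalisation pushforward on τ'-sheaves)
send A'_X into A'_Y for all i ≥ 0; (5) every τ-covering of any U is refined by a family obtained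
from a τ'-covering {V_j → U}, single arrows W_j → V_j in P that are τ-coverings, and τ'-coverings
{W_jk → W_j}. Write A_X for the abelian τ-sheaves F on C/X with ε_{X,*}F in A'_X. Then for X in C
and F' in A'_X we have H^n_{τ'}(X, F') = H^n_τ(X, ε_X^{-1}F') for all n, where ε_X^{-1} is the left
adjoint of ε_{X,*} (τ-sheafification) and cohomology is taken over the final object of C/X. Only the
existence of an isomorphism of abelian groups is asserted (the comparison map is not named here);
part (2) of the published lemma, for bounded below complexes, is not stated. -/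
theorem result
    {C : Type u} [SmallCategory C] {J J' : GrothendieckTopology C} (h : J' ≤ J)
    (P : MorphismProperty C)
    (A' : ∀ X : C, ObjectProperty (Sheaf (J'.over X) AddCommGrpCat.{u})) [∀ X : C, WSerre.IsWeakSerre (A' X)]
    (h1 : ∀ ⦃X Y : C⦄ (f : X ⟶ Y), P f → ∀ ⦃Y' : C⦄ (g : Y' ⟶ Y),
      ∃ (W : C) (p : W ⟶ Y') (q : W ⟶ X), IsPullback p q g f ∧ P p)
    (h2 : ∀ ⦃X Y : C⦄ (f : X ⟶ Y) (F' : Sheaf (J'.over Y) AddCommGrpCat.{u}), A' Y F' →
      A' X ((CohSite.push (J'.over Y) (J'.over X) (Over.map f)).obj F'))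
    (h3 : ∀ (X : C) (F' : Sheaf (J'.over X) AddCommGrpCat.{u}), A' X F' → Presheaf.IsSheaf (J.over X) F'.obj)
    (h4 : ∀ ⦃X Y : C⦄ (f : X ⟶ Y)
      [((Over.map f).sheafPushforwardCocontinuous AddCommGrpCat.{u} (J'.over X) (J'.over Y)).Additive],
      P f → ∀ (F' : Sheaf (J'.over X) AddCommGrpCat.{u}), A' X F' → ∀ i : ℕ,
        A' Y ((((Over.map f).sheafPushforwardCocontinuous AddCommGrpCat.{u} (J'.over X) (J'.over Y)).rightDerived i).obj F'))
    (h5 : ∀ (U : C) (S : Sieve U), S ∈ J U → ∃ (ι : Type u) (V : ι → C) (v : ∀ j, V j ⟶ U),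
      Sieve.ofArrows V v ∈ J' U ∧ ∀ j, ∃ (W : C) (w : W ⟶ V j), P w ∧
        Sieve.ofArrows (fun _ : PUnit.{u + 1} => W) (fun _ => w) ∈ J (V j) ∧
        ∃ (κ : Type u) (Wk : κ → C) (wk : ∀ k, Wk k ⟶ W), Sieve.ofArrows Wk wk ∈ J' W ∧
          ∀ k, S.arrows (wk k ≫ w ≫ v j))
    (X : C) (F' : Sheaf (J'.over X) AddCommGrpCat.{u}) (hF' : A' X F') (n : ℕ) :
    Nonempty (CohSite.HU F' n (Over.mk (𝟙 X)) ≃+
      CohSite.HU ((SiteCmp.epsShInv (SiteCmp.over_le h X) AddCommGrpCat.{u}).obj F') n (Over.mk (𝟙 X))) := by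
  haveI := additive_eps (SiteCmp.over_le h X)
  haveI := preservesFiniteLimits_eps (SiteCmp.over_le h X)
  let adj := SiteCmp.epsShAdj (SiteCmp.over_le h X) AddCommGrpCat.{u}
  let F := (SiteCmp.epsShInv (SiteCmp.over_le h X) AddCommGrpCat.{u}).obj F'
  haveI : IsIso (adj.unit.app F') := adj.isIso_unit_app_of_iso (R := epsX h X) (X := ⟨F'.obj, h3 X F' hF'⟩)
    ((fullyFaithfulSheafToPresheaf (J'.over X) _).preimageIso (Iso.refl _))
  let u : F' ≅ (epsX h X).obj F := asIso (adj.unit.app F')
  have hF : A' X ((epsX h X).obj F) := (A' X).prop_of_iso u hF'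
  let top : Over X := Over.mk (𝟙 X)
  let a := CohCx.freeSheaf (J.over X) top
  let b := CohCx.freeSheaf (J'.over X) top
  let e : ∀ G : Sheaf (J.over X) AddCommGrpCat.{u}, Abelian.Ext.{u} a G 0 ≃+ Abelian.Ext.{u} b ((epsX h X).obj G) 0 := fun G =>
    (Abelian.Ext.addEquiv₀.trans (secEquiv (J.over X) top G)).trans
      ((secEquiv (J'.over X) top ((epsX h X).obj G)).symm.trans Abelian.Ext.addEquiv₀.symm)
  have he : ∀ {G G' : Sheaf (J.over X) AddCommGrpCat.{u}} (φ : G ⟶ G') (y : Abelian.Ext.{u} a G 0),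
      e G' (y.comp (Abelian.Ext.mk₀ φ) (add_zero 0)) =
        (e G y).comp (Abelian.Ext.mk₀ ((epsX h X).map φ)) (add_zero 0) := fun {G G'} φ y => by
    obtain ⟨f, rfl⟩ := (Abelian.Ext.addEquiv₀ (X := a) (Y := G)).symm.surjective y
    rw [Abelian.Ext.addEquiv₀_symm_apply, Abelian.Ext.mk₀_comp_mk₀]
    simp only [e, AddEquiv.trans_apply]
    rw [← Abelian.Ext.addEquiv₀_symm_apply f, ← Abelian.Ext.addEquiv₀_symm_apply (f ≫ φ), AddEquiv.apply_symm_apply,
      AddEquiv.apply_symm_apply, secEquiv_comp]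
    refine Eq.trans ?_ (Abelian.Ext.mk₀_comp_mk₀ _ _).symm
    exact congrArg Abelian.Ext.mk₀ (secEquiv_symm_comp (J := J'.over X) (F := (epsX h X).obj G) (G := (epsX h X).obj G') top
      (secEquiv (J.over X) top G f) ((epsX h X).map φ)).symm
  obtain ⟨E⟩ := Groth.Agent.LerayDegen.ext_equiv_of_rightDerived a b (epsX h X)
    (fun I hI => @injective_eps _ _ _ _ (SiteCmp.over_le h X) I hI) e he
    (SESResLib.derivedLES (epsX h X)) F
    (fun q => vanishEps h A' h2 h3 P h4 h5 (q + 1) X F hF (q + 1) (by omega) le_rfl) n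
  exact ⟨(((Abelian.extFunctorObj b n).mapIso u).addCommGroupIsoToAddEquiv).trans E.symm⟩

end Groth.Agent.S9077
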