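import Groth.Statements.S9131
import Groth.Agent.S9599
import Groth.Agent.W4Lib.Flat
import Mathlib
-- import your own Groth.Agent.* helpers here

set_option autoImplicit false
universe u
open CAlg

namespace Groth.Agent.S9131

/-- Let R be a ring, I an ideal, and 0 → K → P → M → 0 a short exact sequence of R-modules with M flat
over R and M/IM projective over R/I. Then the induced sequence of I-adic completions is split short
exact: the map on completions of K → P is injective, the sequence is exact in the middle, and the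
map on completions of P → M has a section linear over the completion of R (so it is surjective). -/
theorem result (R : Type u) [CommRing R] (I : Ideal R)
    (K P M : Type u) [AddCommGroup K] [Module R K] [AddCommGroup P] [Module R P]
    [AddCommGroup M] [Module R M] (f : K →ₗ[R] P) (g : P →ₗ[R] M)
    (hf : Function.Injective f) (hg : Function.Surjective g) (hfg : Function.Exact f g)
    [Module.Flat R M] [Module.Projective (R ⧸ I) (M ⧸ (I • ⊤ : Submodule R M))] :
    Function.Injective (AdicCompletion.map I f) ∧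
      Function.Exact (AdicCompletion.map I f) (AdicCompletion.map I g) ∧
      ∃ s : AdicCompletion I M →ₗ[AdicCompletion I R] AdicCompletion I P,
        AdicCompletion.map I g ∘ₗ s = LinearMap.id := by
  classical
  obtain ⟨hinj, hexact, -⟩ := Groth.Agent.S9599.result I f g hf hg hfg
  refine ⟨hinj, hexact, ?_⟩
  let π : (M →₀ R) →ₗ[R] M := Finsupp.linearCombination R id
  have hπ : Function.Surjective π := Finsupp.linearCombination_id_surjective R M
  let F := M →₀ R
  have hIF : (I • ⊤ : Submodule R F).map π = I • ⊤ := by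
    rw [Submodule.map_smul'', Submodule.map_top, LinearMap.range_eq_top.2 hπ]
  let σ : F →ₗ[R] P := Finsupp.linearCombination R (Function.surjInv hg)
  have hσ : g ∘ₗ σ = π := by
    ext m
    simp [σ, π, Function.surjInv_eq hg]
  -- a section modulo `I`
  let π₁ : (F ⧸ (I • ⊤ : Submodule R F)) →ₗ[R] M ⧸ (I • ⊤ : Submodule R M) := Submodule.mapQ _ _ π (Submodule.map_le_iff_le_comap.mp hIF.le)
  have hπ₁ : Function.Surjective π₁ := fun y => by
    obtain ⟨m, rfl⟩ := Submodule.Quotient.mk_surjective _ y
    obtain ⟨x, rfl⟩ := hπ m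
    exact ⟨Submodule.Quotient.mk x, rfl⟩
  let π₂ : (F ⧸ (I • ⊤ : Submodule R F)) →ₗ[R ⧸ I] M ⧸ (I • ⊤ : Submodule R M) :=
    { π₁ with
      map_smul' := fun a x => by
        obtain ⟨a, rfl⟩ := Ideal.Quotient.mk_surjective a
        exact π₁.map_smul a x }
  obtain ⟨s, hs⟩ := Module.projective_lifting_property π₂ LinearMap.id hπ₁
  have hq : ∀ m : M, ∃ x : F, π x = π (Finsupp.single m 1) ∧
      Submodule.Quotient.mk x = s (Submodule.Quotient.mk (π (Finsupp.single m 1))) := by
    intro m
    obtain ⟨x, hx⟩ := Submodule.Quotient.mk_surjective _ (s (Submodule.Quotient.mk (π (Finsupp.single m 1))))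
    have h1 : π x - π (Finsupp.single m 1) ∈ (I • ⊤ : Submodule R M) := by
      rw [← Submodule.Quotient.eq]
      show π₁ (Submodule.Quotient.mk x) = _
      rw [hx]
      exact LinearMap.congr_fun hs _
    obtain ⟨d, hd, hd'⟩ := hIF.ge h1
    refine ⟨x - d, ?_, ?_⟩
    · rw [map_sub, hd']; abel
    · rw [Submodule.Quotient.mk_sub, (Submodule.Quotient.mk_eq_zero _).mpr hd, sub_zero, hx]
  choose q₀ hq₁ hq₂ using hq
  let q : F →ₗ[R] F := Finsupp.linearCombination R q₀
  have hπq : π ∘ₗ q = π := by
    apply Finsupp.lhom_ext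
    intro m r
    rw [← Finsupp.smul_single_one, map_smul, map_smul, LinearMap.comp_apply,
      show q (Finsupp.single m 1) = q₀ m from (Finsupp.linearCombination_single R (v := q₀) 1 m).trans (one_smul R _), hq₁]
  have hqmod : ∀ x, (Submodule.Quotient.mk (q x) : F ⧸ (I • ⊤ : Submodule R F)) = s (Submodule.Quotient.mk (π x)) := by
    intro x
    induction x using Finsupp.induction_linear with
    | zero => simp
    | add a b ha hb => rw [map_add, map_add, Submodule.Quotient.mk_add, Submodule.Quotient.mk_add, map_add, ha, hb]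
    | single m r =>
      rw [← Finsupp.smul_single_one, map_smul, map_smul, Submodule.Quotient.mk_smul, Submodule.Quotient.mk_smul,
        show q (Finsupp.single m 1) = q₀ m from (Finsupp.linearCombination_single R (v := q₀) 1 m).trans (one_smul R _), hq₂]
      exact ((s.restrictScalars R).map_smul r _).symm
  -- the kernel is pure
  let K₀ := LinearMap.ker π
  have hpure : ∀ x : F, π x = 0 → x ∈ (I • ⊤ : Submodule R F) → x ∈ (I • K₀ : Submodule R F) := by
    intro x hx hxI
    have hex₀ : Function.Exact K₀.subtype π := LinearMap.exact_subtype_ker_map π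
    have h : Function.Injective (K₀.subtype.lTensor (R ⧸ I)) :=
      Groth.Agent.W4Lib.lTensor_injective_of_flat_quotient (M₁ := ↥K₀) K₀.injective_subtype hex₀ hπ (R ⧸ I)
    have h1 : ∀ (A : Type u) [AddCommGroup A] [Module R A] (a : A),
        ((1 : R ⧸ I) ⊗ₜ[R] a) = 0 ↔ a ∈ (I • ⊤ : Submodule R A) := by
      intro A _ _ a
      rw [← LinearEquiv.map_eq_zero_iff (TensorProduct.quotTensorEquivQuotSMul A I),
        ← map_one (Ideal.Quotient.mk I), TensorProduct.quotTensorEquivQuotSMul_mk_tmul, one_smul,
        Submodule.Quotient.mk_eq_zero]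
    have h2 : ((1 : R ⧸ I) ⊗ₜ[R] (⟨x, hx⟩ : K₀)) = 0 := h (by
      rw [map_zero, LinearMap.lTensor_tmul]
      exact (h1 F x).mpr hxI)
    have h3 := Submodule.mem_map_of_mem (f := K₀.subtype) ((h1 K₀ _).mp h2)
    rwa [Submodule.map_smul'', Submodule.map_top, Submodule.range_subtype] at h3
  have hqK : ∀ n : ℕ, ∀ x : F, π x = 0 → (q ^ n) x ∈ (I ^ n • K₀ : Submodule R F) := by
    intro n
    induction n with
    | zero => intro x hx; simpa using (show x ∈ K₀ from hx)
    | succ n ih =>
      intro x hx
      have h1 : q x ∈ (I • K₀ : Submodule R F) := by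
        refine hpure _ ((LinearMap.congr_fun hπq x).trans hx) ?_
        rw [← Submodule.Quotient.mk_eq_zero, hqmod, hx, Submodule.Quotient.mk_zero, map_zero]
      have h2 : K₀.map (q ^ n) ≤ I ^ n • K₀ := Submodule.map_le_iff_le_comap.mpr fun y hy => ih y hy
      have h3 := Submodule.mem_map_of_mem (f := q ^ n) h1
      rw [Submodule.map_smul''] at h3
      rw [pow_succ q n, Module.End.mul_apply, pow_succ I n, mul_comm, Submodule.mul_smul]
      exact Submodule.smul_mono le_rfl h2 h3
  have hπqn : ∀ n : ℕ, ∀ x, π ((q ^ n) x) = π x := by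
    intro n
    induction n with
    | zero => intro x; rfl
    | succ n ih => intro x; rw [pow_succ q n, Module.End.mul_apply, ih]; exact LinearMap.congr_fun hπq x
  -- the sections at all levels
  have hker : ∀ n : ℕ, ∀ x : F, π x ∈ (I ^ n • ⊤ : Submodule R M) → (q ^ n) x ∈ (I ^ n • ⊤ : Submodule R F) := by
    intro n x hx
    have hm : (I ^ n • ⊤ : Submodule R F).map π = I ^ n • ⊤ := by
      rw [Submodule.map_smul'', Submodule.map_top, LinearMap.range_eq_top.2 hπ]
    obtain ⟨d, hd, hd'⟩ := hm.ge hx
    have h1 := Submodule.smul_mono (le_refl (I ^ n)) (le_top : K₀ ≤ ⊤) (hqK n (x - d) (by rw [map_sub, hd', sub_self]))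
    have h2 : (q ^ n) d ∈ (I ^ n • ⊤ : Submodule R F) := Submodule.smul_top_le_comap_smul_top (I ^ n) (q ^ n) hd
    simpa using add_mem h1 h2
  let w : ∀ n, M → (F ⧸ (I ^ n • ⊤ : Submodule R F)) := fun n m =>
    Submodule.Quotient.mk ((q ^ n) (Function.surjInv hπ m))
  have hw : ∀ n (m : M) (x : F), π x - m ∈ (I ^ n • ⊤ : Submodule R M) → w n m = Submodule.Quotient.mk ((q ^ n) x) := by
    intro n m x hx
    rw [Submodule.Quotient.eq, ← map_sub]
    refine hker n _ ?_
    rw [map_sub, Function.surjInv_eq hπ]
    simpa using neg_mem hx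
  have hlift : ∀ n, ∃ t : (M ⧸ (I ^ n • ⊤ : Submodule R M)) →ₗ[R] F ⧸ (I ^ n • ⊤ : Submodule R F),
      ∀ x : F, t (Submodule.Quotient.mk (π x)) = Submodule.Quotient.mk ((q ^ n) x) := by
    intro n
    let lin : M →ₗ[R] F ⧸ (I ^ n • ⊤ : Submodule R F) :=
      { toFun := w n
        map_add' := fun a b => by
          rw [hw n (a + b) (Function.surjInv hπ a + Function.surjInv hπ b)
            (by simp [Function.surjInv_eq hπ]), map_add, Submodule.Quotient.mk_add]
        map_smul' := fun r a => by
          rw [hw n (r • a) (r • Function.surjInv hπ a) (by simp [Function.surjInv_eq hπ]), map_smul,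
            Submodule.Quotient.mk_smul]
          rfl }
    refine ⟨Submodule.liftQ _ lin fun m hm => ?_, fun x => ?_⟩
    · show w n m = 0
      rw [hw n m 0 (by simpa using hm)]
      simp
    · exact hw n (π x) x (by simp)
  choose t ht using hlift
  have hcompat : ∀ {a b : ℕ} (hab : a ≤ b) (y : M ⧸ (I ^ b • ⊤ : Submodule R M)),
      AdicCompletion.transitionMap I F hab (t b y) = t a (AdicCompletion.transitionMap I M hab y) := by
    intro a b hab y
    obtain ⟨m, rfl⟩ := Submodule.Quotient.mk_surjective _ y
    obtain ⟨x, rfl⟩ := hπ m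
    rw [ht b x]
    refine Eq.trans ?_ (ht a x).symm
    show Submodule.Quotient.mk ((q ^ b) x) = Submodule.Quotient.mk ((q ^ a) x)
    rw [Submodule.Quotient.eq]
    obtain ⟨c, rfl⟩ := Nat.exists_eq_add_of_le hab
    rw [pow_add, Module.End.mul_apply, ← map_sub]
    refine Submodule.smul_mono (le_refl (I ^ a)) (le_top : K₀ ≤ ⊤) (hqK a _ ?_)
    rw [map_sub, hπqn, sub_self]
  let T : AdicCompletion I M →ₗ[AdicCompletion I R] AdicCompletion I F :=
    { toFun := fun y => ⟨fun n => t n (y.val n), fun {a b} hab => by rw [hcompat hab, y.2 hab]⟩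
      map_add' := fun y y' => by
        apply AdicCompletion.ext; intro n
        show t n ((y + y').val n) = t n (y.val n) + t n (y'.val n)
        rw [AdicCompletion.val_add_apply, map_add]
      map_smul' := fun r y => by
        apply AdicCompletion.ext; intro n
        show t n (r.val n • y.val n) = r.val n • t n (y.val n)
        obtain ⟨a, ha⟩ := Submodule.Quotient.mk_surjective _ (r.val n)
        rw [← ha]
        exact (t n).map_smul a _ }
  refine ⟨AdicCompletion.map I σ ∘ₗ T, LinearMap.ext fun y => AdicCompletion.ext fun n => ?_⟩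
  rw [LinearMap.comp_apply, LinearMap.comp_apply, AdicCompletion.map_val_apply, AdicCompletion.map_val_apply]
  show g.reduceModIdeal (I ^ n) (σ.reduceModIdeal (I ^ n) (t n (y.val n))) = y.val n
  obtain ⟨m, hm⟩ := Submodule.Quotient.mk_surjective _ (y.val n)
  obtain ⟨x, rfl⟩ := hπ m
  rw [← hm, ht n x]
  show Submodule.Quotient.mk (g (σ ((q ^ n) x))) = Submodule.Quotient.mk (π x)
  rw [show g (σ ((q ^ n) x)) = π ((q ^ n) x) from LinearMap.congr_fun hσ _, hπqn]

end Groth.Agent.S9131
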