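import Groth.Statements.S9179
import Mathlib
-- import your own Groth.Agent.* helpers here

set_option autoImplicit false
universe u
open CategoryTheory CategoryTheory.Limits
open CAlg

namespace Groth.Agent.S9179

/-- An R-algebra of finite type is the colimit of a filtered system of finitely presented R-algebras
whose transition maps are all surjective. -/
theorem result (R A : Type u) [CommRing R] [CommRing A]
    [Algebra R A] [Algebra.FiniteType R A] :
    ∃ (I : Type u) (_ : SmallCategory I) (_ : IsFiltered I) (D : I ⥤ Under (CommRingCat.of R))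
      (c : Cocone D) (_ : IsColimit c),
      (∀ i, (D.obj i).hom.hom.FinitePresentation) ∧
      (∀ (i j : I) (φ : i ⟶ j), Function.Surjective (D.map φ).right.hom) ∧
      Nonempty (c.pt ≅ Under.mk (CommRingCat.ofHom (algebraMap R A))) := by
  classical
  obtain ⟨n, π, hπ⟩ := Algebra.FiniteType.iff_quotient_mvPolynomial''.mp ‹Algebra.FiniteType R A›
  let I : Finset (RingHom.ker π) → Ideal (MvPolynomial (Fin n) R) :=
    fun s => Ideal.span (s.image Subtype.val : Finset (MvPolynomial (Fin n) R))
  have hmono : ∀ {s t : Finset (RingHom.ker π)}, s ≤ t → I s ≤ I t :=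
    fun h => Ideal.span_mono (Finset.coe_subset.mpr (Finset.image_subset_image h))
  have hle : ∀ s, I s ≤ RingHom.ker π := fun s => Ideal.span_le.mpr fun x hx => by
    obtain ⟨y, _, rfl⟩ := Finset.mem_image.mp (Finset.mem_coe.mp hx)
    exact y.2
  let D : Finset (RingHom.ker π) ⥤ Under (CommRingCat.of R) :=
    { obj := fun s => Under.mk (CommRingCat.ofHom (algebraMap R (MvPolynomial (Fin n) R ⧸ I s)))
      map := fun f => Under.homMk (CommRingCat.ofHom (Ideal.Quotient.factor (hmono (leOfHom f)))) (by ext r; rfl)
      map_id := fun s => by apply Under.UnderMorphism.ext; ext x; obtain ⟨a, rfl⟩ := Ideal.Quotient.mk_surjective (I := I s) x; rfl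
      map_comp := fun {s₁ s₂ s₃} f g => by apply Under.UnderMorphism.ext; ext x; obtain ⟨a, rfl⟩ := Ideal.Quotient.mk_surjective (I := I s₁) x; rfl }
  let c : Cocone D :=
    { pt := Under.mk (CommRingCat.ofHom (algebraMap R A))
      ι :=
      { app := fun s => Under.homMk (CommRingCat.ofHom (Ideal.Quotient.lift (I s) π.toRingHom fun a ha => hle s ha))
          (by ext r; exact π.commutes r)
        naturality := fun s t f => by apply Under.UnderMorphism.ext; ext x; obtain ⟨a, rfl⟩ := Ideal.Quotient.mk_surjective (I := I s) x; rfl } }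
  haveI : IsFiltered (Finset (RingHom.ker π)) := inferInstance
  haveI : IsConnected (Finset (RingHom.ker π)) := IsFiltered.isConnected _
  haveI : PreservesColimit (D ⋙ Under.forget _) (forget CommRingCat.{u}) := inferInstance
  haveI : ReflectsColimit (D ⋙ Under.forget _) (forget CommRingCat.{u}) :=
    reflectsColimit_of_reflectsIsomorphisms _ _
  have hc : IsColimit c :=
    isColimitOfReflects (Under.forget _) (isColimitOfReflects (forget CommRingCat.{u})
      (Types.FilteredColimit.isColimitOf' _ _
        (fun z => by
          obtain ⟨p, hp⟩ := hπ z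
          exact ⟨∅, Ideal.Quotient.mk _ p, hp.symm⟩)
        (fun s (x : MvPolynomial (Fin n) R ⧸ I s) (y : MvPolynomial (Fin n) R ⧸ I s) hxy => by
          obtain ⟨a, rfl⟩ := Ideal.Quotient.mk_surjective x
          obtain ⟨b, rfl⟩ := Ideal.Quotient.mk_surjective y
          have h : a - b ∈ RingHom.ker π := by
            rw [RingHom.mem_ker, map_sub, sub_eq_zero]; exact hxy
          refine ⟨insert ⟨a - b, h⟩ s, homOfLE (Finset.subset_insert _ _), ?_⟩
          exact Ideal.Quotient.eq.mpr (Ideal.subset_span (Finset.mem_coe.mpr
            (Finset.mem_image.mpr ⟨_, Finset.mem_insert_self _ _, rfl⟩))))))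
  refine ⟨Finset (RingHom.ker π), inferInstance, inferInstance, D, c, hc, fun s => ?_,
    fun s t f => Ideal.Quotient.factor_surjective (hmono (leOfHom f)), ⟨Iso.refl _⟩⟩
  exact RingHom.finitePresentation_algebraMap.mpr (Algebra.FinitePresentation.quotient ⟨_, rfl⟩)

end Groth.Agent.S9179
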