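import Groth.Statements.S9214
import Groth.Agent.LimitsH94.Approx.Eventually
import Groth.Agent.S0591
-- import your own Groth.Agent.* helpers here

set_option autoImplicit false
universe u
open CategoryTheory CategoryTheory.Limits AlgebraicGeometry
open Lim

namespace Groth.Agent.S9214

set_option backward.isDefEq.respectTransparency false in
set_option backward.isDefEq.respectTransparency.types false in
set_option linter.style.haveILetI false in

/-- Let S = lim S_i be a cofiltered limit of Noetherian schemes with affine transition morphisms, and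
suppose X → S is of finite type and quasi-separated. One can then find an index i, a finite type
morphism W → S_i and a morphism X → W over S_i (compatible with X → S → S_i) for which the resulting
map X → S ×_{S_i} W into the fibre product is a closed immersion. -/
theorem result {I : Type u} [SmallCategory I] [IsCofiltered I]
    (D : I ⥤ Scheme.{u}) (c : Limits.Cone D) (hc : Limits.IsLimit c)
    [∀ (i j : I) (f : i ⟶ j), IsAffineHom (D.map f)] [∀ i, IsNoetherian (D.obj i)]
    {X : Scheme.{u}} (a : X ⟶ c.pt) [QuasiSeparated a] [QuasiCompact a] [LocallyOfFiniteType a] :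
    ∃ (i : I) (W : Scheme.{u}) (w : W ⟶ D.obj i) (b : X ⟶ W) (hb : a ≫ c.π.app i = b ≫ w),
      LocallyOfFiniteType w ∧ QuasiCompact w ∧ IsClosedImmersion (pullback.lift a b hb) := by

  haveI : ∀ {i j : I} (m : i ⟶ j), IsAffineHom (D.map m) := fun m => inferInstance
  haveI : CompactSpace c.pt := Scheme.compactSpace_of_isLimit D c hc
  haveI : QuasiSeparatedSpace c.pt := by
    obtain ⟨i⟩ := IsCofiltered.nonempty (C := I)
    haveI := isAffineHom_π_app D c hc i
    exact quasiSeparatedSpace_of_quasiSeparated (c.π.app i)
  haveI : CompactSpace X := QuasiCompact.compactSpace_of_compactSpace a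
  haveI : QuasiSeparatedSpace X := quasiSeparatedSpace_of_quasiSeparated a
  obtain ⟨Z, g, h, -, hh, hhc, hhs, -, hg, e⟩ := LimitsH94.Approx.exists_factor a
  haveI := hg inferInstance
  obtain ⟨i, W, w, q, hw, hwc, hws, hpb⟩ := Groth.Agent.S0591.result D c hc Z h
  have hb : a ≫ c.π.app i = (g ≫ q) ≫ w := by rw [Category.assoc, hpb.w, ← e, Category.assoc]
  refine ⟨i, W, w, g ≫ q, hb, inferInstance, inferInstance, ?_⟩
  let E : Z ≅ pullback (c.π.app i) w := hpb.flip.isoPullback
  have : pullback.lift a (g ≫ q) hb = g ≫ E.hom := by
    apply pullback.hom_ext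
    · rw [pullback.lift_fst, Category.assoc]
      show a = g ≫ hpb.flip.isoPullback.hom ≫ pullback.fst _ _
      rw [IsPullback.isoPullback_hom_fst, e]
    · rw [pullback.lift_snd, Category.assoc]
      show g ≫ q = g ≫ hpb.flip.isoPullback.hom ≫ pullback.snd _ _
      rw [IsPullback.isoPullback_hom_snd]
  rw [this]
  infer_instance


end Groth.Agent.S9214
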