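import Groth.Statements.S9226
import Groth.Agent.HomDimLib.RegParam
import Groth.Agent.S0558
import Groth.Agent.CAlgGlobalDim.RegSeq
-- import your own Groth.Agent.* helpers here

set_option autoImplicit false
universe u
open CAlg

namespace Groth.Agent.S9226

/-- Let R be a regular local ring, m ≥ 1, f_1, ..., f_m elements of the maximal ideal, and D_1, ..., D_m
derivations of R such that the determinant of the matrix (D_i(f_j)) is a unit of R. Then R/(f_1,
..., f_m) is a regular local ring and f_1, ..., f_m is a regular sequence on R. -/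
theorem result (R : Type u) [CommRing R]
    [IsRegularLocalRing R] (m : ℕ) (hm : 1 ≤ m) (f : Fin m → R)
    (hf : ∀ i, f i ∈ IsLocalRing.maximalIdeal R) (D : Fin m → Derivation ℤ R R)
    (hdet : IsUnit (Matrix.det (Matrix.of (fun i j : Fin m => D i (f j))))) :
    IsRegularLocalRing (R ⧸ Ideal.span (Set.range f)) ∧
      RingTheory.Sequence.IsRegular R (List.ofFn f) := by
  classical
  let x : Fin m → IsLocalRing.maximalIdeal R := fun i => ⟨f i, hf i⟩
  have hli : LinearIndependent (IsLocalRing.ResidueField R)
      fun i => (IsLocalRing.maximalIdeal R).toCotangent (x i) := by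
    rw [Fintype.linearIndependent_iff]
    intro a ha
    choose b hb using fun i => IsLocalRing.residue_surjective (a i)
    have h2 : (∑ i, b i * f i) ∈ IsLocalRing.maximalIdeal R ^ 2 := by
      have h3 : (IsLocalRing.maximalIdeal R).toCotangent (∑ i, b i • x i) = 0 := by
        rw [map_sum, ← ha]
        refine Finset.sum_congr rfl fun i _ => ?_
        rw [map_smul, ← hb i]
        rfl
      rw [Ideal.toCotangent_eq_zero, AddSubmonoidClass.coe_finsetSum] at h3
      simpa [x] using h3
    have hD : ∀ j, IsLocalRing.residue R (D j (∑ i, b i * f i)) = 0 := by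
      intro j
      rw [IsLocalRing.residue_eq_zero_iff]
      rw [sq] at h2
      refine Submodule.mul_induction_on h2 ?_ ?_
      · intro u hu v hv
        rw [Derivation.leibniz, smul_eq_mul, smul_eq_mul]
        exact add_mem (Ideal.mul_mem_right _ _ hu) (Ideal.mul_mem_right _ _ hv)
      · intro u v hu hv; rw [map_add]; exact add_mem hu hv
    have hz : ((Matrix.of fun i j : Fin m => D i (f j)).map (IsLocalRing.residue R)).mulVec a = 0 := by
      funext j
      have h4 := hD j
      simp only [map_sum, Derivation.leibniz, smul_eq_mul, map_add, map_mul] at h4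
      simp only [Matrix.mulVec, dotProduct, Matrix.map_apply, Matrix.of_apply, Pi.zero_apply]
      rw [← h4]
      refine Finset.sum_congr rfl fun i _ => ?_
      rw [(IsLocalRing.residue_eq_zero_iff _).mpr (hf i), zero_mul, add_zero, hb, mul_comm]
    intro i
    have hu : IsUnit ((Matrix.of fun i j : Fin m => D i (f j)).map (IsLocalRing.residue R)) := by
      rw [Matrix.isUnit_iff_isUnit_det, ← RingHom.mapMatrix_apply, ← RingHom.map_det]
      exact hdet.map _
    exact congrFun ((Matrix.mulVec_injective_iff_isUnit.mpr hu) (hz.trans (Matrix.mulVec_zero _).symm)) i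
  refine ⟨((HomDimLib.regular_and_independent_iff x).mp ⟨inferInstance, hli⟩).2,
    RegLoc6.isRegular_iff_weakly _ (fun r hr => by obtain ⟨i, rfl⟩ := List.mem_ofFn.mp hr; exact hf i) ?_⟩
  rw [RingTheory.Sequence.isWeaklyRegular_iff]
  intro i hi
  rw [List.length_ofFn] at hi
  have hp : Ideal.ofList ((List.ofFn f).take i) = Ideal.span (Set.range fun j : Fin i => (x (Fin.castLE hi.le j) : R)) := by
    rw [← CAlgGlobalDim.ofList_ofFn]
    congr 1
    refine List.ext_getElem (by simp [hi.le]) fun n h1 h2 => ?_
    simp [x]
  have hli' := hli.comp (Fin.castLE hi.le) (Fin.castLE_injective _)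
  haveI := ((HomDimLib.regular_and_independent_iff (fun j : Fin i => x (Fin.castLE hi.le j))).mp ⟨inferInstance, hli'⟩).2
  haveI := Groth.Agent.S0558.result (R ⧸ Ideal.span (Set.range fun j : Fin i => (x (Fin.castLE hi.le j) : R)))
  have hni : f ⟨i, hi⟩ ∉ Ideal.span (Set.range fun j : Fin i => (x (Fin.castLE hi.le j) : R)) := by
    intro hmem
    obtain ⟨c, hc⟩ := Ideal.mem_span_range_iff_exists_fun.mp hmem
    have h5 := congrArg (IsLocalRing.maximalIdeal R).toCotangent
      (show (∑ j : Fin i, c j • x (Fin.castLE hi.le j)) = x ⟨i, hi⟩ from Subtype.ext (by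
        rw [AddSubmonoidClass.coe_finsetSum]; simpa [x] using hc))
    rw [map_sum] at h5
    refine hli.notMem_span_image (s := Set.range (Fin.castLE hi.le)) (x := ⟨i, hi⟩) ?_ ?_
    · rintro ⟨j, hj⟩; exact absurd (congrArg Fin.val hj) (by simp [j.isLt.ne])
    · rw [← h5]
      refine Submodule.sum_mem _ fun j _ => ?_
      rw [map_smul, ← IsScalarTower.algebraMap_smul (IsLocalRing.ResidueField R)]
      exact Submodule.smul_mem _ _ (Submodule.subset_span ⟨_, ⟨j, rfl⟩, rfl⟩)
  rw [isSMulRegular_quotient_iff_mem_of_smul_mem]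
  intro a ha
  simp only [smul_eq_mul, Ideal.mul_top, hp, List.getElem_ofFn] at ha ⊢
  exact ((Ideal.Quotient.isDomain_iff_prime _).mp inferInstance).mem_or_mem ha |>.resolve_left hni

end Groth.Agent.S9226
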