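import Groth.Statements.S9227
import Groth.Agent.CplFib6.PolyFibre
-- import your own Groth.Agent.* helpers here

set_option autoImplicit false
universe u
open CAlg

namespace Groth.Agent.S9227

/-- Let R be a regular ring, f an element of R and D a derivation of R with D(f) a unit of R. Then for
every polynomial p with integer coefficients the ring R[z]/(p(z) - f) is regular; in particular
R[z]/(z^n - f) is regular for every n ≥ 1. -/
theorem result (R : Type u) [CommRing R]
    [IsRegularRing R] (f : R) (D : Derivation ℤ R R) (hD : IsUnit (D f)) (p : Polynomial ℤ) :
    IsRegularRing (Polynomial R ⧸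
      Ideal.span ({Polynomial.map (Int.castRingHom R) p - Polynomial.C f} : Set (Polynomial R))) := by
  letI : Algebra ℤ (Polynomial R) := Ring.toIntAlgebra _
  obtain ⟨D', hX, hC⟩ := CplFib6.exists_derivation_polynomial D
  refine CplFib6.regular_quot_of_derivation (Polynomial R) _ D' ?_
  have hp : D' (Polynomial.map (Int.castRingHom R) p) = 0 := by
    induction p using Polynomial.induction_on' with
    | add a b ha hb => rw [Polynomial.map_add, map_add, ha, hb, add_zero]
    | monomial n a =>
      rw [Polynomial.map_monomial, ← Polynomial.C_mul_X_pow_eq_monomial, eq_intCast, map_intCast,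
        ← zsmul_eq_mul, map_zsmul, Derivation.leibniz_pow, hX, smul_zero, smul_zero, smul_zero]
  rw [map_sub, hp, zero_sub, hC]
  exact (hD.map Polynomial.C).neg

end Groth.Agent.S9227
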