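import Groth.Statements.S9239
import Groth.Agent.Punctured93.Branches
import Groth.Agent.S9237
import Groth.Agent.S9238
-- import your own Groth.Agent.* helpers here

set_option autoImplicit false
universe u
open Brnch

namespace Groth.Agent.S9239

/-- For a Noetherian local ring A with completion A^ at its maximal ideal, A^ has at least as many
branches as A, and at least as many geometric branches as A. -/
theorem result (A : Type u) [CommRing A] [IsLocalRing A] [IsNoetherianRing A] :
    Brnch.numBranches A ≤ Brnch.numBranches (AdicCompletion (IsLocalRing.maximalIdeal A) A) ∧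
      Brnch.numGeomBranches A ≤
        Brnch.numGeomBranches (AdicCompletion (IsLocalRing.maximalIdeal A) A) := by
  have key : ∀ (S T : Type u) [CommRing S] [CommRing T] (ψ : S →+* T),
      (letI := ψ.toAlgebra; Module.FaithfullyFlat S T) → ENat.card (minimalPrimes S) ≤ ENat.card (minimalPrimes T) := by
    intro S T _ _ ψ hψ
    have hs := Groth.Agent.BrnchLib.surjOn_minimalPrimes ψ hψ
    choose g hg hg' using fun q : minimalPrimes S => hs q.2
    exact ENat.card_le_card_of_injective (f := fun q => (⟨g q, hg q⟩ : minimalPrimes T)) fun a b hab =>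
      Subtype.ext ((hg' a).symm.trans ((congrArg (fun x : minimalPrimes T => Ideal.comap ψ x.1) hab).trans (hg' b)))
  haveI := Groth.Agent.FormalFib6.isNoetherianRing_adicCompletion A (IsLocalRing.maximalIdeal A)
  haveI hT := Groth.Agent.BrnchLib.henselianLocalRing_completion A
  constructor
  · obtain ⟨S, _, _, _, _, _⟩ := Groth.Agent.S0506.result A
    obtain ⟨ψ, hψ⟩ := Groth.Agent.Punctured93.exists_henselization_completion A S
    haveI hl : IsLocalHom (algebraMap (AdicCompletion (IsLocalRing.maximalIdeal A) A) (AdicCompletion (IsLocalRing.maximalIdeal A) A)) := ⟨fun _ hu => hu⟩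
    haveI := Groth.Agent.Hensel.isHenselization_self (AdicCompletion (IsLocalRing.maximalIdeal A) A) hT
    rw [← Groth.Agent.S9237.result A S,
      ← Groth.Agent.S9237.result (AdicCompletion (IsLocalRing.maximalIdeal A) A) (AdicCompletion (IsLocalRing.maximalIdeal A) A)]
    exact key _ _ ψ (Groth.Agent.BrnchLib.faithfullyFlat_psi A S ψ hψ)
  · obtain ⟨S, _, _, _, _, _⟩ := Groth.Agent.S0537.result A
    obtain ⟨T, _, _, _, _, _⟩ := Groth.Agent.S0537.result (AdicCompletion (IsLocalRing.maximalIdeal A) A)
    obtain ⟨φ, -, hff, -⟩ := Groth.Agent.Punctured93.exists_strictHenselization_completion A S T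
    rw [← Groth.Agent.S9238.result A S, ← Groth.Agent.S9238.result (AdicCompletion (IsLocalRing.maximalIdeal A) A) T]
    exact key _ _ φ hff

end Groth.Agent.S9239
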