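import Groth.Statements.S9241
import Groth.Agent.Punctured93.Branches
import Groth.Agent.S0511
import Groth.Agent.S9237
import Groth.Agent.S9238
import Groth.Agent.S0541
import Groth.Agent.CILib.Basic
-- import your own Groth.Agent.* helpers here

set_option autoImplicit false
universe u
open Brnch

namespace Groth.Agent.S9241

/-- For a Noetherian local ring A of dimension 1, A and its completion A^ have the same number of
branches and the same number of geometric branches. -/
theorem result (A : Type u) [CommRing A] [IsLocalRing A]
    [IsNoetherianRing A] (hA : ringKrullDim A = 1) :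
    Brnch.numBranches (AdicCompletion (IsLocalRing.maximalIdeal A) A) = Brnch.numBranches A ∧
      Brnch.numGeomBranches (AdicCompletion (IsLocalRing.maximalIdeal A) A) =
        Brnch.numGeomBranches A := by
  have hd : ringKrullDim (AdicCompletion (IsLocalRing.maximalIdeal A) A) = 1 :=
    (Groth.Agent.CILib.ringKrullDim_adicCompletion A).trans hA
  haveI := Groth.Agent.FormalFib6.isNoetherianRing_adicCompletion A (IsLocalRing.maximalIdeal A)
  haveI hT := Groth.Agent.BrnchLib.henselianLocalRing_completion A
  constructor
  · obtain ⟨S, _, _, _, _, _⟩ := Groth.Agent.S0506.result A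
    obtain ⟨ψ, hψ⟩ := Groth.Agent.Punctured93.exists_henselization_completion A S
    haveI : IsNoetherianRing S := (Groth.Agent.S0511.result A S).mp inferInstance
    haveI : HenselianLocalRing S := Hensel.IsHenselization.henselian A
    have hff := Groth.Agent.BrnchLib.faithfullyFlat_psi A S ψ hψ
    haveI hl : IsLocalHom (algebraMap (AdicCompletion (IsLocalRing.maximalIdeal A) A) (AdicCompletion (IsLocalRing.maximalIdeal A) A)) := ⟨fun _ hu => hu⟩
    haveI := Groth.Agent.Hensel.isHenselization_self (AdicCompletion (IsLocalRing.maximalIdeal A) A) hT
    rw [← Groth.Agent.S9237.result A S,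
      ← Groth.Agent.S9237.result (AdicCompletion (IsLocalRing.maximalIdeal A) A) (AdicCompletion (IsLocalRing.maximalIdeal A) A)]
    letI := ψ.toAlgebra
    haveI := hff
    haveI : IsScalarTower A S (AdicCompletion (IsLocalRing.maximalIdeal A) A) := IsScalarTower.of_algebraMap_eq' hψ.symm
    exact (Groth.Agent.Punctured93.card_minimalPrimes_eq
      (Groth.Agent.Punctured93.dense_of_completion (Groth.Agent.Hensel.map_maximalIdeal_of_isHenselization A S)) hd).symm
  · obtain ⟨S, _, _, _, _, _⟩ := Groth.Agent.S0537.result A
    obtain ⟨T, _, _, _, _, _⟩ := Groth.Agent.S0537.result (AdicCompletion (IsLocalRing.maximalIdeal A) A)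
    obtain ⟨φ, -, hff, hdense⟩ := Groth.Agent.Punctured93.exists_strictHenselization_completion A S T
    haveI : IsNoetherianRing S := (Groth.Agent.S0540.result A S).mp inferInstance
    haveI : IsNoetherianRing T := (Groth.Agent.S0540.result (AdicCompletion (IsLocalRing.maximalIdeal A) A) T).mp inferInstance
    haveI : HenselianLocalRing S := Hensel.IsStrictHenselization.henselian A
    rw [← Groth.Agent.S9238.result A S, ← Groth.Agent.S9238.result (AdicCompletion (IsLocalRing.maximalIdeal A) A) T]
    letI := φ.toAlgebra
    haveI := hff
    exact (Groth.Agent.Punctured93.card_minimalPrimes_eq hdense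
      ((Groth.Agent.S0541.result (AdicCompletion (IsLocalRing.maximalIdeal A) A) T).trans hd)).symm

end Groth.Agent.S9241
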