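import Groth.Statements.S9273
import Groth.Agent.EtGlue7.Flat
import Mathlib
-- import your own Groth.Agent.* helpers here

set_option autoImplicit false
universe u
open CAlgX

namespace Groth.Agent.S9273

/-- Let A → B and A → A' be ring maps and B' = A' ⊗_A B. If f_1, ..., f_r is an H_1-regular sequence in
B with B/(f_1, ..., f_r) flat over A, then the images of the f_i in B' form an H_1-regular sequence. -/
theorem result (A B A' : Type u) [CommRing A] [CommRing B]
    [CommRing A'] [Algebra A B] [Algebra A A'] (r : ℕ) (f : Fin r → B)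
    (hflat : Module.Flat A (B ⧸ Ideal.span (Set.range f))) (hq : CAlgX.IsH1Regular f) :
    CAlgX.IsH1Regular (fun i => ((1 : A') ⊗ₜ[A] f i : TensorProduct A A' B)) := by
  intro a ha
  let J := Ideal.span (Set.range f)
  let ev : (Fin r → B) →ₗ[A] J :=
    ((∑ i, (LinearMap.proj i : (Fin r → B) →ₗ[B] B).smulRight (⟨f i, Ideal.subset_span ⟨i, rfl⟩⟩ : J)).restrictScalars A)
  have hev : ∀ v, (ev v : B) = ∑ i, v i * f i := fun v => by simp [ev]
  let K : Submodule A (Fin r → B) := (Submodule.span B
    {v : Fin r → B | ∃ i j : Fin r, v = Pi.single i (f j) - Pi.single j (f i)}).restrictScalars A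
  have hsurj : Function.Surjective ev := by
    rintro ⟨x, hx⟩
    obtain ⟨c, hc⟩ := Submodule.mem_span_range_iff_exists_fun B |>.1 hx
    exact ⟨c, Subtype.ext ((hev c).trans hc)⟩
  have hex : Function.Exact K.subtype ev := by
    intro v
    constructor
    · intro hv
      exact ⟨⟨v, hq v ((hev v).symm.trans (congrArg Subtype.val hv))⟩, rfl⟩
    · rintro ⟨⟨v, hv⟩, rfl⟩
      refine Subtype.ext ((hev v).trans ?_)
      induction hv using Submodule.span_induction with
      | mem x hx => obtain ⟨i, j, rfl⟩ := hx; simp [sub_mul, Finset.sum_sub_distrib, Pi.single_apply, ite_mul, mul_comm (f j)]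
      | zero => simp
      | add x y _ _ hx hy =>
        have hx' : ∑ i, x i * f i = 0 := hx
        have hy' : ∑ i, y i * f i = 0 := hy
        simp [add_mul, Finset.sum_add_distrib, hx', hy']
      | smul b x _ hx =>
        have hx' : ∑ i, x i * f i = 0 := hx
        simp [mul_assoc, ← Finset.mul_sum, hx']
  haveI : Module.Flat A (B ⧸ J) := hflat
  have hinj : Function.Injective ((J.subtype.restrictScalars A).lTensor A') :=
    (LinearMap.lTensor_inj_iff_rTensor_inj A' (J.subtype.restrictScalars A)).mpr
      (EtGlue7.rTensor_injective_of_flat (J.subtype.restrictScalars A) (J.mkQ.restrictScalars A)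
        (LinearMap.exact_subtype_mkQ J) (Submodule.mkQ_surjective J) J.injective_subtype A')
  let E := TensorProduct.piRight A A' A' (fun _ : Fin r => B)
  have hE : ∀ (x : A') (v : Fin r → B) i, E (x ⊗ₜ v) i = x ⊗ₜ v i := fun x v i => by simp [E]
  obtain ⟨z, rfl⟩ := E.surjective a
  have hz : ∀ z, (J.subtype.restrictScalars A).lTensor A' (ev.lTensor A' z) = ∑ i, E z i * ((1 : A') ⊗ₜ[A] f i) := by
    intro z
    induction z with
    | zero => simp
    | tmul x v =>
      rw [LinearMap.lTensor_tmul, LinearMap.lTensor_tmul]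
      simp only [LinearMap.coe_restrictScalars, Submodule.subtype_apply, hev, TensorProduct.tmul_sum, hE,
        Algebra.TensorProduct.tmul_mul_tmul, mul_one]
    | add p q hp hq => simp [map_add, hp, hq, add_mul, Finset.sum_add_distrib]
  have h0 : ev.lTensor A' z = 0 := hinj ((hz z).trans (ha.trans (map_zero _).symm))
  obtain ⟨w, rfl⟩ := (lTensor_exact A' hex hsurj z).1 h0
  clear ha h0 hz
  induction w with
  | zero => simp
  | add p q hp hq => rw [map_add, map_add]; exact add_mem hp hq
  | tmul x k =>
    obtain ⟨k, hk⟩ := k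
    show E (x ⊗ₜ k) ∈ _
    rw [show E (x ⊗ₜ k) = fun i => x ⊗ₜ[A] k i from funext (hE x k)]
    induction hk using Submodule.span_induction with
    | mem v hv =>
      obtain ⟨i, j, rfl⟩ := hv
      have : (fun t => x ⊗ₜ[A] (Pi.single i (f j) - Pi.single j (f i) : Fin r → B) t) =
          (x ⊗ₜ[A] (1 : B)) • (Pi.single i ((1 : A') ⊗ₜ[A] f j) - Pi.single j ((1 : A') ⊗ₜ[A] f i)) := by
        funext t
        simp [Pi.single_apply, apply_ite (x ⊗ₜ[A] ·), mul_sub, TensorProduct.tmul_sub]
      rw [this]
      exact Submodule.smul_mem _ _ (Submodule.subset_span ⟨i, j, rfl⟩)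
    | zero => simp only [Pi.zero_apply, TensorProduct.tmul_zero]; exact Submodule.zero_mem _
    | add u v _ _ hu hv =>
      simp only [Pi.add_apply, TensorProduct.tmul_add]
      exact Submodule.add_mem _ hu hv
    | smul b v _ hv =>
      have : (fun t => x ⊗ₜ[A] (b • v) t) = ((1 : A') ⊗ₜ[A] b) • fun t => x ⊗ₜ[A] v t := by
        funext t
        simp
      rw [this]
      exact Submodule.smul_mem _ _ hv

end Groth.Agent.S9273
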