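import Groth.Statements.S9279
import Groth.Agent.Punctured93.Branches
import Groth.Agent.S0511
-- import your own Groth.Agent.* helpers here

set_option autoImplicit false
universe u
open Brnch

namespace Groth.Agent.S9279

/-- For a Noetherian local ring A with henselization S and completion A^ at its maximal ideal, the
spectrum of A^ with its closed point removed is preconnected exactly when the spectrum of S with its
closed point removed is (the two sets are empty together, namely when A has dimension zero). Stated
as: the complement of the closed point in Spec A^ is preconnected iff the complement of the closed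
point in Spec S is. -/
theorem result (A S : Type u) [CommRing A]
    [IsLocalRing A] [IsNoetherianRing A] [CommRing S] [IsLocalRing S] [Algebra A S]
    [IsLocalHom (algebraMap A S)] [Hensel.IsHenselization A S] :
    IsPreconnected
        ({IsLocalRing.closedPoint (AdicCompletion (IsLocalRing.maximalIdeal A) A)}ᶜ :
          Set (PrimeSpectrum (AdicCompletion (IsLocalRing.maximalIdeal A) A))) ↔
      IsPreconnected ({IsLocalRing.closedPoint S}ᶜ : Set (PrimeSpectrum S)) := by
  haveI : IsNoetherianRing S := (Groth.Agent.S0511.result A S).mp inferInstance
  haveI : HenselianLocalRing S := Hensel.IsHenselization.henselian A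
  haveI := Groth.Agent.FormalFib6.isNoetherianRing_adicCompletion A (IsLocalRing.maximalIdeal A)
  obtain ⟨ψ, hψ⟩ := Groth.Agent.Punctured93.exists_henselization_completion A S
  have hff := Groth.Agent.BrnchLib.faithfullyFlat_psi A S ψ hψ
  letI := ψ.toAlgebra
  haveI := hff
  haveI : IsScalarTower A S (AdicCompletion (IsLocalRing.maximalIdeal A) A) := IsScalarTower.of_algebraMap_eq' hψ.symm
  exact Groth.Agent.Punctured93.isPreconnected_punctured_iff
    (Groth.Agent.Punctured93.dense_of_completion (Groth.Agent.Hensel.map_maximalIdeal_of_isHenselization A S))

end Groth.Agent.S9279
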