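import Groth.Statements.S9307
import Groth.Agent.EtRam46.BaseChange

set_option autoImplicit false
universe u
open EtRam

namespace Groth.Agent.S9307

open TensorProduct in
/-- Let A → B be an injective local homomorphism of discrete valuation rings with fraction fields K ⊆ L,
and let K' be a finite separable extension of K that is tamely ramified relative to A. Then every
field F onto which K' ⊗_K L surjects is, as an extension of L, tamely ramified relative to B. (The
published statement also records that K' ⊗_K L is a finite product of fields, whose factors are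
these F; this row does not state that part.) -/
theorem result (A B K L K' : Type u) [CommRing A] [IsDomain A]
    [IsDiscreteValuationRing A] [CommRing B] [IsDomain B] [IsDiscreteValuationRing B] [Algebra A B]
    [IsLocalHom (algebraMap A B)] (hinj : Function.Injective (algebraMap A B))
    [Field K] [Field L] [Field K'] [Algebra A K] [IsFractionRing A K] [Algebra B L] [IsFractionRing B L]
    [Algebra K L] [Algebra A L] [IsScalarTower A K L] [IsScalarTower A B L]
    [Algebra K K'] [FiniteDimensional K K'] [Algebra.IsSeparable K K']
    (h : EtRam.IsTamelyRamified A ((algebraMap K K').comp (algebraMap A K)))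
    (F : Type u) [Field F] [Algebra (K' ⊗[K] L) F] (hF : Function.Surjective (algebraMap (K' ⊗[K] L) F)) :
    EtRam.IsTamelyRamified B ((algebraMap (K' ⊗[K] L) F).comp
      ((Algebra.TensorProduct.includeRight : L →ₐ[K] K' ⊗[K] L).toRingHom.comp (algebraMap B L))) := by
  letI : Algebra L F := ((algebraMap (K' ⊗[K] L) F).comp
    (Algebra.TensorProduct.includeRight : L →ₐ[K] K' ⊗[K] L).toRingHom).toAlgebra
  let f : K' →+* F := (algebraMap (K' ⊗[K] L) F).comp (Algebra.TensorProduct.includeLeftRingHom)
  let φ : A →+* B := algebraMap A B
  have hφ : ∀ a ∈ IsLocalRing.maximalIdeal A, φ a ∈ IsLocalRing.maximalIdeal B := fun a ha =>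
    (IsLocalRing.mem_maximalIdeal _).2 fun hu => (IsLocalRing.mem_maximalIdeal _).1 ha (isUnit_of_map_unit φ a hu)
  set i : B →+* F := (algebraMap L F).comp (algebraMap B L) with hi
  have hcomm : f.comp ((algebraMap K K').comp (algebraMap A K)) = i.comp φ := RingHom.ext fun a => by
    show algebraMap (K' ⊗[K] L) F (algebraMap K K' (algebraMap A K a) ⊗ₜ[K] (1 : L)) =
      algebraMap (K' ⊗[K] L) F ((1 : K') ⊗ₜ[K] algebraMap B L (algebraMap A B a))
    congr 1
    rw [← IsScalarTower.algebraMap_apply A B L, IsScalarTower.algebraMap_apply A K L,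
      Algebra.algebraMap_eq_smul_one, Algebra.algebraMap_eq_smul_one (algebraMap A K a), TensorProduct.smul_tmul]
  have hgE : Function.Injective ((algebraMap K K').comp (algebraMap A K)) :=
    (algebraMap K K').injective.comp (IsFractionRing.injective A K)
  have hinjF : Function.Injective i := (algebraMap L F).injective.comp (IsFractionRing.injective B L)
  have hF' : Subfield.closure (Set.range i ∪ Set.range f) = ⊤ := by
    rw [eq_top_iff]
    rintro x -
    obtain ⟨y, rfl⟩ := hF x
    induction y using TensorProduct.induction_on with
    | zero => rw [map_zero]; exact zero_mem _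
    | add a b ha hb => rw [map_add]; exact add_mem ha hb
    | tmul a b =>
      rw [show a ⊗ₜ[K] b = (a ⊗ₜ[K] (1 : L)) * ((1 : K') ⊗ₜ[K] b) by
        rw [Algebra.TensorProduct.tmul_mul_tmul, mul_one, one_mul], map_mul]
      refine mul_mem (Subfield.subset_closure (Or.inr ⟨a, rfl⟩)) ?_
      exact Groth.Agent.EtRam46.mem_closure_fraction (C := B) (algebraMap L F)
        (fun c => Subfield.subset_closure (Or.inl ⟨c, rfl⟩)) b
  haveI : FiniteDimensional L F := by
    classical
    obtain ⟨s, hs⟩ := (inferInstance : Module.Finite K K').fg_top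
    refine ⟨⟨s.image f, ?_⟩⟩
    rw [eq_top_iff]
    rintro x -
    obtain ⟨y, rfl⟩ := hF x
    induction y using TensorProduct.induction_on with
    | zero => rw [map_zero]; exact zero_mem _
    | add a b ha hb => rw [map_add]; exact add_mem ha hb
    | tmul a b =>
      have ha : a ∈ Submodule.span K (s : Set K') := hs ▸ Submodule.mem_top
      induction ha using Submodule.span_induction generalizing b with
      | mem a ha =>
        rw [show algebraMap (K' ⊗[K] L) F (a ⊗ₜ[K] b) = b • f a by
          rw [Algebra.smul_def]
          show _ = algebraMap (K' ⊗[K] L) F ((1 : K') ⊗ₜ[K] b) * algebraMap (K' ⊗[K] L) F (a ⊗ₜ[K] (1 : L))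
          rw [← map_mul, Algebra.TensorProduct.tmul_mul_tmul, mul_one, one_mul]]
        exact Submodule.smul_mem _ _ (Submodule.subset_span (Finset.mem_coe.2 (Finset.mem_image_of_mem f ha)))
      | zero => rw [TensorProduct.zero_tmul, map_zero]; exact zero_mem _
      | add a a' _ _ h h' => rw [TensorProduct.add_tmul, map_add]; exact add_mem (h b) (h' b)
      | smul c a _ h => rw [TensorProduct.smul_tmul]; exact h (c • b)
  have hdvr : ∀ V : ValuationSubring F, EtRam.Dominates B i V → IsDiscreteValuationRing V :=
    fun V hV => Groth.Agent.EtRam46.isDVR_of_finite L hV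
  have hdvrA : ∀ V : ValuationSubring K', EtRam.Dominates A ((algebraMap K K').comp (algebraMap A K)) V →
      IsDiscreteValuationRing V := fun V hV => Groth.Agent.EtRam46.isDVR_of_finite K hV
  have h' := (Groth.Agent.EtRam46.isTamelyRamified_iff hgE hdvrA).1 h
  change EtRam.IsTamelyRamified B i
  refine (Groth.Agent.EtRam46.isTamelyRamified_iff hinjF hdvr).2 fun W hW => ?_
  exact Groth.Agent.EtRam46.Tame.baseChange L hW φ hφ hcomm hF' hgE (h' _
    ((Groth.Agent.EtRam46.dominates_comap f).2 (hcomm ▸ ⟨fun a => hW.1 _, fun a ha => hW.2 _ (hφ a ha)⟩)))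

end Groth.Agent.S9307
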