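import Groth.Statements.S9312
import Mathlib
-- import your own Groth.Agent.* helpers here

set_option autoImplicit false
universe u
open CAlg

namespace Groth.Agent.S9312

/-- Let a finite group G with n elements act on a ring R by ring automorphisms, with invariant ring R^G,
and let A be an algebra over R^G; G acts on A ⊗ R through the factor R. (1) For every G-invariant b
∈ A ⊗ R there is a monic polynomial over A whose image in (A ⊗ R)[T] is (T - b)^n. (2) For every a
in the kernel of A → A ⊗ R, all coefficients of (T - a)^n below degree n vanish, that is (T - a)^n =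
T^n in A[T]. -/
theorem result (R G A : Type u) [CommRing R] [Group G] [Fintype G]
    [MulSemiringAction G R] [CommRing A] [Algebra (FixedPoints.subring R G) A] :
    (∀ b : TensorProduct (FixedPoints.subring R G) A R,
      (∀ σ : G, Algebra.TensorProduct.map (AlgHom.id (FixedPoints.subring R G) A)
        (MulSemiringAction.toAlgHom (FixedPoints.subring R G) R σ) b = b) →
      ∃ P : Polynomial A, P.Monic ∧
        Polynomial.map (algebraMap A (TensorProduct (FixedPoints.subring R G) A R)) P =
          (Polynomial.X - Polynomial.C b) ^ Fintype.card G) ∧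
    (∀ a : A, algebraMap A (TensorProduct (FixedPoints.subring R G) A R) a = 0 →
      ∀ i : ℕ, i < Fintype.card G → ((Polynomial.X - Polynomial.C a) ^ Fintype.card G).coeff i = 0) := by
  classical
  have hι : Function.Injective (algebraMap (FixedPoints.subring R G) R) := Subtype.val_injective
  have core : ∀ (ι : Type u) [Fintype ι] (r : ι → R) (B : Type u) [CommRing B] [Algebra (FixedPoints.subring R G) B] (j : ι → B),
      ∃ P : Polynomial B, P.Monic ∧
        Polynomial.map (algebraMap B (TensorProduct (FixedPoints.subring R G) B R)) P =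
          ∏ σ : G, (Polynomial.X - Polynomial.C (∑ k, j k ⊗ₜ[(FixedPoints.subring R G)] (σ • r k))) ∧
        ∀ i < Fintype.card G, P.coeff i ∈ Ideal.span (Set.range j) := by
    intro ι _ r B _ _ j
    let w : G → MvPolynomial ι R := fun σ => ∑ k, MvPolynomial.X k * MvPolynomial.C (σ • r k)
    let Q : Polynomial (MvPolynomial ι R) := ∏ σ : G, (Polynomial.X - Polynomial.C (w σ))
    have hfix : ∀ (i : ℕ) (τ : G), MvPolynomial.map (MulSemiringAction.toRingHom G R τ) (Q.coeff i) = Q.coeff i := by
      intro i τ
      rw [← Polynomial.coeff_map]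
      congr 1
      simp only [Q, Polynomial.map_prod, Polynomial.map_sub, Polynomial.map_X, Polynomial.map_C]
      refine Fintype.prod_equiv (Equiv.mulLeft τ) _ _ fun σ => ?_
      congr 2
      simp [w, mul_smul]
    have hrange : ∀ i, ∃ q : MvPolynomial ι (FixedPoints.subring R G), MvPolynomial.map (algebraMap (FixedPoints.subring R G) R) q = Q.coeff i := by
      intro i
      refine RingHom.mem_range.mp (MvPolynomial.mem_range_map_iff_coeffs_subset.mpr fun c hc => ?_)
      obtain ⟨d, -, rfl⟩ := MvPolynomial.mem_coeffs_iff.mp hc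
      refine ⟨⟨(Q.coeff i).coeff d, fun τ => ?_⟩, rfl⟩
      have h := congrArg (MvPolynomial.coeff d) (hfix i τ)
      rwa [MvPolynomial.coeff_map] at h
    choose q hq using hrange
    let n := Fintype.card G
    let Q₀ : Polynomial (MvPolynomial ι (FixedPoints.subring R G)) := Polynomial.X ^ n + ∑ i ∈ Finset.range n, Polynomial.C (q i) * Polynomial.X ^ i
    have hdeg : (∑ i ∈ Finset.range n, Polynomial.C (q i) * Polynomial.X ^ i).degree < (n : WithBot ℕ) := by
      refine (Polynomial.degree_sum_le _ _).trans_lt ((Finset.sup_lt_iff (WithBot.bot_lt_coe n)).mpr fun i hi => ?_)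
      exact (Polynomial.degree_C_mul_X_pow_le i (q i)).trans_lt (WithBot.coe_lt_coe.mpr (Finset.mem_range.mp hi))
    have hQm : Q.Monic := Polynomial.monic_prod_of_monic _ _ fun σ _ => Polynomial.monic_X_sub_C _
    have hQ₀ : Q₀.Monic := Polynomial.monic_X_pow_add hdeg
    have hmap : Q₀.map (MvPolynomial.map (algebraMap (FixedPoints.subring R G) R)) = Q := by
      rcases subsingleton_or_nontrivial R with h | h
      · exact Subsingleton.elim _ _
      have hQn : Q.natDegree = n := by
        rw [Polynomial.natDegree_prod_of_monic _ _ fun σ _ => Polynomial.monic_X_sub_C _]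
        simp [n]
      conv_rhs => rw [hQm.as_sum, hQn]
      simp only [Q₀, Polynomial.map_add, Polynomial.map_pow, Polynomial.map_X, Polynomial.map_sum,
        Polynomial.map_mul, Polynomial.map_C, hq]
    refine ⟨Q₀.map (MvPolynomial.aeval j).toRingHom, hQ₀.map _, ?_, fun i hi => ?_⟩
    · let Φ : MvPolynomial ι R →+* TensorProduct (FixedPoints.subring R G) B R :=
        MvPolynomial.eval₂Hom (Algebra.TensorProduct.includeRight (R := (FixedPoints.subring R G)) (A := B) (B := R)).toRingHom
          (fun k => j k ⊗ₜ[(FixedPoints.subring R G)] 1)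
      have hΦ : (algebraMap B (TensorProduct (FixedPoints.subring R G) B R)).comp (MvPolynomial.aeval j).toRingHom =
          Φ.comp (MvPolynomial.map (algebraMap (FixedPoints.subring R G) R)) := by
        refine MvPolynomial.ringHom_ext (fun a => ?_) (fun k => ?_)
        · simp [Φ, Algebra.TensorProduct.algebraMap_apply]
          try exact ((Algebra.TensorProduct.includeRight (R := (FixedPoints.subring R G)) (A := B) (B := R)).commutes a).symm
        · simp [Φ]
      rw [Polynomial.map_map, hΦ, ← Polynomial.map_map, hmap, Polynomial.map_prod]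
      refine Finset.prod_congr rfl fun σ _ => ?_
      simp [Φ, w, Polynomial.map_sum]
      refine Finset.sum_congr rfl fun k _ => ?_
      rw [← map_mul, Algebra.TensorProduct.tmul_mul_tmul, one_mul, mul_one]
    · have h0 : MvPolynomial.constantCoeff (Q₀.coeff i) = 0 := hι (by
        rw [map_zero, ← MvPolynomial.constantCoeff_map, ← Polynomial.coeff_map, hmap, ← Polynomial.coeff_map]
        simp only [Q, Polynomial.map_prod, Polynomial.map_sub, Polynomial.map_X, Polynomial.map_C, w,
          map_sum, map_mul, MvPolynomial.constantCoeff_X, zero_mul, Finset.sum_const_zero, map_zero, sub_zero]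
        simp [Polynomial.coeff_X_pow, hi.ne, Polynomial.map_sum])
      rw [Polynomial.coeff_map]
      show MvPolynomial.aeval j (Q₀.coeff i) ∈ Ideal.span (Set.range j)
      have key : ∀ p : MvPolynomial ι (FixedPoints.subring R G), MvPolynomial.aeval j p - algebraMap (FixedPoints.subring R G) B (MvPolynomial.constantCoeff p) ∈
          Ideal.span (Set.range j) := by
        intro p
        induction p using MvPolynomial.induction_on with
        | C a => simp
        | add p p' hp hp' => convert add_mem hp hp' using 1; simp; ring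
        | mul_X p k hp =>
          simpa using Ideal.mul_mem_left (Ideal.span (Set.range j)) (MvPolynomial.aeval j p) (Ideal.subset_span ⟨k, rfl⟩)
      simpa [h0] using key (Q₀.coeff i)
  have hprod : ∀ {C : Type u} [CommRing C] (c : C),
      ∏ _σ : G, (Polynomial.X - Polynomial.C c) = (Polynomial.X - Polynomial.C c) ^ Fintype.card G :=
    fun c => by rw [Finset.prod_const, Finset.card_univ]
  refine ⟨fun b hb => ?_, fun a ha i hi => ?_⟩
  · obtain ⟨S, rfl⟩ := TensorProduct.exists_finset (R := (FixedPoints.subring R G)) b
    obtain ⟨P, hP, hPmap, -⟩ := core {x // x ∈ S} (fun x => x.1.2) A (fun x => x.1.1)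
    refine ⟨P, hP, hPmap.trans ?_⟩
    rw [← hprod]
    refine Finset.prod_congr rfl fun σ _ => ?_
    congr 2
    rw [Finset.sum_coe_sort S (fun x => x.1 ⊗ₜ[(FixedPoints.subring R G)] (σ • x.2))]
    conv_rhs => rw [← hb σ, map_sum]
    rfl
  · obtain ⟨B, _, _, hflat, π, hπ, α, hα⟩ : ∃ (B : Type u) (_ : CommRing B) (_ : Algebra (FixedPoints.subring R G) B),
        Module.Flat (FixedPoints.subring R G) B ∧ ∃ π : B →ₐ[FixedPoints.subring R G] A, Function.Surjective π ∧ ∃ α : B, π α = a :=
      ⟨MvPolynomial A (FixedPoints.subring R G), inferInstance, inferInstance, inferInstance, MvPolynomial.aeval id,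
        fun x => ⟨MvPolynomial.X x, MvPolynomial.aeval_X _ _⟩, MvPolynomial.X a, MvPolynomial.aeval_X _ _⟩
    let J : Submodule (FixedPoints.subring R G) B := LinearMap.ker π.toLinearMap
    have hex : Function.Exact J.subtype π.toLinearMap := LinearMap.exact_subtype_ker_map _
    have hz : LinearMap.rTensor R π.toLinearMap (α ⊗ₜ[(FixedPoints.subring R G)] (1 : R)) = 0 := by
      rw [LinearMap.rTensor_tmul, AlgHom.toLinearMap_apply, hα, ← ha]
      rfl
    obtain ⟨z, hz'⟩ := ((rTensor_exact (M := ↥J) R hex hπ) _).mp hz
    obtain ⟨S, rfl⟩ := TensorProduct.exists_finset (R := (FixedPoints.subring R G)) z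
    obtain ⟨P, hP, hPmap, hco⟩ := core {x // x ∈ S} (fun x => x.1.2) B (fun x => (x.1.1 : B))
    have hsum : ∀ σ : G, ∑ x : {x // x ∈ S}, (x.1.1 : B) ⊗ₜ[(FixedPoints.subring R G)] (σ • x.1.2) = α ⊗ₜ[(FixedPoints.subring R G)] (1 : R) := by
      intro σ
      have h := congrArg (LinearMap.lTensor B (MulSemiringAction.toAlgHom (FixedPoints.subring R G) R σ).toLinearMap) hz'
      rw [LinearMap.lTensor_tmul, map_sum, map_sum] at h
      rw [Finset.sum_coe_sort S (fun x => (x.1 : B) ⊗ₜ[(FixedPoints.subring R G)] (σ • x.2))]
      refine Eq.trans ?_ (h.trans ?_)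
      · rfl
      · simp
    have hinj : Function.Injective (algebraMap B (TensorProduct (FixedPoints.subring R G) B R)) := by
      refine fun x y hxy => ?_
      have h1 : Function.Injective ((Algebra.linearMap (FixedPoints.subring R G) R).lTensor B ∘ₗ (TensorProduct.rid (FixedPoints.subring R G) B).symm.toLinearMap) :=
        (Module.Flat.lTensor_preserves_injective_linearMap (M := B) _ hι).comp (TensorProduct.rid (FixedPoints.subring R G) B).symm.injective
      refine h1 ?_
      exact hxy
    have hPeq : P = (Polynomial.X - Polynomial.C α) ^ Fintype.card G := by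
      refine Polynomial.map_injective _ hinj ?_
      rw [hPmap, Polynomial.map_pow, Polynomial.map_sub, Polynomial.map_X, Polynomial.map_C, ← hprod]
      refine Finset.prod_congr rfl fun σ _ => ?_
      rw [hsum σ, Algebra.TensorProduct.algebraMap_apply]
      rfl
    have hmem : π (P.coeff i) = 0 := by
      have h2 : Ideal.span (Set.range fun x : {x // x ∈ S} => (x.1.1 : B)) ≤ RingHom.ker π :=
        Ideal.span_le.mpr (by rintro _ ⟨x, rfl⟩; exact x.1.1.2)
      exact h2 (hco i hi)
    have h3 : ((Polynomial.X - Polynomial.C α) ^ Fintype.card G).map π.toRingHom =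
        (Polynomial.X - Polynomial.C a) ^ Fintype.card G := by
      rw [Polynomial.map_pow, Polynomial.map_sub, Polynomial.map_X, Polynomial.map_C, AlgHom.toRingHom_eq_coe, RingHom.coe_coe, hα]
    rw [← h3, ← hPeq, Polynomial.coeff_map]
    exact hmem

end Groth.Agent.S9312
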