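import Groth.Statements.S9325
import Mathlib
-- import your own Groth.Agent.* helpers here

set_option autoImplicit false
universe u
open CAlg

namespace Groth.Agent.S9325

set_option maxHeartbeats 400000

/-- Let `A` be a ring and `I ⊆ J` ideals of `A` such that the ideal `J/I` of `A/I` is `H_1`-regular: for
every prime `𝔮` of `A/I` containing `J/I` there is `g ∉ 𝔮` such that the extension of `J/I` to
`(A/I)_g` is generated by an `H_1`-regular sequence (a finite sequence all of whose linear relations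
are combinations of the trivial ones). Then `I ∩ J² = I J`. -/
theorem result {A : Type u} [CommRing A] (I J : Ideal A)
    (hIJ : I ≤ J)
    (h : ∀ (𝔮 : Ideal (A ⧸ I)) [𝔮.IsPrime], J.map (Ideal.Quotient.mk I) ≤ 𝔮 →
      ∃ g : A ⧸ I, g ∉ 𝔮 ∧ ∃ (c : ℕ) (f : Fin c → Localization.Away g),
        CAlgX.IsH1Regular f ∧
          Ideal.span (Set.range f) =
            (J.map (Ideal.Quotient.mk I)).map (algebraMap (A ⧸ I) (Localization.Away g))) :
    I ⊓ J ^ 2 = I * J := by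
  classical
  refine le_antisymm ?_ (le_inf Ideal.mul_le_left (Ideal.mul_mono hIJ le_rfl |>.trans (sq J).ge))
  rintro x ⟨hxI, hxJ⟩
  let K : Ideal A := Submodule.colon (I * J) {x}
  suffices hK : K = ⊤ by
    have h1 : (1 : A) ∈ K := hK ▸ Submodule.mem_top
    simpa [K, Submodule.mem_colon_singleton] using h1
  by_contra hne
  obtain ⟨P, hP, hKP⟩ := Ideal.exists_le_maximal K hne
  haveI := hP.isPrime
  by_cases hJP : J ≤ P
  swap
  · obtain ⟨j, hj, hjP⟩ := Set.not_subset.mp hJP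
    refine hjP (hKP ?_)
    rw [Submodule.mem_colon_singleton, smul_eq_mul, mul_comm j x]
    exact Ideal.mul_mem_mul hxI hj
  let 𝔮 : Ideal (A ⧸ I) := P.map (Ideal.Quotient.mk I)
  have hker : RingHom.ker (Ideal.Quotient.mk I) ≤ P := by rw [Ideal.mk_ker]; exact hIJ.trans hJP
  haveI : 𝔮.IsPrime := Ideal.map_isPrime_of_surjective Ideal.Quotient.mk_surjective hker
  obtain ⟨g, hg, c, f, hH1, hspan⟩ := h 𝔮 (Ideal.map_mono hJP)
  obtain ⟨g₀, rfl⟩ := Ideal.Quotient.mk_surjective g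
  have hg₀ : g₀ ∉ P := fun hh => hg (Ideal.mem_map_of_mem _ hh)
  let T := Localization.Away (Ideal.Quotient.mk I g₀)
  let π : A →+* T := (algebraMap (A ⧸ I) T).comp (Ideal.Quotient.mk I)
  have hπz : ∀ a, π a = 0 → ∃ n : ℕ, g₀ ^ n * a ∈ I := by
    intro a ha
    obtain ⟨⟨_, n, rfl⟩, hn⟩ := (IsLocalization.map_eq_zero_iff (Submonoid.powers (Ideal.Quotient.mk I g₀)) T _).mp ha
    exact ⟨n, Ideal.Quotient.eq_zero_iff_mem.mp (by rw [map_mul, map_pow]; exact hn)⟩
  have hπs : ∀ t : T, ∃ (n : ℕ) (a : A), π (g₀ ^ n) * t = π a := by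
    intro t
    obtain ⟨⟨a, _, n, rfl⟩, hn⟩ := IsLocalization.surj (Submonoid.powers (Ideal.Quotient.mk I g₀)) t
    obtain ⟨a, rfl⟩ := Ideal.Quotient.mk_surjective a
    exact ⟨n, a, by simpa [π, mul_comm] using hn⟩
  have hu : ∀ n : ℕ, IsUnit (π (g₀ ^ n)) := fun n => by
    simp only [map_pow]
    exact (IsLocalization.Away.algebraMap_isUnit (Ideal.Quotient.mk I g₀)).pow n
  have hf : ∀ k, ∃ j ∈ J, ∃ u : Tˣ, π j = u * f k := by
    intro k
    have hk : f k ∈ (J.map (Ideal.Quotient.mk I)).map (algebraMap (A ⧸ I) T) :=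
      hspan ▸ Ideal.subset_span ⟨k, rfl⟩
    obtain ⟨⟨⟨a, ha⟩, s⟩, hs⟩ := (IsLocalization.mem_map_algebraMap_iff (Submonoid.powers (Ideal.Quotient.mk I g₀)) T).mp hk
    obtain ⟨j, hj, rfl⟩ := (Ideal.mem_map_iff_of_surjective _ Ideal.Quotient.mk_surjective).mp ha
    exact ⟨j, hj, (IsLocalization.map_units T s).unit, by simp only [IsUnit.unit_spec]; rw [mul_comm, hs]; rfl⟩
  choose e heJ u hu' using hf
  have hspan' : Ideal.span (Set.range fun k => π (e k)) = J.map π := by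
    rw [← Ideal.map_map, ← hspan]
    refine le_antisymm (Ideal.span_le.mpr ?_) (Ideal.span_le.mpr ?_)
    · rintro _ ⟨k, rfl⟩
      simp only [hu']
      exact Ideal.mul_mem_left _ _ (Ideal.subset_span ⟨k, rfl⟩)
    · rintro _ ⟨k, rfl⟩
      refine (Ideal.unit_mul_mem_iff_mem _ (u k).isUnit).mp ?_
      rw [← hu']
      exact Ideal.subset_span ⟨k, rfl⟩
  -- `J ≤ I + (e)` up to a power of `g₀`
  have hJe : ∀ a ∈ J, ∃ n : ℕ, g₀ ^ n * a ∈ I ⊔ Ideal.span (Set.range e) := by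
    intro a ha
    obtain ⟨r, hr⟩ := Ideal.mem_span_range_iff_exists_fun.mp (hspan'.ge (Ideal.mem_map_of_mem π ha))
    choose n b hb using fun k => hπs (r k)
    obtain ⟨m, hm⟩ := hπz (g₀ ^ (∑ k, n k) * a - ∑ k, g₀ ^ (∑ l ∈ Finset.univ.erase k, n l) * b k * e k) (by
      rw [map_sub, map_mul, map_sum, ← hr, Finset.mul_sum, sub_eq_zero]
      refine Finset.sum_congr rfl fun k _ => ?_
      rw [map_mul, map_mul, ← hb, ← Finset.add_sum_erase _ n (Finset.mem_univ k), pow_add, map_mul]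
      ring)
    refine ⟨m + ∑ k, n k, ?_⟩
    have h2 : g₀ ^ (m + ∑ k, n k) * a = g₀ ^ m * (g₀ ^ (∑ k, n k) * a - ∑ k, g₀ ^ (∑ l ∈ Finset.univ.erase k, n l) * b k * e k) +
        g₀ ^ m * ∑ k, g₀ ^ (∑ l ∈ Finset.univ.erase k, n l) * b k * e k := by rw [pow_add]; ring
    rw [h2]
    refine add_mem (Submodule.mem_sup_left hm) (Submodule.mem_sup_right (Ideal.mul_mem_left _ _ ?_))
    exact Ideal.sum_mem _ fun k _ => Ideal.mul_mem_left _ _ (Ideal.subset_span ⟨k, rfl⟩)
  have hJ2 : ∀ a ∈ J * J, ∃ n : ℕ, g₀ ^ n * a ∈ I * J ⊔ Ideal.span (Set.range e) * J := by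
    intro a ha
    refine Submodule.mul_induction_on ha ?_ ?_
    · intro p hp q hq
      obtain ⟨n, hn⟩ := hJe p hp
      refine ⟨n, ?_⟩
      rw [← mul_assoc, ← Ideal.sup_mul]
      exact Ideal.mul_mem_mul hn hq
    · rintro p q ⟨n, hn⟩ ⟨m, hm⟩
      refine ⟨n + m, ?_⟩
      rw [mul_add, show g₀ ^ (n + m) * p = g₀ ^ m * (g₀ ^ n * p) by ring,
        show g₀ ^ (n + m) * q = g₀ ^ n * (g₀ ^ m * q) by ring]
      exact add_mem (Ideal.mul_mem_left _ _ hn) (Ideal.mul_mem_left _ _ hm)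
  obtain ⟨n, hn⟩ := hJ2 x (sq J ▸ hxJ)
  obtain ⟨y, hy, z, hz, hyz⟩ := Submodule.mem_sup.mp hn
  obtain ⟨b, hb⟩ : ∃ b : Fin c → A, ∑ k, b k * e k = z :=
    Ideal.mem_span_range_iff_exists_fun.mp (Ideal.mul_le_left hz)
  -- relations lift to relations
  let Good : (Fin c → T) → Prop := fun v => ∃ (m : ℕ) (w : Fin c → A),
    ∑ k, w k * e k = 0 ∧ ∀ k, π (w k) * (u k : T) = π (g₀ ^ m) * v k
  have hrel : (fun k => π (b k) * (u k : T)) ∈ Submodule.span T
      {v : Fin c → T | ∃ i j : Fin c, v = Pi.single i (f j) - Pi.single j (f i)} := by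
    refine hH1 _ ?_
    have h3 : π (∑ k, b k * e k) = 0 := by
      rw [hb]
      have h4 : z = g₀ ^ n * x - y := by rw [← hyz]; ring
      show algebraMap (A ⧸ I) T (Ideal.Quotient.mk I z) = 0
      have h5 : Ideal.Quotient.mk I z = 0 := Ideal.Quotient.eq_zero_iff_mem.mpr (by
        rw [h4]; exact sub_mem (Ideal.mul_mem_left _ _ hxI) (Ideal.mul_le_left hy))
      simp only [h5, map_zero]
    rw [map_sum] at h3
    rw [← h3]
    exact Finset.sum_congr rfl fun k _ => by rw [map_mul, hu' k, mul_assoc]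
  have hgood : Good (fun k => π (b k) * (u k : T)) := by
    refine Submodule.span_induction ?_ ?_ ?_ ?_ hrel
    · rintro v ⟨i, j, rfl⟩
      obtain ⟨m, a, ha⟩ := hπs ((((u i)⁻¹ * (u j)⁻¹ : Tˣ) : T))
      refine ⟨m, fun k => a * ((if k = i then e j else 0) - (if k = j then e i else 0)), ?_, fun k => ?_⟩
      · simp only [mul_sub, sub_mul, Finset.sum_sub_distrib, mul_ite, mul_zero, ite_mul, zero_mul,
          Finset.sum_ite_eq', Finset.mem_univ, if_true]
        ring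
      · rw [map_mul, map_sub, apply_ite π, apply_ite π, map_zero, hu', hu', ← ha, Pi.sub_apply,
          Pi.single_apply, Pi.single_apply, Units.val_mul]
        by_cases hi : k = i <;> by_cases hj : k = j
        · subst hi; subst hj; simp
        · subst hi
          simp only [if_true, if_neg hj, sub_zero]
          linear_combination (π (g₀ ^ m) * f j * ((u j : T) * ↑(u j)⁻¹)) * (u k).inv_mul + (π (g₀ ^ m) * f j) * (u j).mul_inv
        · subst hj
          simp only [if_true, if_neg hi, zero_sub]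
          linear_combination (-(π (g₀ ^ m) * f i * ((u i : T) * ↑(u i)⁻¹))) * (u k).inv_mul - (π (g₀ ^ m) * f i) * (u i).mul_inv
        · simp [hi, hj]
    · exact ⟨0, 0, by simp, fun k => by simp⟩
    · rintro v v' - - ⟨m, w, hw, hw'⟩ ⟨m', w', hv, hv'⟩
      refine ⟨m + m', fun k => g₀ ^ m' * w k + g₀ ^ m * w' k, ?_, fun k => ?_⟩
      · simp only [add_mul, Finset.sum_add_distrib, mul_assoc, ← Finset.mul_sum, hw, hv, mul_zero, add_zero]
      · rw [map_add, map_mul, map_mul, Pi.add_apply, pow_add, map_mul]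
        linear_combination π (g₀ ^ m') * hw' k + π (g₀ ^ m) * hv' k
    · rintro r v - ⟨m, w, hw, hw'⟩
      obtain ⟨l, a, ha⟩ := hπs r
      refine ⟨m + l, fun k => a * w k, ?_, fun k => ?_⟩
      · simp only [mul_assoc, ← Finset.mul_sum, hw, mul_zero]
      · rw [map_mul, ← ha, Pi.smul_apply, smul_eq_mul, pow_add, map_mul]
        linear_combination π (g₀ ^ l) * r * hw' k
  obtain ⟨m, w, hw, hw'⟩ := hgood
  have hbw : ∀ k, ∃ l : ℕ, g₀ ^ l * (g₀ ^ m * b k - w k) ∈ I := fun k => by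
    refine hπz _ ?_
    rw [map_sub, map_mul, sub_eq_zero]
    refine (u k).isUnit.mul_right_cancel ?_
    rw [hw' k, mul_assoc]
  choose l hl using hbw
  have hmain : g₀ ^ ((∑ k, l k) + m + n) * x ∈ I * J := by
    have h5 : g₀ ^ ((∑ k, l k) + m + n) * x = g₀ ^ ((∑ k, l k) + m) * y +
        (∑ k, (g₀ ^ (∑ k, l k) * (g₀ ^ m * b k - w k)) * e k + g₀ ^ (∑ k, l k) * ∑ k, w k * e k) := by
      rw [Finset.mul_sum (s := Finset.univ) (f := fun k => w k * e k), ← Finset.sum_add_distrib,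
        show ∑ k, (g₀ ^ (∑ k, l k) * (g₀ ^ m * b k - w k) * e k + g₀ ^ (∑ k, l k) * (w k * e k)) =
          g₀ ^ ((∑ k, l k) + m) * ∑ k, b k * e k from by
            rw [Finset.mul_sum]; exact Finset.sum_congr rfl fun k _ => by ring,
        hb, ← mul_add, hyz]
      ring
    rw [h5, hw, mul_zero, add_zero]
    refine add_mem (Ideal.mul_mem_left _ _ hy) (Ideal.sum_mem _ fun k _ => Ideal.mul_mem_mul ?_ (heJ k))
    rw [← Finset.add_sum_erase _ l (Finset.mem_univ k), pow_add, mul_comm (g₀ ^ l k), mul_assoc]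
    exact Ideal.mul_mem_left _ _ (hl k)
  refine hg₀ ((inferInstance : P.IsPrime).mem_of_pow_mem _ (hKP (x := g₀ ^ ((∑ k, l k) + m + n)) ?_))
  rw [Submodule.mem_colon_singleton, smul_eq_mul]
  exact hmain

end Groth.Agent.S9325
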