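import Groth.Statements.S9333
import Groth.Agent.FibDim.BaseField

set_option autoImplicit false
set_option linter.style.haveILetI false
set_option backward.isDefEq.respectTransparency false
set_option backward.isDefEq.respectTransparency.types false
universe u
open QFin

namespace Groth.Agent.S9333

open AlgebraicGeometry CategoryTheory in
/-- Let f : X → S be locally of finite type, g : S' → S any morphism and X' = X ×_S S' with projections
g' : X' → X and f' : X' → S'. If x' ∈ X' maps to x ∈ X and x is closed in the fibre X_{f x}, then x'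
is closed in the fibre X'_{f' x'}. -/
theorem result {X S X' S' : Scheme.{u}} (f : X ⟶ S) [LocallyOfFiniteType f] (g : S' ⟶ S)
    (g' : X' ⟶ X) (f' : X' ⟶ S') (hsq : IsPullback g' f' f g) (x' : X')
    (hx : IsClosed ({f.asFiber (g'.base x')} : Set ↑(f.fiber (f.base (g'.base x'))))) :
    IsClosed ({f'.asFiber x'} : Set ↑(f'.fiber (f'.base x'))) := by
  haveI : LocallyOfFiniteType f' := MorphismProperty.of_isPullback hsq inferInstance
  let x := g'.base x'
  have hfx : ∀ w : ↥(f.fiber (f.base x)), f.asFiber x ⤳ w → w = f.asFiber x := fun w hw =>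
    Set.mem_singleton_iff.mp (hw.mem_closed hx rfl)
  have hrd : Groth.Agent.FibDim.rd f x = 0 := by
    have h := Groth.Agent.FibDim.dim_closure_inter f x
    have hs : closure {x} ∩ f ⁻¹' {f x} = {x} := by
      refine Set.Subset.antisymm ?_ (Set.singleton_subset_iff.mpr ⟨subset_closure rfl, rfl⟩)
      rintro w ⟨hw, hfw⟩
      obtain ⟨w', rfl⟩ : w ∈ Set.range (f.fiberι (f.base x)) := by
        rw [Scheme.Hom.range_fiberι]; exact hfw
      have h1 : f.asFiber x ⤳ w' := by
        rw [← Groth.Agent.FibDim.fiberι_specializes_iff, Scheme.Hom.fiberι_asFiber]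
        exact specializes_iff_mem_closure.mpr hw
      rw [hfx w' h1, Scheme.Hom.fiberι_asFiber]
      rfl
    rw [hs] at h
    haveI : Subsingleton (TopologicalSpace.IrreducibleCloseds ↥({x} : Set X)) :=
      ⟨fun a b => TopologicalSpace.IrreducibleCloseds.ext (Set.ext fun w => by
        obtain ⟨v, hv⟩ := a.isIrreducible.nonempty
        obtain ⟨v', hv'⟩ := b.isIrreducible.nonempty
        exact iff_of_true (Subsingleton.elim v w ▸ hv) (Subsingleton.elim v' w ▸ hv'))⟩
    have h0 : topologicalKrullDim ↥({x} : Set X) ≤ (((0 : ℕ) : ℕ∞) : WithBot ℕ∞) :=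
      Order.krullDim_nonpos_of_subsingleton
    rw [h] at h0
    exact Nat.le_zero.mp (by exact_mod_cast h0)
  have hrd' : Groth.Agent.FibDim.rd f' x' = 0 :=
    Nat.le_zero.mp (hrd ▸ Groth.Agent.FibDim.rd_baseChange_le hsq x')
  refine closure_subset_iff_isClosed.mp fun w hw => ?_
  by_contra hne
  have h1 : x' ⤳ f'.fiberι _ w := by
    have := (specializes_iff_mem_closure.mpr hw).map (f'.fiberι (f'.base x')).continuous
    rwa [Scheme.Hom.fiberι_asFiber] at this
  have h2 : f'.fiberι _ w ≠ x' := fun e => hne (by
    apply (f'.fiberι (f'.base x')).isEmbedding.injective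
    rw [Scheme.Hom.fiberι_asFiber]; exact e)
  have := Groth.Agent.FibDim.rd_lt f' h1 h2.symm (Groth.Agent.FibDim.fiber_apply_fiberι f' w).symm
  omega

end Groth.Agent.S9333
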