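import Groth.Statements.S9334
import Groth.Agent.Triage.SliceCM

set_option autoImplicit false
set_option linter.style.haveILetI false
set_option backward.isDefEq.respectTransparency false
set_option backward.isDefEq.respectTransparency.types false
universe u
open QFin

namespace Groth.Agent.S9334

open AlgebraicGeometry CategoryTheory in
/-- Let f : X → S be locally of finite type, x ∈ X, and write s = f x. The morphism f is quasi-finite at
x exactly when x is a closed point of the fibre X_s and no point x' ≠ x of X_s specializes to x. -/
theorem result {X S : Scheme.{u}} (f : X ⟶ S) [LocallyOfFiniteType f] (x : X) :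
    f.QuasiFiniteAt x ↔
      (IsClosed ({f.asFiber x} : Set ↑(f.fiber (f.base x))) ∧
        ∀ x' : ↑(f.fiber (f.base x)), x' ⤳ f.asFiber x → x' = f.asFiber x) := by
  constructor
  · intro h
    exact ⟨(Scheme.Hom.QuasiFiniteAt.isClopen_singleton_asFiber (f := f) h).1, fun x' hx' =>
      Set.mem_singleton_iff.mp (hx'.mem_open (Scheme.Hom.quasiFiniteAt_iff_isOpen_singleton_asFiber.1 h) rfl)⟩
  · rintro ⟨hcl, hgen⟩
    haveI : IsLocallyNoetherian (f.fiber (f.base x)) :=
      LocallyOfFiniteType.isLocallyNoetherian (f.fiberToSpecResidueField (f.base x))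
    exact Scheme.Hom.quasiFiniteAt_iff_isOpen_singleton_asFiber.2
      (Groth.Agent.Triage.SliceCM.isOpen_singleton_of_minimal_scheme _ hcl hgen)

end Groth.Agent.S9334
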