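import Groth.Statements.S9349
import Groth.Agent.QCoh.FlatOver
import Groth.Agent.QCoh.Qcqs

set_option autoImplicit false
universe u
open FlatMod

namespace Groth.Agent.S9349

section
open AlgebraicGeometry CategoryTheory TopologicalSpace Opposite
variable {X Y S : Scheme.{u}} (f : X ⟶ Y) (q : Y ⟶ S) (F : X.Modules) (W : Y.Opens) (V : S.Opens)

theorem smul_eq (hWV : W ≤ q ⁻¹ᵁ V) (hle : f ⁻¹ᵁ W ≤ (f ≫ q) ⁻¹ᵁ V) (r : Γ(S, V)) :
    (f.app W).hom ((q.appLE V W hWV).hom r) = ((f ≫ q).appLE V (f ⁻¹ᵁ W) hle).hom r := by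
  rw [← CommRingCat.comp_apply, ← Scheme.Hom.appLE_comp_appLE f q V W (f ⁻¹ᵁ W) hWV le_rfl,
    Scheme.Hom.app_eq_appLE]

/-- The sections of the direct image, with the two scalar actions. -/
noncomputable def secEquiv (hWV : W ≤ q ⁻¹ᵁ V) (hle : f ⁻¹ᵁ W ≤ (f ≫ q) ⁻¹ᵁ V) :
    letI : Module Γ(S, V) Γ((Coh.push f).obj F, W) := Module.compHom _ (q.appLE V W hWV).hom
    letI : Module Γ(S, V) Γ(F, f ⁻¹ᵁ W) := Module.compHom _ ((f ≫ q).appLE V (f ⁻¹ᵁ W) hle).hom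
    Γ(F, f ⁻¹ᵁ W) ≃ₗ[Γ(S, V)] Γ((Coh.push f).obj F, W) :=
  letI : Module Γ(S, V) Γ((Coh.push f).obj F, W) := Module.compHom _ (q.appLE V W hWV).hom
  letI : Module Γ(S, V) Γ(F, f ⁻¹ᵁ W) := Module.compHom _ ((f ≫ q).appLE V (f ⁻¹ᵁ W) hle).hom
  { toFun := fun x => x
    invFun := fun x => x
    left_inv := fun _ => rfl
    right_inv := fun _ => rfl
    map_add' := fun _ _ => rfl
    map_smul' := fun r (x : Γ(F, f ⁻¹ᵁ W)) => by
      show ((f ≫ q).appLE V (f ⁻¹ᵁ W) hle).hom r • x = (f.app W).hom ((q.appLE V W hWV).hom r) • x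
      rw [smul_eq f q W V hWV hle] }

theorem transfer (hWV : W ≤ q ⁻¹ᵁ V) (hle : f ⁻¹ᵁ W ≤ (f ≫ q) ⁻¹ᵁ V)
    (h : @Module.Flat Γ(S, V) Γ(F, f ⁻¹ᵁ W) _ _ (Module.compHom _ ((f ≫ q).appLE V (f ⁻¹ᵁ W) hle).hom)) :
    @Module.Flat Γ(S, V) Γ((Coh.push f).obj F, W) _ _ (Module.compHom _ (q.appLE V W hWV).hom) := by
  letI : Module Γ(S, V) Γ((Coh.push f).obj F, W) := Module.compHom _ (q.appLE V W hWV).hom
  letI : Module Γ(S, V) Γ(F, f ⁻¹ᵁ W) := Module.compHom _ ((f ≫ q).appLE V (f ⁻¹ᵁ W) hle).hom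
  haveI := h
  exact Module.Flat.of_linearEquiv (secEquiv f q F W V hWV hle).symm

theorem transfer' (hWV : W ≤ q ⁻¹ᵁ V) (hle : f ⁻¹ᵁ W ≤ (f ≫ q) ⁻¹ᵁ V)
    (h : @Module.Flat Γ(S, V) Γ((Coh.push f).obj F, W) _ _ (Module.compHom _ (q.appLE V W hWV).hom)) :
    @Module.Flat Γ(S, V) Γ(F, f ⁻¹ᵁ W) _ _ (Module.compHom _ ((f ≫ q).appLE V (f ⁻¹ᵁ W) hle).hom) := by
  letI : Module Γ(S, V) Γ((Coh.push f).obj F, W) := Module.compHom _ (q.appLE V W hWV).hom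
  letI : Module Γ(S, V) Γ(F, f ⁻¹ᵁ W) := Module.compHom _ ((f ≫ q).appLE V (f ⁻¹ᵁ W) hle).hom
  haveI := h
  exact Module.Flat.of_linearEquiv (secEquiv f q F W V hWV hle)

end

open AlgebraicGeometry CategoryTheory in
/-- Let f : X → Y be an affine morphism of S-schemes, with q : Y → S, and F a quasi-coherent O_X-module.
Flatness of F over S (along f ≫ q) is equivalent to flatness of f_*F over S (along q). -/
theorem result {X Y S : Scheme.{u}} (f : X ⟶ Y) [IsAffineHom f] (q : Y ⟶ S)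
    (F : X.Modules) (hF : Coh.IsQCoh F) :
    FlatMod.IsFlatOver (f ≫ q) F ↔ FlatMod.IsFlatOver q ((Coh.push f).obj F) := by
  have hpush : Coh.IsQCoh ((Coh.push f).obj F) := Groth.Agent.QCoh.isQCoh_pushforward f hF
  constructor
  · intro hfl y
    obtain ⟨_, ⟨V, hV, rfl⟩, hyV, -⟩ :=
      S.isBasis_affineOpens.exists_subset_of_mem_open (Set.mem_univ (q.base y)) isOpen_univ
    obtain ⟨_, ⟨W, hW, rfl⟩, hyW, hWV⟩ :=
      Y.isBasis_affineOpens.exists_subset_of_mem_open (show y ∈ q ⁻¹ᵁ V from hyV) (q ⁻¹ᵁ V).2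
    have hle : f ⁻¹ᵁ W ≤ (f ≫ q) ⁻¹ᵁ V := fun z hz => hWV hz
    refine (Groth.Agent.QCoh.flat_appLE_iff q hpush hW hV hWV).1 ?_ y hyW
    have h := (Groth.Agent.QCoh.flat_appLE_iff (f ≫ q) hF (hW.preimage f) hV hle).2 fun z _ => hfl z
    exact transfer f q F W V hWV hle h
  · intro hfl x
    obtain ⟨_, ⟨V, hV, rfl⟩, hyV, -⟩ :=
      S.isBasis_affineOpens.exists_subset_of_mem_open (Set.mem_univ (q.base (f.base x))) isOpen_univ
    obtain ⟨_, ⟨W, hW, rfl⟩, hyW, hWV⟩ :=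
      Y.isBasis_affineOpens.exists_subset_of_mem_open (show f.base x ∈ q ⁻¹ᵁ V from hyV) (q ⁻¹ᵁ V).2
    have hle : f ⁻¹ᵁ W ≤ (f ≫ q) ⁻¹ᵁ V := fun z hz => hWV hz
    refine (Groth.Agent.QCoh.flat_appLE_iff (f ≫ q) hF (hW.preimage f) hV hle).1 ?_ x hyW
    have h := (Groth.Agent.QCoh.flat_appLE_iff q hpush hW hV hWV).2 fun z _ => hfl z
    exact transfer' f q F W V hWV hle h

end Groth.Agent.S9349
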