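import Groth.Statements.S9350
import Groth.Agent.S6282
import Groth.Agent.KFlatLib.Scheme.Pullback

set_option autoImplicit false
universe u
open FlatMod

namespace Groth.Agent.S9350

open AlgebraicGeometry CategoryTheory in
/-- Let h : X → Y be a morphism of S-schemes, q : Y → S, G a quasi-coherent O_Y-module and x ∈ X with h
flat at x. Flatness of G over S at h x is equivalent to flatness of h^*G over S at x. -/
theorem result {X Y S : Scheme.{u}} (h : X ⟶ Y) (q : Y ⟶ S)
    (G : Y.Modules) (hG : Coh.IsQCoh G) (x : X) (hflat : (h.stalkMap x).hom.Flat) :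
    FlatMod.IsFlatOverAt q G (h.base x) ↔ FlatMod.IsFlatOverAt (h ≫ q) ((Scheme.Modules.pullback h).obj G) x := by
  let Sy := Y.presheaf.stalk (h.base x)
  let Sx := X.presheaf.stalk x
  let R := S.presheaf.stalk (q.base (h.base x))
  letI algRY : Algebra R Sy := (q.stalkMap (h.base x)).hom.toAlgebra
  letI algYX : Algebra Sy Sx := (h.stalkMap x).hom.toAlgebra
  letI algRX : Algebra R Sx := ((h.stalkMap x).hom.comp (q.stalkMap (h.base x)).hom).toAlgebra
  haveI : IsScalarTower R Sy Sx := IsScalarTower.of_algebraMap_eq fun _ => rfl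
  letI modG : Module R (G.presheaf.stalk (h.base x)) := FlatMod.moduleStalkOver q G (h.base x)
  haveI : IsScalarTower R Sy (G.presheaf.stalk (h.base x)) :=
    IsScalarTower.of_algebraMap_smul fun _ _ => rfl
  haveI : Module.Flat Sy Sx := hflat
  haveI : Module.FaithfullyFlat Sy Sx := by
    haveI : IsLocalHom (algebraMap Sy Sx) := inferInstanceAs (IsLocalHom (h.stalkMap x).hom)
    exact Module.FaithfullyFlat.of_flat_of_isLocalHom
  have key := (Groth.Agent.S6282.result (R := R) (S := Sy) (S' := Sx) (G.presheaf.stalk (h.base x))).2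
  let e : ((Scheme.Modules.pullback h).obj G).presheaf.stalk x ≃ₗ[Sx]
      TensorProduct Sy Sx (G.presheaf.stalk (h.base x)) :=
    ((Groth.Agent.KFlatLib.stalkPullbackIso h x).app G).toLinearEquiv
  letI modP : Module R (((Scheme.Modules.pullback h).obj G).presheaf.stalk x) :=
    FlatMod.moduleStalkOver (h ≫ q) ((Scheme.Modules.pullback h).obj G) x
  let eR : ((Scheme.Modules.pullback h).obj G).presheaf.stalk x ≃ₗ[R]
      TensorProduct Sy Sx (G.presheaf.stalk (h.base x)) :=
    { e.toAddEquiv with
      map_smul' := fun r z => by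
        show e ((h ≫ q).stalkMap x r • z) = r • e z
        rw [map_smul, Scheme.Hom.stalkMap_comp]
        exact algebraMap_smul Sx r (e z) }
  exact key.trans ⟨fun hh => by
    haveI := hh
    have h2 : Module.Flat R (((Scheme.Modules.pullback h).obj G).presheaf.stalk x) := Module.Flat.of_linearEquiv eR
    exact h2, fun hh =>
    haveI : Module.Flat R (((Scheme.Modules.pullback h).obj G).presheaf.stalk x) := hh
    Module.Flat.of_linearEquiv eR.symm⟩

end Groth.Agent.S9350
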