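import Groth.Statements.S9351
import Groth.Agent.FlatAssocX.PureSub

set_option autoImplicit false
universe u
open FlatMod

namespace Groth.Agent.S9351

open AlgebraicGeometry CategoryTheory in
/-- On a scheme X, taking supports is a bijection from the closed subschemes Z ⊆ X with Z → X flat
(indexed by their quasi-coherent ideal sheaves) onto the closed subsets of X stable under
generalization; and any morphism g : Y → X with image inside such a Z factors through Z. -/
theorem result (X : Scheme.{u}) :
    Set.BijOn (fun I : X.IdealSheafData => I.support) {I : X.IdealSheafData | Flat I.subschemeι}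
        {Z : TopologicalSpace.Closeds ↑X | StableUnderGeneralization (Z : Set ↑X)} ∧
      ∀ I : X.IdealSheafData, Flat I.subschemeι → ∀ (Y : Scheme.{u}) (g : Y ⟶ X),
        Set.range g.base ⊆ (I.support : Set ↑X) → ∃ g' : Y ⟶ I.subscheme, g' ≫ I.subschemeι = g := by
  have hp := fun I => Groth.Agent.FlatAssocX.flat_subschemeι_iff (X := X) I
  refine ⟨⟨fun I hI => Groth.Agent.FlatAssocX.stableUnderGeneralization_support ((hp I).1 hI),
    fun I hI J hJ h => Groth.Agent.FlatAssocX.eq_of_support_eq ((hp I).1 hI) ((hp J).1 hJ) h,
    fun Z hZ => ?_⟩, fun I hI Y g hg => Groth.Agent.FlatAssocX.factors_of_range_subset ((hp I).1 hI) g hg⟩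
  obtain ⟨I, hI, hIZ⟩ := Groth.Agent.FlatAssocX.exists_pure_of_stable Z hZ
  exact ⟨I, (hp I).2 hI, hIZ⟩

end Groth.Agent.S9351
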