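import Groth.Statements.S9440
import Groth.Agent.S0576
import Groth.Agent.S0566
import Groth.Agent.CAlgH39.RedTensor
import Groth.Agent.CAlgOdd.NagataFT.Local
-- import your own Groth.Agent.* helpers here

set_option autoImplicit false
universe u
open CAlg
open Groth.Agent.CAlgH39

namespace Groth.Agent.S9440

/-- A finite algebra over a local ring contains a local subring with small conductor. -/
theorem exists_local_subalgebra {A : Type u} [CommRing A] [IsLocalRing A] (C : Type u) [CommRing C] [Nontrivial C]
    [Algebra A C] [Module.Finite A C] :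
    ∃ D : Subalgebra A C, IsLocalRing D ∧ ∀ j ∈ IsLocalRing.maximalIdeal A, ∀ y : C, y * algebraMap A C j ∈ D := by
  let J : Ideal C := Ideal.jacobson ⊥
  let D : Subalgebra A C := (⊥ : Subalgebra A (C ⧸ J)).comap (Ideal.Quotient.mkₐ A J)
  have hD : ∀ x : C, x ∈ D ↔ ∃ r : A, x - algebraMap A C r ∈ J := fun x => by
    simp only [D, Subalgebra.mem_comap, Algebra.mem_bot, Set.mem_range, Ideal.Quotient.mkₐ_eq_mk]
    exact exists_congr fun r => by
      rw [← Ideal.Quotient.mk_algebraMap, eq_comm, Ideal.Quotient.mk_eq_mk_iff_sub_mem]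
  have hunit : ∀ (x : D) (r : A), IsUnit r → (x : C) - algebraMap A C r ∈ J → IsUnit x := by
    intro x r hr hx
    obtain ⟨ru, rfl⟩ := hr
    have hu : IsUnit (x : C) := by
      have := (Ideal.mem_jacobson_bot.1 hx) (algebraMap A C (ru⁻¹ : Aˣ))
      have e : (x : C) = algebraMap A C ru * (((x : C) - algebraMap A C ru) * algebraMap A C (ru⁻¹ : Aˣ) + 1) := by
        rw [mul_add, mul_one, mul_left_comm, ← map_mul, ← Units.val_mul, mul_inv_cancel, Units.val_one, map_one,
          mul_one, sub_add_cancel]
      rw [e]
      exact (ru.isUnit.map _).mul this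
    obtain ⟨u, hu⟩ := hu
    have hmem : ((u⁻¹ : Cˣ) : C) ∈ D := (hD _).2 ⟨(ru⁻¹ : Aˣ), by
      have e : ((u⁻¹ : Cˣ) : C) - algebraMap A C (ru⁻¹ : Aˣ) =
          (((u⁻¹ : Cˣ) : C) * algebraMap A C (ru⁻¹ : Aˣ)) * -((x : C) - algebraMap A C ru) := by
        have h1 : algebraMap A C (ru⁻¹ : Aˣ) * algebraMap A C ru = 1 := by
          rw [← map_mul, Units.inv_mul, map_one]
        have h2 : ((u⁻¹ : Cˣ) : C) * x = 1 := by rw [← hu, Units.inv_mul]
        linear_combination (- ((u⁻¹ : Cˣ) : C)) * h1 + algebraMap A C (ru⁻¹ : Aˣ) * h2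
      rw [e]
      exact J.mul_mem_left _ (J.neg_mem hx)⟩
    exact IsUnit.of_mul_eq_one (⟨_, hmem⟩ : D) (Subtype.ext (by rw [MulMemClass.coe_mul, ← hu, Units.mul_inv]; rfl))
  have : IsLocalRing D := by
    refine IsLocalRing.of_isUnit_or_isUnit_one_sub_self fun x => ?_
    obtain ⟨r, hr⟩ := (hD _).1 x.2
    rcases IsLocalRing.isUnit_or_isUnit_one_sub_self r with h | h
    · exact Or.inl (hunit x r h hr)
    · refine Or.inr (hunit _ _ h ?_)
      have : (((1 : D) - x : D) : C) - algebraMap A C (1 - r) = -((x : C) - algebraMap A C r) := by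
        simp
      rw [this]; exact J.neg_mem hr
  refine ⟨D, this, fun j hj y => (hD _).2 ⟨0, ?_⟩⟩
  rw [map_zero, sub_zero]
  refine J.mul_mem_left _ (Ideal.mem_sInf.2 fun M ⟨_, hM⟩ => ?_)
  have : M.IsMaximal := hM
  have := Ideal.isMaximal_comap_of_isIntegral_of_isMaximal (R := A) M
  exact Ideal.mem_comap.1 ((IsLocalRing.eq_maximalIdeal this).symm ▸ hj)

/-- A finite birational extension which is N-1 bounds the integral closure. -/
theorem finite_integralClosure_of_isN1 {A D L : Type u} [CommRing A] [CommRing D] [IsDomain D] [Field L]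
    [Algebra A D] [Module.Finite A D] [Algebra A L] [Algebra D L] [IsScalarTower A D L] [IsFractionRing D L]
    (hN1 : CAlg.IsN1 D) : Module.Finite A (integralClosure A L) := by
  let e : FractionRing D ≃ₐ[D] L := FractionRing.algEquiv D L
  have : Module.Finite D (integralClosure D (FractionRing D)) := hN1
  have : Module.Finite D (integralClosure D L) := Module.Finite.of_surjective
      (((e : FractionRing D →ₐ[D] L).comp (integralClosure D (FractionRing D)).val).codRestrict (integralClosure D L)
        (fun x => x.2.map (e : FractionRing D →ₐ[D] L))).toLinearMap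
      fun x => ⟨⟨e.symm x, x.2.map (e.symm : L →ₐ[D] FractionRing D)⟩, Subtype.ext (e.apply_symm_apply x.1)⟩
  have : Module.Finite A (integralClosure D L) := Module.Finite.trans D (integralClosure D L)
  exact Module.Finite.of_surjective
    ({ toFun := fun x => ⟨x.1, isIntegral_trans (A := D) x.1 x.2⟩
       map_add' := fun x y => rfl
       map_smul' := fun a x => Subtype.ext (by simp) } : integralClosure D L →ₗ[A] integralClosure A L)
    fun x => ⟨⟨x.1, x.2.tower_top⟩, rfl⟩

/-- (1) ⇔ (3): a Noetherian local ring R is a Nagata ring if and only if for every finite local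
homomorphism R → S of local rings with S a domain, the completion of S is reduced. -/
theorem result (R : Type u) [CommRing R]
    [IsLocalRing R] [IsNoetherianRing R] :
    CAlg.IsNagata R ↔ ∀ (S : Type u) [CommRing S] [IsDomain S] [IsLocalRing S] [Algebra R S]
      [IsLocalHom (algebraMap R S)] [Module.Finite R S],
      IsReduced (AdicCompletion (IsLocalRing.maximalIdeal S) S) := by
  classical
  constructor
  · intro hR S _ _ _ _ _ _
    exact Groth.Agent.S0576.result S (Groth.Agent.S0566.result R hR S)
  intro hS
  refine ⟨inferInstance, fun p hp L _ _ _ _ hfin => ?_⟩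
  let A := R ⧸ p
  have : IsLocalRing A := IsLocalRing.of_surjective' (Ideal.Quotient.mk p) Ideal.Quotient.mk_surjective
  have : IsLocalHom (algebraMap R A) := IsLocalHom.of_surjective _ Ideal.Quotient.mk_surjective
  have hinjL : Function.Injective (algebraMap A L) := by
    rw [IsScalarTower.algebraMap_eq A (FractionRing A) L]
    exact (algebraMap (FractionRing A) L).injective.comp (IsFractionRing.injective A _)
  by_cases hfield : IsField A
  · let : Field A := hfield.toField
    have : Module.Finite A (FractionRing A) :=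
      Module.Finite.of_surjective (Algebra.linearMap A (FractionRing A))
        (IsFractionRing.surjective_iff_isField.2 hfield)
    have : Module.Finite A L := Module.Finite.trans (FractionRing A) L
    exact Module.Finite.of_fg (IsNoetherian.noetherian (Subalgebra.toSubmodule (integralClosure A L)))
  obtain ⟨j₀, hj₀, hj₀0⟩ := Submodule.exists_mem_ne_zero_of_ne_bot
    (fun h => hfield (IsLocalRing.isField_iff_maximalIdeal_eq.2 h) : IsLocalRing.maximalIdeal A ≠ ⊥)
  obtain ⟨C, hCfin, hC⟩ := RedTensor.exists_lattice (A := A) (K' := L)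
  obtain ⟨D₀, hloc, hmem⟩ := exists_local_subalgebra (A := A) C
  let D : Subalgebra A L := D₀.map C.val
  have : IsLocalRing D := (D₀.equivMapOfInjective C.val Subtype.val_injective).toRingEquiv.isLocalRing
  have : Module.Finite A D := by
    have : Module.Finite A D₀ := Module.Finite.of_fg (IsNoetherian.noetherian (Subalgebra.toSubmodule D₀))
    exact Module.Finite.equiv (D₀.equivMapOfInjective C.val Subtype.val_injective).toLinearEquiv
  have : FaithfulSMul A D := (faithfulSMul_iff_algebraMap_injective A D).2 fun a b h =>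
    hinjL (congrArg (fun z : D => (z : L)) h)
  let : Algebra R D := ((algebraMap A D).comp (algebraMap R A)).toAlgebra
  have : IsScalarTower R A D := IsScalarTower.of_algebraMap_eq fun r => rfl
  have : Module.Finite R D := Module.Finite.trans A D
  have : IsLocalHom (algebraMap R D) := RingHom.isLocalHom_comp (algebraMap A D) (algebraMap R A)
  have : IsNoetherianRing D := IsNoetherianRing.of_finite A D
  have hN1 := Groth.Agent.CAlgOdd.NagataFT.isN1_of_isReduced_cpl D (hS D)
  have : IsFractionRing D L := IsFractionRing.of_field D L fun z => by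
    obtain ⟨a, b, hb, hab⟩ := hC z
    have hj0 : algebraMap A L j₀ ≠ 0 := fun h => hj₀0 (hinjL (h.trans (map_zero _).symm))
    refine ⟨⟨_, _, hmem j₀ hj₀ a, rfl⟩, ⟨_, _, hmem j₀ hj₀ b, rfl⟩, ?_⟩
    show z = ((a : L) * algebraMap A L j₀) / ((b : L) * algebraMap A L j₀)
    rw [mul_div_mul_right _ _ hj0, eq_div_iff hb, hab]
  exact finite_integralClosure_of_isN1 hN1

end Groth.Agent.S9440
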