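import Groth.Statements.S9485
import Groth.Agent.Pi1X.FEtBasic
import Mathlib.RingTheory.Ideal.KrullsHeightTheorem

set_option autoImplicit false
universe u
open Pi1

namespace Groth.Agent.S9485

open AlgebraicGeometry CategoryTheory CategoryTheory.Limits in
/-- Let A be a Noetherian local ring with maximal ideal m and f ∈ m, U the punctured spectrum of A and
U₀ that of A/fA (realised as U ×_{Spec A} Spec(A/fA)). Let U' ⊆ U be an open through which U₀ ⟶ Spec
A factors (as u'). If dim(A/p) ≥ 2 for every minimal prime p of A which lies in U' and does not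
contain f, then restriction of finite etale covers along u' is faithful. (Such U' exist, e.g. the
complement in U of the one-dimensional irreducible components not meeting U₀, and the condition
passes to smaller such opens, so restriction from the system of these opens is faithful.) -/
theorem result (A : Type u) [CommRing A] [IsNoetherianRing A] [IsLocalRing A] (f : A) (hf : f ∈ IsLocalRing.maximalIdeal A)
    (U' : (Spec (CommRingCat.of A)).Opens) (hU' : U' ≤ FEt.puncturedSpec A)
    (u' : pullback (FEt.puncturedSpec A).ι (Spec.map (CommRingCat.ofHom (Ideal.Quotient.mk (Ideal.span {f})))) ⟶ (U' : Scheme.{u})) (hu' : u' ≫ U'.ι = (pullback.fst (FEt.puncturedSpec A).ι (Spec.map (CommRingCat.ofHom (Ideal.Quotient.mk (Ideal.span {f})))) ≫ (FEt.puncturedSpec A).ι))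
    (hdim : ∀ p : PrimeSpectrum A, p.asIdeal ∈ minimalPrimes A → p ∈ U' → f ∉ p.asIdeal →
      (2 : WithBot ℕ∞) ≤ ringKrullDim (A ⧸ p.asIdeal)) :
    (FEt.restrict u').Faithful := by
  let mk := Ideal.Quotient.mk (Ideal.span {f})
  let g := Spec.map (CommRingCat.ofHom mk)
  refine Pi1X.restrict_faithful u' fun C hC hne => ?_
  -- the image of `C` in `Spec A`
  let O : Set (PrimeSpectrum A) := U'.ι.base '' C
  have hO : IsOpen O := U'.ι.isOpenEmbedding.isOpenMap _ hC.2
  obtain ⟨c, hc⟩ := hne
  -- a minimal prime in `O`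
  obtain ⟨p₀, hp₀, hp₀c⟩ :=
    Ideal.exists_minimalPrimes_le (I := (⊥ : Ideal A)) (J := (U'.ι.base c : PrimeSpectrum A).asIdeal) bot_le
  let p : PrimeSpectrum A := ⟨p₀, hp₀.1.1⟩
  have hpO : p ∈ O := ((PrimeSpectrum.le_iff_specializes p _).1 hp₀c).mem_open hO ⟨c, hc, rfl⟩
  obtain ⟨cp, hcp, hcpe⟩ := hpO
  have hpU : p ∈ U' := hcpe ▸ cp.2
  -- it suffices to find a non-maximal prime over `p₀ + (f)`
  suffices ∃ q : PrimeSpectrum A, p₀ ≤ q.asIdeal ∧ f ∈ q.asIdeal ∧
      q ≠ IsLocalRing.closedPoint A by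
    obtain ⟨q, hpq, hfq, hqm⟩ := this
    have hqV : q ∈ Set.range g.base := by
      change q ∈ Set.range (PrimeSpectrum.comap mk)
      rw [range_comap_of_surjective _ _ Ideal.Quotient.mk_surjective,
        PrimeSpectrum.mem_zeroLocus, Ideal.mk_ker]
      exact (Ideal.span_singleton_le_iff_mem _).2 hfq
    have hqP : (⟨q, hqm⟩ : (FEt.puncturedSpec A : Scheme.{u})) ∈
        Set.range (pullback.fst (FEt.puncturedSpec A).ι g).base := by
      rw [Scheme.Pullback.range_fst]
      exact hqV
    obtain ⟨w, hw⟩ := hqP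
    refine ⟨u'.base w, ?_, w, rfl⟩
    have hwq : U'.ι.base (u'.base w) = q := by
      have h := congrArg (fun t => t.base w) hu'
      simp only [Scheme.Hom.comp_apply] at h
      exact h.trans (congrArg (FEt.puncturedSpec A).ι.base hw)
    have hs : cp ⤳ u'.base w := by
      rw [← U'.ι.isOpenEmbedding.isInducing.specializes_iff, hcpe, hwq]
      exact (PrimeSpectrum.le_iff_specializes p q).1 hpq
    exact hs.mem_closed hC.1 hcp
  by_cases hfp : f ∈ p₀
  · exact ⟨p, le_rfl, hfp, hU' hpU⟩
  by_contra hnone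
  push Not at hnone
  haveI : p₀.IsPrime := hp₀.1.1
  haveI : IsLocalRing (A ⧸ p₀) := IsLocalRing.of_surjective' _ Ideal.Quotient.mk_surjective
  have hle : (IsLocalRing.maximalIdeal (A ⧸ p₀)).height ≤ 1 := by
    refine Ideal.height_le_one_of_isPrincipal_of_mem_minimalPrimes
      (Ideal.span {Ideal.Quotient.mk p₀ f}) _ ⟨⟨inferInstance, ?_⟩, ?_⟩
    · rw [Ideal.span_singleton_le_iff_mem, IsLocalRing.mem_maximalIdeal]
      intro h
      obtain ⟨y, hy⟩ := isUnit_iff_exists_inv.1 h
      obtain ⟨z, rfl⟩ := Ideal.Quotient.mk_surjective y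
      rw [← map_mul, ← map_one (Ideal.Quotient.mk p₀), Ideal.Quotient.eq] at hy
      have h1 : (1 : A) ∈ IsLocalRing.maximalIdeal A := by
        have := Ideal.sub_mem _ (Ideal.mul_mem_right z _ hf)
          (IsLocalRing.le_maximalIdeal hp₀.1.1.ne_top hy)
        simpa using this
      exact (IsLocalRing.maximalIdeal.isMaximal A).ne_top ((Ideal.eq_top_iff_one _).2 h1)
    · rintro Q ⟨hQ, hfQ⟩ -
      haveI := hQ
      let q : PrimeSpectrum A := ⟨Q.comap (Ideal.Quotient.mk p₀), inferInstance⟩
      have hq := hnone q (fun x hx => by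
        change Ideal.Quotient.mk p₀ x ∈ Q
        rw [Ideal.Quotient.eq_zero_iff_mem.2 hx]; exact Q.zero_mem)
        (show f ∈ q.asIdeal from (Ideal.span_singleton_le_iff_mem Q).1 hfQ)
      intro y hy
      obtain ⟨z, rfl⟩ := Ideal.Quotient.mk_surjective y
      change z ∈ q.asIdeal
      rw [hq]
      exact (IsLocalRing.mem_maximalIdeal _).2 fun hz => (IsLocalRing.mem_maximalIdeal _).1 hy (hz.map _)
  have h2 := hdim p hp₀ hpU hfp
  rw [← IsLocalRing.maximalIdeal_height_eq_ringKrullDim] at h2
  have h3 : (2 : WithBot ℕ∞) ≤ ((1 : ℕ∞) : WithBot ℕ∞) := h2.trans (WithBot.coe_le_coe.2 hle)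
  exact absurd h3 (by decide)

end Groth.Agent.S9485
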