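import Groth.Statements.S9567
import Mathlib
-- import your own Groth.Agent.* helpers here

set_option autoImplicit false
universe u
open EtLocal

namespace Groth.Agent.S9567

open AlgebraicGeometry CategoryTheory in
/-- Let φ : X ⟶ Y be any morphism of schemes, x a point of X and V an affine open neighbourhood of φ(x),
with ring R = Γ(Y, V). If φ is étale on some open neighbourhood of x, then there are an affine open
neighbourhood U of x with φ(U) ⊆ V, a monic polynomial p over R and an open immersion j of U into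
Spec of (R[t]/(p))[1/p′] (the localization of R[t]/(p) away from the image of the derivative of p)
such that j followed by the projection to Spec R is the morphism U → Spec R induced by φ. -/
theorem result {X Y : Scheme.{u}} (φ : X ⟶ Y) (x : X)
    (V : Y.Opens) (hV : IsAffineOpen V) (hxV : φ.base x ∈ V)
    (hφ : ∃ W : X.Opens, x ∈ W ∧ Etale (W.ι ≫ φ)) :
    ∃ (U : X.Opens) (hU : IsAffineOpen U) (_ : x ∈ U) (e : U ≤ φ ⁻¹ᵁ V)
      (p : Polynomial Γ(Y, V)) (_ : p.Monic)
      (j : U.toScheme ⟶ Spec (CommRingCat.of (Localization.Away (AdjoinRoot.mk p (Polynomial.derivative p))))),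
      IsOpenImmersion j ∧
        j ≫ Spec.map (CommRingCat.ofHom
            (algebraMap Γ(Y, V) (Localization.Away (AdjoinRoot.mk p (Polynomial.derivative p))))) =
          hU.isoSpec.hom ≫ Spec.map (φ.appLE V U e) := by
  obtain ⟨W, hxW, hW⟩ := hφ
  obtain ⟨U₀, hU₀, hxU₀, hle₀⟩ := exists_isAffineOpen_mem_and_subset (x := x) (U := W ⊓ φ ⁻¹ᵁ V) ⟨hxW, hxV⟩
  have e₀ : U₀ ≤ φ ⁻¹ᵁ V := fun y hy => (hle₀ hy).2
  haveI : IsAffine V.toScheme := hV
  haveI : IsAffine U₀.toScheme := hU₀
  haveI : Etale (φ.resLE V U₀ e₀ ≫ V.ι) := by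
    rw [Scheme.Hom.resLE_comp_ι, ← X.homOfLE_ι (show U₀ ≤ W from fun y hy => (hle₀ hy).1), Category.assoc]
    infer_instance
  haveI : Etale (φ.resLE V U₀ e₀) := Etale.of_comp _ V.ι
  have het : (φ.appLE V U₀ e₀).hom.Etale :=
    (RingHom.Etale.respectsIso.arrow_mk_iso_iff (arrowResLEAppIso φ V U₀ e₀)).1
      ((HasRingHomProperty.iff_of_isAffine (P := @Etale)).1 inferInstance)
  letI algR : Algebra Γ(Y, V) Γ(X, U₀) := (φ.appLE V U₀ e₀).hom.toAlgebra
  haveI : Algebra.Etale Γ(Y, V) Γ(X, U₀) := het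
  obtain ⟨f, hf, hst⟩ := Algebra.IsEtaleAt.exists_isStandardEtale (R := Γ(Y, V))
    (hU₀.primeIdealOf ⟨x, hxU₀⟩).asIdeal
  have hxU : x ∈ X.basicOpen f := by
    have := (hU₀.fromSpec_primeIdealOf ⟨x, hxU₀⟩)
    rw [show X.basicOpen f = hU₀.fromSpec ''ᵁ PrimeSpectrum.basicOpen f from (hU₀.fromSpec_image_basicOpen f).symm]
    exact ⟨_, hf, this⟩
  have e : X.basicOpen f ≤ φ ⁻¹ᵁ V := (X.basicOpen_le f).trans e₀
  have hU := hU₀.basicOpen f
  letI algRU : Algebra Γ(Y, V) Γ(X, X.basicOpen f) := (φ.appLE V (X.basicOpen f) e).hom.toAlgebra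
  haveI : IsScalarTower Γ(Y, V) Γ(X, U₀) Γ(X, X.basicOpen f) := .of_algebraMap_eq fun r =>
    congr($((φ.appLE_map e₀ (homOfLE (X.basicOpen_le f)).op).symm) r)
  haveI := hU₀.isLocalization_basicOpen f
  haveI : Algebra.IsStandardEtale Γ(Y, V) Γ(X, X.basicOpen f) :=
    .of_equiv ((IsLocalization.algEquiv (.powers f) (Localization.Away f) Γ(X, X.basicOpen f)).restrictScalars Γ(Y, V))
  obtain ⟨P⟩ := Algebra.IsStandardEtale.nonempty_standardEtalePresentation (R := Γ(Y, V)) (S := Γ(X, X.basicOpen f))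
  let g := AdjoinRoot.mk P.f P.g
  let f' := AdjoinRoot.mk P.f (Polynomial.derivative P.f)
  have hu : IsUnit (algebraMap (AdjoinRoot P.f) (Localization.Away g) f') := by
    obtain ⟨p₁, p₂, n, h⟩ := P.cond
    have h' : f' * AdjoinRoot.mk P.f p₁ = g ^ n := by
      have := congrArg (AdjoinRoot.mk P.f) h
      rwa [map_add, map_mul, map_mul, AdjoinRoot.mk_self, zero_mul, add_zero, map_pow] at this
    refine isUnit_of_mul_isUnit_left (y := algebraMap _ (Localization.Away g) (AdjoinRoot.mk P.f p₁)) ?_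
    rw [← map_mul, h', map_pow]
    exact (IsLocalization.Away.algebraMap_isUnit g).pow n
  let ψ : Localization.Away f' →+* Localization.Away g := IsLocalization.Away.lift f' hu
  have hψ : ∀ a, ψ (algebraMap _ _ a) = algebraMap _ _ a := IsLocalization.Away.lift_eq f' hu
  haveI : IsOpenImmersion (Spec.map (CommRingCat.ofHom ψ)) := by
    haveI : IsOpenImmersion (Spec.map (CommRingCat.ofHom ψ) ≫
        Spec.map (CommRingCat.ofHom (algebraMap (AdjoinRoot P.f) (Localization.Away f')))) := by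
      rw [← Spec.map_comp, ← CommRingCat.ofHom_comp, show ψ.comp (algebraMap _ _) = algebraMap _ _ from RingHom.ext hψ]
      exact IsOpenImmersion.of_isLocalization g
    haveI : IsOpenImmersion (Spec.map (CommRingCat.ofHom (algebraMap (AdjoinRoot P.f) (Localization.Away f')))) :=
      IsOpenImmersion.of_isLocalization f'
    exact IsOpenImmersion.of_comp _ (Spec.map (CommRingCat.ofHom (algebraMap (AdjoinRoot P.f) (Localization.Away f'))))
  let E := P.equivRing.trans P.P.equivAwayAdjoinRoot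
  haveI : IsIso (CommRingCat.ofHom E.symm.toRingEquiv.toRingHom) :=
    E.symm.toRingEquiv.toCommRingCatIso.isIso_hom
  refine ⟨X.basicOpen f, hU, hxU, e, P.f, P.monic_f,
    hU.isoSpec.hom ≫ Spec.map (CommRingCat.ofHom E.symm.toRingEquiv.toRingHom) ≫ Spec.map (CommRingCat.ofHom ψ),
    inferInstance, ?_⟩
  rw [Category.assoc, Category.assoc, ← Spec.map_comp, ← Spec.map_comp]
  congr 2
  refine CommRingCat.hom_ext (RingHom.ext fun r => ?_)
  show E.symm (ψ (algebraMap Γ(Y, V) (Localization.Away f') r)) = _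
  rw [IsScalarTower.algebraMap_apply Γ(Y, V) (AdjoinRoot P.f) (Localization.Away f'), hψ,
    ← IsScalarTower.algebraMap_apply, AlgEquiv.commutes]
  rfl

end Groth.Agent.S9567
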