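import Groth.Statements.S9654
import Mathlib
-- import your own Groth.Agent.* helpers here

set_option autoImplicit false
universe u
open CAlg

namespace Groth.Agent.S9654

open Polynomial in
theorem isIntegral_of_mem_adjoin_inv {R T : Type*} [CommRing R] [CommRing T] [Algebra R T] {a b z : T}
    (hab : a * b = 1) (ha : z ∈ Algebra.adjoin R {a}) (hb : z ∈ Algebra.adjoin R {b}) :
    IsIntegral R z := by
  rw [Algebra.adjoin_singleton_eq_range_aeval] at ha hb
  obtain ⟨p, hp⟩ := ha
  obtain ⟨q, hq⟩ := hb
  simp only [AlgHom.toRingHom_eq_coe, RingHom.coe_coe] at hp hq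
  set n := p.natDegree
  set m := q.natDegree
  let s : Set T := (fun i => a ^ i) '' Set.Iic n ∪ (fun i => b ^ i) '' Set.Iic m
  let M : Submodule R T := Submodule.span R s
  have hfin : s.Finite := (Set.finite_Iic n |>.image _).union (Set.finite_Iic m |>.image _)
  have : Module.Finite R M := Module.Finite.iff_fg.2 (Submodule.fg_span hfin)
  have mem : ∀ i j : ℕ, i ≤ n + j → j ≤ m + i → a ^ i * b ^ j ∈ M := fun i j h1 h2 => by
    refine Submodule.subset_span ?_
    rcases le_total j i with h | h
    · refine Or.inl ⟨i - j, Set.mem_Iic.2 (by lia), ?_⟩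
      conv_rhs => rw [← Nat.sub_add_cancel h, pow_add, mul_assoc, ← mul_pow, hab, one_pow, mul_one]
    · refine Or.inr ⟨j - i, Set.mem_Iic.2 (by lia), ?_⟩
      conv_rhs => rw [← Nat.sub_add_cancel h, pow_add, mul_left_comm, ← mul_pow, hab, one_pow, mul_one]
  have hz : ∀ x ∈ M, LinearMap.mulLeft R z x ∈ M := by
    intro x hx
    induction hx using Submodule.span_induction with
    | mem y hy =>
      simp only [LinearMap.mulLeft_apply]
      rcases hy with ⟨i, hi, rfl⟩ | ⟨i, hi, rfl⟩
      · rw [← hq, aeval_eq_sum_range, Finset.sum_mul]
        refine Submodule.sum_mem _ fun j hj => ?_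
        have hj' := Finset.mem_range.1 hj
        rw [smul_mul_assoc, mul_comm (b ^ j)]
        exact Submodule.smul_mem _ _ (mem i j (le_trans (Set.mem_Iic.1 hi) (by lia)) (by lia))
      · rw [← hp, aeval_eq_sum_range, Finset.sum_mul]
        refine Submodule.sum_mem _ fun j hj => ?_
        have hj' := Finset.mem_range.1 hj
        rw [smul_mul_assoc]
        exact Submodule.smul_mem _ _ (mem j i (by lia) (le_trans (Set.mem_Iic.1 hi) (by lia)))
    | zero => simp
    | add y w _ _ hy hw => rw [map_add]; exact M.add_mem hy hw
    | smul r y _ hy => rw [map_smul]; exact M.smul_mem r hy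
  let f : Module.End R M := (LinearMap.mulLeft R z).restrict hz
  obtain ⟨P, hPm, hP⟩ := LinearMap.exists_monic_and_aeval_eq_zero R f
  have h1 : (1 : T) ∈ M := by simpa using mem 0 0 (Nat.zero_le _) (Nat.zero_le _)
  have key : ∀ (Q : R[X]) (x : M), ((aeval f Q x : M) : T) = aeval z Q * (x : T) := by
    intro Q x
    induction Q using Polynomial.induction_on generalizing x with
    | C r => simp [Algebra.smul_def]
    | add Q1 Q2 h1 h2 => simp [h1, h2, add_mul]
    | monomial k r hk =>
      rw [pow_succ, ← mul_assoc, map_mul, map_mul (aeval z), aeval_X, aeval_X, Module.End.mul_apply, hk]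
      simp [f, mul_assoc]
  refine ⟨P, hPm, ?_⟩
  have := key P ⟨1, h1⟩
  rw [hP] at this
  simpa [aeval_def] using this.symm

theorem awayMap_injective {R : Type*} [CommRing R] (x y : R) (hy : y ∈ nonZeroDivisors R) (hx : x ∈ nonZeroDivisors R)
    (φ : Localization.Away x →ₐ[R] Localization.Away (x * y)) : Function.Injective φ := by
  rw [injective_iff_map_eq_zero]
  intro w hw
  obtain ⟨⟨r, s⟩, hrs⟩ := IsLocalization.surj (Submonoid.powers x) w
  have h0 := congrArg φ hrs
  rw [map_mul, hw, zero_mul, φ.commutes] at h0
  have hinj : Function.Injective (algebraMap R (Localization.Away (x * y))) :=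
    IsLocalization.injective _ (Submonoid.powers_le.2 (mul_mem hx hy))
  have hr : r = 0 := hinj (h0.symm.trans (map_zero _).symm)
  rw [hr, map_zero] at hrs
  exact ((IsLocalization.map_units (Localization.Away x) s).mul_left_eq_zero).1 hrs

end Groth.Agent.S9654

namespace Groth.Agent.S9654

/-- Let R be a ring and x, y ∈ R nonzerodivisors. In the localization R_{xy} let a = x/y and b = y/x,
and let R[a], R[b], R[a, b] be the R-subalgebras they generate. If R is integrally closed in R_x or
in R_y, then the sequence 0 → R → R[a] ⊕ R[b] → R[a, b] → 0 (difference map, then sum map) is short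
exact; equivalently R[a] ∩ R[b] is the image of R and R[a] + R[b] = R[a, b] inside R_{xy}. -/
theorem result {R : Type u} [CommRing R] (x y : R) (hx : x ∈ nonZeroDivisors R) (hy : y ∈ nonZeroDivisors R)
    (hint : IsIntegrallyClosedIn R (Localization.Away x) ∨ IsIntegrallyClosedIn R (Localization.Away y)) :
    (Algebra.adjoin R {algebraMap R (Localization.Away (x * y)) (x * x) * IsLocalization.Away.invSelf (x * y)}).toSubmodule ⊓
        (Algebra.adjoin R {algebraMap R (Localization.Away (x * y)) (y * y) * IsLocalization.Away.invSelf (x * y)}).toSubmodule =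
        (⊥ : Subalgebra R (Localization.Away (x * y))).toSubmodule ∧
      (Algebra.adjoin R {algebraMap R (Localization.Away (x * y)) (x * x) * IsLocalization.Away.invSelf (x * y)}).toSubmodule ⊔
        (Algebra.adjoin R {algebraMap R (Localization.Away (x * y)) (y * y) * IsLocalization.Away.invSelf (x * y)}).toSubmodule =
        (Algebra.adjoin R {algebraMap R (Localization.Away (x * y)) (x * x) * IsLocalization.Away.invSelf (x * y), algebraMap R (Localization.Away (x * y)) (y * y) * IsLocalization.Away.invSelf (x * y)}).toSubmodule := by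
  set T := Localization.Away (x * y)
  set u : T := IsLocalization.Away.invSelf (x * y) with hu
  set X : T := algebraMap R T x with hX
  set Y : T := algebraMap R T y with hY
  set a : T := algebraMap R T (x * x) * u with ha
  set b : T := algebraMap R T (y * y) * u with hb
  have h1 : X * Y * u = 1 := by
    rw [hX, hY, ← map_mul, hu]
    exact IsLocalization.Away.mul_invSelf _
  have hab : a * b = 1 := by
    rw [ha, hb, map_mul, map_mul]
    linear_combination (X * Y * u + 1) * h1
  refine ⟨le_antisymm ?_ (le_inf (fun z hz => ?_) (fun z hz => ?_)), ?_⟩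
  · intro z hz
    obtain ⟨hza, hzb⟩ := hz
    simp only [SetLike.mem_coe, Subalgebra.mem_toSubmodule] at hza hzb ⊢
    have hint' := isIntegral_of_mem_adjoin_inv hab hza hzb
    rw [Algebra.mem_bot]
    rcases hint with hix | hiy
    · let φ : Localization.Away x →ₐ[R] T :=
        { IsLocalization.Away.awayToAwayRight (S := Localization.Away x) (P := T) x y with
          commutes' := fun r => IsLocalization.Away.awayToAwayRight_eq (S := Localization.Away x) x y r }
      have hbφ : b ∈ φ.range := by
        have hc : φ (algebraMap R _ x) * φ (IsLocalization.Away.invSelf x) = 1 := by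
          rw [← map_mul, IsLocalization.Away.mul_invSelf, map_one]
        refine ⟨algebraMap R _ y * IsLocalization.Away.invSelf x, ?_⟩
        change φ _ = b
        rw [map_mul, φ.commutes]
        rw [φ.commutes] at hc
        change X * φ _ = 1 at hc
        change Y * φ _ = b
        rw [hb, map_mul]
        linear_combination (Y * Y * u) * hc - (φ (IsLocalization.Away.invSelf x) * Y) * h1
      obtain ⟨w, hw⟩ := (Algebra.adjoin_le (S := φ.range) (Set.singleton_subset_iff.2 hbφ)) hzb
      have hwi : IsIntegral R w := (isIntegral_algHom_iff φ (awayMap_injective x y hy hx φ)).1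
        (by rwa [show φ w = z from hw])
      obtain ⟨r, hr⟩ := hix.isIntegral_iff.1 hwi
      exact ⟨r, by rw [← hw, ← hr]; exact (φ.commutes r).symm⟩
    · let φ : Localization.Away y →ₐ[R] T :=
        { IsLocalization.Away.awayToAwayLeft (S := Localization.Away y) (P := T) y x with
          commutes' := fun r => IsLocalization.Away.awayToAwayLeft_eq (S := Localization.Away y) y x r }
      have haφ : a ∈ φ.range := by
        have hc : φ (algebraMap R _ y) * φ (IsLocalization.Away.invSelf y) = 1 := by
          rw [← map_mul, IsLocalization.Away.mul_invSelf, map_one]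
        refine ⟨algebraMap R _ x * IsLocalization.Away.invSelf y, ?_⟩
        change φ _ = a
        rw [map_mul, φ.commutes]
        rw [φ.commutes] at hc
        change Y * φ _ = 1 at hc
        change X * φ _ = a
        rw [ha, map_mul]
        linear_combination (X * X * u) * hc - (φ (IsLocalization.Away.invSelf y) * X) * h1
      have hinjφ : Function.Injective φ := by
        rw [injective_iff_map_eq_zero]
        intro w hw
        obtain ⟨⟨r, s⟩, hrs⟩ := IsLocalization.surj (Submonoid.powers y) w
        have h0 := congrArg φ hrs
        rw [map_mul, hw, zero_mul, φ.commutes] at h0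
        have hinj : Function.Injective (algebraMap R T) :=
          IsLocalization.injective _ (Submonoid.powers_le.2 (mul_mem hx hy))
        have hr : r = 0 := hinj (h0.symm.trans (map_zero _).symm)
        rw [hr, map_zero] at hrs
        exact ((IsLocalization.map_units (Localization.Away y) s).mul_left_eq_zero).1 hrs
      obtain ⟨w, hw⟩ := (Algebra.adjoin_le (S := φ.range) (Set.singleton_subset_iff.2 haφ)) hza
      have hwi : IsIntegral R w := (isIntegral_algHom_iff φ hinjφ).1
        (by rwa [show φ w = z from hw])
      obtain ⟨r, hr⟩ := hiy.isIntegral_iff.1 hwi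
      exact ⟨r, by rw [← hw, ← hr]; exact (φ.commutes r).symm⟩
  · obtain ⟨r, rfl⟩ := Algebra.mem_bot.1 hz
    exact Subalgebra.algebraMap_mem _ r
  · obtain ⟨r, rfl⟩ := Algebra.mem_bot.1 hz
    exact Subalgebra.algebraMap_mem _ r
  · refine le_antisymm (sup_le (Subalgebra.toSubmodule.monotone (Algebra.adjoin_mono (by simp)))
      (Subalgebra.toSubmodule.monotone (Algebra.adjoin_mono (by simp)))) ?_
    rw [Algebra.adjoin_eq_span, Submodule.span_le]
    intro w hw
    obtain ⟨i, j, rfl⟩ := (Submonoid.mem_closure_pair _ _ _).1 hw
    rcases le_total j i with h | h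
    · refine Submodule.mem_sup_left ?_
      rw [← Nat.sub_add_cancel h, pow_add, mul_assoc, ← mul_pow, hab, one_pow, mul_one]
      exact Subalgebra.pow_mem _ (Algebra.self_mem_adjoin_singleton R a) _
    · refine Submodule.mem_sup_right ?_
      rw [← Nat.sub_add_cancel h, pow_add, mul_left_comm, ← mul_pow, hab, one_pow, mul_one]
      exact Subalgebra.pow_mem _ (Algebra.self_mem_adjoin_singleton R b) _

end Groth.Agent.S9654
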