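import Groth.Statements.S9659
import Mathlib
-- import your own Groth.Agent.* helpers here

set_option autoImplicit false
universe u
open CAlg

namespace Groth.Agent.S9659

open DirectSum

variable {R S : Type*} [CommRing R] [CommRing S] [Algebra R S] (𝒜 : ℤ → Submodule R S) [GradedAlgebra 𝒜]

/-- Every degree has a homogeneous unit in degree a multiple of `d`. -/
theorem exists_unit_mem {f : S} {d : ℤ} (hf : f ∈ 𝒜 d) (hu : IsUnit f) (n : ℤ) :
    ∃ c : S, IsUnit c ∧ c ∈ 𝒜 (-(d * n)) := by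
  obtain ⟨g, hfg⟩ := isUnit_iff_exists_inv.1 hu
  have h1 : f * (decompose 𝒜 g (-d) : S) = 1 := by
    have h := DirectSum.coe_decompose_mul_add_of_left_mem 𝒜 (a := f) (b := g) (i := d) (j := -d) hf
    rw [hfg, add_neg_cancel, DirectSum.decompose_of_mem_same 𝒜 (SetLike.one_mem_graded 𝒜)] at h
    exact h.symm
  set g' : S := (decompose 𝒜 g (-d) : S) with hg'
  have hg : g' ∈ 𝒜 (-d) := Submodule.coe_mem _
  obtain ⟨k, rfl | rfl⟩ := n.eq_nat_or_neg
  · refine ⟨g' ^ k, (IsUnit.of_mul_eq_one_right _ h1).pow k, ?_⟩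
    have := SetLike.pow_mem_graded k hg
    rwa [show k • (-d) = -(d * k) by simp [mul_comm]] at this
  · refine ⟨f ^ k, hu.pow k, ?_⟩
    have := SetLike.pow_mem_graded k hf
    rwa [show k • d = -(d * -(k : ℤ)) by simp [mul_comm]] at this

theorem exists_degreeZero {f : S} {d : ℤ} (hd : 0 < d) (hf : f ∈ 𝒜 d) (hu : IsUnit f)
    {n : ℤ} {a : S} (ha : a ∈ 𝒜 n) :
    ∃ z : SetLike.GradeZero.subring 𝒜, ∀ p : Ideal S, p.IsPrime → ((z : S) ∈ p ↔ a ∈ p) := by
  obtain ⟨c, hc, hcm⟩ := exists_unit_mem 𝒜 hf hu n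
  have hm : a ^ d.toNat * c ∈ 𝒜 0 := by
    have := SetLike.mul_mem_graded (SetLike.pow_mem_graded d.toNat ha) hcm
    rwa [show d.toNat • n + -(d * n) = 0 by simp [Int.toNat_of_nonneg hd.le]] at this
  refine ⟨⟨_, hm⟩, fun p hp => ?_⟩
  change a ^ d.toNat * c ∈ p ↔ a ∈ p
  rw [Ideal.mul_unit_mem_iff_mem _ hc, hp.pow_mem_iff_mem _ (by simpa using hd)]

/-- `qS ∩ S₀ = q`. -/
theorem comap_map_subtype (q : Ideal (SetLike.GradeZero.subring 𝒜)) :
    (q.map (SetLike.GradeZero.subring 𝒜).subtype).comap (SetLike.GradeZero.subring 𝒜).subtype = q := by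
  refine le_antisymm (fun x hx => ?_) Ideal.le_comap_map
  let π : S → SetLike.GradeZero.subring 𝒜 := fun s => ⟨(decompose 𝒜 s 0 : S), Submodule.coe_mem _⟩
  have key : ∀ s ∈ q.map (SetLike.GradeZero.subring 𝒜).subtype, ∀ t : S, π (t * s) ∈ q := by
    intro s hs
    refine Submodule.span_induction (p := fun s _ => ∀ t : S, π (t * s) ∈ q) ?_ ?_ ?_ ?_ hs
    · rintro _ ⟨y, hy, rfl⟩ t
      have : π (t * (SetLike.GradeZero.subring 𝒜).subtype y) = π t * y := Subtype.ext <|
        DirectSum.coe_decompose_mul_of_right_mem_zero 𝒜 y.2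
      rw [this]
      exact q.mul_mem_left _ hy
    · intro t
      have : π (t * 0) = 0 := Subtype.ext (by simp [π])
      rw [this]
      exact q.zero_mem
    · intro a b _ _ ha hb t
      have : π (t * (a + b)) = π (t * a) + π (t * b) := Subtype.ext (by simp only [π, mul_add, DirectSum.decompose_add]; rfl)
      rw [this]
      exact q.add_mem (ha t) (hb t)
    · intro c a _ ha t
      rw [smul_eq_mul, ← mul_assoc]
      exact ha _
  have := key _ hx 1
  rwa [show π (1 * (SetLike.GradeZero.subring 𝒜).subtype x) = x from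
    Subtype.ext (by rw [one_mul]; exact DirectSum.decompose_of_mem_same 𝒜 x.2)] at this

end Groth.Agent.S9659

namespace Groth.Agent.S9659

/-- Let S be a ℤ-graded ring which contains an invertible homogeneous element of positive degree. Then
the set of homogeneous prime ideals of S, with the topology induced from Spec(S), maps
homeomorphically onto Spec(S₀) by p ↦ p ∩ S₀. -/
theorem result {R S : Type u} [CommRing R] [CommRing S] [Algebra R S] (𝒜 : ℤ → Submodule R S) [GradedAlgebra 𝒜]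
    (f : S) (d : ℤ) (hd : 0 < d) (hf : f ∈ 𝒜 d) (hu : IsUnit f) :
    IsHomeomorph (fun p : {p : PrimeSpectrum S // p.asIdeal.IsHomogeneous 𝒜} => PrimeSpectrum.comap (SetLike.GradeZero.subring 𝒜).subtype p.1) := by
  classical
  set X := {p : PrimeSpectrum S // p.asIdeal.IsHomogeneous 𝒜}
  choose z hz using fun (n : ℤ) (a : S) (ha : a ∈ 𝒜 n) => exists_degreeZero 𝒜 hd hf hu ha
  set φ : X → PrimeSpectrum (SetLike.GradeZero.subring 𝒜) :=
    fun p => PrimeSpectrum.comap (SetLike.GradeZero.subring 𝒜).subtype p.1 with hφ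
  have hcont : Continuous φ := (PrimeSpectrum.continuous_comap _).comp continuous_subtype_val
  have hmem : ∀ (p : X) (n : ℤ) (a : S) (ha : a ∈ 𝒜 n),
      z n a ha ∈ (φ p).asIdeal ↔ a ∈ p.1.asIdeal := fun p n a ha => hz n a ha _ p.1.2
  have hinj : Function.Injective φ := by
    intro p p' h
    refine Subtype.ext (PrimeSpectrum.ext (Ideal.ext fun s => ?_))
    rw [p.2.mem_iff, p'.2.mem_iff]
    refine forall_congr' fun n => ?_
    rw [← hmem p n _ (Submodule.coe_mem _), ← hmem p' n _ (Submodule.coe_mem _), h]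
  have hsurj : Function.Surjective φ := by
    intro q
    obtain ⟨P, hP, hPq⟩ := (Ideal.comap_map_eq_self_iff_of_isPrime q.asIdeal).1 (comap_map_subtype 𝒜 q.asIdeal)
    refine ⟨⟨⟨(P.homogeneousCore 𝒜).toIdeal, hP.homogeneousCore⟩,
      (P.homogeneousCore 𝒜).isHomogeneous⟩, PrimeSpectrum.ext (Ideal.ext fun x => ?_)⟩
    rw [← hPq]
    exact ⟨fun h => Ideal.toIdeal_homogeneousCore_le 𝒜 P h,
      fun h => Ideal.mem_homogeneousCore_of_homogeneous_of_mem ⟨0, x.2⟩ h⟩
  have hopen : IsOpenMap φ := by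
    refine (PrimeSpectrum.isTopologicalBasis_basic_opens.isInducing
      Topology.IsInducing.subtypeVal).isOpenMap_iff.2 ?_
    rintro _ ⟨_, ⟨g, rfl⟩, rfl⟩
    have himg : φ '' (Subtype.val ⁻¹' (PrimeSpectrum.basicOpen g : Set (PrimeSpectrum S))) =
        ⋃ n : ℤ, (PrimeSpectrum.basicOpen (z n (DirectSum.decompose 𝒜 g n : S) (Submodule.coe_mem _)) :
          Set (PrimeSpectrum (SetLike.GradeZero.subring 𝒜))) := by
      ext q
      obtain ⟨p, rfl⟩ := hsurj q
      rw [hinj.mem_set_image, Set.mem_preimage, Set.mem_iUnion]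
      simp only [SetLike.mem_coe, PrimeSpectrum.mem_basicOpen, hmem]
      rw [p.2.mem_iff, not_forall]
    refine himg.symm ▸ ?_
    exact isOpen_iUnion fun n => PrimeSpectrum.isOpen_basicOpen
  exact ⟨hcont, hopen, hinj, hsurj⟩

end Groth.Agent.S9659
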