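import Groth.Statements.S9661
import Groth.Agent.IntTh85.GrHilbApp
-- import your own Groth.Agent.* helpers here

set_option autoImplicit false
universe u
attribute [local instance] MvPolynomial.gradedAlgebra
open CAlg

namespace Groth.Agent.S9661

/-- Let k be a field, d ≥ 1, and I a nonzero homogeneous ideal of the standard-graded polynomial ring
k[X_1, …, X_d]; put M = k[X_1, …, X_d]/I. Then the function n ↦ dim_k M_n (equal to dim_k of the
degree-n part of the polynomial ring minus dim_k of the degree-n part of I) coincides for all large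
n with a polynomial of degree < d - 1, the zero polynomial if d = 1. -/
theorem result {k : Type u} [Field k] (d : ℕ) (hd : 0 < d)
    (I : HomogeneousIdeal (MvPolynomial.homogeneousSubmodule (Fin d) k)) (hI : I ≠ ⊥) :
    ∃ P : Polynomial ℚ, P.degree < ((d - 1 : ℕ) : WithBot ℕ) ∧ ∃ N : ℕ, ∀ n : ℕ, N ≤ n →
      ((Module.finrank k ↥(MvPolynomial.homogeneousSubmodule (Fin d) k n) : ℚ) -
        (Module.finrank k ↥(I.toIdeal.restrictScalars k ⊓ MvPolynomial.homogeneousSubmodule (Fin d) k n) : ℚ)) = P.eval (n : ℚ) := by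
  obtain ⟨n, rfl⟩ : ∃ n, d = n + 1 := ⟨d - 1, by omega⟩
  obtain ⟨hP, -, -⟩ := Groth.Agent.IntTh85.GrHilbPoly.hp_spec (J := I.toIdeal) I.isHomogeneous
  refine ⟨Groth.Agent.IntTh85.GrHilbPoly.hp I.toIdeal, ?_, ?_⟩
  · rcases eq_or_ne (Groth.Agent.IntTh85.GrHilbPoly.hp I.toIdeal) 0 with h0 | h0
    · rw [h0, Polynomial.degree_zero]
      exact WithBot.bot_lt_coe _
    have hdim := Groth.Agent.IntTh85.GrHilbApp.ringKrullDim_eq I.isHomogeneous h0 hP
    have hne : I.toIdeal ≠ ⊥ := fun h => hI (HomogeneousIdeal.ext (h.trans HomogeneousIdeal.toIdeal_bot.symm))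
    obtain ⟨f, hf, hf0⟩ := Submodule.exists_mem_ne_zero_of_ne_bot hne
    have h1 := ringKrullDim_quotient_succ_le_of_nonZeroDivisor (mem_nonZeroDivisors_of_ne_zero hf0)
    have h2 : ringKrullDim (MvPolynomial (Fin (n + 1)) k ⧸ I.toIdeal) ≤
        ringKrullDim (MvPolynomial (Fin (n + 1)) k ⧸ Ideal.span {f}) :=
      ringKrullDim_le_of_surjective _ (Ideal.Quotient.factor_surjective
        ((Ideal.span_singleton_le_iff_mem I.toIdeal).2 hf))
    have h3 := (add_le_add_left h2 1).trans h1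
    rw [hdim, MvPolynomial.ringKrullDim_of_isNoetherianRing, ringKrullDim_eq_zero_of_field, zero_add,
      Nat.card_eq_fintype_card, Fintype.card_fin] at h3
    rw [Polynomial.degree_eq_natDegree h0, Nat.add_sub_cancel, Nat.cast_lt]
    have h4 : (((Groth.Agent.IntTh85.GrHilbPoly.hp I.toIdeal).natDegree + 1 + 1 : ℕ) : WithBot ℕ∞) ≤
        ((n + 1 : ℕ) : WithBot ℕ∞) := by push_cast at h3 ⊢; exact h3
    have h5 : (Groth.Agent.IntTh85.GrHilbPoly.hp I.toIdeal).natDegree + 1 + 1 ≤ n + 1 := by exact_mod_cast h4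
    omega
  · obtain ⟨N, hN⟩ := hP
    exact ⟨N, fun m hm => (hN m hm).symm⟩

end Groth.Agent.S9661
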