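import Groth.Statements.S9685
import Groth.Agent.LimitsH94.DimDominant
-- import your own Groth.Agent.* helpers here

set_option autoImplicit false
universe u
open CategoryTheory CategoryTheory.Limits AlgebraicGeometry
open Mor

namespace Groth.Agent.S9685

/-- Let X and Y be integral schemes with Y locally Noetherian and f : X ⟶ Y dominant and locally of
finite type. If n is the transcendence degree of the function field of X over the function field of
Y (computed on residue fields at the generic points), then dim X ≤ dim Y + n, and equality holds
when the underlying map of f is closed. -/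
theorem result {X Y : Scheme.{u}} [IsIntegral X] [IsIntegral Y]
    [IsLocallyNoetherian Y] (f : X ⟶ Y) [IsDominant f] [LocallyOfFiniteType f] (n : ℕ)
    (hn : letI := (f.residueFieldMap (genericPoint ↥X)).hom.toAlgebra
      Algebra.trdeg (Y.residueField (f.base (genericPoint ↥X))) (X.residueField (genericPoint ↥X)) = n) :
    topologicalKrullDim ↥X ≤ topologicalKrullDim ↥Y + n ∧
      (IsClosedMap f.base → topologicalKrullDim ↥X = topologicalKrullDim ↥Y + n) := by
  have h : ∀ ξ : X, closure {ξ} ∈ irreducibleComponents ↥X → FibDim.rd f ξ ≤ n := fun ξ hξ => by
    have e : ξ = genericPoint ↥X := by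
      rw [irreducibleComponents_eq_singleton] at hξ
      exact (show IsGenericPoint ξ Set.univ from hξ).eq (genericPoint_spec ↥X)
    subst e
    exact LimitsH94.DimDominant.rd_le f _ hn.le
  have h1 := LimitsH94.DimDominant.dim_le f n h
  exact ⟨h1, fun hc => le_antisymm h1 (LimitsH94.DimDominant.dim_eq f n hn hc)⟩


end Groth.Agent.S9685
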