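import Groth.Statements.S9694
import Groth.Agent.AmpleX.Sect
import Groth.Agent.AmpleX.Rel
import Groth.Agent.InvX.GenLocus
import Mathlib.AlgebraicGeometry.ValuativeCriterion
-- import your own Groth.Agent.* helpers here

set_option autoImplicit false
universe u
open CategoryTheory CategoryTheory.Limits AlgebraicGeometry
open Mor

namespace Groth.Agent.S9694


set_option backward.isDefEq.respectTransparency false
set_option backward.isDefEq.respectTransparency.types false
set_option linter.style.haveILetI false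

open Limits TopologicalSpace AmpleX

theorem ext_of_generic {R K : Type u} [CommRing R] [Field K] [Algebra R K] [IsFractionRing R K]
    {A : CommRingCat.{u}} {a b : Spec (.of R) ⟶ Spec A}
    (h : Spec.map (CommRingCat.ofHom (algebraMap R K)) ≫ a = Spec.map (CommRingCat.ofHom (algebraMap R K)) ≫ b) :
    a = b := by
  obtain ⟨a', rfl⟩ := Spec.map_surjective a
  obtain ⟨b', rfl⟩ := Spec.map_surjective b
  rw [← Spec.map_comp, ← Spec.map_comp] at h
  refine congrArg Spec.map (CommRingCat.hom_ext (RingHom.ext fun x => ?_))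
  exact IsFractionRing.injective R K (congr(($(Spec.map_injective h)).hom x))

theorem injective_appTop {R K : Type u} [CommRing R] [Field K] [Algebra R K] [IsFractionRing R K] :
    Function.Injective (Spec.map (CommRingCat.ofHom (algebraMap R K))).appTop.hom := by
  intro x y h
  have h2 := congrArg (Scheme.ΓSpecIso (CommRingCat.of K)).hom.hom h
  rw [← CommRingCat.comp_apply, ← CommRingCat.comp_apply, Scheme.ΓSpecIso_naturality] at h2
  exact (Scheme.ΓSpecIso (CommRingCat.of R)).commRingCatIsoToRingEquiv.injective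
    (IsFractionRing.injective R K h2)

theorem eq_top_of_closedPoint {R : Type u} [CommRing R] [IsLocalRing R] {W : (Spec (CommRingCat.of R)).Opens}
    (h : IsLocalRing.closedPoint R ∈ W) : W = ⊤ :=
  eq_top_iff.2 fun y _ => (IsLocalRing.specializes_closedPoint y).mem_open W.2 h

theorem isAffineOpen_inf {X S : Scheme.{u}} (f : X ⟶ S) [UniversallyClosed f]
    (L : X.Modules) (hL : RelAmple.IsRelAmple f L) (s : Coh.structureModule X ⟶ L)
    {U : S.Opens} (hU : IsAffineOpen U) : IsAffineOpen (f ⁻¹ᵁ U ⊓ CohB1.genLocus L s) := by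
  have hLi : PicF.IsInvertible L := isInvertible_of_isRelAmple hL
  haveI := InvX.isAffineHom_genLocus_ι hLi s
  haveI := hL.1
  let G := CohB1.genLocus L s
  let P := f ⁻¹ᵁ U
  let H := P ⊓ G
  haveI : IsAffine U.toScheme := hU
  have hHc : IsCompact (H : Set X) := by
    have h1 := ((G.ι).isCompact_preimage (f.isCompact_preimage hU.isCompact)).image G.ι.continuous
    convert h1 using 1
    ext x
    exact ⟨fun hx => ⟨⟨x, hx.2⟩, hx.1, rfl⟩, fun ⟨y, hy, e⟩ => e ▸ ⟨hy, y.2⟩⟩
  haveI : CompactSpace H.toScheme := isCompact_iff_compactSpace.mp hHc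
  have hσ : InvX.IsFrame (AModX.res L (le_top : H ≤ ⊤) (InvX.one s)) := by
    have := (res_genLocus_frame s).res (inf_le_right : H ≤ G)
    rwa [AModX.res_res] at this
  haveI : H.toScheme.IsQuasiAffine := by
    refine Scheme.IsQuasiAffine.of_forall_exists_mem_basicOpen _ fun x => ?_
    obtain ⟨m, hm, a, hxa, hle, ha⟩ := exists_sections_of_isRelAmple hL hU (x := x.1) x.2.1 (U := H) x.2
    obtain ⟨φ, hφ⟩ := (isFrame_powElt hσ m).exists_coord le_rfl (AModX.res _ (inf_le_left : H ≤ P) a)
    rw [AModX.res_self] at hφ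
    have hb : X.basicOpen φ = locus a := by
      rw [← locus_inf a inf_le_left (isFrame_powElt hσ m) hφ, inf_eq_left.2 hle]
    have h2 : H.toScheme.basicOpen (H.ι.appLE H ⊤ (by simp) φ) = H.ι ⁻¹ᵁ locus a := by
      rw [Scheme.basicOpen_appLE, hb, top_inf_eq]
    refine ⟨H.ι.appLE H ⊤ (by simp) φ, ?_, ?_⟩
    · rw [h2, ← H.ι.isAffineOpen_iff_of_isOpenImmersion, Scheme.Hom.image_preimage_eq_opensRange_inf,
        Scheme.Opens.opensRange_ι, inf_eq_right.2 hle]
      exact ha
    · rw [h2]
      exact hxa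
  let g : H.toScheme ⟶ U.toScheme := f.resLE U H inf_le_left
  let q : Spec Γ(H.toScheme, ⊤) ⟶ S := Spec.map g.appTop ≫ U.toScheme.isoSpec.inv ≫ U.ι
  have hq : H.toScheme.toSpecΓ ≫ q = H.ι ≫ f := by
    simp only [q]
    rw [← Scheme.toSpecΓ_naturality_assoc, ← Scheme.isoSpec_hom, Iso.hom_inv_id_assoc]
    exact f.resLE_comp_ι inf_le_left
  have hex : ValuativeCriterion.Existence H.toScheme.toSpecΓ := by
    rintro ⟨R, K, i₁, i₂, sq⟩
    let γ := Spec.map (CommRingCat.ofHom (algebraMap R K))
    have sq' : CommSq (i₁ ≫ H.ι) γ f (i₂ ≫ q) := ⟨by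
      rw [Category.assoc, ← hq, ← Category.assoc, sq.w, Category.assoc]⟩
    have hf : ValuativeCriterion.Existence f := by
      have : UniversallyClosed f := inferInstance
      rw [UniversallyClosed.eq_valuativeCriterion] at this
      exact this.1
    obtain ⟨⟨⟨(l : Spec (CommRingCat.of R) ⟶ X), (hl₁ : γ ≫ l = i₁ ≫ H.ι), (hl₂ : l ≫ f = i₂ ≫ q)⟩⟩⟩ :=
      hf ⟨R, K, i₁ ≫ H.ι, i₂ ≫ q, sq'⟩
    let x := l (IsLocalRing.closedPoint R)
    have hxP : x ∈ P := by
      show f (l (IsLocalRing.closedPoint R)) ∈ U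
      rw [← Scheme.Hom.comp_apply, hl₂]
      simp only [q, Scheme.Hom.comp_apply]
      exact Subtype.prop _
    have hxG : x ∈ G := by
      obtain ⟨W₀, hxW₀, e₀, he₀⟩ := InvX.exists_frame hLi x
      let W := W₀ ⊓ P
      have he := he₀.res (inf_le_left : W ≤ W₀)
      have hxW : x ∈ W := ⟨hxW₀, hxP⟩
      obtain ⟨m, hm, a, hxa, -, -⟩ := exists_sections_of_isRelAmple hL hU (x := x) hxP (U := ⊤) trivial
      obtain ⟨c, hc⟩ := he.exists_coord le_rfl (AModX.res L (le_top : W ≤ ⊤) (InvX.one s))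
      obtain ⟨u, hu⟩ := (isFrame_powElt he m).exists_coord le_rfl (AModX.res _ (inf_le_right : W ≤ P) a)
      obtain ⟨φ, hφ⟩ := (isFrame_powElt hσ m).exists_coord le_rfl (AModX.res _ (inf_le_left : H ≤ P) a)
      rw [AModX.res_self] at hc hu hφ
      have hxu : x ∈ X.basicOpen u := by
        rw [← locus_inf a inf_le_right (isFrame_powElt he m) hu]
        exact ⟨hxa, hxW⟩
      have hrel : AModX.resR (inf_le_right : H ⊓ W ≤ W) u =
          AModX.resR (inf_le_left : H ⊓ W ≤ H) φ * AModX.resR (inf_le_right : H ⊓ W ≤ W) c ^ m := by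
        refine (isFrame_powElt he m).coord_unique inf_le_right ?_
        have h1 := congrArg (AModX.res _ (inf_le_left : H ⊓ W ≤ H)) hφ
        have h2 := congrArg (AModX.res _ (inf_le_right : H ⊓ W ≤ W)) hu
        have h3 := congrArg (AModX.res _ (inf_le_right : H ⊓ W ≤ W)) hc
        rw [AModX.res_res, AModX.res_smul, ← res_powElt, AModX.res_res] at h1
        rw [AModX.res_res, AModX.res_smul] at h2
        rw [AModX.res_res, AModX.res_smul] at h3
        rw [res_powElt, h3, powElt_smul, ← res_powElt, ← mul_smul] at h1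
        exact h2.symm.trans h1
      have hW : ⊤ ≤ l ⁻¹ᵁ W := (eq_top_of_closedPoint (show IsLocalRing.closedPoint R ∈ l ⁻¹ᵁ W from hxW)).ge
      have hk : ⊤ ≤ (i₁ ≫ H.ι) ⁻¹ᵁ (H ⊓ W) := fun z _ => by
        refine ⟨(i₁ z).2, ?_⟩
        show (i₁ ≫ H.ι) z ∈ W
        rw [← hl₁]
        exact hW (x := γ z) trivial
      let φ' := H.ι.appLE H ⊤ (by simp) φ
      let r := i₂.appTop ((Scheme.ΓSpecIso _).inv φ')
      have e1 : ∀ z : Γ(X, W), (i₁ ≫ H.ι).appLE (H ⊓ W) ⊤ hk (AModX.resR inf_le_right z) =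
          γ.appTop (l.appLE W ⊤ hW z) := by
        intro z
        show ((X.presheaf.map _ ≫ (i₁ ≫ H.ι).appLE (H ⊓ W) ⊤ hk).hom) z = _
        rw [Scheme.Hom.map_appLE, ← CommRingCat.comp_apply]
        congr 2
        rw [Scheme.Hom.appTop, Scheme.Hom.app_eq_appLE, Scheme.Hom.appLE_comp_appLE]
        simp only [← hl₁]
        rfl
      have e2 : (i₁ ≫ H.ι).appLE (H ⊓ W) ⊤ hk (AModX.resR inf_le_left φ) = γ.appTop r := by
        show ((X.presheaf.map _ ≫ (i₁ ≫ H.ι).appLE (H ⊓ W) ⊤ hk).hom) φ = _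
        rw [Scheme.Hom.map_appLE]
        calc (i₁ ≫ H.ι).appLE H ⊤ _ φ = i₁.appTop φ' := by
              rw [← CommRingCat.comp_apply]
              congr 2
              rw [Scheme.Hom.appTop, Scheme.Hom.app_eq_appLE, Scheme.Hom.appLE_comp_appLE]
              rfl
          _ = γ.appTop r := by
              have := congr(($(sq.w)).appTop.hom ((Scheme.ΓSpecIso _).inv φ'))
              simpa [r] using this
      have hR : l.appLE W ⊤ hW u = r * l.appLE W ⊤ hW c ^ m := by
        refine injective_appTop (K := K) ?_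
        rw [map_mul, map_pow, ← e1, ← e1, ← e2, ← map_pow, ← map_mul, hrel]
      have hu' : IsUnit (l.appLE W ⊤ hW u) := by
        have h7 : IsLocalRing.closedPoint R ∈
            (Spec (CommRingCat.of R)).basicOpen (l.appLE W ⊤ hW u) := by
          rw [Scheme.basicOpen_appLE]
          exact ⟨trivial, hxu⟩
        rw [AlgebraicGeometry.basicOpen_eq_of_affine'] at h7
        exact (MulEquiv.isUnit_map (Scheme.ΓSpecIso (CommRingCat.of R)).commRingCatIsoToRingEquiv).1
          (not_not.1 (fun hn => h7 ((IsLocalRing.mem_maximalIdeal _).2 hn)))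
      rw [hR, IsUnit.mul_iff, isUnit_pow_iff hm.ne'] at hu'
      have h4 : IsLocalRing.closedPoint R ∈ (Spec (CommRingCat.of R)).basicOpen (l.appLE W ⊤ hW c) := by
        rw [Scheme.basicOpen_of_isUnit _ hu'.2]
        trivial
      rw [Scheme.basicOpen_appLE] at h4
      have h5 : x ∈ X.basicOpen c := h4.2
      rw [← InvX.genLocus_inf s he hc] at h5
      exact h5.1
    have hl : Set.range l ⊆ Set.range H.ι := by
      rw [Scheme.Opens.range_ι]
      rintro _ ⟨y, rfl⟩
      exact (eq_top_of_closedPoint (show IsLocalRing.closedPoint R ∈ l ⁻¹ᵁ H from ⟨hxP, hxG⟩)).ge (x := y) trivial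
    have h6 : γ ≫ IsOpenImmersion.lift H.ι l hl = i₁ := by
      rw [← cancel_mono H.ι, Category.assoc, IsOpenImmersion.lift_fac, hl₁]
    exact ⟨⟨⟨IsOpenImmersion.lift H.ι l hl, h6, ext_of_generic (K := K) (by rw [← Category.assoc, h6, sq.w])⟩⟩⟩
  haveI : UniversallyClosed H.toScheme.toSpecΓ := UniversallyClosed.of_valuativeCriterion _ hex
  have hsurj : Surjective H.toScheme.toSpecΓ := ⟨by
    intro p
    have h1 := (H.toScheme.toSpecΓ.isClosedMap.isClosed_range).closure_eq
    have h2 := (Scheme.Hom.denseRange H.toScheme.toSpecΓ).closure_range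
    exact (Set.eq_univ_iff_forall.1 (h1.symm.trans h2)) p⟩
  haveI : IsIso H.toScheme.toSpecΓ :=
    (isIso_iff_isOpenImmersion_and_surjective _).2 ⟨inferInstance, hsurj⟩
  exact IsAffine.of_isIso H.toScheme.toSpecΓ


/-- Let f : X ⟶ S be universally closed, L an O_X-module ample relative to f and s a global section of
L, viewed as a morphism O_X ⟶ L. Then the open subscheme X_s of X where s generates L is affine over
S: the inclusion of X_s followed by f is an affine morphism. -/
theorem result {X S : Scheme.{u}} (f : X ⟶ S) [UniversallyClosed f]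
    (L : X.Modules) (hL : RelAmple.IsRelAmple f L) (s : Coh.structureModule X ⟶ L) :
    IsAffineHom ((CohB1.genLocus L s).ι ≫ f) := by
  refine ⟨fun U hU => ?_⟩
  rw [← (CohB1.genLocus L s).ι.isAffineOpen_iff_of_isOpenImmersion, Scheme.Hom.comp_preimage,
    Scheme.Hom.image_preimage_eq_opensRange_inf, Scheme.Opens.opensRange_ι, inf_comm]
  exact isAffineOpen_inf f L hL s hU


end Groth.Agent.S9694
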