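import Groth.Statements.S9705
import Groth.Agent.CorrFin75.Basic
-- import your own Groth.Agent.* helpers here

set_option autoImplicit false
universe u
open CategoryTheory CategoryTheory.Limits AlgebraicGeometry
open Mor

namespace Groth.Agent.S9705

/-- Over a quasi-compact quasi-separated scheme S, a morphism f : X ⟶ S is H-projective if and only if
it is H-quasi-projective and proper. -/
theorem result {X S : Scheme.{u}} [CompactSpace ↥S]
    [QuasiSeparatedSpace ↥S] (f : X ⟶ S) :
    RelProj.IsHProjective f ↔ RelProj.IsHQuasiProjective f ∧ IsProper f := by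
  constructor
  · intro h
    refine ⟨?_, CorrFin75.isProper_of_isHProjective h⟩
    obtain ⟨n, i, hi, rfl⟩ := h
    exact ⟨n, i, inferInstance, inferInstance, rfl⟩
  · rintro ⟨⟨n, i, hi, hq, rfl⟩, hp⟩
    haveI := PnCoh.Chow.isProper_toSpec n (ULift.{u} ℤ)
    haveI : IsProper (CohB1.ProjSpaceOver.toBase n S) :=
      MorphismProperty.of_isPullback (P := @IsProper) (CategoryTheory.IsPullback.of_hasPullback _ _)
        (PnCoh.Chow.isProper_toSpec n (ULift.{u} ℤ))
    haveI : IsProper i := IsProper.of_comp i (CohB1.ProjSpaceOver.toBase n S)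
    refine ⟨n, i, IsClosedImmersion.iff_isPreimmersion.mpr ⟨inferInstance, i.isClosedMap.isClosed_range⟩, rfl⟩


end Groth.Agent.S9705
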