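import Groth.Statements.S9713
import Groth.Agent.LimitsH94.Proj.HProj
-- import your own Groth.Agent.* helpers here

set_option autoImplicit false
universe u
open CategoryTheory CategoryTheory.Limits AlgebraicGeometry
open Mor

namespace Groth.Agent.S9713

set_option backward.isDefEq.respectTransparency false in
set_option backward.isDefEq.respectTransparency.types false in

/-- A base change of a locally projective morphism (every point of the base has an open neighbourhood U
with f⁻¹(U) ⟶ U projective) is locally projective. Here f⁻¹(U) ⟶ U projective means isomorphic over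
U to the relative Proj of a quasi-coherent graded algebra generated by its finite-type degree-one
part; the published definition uses closed subschemes of P(E) with E of finite type, an equivalent
condition. -/
theorem result {X S S' : Scheme.{u}} (f : X ⟶ S) (hf : RelProj.IsLocallyProjective f)
    (g : S' ⟶ S) : RelProj.IsLocallyProjective (pullback.snd f g) := by

  rw [LimitsH94.Proj.isLocallyProjective_iff] at hf ⊢
  intro s
  obtain ⟨U, hsU, hU⟩ := hf (g s)
  refine ⟨g ⁻¹ᵁ U, hsU, ?_⟩
  let p := pullback.snd f g
  let q := pullback.fst f g
  have hle : p ⁻¹ᵁ (g ⁻¹ᵁ U) ≤ q ⁻¹ᵁ (f ⁻¹ᵁ U) := by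
    rw [← Scheme.Hom.comp_preimage, ← Scheme.Hom.comp_preimage, pullback.condition]
  refine LimitsH94.Proj.isHProjective_of_isPullback (q := q.resLE (f ⁻¹ᵁ U) _ hle) (g := g ∣_ U)
    (IsPullback.of_right ?_ ?_ (isPullback_morphismRestrict f U).flip) hU
  · rw [Scheme.Hom.resLE_comp_ι, morphismRestrict_ι]
    exact (isPullback_morphismRestrict p (g ⁻¹ᵁ U)).flip.paste_horiz (IsPullback.of_hasPullback f g)
  · rw [← cancel_mono U.ι, Category.assoc, morphismRestrict_ι, Scheme.Hom.resLE_comp_ι_assoc, Category.assoc,
      morphismRestrict_ι, morphismRestrict_ι_assoc, pullback.condition]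


end Groth.Agent.S9713
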