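import Groth.Statements.S9724
import Groth.Agent.FlatFun4.SmoothDivSch
import Groth.Agent.FlatDvr.FibreStalk

set_option linter.style.haveILetI false
set_option backward.isDefEq.respectTransparency false
set_option backward.isDefEq.respectTransparency.types false
open scoped TensorProduct
-- import your own Groth.Agent.* helpers here

set_option autoImplicit false
universe u
open FlatMor

namespace Groth.Agent.S9724

theorem exists_d_ne_zero {O T : Type u} [CommRing O] [CommRing T] [IsLocalRing O] [IsLocalRing T] [Algebra O T]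
    [IsLocalHom (algebraMap O T)] [Algebra.FormallySmooth O T] [Algebra.EssFiniteType O T]
    (hsep : letI := (IsLocalRing.ResidueField.map (algebraMap O T)).toAlgebra
      Algebra.FormallySmooth (IsLocalRing.ResidueField O) (IsLocalRing.ResidueField T))
    (hne : ¬ IsField (T ⧸ (IsLocalRing.maximalIdeal O).map (algebraMap O T))) :
    ∃ m ∈ IsLocalRing.maximalIdeal T,
      (1 : IsLocalRing.ResidueField T) ⊗ₜ[T] KaehlerDifferential.D O T m ≠ 0 := by
  by_contra! H
  let k := O ⧸ IsLocalRing.maximalIdeal O
  let F := T ⧸ (IsLocalRing.maximalIdeal O).map (algebraMap O T)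
  letI : Field k := Ideal.Quotient.field _
  have hJ : (IsLocalRing.maximalIdeal O).map (algebraMap O T) ≤ IsLocalRing.maximalIdeal T :=
    Ideal.map_le_iff_le_comap.2 fun r hr => mt (isUnit_of_map_unit (algebraMap O T) r) hr
  let π : F →+* IsLocalRing.ResidueField T := Ideal.Quotient.factor hJ
  letI : Algebra F (IsLocalRing.ResidueField T) := π.toAlgebra
  haveI : IsScalarTower T F (IsLocalRing.ResidueField T) := IsScalarTower.of_algebraMap_eq fun _ => rfl
  letI : Algebra k (IsLocalRing.ResidueField T) := (IsLocalRing.ResidueField.map (algebraMap O T)).toAlgebra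
  haveI : Algebra.FormallySmooth k (IsLocalRing.ResidueField T) := hsep
  haveI : IsScalarTower k F (IsLocalRing.ResidueField T) := IsScalarTower.of_algebraMap_eq' (by
    refine Ideal.Quotient.ringHom_ext (RingHom.ext fun r => ?_)
    rfl)
  haveI : IsScalarTower O k F := IsScalarTower.of_algebraMap_eq fun r => rfl
  haveI : Algebra.FormallySmooth k F := by
    let e₀ : k ⊗[O] T ≃ₐ[O] F := (Algebra.TensorProduct.comm O k T).trans
      ((Algebra.TensorProduct.quotIdealMapEquivTensorQuot T (IsLocalRing.maximalIdeal O)).symm.restrictScalars O)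
    exact Algebra.FormallySmooth.of_equiv (R := k) (AlgEquiv.ofRingEquiv (f := e₀.toRingEquiv) fun c => by
      obtain ⟨r, rfl⟩ := Ideal.Quotient.mk_surjective c
      rw [show Ideal.Quotient.mk (IsLocalRing.maximalIdeal O) r = algebraMap O k r from rfl,
        ← IsScalarTower.algebraMap_apply O k (k ⊗[O] T), ← IsScalarTower.algebraMap_apply O k F]
      exact e₀.commutes r)
  haveI : Algebra.EssFiniteType O F := Algebra.EssFiniteType.comp O T F
  haveI : Algebra.EssFiniteType k F := Algebra.EssFiniteType.of_comp O k F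
  haveI : IsNoetherianRing F := Algebra.EssFiniteType.isNoetherianRing k F
  haveI : Nontrivial F := π.domain_nontrivial
  haveI : IsLocalRing F := IsLocalRing.of_surjective' _ Ideal.Quotient.mk_surjective
  have hπ : Function.Surjective (algebraMap F (IsLocalRing.ResidueField T)) :=
    Ideal.Quotient.factor_surjective hJ
  obtain ⟨l, hl⟩ := (Algebra.FormallySmooth.iff_split_injection (R := k) hπ).1 inferInstance
  set n := RingHom.ker (algebraMap F (IsLocalRing.ResidueField T)) with hn
  have h0 : ∀ c : n.Cotangent, KaehlerDifferential.kerCotangentToTensor k F (IsLocalRing.ResidueField T) c = 0 := by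
    intro c
    obtain ⟨⟨z, hz⟩, rfl⟩ := Ideal.toCotangent_surjective _ c
    obtain ⟨m, rfl⟩ := Ideal.Quotient.mk_surjective z
    have hm : m ∈ IsLocalRing.maximalIdeal T := Ideal.Quotient.eq_zero_iff_mem.1 hz
    rw [KaehlerDifferential.kerCotangentToTensor_toCotangent]
    let φ : IsLocalRing.ResidueField T ⊗[T] Ω[T⁄O] →ₗ[T] IsLocalRing.ResidueField T ⊗[F] Ω[F⁄k] :=
      TensorProduct.lift (LinearMap.mk₂ T (fun c w => c ⊗ₜ[F] KaehlerDifferential.map O k T F w)
        (fun _ _ _ => TensorProduct.add_tmul _ _ _)
        (fun t c w => (TensorProduct.smul_tmul' t c _).symm)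
        (fun _ _ _ => by rw [map_add, TensorProduct.tmul_add])
        (fun t c w => by rw [map_smul, TensorProduct.tmul_smul]))
    have h1 := congrArg φ (H m hm)
    rw [map_zero] at h1
    rw [← h1]
    show _ = (1 : IsLocalRing.ResidueField T) ⊗ₜ[F] KaehlerDifferential.map O k T F (KaehlerDifferential.D O T m)
    rw [KaehlerDifferential.map_D]
    rfl
  have hsub : Subsingleton n.Cotangent := subsingleton_of_forall_eq 0 fun c => by
    have := congr($hl c)
    rw [LinearMap.comp_apply, h0, map_zero] at this
    exact this.symm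
  have hnbot : n = ⊥ := by
    have hidem : n * n = n := (n.cotangent_subsingleton_iff.1 hsub)
    exact Submodule.eq_bot_of_le_smul_of_le_jacobson_bot n n (IsNoetherian.noetherian n)
      (by rw [smul_eq_mul, hidem]) (le_trans (IsLocalRing.le_maximalIdeal (RingHom.ker_ne_top _))
        (IsLocalRing.maximalIdeal_le_jacobson _))
  exact hne (MulEquiv.isField (Field.toIsField (IsLocalRing.ResidueField T))
    (RingEquiv.ofBijective (algebraMap F (IsLocalRing.ResidueField T))
      ⟨(RingHom.injective_iff_ker_eq_bot _).2 hnbot, hπ⟩).toMulEquiv)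

open AlgebraicGeometry CategoryTheory Limits in
/-- Let f : X ⟶ S be a morphism and x a point such that f is smooth on an open neighbourhood of x, the
residue field extension κ(x)/κ(f x) is separable (formally smooth), and x is not the generic point
of any irreducible component of the fibre over f x, i.e. (the fibre being smooth over a field near
x) the maximal ideal of the local ring of the fibre at x is nonzero. Then there are an affine open U
∋ x and a nonzerodivisor h' of Γ(X, U) vanishing at x such that the closed subscheme V(h') of U, an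
effective Cartier divisor through x, is smooth over S. -/
theorem result {X S : Scheme.{u}} (f : X ⟶ S) (x : X)
    (W : X.Opens) (hxW : x ∈ W) (hW : Smooth (W.ι ≫ f))
    (hsep : letI := (f.residueFieldMap x).hom.toAlgebra
      Algebra.FormallySmooth (S.residueField (f x)) (X.residueField x))
    (hgen : IsLocalRing.maximalIdeal ↑((f.fiber (f x)).presheaf.stalk (f.asFiber x)) ≠ ⊥) :
    ∃ (U : X.Opens) (hU : IsAffineOpen U) (hx : x ∈ U) (h' : Γ(X, U)), h' ∈ nonZeroDivisors Γ(X, U) ∧
      X.presheaf.germ U x hx h' ∈ IsLocalRing.maximalIdeal ↑(X.presheaf.stalk x) ∧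
      Smooth (Spec.map (CommRingCat.ofHom (Ideal.Quotient.mk (Ideal.span {h'}))) ≫ hU.fromSpec ≫ f) := by
  letI := (f.stalkMap x).hom.toAlgebra
  haveI := hW
  haveI : IsLocalHom (algebraMap ↑(S.presheaf.stalk (f x)) ↑(X.presheaf.stalk x)) :=
    inferInstanceAs (IsLocalHom (f.stalkMap x).hom)
  haveI : Algebra.FormallySmooth ↑(S.presheaf.stalk (f x)) ↑(X.presheaf.stalk x) := by
    show (f.stalkMap x).hom.FormallySmooth
    have := ((W.ι ≫ f).smoothLocus_eq_top.symm ▸ Set.mem_univ _ : (⟨x, hxW⟩ : W.toScheme) ∈ (W.ι ≫ f).smoothLocus)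
    rw [Scheme.Hom.mem_smoothLocus, Scheme.Hom.stalkMap_comp] at this
    exact (RingHom.FormallySmooth.respectsIso.cancel_right_isIso _ (W.ι.stalkMap ⟨x, hxW⟩)).1 this
  haveI : Algebra.EssFiniteType ↑(S.presheaf.stalk (f x)) ↑(X.presheaf.stalk x) := by
    show (f.stalkMap x).hom.EssFiniteType
    have := LocallyOfFiniteType.stalkMap (W.ι ≫ f) ⟨x, hxW⟩
    rw [Scheme.Hom.stalkMap_comp] at this
    exact (RingHom.EssFiniteType.respectsIso.cancel_right_isIso _ (W.ι.stalkMap ⟨x, hxW⟩)).1 this
  obtain ⟨m, hm, hd⟩ := exists_d_ne_zero hsep (fun hF => hgen (by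
    have hw : f.fiberι (f x) (f.asFiber x) = x := f.fiberι_asFiber x
    let w := f.asFiber x
    have key2 : ∀ (a : X) (_ : f.fiberι (f x) w = a),
        IsField (↑(X.presheaf.stalk a) ⧸ (IsLocalRing.maximalIdeal ↑(S.presheaf.stalk (f a))).map (f.stalkMap a).hom) →
        IsLocalRing.maximalIdeal ↑((f.fiber (f x)).presheaf.stalk w) = ⊥ := by
      rintro _ rfl hfld
      rw [← IsLocalRing.isField_iff_maximalIdeal_eq]
      exact MulEquiv.isField hfld ((Ideal.quotEquivOfEq (FlatDvr.ker_stalkMap_fiberι f w).symm).trans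
        (RingHom.quotientKerEquivOfSurjective ((f.fiberι (f x)).stalkMap_surjective w))).symm.toMulEquiv
    exact key2 x hw hF))
  obtain ⟨U, hU, hx, h', he, hnzd, hsm⟩ := FlatFun4.SmoothDivSch.exists_smooth_divisor f x W hxW hW m hd
  exact ⟨U, hU, hx, h', hnzd, he ▸ hm, hsm⟩

end Groth.Agent.S9724
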