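import Groth.Statements.S9727
import Groth.Agent.FlatFun4.EtLiftFibre
import Groth.Agent.ConsPropLib.PointwiseProps

set_option linter.style.haveILetI false
set_option backward.isDefEq.respectTransparency false
set_option backward.isDefEq.respectTransparency.types false
open CategoryTheory.Limits
open scoped TensorProduct
-- import your own Groth.Agent.* helpers here

set_option autoImplicit false
universe u
open FlatMor

namespace Groth.Agent.S9727
open CategoryTheory AlgebraicGeometry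

theorem isPullback_mono_lift {T W X : Scheme.{u}} (q : T ⟶ W) (j : W ⟶ X) [Mono j] (q₀ : T ⟶ X) (h : q ≫ j = q₀) :
    IsPullback (𝟙 T) q q₀ j := by
  refine ⟨⟨by rw [Category.id_comp, h]⟩, ⟨PullbackCone.IsLimit.mk _ (fun c => c.fst) ?_ ?_ ?_⟩⟩
  · intro c; exact Category.comp_id _
  · intro c
    rw [← cancel_mono j, Category.assoc, h]
    exact c.condition
  · intro c m h1 _; simpa using h1

/-- The fibre ring square. -/
theorem isPullback_fibre_chart {X S : Scheme.{u}} (f : X ⟶ S) (s : S) {U₀ : S.Opens} (hU₀ : IsAffineOpen U₀)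
    (hs : s ∈ U₀) {W : X.Opens} (hW : IsAffineOpen W) (e : W ≤ f ⁻¹ᵁ U₀) :
    letI := (f.appLE U₀ W e).hom.toAlgebra
    letI := (S.evaluation U₀ s hs).hom.toAlgebra
    ∃ k : Spec (CommRingCat.of (S.residueField s ⊗[Γ(S, U₀)] Γ(X, W))) ⟶ f.fiber s,
      IsPullback k (Spec.map (CommRingCat.ofHom (Algebra.TensorProduct.includeRight :
          Γ(X, W) →ₐ[Γ(S, U₀)] S.residueField s ⊗[Γ(S, U₀)] Γ(X, W)).toRingHom)) (f.fiberι s) hW.fromSpec := by
  letI := (f.appLE U₀ W e).hom.toAlgebra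
  letI := (S.evaluation U₀ s hs).hom.toAlgebra
  let ev : Spec (S.residueField s) ⟶ Spec (CommRingCat.of Γ(S, U₀)) :=
    Spec.map (CommRingCat.ofHom (algebraMap Γ(S, U₀) (S.residueField s)))
  let φ : Spec (CommRingCat.of Γ(X, W)) ⟶ Spec (CommRingCat.of Γ(S, U₀)) :=
    Spec.map (CommRingCat.ofHom (algebraMap Γ(S, U₀) Γ(X, W)))
  have h1 : IsPullback (Spec.map (CommRingCat.ofHom (algebraMap (S.residueField s) (S.residueField s ⊗[Γ(S, U₀)] Γ(X, W)))))
      (Spec.map (CommRingCat.ofHom (Algebra.TensorProduct.includeRight :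
          Γ(X, W) →ₐ[Γ(S, U₀)] S.residueField s ⊗[Γ(S, U₀)] Γ(X, W)).toRingHom)) ev φ := by
    refine (IsPullback.of_hasPullback ev φ).of_iso (pullbackSpecIso Γ(S, U₀) (S.residueField s) Γ(X, W))
      (Iso.refl _) (Iso.refl _) (Iso.refl _) ?_ ?_ (by simp) (by simp)
    · rw [Iso.refl_hom, Category.comp_id]
      exact (pullbackSpecIso_hom_fst' Γ(S, U₀) (S.residueField s) Γ(X, W)).symm
    · rw [Iso.refl_hom, Category.comp_id]
      exact (pullbackSpecIso_hom_snd Γ(S, U₀) (S.residueField s) Γ(X, W)).symm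
  have h2 : IsPullback (Spec.map (CommRingCat.ofHom (algebraMap (S.residueField s) (S.residueField s ⊗[Γ(S, U₀)] Γ(X, W)))))
      (Spec.map (CommRingCat.ofHom (Algebra.TensorProduct.includeRight :
          Γ(X, W) →ₐ[Γ(S, U₀)] S.residueField s ⊗[Γ(S, U₀)] Γ(X, W)).toRingHom)) (S.fromSpecResidueField s) (hW.fromSpec ≫ f) := by
    have h0 : IsPullback (𝟙 _) ev (S.fromSpecResidueField s) hU₀.fromSpec := by
      refine isPullback_mono_lift ev hU₀.fromSpec _ ?_
      show Spec.map (S.evaluation U₀ s hs) ≫ hU₀.fromSpec = _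
      rw [Scheme.evaluation, Spec.map_comp, Category.assoc, Scheme.fromSpecResidueField]
      congr 1
      exact hU₀.fromSpecStalk_eq_fromSpecStalk hs
    have := h1.paste_horiz h0
    erw [Category.comp_id] at this
    have e' : φ ≫ hU₀.fromSpec = hW.fromSpec ≫ f := hU₀.SpecMap_appLE_fromSpec f hW e
    rw [e'] at this
    exact this
  let k := pullback.lift (f := f) (g := S.fromSpecResidueField s)
    (Spec.map (CommRingCat.ofHom (Algebra.TensorProduct.includeRight :
          Γ(X, W) →ₐ[Γ(S, U₀)] S.residueField s ⊗[Γ(S, U₀)] Γ(X, W)).toRingHom) ≫ hW.fromSpec)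
    (Spec.map (CommRingCat.ofHom (algebraMap (S.residueField s) (S.residueField s ⊗[Γ(S, U₀)] Γ(X, W)))))
    (by rw [Category.assoc]; exact h2.w.symm)
  refine ⟨k, IsPullback.of_right ?_ (pullback.lift_fst _ _ _) (IsPullback.of_hasPullback f (S.fromSpecResidueField s)).flip⟩
  rw [show k ≫ pullback.snd f (S.fromSpecResidueField s) = _ from pullback.lift_snd _ _ _]
  exact h2

theorem exists_residue_denom {S : Scheme.{u}} (s : S) {U₀ : S.Opens} (hU₀ : IsAffineOpen U₀) (hs : s ∈ U₀) :
    letI := (S.evaluation U₀ s hs).hom.toAlgebra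
    ∀ c : S.residueField s, ∃ a : Γ(S, U₀), algebraMap Γ(S, U₀) (S.residueField s) a ≠ 0 ∧
      a • c ∈ Set.range (algebraMap Γ(S, U₀) (S.residueField s)) := by
  letI := (S.evaluation U₀ s hs).hom.toAlgebra
  intro c
  letI := S.presheaf.algebra_section_stalk ⟨s, hs⟩
  haveI := hU₀.isLocalization_stalk ⟨s, hs⟩
  obtain ⟨r, rfl⟩ := S.residue_surjective s c
  obtain ⟨b, ⟨a, ha⟩, hr⟩ := IsLocalization.exists_mk'_eq (hU₀.primeIdealOf ⟨s, hs⟩).asIdeal.primeCompl r
  refine ⟨a, ?_, b, ?_⟩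
  · show (S.residue s) (algebraMap Γ(S, U₀) (S.presheaf.stalk s) a) ≠ 0
    exact fun h0 => (IsLocalRing.residue_eq_zero_iff _).1 h0 (IsLocalization.map_units _ ⟨a, ha⟩)
  · rw [Algebra.smul_def, ← hr]
    show (S.residue s) (algebraMap Γ(S, U₀) (S.presheaf.stalk s) b) =
      (S.residue s) (algebraMap Γ(S, U₀) (S.presheaf.stalk s) a) * _
    rw [← map_mul]
    exact congrArg _ (IsLocalization.mk'_spec' _ b ⟨a, ha⟩).symm

theorem lift_aux {X S V : Scheme.{u}} (f : X ⟶ S) (s : S) (g : V ⟶ f.fiber s) [Etale g] (v : V) :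
    ∃ (U : Scheme.{u}) (p : U ⟶ X) (m : (p ≫ f).fiber s ⟶ V) (u' : ↑((p ≫ f).fiber s)),
      Etale p ∧ IsOpenImmersion m ∧ m ≫ g = MoreMor.fiberMap p f s ∧ m u' = v := by
  have hfs : f (f.fiberι s (g v)) = s := by
    have : f.fiberι s (g v) ∈ f ⁻¹' {s} := f.range_fiberι s ▸ ⟨_, rfl⟩
    exact this
  obtain ⟨_, ⟨U₀, hU₀, rfl⟩, hs, -⟩ :=
    S.isBasis_affineOpens.exists_subset_of_mem_open (Set.mem_univ s) isOpen_univ
  obtain ⟨_, ⟨W, hW, rfl⟩, hxW, e⟩ := X.isBasis_affineOpens.exists_subset_of_mem_open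
    (show f.fiberι s (g v) ∈ ((f ⁻¹ᵁ U₀ : X.Opens) : Set X) from by
      show f (f.fiberι s (g v)) ∈ U₀
      rw [hfs]; exact hs) (f ⁻¹ᵁ U₀).2
  obtain ⟨k, hk⟩ := isPullback_fibre_chart f s hU₀ hs hW e
  letI := (f.appLE U₀ W e).hom.toAlgebra
  letI := (S.evaluation U₀ s hs).hom.toAlgebra
  let T : Type u := S.residueField s ⊗[Γ(S, U₀)] Γ(X, W)
  haveI : IsOpenImmersion k := MorphismProperty.of_isPullback (P := @IsOpenImmersion) hk.flip inferInstance
  obtain ⟨t, ht⟩ : ∃ t, k t = g v := by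
    obtain ⟨w, hw⟩ : f.fiberι s (g v) ∈ Set.range hW.fromSpec := by rw [hW.range_fromSpec]; exact hxW
    obtain ⟨t, ht, -⟩ := Scheme.Pullback.exists_preimage_pullback (f := f.fiberι s) (g := hW.fromSpec) (g v) w hw.symm
    refine ⟨hk.isoPullback.inv t, ?_⟩
    rw [← Scheme.Hom.comp_apply, hk.isoPullback_inv_fst]
    exact ht
  obtain ⟨v', hv', -⟩ := Scheme.Pullback.exists_preimage_pullback (f := g) (g := k) v t ht.symm
  obtain ⟨C0, w, hw, hv0, -⟩ := Scheme.exists_affine_mem_range_and_range_subset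
    (x := v') (U := (⊤ : (pullback g k).Opens)) (by simp)
  obtain ⟨c, hc⟩ := hv0
  obtain ⟨φ, hφ⟩ := Spec.map_surjective (w ≫ pullback.snd g k)
  letI := φ.hom.toAlgebra
  haveI : Algebra.Etale T C0 := by
    have h : Etale (Spec.map φ) := by
      haveI : Etale (pullback.snd g k) := MorphismProperty.pullback_snd (P := @Etale) _ _ ‹_›
      rw [hφ]; infer_instance
    exact RingHom.etale_algebraMap.1 ((HasRingHomProperty.Spec_iff (P := @Etale)).mp h)
  obtain ⟨h, hhc, hC⟩ := Algebra.IsEtaleAt.exists_isStandardEtale (R := T) c.asIdeal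
  obtain ⟨b, l, hl, P, ⟨eC⟩⟩ := FlatFun4.EtLiftFibre.exists_fibre_lift (B := Γ(X, W)) (C := Localization.Away h)
    (exists_residue_denom s hU₀ hs)
  letI := l.toAlgebra
  let B' : Type u := Localization.Away b
  let j : Spec (CommRingCat.of B') ⟶ X := Spec.map (CommRingCat.ofHom (algebraMap Γ(X, W) B')) ≫ hW.fromSpec
  haveI : IsOpenImmersion (Spec.map (CommRingCat.ofHom (algebraMap Γ(X, W) B'))) :=
    IsOpenImmersion.of_isLocalization b
  let q : Spec (CommRingCat.of T) ⟶ Spec (CommRingCat.of B') := Spec.map (CommRingCat.ofHom l)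
  have hk' : IsPullback k q (f.fiberι s) j := by
    have := (isPullback_mono_lift q (Spec.map (CommRingCat.ofHom (algebraMap Γ(X, W) B')))
      (Spec.map (CommRingCat.ofHom (Algebra.TensorProduct.includeRight :
          Γ(X, W) →ₐ[Γ(S, U₀)] T).toRingHom)) (by
        rw [← Spec.map_comp, ← hl]; rfl)).paste_horiz hk
    rw [Category.id_comp] at this
    exact this
  let b' : Spec (CommRingCat.of P.Ring) ⟶ Spec (CommRingCat.of B') :=
    Spec.map (CommRingCat.ofHom (algebraMap B' P.Ring))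
  haveI hb : Etale b' := by
    rw [HasRingHomProperty.Spec_iff (P := @Etale)]
    exact RingHom.etale_algebraMap.2 inferInstance
  let π : Spec (CommRingCat.of (Localization.Away h)) ⟶ Spec (CommRingCat.of T) :=
    Spec.map (CommRingCat.ofHom (algebraMap T (Localization.Away h)))
  let m₁ : Spec (CommRingCat.of (Localization.Away h)) ⟶ Spec (CommRingCat.of P.Ring) :=
    Spec.map (CommRingCat.ofHom ((eC.toRingEquiv.toRingHom).comp
      (Algebra.TensorProduct.includeRight (R := B') (A := T) (B := P.Ring)).toRingHom))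
  let ε : Spec (CommRingCat.of (Localization.Away h)) ≅ Spec (CommRingCat.of (T ⊗[B'] P.Ring)) :=
    Scheme.Spec.mapIso (eC.toRingEquiv.toCommRingCatIso).op
  have sq2 : IsPullback π m₁ q b' := by
    refine (IsPullback.of_hasPullback q b').of_iso ((pullbackSpecIso B' T P.Ring) ≪≫ ε.symm)
      (Iso.refl _) (Iso.refl _) (Iso.refl _) ?_ ?_ (by simp) (by simp)
    · have e1 : ε.hom ≫ Spec.map (CommRingCat.ofHom (algebraMap T (T ⊗[B'] P.Ring))) = π := by
        change Spec.map _ ≫ Spec.map _ = _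
        rw [← Spec.map_comp]
        exact congrArg Spec.map (CommRingCat.hom_ext (RingHom.ext fun r => eC.commutes r))
      rw [← e1, Iso.refl_hom, Category.comp_id, Iso.trans_hom, Iso.symm_hom, Category.assoc, Iso.inv_hom_id_assoc]
      exact (pullbackSpecIso_hom_fst' _ _ _).symm
    · have e2 : ε.hom ≫ Spec.map (CommRingCat.ofHom
          (Algebra.TensorProduct.includeRight (R := B') (A := T) (B := P.Ring)).toRingHom) = m₁ := by
        change Spec.map _ ≫ Spec.map _ = _
        rw [← Spec.map_comp]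
        rfl
      rw [← e2, Iso.refl_hom, Category.comp_id, Iso.trans_hom, Iso.symm_hom, Category.assoc, Iso.inv_hom_id_assoc]
      exact (pullbackSpecIso_hom_snd _ _ _).symm
  have sq3 : IsPullback m₁ (π ≫ k) (b' ≫ j) (f.fiberι s) := sq2.flip.paste_vert hk'.flip
  have hpb := ConsPropLib.isPullback_fiberMap (b' ≫ j) f s
  let o : Spec (CommRingCat.of (Localization.Away h)) ⟶ V :=
    Spec.map (CommRingCat.ofHom (algebraMap C0 (Localization.Away h))) ≫ w ≫ pullback.fst g k
  haveI ho : IsOpenImmersion o := by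
    haveI : IsOpenImmersion (Spec.map (CommRingCat.ofHom (algebraMap C0 (Localization.Away h)))) :=
      IsOpenImmersion.of_isLocalization h
    haveI : IsOpenImmersion (pullback.fst g k) :=
      MorphismProperty.pullback_fst (P := @IsOpenImmersion) _ _ inferInstance
    infer_instance
  have hog : o ≫ g = π ≫ k := by
    simp only [o, Category.assoc, pullback.condition]
    rw [← Category.assoc w, ← hφ, ← Category.assoc, ← Spec.map_comp]
    refine congrArg (· ≫ k) (congrArg Spec.map (CommRingCat.hom_ext (RingHom.ext fun r => ?_)))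
    exact (IsScalarTower.algebraMap_apply T C0 (Localization.Away h) r).symm
  obtain ⟨d, hd⟩ := (PrimeSpectrum.localization_away_comap_range (Localization.Away h) h).ge
    (show c ∈ ↑(PrimeSpectrum.basicOpen h) from hhc)
  haveI : Etale (b' ≫ j) := inferInstance
  let θ := hpb.isoIsPullback _ _ sq3
  refine ⟨_, b' ≫ j, θ.hom ≫ o, θ.inv d, inferInstance, inferInstance, ?_, ?_⟩
  · exact (Category.assoc _ _ _).trans ((congrArg (θ.hom ≫ ·) hog).trans (IsPullback.isoIsPullback_hom_snd _ _ hpb sq3))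
  · rw [← Scheme.Hom.comp_apply, Iso.inv_hom_id_assoc]
    show o d = v
    simp only [o, Scheme.Hom.comp_apply]
    show pullback.fst g k (w (PrimeSpectrum.comap (algebraMap C0 (Localization.Away h)) d)) = v
    rw [hd, hc, hv']

open AlgebraicGeometry CategoryTheory Limits in
/-- Let f : X ⟶ S be a morphism, x a point of X with image s, and (V, v) ⟶ (X_s, x) an étale
neighbourhood of x in its fibre. Then there is an étale neighbourhood (U, u) ⟶ (X, x) whose fibre
U_s over s admits a morphism of étale neighbourhoods (U_s, u) ⟶ (V, v) over X_s which is an open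
immersion. -/
theorem result {X S V : Scheme.{u}} (f : X ⟶ S) (x : X)
    (g : V ⟶ f.fiber (f x)) [Etale g] (v : V) (hv : g v = f.asFiber x) :
    ∃ (U : Scheme.{u}) (p : U ⟶ X) (u : U) (m : (p ≫ f).fiber (f x) ⟶ V) (u' : ↑((p ≫ f).fiber (f x))),
      Etale p ∧ p u = x ∧ IsOpenImmersion m ∧ m ≫ g = MoreMor.fiberMap p f (f x) ∧
      (p ≫ f).fiberι (f x) u' = u ∧ m u' = v := by
  obtain ⟨U, p, m, u', hp, hm, hmg, hu⟩ := lift_aux f (f x) g v
  refine ⟨U, p, (p ≫ f).fiberι (f x) u', m, u', hp, ?_, hm, hmg, rfl, hu⟩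
  rw [← Scheme.Hom.comp_apply, ← ConsPropLib.fiberMap_comp_ι, ← hmg]
  simp only [Scheme.Hom.comp_apply]
  rw [hu, hv]
  exact f.fiberι_asFiber x

end Groth.Agent.S9727
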