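import Groth.Statements.S9736
import Groth.Agent.S9148

set_option linter.style.haveILetI false
set_option backward.isDefEq.respectTransparency false
set_option backward.isDefEq.respectTransparency.types false
open scoped TensorProduct
-- import your own Groth.Agent.* helpers here

set_option autoImplicit false
universe u
open FlatMor

namespace Groth.Agent.S9736
open CategoryTheory AlgebraicGeometry

noncomputable def relGCIBaseChange {R₀ R : Type u} [CommRing R₀] [CommRing R] [Algebra R₀ R] {n c : ℕ}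
    (F₀ : Fin c → MvPolynomial (Fin n) R₀) (F : Fin c → MvPolynomial (Fin n) R)
    (h : ∀ i, MvPolynomial.map (algebraMap R₀ R) (F₀ i) = F i) :
    R ⊗[R₀] Synt.RelGCIRing R₀ n c F₀ ≃ₐ[R] Synt.RelGCIRing R n c F :=
  (Algebra.TensorProduct.tensorQuotientEquiv (R := R₀) R (MvPolynomial (Fin n) R₀) R
      (Ideal.span (Set.range F₀))).trans
    (Ideal.quotientEquivAlg _ _ (MvPolynomial.algebraTensorAlgEquiv R₀ R) (by
      rw [Ideal.map_span, Ideal.map_span, ← Set.range_comp, ← Set.range_comp]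
      congr 2
      funext i
      show F i = MvPolynomial.algebraTensorAlgEquiv R₀ R ((1 : R) ⊗ₜ F₀ i)
      rw [MvPolynomial.algebraTensorAlgEquiv_tmul, one_smul, h]))

open AlgebraicGeometry CategoryTheory Limits in
theorem isPullback_of_equiv {R₀ R Q₀ Q : Type u} [CommRing R₀] [CommRing R] [CommRing Q₀] [CommRing Q]
    [Algebra R₀ R] [Algebra R₀ Q₀] [Algebra R Q] (e : R ⊗[R₀] Q₀ ≃ₐ[R] Q) :
    IsPullback (Spec.map (CommRingCat.ofHom (e.toRingEquiv.toRingHom.comp Algebra.TensorProduct.includeRight.toRingHom)))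
      (Spec.map (CommRingCat.ofHom (algebraMap R Q))) (Spec.map (CommRingCat.ofHom (algebraMap R₀ Q₀)))
      (Spec.map (CommRingCat.ofHom (algebraMap R₀ R))) := by
  let ε : Spec (CommRingCat.of Q) ≅ Spec (CommRingCat.of (R ⊗[R₀] Q₀)) :=
    Scheme.Spec.mapIso e.toRingEquiv.toCommRingCatIso.op
  refine (IsPullback.of_hasPullback _ _).of_iso
    (Limits.pullbackSymmetry _ _ ≪≫ pullbackSpecIso R₀ R Q₀ ≪≫ ε.symm) (Iso.refl _) (Iso.refl _) (Iso.refl _)
    ?_ ?_ (by simp) (by simp)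
  · rw [Iso.refl_hom, Category.comp_id, Iso.trans_hom, Category.assoc, ← Limits.pullbackSymmetry_hom_comp_snd]
    congr 1
    rw [Iso.trans_hom, Category.assoc, ← pullbackSpecIso_hom_snd]
    congr 1
    rw [Iso.symm_hom, Iso.eq_inv_comp]
    show Spec.map _ ≫ Spec.map _ = _
    rw [← Spec.map_comp]
    rfl
  · rw [Iso.refl_hom, Category.comp_id, Iso.trans_hom, Category.assoc, ← Limits.pullbackSymmetry_hom_comp_fst]
    congr 1
    rw [Iso.trans_hom, Category.assoc, ← pullbackSpecIso_hom_fst']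
    congr 1
    rw [Iso.symm_hom, Iso.eq_inv_comp]
    show Spec.map _ ≫ Spec.map _ = _
    rw [← Spec.map_comp]
    exact congrArg Spec.map (CommRingCat.hom_ext (RingHom.ext fun r => e.commutes r))

theorem isStandard_of_relGCI {R₀ : Type u} [CommRing R₀] {n c : ℕ} {F₀ : Fin c → MvPolynomial (Fin n) R₀}
    (hF₀ : Synt.IsRelGCI R₀ n c F₀) :
    LocallyOfFiniteType (Spec.map (CommRingCat.ofHom (algebraMap R₀ (Synt.RelGCIRing R₀ n c F₀)))) ∧
      Synt.IsStandardSyntomic (Spec.map (CommRingCat.ofHom (algebraMap R₀ (Synt.RelGCIRing R₀ n c F₀)))) := by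
  refine ⟨?_, R₀, inferInstance, n, c, F₀, hF₀, Iso.refl _, Iso.refl _, ?_⟩
  · rw [HasRingHomProperty.Spec_iff (P := @LocallyOfFiniteType)]
    exact RingHom.finiteType_algebraMap.2 inferInstance
  · rw [Iso.refl_hom, Iso.refl_hom, Category.id_comp, Category.comp_id]

theorem finiteType_gamma {R₀ : Type u} [CommRing R₀] [Algebra ℤ R₀] (hft : Algebra.FiniteType ℤ R₀) :
    Algebra.FiniteType ℤ Γ(Spec (CommRingCat.of R₀), ⊤) := by
  let θ : Γ(Spec (CommRingCat.of R₀), ⊤) ≃+* R₀ := (Scheme.ΓSpecIso (CommRingCat.of R₀)).commRingCatIsoToRingEquiv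
  exact hft.equiv (AlgEquiv.ofRingEquiv (f := θ.symm) (fun z => by simp))

set_option maxHeartbeats 1000000 in
theorem main {X S : Scheme.{u}} (f : X ⟶ S) [IsAffine X] [IsAffine S] {R₀ R : Type u} [CommRing R₀] [CommRing R]
    [Algebra ℤ R₀] [Algebra R₀ R] {n c : ℕ} {F : Fin c → MvPolynomial (Fin n) R} (e₁ : X ≅ Spec (CommRingCat.of (Synt.RelGCIRing R n c F)))
    (e₂ : S ≅ Spec (CommRingCat.of R)) (F₀ : Fin c → MvPolynomial (Fin n) R₀)
    (hmap : ∀ i, MvPolynomial.map (algebraMap R₀ R) (F₀ i) = F i) (hft : Algebra.FiniteType ℤ R₀)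
    (hF₀ : Synt.IsRelGCI R₀ n c F₀)
    (he : e₁.hom ≫ Spec.map (CommRingCat.ofHom (algebraMap R (Synt.RelGCIRing R n c F))) = f ≫ e₂.hom) :
    ∃ (X₀ S₀ : Scheme.{u}) (f₀ : X₀ ⟶ S₀) (g : S ⟶ S₀) (g' : X ⟶ X₀), IsAffine X₀ ∧ IsAffine S₀ ∧ IsPullback g' f f₀ g ∧
      Algebra.FiniteType ℤ Γ(S₀, ⊤) ∧ LocallyOfFiniteType f₀ ∧ Synt.IsStandardSyntomic f₀ := by
  have hp := isPullback_of_equiv (relGCIBaseChange F₀ F hmap)
  obtain ⟨hl, hs⟩ := isStandard_of_relGCI hF₀
  refine ⟨_, _, _, e₂.hom ≫ Spec.map (CommRingCat.ofHom (algebraMap R₀ R)), e₁.hom ≫ Spec.map (CommRingCat.ofHom ((relGCIBaseChange F₀ F hmap).toRingEquiv.toRingHom.comp Algebra.TensorProduct.includeRight.toRingHom)), inferInstance,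
    inferInstance, hp.of_iso e₁.symm (Iso.refl _) e₂.symm (Iso.refl _)
      (by rw [Iso.symm_hom, Iso.inv_hom_id_assoc, Iso.refl_hom, Category.comp_id]) ?_ (by simp) (by simp),
    finiteType_gamma hft, hl, hs⟩
  rw [Iso.symm_hom, Iso.symm_hom, ← cancel_mono e₂.hom, Category.assoc, Iso.inv_hom_id, Category.comp_id,
    Category.assoc, ← he, Iso.inv_hom_id_assoc]

/-- Let f : X ⟶ S be a standard syntomic morphism of affine schemes. Then f is the base change of a
morphism of finite type f₀ : X₀ ⟶ S₀ between affine schemes with S₀ of finite type over ℤ and f₀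
standard syntomic. -/
theorem result {X S : Scheme.{u}} (f : X ⟶ S) [IsAffine X] [IsAffine S] (hf : Synt.IsStandardSyntomic f) :
    ∃ (X₀ S₀ : Scheme.{u}) (f₀ : X₀ ⟶ S₀) (g : S ⟶ S₀) (g' : X ⟶ X₀), IsAffine X₀ ∧ IsAffine S₀ ∧ IsPullback g' f f₀ g ∧
      Algebra.FiniteType ℤ Γ(S₀, ⊤) ∧ LocallyOfFiniteType f₀ ∧ Synt.IsStandardSyntomic f₀ := by
  obtain ⟨R, hR, n, c, F, hF, e₁, e₂, he⟩ := hf
  letI := hR
  obtain ⟨R₀, F₀, hft, hmap, hF₀⟩ := S9148.result R n c F hF
  exact main f e₁ e₂ F₀ hmap hft hF₀ he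

end Groth.Agent.S9736
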