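import Groth.Statements.S9760
import Groth.Agent.FlatFun4.ApproxScheme
-- import your own Groth.Agent.* helpers here

set_option autoImplicit false
set_option linter.style.haveILetI false
set_option backward.isDefEq.respectTransparency false
set_option backward.isDefEq.respectTransparency.types false
universe u
open FlatMor

namespace Groth.Agent.S9760

open AlgebraicGeometry CategoryTheory Limits in
/-- Given affine schemes X and S, a finitely presented morphism f : X ⟶ S, and a finitely presented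
quasi-coherent O_X-module F, the morphism f is a pullback, along some g' : X ⟶ X₀, of a finite type
morphism f₀ : X₀ ⟶ S₀ of affine schemes with Γ(S₀) of finite type over ℤ, and there is a coherent
O_{X₀}-module F₀ whose pullback along g' is isomorphic to F. -/
theorem result {X S : Scheme.{u}} (f : X ⟶ S) [IsAffine X] [IsAffine S] [LocallyOfFinitePresentation f]
    (F : X.Modules) [Coh.IsQCoh F] (hF : CohB1.IsFP F) :
    ∃ (X₀ S₀ : Scheme.{u}) (f₀ : X₀ ⟶ S₀) (g : S ⟶ S₀) (g' : X ⟶ X₀), IsAffine X₀ ∧ IsAffine S₀ ∧ IsPullback g' f f₀ g ∧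
      Algebra.FiniteType ℤ Γ(S₀, ⊤) ∧ LocallyOfFiniteType f₀ ∧
      ∃ F₀ : X₀.Modules, Coh.IsCoh F₀ ∧ Nonempty ((Scheme.Modules.pullback g').obj F₀ ≅ F) := by
  letI := f.appTop.hom.toAlgebra
  haveI : Algebra.FinitePresentation Γ(S, ⊤) Γ(X, ⊤) :=
    (HasRingHomProperty.iff_of_isAffine (P := @LocallyOfFinitePresentation)).mp ‹_›
  haveI := FlatFun4.ApproxScheme.fp_secMod hF
  obtain ⟨m⟩ := FlatFun4.ApproxMod.nonempty_model (A := Γ(S, ⊤)) (B := Γ(X, ⊤)) (FlatFun4.ApproxScheme.secMod F)
  haveI : IsNoetherianRing m.B₀ := by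
    haveI : IsNoetherianRing m.C := Algebra.FiniteType.isNoetherianRing ℤ m.C
    exact Algebra.FiniteType.isNoetherianRing m.C m.B₀
  obtain ⟨i⟩ := m.iso
  refine ⟨Spec (CommRingCat.of m.B₀), Spec (CommRingCat.of m.C), _, _, _, inferInstance, inferInstance,
    FlatFun4.ApproxScheme.isPullback_model f m.e, FlatFun4.ApproxScheme.finiteType_Γ_Spec m.C, ?_,
    tilde (R := CommRingCat.of m.B₀) (ModuleCat.of m.B₀ m.M₀), FlatFun4.ApproxScheme.isCoh_tilde m.M₀,
    FlatFun4.ApproxScheme.nonempty_pullback_model_iso hF _ i⟩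
  rw [HasRingHomProperty.Spec_iff (P := @LocallyOfFiniteType)]
  exact RingHom.finiteType_algebraMap.mpr inferInstance

end Groth.Agent.S9760
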