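import Groth.Statements.S9761
import Groth.Agent.FlatFun4.ApproxScheme
-- import your own Groth.Agent.* helpers here

set_option autoImplicit false
set_option linter.style.haveILetI false
set_option backward.isDefEq.respectTransparency false
set_option backward.isDefEq.respectTransparency.types false
universe u
open FlatMor

namespace Groth.Agent.S9761

open AlgebraicGeometry CategoryTheory Limits in
/-- For a finitely presented morphism f : X ⟶ S of affine schemes and a quasi-coherent, finitely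
presented O_X-module F that is flat over S, f is the base change along some g' : X ⟶ X₀ of a finite
type morphism f₀ : X₀ ⟶ S₀ of affine schemes with S₀ of finite type over ℤ, and some coherent
O_{X₀}-module F₀, flat over S₀, satisfies g'^*F₀ ≅ F. -/
theorem result {X S : Scheme.{u}} (f : X ⟶ S) [IsAffine X] [IsAffine S] [LocallyOfFinitePresentation f]
    (F : X.Modules) [Coh.IsQCoh F] (hF : CohB1.IsFP F) (hfl : FlatMod.IsFlatOver f F) :
    ∃ (X₀ S₀ : Scheme.{u}) (f₀ : X₀ ⟶ S₀) (g : S ⟶ S₀) (g' : X ⟶ X₀), IsAffine X₀ ∧ IsAffine S₀ ∧ IsPullback g' f f₀ g ∧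
      Algebra.FiniteType ℤ Γ(S₀, ⊤) ∧ LocallyOfFiniteType f₀ ∧
      ∃ F₀ : X₀.Modules, Coh.IsCoh F₀ ∧ FlatMod.IsFlatOver f₀ F₀ ∧ Nonempty ((Scheme.Modules.pullback g').obj F₀ ≅ F) := by
  letI := f.appTop.hom.toAlgebra
  haveI : Algebra.FinitePresentation Γ(S, ⊤) Γ(X, ⊤) :=
    (HasRingHomProperty.iff_of_isAffine (P := @LocallyOfFinitePresentation)).mp ‹_›
  haveI := FlatFun4.ApproxScheme.fp_secMod hF
  letI : Module Γ(S, ⊤) (FlatFun4.ApproxScheme.secMod F) := Module.compHom _ f.appTop.hom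
  haveI : IsScalarTower Γ(S, ⊤) Γ(X, ⊤) (FlatFun4.ApproxScheme.secMod F) := .of_algebraMap_smul fun _ _ => rfl
  haveI : Module.Flat Γ(S, ⊤) (FlatFun4.ApproxScheme.secMod F) := FlatFun4.ApproxScheme.flat_secMod f hF hfl
  obtain ⟨m, hm1, hm2, hmf⟩ := FlatFun4.ApproxMod.nonempty_flat_model (A := Γ(S, ⊤)) (B := Γ(X, ⊤))
    (M := FlatFun4.ApproxScheme.secMod F)
  haveI : IsNoetherianRing m.B₀ := by
    haveI : IsNoetherianRing m.C := Algebra.FiniteType.isNoetherianRing ℤ m.C
    exact Algebra.FiniteType.isNoetherianRing m.C m.B₀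
  obtain ⟨i⟩ := m.iso
  refine ⟨Spec (CommRingCat.of m.B₀), Spec (CommRingCat.of m.C), _, _, _, inferInstance, inferInstance,
    FlatFun4.ApproxScheme.isPullback_model f m.e, FlatFun4.ApproxScheme.finiteType_Γ_Spec m.C, ?_,
    tilde (R := CommRingCat.of m.B₀) (ModuleCat.of m.B₀ m.M₀), FlatFun4.ApproxScheme.isCoh_tilde m.M₀,
    (S2394.result m.C m.B₀ m.M₀).2 hmf, FlatFun4.ApproxScheme.nonempty_pullback_model_iso hF _ i⟩
  rw [HasRingHomProperty.Spec_iff (P := @LocallyOfFiniteType)]
  exact RingHom.finiteType_algebraMap.mpr inferInstance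

end Groth.Agent.S9761
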