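import Groth.Statements.S9779
import Mathlib

set_option linter.style.haveILetI false
set_option backward.isDefEq.respectTransparency false
set_option backward.isDefEq.respectTransparency.types false
-- import your own Groth.Agent.* helpers here

set_option autoImplicit false
universe u
open FlatMor

namespace Groth.Agent.S9779
open IsLocalRing TopologicalSpace AlgebraicGeometry CategoryTheory

/-- A Noetherian local ring has, in each nonempty basic open of its punctured spectrum, a point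
whose closure is one-dimensional. -/
theorem exists_prime_dim_one {R : Type u} [CommRing R] [IsNoetherianRing R] [IsLocalRing R] (g : R)
    (hg : g ∈ maximalIdeal R) (p₀ : PrimeSpectrum R) (hp₀ : g ∉ p₀.asIdeal) :
    ∃ p : PrimeSpectrum R, g ∉ p.asIdeal ∧
      ∀ P : PrimeSpectrum R, p.asIdeal ≤ P.asIdeal → P = p ∨ P.asIdeal = maximalIdeal R := by
  obtain ⟨q, ⟨hq, hgq⟩, hmax⟩ : ∃ q : Ideal R, (q.IsPrime ∧ g ∉ q) ∧
      ∀ q' : Ideal R, q'.IsPrime ∧ g ∉ q' → ¬ q < q' :=
    set_has_maximal_iff_noetherian.2 (inferInstance : _root_.IsNoetherian R R)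
      {q : Ideal R | q.IsPrime ∧ g ∉ q} ⟨p₀.asIdeal, p₀.2, hp₀⟩
  haveI := hq
  refine ⟨⟨q, hq⟩, hgq, fun P hP => ?_⟩
  by_cases hPq : P.asIdeal = q
  · exact Or.inl (PrimeSpectrum.ext hPq)
  right
  have hgP : g ∈ P.asIdeal := by
    by_contra h
    exact hPq (eq_of_le_of_not_lt hP (fun hlt => hmax _ ⟨P.2, h⟩ hlt)).symm
  let K : Ideal R := q ⊔ Ideal.span {g}
  have hKP : K ≤ P.asIdeal := sup_le hP (Ideal.span_le.2 (Set.singleton_subset_iff.2 hgP))
  suffices hm : maximalIdeal R ∈ K.minimalPrimes from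
    le_antisymm (le_maximalIdeal P.2.ne_top) (hm.2 ⟨P.2, hKP⟩ (le_maximalIdeal P.2.ne_top))
  by_contra hm
  have hKm : K ≤ maximalIdeal R := hKP.trans (le_maximalIdeal P.2.ne_top)
  have hfin : K.minimalPrimes.Finite := K.finite_minimalPrimes_of_isNoetherianRing
  obtain ⟨a, ham, ha⟩ : ∃ a ∈ maximalIdeal R, ∀ Q ∈ K.minimalPrimes, a ∉ Q := by
    by_contra! hall
    have hsub : (maximalIdeal R : Set R) ⊆ ⋃ Q ∈ hfin.toFinset, (Q : Set R) := fun a ha => by
      obtain ⟨Q, hQ, haQ⟩ := hall a ha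
      exact Set.mem_biUnion (hfin.mem_toFinset.2 hQ) haQ
    obtain ⟨Q, hQ, hle⟩ := (Ideal.subset_union_prime (f := fun Q : Ideal R => Q) ⊥ ⊥
      (fun Q hQ _ _ => (hfin.mem_toFinset.1 hQ).1.1)).1 hsub
    have hQ' := hfin.mem_toFinset.1 hQ
    exact hm ((le_antisymm hle (le_maximalIdeal hQ'.1.1.ne_top)).symm ▸ hQ')
  obtain ⟨P₁, hP₁, -⟩ := Ideal.exists_minimalPrimes_le
    (I := q ⊔ Ideal.span {a}) (J := maximalIdeal R)
    (sup_le (le_sup_left.trans hKm) (Ideal.span_le.2 (Set.singleton_subset_iff.2 ham)))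
  haveI := hP₁.1.1
  have hqP₁ : q ≤ P₁ := le_sup_left.trans hP₁.1.2
  have haP₁ : a ∈ P₁ := hP₁.1.2 (Submodule.mem_sup_right (Ideal.mem_span_singleton_self a))
  have haq : a ∉ q := fun h => by
    obtain ⟨Q, hQ, -⟩ := Ideal.exists_minimalPrimes_le hKm
    exact ha Q hQ (le_sup_left.trans hQ.1.2 h)
  have hlt : q < P₁ := lt_of_le_of_ne hqP₁ fun h => haq (h ▸ haP₁)
  have hgP₁ : g ∈ P₁ := by
    by_contra h
    exact hmax _ ⟨hP₁.1.1, h⟩ hlt
  obtain ⟨P₀, hP₀, hP₀₁⟩ := Ideal.exists_minimalPrimes_le (I := K) (J := P₁)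
    (sup_le hqP₁ (Ideal.span_le.2 (Set.singleton_subset_iff.2 hgP₁)))
  haveI := hP₀.1.1
  have hlt₀ : q < P₀ := lt_of_le_of_ne (le_sup_left.trans hP₀.1.2)
    fun h => hgq (h ▸ hP₀.1.2 (Submodule.mem_sup_right (Ideal.mem_span_singleton_self g)))
  have hlt₁ : P₀ < P₁ := lt_of_le_of_ne hP₀₁ fun h => ha P₀ hP₀ (h.symm ▸ haP₁)
  -- Krull's principal ideal theorem in `R ⧸ q`
  have hh := Ideal.map_height_le_one_of_mem_minimalPrimes hP₁
  let π := Ideal.Quotient.mk q
  have hker : ∀ P' : Ideal R, q ≤ P' → (P'.map π).comap π = P' := fun P' h => by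
    rw [Ideal.comap_map_of_surjective' _ Ideal.Quotient.mk_surjective, Ideal.mk_ker, sup_eq_left.2 h]
  haveI : (q.map π).IsPrime := Ideal.map_isPrime_of_surjective Ideal.Quotient.mk_surjective (by rw [Ideal.mk_ker])
  haveI : (P₀.map π).IsPrime := Ideal.map_isPrime_of_surjective Ideal.Quotient.mk_surjective
    (by rw [Ideal.mk_ker]; exact hlt₀.le)
  haveI : (P₁.map π).IsPrime := Ideal.map_isPrime_of_surjective Ideal.Quotient.mk_surjective
    (by rw [Ideal.mk_ker]; exact hqP₁)
  have s1 : q.map π < P₀.map π := lt_of_le_of_ne (Ideal.map_mono hlt₀.le) fun h => hlt₀.ne (by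
    rw [← hker q le_rfl, h, hker P₀ hlt₀.le])
  have s2 : P₀.map π < P₁.map π := lt_of_le_of_ne (Ideal.map_mono hlt₁.le) fun h => hlt₁.ne (by
    rw [← hker P₀ hlt₀.le, h, hker P₁ hqP₁])
  have e1 := Ideal.height_strict_mono_of_isPrime s1
  have e2 := Ideal.height_strict_mono_of_isPrime s2
  have e3 : (1 : ℕ∞) ≤ (P₀.map π).height := Order.one_le_iff_pos.2 (lt_of_le_of_lt zero_le e1)
  exact absurd hh (not_le.2 (lt_of_le_of_lt e3 e2))

/-- An isolated-in-generalisations closed point of a locally Noetherian scheme is open. -/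
theorem isOpen_singleton_of_forall_specializes {F : Scheme.{u}} [IsLocallyNoetherian F] (x₀ : F)
    (hc : IsClosed ({x₀} : Set F)) (hmin : ∀ y, y ⤳ x₀ → y = x₀) : IsOpen ({x₀} : Set F) := by
  obtain ⟨N, hN, hxN⟩ : ∃ N : F.Opens, IsAffineOpen N ∧ x₀ ∈ N := by
    obtain ⟨_, ⟨N, hN, rfl⟩, hxN, -⟩ :=
      F.isBasis_affineOpens.exists_subset_of_mem_open (Set.mem_univ x₀) isOpen_univ
    exact ⟨N, hN, hxN⟩
  haveI : IsNoetherianRing Γ(F, N) := IsLocallyNoetherian.component_noetherian ⟨N, hN⟩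
  haveI : IsAffine N.toScheme := hN
  haveI : IsNoetherian N.toScheme := ⟨⟩
  haveI : NoetherianSpace N.toScheme := inferInstance
  have hfin : (irreducibleComponents N.toScheme).Finite := NoetherianSpace.finite_irreducibleComponents
  let x : N.toScheme := ⟨x₀, hxN⟩
  have hgen : ∀ C ∈ irreducibleComponents N.toScheme, x ∈ C → C = {x} := by
    intro C hC hx
    obtain ⟨η, hη⟩ := QuasiSober.sober hC.1 (isClosed_of_mem_irreducibleComponents C hC)
    have h1 : η ⤳ x := hη.specializes hx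
    have h2 : N.ι η ⤳ x₀ := h1.map N.ι.continuous
    have h3 : η = x := N.ι.isOpenEmbedding.injective (hmin _ h2)
    rw [← hη.def, h3, IsClosed.closure_eq]
    have : IsClosed (N.ι ⁻¹' {x₀}) := hc.preimage N.ι.continuous
    convert this using 1
    ext y
    exact ⟨fun h => by rw [Set.mem_singleton_iff.1 h]; rfl, fun h => N.ι.isOpenEmbedding.injective h⟩
  have hopen : IsOpen ({x} : Set N.toScheme) := by
    have e : ({x} : Set N.toScheme) = (⋃₀ (irreducibleComponents N.toScheme \ {{x}}))ᶜ := by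
      ext y
      constructor
      · rintro rfl ⟨C, ⟨hC, hne⟩, hxC⟩
        exact hne (hgen C hC hxC)
      · intro hy
        by_contra hne
        refine hy ⟨irreducibleComponent y, ⟨irreducibleComponent_mem_irreducibleComponents y, fun h => hne ?_⟩,
          mem_irreducibleComponent⟩
        exact (Set.mem_singleton_iff.1 h).le mem_irreducibleComponent
    rw [e, Set.sUnion_eq_biUnion]
    exact ((hfin.subset Set.sdiff_subset).isClosed_biUnion fun C hC =>
      isClosed_of_mem_irreducibleComponents C hC.1).isOpen_compl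
  have := N.ι.isOpenEmbedding.isOpenMap _ hopen
  rwa [Set.image_singleton] at this

open AlgebraicGeometry CategoryTheory Limits in
/-- Suppose S is locally Noetherian and the morphism f : X ⟶ S is locally of finite type; take x a point
of X closed in its fibre, and U ⊆ X an open subscheme not meeting the fibre through x but with x in
the closure of U. Then there is a closed subscheme Z of X passing through x such that Z ⟶ S is
quasi-finite at x and Z contains a point z of U specializing to x with f z ≠ f x. -/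
theorem result {X S : Scheme.{u}} (f : X ⟶ S) [LocallyOfFiniteType f] [IsLocallyNoetherian S] (x : X)
    (hcl : IsClosed (Subtype.val ⁻¹' {x} : Set ↑(f ⁻¹' {f x}))) (U : X.Opens)
    (hU : ∀ x' ∈ U, f x' ≠ f x) (hxU : x ∈ closure (U : Set ↑X)) :
    ∃ (I : X.IdealSheafData) (z₀ x₀ : ↑I.subscheme), I.subschemeι x₀ = x ∧ (I.subschemeι ≫ f).QuasiFiniteAt x₀ ∧
      I.subschemeι z₀ ∈ U ∧ I.subschemeι z₀ ⤳ x ∧ f (I.subschemeι z₀) ≠ f x := by
  haveI : IsLocallyNoetherian X := LocallyOfFiniteType.isLocallyNoetherian f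
  haveI : IsNoetherianRing (X.presheaf.stalk x) := inferInstance
  have hxU' : x ∉ U := fun h => hU x h rfl
  -- a point of `U` specialising to `x`
  obtain ⟨w, hwU, hwx⟩ : ∃ w ∈ U, w ⤳ x := by
    obtain ⟨A, hA, hxA⟩ : ∃ A : X.Opens, IsAffineOpen A ∧ x ∈ A := by
      obtain ⟨_, ⟨A, hA, rfl⟩, hxA, -⟩ :=
        X.isBasis_affineOpens.exists_subset_of_mem_open (Set.mem_univ x) isOpen_univ
      exact ⟨A, hA, hxA⟩
    haveI : IsNoetherianRing Γ(X, A) := IsLocallyNoetherian.component_noetherian ⟨A, hA⟩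
    haveI : IsAffine A.toScheme := hA
    haveI : IsNoetherian A.toScheme := ⟨⟩
    haveI : NoetherianSpace A.toScheme := inferInstance
    let a : A.toScheme := ⟨x, hxA⟩
    have ha : a ∈ closure (A.ι ⁻¹' (U : Set X)) := by
      rw [← A.ι.isOpenEmbedding.isOpenMap.preimage_closure_eq_closure_preimage A.ι.continuous]
      exact hxU
    let Us := (A.ι ⁻¹ᵁ U : A.toScheme.Opens)
    have hfin : (irreducibleComponents A.toScheme).Finite := NoetherianSpace.finite_irreducibleComponents
    by_contra! hall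
    -- no component through `a` meets `U`
    have hdisj : ∀ C ∈ irreducibleComponents A.toScheme, a ∈ C → C ∩ (Us : Set A.toScheme) = ∅ := by
      intro C hC haC
      by_contra hne
      obtain ⟨η, hη⟩ := QuasiSober.sober hC.1 (isClosed_of_mem_irreducibleComponents C hC)
      obtain ⟨y, hyC, hyU⟩ := Set.nonempty_iff_ne_empty.2 hne
      have hηU : η ∈ Us := (hη.specializes hyC).mem_open Us.2 hyU
      exact hall _ hηU ((hη.specializes haC).map A.ι.continuous)
    have hsub : (Us : Set A.toScheme) ⊆ ⋃₀ {C | C ∈ irreducibleComponents A.toScheme ∧ a ∉ C} := fun y hy =>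
      ⟨irreducibleComponent y, ⟨irreducibleComponent_mem_irreducibleComponents y, fun h =>
        Set.eq_empty_iff_forall_notMem.1 (hdisj _ (irreducibleComponent_mem_irreducibleComponents y) h) y
          ⟨mem_irreducibleComponent, hy⟩⟩, mem_irreducibleComponent⟩
    have hcl : IsClosed (⋃₀ {C | C ∈ irreducibleComponents A.toScheme ∧ a ∉ C}) := by
      rw [Set.sUnion_eq_biUnion]
      exact (hfin.subset fun C hC => hC.1).isClosed_biUnion fun C hC =>
        isClosed_of_mem_irreducibleComponents C hC.1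
    obtain ⟨C, ⟨-, haC⟩, haC'⟩ := closure_minimal hsub hcl ha
    exact haC haC'
  let j := X.fromSpecStalk x
  obtain ⟨p₀, hp₀⟩ : w ∈ Set.range j := by rw [Scheme.range_fromSpecStalk]; exact hwx
  obtain ⟨_, ⟨_, ⟨g, rfl⟩, rfl⟩, hgp₀, hgU⟩ := PrimeSpectrum.isBasis_basic_opens.exists_subset_of_mem_open
    (show p₀ ∈ ((j ⁻¹ᵁ U : (Spec (X.presheaf.stalk x)).Opens) : Set _) by
      show j p₀ ∈ U
      rw [hp₀]; exact hwU) (j ⁻¹ᵁ U).2
  have hgm : g ∈ maximalIdeal (X.presheaf.stalk x) := by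
    by_contra h
    have hcl : (closedPoint (X.presheaf.stalk x)) ∈ PrimeSpectrum.basicOpen g := h
    have := hgU hcl
    rw [SetLike.mem_coe, Scheme.Hom.mem_preimage, Scheme.fromSpecStalk_closedPoint] at this
    exact hxU' this
  obtain ⟨p, hgp, hp⟩ := exists_prime_dim_one g hgm p₀ hgp₀
  let z := j p
  have hzU : z ∈ U := hgU hgp
  have hzx : z ⤳ x := by
    have : z ∈ Set.range j := ⟨p, rfl⟩
    rwa [Scheme.range_fromSpecStalk] at this
  let I := Scheme.IdealSheafData.vanishingIdeal (Closeds.closure {z})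
  have hr : Set.range I.subschemeι = closure {z} := by
    rw [Scheme.IdealSheafData.range_subschemeι, Scheme.IdealSheafData.coe_support_vanishingIdeal]
    rfl
  obtain ⟨z₀, hz₀⟩ : z ∈ Set.range I.subschemeι := by rw [hr]; exact subset_closure rfl
  obtain ⟨x₀, hx₀⟩ : x ∈ Set.range I.subschemeι := by rw [hr]; exact hzx.mem_closure
  refine ⟨I, z₀, x₀, hx₀, ?_, hz₀ ▸ hzU, hz₀ ▸ hzx, hz₀ ▸ hU z hzU⟩
  rw [Scheme.Hom.quasiFiniteAt_iff_isOpen_singleton_asFiber]
  let h := I.subschemeι ≫ f
  haveI : LocallyOfFiniteType h := inferInstanceAs (LocallyOfFiniteType (I.subschemeι ≫ f))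
  haveI : LocallyOfFiniteType (h.fiberToSpecResidueField (h x₀)) :=
    MorphismProperty.pullback_snd (P := @LocallyOfFiniteType) _ _ inferInstance
  haveI : IsLocallyNoetherian (h.fiber (h x₀)) :=
    LocallyOfFiniteType.isLocallyNoetherian (h.fiberToSpecResidueField (h x₀))
  have hasf : h.fiberι (h x₀) (h.asFiber x₀) = x₀ := h.fiberι_asFiber x₀
  have hmem : ∀ y : h.fiber (h x₀), f (I.subschemeι (h.fiberι _ y)) = f x := by
    intro y
    have h1 : h.fiberι _ y ∈ h ⁻¹' {h x₀} := h.range_fiberι _ ▸ ⟨y, rfl⟩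
    have h2 : f (I.subschemeι (h.fiberι _ y)) = f (I.subschemeι x₀) := h1
    exact h2.trans (congrArg f hx₀)
  let ι' := h.fiberι (h x₀) ≫ I.subschemeι
  have hinj : Function.Injective ι' := I.subschemeι.isEmbedding.injective.comp (h.fiberι _).isEmbedding.injective
  refine isOpen_singleton_of_forall_specializes _ ?_ fun y hy => ?_
  · let φ : h.fiber (h x₀) → ↑(f ⁻¹' {f x}) := fun y => ⟨ι' y, hmem y⟩
    have hφ : Continuous φ := ι'.continuous.subtype_mk _
    convert hcl.preimage hφ using 1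
    ext y
    constructor
    · rintro rfl
      show I.subschemeι (h.fiberι _ (h.asFiber x₀)) = x
      rw [hasf]; exact hx₀
    · intro hy
      refine hinj ?_
      show I.subschemeι (h.fiberι _ y) = I.subschemeι (h.fiberι _ (h.asFiber x₀))
      rw [hasf, hx₀]; exact hy
  · apply hinj
    have h1 : ι' y ⤳ ι' (h.asFiber x₀) := hy.map ι'.continuous
    have h2 : ι' (h.asFiber x₀) = x := by
      show I.subschemeι (h.fiberι _ (h.asFiber x₀)) = x
      rw [hasf]; exact hx₀
    rw [h2] at h1 ⊢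
    obtain ⟨P, hP⟩ : ι' y ∈ Set.range j := by rw [Scheme.range_fromSpecStalk]; exact h1
    have hzy : j p ⤳ j P := by
      rw [hP, specializes_iff_mem_closure, ← hr]
      exact ⟨_, rfl⟩
    have hpP : p.asIdeal ≤ P.asIdeal :=
      (PrimeSpectrum.le_iff_specializes p P).2 (j.isEmbedding.isInducing.specializes_iff.1 hzy)
    rcases hp P hpP with rfl | hPm
    · refine absurd ?_ (hU z hzU)
      show f (j P) = f x
      rw [hP]; exact hmem y
    · have : P = closedPoint _ := PrimeSpectrum.ext hPm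
      rw [← hP, this]
      exact Scheme.fromSpecStalk_closedPoint

end Groth.Agent.S9779
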