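import Groth.Statements.S9812
import Mathlib
-- import your own Groth.Agent.* helpers here

set_option autoImplicit false
universe u
open CAlg2

namespace Groth.Agent.S9812

/-- At the level of the local ring: an integrally closed local domain is geometrically unibranch.
Consequently a normal scheme is geometrically unibranch. -/
theorem result (A : Type u) [CommRing A] [IsLocalRing A]
    [IsDomain A] [IsIntegrallyClosed A] : CAlg2.IsGeomUnibranch A := by
  have hn : nilradical A = ⊥ := nilradical_eq_zero A
  let q : A ≃+* CAlg2.red A := (RingEquiv.quotientBot A).symm.trans (Ideal.quotEquivOfEq hn.symm)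
  haveI : IsDomain (CAlg2.red A) := q.symm.toMulEquiv.isDomain
  haveI : IsIntegrallyClosed (CAlg2.red A) := IsIntegrallyClosed.of_equiv q
  have hs : Function.Surjective ((algebraMap (CAlg2.red A) (CAlg2.normRed A)).comp
      (Ideal.Quotient.mk (nilradical A))) := by
    rw [RingHom.coe_comp]
    refine Function.Surjective.comp (fun y => ?_) Ideal.Quotient.mk_surjective
    obtain ⟨r, hr⟩ := IsIntegrallyClosed.isIntegral_iff.1 y.2
    exact ⟨r, Subtype.ext hr⟩
  refine ⟨⟨inferInstance, IsLocalRing.of_surjective' _ hs⟩, fun m' _ x => ⟨0, ?_⟩⟩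
  rw [pow_zero, pow_one]
  exact (Ideal.Quotient.mk_surjective.comp hs) x

end Groth.Agent.S9812
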