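import Groth.Statements.S9894
import Groth.Agent.AlgSpOne.DescentRep
-- import your own Groth.Agent.* helpers here

set_option autoImplicit false
universe u
open CategoryTheory CategoryTheory.Limits AlgebraicGeometry
open AlgSp

namespace Groth.Agent.S9894

set_option backward.isDefEq.respectTransparency false
set_option backward.isDefEq.respectTransparency.types false

/-- Let `P` be a property of morphisms of schemes which is stable under base change, fppf local on the
base, and such that morphisms of type `P` satisfy descent: for every surjective, flat, locally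
finitely presented `p : X' ⟶ S'` every descent datum relative to `p` whose scheme has structure
morphism in `P` is effective (descent is asked along single fppf covers, the case the argument
uses). Let `F` be an algebraic space over `S`, `G` an fppf sheaf of sets with a map `f : G ⟶ F`, and
`q : h_U ⟶ F` representable etale and surjective such that the base change of `f` along `q` is
represented by a scheme `V` over `S` with `g : V ⟶ U` having `P`. Then `G` is an algebraic space
over `S` and `f` is representable by schemes with property `P`. -/
theorem result (S : Scheme.{u}) (P : MorphismProperty Scheme.{u})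
    [P.IsStableUnderBaseChange] [P.IsLocalAtTarget Scheme.fppfPrecoverage]
    (hdesc : ∀ ⦃X' S' : Scheme.{u}⦄ (p : X' ⟶ S'), Surjective p → Flat p → LocallyOfFinitePresentation p →
      ∀ D : Desc.SchDD p, P D.obj.hom → (Desc.toDD p).essImage D)
    (F : AlgSp.Space S) (G : AlgSp.Sp S) (f : G ⟶ F.obj) {U V : Over S} (q : (AlgSp.yon S).obj U ⟶ F.obj)
    (hqe : AlgSp.RepWith @Etale q) (hqs : AlgSp.RepWith @Surjective q) (fst : (AlgSp.yon S).obj V ⟶ G)
    (g : V ⟶ U) (sq : IsPullback fst ((AlgSp.yon S).map g) f q) (hP : P g.left) :
    AlgSp.IsAlgSpace G ∧ AlgSp.RepWith P f := by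
  haveI := Groth.Agent.AlgSpLib.isLocallySurjective_of_etale_surjective hqe hqs
  have hrep : Representable f := by
    intro T t
    obtain ⟨u, hu⟩ := (AlgSp.yon S).map_surjective (hqe.rep.fst t)
    let p := hqe.rep.snd t
    have hp : Groth.Agent.AlgSpLib.fppf p.left :=
      @Groth.Agent.AlgSpLib.fppf_of_etale _ _ p.left (hqe.property_snd t) (hqs.2 t _ p (hqe.rep.isPullback t))
    have sq₁ := IsPullback.of_hasPullback g u
    have hw : (AlgSp.yon S).map u ≫ q = (AlgSp.yon S).map p ≫ t := by rw [hu]; exact hqe.rep.w t
    have sq' := (sq₁.map (AlgSp.yon S)).paste_horiz sq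
    rw [hw] at sq'
    have hP' : P (pullback.snd g u).left := P.of_isPullback (sq₁.map (Over.forget S)) hP
    obtain ⟨⟨hs, hf⟩, hl⟩ := hp
    obtain ⟨Y, k, v, h⟩ := Groth.Agent.AlgSpOne.exists_rep_of_effective ⟨⟨hs, hf⟩, hl⟩ sq'
      (hdesc p.left hs hf hl _ hP')
    exact ⟨Y, k, v, h⟩
  exact ⟨Groth.Agent.AlgSpDec.isAlgSpace_of_representable F.property f hrep,
    Groth.Agent.AlgSpPts.repWith_of_locallySurjective hrep q sq P ((repWith_yon_map_iff P g).2 hP)⟩

end Groth.Agent.S9894
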