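import Groth.Statements.S9996
import Groth.Agent.SpUnion5.Main
import Groth.Agent.AlgSpDec.SchImage
-- import your own Groth.Agent.* helpers here

set_option autoImplicit false
universe u
open CategoryTheory CategoryTheory.Limits AlgebraicGeometry Opposite
open AlgSp

namespace Groth.Agent.S9996

set_option backward.isDefEq.respectTransparency false
set_option backward.isDefEq.respectTransparency.types false

/-- For closed subspaces Y, Z of an algebraic space X with scheme theoretic union W (cut out by the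
intersection of the two ideal sheaves) and scheme theoretic intersection V (cut out by their sum),
the inclusions Y ⟶ W and Z ⟶ W are closed immersions and the square V ⟶ Y, V ⟶ Z, Y ⟶ W, Z ⟶ W is
cocartesian among algebraic spaces over S (W = Y ⨿_V Z). (The published statement also gives the
short exact sequence 0 → O_W → O_Y × O_Z → O_V → 0; that clause is not stated here.) -/
theorem result {S : Scheme.{u}} {X Y Z W V : AlgSp.Space S} (iY : Y ⟶ X) (iZ : Z ⟶ X)
    (w : W ⟶ X) (v : V ⟶ X) (I J K : AlgSp.IdealEt X.obj) (hI : I.IsQCoh) (hJ : J.IsQCoh)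
    (hK : ∀ (E : AlgSp.EtOver X.obj) (hE : IsAffine E.obj.left.left), K.ideal E hE = I.ideal E hE ⊓ J.ideal E hE)
    (hY : AlgSp.IsCutOutBy I iY.hom) (hZ : AlgSp.IsCutOutBy J iZ.hom) (hW : AlgSp.IsCutOutBy K w.hom)
    (hV : AlgSp.IsCutOutBy (I ⊔ J) v.hom) (a : Y ⟶ W) (b : Z ⟶ W) (c : V ⟶ Y) (d : V ⟶ Z)
    (ha : a ≫ w = iY) (hb : b ≫ w = iZ) (hc : c ≫ iY = v) (hd : d ≫ iZ = v) :
    AlgSp.RepWith @IsClosedImmersion a.hom ∧ AlgSp.RepWith @IsClosedImmersion b.hom ∧ IsPushout c d a b := by
  have ha' : a.hom ≫ w.hom = iY.hom := congrArg InducedCategory.Hom.hom ha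
  have hb' : b.hom ≫ w.hom = iZ.hom := congrArg InducedCategory.Hom.hom hb
  have hc' : c.hom ≫ iY.hom = v.hom := congrArg InducedCategory.Hom.hom hc
  have hd' : d.hom ≫ iZ.hom = v.hom := congrArg InducedCategory.Hom.hom hd
  refine ⟨SpUnion5.repWith_left hY hW ha', SpUnion5.repWith_left hZ hW hb', ?_⟩
  obtain ⟨hw, -⟩ := id hW
  have := Groth.Agent.AlgSpDec.mono_of_closedImmersion hw
  have hsq : CommSq c d a b := ⟨ObjectProperty.hom_ext _ ((cancel_mono w.hom).1 (by
    show (c.hom ≫ a.hom) ≫ w.hom = (d.hom ≫ b.hom) ≫ w.hom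
    rw [Category.assoc, Category.assoc, ha', hb', hc', hd']))⟩
  have huniv : ∀ (s : PushoutCocone c d), ∃! m : W.obj ⟶ s.pt.obj, a.hom ≫ m = s.inl.hom ∧ b.hom ≫ m = s.inr.hom :=
    fun s => SpUnion5.existsUnique_desc s.pt.property X.property Y.property hK hY hZ hW hV ha' hb' hc' hd'
      W.property Z.property s.inl.hom s.inr.hom (congrArg InducedCategory.Hom.hom s.condition)
  choose m hm hmu using huniv
  refine IsPushout.of_isColimit' hsq (PushoutCocone.IsColimit.mk _ (fun s => ObjectProperty.homMk (m s))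
    (fun s => ObjectProperty.hom_ext _ (hm s).1) (fun s => ObjectProperty.hom_ext _ (hm s).2)
    (fun s k h1 h2 => ObjectProperty.hom_ext _ (hmu s k.hom
      ⟨congrArg InducedCategory.Hom.hom h1, congrArg InducedCategory.Hom.hom h2⟩)))

end Groth.Agent.S9996
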